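import Mathlib
import Groth.Agent.Lib.Helper22.SmoothRed
import Groth.Prelude.Def_FDesc

/-!
# Helper library (helper16): reducedness of local rings and geometric reducedness along etale morphisms
-/

set_option autoImplicit false
universe u
open CategoryTheory CategoryTheory.Limits AlgebraicGeometry Opposite

namespace Groth.Agent.Lib.Helper16.GeomRed

/-- Reducedness of stalks descends along flat morphisms. -/
theorem isReduced_stalk_of_flat {X Y : Scheme.{u}} (f : X ⟶ Y) [Flat f] (x : X)
    (h : _root_.IsReduced (X.presheaf.stalk x)) : _root_.IsReduced (Y.presheaf.stalk (f x)) := by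
  have hflat : (f.stalkMap x).hom.Flat := Flat.stalkMap f x
  let _ : Algebra (Y.presheaf.stalk (f x)) (X.presheaf.stalk x) := (f.stalkMap x).hom.toAlgebra
  have : Module.Flat (Y.presheaf.stalk (f x)) (X.presheaf.stalk x) := hflat
  have : IsLocalHom (algebraMap (Y.presheaf.stalk (f x)) (X.presheaf.stalk x)) :=
    inferInstanceAs (IsLocalHom (f.stalkMap x).hom)
  have : Module.FaithfullyFlat (Y.presheaf.stalk (f x)) (X.presheaf.stalk x) :=
    Module.FaithfullyFlat.of_flat_of_isLocalHom
  have hinj : Function.Injective (algebraMap (Y.presheaf.stalk (f x)) (X.presheaf.stalk x)) :=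
    FaithfulSMul.algebraMap_injective _ _
  exact isReduced_of_injective _ hinj

/-- The canonical morphism from the spectrum of a local ring is flat. -/
instance flat_fromSpecStalk (X : Scheme.{u}) (x : X) : Flat (X.fromSpecStalk x) := by
  obtain ⟨_, ⟨U, hU', rfl⟩, hxU, -⟩ := X.isBasis_affineOpens.exists_subset_of_mem_open
    (Set.mem_univ x) isOpen_univ
  have hU : IsAffineOpen U := hU'
  rw [← hU.fromSpecStalk_eq_fromSpecStalk hxU]
  unfold IsAffineOpen.fromSpecStalk
  have h1 : Flat (Spec.map (X.presheaf.germ U x hxU)) := by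
    rw [HasRingHomProperty.Spec_iff (P := @Flat)]
    let _ : Algebra Γ(X, U) (X.presheaf.stalk x) := (X.presheaf.germ U x hxU).hom.toAlgebra
    have := hU.isLocalization_stalk ⟨x, hxU⟩
    exact IsLocalization.flat (X.presheaf.stalk x) (hU.primeIdealOf ⟨x, hxU⟩).asIdeal.primeCompl
  infer_instance

/-- Reducedness of stalks ascends along smooth morphisms. -/
theorem isReduced_stalk_of_smooth {X Y : Scheme.{u}} (f : X ⟶ Y) [Smooth f] (x : X)
    (h : _root_.IsReduced (Y.presheaf.stalk (f x))) : _root_.IsReduced (X.presheaf.stalk x) := by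
  let j := Y.fromSpecStalk (f x)
  have : IsReduced (pullback f j) :=
    Groth.Agent.Lib.Helper22.SmoothRed.isReduced_of_smooth (pullback.snd f j)
  obtain ⟨w, hw1, -⟩ := Scheme.Pullback.exists_preimage_pullback (f := f) (g := j) x
    (IsLocalRing.closedPoint _) (Scheme.fromSpecStalk_closedPoint).symm
  have h1 : _root_.IsReduced ((pullback f j).presheaf.stalk w) := inferInstance
  have h2 := isReduced_stalk_of_flat (pullback.fst f j) w h1
  rwa [hw1] at h2

/-- Reducedness of the local ring at a point is invariant under etale morphisms. -/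
theorem isReduced_stalk_iff_of_etale {X Y : Scheme.{u}} (f : X ⟶ Y) [Etale f] (x : X) :
    _root_.IsReduced (X.presheaf.stalk x) ↔ _root_.IsReduced (Y.presheaf.stalk (f x)) :=
  ⟨isReduced_stalk_of_flat f x, isReduced_stalk_of_smooth f x⟩

section GeomReduced

variable {k : Type u} [Field k] {U V : Scheme.{u}}

/-- The base change of a morphism of `k`-schemes to a field extension. -/
noncomputable def bcMap (f : U ⟶ Spec (CommRingCat.of k)) (g : V ⟶ U) (K : Type u) [Field K] [Algebra k K] :
    FBase.bc (g ≫ f) K ⟶ FBase.bc f K :=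
  pullback.lift (pullback.fst _ _ ≫ g) (pullback.snd _ _) (by
    rw [Category.assoc]
    exact pullback.condition)

theorem isPullback_bcMap (f : U ⟶ Spec (CommRingCat.of k)) (g : V ⟶ U) (K : Type u) [Field K] [Algebra k K] :
    IsPullback (bcMap f g K) (FBase.bcπ (g ≫ f) K) (FBase.bcπ f K) g := by
  refine IsPullback.of_right ?_ (pullback.lift_fst _ _ _)
    (IsPullback.of_hasPullback f (Spec.map (CommRingCat.ofHom (algebraMap k K)))).flip
  have : bcMap f g K ≫ pullback.snd f (Spec.map (CommRingCat.ofHom (algebraMap k K))) =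
      pullback.snd (g ≫ f) (Spec.map (CommRingCat.ofHom (algebraMap k K))) := pullback.lift_snd _ _ _
  rw [this]
  exact (IsPullback.of_hasPullback (g ≫ f) (Spec.map (CommRingCat.ofHom (algebraMap k K)))).flip

/-- **Geometric reducedness at a point is invariant under etale morphisms.** -/
theorem isGeomReducedAt_iff_of_etale (f : U ⟶ Spec (CommRingCat.of k)) (g : V ⟶ U) [Etale g] (v : V) :
    FBase.IsGeomReducedAt (g ≫ f) v ↔ FBase.IsGeomReducedAt f (g v) := by
  have het : ∀ (K : Type u) [Field K] [Algebra k K], Etale (bcMap f g K) := fun K _ _ =>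
    MorphismProperty.of_isPullback (P := @Etale) (isPullback_bcMap f g K).flip inferInstance
  constructor
  · intro h K _ _ u' hu'
    have sq := isPullback_bcMap f g K
    obtain ⟨z, hz1, hz2⟩ := Scheme.Pullback.exists_preimage_pullback (f := FBase.bcπ f K) (g := g) u' v hu'
    have h1 : bcMap f g K (sq.isoPullback.inv z) = u' := by
      rw [← Scheme.Hom.comp_apply, IsPullback.isoPullback_inv_fst, hz1]
    have h2 : FBase.bcπ (g ≫ f) K (sq.isoPullback.inv z) = v := by
      rw [← Scheme.Hom.comp_apply, IsPullback.isoPullback_inv_snd, hz2]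
    have := het K
    have h3 := isReduced_stalk_of_flat (bcMap f g K) _ (h K (sq.isoPullback.inv z) h2)
    rwa [h1] at h3
  · intro h K _ _ v' hv'
    have sq := isPullback_bcMap f g K
    have := het K
    refine isReduced_stalk_of_smooth (bcMap f g K) v' (h K _ ?_)
    rw [← Scheme.Hom.comp_apply, sq.w, Scheme.Hom.comp_apply, hv']

end GeomReduced

end Groth.Agent.Lib.Helper16.GeomRed
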