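import Mathlib.AlgebraicGeometry.Morphisms.QuasiFinite
import Mathlib.AlgebraicGeometry.Morphisms.Etale
import Mathlib.AlgebraicGeometry.Morphisms.UniversallyOpen
import Mathlib.RingTheory.Unramified.LocalStructure
import Mathlib.RingTheory.Ideal.MinimalPrime.Localization

/-!
# Helper library (helper16): topological facts on morphisms of schemes
-/

set_option autoImplicit false
universe u
open CategoryTheory CategoryTheory.Limits AlgebraicGeometry Opposite Topology

namespace Groth.Agent.Lib.Helper16

/-- An etale ring map is quasi-finite. -/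
theorem ringHom_quasiFinite_of_etale {R A : Type u} [CommRing R] [CommRing A] (φ : R →+* A)
    (h : φ.Etale) : φ.QuasiFinite := by
  algebraize [φ]
  have : Algebra.Etale R A := h
  have : Algebra.FiniteType R A := inferInstance
  have : Algebra.QuasiFinite R A := inferInstance
  exact this

/-- An etale morphism of schemes is locally quasi-finite. -/
theorem locallyQuasiFinite_of_etale {X Y : Scheme.{u}} (f : X ⟶ Y) [Etale f] : LocallyQuasiFinite f := by
  rw [HasRingHomProperty.iff_appLE (P := @LocallyQuasiFinite)]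
  intro U V e
  exact ringHom_quasiFinite_of_etale _ (HasRingHomProperty.appLE (P := @Etale) _ ‹_› U V e)

/-- No nontrivial specializations within a fibre of a locally quasi-finite morphism. -/
theorem eq_of_specializes_of_locallyQuasiFinite {X Y : Scheme.{u}} (f : X ⟶ Y) [LocallyQuasiFinite f]
    {x x' : X} (h : x' ⤳ x) (hf : f x' = f x) : x' = x := by
  have hd : _root_.IsDiscrete (f ⁻¹' {f x}) := f.isDiscrete_preimage_singleton (f x)
  have : DiscreteTopology (f ⁻¹' {f x}) := isDiscrete_iff_discreteTopology.1 hd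
  let a : f ⁻¹' {f x} := ⟨x, rfl⟩
  let a' : f ⁻¹' {f x} := ⟨x', hf⟩
  have h' : a' ⤳ a := (Topology.IsInducing.subtypeVal.specializes_iff).1 h
  exact congrArg Subtype.val h'.eq

/-- Ring level: a prime in the closure of the image of `Spec A → Spec R` is a specialization of a point of the image. -/
theorem exists_comap_specializes_of_mem_closure {R A : Type u} [CommRing R] [CommRing A] (φ : R →+* A)
    (p : PrimeSpectrum R) (hp : p ∈ closure (Set.range (PrimeSpectrum.comap φ))) :
    ∃ q : PrimeSpectrum A, PrimeSpectrum.comap φ q ⤳ p := by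
  rw [PrimeSpectrum.closure_range_comap, PrimeSpectrum.mem_zeroLocus] at hp
  obtain ⟨P, hP, hPp⟩ := Ideal.exists_minimalPrimes_le (J := p.asIdeal) hp
  have hP' : P ∈ ((⊥ : Ideal A).comap φ).minimalPrimes := by
    rwa [← RingHom.ker_eq_comap_bot]
  obtain ⟨q, hq, _, hqP⟩ := Ideal.exists_comap_eq_of_mem_minimalPrimes φ P hP'
  refine ⟨⟨q, hq⟩, ?_⟩
  rw [← PrimeSpectrum.le_iff_specializes]
  change q.comap φ ≤ p.asIdeal
  rw [hqP]
  exact hPp

/-- A point in the closure of the image of a quasi-compact morphism is a specialization of a point of the image. -/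
theorem exists_specializes_of_mem_closure_range {Z U : Scheme.{u}} (f : Z ⟶ U) [QuasiCompact f] (u : U)
    (hu : u ∈ closure (Set.range f)) : ∃ z : Z, f z ⤳ u := by
  obtain ⟨R, j, hj, ⟨u₀, hu₀⟩, -⟩ :=
    Scheme.exists_affine_mem_range_and_range_subset (x := u) (U := ⊤) trivial
  have hc : IsCompact ((f ⁻¹ᵁ j.opensRange : Z.Opens) : Set Z) :=
    QuasiCompact.isCompact_preimage _ j.opensRange.isOpen
      (by rw [Scheme.Hom.coe_opensRange]; exact isCompact_range j.continuous)
  obtain ⟨R', g, hg⟩ := isCompact_iff_exists.1 hc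
  have hsub : Set.range (g ≫ f) ⊆ Set.range j := by
    rintro _ ⟨y, rfl⟩
    have : g y ∈ (f ⁻¹ᵁ j.opensRange : Z.Opens) := by
      rw [← SetLike.mem_coe, ← hg]; exact ⟨y, rfl⟩
    simpa using this
  let h : Spec R' ⟶ Spec R := IsOpenImmersion.lift j (g ≫ f) hsub
  have hfac : h ≫ j = g ≫ f := IsOpenImmersion.lift_fac _ _ _
  obtain ⟨φ, hφ⟩ := Spec.map_surjective h
  -- `u₀` lies in the closure of the range of `h`
  have hmem : u₀ ∈ closure (Set.range h) := by
    rw [j.isOpenEmbedding.isInducing.closure_eq_preimage_closure_image, Set.mem_preimage, hu₀]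
    have h1 : j '' Set.range h = Set.range f ∩ Set.range j := by
      ext v
      constructor
      · rintro ⟨_, ⟨y, rfl⟩, rfl⟩
        have e : j (h y) = f (g y) := by
          rw [← Scheme.Hom.comp_apply, hfac, Scheme.Hom.comp_apply]
        exact ⟨⟨g y, e.symm⟩, ⟨h y, rfl⟩⟩
      · rintro ⟨⟨z, rfl⟩, hz⟩
        have : z ∈ (f ⁻¹ᵁ j.opensRange : Z.Opens) := by simpa using hz
        rw [← SetLike.mem_coe, ← hg] at this
        obtain ⟨y, rfl⟩ := this
        refine ⟨h y, ⟨y, rfl⟩, ?_⟩
        rw [← Scheme.Hom.comp_apply, hfac, Scheme.Hom.comp_apply]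
    rw [h1, Set.inter_comm]
    exact j.isOpenEmbedding.isOpen_range.inter_closure ⟨⟨u₀, hu₀⟩, hu⟩
  rw [← hφ] at hmem
  obtain ⟨q, hq⟩ := exists_comap_specializes_of_mem_closure φ.hom u₀ hmem
  refine ⟨g q, ?_⟩
  have e : f (g q) = j (h q) := by
    rw [← Scheme.Hom.comp_apply, ← hfac, Scheme.Hom.comp_apply]
  rw [e, ← hu₀]
  refine Specializes.map ?_ j.continuous
  rw [← hφ]
  exact hq

/-- For a locally quasi-finite morphism `c : W ⟶ U`, an affine open `W'` of `W` mapping into an affine open `U'` of
`U` meets every fibre of `c` in a finite set. -/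
theorem finite_inter_preimage_singleton {W U : Scheme.{u}} (c : W ⟶ U) [LocallyQuasiFinite c]
    (U' : U.Opens) (hU' : IsAffineOpen U') (W' : W.Opens) (hW' : IsAffineOpen W') (e : W' ≤ c ⁻¹ᵁ U')
    (y : U) : ((W' : Set W) ∩ c ⁻¹' {y}).Finite := by
  have : IsAffine W'.toScheme := hW'
  have : IsAffine U'.toScheme := hU'
  have : QuasiCompact (c.resLE U' W' e) := HasAffineProperty.iff_of_isAffine.mpr (by infer_instance)
  by_cases hy : y ∈ U'
  · have hfin := (c.resLE U' W' e).finite_preimage_singleton ⟨y, hy⟩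
    refine (hfin.image (fun w : W' => (w : W))).subset ?_
    rintro w ⟨hw, hwy⟩
    refine ⟨⟨w, hw⟩, ?_, rfl⟩
    change (c.resLE U' W' e) ⟨w, hw⟩ = ⟨y, hy⟩
    apply Subtype.ext
    rw [Scheme.Hom.coe_resLE_apply]
    exact hwy
  · convert Set.finite_empty
    rw [Set.eq_empty_iff_forall_notMem]
    rintro w ⟨hw, hwy⟩
    apply hy
    have := e hw
    simp only [Set.mem_preimage, Set.mem_singleton_iff] at hwy
    rw [← hwy]
    exact this

end Groth.Agent.Lib.Helper16
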