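import Groth.Agent.Lib.Helper16.Points
import Groth.Agent.Lib.Helper16.SchemeTop
import Groth.Prelude.Def_AlgSp4

/-!
# Helper library (helper16): charts `h_U ⟶ F` and points
-/

set_option autoImplicit false
universe u
open CategoryTheory CategoryTheory.Limits AlgebraicGeometry Opposite Topology

namespace Groth.Agent.Lib.Helper16

open AlgSp

variable {S : Scheme.{u}}

theorem map_yon_map_ofScheme {T T' : Over S} (φ : T ⟶ T') (t : ↥T.left) :
    Points.map ((yon S).map φ) (Points.ofScheme T t) = Points.ofScheme T' (φ.left t) :=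
  Points.map_yon_map_apply φ t

theorem ofScheme_injective (T : Over S) : Function.Injective (Points.ofScheme T) :=
  (Points.schemeEquiv T).injective

/-- Compatibility of `Points.ofPt` with morphisms of schemes. -/
theorem ofPt_yon_map_comp {T T' : Over S} {F : Sp S} (φ : T ⟶ T') (g : (yon S).obj T' ⟶ F) (t : ↥T.left) :
    Points.ofPt ((yon S).map φ ≫ g) t = Points.ofPt g (φ.left t) := by
  rw [Points.ofPt_eq_map_ofScheme, Points.map_comp, map_yon_map_ofScheme, ← Points.ofPt_eq_map_ofScheme]

/-- Points of a pullback square with a representable corner. -/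
theorem exists_point_of_isPullback_yon {F G : Sp S} {U V : Over S} {fst : (yon S).obj V ⟶ F} {snd : V ⟶ U}
    {f : F ⟶ G} {g : (yon S).obj U ⟶ G} (sq : IsPullback fst ((yon S).map snd) f g)
    (x : Points F) (u : ↥U.left) (h : Points.map f x = Points.ofPt g u) :
    ∃ v : ↥V.left, Points.ofPt fst v = x ∧ snd.left v = u := by
  obtain ⟨z, hz1, hz2⟩ := exists_point_of_isPullback sq x (Points.ofScheme U u)
    (by rw [h, Points.ofPt_eq_map_ofScheme])
  refine ⟨Points.toScheme V z, ?_, ?_⟩
  · rw [Points.ofPt_eq_map_ofScheme, Points.ofScheme_toScheme, hz1]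
  · apply ofScheme_injective U
    rw [← map_yon_map_ofScheme, Points.ofScheme_toScheme, hz2]

/-- Variant for two charts: points of `h_V = h_U ×_F h_{U'}`. -/
theorem exists_point_of_isPullback_yon_yon {G : Sp S} {U U' V : Over S} {c : V ⟶ U'} {snd : V ⟶ U}
    {f : (yon S).obj U' ⟶ G} {g : (yon S).obj U ⟶ G}
    (sq : IsPullback ((yon S).map c) ((yon S).map snd) f g)
    (u' : ↥U'.left) (u : ↥U.left) (h : Points.ofPt f u' = Points.ofPt g u) :
    ∃ v : ↥V.left, c.left v = u' ∧ snd.left v = u := by
  obtain ⟨v, hv1, hv2⟩ := exists_point_of_isPullback_yon sq (Points.ofScheme U' u') u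
    (by rw [← Points.ofPt_eq_map_ofScheme, h])
  refine ⟨v, ?_, hv2⟩
  apply ofScheme_injective U'
  rw [← hv1, Points.ofPt_eq_map_ofScheme, map_yon_map_ofScheme]

/-- The map on points induced by a representable etale chart is open. -/
theorem isOpenMap_ofPt_of_etale {F : Sp S} {U : Over S} (a : (yon S).obj U ⟶ F) (ha : RepWith @Etale a) :
    IsOpenMap (Points.ofPt a) := by
  intro W hW
  rw [Points.isOpen_iff]
  intro T g
  have sq := ha.rep.isPullback g
  have het : Etale (ha.rep.snd g).left := ha.property_snd g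
  obtain ⟨c, hc⟩ := (yon S).map_surjective (ha.rep.fst g)
  rw [← hc] at sq
  have key : Points.ofPt g ⁻¹' (Points.ofPt a '' W) = (ha.rep.snd g).left '' (c.left ⁻¹' W) := by
    ext t
    constructor
    · rintro ⟨w, hw, hwt⟩
      obtain ⟨v, hv1, hv2⟩ := exists_point_of_isPullback_yon_yon sq w t hwt
      exact ⟨v, by simpa [hv1] using hw, hv2⟩
    · rintro ⟨v, hv, rfl⟩
      refine ⟨c.left v, hv, ?_⟩
      rw [← ofPt_yon_map_comp, ← ofPt_yon_map_comp, sq.w]
  rw [key]
  exact (ha.rep.snd g).left.isOpenMap _ (hW.preimage c.left.continuous)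

/-- The map on points induced by a representable surjective chart is surjective. -/
theorem ofPt_surjective_of_surjective {F : Sp S} {U : Over S} (a : (yon S).obj U ⟶ F)
    (ha : RepWith @Surjective a) : Function.Surjective (Points.ofPt a) := by
  intro x
  induction x using Points.ind with
  | h q =>
  have sq := ha.rep.isPullback q.toHom
  have hs : Surjective (ha.rep.snd q.toHom).left := ha.property_snd q.toHom
  obtain ⟨c, hc⟩ := (yon S).map_surjective (ha.rep.fst q.toHom)
  rw [← hc] at sq
  obtain ⟨v, hv⟩ := hs.surj (IsLocalRing.closedPoint q.K)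
  refine ⟨c.left v, ?_⟩
  rw [← ofPt_yon_map_comp, sq.w, ofPt_yon_map_comp, Points.ofPt_toHom]

end Groth.Agent.Lib.Helper16
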