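import Groth.Agent.Lib.Helper16.GeomRed
import Groth.Agent.Lib.Helper16.Charts

/-!
# Helper library (helper16): geometric reducedness at a point of an algebraic space over a field is
independent of the etale chart
-/

set_option autoImplicit false
universe u
open CategoryTheory CategoryTheory.Limits AlgebraicGeometry Opposite

namespace Groth.Agent.Lib.Helper16.GeomRed

open AlgSp Groth.Agent.Lib.Helper16

variable {k : Type u} [Field k]

/-- Etale morphisms of schemes over `Spec k` preserve and reflect geometric reducedness at a point. -/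
theorem isGeomReducedAt_iff_of_over {U V : Over (Spec (CommRingCat.of k))} (g : V ⟶ U) [Etale g.left]
    (v : ↥V.left) : FBase.IsGeomReducedAt V.hom v ↔ FBase.IsGeomReducedAt U.hom (g.left v) := by
  have h := isGeomReducedAt_iff_of_etale U.hom g.left v
  rwa [Over.w g] at h

/-- **Independence of the chart.** -/
theorem isGeomReducedAt_iff_of_charts {X : Sp (Spec (CommRingCat.of k))}
    {U U' : Over (Spec (CommRingCat.of k))} (a : (yon _).obj U ⟶ X) (ha : RepWith @Etale a)
    (a' : (yon _).obj U' ⟶ X) (ha' : RepWith @Etale a') (u : ↥U.left) (u' : ↥U'.left)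
    (h : Points.ofPt a u = Points.ofPt a' u') :
    FBase.IsGeomReducedAt U.hom u ↔ FBase.IsGeomReducedAt U'.hom u' := by
  obtain ⟨W, r, s₀, sq⟩ := ha.rep a'
  obtain ⟨s, rfl⟩ := (yon _).map_surjective s₀
  have : Etale r.left := ha.property _ _ _ sq
  have : Etale s.left := ha'.property _ _ _ sq.flip
  obtain ⟨w, hw1, hw2⟩ := exists_point_of_isPullback_yon_yon sq u u' h
  rw [← hw1, ← hw2, ← isGeomReducedAt_iff_of_over s w, ← isGeomReducedAt_iff_of_over r w]

end Groth.Agent.Lib.Helper16.GeomRed

namespace Groth.Agent.Lib.Helper16.HasAtChart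

open AlgSp Groth.Agent.Lib.Helper16

variable {S : Scheme.{u}}

/-- **Independence of the chart** for a pointwise property of schemes invariant under etale morphisms. -/
theorem iff_of_charts (Q : ∀ U : Scheme.{u}, ↥U → Prop)
    (hQ : ∀ {U V : Scheme.{u}} (g : V ⟶ U) [Etale g] (v : ↥V), Q V v ↔ Q U (g v))
    {X : Sp S} {U U' : Over S} (a : (yon S).obj U ⟶ X) (ha : RepWith @Etale a)
    (a' : (yon S).obj U' ⟶ X) (ha' : RepWith @Etale a') (u : ↥U.left) (u' : ↥U'.left)
    (h : Points.ofPt a u = Points.ofPt a' u') : Q U.left u ↔ Q U'.left u' := by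
  obtain ⟨W, r, s₀, sq⟩ := ha.rep a'
  obtain ⟨s, rfl⟩ := (yon S).map_surjective s₀
  have : Etale r.left := ha.property _ _ _ sq
  have : Etale s.left := ha'.property _ _ _ sq.flip
  obtain ⟨w, hw1, hw2⟩ := exists_point_of_isPullback_yon_yon sq u u' h
  rw [← hw1, ← hw2, ← hQ s.left w, ← hQ r.left w]

/-- `HasAt Q` can be tested on any etale chart through the point. -/
theorem hasAt_iff_of_chart (Q : ∀ U : Scheme.{u}, ↥U → Prop)
    (hQ : ∀ {U V : Scheme.{u}} (g : V ⟶ U) [Etale g] (v : ↥V), Q V v ↔ Q U (g v))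
    {X : Sp S} {U : Over S} (a : (yon S).obj U ⟶ X) (ha : RepWith @Etale a) (u : ↥U.left) :
    HasAt Q X (Points.ofPt a u) ↔ Q U.left u := by
  constructor
  · rintro ⟨U', a', u', ha', hu', h⟩
    exact (iff_of_charts Q hQ a' ha' a ha u' u hu').1 h
  · intro h
    exact ⟨U, a, u, ha, rfl, h⟩

end Groth.Agent.Lib.Helper16.HasAtChart
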