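import Groth.Agent.Lib.Helper16.SchemeTop
import Groth.Agent.Lib.Helper16.GeomRedSp

/-!
# Helper library (helper16): the dimension of the local ring is invariant under etale morphisms
-/

set_option autoImplicit false
universe u
open CategoryTheory CategoryTheory.Limits AlgebraicGeometry Opposite

namespace Groth.Agent.Lib.Helper16.EtDim

open Groth.Agent.Lib.Helper16

/-- A flat locally quasi-finite morphism preserves the codimension of points. -/
theorem coheight_eq_of_flat_of_locallyQuasiFinite {X Y : Scheme.{u}} (f : X ⟶ Y) [Flat f]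
    [LocallyQuasiFinite f] (x : X) : Order.coheight x = Order.coheight (f x) := by
  have hgen : GeneralizingMap f := Flat.generalizingMap f
  refine Order.coheight_eq_of_strictMono (fun a : X => f a) ?_ ?_ x
  · intro a b hab
    have h1 : b ⤳ a := hab.1
    have h2 : ¬ a ⤳ b := hab.2
    refine ⟨h1.map f.continuous, fun h3 => ?_⟩
    have heq : f b = f a := ((h1.map f.continuous).antisymm h3).eq
    have := eq_of_specializes_of_locallyQuasiFinite f h1 heq
    exact h2 (this ▸ specializes_rfl)
  · intro a b hab
    have h1 : b ⤳ f a := hab.1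
    obtain ⟨a', ha', rfl⟩ := hgen h1
    refine ⟨a', ⟨ha', fun h3 => ?_⟩, rfl⟩
    exact hab.2 (h3.map f.continuous)

/-- Order-theoretic lemma: if strict upper bounds of `f a` lift, then `coheight (f a) ≤ coheight a`. -/
theorem coheight_apply_le_of_lift {α β : Type*} [Preorder α] [Preorder β] (f : α → β)
    (h : ∀ a : α, ∀ b : β, f a < b → ∃ (a' : α), a < a' ∧ f a' = b) (a : α) :
    Order.coheight (f a) ≤ Order.coheight a := by
  refine Order.coheight_le_iff'.mpr fun p hp ↦ ?_
  induction p using RelSeries.inductionOn generalizing a with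
  | singleton x => simp
  | cons p x hx ih =>
    simp only [RelSeries.head_cons] at hp
    obtain ⟨a', haa', ha'⟩ := h a p.head (by grind)
    grw [RelSeries.cons_length, Nat.cast_add, Nat.cast_one, ih a' ha'.symm]
    exact Order.coheight_add_one_le haa'

/-- A flat morphism does not increase the codimension of points. -/
theorem coheight_apply_le_of_flat {X Y : Scheme.{u}} (f : X ⟶ Y) [Flat f] (x : X) :
    Order.coheight (f x) ≤ Order.coheight x := by
  have hgen : GeneralizingMap f := Flat.generalizingMap f
  refine coheight_apply_le_of_lift (fun a : X => f a) ?_ x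
  intro a b hab
  have h1 : b ⤳ f a := hab.1
  obtain ⟨a', ha', rfl⟩ := hgen h1
  refine ⟨a', ⟨ha', fun h3 => ?_⟩, rfl⟩
  exact hab.2 (h3.map f.continuous)

theorem ringKrullDim_stalk_le_of_flat {X Y : Scheme.{u}} (f : X ⟶ Y) [Flat f] (x : X) :
    ringKrullDim (Y.presheaf.stalk (f x)) ≤ ringKrullDim (X.presheaf.stalk x) := by
  rw [ringKrullDim_stalk_eq_coheight, ringKrullDim_stalk_eq_coheight]
  exact_mod_cast coheight_apply_le_of_flat f x

/-- **The dimension of the local ring is invariant under etale morphisms.** -/
theorem ringKrullDim_stalk_eq_of_etale {X Y : Scheme.{u}} (f : X ⟶ Y) [Etale f] (x : X) :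
    ringKrullDim (X.presheaf.stalk x) = ringKrullDim (Y.presheaf.stalk (f x)) := by
  have : LocallyQuasiFinite f := locallyQuasiFinite_of_etale f
  rw [ringKrullDim_stalk_eq_coheight, ringKrullDim_stalk_eq_coheight,
    coheight_eq_of_flat_of_locallyQuasiFinite f x]

/-- A locally quasi-finite morphism is strictly monotone for the specialization order. -/
theorem strictMono_of_locallyQuasiFinite {X Y : Scheme.{u}} (f : X ⟶ Y) [LocallyQuasiFinite f] :
    StrictMono (fun a : X => f a) := by
  intro a b hab
  have h1 : b ⤳ a := hab.1
  have h2 : ¬ a ⤳ b := hab.2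
  refine ⟨h1.map f.continuous, fun h3 => ?_⟩
  have heq : f b = f a := ((h1.map f.continuous).antisymm h3).eq
  have := eq_of_specializes_of_locallyQuasiFinite f h1 heq
  exact h2 (this ▸ specializes_rfl)

theorem coheight_le_of_locallyQuasiFinite {X Y : Scheme.{u}} (f : X ⟶ Y) [LocallyQuasiFinite f] (x : X) :
    Order.coheight x ≤ Order.coheight (f x) :=
  Order.coheight_le_coheight_apply_of_strictMono _ (strictMono_of_locallyQuasiFinite f) x

theorem ringKrullDim_stalk_le_of_locallyQuasiFinite {X Y : Scheme.{u}} (f : X ⟶ Y) [LocallyQuasiFinite f]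
    (x : X) : ringKrullDim (X.presheaf.stalk x) ≤ ringKrullDim (Y.presheaf.stalk (f x)) := by
  rw [ringKrullDim_stalk_eq_coheight, ringKrullDim_stalk_eq_coheight]
  exact_mod_cast coheight_le_of_locallyQuasiFinite f x

attribute [local instance] specializationOrder in
/-- The Krull dimension of a scheme is the Krull dimension of its specialization order. -/
theorem topologicalKrullDim_eq_krullDim (X : Scheme.{u}) :
    topologicalKrullDim X = Order.krullDim X :=
  Order.krullDim_eq_of_orderIso (irreducibleSetEquivPoints (α := X))

theorem topologicalKrullDim_le_of_locallyQuasiFinite {X Y : Scheme.{u}} (f : X ⟶ Y) [LocallyQuasiFinite f] :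
    topologicalKrullDim X ≤ topologicalKrullDim Y := by
  rw [topologicalKrullDim_eq_krullDim, topologicalKrullDim_eq_krullDim]
  exact Order.krullDim_le_of_strictMono _ (strictMono_of_locallyQuasiFinite f)

theorem topologicalKrullDim_le_of_flat_of_surjective {X Y : Scheme.{u}} (f : X ⟶ Y) [Flat f] [Surjective f] :
    topologicalKrullDim Y ≤ topologicalKrullDim X := by
  rw [topologicalKrullDim_eq_krullDim, topologicalKrullDim_eq_krullDim, Order.krullDim_eq_iSup_coheight]
  refine iSup_le fun y => ?_
  obtain ⟨x, rfl⟩ := f.surjective y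
  refine le_trans ?_ (Order.coheight_le_krullDim x)
  exact_mod_cast coheight_apply_le_of_flat f x

theorem topologicalKrullDim_eq_of_etale_of_surjective {X Y : Scheme.{u}} (f : X ⟶ Y) [Etale f] [Surjective f] :
    topologicalKrullDim X = topologicalKrullDim Y := by
  have : LocallyQuasiFinite f := locallyQuasiFinite_of_etale f
  exact le_antisymm (topologicalKrullDim_le_of_locallyQuasiFinite f)
    (topologicalKrullDim_le_of_flat_of_surjective f)

end Groth.Agent.Lib.Helper16.EtDim
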