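import Mathlib
import Groth.Agent.Lib.Helper14.LCF.FibreMapStalk

/-!
# Helper library (helper16): flatness of a morphism of schemes at a point — etale invariance, descent, and
compatibility with base change (via the critère de platitude par fibres of `Helper14.LCF`)
-/

set_option autoImplicit false
universe u
open CategoryTheory CategoryTheory.Limits AlgebraicGeometry

namespace Groth.Agent.Lib.Helper16.FlatBC

open Groth.Agent.Lib.Helper14 Groth.Agent.Lib.Helper17

section Basic

variable {X Y Z : Scheme.{u}}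

theorem flatAt_comp (f : X ⟶ Y) (g : Y ⟶ Z) (x : X) (hf : (f.stalkMap x).hom.Flat)
    (hg : (g.stalkMap (f x)).hom.Flat) : ((f ≫ g).stalkMap x).hom.Flat := by
  rw [Scheme.Hom.stalkMap_comp]
  exact RingHom.Flat.comp hg hf

theorem flatAt_congr {f f' : X ⟶ Y} (e : f = f') (x : X) :
    (f.stalkMap x).hom.Flat ↔ (f'.stalkMap x).hom.Flat := by
  subst e
  rfl

theorem flatAt_of_eq (f : X ⟶ Y) {x x' : X} (e : x = x') (h : (f.stalkMap x).hom.Flat) :
    (f.stalkMap x').hom.Flat := by
  subst e
  exact h

/-- Descent of flatness at a point along a commutative square whose vertical maps are flat at the relevant points. -/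
theorem flatAt_descend {U' U V' V : Scheme.{u}} (p : U' ⟶ U) (q : V' ⟶ V) (m' : U' ⟶ V') (m : U ⟶ V)
    (comm : m' ≫ q = p ≫ m) (u' : U') (hp : (p.stalkMap u').hom.Flat)
    (hq : (q.stalkMap (m' u')).hom.Flat) (hm' : (m'.stalkMap u').hom.Flat) :
    (m.stalkMap (p u')).hom.Flat := by
  have h1 : ((m' ≫ q).stalkMap u').hom.Flat := flatAt_comp m' q u' hm' hq
  have h2 : ((p ≫ m).stalkMap u').hom.Flat := (flatAt_congr comm u').1 h1
  exact LCF.flat_stalkMap_of_comp p m u' h2 hp

/-- Flatness at a point is invariant under etale changes of source and target. -/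
theorem flatAt_square {W W' U V : Scheme.{u}} (p : W ⟶ U) (g : W ⟶ W') (π : W' ⟶ V) (h : U ⟶ V)
    [Etale p] [Etale π] (comm : g ≫ π = p ≫ h) (w : W) :
    (g.stalkMap w).hom.Flat ↔ (h.stalkMap (p w)).hom.Flat := by
  constructor
  · intro hg
    exact flatAt_descend p π g h comm w (Flat.stalkMap p w) (Flat.stalkMap π (g w)) hg
  · intro hh
    let e : W ⟶ pullback π h := pullback.lift g p comm
    have he1 : e ≫ pullback.fst π h = g := pullback.lift_fst _ _ _
    have he2 : e ≫ pullback.snd π h = p := pullback.lift_snd _ _ _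
    haveI : Etale (pullback.snd π h) := MorphismProperty.pullback_snd (P := @Etale) π h inferInstance
    haveI : Etale (e ≫ pullback.snd π h) := by rw [he2]; infer_instance
    haveI : Etale e := Etale.of_comp e (pullback.snd π h)
    have hpt : (pullback.snd π h) (e w) = p w := by
      rw [← Scheme.Hom.comp_apply, he2]
    have h1 : ((pullback.fst π h).stalkMap (e w)).hom.Flat :=
      FibreFlat.flat_stalkMap_baseChange (IsPullback.of_hasPullback π h) (e w)
        (flatAt_of_eq h hpt.symm hh)
    have h2 : ((e ≫ pullback.fst π h).stalkMap w).hom.Flat :=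
      flatAt_comp e _ w (Flat.stalkMap e w) h1
    exact (flatAt_congr he1 w).1 h2

end Basic

section Fibres

/-- Comparison of fibres under base change: the fibre of the base change over `b'` maps to the fibre over the image of
`b'`, by a flat morphism (a base change of the extension of residue fields). -/
theorem exists_fiber_comparison {A B B' A' : Scheme.{u}} (r : A ⟶ B) (n : B' ⟶ B) (pA : A' ⟶ A) (r' : A' ⟶ B')
    (sq : IsPullback pA r' r n) (b' : B') :
    ∃ φ : r'.fiber b' ⟶ r.fiber (n b'), Flat φ ∧ φ ≫ r.fiberι (n b') = r'.fiberι b' ≫ pA ∧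
      φ ≫ r.fiberToSpecResidueField (n b') =
        r'.fiberToSpecResidueField b' ≫ Spec.map (n.residueFieldMap b') := by
  have hres : Spec.map (n.residueFieldMap b') ≫ B.fromSpecResidueField (n b') =
      B'.fromSpecResidueField b' ≫ n := n.SpecMap_residueFieldMap_fromSpecResidueField b'
  have hcond : (r'.fiberι b' ≫ pA) ≫ r =
      (r'.fiberToSpecResidueField b' ≫ Spec.map (n.residueFieldMap b')) ≫
        B.fromSpecResidueField (n b') := by
    rw [Category.assoc, sq.w, ← Category.assoc, r'.fiber_fac b', Category.assoc, Category.assoc, hres]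
  let φ : r'.fiber b' ⟶ r.fiber (n b') := pullback.lift _ _ hcond
  have hφ1 : φ ≫ r.fiberι (n b') = r'.fiberι b' ≫ pA := pullback.lift_fst _ _ _
  have hφ2 : φ ≫ r.fiberToSpecResidueField (n b') =
      r'.fiberToSpecResidueField b' ≫ Spec.map (n.residueFieldMap b') := pullback.lift_snd _ _ _
  have sq1 : IsPullback (r'.fiberι b') (r'.fiberToSpecResidueField b') r'
      (B'.fromSpecResidueField b') := IsPullback.of_hasPullback _ _
  have sq2 : IsPullback (r'.fiberι b' ≫ pA) (r'.fiberToSpecResidueField b') r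
      (B'.fromSpecResidueField b' ≫ n) := sq1.paste_horiz sq
  have sq3 : IsPullback (r.fiberι (n b')) (r.fiberToSpecResidueField (n b')) r
      (B.fromSpecResidueField (n b')) := IsPullback.of_hasPullback _ _
  have sq4 : IsPullback φ (r'.fiberToSpecResidueField b') (r.fiberToSpecResidueField (n b'))
      (Spec.map (n.residueFieldMap b')) := by
    refine IsPullback.of_right ?_ hφ2 sq3
    rw [hφ1, hres]
    exact sq2
  have hfl : Flat (Spec.map (n.residueFieldMap b')) := by
    rw [Flat.SpecMap_iff]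
    letI : Algebra ↑(B.residueField (n b')) ↑(B'.residueField b') :=
      (n.residueFieldMap b').hom.toAlgebra
    show Module.Flat ↑(B.residueField (n b')) ↑(B'.residueField b')
    infer_instance
  exact ⟨φ, MorphismProperty.of_isPullback sq4.flip hfl, hφ1, hφ2⟩

variable {U V W U' V' W' : Scheme.{u}}

/-- **Flatness at a point and base change.** For `U ⟶ V ⟶ W` with `U` locally of finite presentation over `W`, `V`
locally of finite type over `W`, and a base change `W' ⟶ W`: at a point `u'` of `U' = U ×_W W'` over a point of `U`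
at which `U` is flat over `W`, the base change `U' ⟶ V'` is flat at `u'` iff `U ⟶ V` is flat at the image of `u'`. -/
theorem flatAt_baseChange_iff (m : U ⟶ V) (k : V ⟶ W) (n : W' ⟶ W)
    (pV : V' ⟶ V) (k' : V' ⟶ W') (pU : U' ⟶ U) (m' : U' ⟶ V')
    (sqV : IsPullback pV k' k n) (sqU : IsPullback pU m' m pV)
    [LocallyOfFinitePresentation (m ≫ k)] [LocallyOfFiniteType k] (u' : U')
    (h1 : ((m ≫ k).stalkMap (pU u')).hom.Flat) :
    (m'.stalkMap u').hom.Flat ↔ (m.stalkMap (pU u')).hom.Flat := by
  constructor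
  · intro hm'
    have hx₀' : (m' ≫ k').fiberι ((m' ≫ k') u') ((m' ≫ k').asFiber u') = u' :=
      (m' ≫ k').fiberι_asFiber u'
    have hfib' : ((MoreMor.fiberMap m' k' ((m' ≫ k') u')).stalkMap ((m' ≫ k').asFiber u')).hom.Flat :=
      FibreFlat.flat_stalkMap_baseChange (LCF.isPullback_fiberMap m' k' ((m' ≫ k') u')).flip
        ((m' ≫ k').asFiber u') (flatAt_of_eq m' hx₀'.symm hm')
    generalize (m' ≫ k').asFiber u' = x₀' at hx₀' hfib'
    generalize (m' ≫ k') u' = w' at x₀' hx₀' hfib'
    obtain ⟨φU, hφUfl, hφU1, hφU2⟩ :=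
      exists_fiber_comparison (m ≫ k) n pU (m' ≫ k') (sqU.paste_vert sqV) w'
    obtain ⟨φV, hφVfl, hφV1, hφV2⟩ := exists_fiber_comparison k n pV k' sqV w'
    have e1 : MoreMor.fiberMap m' k' w' ≫ k'.fiberι w' = (m' ≫ k').fiberι w' ≫ m' :=
      LCF.fiberMap_fiberι m' k' w'
    have e2 : MoreMor.fiberMap m k (n w') ≫ k.fiberι (n w') = (m ≫ k).fiberι (n w') ≫ m :=
      LCF.fiberMap_fiberι m k (n w')
    have e3 : MoreMor.fiberMap m' k' w' ≫ k'.fiberToSpecResidueField w' =
        (m' ≫ k').fiberToSpecResidueField w' := pullback.lift_snd _ _ _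
    have e4 : MoreMor.fiberMap m k (n w') ≫ k.fiberToSpecResidueField (n w') =
        (m ≫ k).fiberToSpecResidueField (n w') := pullback.lift_snd _ _ _
    have hsq : MoreMor.fiberMap m' k' w' ≫ φV = φU ≫ MoreMor.fiberMap m k (n w') := by
      refine pullback.hom_ext (f := k) (g := W.fromSpecResidueField (n w')) ?_ ?_
      · show (MoreMor.fiberMap m' k' w' ≫ φV) ≫ k.fiberι (n w') =
          (φU ≫ MoreMor.fiberMap m k (n w')) ≫ k.fiberι (n w')
        calc (MoreMor.fiberMap m' k' w' ≫ φV) ≫ k.fiberι (n w')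
            = MoreMor.fiberMap m' k' w' ≫ (φV ≫ k.fiberι (n w')) := Category.assoc _ _ _
          _ = MoreMor.fiberMap m' k' w' ≫ (k'.fiberι w' ≫ pV) := by rw [hφV1]
          _ = (MoreMor.fiberMap m' k' w' ≫ k'.fiberι w') ≫ pV := (Category.assoc _ _ _).symm
          _ = ((m' ≫ k').fiberι w' ≫ m') ≫ pV := by rw [e1]
          _ = (m' ≫ k').fiberι w' ≫ (m' ≫ pV) := Category.assoc _ _ _
          _ = (m' ≫ k').fiberι w' ≫ (pU ≫ m) := by rw [sqU.w]
          _ = ((m' ≫ k').fiberι w' ≫ pU) ≫ m := (Category.assoc _ _ _).symm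
          _ = (φU ≫ (m ≫ k).fiberι (n w')) ≫ m := by rw [hφU1]
          _ = φU ≫ ((m ≫ k).fiberι (n w') ≫ m) := Category.assoc _ _ _
          _ = φU ≫ (MoreMor.fiberMap m k (n w') ≫ k.fiberι (n w')) := by rw [e2]
          _ = (φU ≫ MoreMor.fiberMap m k (n w')) ≫ k.fiberι (n w') := (Category.assoc _ _ _).symm
      · show (MoreMor.fiberMap m' k' w' ≫ φV) ≫ k.fiberToSpecResidueField (n w') =
          (φU ≫ MoreMor.fiberMap m k (n w')) ≫ k.fiberToSpecResidueField (n w')
        calc (MoreMor.fiberMap m' k' w' ≫ φV) ≫ k.fiberToSpecResidueField (n w')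
            = MoreMor.fiberMap m' k' w' ≫ (φV ≫ k.fiberToSpecResidueField (n w')) :=
              Category.assoc _ _ _
          _ = MoreMor.fiberMap m' k' w' ≫
              (k'.fiberToSpecResidueField w' ≫ Spec.map (n.residueFieldMap w')) := by rw [hφV2]
          _ = (MoreMor.fiberMap m' k' w' ≫ k'.fiberToSpecResidueField w') ≫
              Spec.map (n.residueFieldMap w') := (Category.assoc _ _ _).symm
          _ = (m' ≫ k').fiberToSpecResidueField w' ≫ Spec.map (n.residueFieldMap w') := by rw [e3]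
          _ = φU ≫ (m ≫ k).fiberToSpecResidueField (n w') := hφU2.symm
          _ = φU ≫ (MoreMor.fiberMap m k (n w') ≫ k.fiberToSpecResidueField (n w')) := by rw [e4]
          _ = (φU ≫ MoreMor.fiberMap m k (n w')) ≫ k.fiberToSpecResidueField (n w') :=
              (Category.assoc _ _ _).symm
    have hdesc : ((MoreMor.fiberMap m k (n w')).stalkMap (φU x₀')).hom.Flat :=
      flatAt_descend φU φV (MoreMor.fiberMap m' k' w') (MoreMor.fiberMap m k (n w')) hsq x₀'
        (Flat.stalkMap φU x₀') (Flat.stalkMap φV _) hfib'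
    have hq := LCF.flat_fibre_of_fiberMap m k (n w') (φU x₀') hdesc
    have hpt : (m ≫ k).fiberι (n w') (φU x₀') = pU u' := by
      rw [← Scheme.Hom.comp_apply, hφU1, Scheme.Hom.comp_apply, hx₀']
    generalize (m ≫ k).fiberι (n w') (φU x₀') = x at hq hpt
    subst hpt
    exact LCF.flat_stalkMap_of_flat_fibre m k _ h1 hq
  · intro hm
    exact FibreFlat.flat_stalkMap_baseChange sqU.flip u' hm

end Fibres

end Groth.Agent.Lib.Helper16.FlatBC
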