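import Mathlib.AlgebraicGeometry.IdealSheaf.Functorial
import Mathlib.AlgebraicGeometry.Morphisms.SchemeTheoreticallyDominant
import Mathlib.AlgebraicGeometry.Morphisms.Flat

/-!
# Helper library (helper16): kernels of morphisms of schemes and flat base change
-/

set_option autoImplicit false
universe u
open CategoryTheory CategoryTheory.Limits AlgebraicGeometry Opposite Topology

namespace Groth.Agent.Lib.Helper16.SchImgKer

/-- A flat surjective morphism is injective on sections. -/
theorem app_injective_of_flat_surjective {X Y : Scheme.{u}} (c : X ⟶ Y) [Flat c] [Surjective c]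
    (U : Y.Opens) : Function.Injective (c.app U) := by
  rw [injective_iff_map_eq_zero]
  intro a ha
  refine TopCat.Presheaf.section_ext Y.sheaf U a 0 (fun y hy => ?_)
  obtain ⟨x, rfl⟩ := c.surjective y
  have hinj : Function.Injective (c.stalkMap x).hom := by
    algebraize [(c.stalkMap x).hom]
    have : Module.FaithfullyFlat (Y.presheaf.stalk (c x)) (X.presheaf.stalk x) :=
      @Module.FaithfullyFlat.of_flat_of_isLocalHom _ _ _ _ _ _ _
        (Flat.stalkMap c x) (c.toLRSHom.prop x)
    exact ‹RingHom.FaithfullyFlat _›.injective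
  apply hinj
  have h1 := Scheme.Hom.germ_stalkMap_apply c U x hy a
  rw [ha, map_zero] at h1
  refine h1.trans ?_
  rw [map_zero]
  exact (map_zero (c.stalkMap x).hom).symm

/-- A flat surjective morphism is scheme theoretically dominant. -/
theorem ker_eq_bot_of_flat_surjective {X Y : Scheme.{u}} (c : X ⟶ Y) [Flat c] [Surjective c] :
    c.ker = ⊥ := by
  rw [eq_bot_iff]
  intro U
  refine (c.ideal_ker_le U).trans ?_
  intro a ha
  have := app_injective_of_flat_surjective c U.1 (a₁ := a) (a₂ := 0) (by rw [map_zero]; exact ha)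
  rw [this]
  exact Submodule.zero_mem _

theorem ker_comp_of_flat_surjective {P' P R : Scheme.{u}} (c : P' ⟶ P) (a : P ⟶ R) [Flat c]
    [Surjective c] : (c ≫ a).ker = a.ker := by
  rw [Scheme.Hom.ker_comp, ker_eq_bot_of_flat_surjective c, Scheme.IdealSheafData.map_bot]

/-- The morphism to the scheme theoretic image is scheme theoretically dominant. -/
theorem ker_toImage {X Y : Scheme.{u}} (g : X ⟶ Y) : g.toImage.ker = ⊥ := by
  set K := g.toImage.ker with hK
  have h1 : (K.subschemeι ≫ g.imageι).ker = g.imageι.ker := by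
    apply le_antisymm
    · have h2 : ((g.toImage).toImage ≫ (K.subschemeι ≫ g.imageι)) = g := by
        rw [← Category.assoc]
        show ((g.toImage).toImage ≫ (g.toImage).imageι) ≫ g.imageι = g
        rw [Scheme.Hom.toImage_imageι, Scheme.Hom.toImage_imageι]
      calc (K.subschemeι ≫ g.imageι).ker ≤ ((g.toImage).toImage ≫ (K.subschemeι ≫ g.imageι)).ker :=
            Scheme.Hom.le_ker_comp _ _
        _ = g.ker := by rw [h2]
        _ = g.imageι.ker := (Scheme.IdealSheafData.ker_subschemeι _).symm
    · exact Scheme.Hom.le_ker_comp _ _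
  have : IsIso K.subschemeι :=
    IsClosedImmersion.isIso_of_ker_eq (K.subschemeι ≫ g.imageι) g.imageι K.subschemeι rfl h1
  rw [← K.ker_subschemeι]
  exact Scheme.Hom.ker_eq_bot_of_isIso _

/-- The general inequality between the pulled back kernel and the kernel of the base change. -/
theorem comap_ker_le_of_comm {U V V' P : Scheme.{u}} {g : U ⟶ V} {φ : V' ⟶ V} {pU : P ⟶ U}
    {pV : P ⟶ V'} (w : pU ≫ g = pV ≫ φ) : g.ker.comap φ ≤ pV.ker := by
  rw [← Scheme.IdealSheafData.le_map_iff_comap_le, ← Scheme.Hom.ker_comp, ← w]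
  exact Scheme.Hom.le_ker_comp _ _

/-- **Flat base change of the kernel of a quasi-compact morphism.** -/
theorem ker_of_isPullback_of_flat {U V V' P : Scheme.{u}} {g : U ⟶ V} {φ : V' ⟶ V} {pU : P ⟶ U}
    {pV : P ⟶ V'} (H : IsPullback pU pV g φ) [QuasiCompact g] [Flat φ] : pV.ker = g.ker.comap φ := by
  -- the image and its base change
  have hR : IsPullback (pullback.fst φ g.imageι) (pullback.snd φ g.imageι) φ g.imageι :=
    IsPullback.of_hasPullback _ _
  have hw : pV ≫ φ = (pU ≫ g.toImage) ≫ g.imageι := by
    rw [Category.assoc, Scheme.Hom.toImage_imageι, H.w]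
  let pY : P ⟶ pullback φ g.imageι := pullback.lift pV (pU ≫ g.toImage) hw
  have hL : IsPullback pU pY g.toImage (pullback.snd φ g.imageι) := by
    refine IsPullback.of_bot ?_ (pullback.lift_snd _ _ _).symm hR.flip
    rw [pullback.lift_fst, Scheme.Hom.toImage_imageι]
    exact H
  have : IsSchemeTheoreticallyDominant g.toImage := ⟨ker_toImage g⟩
  have : IsSchemeTheoreticallyDominant pY := IsSchemeTheoreticallyDominant.of_isPullback hL
  have h1 : pV = pY ≫ pullback.fst φ g.imageι := (pullback.lift_fst _ _ _).symm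
  rw [h1, Scheme.Hom.ker_comp, pY.ker_eq_bot, Scheme.IdealSheafData.map_bot,
    Scheme.IdealSheafData.ker_fst_of_isClosedImmersion, Scheme.IdealSheafData.ker_subschemeι]

theorem ker_pullback_snd_of_flat {U V V' : Scheme.{u}} (g : U ⟶ V) (φ : V' ⟶ V) [QuasiCompact g]
    [Flat φ] : (pullback.snd g φ).ker = g.ker.comap φ :=
  ker_of_isPullback_of_flat (IsPullback.of_hasPullback g φ)

end Groth.Agent.Lib.Helper16.SchImgKer
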