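import Groth.Agent.Lib.Helper16.Rep
import Mathlib.CategoryTheory.Sites.LocallySurjective
import Mathlib.AlgebraicGeometry.Sites.Fpqc

/-!
# Helper library (helper16): local surjectivity of representable fppf surjective maps
-/

set_option autoImplicit false
universe u
open CategoryTheory CategoryTheory.Limits AlgebraicGeometry Opposite Topology

namespace Groth.Agent.Lib.Helper16

open AlgSp

variable {S : Scheme.{u}}

/-- A morphism `snd : V ⟶ U` over `S` whose underlying morphism of schemes is flat, locally of finite presentation and
surjective generates a covering sieve for the fppf topology over `S`. -/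
theorem sieve_mem_J_of_fppf {U V : Over S} (snd : V ⟶ U) [Flat snd.left] [LocallyOfFinitePresentation snd.left]
    [Surjective snd.left] (R : Sieve U) (hR : R snd) : R ∈ J S U := by
  rw [J_eq, GrothendieckTopology.mem_over_iff]
  refine GrothendieckTopology.superset_covering _ ?_
    (Precoverage.generate_mem_toGrothendieck (snd.left).singleton_mem_fppfPrecoverage)
  rw [Sieve.generate_le_iff]
  rintro _ _ ⟨⟩
  rw [Sieve.overEquiv_iff]
  let e : Over.mk (snd.left ≫ U.hom) ⟶ V := Over.homMk (𝟙 _) (by simp)
  have he : (Over.homMk snd.left : Over.mk (snd.left ≫ U.hom) ⟶ U) = e ≫ snd := by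
    ext; simp [e]
  rw [he]
  exact R.downward_closed hR e

/-- A representable flat, locally finitely presented, surjective map of sheaves is locally surjective. -/
theorem isLocallySurjective_of_repWith_fppf {F G : Sp S} (a : F ⟶ G)
    (h₁ : RepWith @Flat a) (h₂ : RepWith @LocallyOfFinitePresentation a)
    (h₃ : RepWith @Surjective a) : Sheaf.IsLocallySurjective a := by
  constructor
  intro U s
  let g : (yon S).obj U ⟶ G := (J S).uliftYonedaEquiv.symm s
  have sq := h₁.rep.isPullback g
  have i1 : Flat (h₁.rep.snd g).left := h₁.property_snd g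
  have i2 : LocallyOfFinitePresentation (h₁.rep.snd g).left := h₂.property _ _ _ sq
  have i3 : Surjective (h₁.rep.snd g).left := h₃.property _ _ _ sq
  refine sieve_mem_J_of_fppf (h₁.rep.snd g) _ ?_
  refine ⟨(J S).uliftYonedaEquiv (h₁.rep.fst g), ?_⟩
  have h1 := GrothendieckTopology.uliftYonedaEquiv_comp (J S) (h₁.rep.fst g) a
  have h2 := GrothendieckTopology.uliftYonedaEquiv_naturality (J S) g (h₁.rep.snd g)
  rw [sq.w] at h1
  rw [← h1, ← h2]
  simp [g]

end Groth.Agent.Lib.Helper16
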