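import Groth.Agent.Lib.Helper16.FpqcMono
import Groth.Agent.Lib.Helper16.LocSurj

/-!
# Helper library (helper16): calculus of fpqc coverings of algebraic spaces
-/

set_option autoImplicit false
universe u
open CategoryTheory CategoryTheory.Limits AlgebraicGeometry Opposite Topology MorphismProperty

namespace Groth.Agent.Lib.Helper16

open AlgSp

variable {S : Scheme.{u}}

theorem fpqcRefines_of_isPullback {X X' : Sp S} (a : X' ⟶ X) {ι : Type u} (Xi : ι → Sp S) (g : ∀ i, Xi i ⟶ X)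
    (Xi' : ι → Sp S) (q : ∀ i, Xi' i ⟶ X') (p : ∀ i, Xi' i ⟶ Xi i) (sq : ∀ i, IsPullback (q i) (p i) a (g i))
    (h : FpqcRefines Xi g) : FpqcRefines Xi' q := by
  intro Z hZ t
  obtain ⟨m, W, c, hWa, hcf, hcs, hl⟩ := h Z hZ (t ≫ a)
  refine ⟨m, W, c, hWa, hcf, hcs, fun j => ?_⟩
  obtain ⟨i, l, hl'⟩ := hl j
  exact ⟨i, (sq i).lift ((yon S).map (c j) ≫ t) l (by rw [Category.assoc, hl']), (sq i).lift_fst _ _ _⟩

theorem fpqcRefines_of_factor {X : Sp S} {ι κ : Type u} (Xi : ι → Sp S) (g : ∀ i, Xi i ⟶ X) (Vk : κ → Sp S)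
    (gk : ∀ k, Vk k ⟶ X) (H : ∀ k, ∃ (i : ι) (r : Vk k ⟶ Xi i), r ≫ g i = gk k) (h : FpqcRefines Vk gk) :
    FpqcRefines Xi g := by
  intro Z hZ t
  obtain ⟨m, W, c, hWa, hcf, hcs, hl⟩ := h Z hZ t
  refine ⟨m, W, c, hWa, hcf, hcs, fun j => ?_⟩
  obtain ⟨k, l, hl'⟩ := hl j
  obtain ⟨i, r, hr⟩ := H k
  exact ⟨i, l ≫ r, by rw [Category.assoc, hr, hl']⟩

theorem fpqcRefines_aux_reindex {Z : Over S} {X : Sp S} (t : (yon S).obj Z ⟶ X) {ι : Type u} (Xi : ι → Sp S)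
    (g : ∀ i, Xi i ⟶ X) {κ : Type*} [Finite κ] (W : κ → Over S) (c : ∀ k, W k ⟶ Z)
    (hWa : ∀ k, IsAffine (W k).left) (hcf : ∀ k, Flat (c k).left)
    (hcs : ∀ z : ↥Z.left, ∃ k, z ∈ Set.range (c k).left)
    (hl : ∀ k, ∃ (i : ι) (l : (yon S).obj (W k) ⟶ Xi i), l ≫ g i = (yon S).map (c k) ≫ t) :
    ∃ (m : ℕ) (W' : Fin m → Over S) (c' : ∀ j, W' j ⟶ Z), (∀ j, IsAffine (W' j).left) ∧
      (∀ j, Flat (c' j).left) ∧ (∀ z : ↥Z.left, ∃ j, z ∈ Set.range (c' j).left) ∧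
      ∀ j, ∃ (i : ι) (l : (yon S).obj (W' j) ⟶ Xi i), l ≫ g i = (yon S).map (c' j) ≫ t := by
  let e := (Finite.equivFin κ).symm
  refine ⟨Nat.card κ, fun j => W (e j), fun j => c (e j), fun j => hWa _, fun j => hcf _, fun z => ?_,
    fun j => hl _⟩
  obtain ⟨k, hk⟩ := hcs z
  obtain ⟨j, rfl⟩ := e.surjective k
  exact ⟨j, hk⟩

theorem fpqcRefines_comp {X : Sp S} {ι : Type u} (Xi : ι → Sp S) (g : ∀ i, Xi i ⟶ X) (κ : ι → Type u)
    (Xij : ∀ i, κ i → Sp S) (gij : ∀ i j, Xij i j ⟶ Xi i) (h : FpqcRefines Xi g)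
    (hij : ∀ i, FpqcRefines (Xij i) (gij i)) :
    FpqcRefines (fun r : Σ i, κ i => Xij r.1 r.2) (fun r => gij r.1 r.2 ≫ g r.1) := by
  intro Z hZ t
  obtain ⟨m, W, c, hWa, hcf, hcs, hl⟩ := h Z hZ t
  choose i l hl' using hl
  choose m' W' c' hW'a hc'f hc's hl'' using fun j => hij (i j) (W j) (hWa j) (l j)
  choose j' l' hl''' using hl''
  refine fpqcRefines_aux_reindex t _ _ (κ := Σ j : Fin m, Fin (m' j)) (fun r => W' r.1 r.2)
    (fun r => c' r.1 r.2 ≫ c r.1) (fun r => hW'a _ _) (fun r => ?_) (fun z => ?_) (fun r => ?_)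
  · have := hc'f r.1 r.2
    have := hcf r.1
    show Flat ((c' r.1 r.2).left ≫ (c r.1).left)
    infer_instance
  · obtain ⟨j, w, rfl⟩ := hcs z
    obtain ⟨k, w', rfl⟩ := hc's j w
    exact ⟨⟨j, k⟩, w', rfl⟩
  · refine ⟨⟨i r.1, j' r.1 r.2⟩, l' r.1 r.2, ?_⟩
    rw [← Category.assoc, hl''', Category.assoc, hl', Functor.map_comp, Category.assoc]

/-- Charts of the base change of an fppf covering to a scheme. -/
theorem exists_fppf_charts {X : Sp S} (hX : IsAlgSpace X) {ι : Type u} (Xi : ι → Sp S)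
    (hXi : ∀ i, IsAlgSpace (Xi i)) (g : ∀ i, Xi i ⟶ X) (h : IsFppfCover Xi g) (T : Over S)
    (t : (yon S).obj T ⟶ X) :
    ∃ (U : ι → Over S) (k : ∀ i, U i ⟶ T) (l : ∀ i, (yon S).obj (U i) ⟶ Xi i),
      (∀ i, l i ≫ g i = (yon S).map (k i) ≫ t) ∧ (∀ i, Flat (k i).left) ∧
      (∀ i, LocallyOfFinitePresentation (k i).left) ∧ ∀ z : ↥T.left, ∃ i, z ∈ Set.range (k i).left := by
  have hQ : ∀ i, IsAlgSpace (pullback (g i) t) := fun i =>
    isAlgSpace_of_isPullback (hXi i) hX.diag (IsAlgSpace.yon_obj T) (IsPullback.of_hasPullback (g i) t)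
  choose U a hae has using fun i => (hQ i).atlas
  choose k hk using fun i => (yon S).map_surjective (a i ≫ pullback.snd (g i) t)
  refine ⟨U, k, fun i => a i ≫ pullback.fst (g i) t, fun i => ?_, fun i => ?_, fun i => ?_, fun z => ?_⟩
  · rw [Category.assoc, pullback.condition, ← Category.assoc, hk]
  · have hsnd : LocP @Flat (pullback.snd (g i) t) :=
      locP_of_isPullback etLocalST_flat (hXi i) hX (IsPullback.of_hasPullback (g i) t) (h.1 i).1
    exact hsnd (a i) (𝟙 _) (k i) (hae i) (repWith_id _ T) (by rw [Category.comp_id, hk])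
  · have hsnd : LocP @LocallyOfFinitePresentation (pullback.snd (g i) t) :=
      locP_of_isPullback etLocalST_locallyOfFinitePresentation (hXi i) hX
        (IsPullback.of_hasPullback (g i) t) (h.1 i).2
    exact hsnd (a i) (𝟙 _) (k i) (hae i) (repWith_id _ T) (by rw [Category.comp_id, hk])
  · obtain ⟨i, xi, hxi⟩ := h.2 (Points.map t (Points.ofScheme T z))
    obtain ⟨q, -, hq⟩ := exists_point_of_isPullback (IsPullback.of_hasPullback (g i) t) xi
      (Points.ofScheme T z) hxi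
    obtain ⟨u, hu⟩ := ofPt_surjective_of_surjective (a i) (has i) q
    refine ⟨i, u, ?_⟩
    apply ofScheme_injective T
    rw [← map_yon_map_ofScheme, hk, Points.map_comp, ← Points.ofPt_eq_map_ofScheme, hu, hq]

/-- An fppf covering satisfies the refinement clause of fpqc coverings. -/
theorem fpqcRefines_of_isFppfCover {X : Sp S} (hX : IsAlgSpace X) {ι : Type u} (Xi : ι → Sp S)
    (hXi : ∀ i, IsAlgSpace (Xi i)) (g : ∀ i, Xi i ⟶ X) (h : IsFppfCover Xi g) : FpqcRefines Xi g := by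
  intro Z hZ t
  obtain ⟨U, k, l, hl, hkf, hkp, hks⟩ := exists_fppf_charts hX Xi hXi g h Z t
  have H : ∀ z : ↥Z.left, ∃ (i : ι) (A : (U i).left.Opens), IsAffineOpen A ∧
      z ∈ (k i).left '' (A : Set ↥(U i).left) := by
    intro z
    obtain ⟨i, u, rfl⟩ := hks z
    obtain ⟨_, ⟨(A : (U i).left.Opens), hA, rfl⟩, huA, -⟩ :=
      (U i).left.isBasis_affineOpens.exists_subset_of_mem_open (Set.mem_univ u) isOpen_univ
    exact ⟨i, A, hA, u, huA, rfl⟩
  choose i A hA hz using H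
  have hopen : ∀ z, IsOpen ((k (i z)).left '' (A z : Set ↥(U (i z)).left)) := fun z => by
    have := hkf (i z)
    have := hkp (i z)
    exact (k (i z)).left.isOpenMap _ (A z).2
  have : CompactSpace ↥Z.left := inferInstance
  obtain ⟨F, hF⟩ := isCompact_univ.elim_finite_subcover
    (fun z => (k (i z)).left '' (A z : Set ↥(U (i z)).left)) hopen
    (fun z _ => Set.mem_iUnion.2 ⟨z, hz z⟩)
  refine fpqcRefines_aux_reindex t _ _ (κ := ↥F)
    (fun z' => Over.mk ((A z'.1).ι ≫ (U (i z'.1)).hom))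
    (fun z' => (Over.homMk (A z'.1).ι rfl : Over.mk ((A z'.1).ι ≫ (U (i z'.1)).hom) ⟶ U (i z'.1)) ≫ k (i z'.1))
    (fun z' => hA z'.1) (fun z' => ?_) (fun z => ?_) (fun z' => ?_)
  · have := hkf (i z'.1)
    show Flat ((A z'.1).ι ≫ (k (i z'.1)).left)
    infer_instance
  · obtain ⟨z', hz'F, u, huA, rfl⟩ := Set.mem_iUnion₂.1 (hF (Set.mem_univ z))
    exact ⟨⟨z', hz'F⟩, ⟨u, huA⟩, rfl⟩
  · refine ⟨i z'.1, (yon S).map (Over.homMk (A z'.1).ι rfl :
      Over.mk ((A z'.1).ι ≫ (U (i z'.1)).hom) ⟶ U (i z'.1)) ≫ l (i z'.1), ?_⟩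
    rw [Category.assoc, hl, Functor.map_comp, Category.assoc]

theorem locP_of_repWith_etale {P : MorphismProperty Scheme.{u}} (hP : EtLocalST P) {X Y : Sp S}
    (hX : IsAlgSpace X) (hY : IsAlgSpace Y) (f : X ⟶ Y) (hf : RepWith @Etale f) : LocP P f :=
  (locP_iff_repWith hP hX hY f hf.rep).2
    (MorphismProperty.relative_monotone (fun _ _ k hk => hP.etale_le _ _ _ hk) _ hf)

/-- A single etale surjective chart satisfies the refinement clause of fpqc coverings. -/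
theorem fpqcRefines_chart {X : Sp S} (hX : IsAlgSpace X) {U : Over S} (p : (yon S).obj U ⟶ X)
    (hp : RepWith @Etale p) (hps : RepWith @Surjective p) :
    FpqcRefines (fun _ : PUnit.{u + 1} => (yon S).obj U) (fun _ => p) := by
  refine fpqcRefines_of_isFppfCover hX _ (fun _ => IsAlgSpace.yon_obj U) _ ⟨fun _ => ⟨?_, ?_⟩, fun x => ?_⟩
  · exact locP_of_repWith_etale etLocalST_flat (IsAlgSpace.yon_obj U) hX p hp
  · exact locP_of_repWith_etale etLocalST_locallyOfFinitePresentation (IsAlgSpace.yon_obj U) hX p hp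
  · exact ⟨PUnit.unit, (repWith_surjective_iff p hp.rep).1 hps x⟩

theorem isFpqcCover_of_isFppfCover {X : Sp S} (hX : IsAlgSpace X) {ι : Type u} (Xi : ι → Sp S)
    (hXi : ∀ i, IsAlgSpace (Xi i)) (g : ∀ i, Xi i ⟶ X) (h : IsFppfCover Xi g) : IsFpqcCover Xi g :=
  ⟨fun i => (h.1 i).1, fpqcRefines_of_isFppfCover hX Xi hXi g h⟩

theorem isFpqcCover_of_isPullback {X X' : Sp S} (hX : IsAlgSpace X) (a : X' ⟶ X) {ι : Type u} (Xi : ι → Sp S)
    (hXi : ∀ i, IsAlgSpace (Xi i)) (g : ∀ i, Xi i ⟶ X)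
    (Xi' : ι → Sp S) (q : ∀ i, Xi' i ⟶ X') (p : ∀ i, Xi' i ⟶ Xi i) (sq : ∀ i, IsPullback (q i) (p i) a (g i))
    (h : IsFpqcCover Xi g) : IsFpqcCover Xi' q :=
  ⟨fun i => locP_of_isPullback etLocalST_flat (hXi i) hX (sq i).flip (h.1 i),
    fpqcRefines_of_isPullback a Xi g Xi' q p sq h.2⟩

theorem isFpqcCover_comp {X : Sp S} (hX : IsAlgSpace X) {ι : Type u} (Xi : ι → Sp S)
    (hXi : ∀ i, IsAlgSpace (Xi i)) (g : ∀ i, Xi i ⟶ X) (κ : ι → Type u)
    (Xij : ∀ i, κ i → Sp S) (hXij : ∀ i j, IsAlgSpace (Xij i j)) (gij : ∀ i j, Xij i j ⟶ Xi i)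
    (h : IsFpqcCover Xi g) (hij : ∀ i, IsFpqcCover (Xij i) (gij i)) :
    IsFpqcCover (fun r : Σ i, κ i => Xij r.1 r.2) (fun r => gij r.1 r.2 ≫ g r.1) :=
  ⟨fun r => locP_comp etLocalST_flat (hXij r.1 r.2) (hXi r.1) hX _ _ ((hij r.1).1 r.2) (h.1 r.1),
    fpqcRefines_comp Xi g κ Xij gij h.2 fun i => (hij i).2⟩

set_option backward.isDefEq.respectTransparency.types false in
theorem isFpqcCover_iff_of_chart {X : Sp S} (hX : IsAlgSpace X) {ι : Type u} (Xi : ι → Sp S)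
    (hXi : ∀ i, IsAlgSpace (Xi i)) (g : ∀ i, Xi i ⟶ X) {U : Over S} (p : (yon S).obj U ⟶ X)
    (hp : RepWith @Etale p) (hps : RepWith @Surjective p) (Ui : ι → Sp S) (hUi : ∀ i, IsAlgSpace (Ui i))
    (q : ∀ i, Ui i ⟶ (yon S).obj U) (p' : ∀ i, Ui i ⟶ Xi i) (sq : ∀ i, IsPullback (q i) (p' i) p (g i)) :
    IsFpqcCover Xi g ↔ IsFpqcCover Ui q := by
  constructor
  · intro h
    exact isFpqcCover_of_isPullback hX p Xi hXi g Ui q p' sq h
  · intro h
    have hch := fpqcRefines_chart hX p hp hps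
    refine ⟨fun i => ?_, ?_⟩
    · exact locP_of_fpqcRefines etLocalST_flat (fun _ : PUnit.{u + 1} => (yon S).obj U)
        (fun _ => IsAlgSpace.yon_obj U) (fun _ => p) hch (g i) (fun _ => Ui i) (fun _ => hUi i)
        (fun _ => q i) (fun _ => p' i) (fun _ => (sq i).flip) (fun _ => h.1 i)
    · have h2 := fpqcRefines_comp (fun _ : PUnit.{u + 1} => (yon S).obj U) (fun _ => p) (fun _ => ι)
        (fun _ i => Ui i) (fun _ i => q i) hch (fun _ => h.2)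
      exact fpqcRefines_of_factor Xi g _ _ (fun r => ⟨r.2, p' r.2, (sq r.2).w.symm⟩) h2

/-- Members of an fppf covering lift fppf locally. -/
theorem exists_fppf_local_lift {X : Sp S} (hX : IsAlgSpace X) {ι : Type u} (Xi : ι → Sp S)
    (hXi : ∀ i, IsAlgSpace (Xi i)) (g : ∀ i, Xi i ⟶ X) (h : IsFppfCover Xi g) (T : Over S)
    (t : (yon S).obj T ⟶ X) :
    ∃ (κ : Type u) (Tk : κ → Over S) (c : ∀ k, Tk k ⟶ T),
      Sieve.ofArrows Tk c ∈ J S T ∧
      ∀ k, ∃ (i : ι) (l : (yon S).obj (Tk k) ⟶ Xi i), l ≫ g i = (yon S).map (c k) ≫ t := by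
  obtain ⟨U, k, l, hl, hkf, hkp, hks⟩ := exists_fppf_charts hX Xi hXi g h T t
  refine ⟨ι, U, k, ?_, fun i => ⟨i, l i, hl i⟩⟩
  rw [J_eq, GrothendieckTopology.mem_over_iff, Sieve.overEquiv_ofArrows]
  exact Precoverage.generate_mem_toGrothendieck
    ((Scheme.ofArrows_mem_precoverage_iff (P := @Flat ⊓ @LocallyOfFinitePresentation)).2
      ⟨hks, fun i => ⟨hkf i, hkp i⟩⟩)

end Groth.Agent.Lib.Helper16
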