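import Groth.Agent.Lib.Helper16.Charts

/-!
# Helper library (helper16): generalities on representable morphisms of sheaves
-/

set_option autoImplicit false
universe u
open CategoryTheory CategoryTheory.Limits AlgebraicGeometry Opposite Topology

namespace Groth.Agent.Lib.Helper16

open AlgSp

variable {S : Scheme.{u}}

theorem yon_map_id (T : Over S) : (yon S).map (𝟙 T) = 𝟙 ((yon S).obj T) := (yon S).map_id T

/-- Morphisms of sheaves out of `Z` are determined by their composites with all `h_T ⟶ Z`. -/
theorem sp_hom_ext {Z F : Sp S} (a b : Z ⟶ F)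
    (h : ∀ (T : Over S) (z : (yon S).obj T ⟶ Z), z ≫ a = z ≫ b) : a = b := by
  apply Sheaf.hom_ext
  ext T z
  have := h T.unop ((J S).uliftYonedaEquiv.symm z)
  have h2 := congrArg (J S).uliftYonedaEquiv this
  rw [GrothendieckTopology.uliftYonedaEquiv_comp, GrothendieckTopology.uliftYonedaEquiv_comp,
    Equiv.apply_symm_apply] at h2
  exact h2

/-- A representable morphism all of whose base changes to schemes are monomorphisms is a monomorphism of
sheaves. -/
theorem mono_of_repWith {P : MorphismProperty Scheme.{u}} (hP : P ≤ MorphismProperty.monomorphisms _)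
    {F G : Sp S} (f : F ⟶ G) (hf : RepWith P f) : Mono f := by
  constructor
  intro Z a b hab
  apply sp_hom_ext
  intro T z
  have sq := hf.rep.isPullback ((z ≫ a) ≫ f)
  have hsnd : Mono (hf.rep.snd ((z ≫ a) ≫ f)).left := hP _ (hf.property_snd _)
  have hsnd' : Mono (hf.rep.snd ((z ≫ a) ≫ f)) := Over.mono_of_mono_left _
  let σ := sq.lift (z ≫ a) (𝟙 _) (by rw [Category.id_comp])
  let τ := sq.lift (z ≫ b) (𝟙 _) (by rw [Category.id_comp, Category.assoc, Category.assoc, hab])
  obtain ⟨σ', hσ'⟩ := (yon S).map_surjective σ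
  obtain ⟨τ', hτ'⟩ := (yon S).map_surjective τ
  have h1 : σ' ≫ hf.rep.snd ((z ≫ a) ≫ f) = 𝟙 _ := by
    apply (yon S).map_injective
    rw [Functor.map_comp, hσ', sq.lift_snd, yon_map_id]
  have h2 : τ' ≫ hf.rep.snd ((z ≫ a) ≫ f) = 𝟙 _ := by
    apply (yon S).map_injective
    rw [Functor.map_comp, hτ', sq.lift_snd, yon_map_id]
  have h3 : σ' = τ' := by
    rw [← cancel_mono (hf.rep.snd ((z ≫ a) ≫ f)), h1, h2]
  have h4 : σ = τ := by rw [← hσ', ← hτ', h3]
  calc z ≫ a = σ ≫ hf.rep.fst _ := (sq.lift_fst _ _ _).symm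
    _ = τ ≫ hf.rep.fst _ := by rw [h4]
    _ = z ≫ b := sq.lift_fst _ _ _

/-- For a representable morphism, representable surjectivity is surjectivity on points. -/
theorem repWith_surjective_iff {F G : Sp S} (f : F ⟶ G) (hf : Representable f) :
    RepWith @Surjective f ↔ Function.Surjective (Points.map f) := by
  constructor
  · intro h y
    induction y using Points.ind with
    | h q =>
    have sq := hf.isPullback q.toHom
    have hs : Surjective (hf.snd q.toHom).left := h.property _ _ _ sq
    obtain ⟨v, hv⟩ := hs.surj (IsLocalRing.closedPoint q.K)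
    refine ⟨Points.ofPt (hf.fst q.toHom) v, ?_⟩
    rw [Points.map_ofPt, sq.w, ofPt_yon_map_comp, Points.ofPt_toHom]
  · intro h
    refine ⟨hf, fun U V g fst snd sq => ⟨fun t => ?_⟩⟩
    obtain ⟨x, hx⟩ := h (Points.ofPt g t)
    obtain ⟨v, -, hv⟩ := exists_point_of_isPullback_yon sq x t hx
    exact ⟨v, hv⟩

end Groth.Agent.Lib.Helper16
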