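import Groth.Agent.Lib.Helper16.Charts
import Groth.Agent.Lib.Helper16.Rep
import Mathlib.CategoryTheory.Limits.FullSubcategory

/-!
# Helper library (helper16): fibre products of algebraic spaces are algebraic spaces
-/

set_option autoImplicit false
universe u
open CategoryTheory CategoryTheory.Limits AlgebraicGeometry Opposite Topology

namespace Groth.Agent.Lib.Helper16

open AlgSp

/-- A commutative square with existence and uniqueness of lifts is a pullback square. -/
theorem isPullback_of_exists_lift {C : Type*} [Category C] {P X Y Z : C} {fst : P ⟶ X} {snd : P ⟶ Y}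
    {f : X ⟶ Z} {g : Y ⟶ Z} (w : fst ≫ f = snd ≫ g)
    (lift : ∀ {Q : C} (a : Q ⟶ X) (b : Q ⟶ Y), a ≫ f = b ≫ g → ∃ l : Q ⟶ P, l ≫ fst = a ∧ l ≫ snd = b)
    (ext : ∀ {Q : C} (l l' : Q ⟶ P), l ≫ fst = l' ≫ fst → l ≫ snd = l' ≫ snd → l = l') :
    IsPullback fst snd f g := by
  refine ⟨⟨w⟩, ⟨PullbackCone.IsLimit.mk w (fun s => (lift s.fst s.snd s.condition).choose)
    (fun s => (lift s.fst s.snd s.condition).choose_spec.1)
    (fun s => (lift s.fst s.snd s.condition).choose_spec.2) ?_⟩⟩
  intro s m h1 h2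
  exact ext _ _ (h1.trans (lift s.fst s.snd s.condition).choose_spec.1.symm)
    (h2.trans (lift s.fst s.snd s.condition).choose_spec.2.symm)

variable {S : Scheme.{u}}

/-- Every map from a scheme to a fibre product `X ×_Y Z` of sheaves with representable diagonals (of `X`, `Z`)
is representable. -/
theorem representable_from_yon_of_isPullback {X Y Z P : Sp S} (hX : Representable (Limits.diag X))
    (hZ : Representable (Limits.diag Z)) {f : X ⟶ Y} {g : Z ⟶ Y} {fst : P ⟶ X} {snd : P ⟶ Z}
    (sq : IsPullback fst snd f g) {T : Over S} (t : (yon S).obj T ⟶ P) : Representable t := by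
  intro T' g'
  have hx : Representable (t ≫ fst) := Functor.relativelyRepresentable.of_diag hX _
  obtain ⟨A, aT', aT, sqA⟩ := hx (g' ≫ fst)
  obtain ⟨W, wA, wZ, sqW⟩ := hZ (prod.lift (aT ≫ t ≫ snd) ((yon S).map aT' ≫ g' ≫ snd))
  have e1 : (yon S).map wA ≫ aT ≫ t ≫ snd = wZ := by
    have := congrArg (· ≫ prod.fst) sqW.w
    simp only [Category.assoc, prod.lift_fst, Category.comp_id] at this
    exact this.symm
  have e2 : (yon S).map wA ≫ (yon S).map aT' ≫ g' ≫ snd = wZ := by
    have := congrArg (· ≫ prod.snd) sqW.w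
    simp only [Category.assoc, prod.lift_snd, Category.comp_id] at this
    exact this.symm
  refine ⟨W, wA ≫ aT', (yon S).map wA ≫ aT, ?_⟩
  apply isPullback_of_exists_lift
  · apply sq.hom_ext
    · rw [Category.assoc, Category.assoc, sqA.w, Functor.map_comp, Category.assoc, Category.assoc]
    · rw [Category.assoc, Category.assoc, e1, Functor.map_comp, Category.assoc, Category.assoc, e2]
  · intro Q u u' huu'
    have h1 : u ≫ (t ≫ fst) = u' ≫ (g' ≫ fst) := by rw [← Category.assoc, huu', Category.assoc]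
    have hz : sqA.lift u u' h1 ≫ aT ≫ t ≫ snd = sqA.lift u u' h1 ≫ (yon S).map aT' ≫ g' ≫ snd := by
      rw [sqA.lift_fst_assoc, sqA.lift_snd_assoc, ← Category.assoc, huu', Category.assoc]
    have h2 : (sqA.lift u u' h1 ≫ aT ≫ t ≫ snd) ≫ Limits.diag Z =
        sqA.lift u u' h1 ≫ prod.lift (aT ≫ t ≫ snd) ((yon S).map aT' ≫ g' ≫ snd) := by
      apply Limits.prod.hom_ext
      · simp only [Category.assoc, prod.lift_fst, Category.comp_id]
      · simp only [Category.assoc, prod.lift_snd, Category.comp_id]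
        exact hz
    refine ⟨sqW.lift _ _ h2, ?_, ?_⟩
    · rw [← Category.assoc, sqW.lift_snd, sqA.lift_fst]
    · rw [Functor.map_comp, ← Category.assoc, sqW.lift_snd, sqA.lift_snd]
  · intro Q l l' h1 h2
    have hA : l ≫ (yon S).map wA = l' ≫ (yon S).map wA := by
      apply sqA.hom_ext
      · simpa only [Category.assoc] using h1
      · simpa only [Functor.map_comp, Category.assoc] using h2
    apply sqW.hom_ext
    · rw [← e1, ← Category.assoc, ← Category.assoc, hA]
      simp only [Category.assoc]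
    · exact hA

/-- The diagonal of a fibre product `X ×_Y Z` of sheaves with representable diagonals is representable. -/
theorem representable_diag_of_isPullback {X Y Z P : Sp S} (hX : Representable (Limits.diag X))
    (hZ : Representable (Limits.diag Z)) {f : X ⟶ Y} {g : Z ⟶ Y} {fst : P ⟶ X} {snd : P ⟶ Z}
    (sq : IsPullback fst snd f g) : Representable (Limits.diag P) :=
  Functor.relativelyRepresentable.diag_of_map_from_obj fun _ t =>
    representable_from_yon_of_isPullback hX hZ sq t

/-- Charts for a fibre product: if `pU : h_U ⟶ X` and `pW : h_W ⟶ Z` are representable with `Q` (stable under base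
change and composition), and `h_U ⟶ X ⟶ Y` is representable, then `h_U ×_Y h_W = h_R ⟶ X ×_Y Z` is representable
with `Q`. -/
theorem exists_chart_of_isPullback {X Y Z P : Sp S} {f : X ⟶ Y} {g : Z ⟶ Y} {fst : P ⟶ X} {snd : P ⟶ Z}
    (sq : IsPullback fst snd f g) {U W : Over S} (pU : (yon S).obj U ⟶ X) (pW : (yon S).obj W ⟶ Z)
    (hUY : Representable (pU ≫ f)) :
    ∃ (R : Over S) (rU : R ⟶ U) (rW : R ⟶ W) (r : (yon S).obj R ⟶ P),
      r ≫ fst = (yon S).map rU ≫ pU ∧ r ≫ snd = (yon S).map rW ≫ pW ∧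
      IsPullback ((yon S).map rU) ((yon S).map rW) (pU ≫ f) (pW ≫ g) ∧
      ∀ (Q : MorphismProperty Scheme.{u}) [Q.IsStableUnderBaseChange] [Q.IsMultiplicative],
        RepWith Q pU → RepWith Q pW → RepWith Q r := by
  obtain ⟨R, rW, rU₀, sqR⟩ := hUY (pW ≫ g)
  obtain ⟨rU, rfl⟩ := (yon S).map_surjective rU₀
  -- the intermediate object `M = X ×_Y h_W`
  have sqM := IsPullback.of_hasPullback f (pW ≫ g)
  -- `M = P ×_Z h_W`
  have hw₂ : sq.lift (pullback.fst f (pW ≫ g)) (pullback.snd f (pW ≫ g) ≫ pW)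
      (by rw [pullback.condition, Category.assoc]) ≫ snd = pullback.snd f (pW ≫ g) ≫ pW := sq.lift_snd _ _ _
  have sq₂ : IsPullback (sq.lift (pullback.fst f (pW ≫ g)) (pullback.snd f (pW ≫ g) ≫ pW)
      (by rw [pullback.condition, Category.assoc])) (pullback.snd f (pW ≫ g)) snd pW := by
    refine IsPullback.of_right ?_ hw₂ sq
    rw [sq.lift_fst]
    exact sqM
  -- `h_R = h_U ×_X M`
  have hw₁ : sqM.lift ((yon S).map rU ≫ pU) ((yon S).map rW) (by rw [Category.assoc, sqR.w]) ≫
      pullback.fst f (pW ≫ g) = (yon S).map rU ≫ pU := sqM.lift_fst _ _ _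
  have sq₁ : IsPullback (sqM.lift ((yon S).map rU ≫ pU) ((yon S).map rW) (by rw [Category.assoc, sqR.w]))
      ((yon S).map rU) (pullback.fst f (pW ≫ g)) pU := by
    refine IsPullback.of_right ?_ hw₁ sqM.flip
    rw [sqM.lift_snd]
    exact sqR.flip
  refine ⟨R, rU, rW, sqM.lift ((yon S).map rU ≫ pU) ((yon S).map rW) (by rw [Category.assoc, sqR.w]) ≫
    sq.lift (pullback.fst f (pW ≫ g)) (pullback.snd f (pW ≫ g) ≫ pW)
      (by rw [pullback.condition, Category.assoc]), ?_, ?_, sqR, ?_⟩
  · rw [Category.assoc, sq.lift_fst, sqM.lift_fst]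
  · rw [Category.assoc, sq.lift_snd, sqM.lift_snd_assoc]
  · intro Q _ _ hQU hQW
    exact (RepWith Q).comp_mem _ _ ((RepWith Q).of_isPullback sq₁.flip hQU)
      ((RepWith Q).of_isPullback sq₂.flip hQW)

/-- A fibre product of algebraic spaces is an algebraic space. -/
theorem isAlgSpace_of_isPullback {X Y Z P : Sp S} (hX : IsAlgSpace X) (hY : Representable (Limits.diag Y))
    (hZ : IsAlgSpace Z) {f : X ⟶ Y} {g : Z ⟶ Y} {fst : P ⟶ X} {snd : P ⟶ Z} (sq : IsPullback fst snd f g) :
    IsAlgSpace P := by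
  refine ⟨representable_diag_of_isPullback hX.diag hZ.diag sq, ?_⟩
  obtain ⟨U, pU, hUe, hUs⟩ := hX.atlas
  obtain ⟨W, pW, hWe, hWs⟩ := hZ.atlas
  obtain ⟨R, rU, rW, r, -, -, -, hr⟩ := exists_chart_of_isPullback sq pU pW
    (Functor.relativelyRepresentable.of_diag hY _)
  exact ⟨R, r, hr @Etale hUe hWe, hr @Surjective hUs hWs⟩

/-- The point of a limit cone over a cospan of algebraic spaces is an algebraic space. -/
theorem isAlgSpace_of_isLimit_cospan {F : WalkingCospan ⥤ Sp S} (t : Cone F) (ht : IsLimit t)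
    (h : ∀ j, IsAlgSpace (F.obj j)) : IsAlgSpace t.pt := by
  have hl : IsLimit (PullbackCone.mk (t.π.app WalkingCospan.left) (t.π.app WalkingCospan.right)
      ((t.π.naturality WalkingCospan.Hom.inl).symm.trans (t.π.naturality WalkingCospan.Hom.inr :))) :=
    IsLimit.ofIsoLimit ((IsLimit.postcomposeHomEquiv (diagramIsoCospan F) t).symm ht) (PullbackCone.isoMk t)
  have sq : IsPullback (t.π.app WalkingCospan.left) (t.π.app WalkingCospan.right)
      (F.map WalkingCospan.Hom.inl) (F.map WalkingCospan.Hom.inr) := IsPullback.of_isLimit hl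
  exact isAlgSpace_of_isPullback (h _) (h _).diag (h _) sq

instance isAlgSpace_isClosedUnderLimitsOfShape_walkingCospan :
    ObjectProperty.IsClosedUnderLimitsOfShape (IsAlgSpace (S := S)) WalkingCospan where
  limitsOfShape_le := fun _ ⟨p⟩ => isAlgSpace_of_isLimit_cospan ⟨_, p.π⟩ p.isLimit p.prop_diag_obj

end Groth.Agent.Lib.Helper16
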