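import Groth.Agent.Lib.Helper16.FppfLocal2
import Mathlib.AlgebraicGeometry.Morphisms.LocalFlatDescent

/-!
# Helper library (helper16): checking `RepWith P` on an etale surjective chart, for properties satisfying fppf descent
(in the sense of Mathlib's `MorphismProperty.DescendsAlong`)
-/

set_option autoImplicit false
universe u
open CategoryTheory CategoryTheory.Limits AlgebraicGeometry Opposite Topology MorphismProperty

namespace Groth.Agent.Lib.Helper16

open AlgSp

variable {S : Scheme.{u}}

/-- Descent of `P` along an fppf surjective morphism of schemes over `S`. -/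
theorem P_of_fppf_cover {P : MorphismProperty Scheme.{u}}
    [P.DescendsAlong (@Surjective ⊓ @Flat ⊓ @LocallyOfFinitePresentation)] {W T T' : Over S} (w : W ⟶ T)
    (c : T' ⟶ T) (hc₁ : Surjective c.left) (hc₂ : Flat c.left) (hc₃ : LocallyOfFinitePresentation c.left)
    (h : P (pullback.snd w c).left) : P w.left := by
  have sq : IsPullback (pullback.snd w c).left (pullback.fst w c).left c.left w.left :=
    ((IsPullback.of_hasPullback w c).map (Over.forget S)).flip
  exact MorphismProperty.of_isPullback_of_descendsAlong
    (Q := @Surjective ⊓ @Flat ⊓ @LocallyOfFinitePresentation) sq ⟨⟨hc₁, hc₂⟩, hc₃⟩ h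

/-- `RepWith P` for a representable morphism can be checked on the base change to an etale surjective chart, for
`P` stable under base change and satisfying fppf descent. -/
theorem repWith_of_chart_of_descends {X Y : Sp S} (f : Y ⟶ X) (hf : Representable f) {U V : Over S}
    (q : (yon S).obj U ⟶ X) (hqe : RepWith @Etale q) (hqs : RepWith @Surjective q)
    (fst : (yon S).obj V ⟶ Y) (g : V ⟶ U) (sq : IsPullback fst ((yon S).map g) f q)
    (P : MorphismProperty Scheme.{u}) [P.IsStableUnderBaseChange]
    [P.DescendsAlong (@Surjective ⊓ @Flat ⊓ @LocallyOfFinitePresentation)] (h : P g.left) :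
    RepWith P f := by
  refine ⟨hf, fun T W t fst' w sq' => ?_⟩
  obtain ⟨T', c, u₀, sqq⟩ := hqe.rep t
  obtain ⟨u, rfl⟩ := (yon S).map_surjective u₀
  have hce : Etale c.left := hqe.property _ _ _ sqq
  have hcs : Surjective c.left := hqs.property _ _ _ sqq
  refine P_of_fppf_cover w c hcs inferInstance inferInstance ?_
  have sq1 : IsPullback ((yon S).map (pullback.fst w c) ≫ fst') ((yon S).map (pullback.snd w c)) f
      ((yon S).map u ≫ q) := by
    rw [sqq.w]
    exact ((IsPullback.of_hasPullback w c).map (yon S)).paste_horiz sq'
  obtain ⟨l, hl⟩ := (yon S).map_surjective (sq.lift ((yon S).map (pullback.fst w c) ≫ fst')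
    ((yon S).map (pullback.snd w c) ≫ (yon S).map u) (by rw [Category.assoc]; exact sq1.w))
  have sq2 : IsPullback ((yon S).map l) ((yon S).map (pullback.snd w c)) ((yon S).map g) ((yon S).map u) := by
    rw [hl]
    refine IsPullback.of_right ?_ (sq.lift_snd _ _ _) sq
    rw [sq.lift_fst]
    exact sq1
  exact P.of_isPullback (isPullback_left_of_yon sq2) h

end Groth.Agent.Lib.Helper16
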