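import Groth.Agent.Lib.Helper16.ChartDiagram
import Groth.Agent.Lib.Helper16.Descent
import Mathlib.AlgebraicGeometry.Noetherian

/-!
# Helper library (helper16): properties etale local on source and target (`AlgSp.LocP`)
-/

set_option autoImplicit false
universe u
open CategoryTheory CategoryTheory.Limits AlgebraicGeometry Opposite Topology

namespace Groth.Agent.Lib.Helper16

open AlgSp

variable {S : Scheme.{u}}

/-- An etale surjective cover of a chart `V` of `Y` mapping to a given etale surjective chart `W₀` of `Z`, for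
`g : Y ⟶ Z`. -/
theorem exists_cover_over_chart {Y Z : Sp S} (g : Y ⟶ Z) {V W₀ : Over S} (b : (yon S).obj V ⟶ Y)
    (c : (yon S).obj W₀ ⟶ Z) (hc : RepWith @Etale c) (hcs : RepWith @Surjective c) :
    ∃ (V' : Over S) (π : V' ⟶ V) (w : V' ⟶ W₀), Etale π.left ∧ Surjective π.left ∧
      ((yon S).map π ≫ b) ≫ g = (yon S).map w ≫ c := by
  obtain ⟨V', π, w₀, sq⟩ := hc.rep (b ≫ g)
  obtain ⟨w, rfl⟩ := (yon S).map_surjective w₀
  exact ⟨V', π, w, hc.property _ _ _ sq, hcs.property _ _ _ sq, by rw [Category.assoc, sq.w]⟩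

/-- The first projection of a pullback in `Over S` along an etale morphism is etale. -/
theorem etale_pullback_fst_left {U V V' : Over S} (m : U ⟶ V) (π : V' ⟶ V) [Etale π.left] :
    Etale (pullback.fst m π).left := by
  have sq : IsPullback (pullback.snd m π).left (pullback.fst m π).left π.left m.left :=
    ((IsPullback.of_hasPullback m π).map (Over.forget S)).flip
  exact MorphismProperty.of_isPullback (P := @Etale) sq inferInstance

/-- The base change of a chart diagram of `f` along `π : V' ⟶ V` is a chart diagram of `f ≫ g` when `V'` maps to a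
chart `W₀` of `Z`. -/
theorem chart_diagram_comp {X Y Z : Sp S} (f : X ⟶ Y) (g : Y ⟶ Z) {U V V' W₀ : Over S}
    (a : (yon S).obj U ⟶ X) (b : (yon S).obj V ⟶ Y) (m : U ⟶ V) (ha : RepWith @Etale a)
    (hcomm : a ≫ f = (yon S).map m ≫ b) (c : (yon S).obj W₀ ⟶ Z) (π : V' ⟶ V) (w : V' ⟶ W₀) [Etale π.left]
    (hπw : ((yon S).map π ≫ b) ≫ g = (yon S).map w ≫ c) :
    RepWith @Etale ((yon S).map (pullback.fst m π) ≫ a) ∧
      ((yon S).map (pullback.fst m π) ≫ a) ≫ (f ≫ g) = (yon S).map (pullback.snd m π ≫ w) ≫ c := by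
  refine ⟨(RepWith @Etale).comp_mem _ _ ((repWith_yon_map_iff _ _).2 (etale_pullback_fst_left m π)) ha, ?_⟩
  have h1 : (yon S).map (pullback.fst m π) ≫ (yon S).map m = (yon S).map (pullback.snd m π) ≫ (yon S).map π := by
    rw [← Functor.map_comp, ← Functor.map_comp, pullback.condition]
  calc ((yon S).map (pullback.fst m π) ≫ a) ≫ (f ≫ g)
      = (yon S).map (pullback.fst m π) ≫ (a ≫ f) ≫ g := by simp only [Category.assoc]
    _ = ((yon S).map (pullback.fst m π) ≫ (yon S).map m) ≫ b ≫ g := by rw [hcomm]; simp only [Category.assoc]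
    _ = (yon S).map (pullback.snd m π) ≫ ((yon S).map π ≫ b) ≫ g := by rw [h1]; simp only [Category.assoc]
    _ = (yon S).map (pullback.snd m π ≫ w) ≫ c := by rw [hπw, Functor.map_comp, Category.assoc]

/-- If `f ≫ g` is locally of finite type then so is `f`. -/
theorem locP_lft_of_comp {X Y Z : Sp S} (hZ : IsAlgSpace Z) (f : X ⟶ Y) (g : Y ⟶ Z)
    (h : LocP @LocallyOfFiniteType (f ≫ g)) : LocP @LocallyOfFiniteType f := by
  intro U V a b m ha hb hcomm
  obtain ⟨W₀, c, hce, hcs⟩ := hZ.atlas
  obtain ⟨V', π, w, hπe, hπs, hπw⟩ := exists_cover_over_chart g b c hce hcs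
  refine P_of_fppf_cover m π hπs inferInstance inferInstance ?_
  obtain ⟨h1, h2⟩ := chart_diagram_comp f g a b m ha hcomm c π w hπw
  have h3 : LocallyOfFiniteType (pullback.snd m π ≫ w).left := h _ c _ h1 hce h2
  rw [Over.comp_left] at h3
  exact locallyOfFiniteType_of_comp _ w.left

/-- A representable morphism with `Q` has `P` etale locally on source and target, when `P` holds for composites of
an etale morphism followed by a morphism with `Q`. -/
theorem locP_of_repWith (P Q : MorphismProperty Scheme.{u})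
    (hcomp : ∀ ⦃A B C : Scheme.{u}⦄ (m : A ⟶ B) (i : B ⟶ C), Etale m → Q i → P (m ≫ i))
    {X Y : Sp S} (f : X ⟶ Y) (hf : RepWith Q f) : LocP P f := by
  intro U V a b m ha hb hcomm
  obtain ⟨V', i, j, sq⟩ := hf.rep b
  have hQ : Q i.left := hf.property _ _ _ sq
  have hj : RepWith @Etale j := (RepWith @Etale).of_isPullback sq.flip hb
  obtain ⟨m', hm'⟩ := (yon S).map_surjective (sq.lift a ((yon S).map m) hcomm)
  have h1 : m' ≫ i = m := by
    apply (yon S).map_injective
    rw [Functor.map_comp, hm', sq.lift_snd]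
  have h2 : (yon S).map m' ≫ j = a := by rw [hm', sq.lift_fst]
  have h3 : Etale m'.left := etale_of_etale_charts a j ha hj m' h2
  rw [← h1, Over.comp_left]
  exact hcomp _ _ h3 hQ

/-- Over a locally Noetherian base, locally of finite type implies locally of finite presentation. -/
theorem locP_lfp_of_lft_of_isLocNoethSp {X Y : Sp S} (f : X ⟶ Y) (hY : IsLocNoethSp Y)
    (hf : LocP @LocallyOfFiniteType f) : LocP @LocallyOfFinitePresentation f := by
  intro U V a b m ha hb hcomm
  obtain ⟨W₀, c, hce, hcs, hW₀⟩ := hY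
  obtain ⟨V', π, w, hπe, hπs, hπw⟩ := exists_cover_over_chart (𝟙 Y) b c hce hcs
  refine P_of_fppf_cover m π hπs inferInstance inferInstance ?_
  -- `V'` is etale over the locally Noetherian `W₀`
  have hw : Etale w.left := by
    refine etale_of_etale_charts ((yon S).map π ≫ b) c ?_ hce w ?_
    · exact (RepWith @Etale).comp_mem _ _ ((repWith_yon_map_iff _ _).2 hπe) hb
    · rw [← hπw, Category.comp_id]
  have hV' : IsLocallyNoetherian V'.left := LocallyOfFiniteType.isLocallyNoetherian w.left
  -- the base change of the chart diagram is a chart diagram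
  have h1 : RepWith @Etale ((yon S).map (pullback.fst m π) ≫ a) :=
    (RepWith @Etale).comp_mem _ _ ((repWith_yon_map_iff _ _).2 (etale_pullback_fst_left m π)) ha
  have h2 : ((yon S).map (pullback.fst m π) ≫ a) ≫ f =
      (yon S).map (pullback.snd m π) ≫ ((yon S).map π ≫ b) := by
    rw [Category.assoc, hcomm, ← Category.assoc, ← Functor.map_comp, pullback.condition, Functor.map_comp,
      Category.assoc]
  have h3 : LocallyOfFiniteType (pullback.snd m π).left :=
    hf _ _ _ h1 ((RepWith @Etale).comp_mem _ _ ((repWith_yon_map_iff _ _).2 hπe) hb) h2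
  exact (LocallyOfFinitePresentation.iff_locallyOfFiniteType).2 h3

end Groth.Agent.Lib.Helper16
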