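import Groth.Agent.Lib.Helper16.Diagonal
import Groth.Agent.Lib.Helper16.LocP
import Mathlib.AlgebraicGeometry.Morphisms.Immersion
import Mathlib.AlgebraicGeometry.Morphisms.QuasiFinite

/-!
# Helper library (helper16): the diagonal of an algebraic space is locally of finite type, a monomorphism, separated
and locally quasi-finite; consequences for relative diagonals, sections and `X ×_Z Y ⟶ X ×_T Y`.
-/

set_option autoImplicit false
universe u
open CategoryTheory CategoryTheory.Limits AlgebraicGeometry Opposite Topology MorphismProperty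

namespace Groth.Agent.Lib.Helper16

open AlgSp

section General

universe v w
variable {C : Type w} [Category.{v} C] [HasPullbacks C] [HasBinaryProducts C]

set_option backward.isDefEq.respectTransparency false in
/-- The relative diagonal of `f : X ⟶ Y` is the base change of the absolute diagonal of `X` along the monomorphism
`X ×_Y X ⟶ X ⨯ X`. -/
theorem isPullback_diagonal_diag {X Y : C} (f : X ⟶ Y) :
    IsPullback (𝟙 X) (pullback.diagonal f) (Limits.diag X)
      (prod.lift (pullback.fst f f) (pullback.snd f f)) := by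
  refine isPullback_of_exists_lift ?_ ?_ ?_
  · apply Limits.prod.hom_ext <;> simp
  · intro Q c d h
    have h1 : c = d ≫ pullback.fst f f := by
      have := congrArg (· ≫ prod.fst) h
      simpa using this
    refine ⟨c, Category.comp_id _, ?_⟩
    have h2 : c = d ≫ pullback.snd f f := by
      have := congrArg (· ≫ prod.snd) h
      simpa using this
    apply pullback.hom_ext
    · rw [Category.assoc, pullback.diagonal_fst, Category.comp_id, h1]
    · rw [Category.assoc, pullback.diagonal_snd, Category.comp_id, h2]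
  · intro Q l l' h1 _
    simpa using h1

omit [HasBinaryProducts C] in
set_option backward.isDefEq.respectTransparency false in
/-- A section `s` of `f` is the base change of the diagonal of `f` along `(s ∘ f, id)`. -/
theorem isPullback_section {X T : C} (f : X ⟶ T) (s : T ⟶ X) (hs : s ≫ f = 𝟙 T) :
    IsPullback s s (pullback.diagonal f)
      (pullback.lift (f ≫ s) (𝟙 X) (by rw [Category.assoc, hs, Category.comp_id, Category.id_comp])) := by
  refine isPullback_of_exists_lift ?_ ?_ ?_
  · apply pullback.hom_ext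
    · simp [reassoc_of% hs]
    · simp
  · intro Q c d h
    have h1 : c = d ≫ f ≫ s := by
      have := congrArg (· ≫ pullback.fst f f) h
      simpa using this
    have h2 : c = d := by
      have := congrArg (· ≫ pullback.snd f f) h
      simpa using this
    refine ⟨d ≫ f, ?_, ?_⟩
    · rw [Category.assoc, ← h1]
    · rw [Category.assoc, ← h1, h2]
  · intro Q l l' h1 _
    have := congrArg (· ≫ f) h1
    simpa [hs] using this

end General

variable {S : Scheme.{u}}

/-- `RepWith Q` of the absolute diagonal gives `RepWith Q` of every relative diagonal. -/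
theorem repWith_diagonal_of_repWith_diag {Q : MorphismProperty Scheme.{u}} {X Y : Sp S} (f : X ⟶ Y)
    (h : RepWith Q (Limits.diag X)) : RepWith Q (pullback.diagonal f) :=
  (RepWith (S := S) Q).of_isPullback (isPullback_diagonal_diag f) h

/-- The represented pullbacks of a representable monomorphism of sheaves are monomorphisms of schemes. -/
theorem repWith_monomorphisms_of_mono {F G : Sp S} (f : F ⟶ G) [Mono f] (hf : Representable f) :
    RepWith (MorphismProperty.monomorphisms Scheme.{u}) f := by
  refine ⟨hf, fun U V g fst snd sq => ?_⟩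
  have h1 : Mono ((yon S).map snd) := sq.mono_snd_of_mono
  have h2 : Mono snd := (yon S).mono_of_mono_map h1
  exact (MorphismProperty.monomorphisms.iff _).2 (inferInstance : Mono snd.left)

theorem mono_diag (X : Sp S) : Mono (Limits.diag X) :=
  mono_of_mono_fac (prod.lift_fst (𝟙 X) (𝟙 X))

/-- Conjunction of two `RepWith`. -/
theorem repWith_inf {P Q : MorphismProperty Scheme.{u}} {F G : Sp S} (f : F ⟶ G) (h1 : RepWith P f)
    (h2 : RepWith Q f) : RepWith (P ⊓ Q) f :=
  ⟨h1.rep, fun _ _ _ _ _ sq => ⟨h1.property _ _ _ sq, h2.property _ _ _ sq⟩⟩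

/-- The diagonal of `h_U` is an immersion, hence locally of finite type. -/
theorem repWith_lft_diag_yon (U : Over S) : RepWith @LocallyOfFiniteType (Limits.diag ((yon S).obj U)) := by
  have h : RepWith @IsImmersion (Limits.diag ((yon S).obj U)) :=
    (repWith_diag_yon_iff @IsImmersion U).2 inferInstance
  refine repWith_mono ?_ _ h
  intro A B g hg
  have : IsImmersion g := hg
  exact (inferInstance : LocallyOfFiniteType g)

/-- For an algebraic space `X` with atlas `a : h_U ⟶ X`, the locus where two maps `T₂ ⇉ U` agree in `X` is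
represented by a scheme locally of finite type over `T₂`. -/
theorem exists_lft_equalizer_of_atlas {X : Sp S} {U : Over S} (a : (yon S).obj U ⟶ X) (hae : RepWith @Etale a)
    {T₂ : Over S} (v₁ v₂ : T₂ ⟶ U) :
    ∃ (E' : Over S) (e' : E' ⟶ T₂) (ε' : (yon S).obj E' ⟶ X),
      IsPullback ε' ((yon S).map e') (Limits.diag X) (prod.lift ((yon S).map v₁ ≫ a) ((yon S).map v₂ ≫ a)) ∧
      LocallyOfFiniteType e'.left := by
  obtain ⟨R, r₂, ρ₁, sqR⟩ := hae.rep a
  obtain ⟨r₁, rfl⟩ := (yon S).map_surjective ρ₁
  have hr₁ : Etale r₁.left := hae.property _ _ _ sqR.flip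
  have sq₁ := (IsPullback.of_hasPullback v₁ r₁).map (yon S)
  have hπT : Etale (pullback.fst v₁ r₁).left := etale_pullback_fst_left v₁ r₁
  obtain ⟨α, hα⟩ : ∃ α : pullback v₁ r₁ ⟶ U, α = pullback.snd v₁ r₁ ≫ r₂ := ⟨_, rfl⟩
  obtain ⟨β, hβ⟩ : ∃ β : pullback v₁ r₁ ⟶ U, β = pullback.fst v₁ r₁ ≫ v₂ := ⟨_, rfl⟩
  have hα' : (yon S).map α = (yon S).map (pullback.snd v₁ r₁) ≫ (yon S).map r₂ := by
    rw [hα, Functor.map_comp]
  have hβ' : (yon S).map β = (yon S).map (pullback.fst v₁ r₁) ≫ (yon S).map v₂ := by
    rw [hβ, Functor.map_comp]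
  have hU := repWith_lft_diag_yon (S := S) U
  obtain ⟨E', ι, ε₀, sqE⟩ := hU.rep (prod.lift ((yon S).map α) ((yon S).map β))
  have hι : LocallyOfFiniteType ι.left := hU.property _ _ _ sqE
  have hε1 : ε₀ = (yon S).map ι ≫ (yon S).map α := by
    have := congrArg (· ≫ prod.fst) sqE.w
    simpa only [Category.assoc, prod.lift_fst, Category.comp_id] using this
  have hε2 : ε₀ = (yon S).map ι ≫ (yon S).map β := by
    have := congrArg (· ≫ prod.snd) sqE.w
    simpa only [Category.assoc, prod.lift_snd, Category.comp_id] using this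
  have hαβ : (yon S).map ι ≫ (yon S).map α = (yon S).map ι ≫ (yon S).map β := hε1.symm.trans hε2
  obtain ⟨e', he'⟩ : ∃ e' : E' ⟶ T₂, e' = ι ≫ pullback.fst v₁ r₁ := ⟨_, rfl⟩
  have he'' : (yon S).map e' = (yon S).map ι ≫ (yon S).map (pullback.fst v₁ r₁) := by
    rw [he', Functor.map_comp]
  -- the two composites to `X` agree on `E'`
  have hkey : (yon S).map e' ≫ (yon S).map v₁ ≫ a = (yon S).map e' ≫ (yon S).map v₂ ≫ a := by
    calc (yon S).map e' ≫ (yon S).map v₁ ≫ a
        = (yon S).map ι ≫ ((yon S).map (pullback.fst v₁ r₁) ≫ (yon S).map v₁) ≫ a := by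
          rw [he'']; simp only [Category.assoc]
      _ = (yon S).map ι ≫ ((yon S).map (pullback.snd v₁ r₁) ≫ (yon S).map r₁) ≫ a := by rw [sq₁.w]
      _ = (yon S).map ι ≫ (yon S).map (pullback.snd v₁ r₁) ≫ (yon S).map r₂ ≫ a := by
          simp only [Category.assoc]; rw [sqR.w]
      _ = ((yon S).map ι ≫ (yon S).map α) ≫ a := by rw [hα']; simp only [Category.assoc]
      _ = ((yon S).map ι ≫ (yon S).map β) ≫ a := by rw [hαβ]
      _ = (yon S).map e' ≫ (yon S).map v₂ ≫ a := by rw [hβ', he'']; simp only [Category.assoc]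
  refine ⟨E', e', (yon S).map e' ≫ (yon S).map v₁ ≫ a, ?_, ?_⟩
  · refine isPullback_of_exists_lift ?_ ?_ ?_
    · apply Limits.prod.hom_ext
      · simp only [Category.assoc, prod.lift_fst, Category.comp_id]
      · simp only [Category.assoc, prod.lift_snd, Category.comp_id]
        exact hkey
    · intro Q c d h
      have hc1 : c = d ≫ (yon S).map v₁ ≫ a := by
        have := congrArg (· ≫ prod.fst) h
        simpa only [Category.assoc, prod.lift_fst, Category.comp_id] using this
      have hc2 : c = d ≫ (yon S).map v₂ ≫ a := by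
        have := congrArg (· ≫ prod.snd) h
        simpa only [Category.assoc, prod.lift_snd, Category.comp_id] using this
      have hwR : (d ≫ (yon S).map v₁) ≫ a = (d ≫ (yon S).map v₂) ≫ a := by
        rw [Category.assoc, Category.assoc, ← hc1, ← hc2]
      have hR1 : sqR.lift _ _ hwR ≫ (yon S).map r₁ = d ≫ (yon S).map v₁ := sqR.lift_fst _ _ _
      have hR2 : sqR.lift _ _ hwR ≫ (yon S).map r₂ = d ≫ (yon S).map v₂ := sqR.lift_snd _ _ _
      have hl1a : sq₁.lift d (sqR.lift _ _ hwR) hR1.symm ≫ (yon S).map (pullback.fst v₁ r₁) = d :=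
        sq₁.lift_fst _ _ _
      have hl1b : sq₁.lift d (sqR.lift _ _ hwR) hR1.symm ≫ (yon S).map (pullback.snd v₁ r₁) =
          sqR.lift _ _ hwR := sq₁.lift_snd _ _ _
      have hwE : (sq₁.lift d (sqR.lift _ _ hwR) hR1.symm ≫ (yon S).map α) ≫ Limits.diag ((yon S).obj U) =
          sq₁.lift d (sqR.lift _ _ hwR) hR1.symm ≫ prod.lift ((yon S).map α) ((yon S).map β) := by
        apply Limits.prod.hom_ext
        · simp only [Category.assoc, prod.lift_fst, Category.comp_id]
        · simp only [Category.assoc, prod.lift_snd, Category.comp_id]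
          rw [hα', hβ', ← Category.assoc, hl1b, hR2, ← Category.assoc, hl1a]
      have hlE : sqE.lift _ _ hwE ≫ (yon S).map ι = sq₁.lift d (sqR.lift _ _ hwR) hR1.symm :=
        sqE.lift_snd _ _ _
      have hd : sqE.lift _ _ hwE ≫ (yon S).map e' = d := by
        rw [he'', ← Category.assoc, hlE, hl1a]
      refine ⟨sqE.lift _ _ hwE, ?_, hd⟩
      rw [← Category.assoc, hd, ← hc1]
    · intro Q l l' h1 h2
      have hι' : l ≫ (yon S).map ι = l' ≫ (yon S).map ι := by
        apply sq₁.hom_ext
        · rw [Category.assoc, Category.assoc, ← he'', h2]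
        · apply sqR.hom_ext
          · have e1 : ∀ m : Q ⟶ (yon S).obj E',
                ((m ≫ (yon S).map ι) ≫ (yon S).map (pullback.snd v₁ r₁)) ≫ (yon S).map r₁ =
                  (m ≫ (yon S).map e') ≫ (yon S).map v₁ := by
              intro m
              rw [he'']
              simp only [Category.assoc]
              rw [sq₁.w]
            rw [e1 l, e1 l', h2]
          · have e2 : ∀ m : Q ⟶ (yon S).obj E',
                ((m ≫ (yon S).map ι) ≫ (yon S).map (pullback.snd v₁ r₁)) ≫ (yon S).map r₂ =
                  (m ≫ (yon S).map e') ≫ (yon S).map v₂ := by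
              intro m
              calc ((m ≫ (yon S).map ι) ≫ (yon S).map (pullback.snd v₁ r₁)) ≫ (yon S).map r₂
                  = m ≫ ((yon S).map ι ≫ (yon S).map α) := by rw [hα']; simp only [Category.assoc]
                _ = m ≫ ((yon S).map ι ≫ (yon S).map β) := by rw [hαβ]
                _ = (m ≫ (yon S).map e') ≫ (yon S).map v₂ := by
                    rw [hβ', he'']; simp only [Category.assoc]
            rw [e2 l, e2 l', h2]
      apply sqE.hom_ext
      · rw [hε1, ← Category.assoc, ← Category.assoc, hι']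
      · exact hι'
  · rw [he', Over.comp_left]
    have : LocallyOfFiniteType (pullback.fst v₁ r₁).left := inferInstance
    infer_instance

/-- The diagonal of an algebraic space is (representable and) locally of finite type. -/
theorem repWith_lft_diag {X : Sp S} (hX : IsAlgSpace X) : RepWith @LocallyOfFiniteType (Limits.diag X) := by
  apply MorphismProperty.relative.of_exists
  intro T t
  obtain ⟨E, e, ε, sqE⟩ := hX.diag t
  refine ⟨E, ε, e, sqE, ?_⟩
  change LocallyOfFiniteType e.left
  obtain ⟨U, a, hae, has⟩ := hX.atlas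
  obtain ⟨T₁, ρ₁, u₁, hρ₁e, hρ₁s, hρ₁⟩ :=
    exists_etale_cover_through_chart a hae has (IsAlgSpace.yon_obj T) (t ≫ prod.fst)
  obtain ⟨c₁, rfl⟩ := (yon S).map_surjective ρ₁
  obtain ⟨T₂, ρ₂, u₂, hρ₂e, hρ₂s, hρ₂⟩ :=
    exists_etale_cover_through_chart a hae has (IsAlgSpace.yon_obj T₁) ((yon S).map c₁ ≫ t ≫ prod.snd)
  obtain ⟨c₂, rfl⟩ := (yon S).map_surjective ρ₂
  have hc₁e : Etale c₁.left := (repWith_yon_map_iff _ _).1 hρ₁e
  have hc₁s : Surjective c₁.left := (repWith_yon_map_iff _ _).1 hρ₁s
  have hc₂e : Etale c₂.left := (repWith_yon_map_iff _ _).1 hρ₂e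
  have hc₂s : Surjective c₂.left := (repWith_yon_map_iff _ _).1 hρ₂s
  have hce : Etale (c₂ ≫ c₁).left := by rw [Over.comp_left]; infer_instance
  have hcs : Surjective (c₂ ≫ c₁).left := by rw [Over.comp_left]; infer_instance
  obtain ⟨E', e', ε', sq', hlft⟩ := exists_lft_equalizer_of_atlas a hae (c₂ ≫ u₁) u₂
  refine P_of_fppf_cover e (c₂ ≫ c₁) hcs inferInstance inferInstance ?_
  have sq1 : IsPullback ((yon S).map (pullback.fst e (c₂ ≫ c₁)) ≫ ε)
      ((yon S).map (pullback.snd e (c₂ ≫ c₁))) (Limits.diag X) ((yon S).map (c₂ ≫ c₁) ≫ t) :=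
    ((IsPullback.of_hasPullback e (c₂ ≫ c₁)).map (yon S)).paste_horiz sqE
  have ht' : (yon S).map (c₂ ≫ c₁) ≫ t =
      prod.lift ((yon S).map (c₂ ≫ u₁) ≫ a) ((yon S).map u₂ ≫ a) := by
    apply Limits.prod.hom_ext
    · simp only [Category.assoc, prod.lift_fst, Functor.map_comp]
      rw [hρ₁]
    · simp only [Category.assoc, prod.lift_snd, Functor.map_comp]
      rw [← hρ₂]
  rw [ht'] at sq1
  have h3 := P_of_two_pullbacks (RepWith (S := S) @LocallyOfFiniteType) sq1 sq'
    ((repWith_yon_map_iff _ _).2 hlft)
  exact (repWith_yon_map_iff _ _).1 h3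

theorem mono_inf_lft_le_lqf :
    (MorphismProperty.monomorphisms Scheme.{u} ⊓ @LocallyOfFiniteType : MorphismProperty Scheme.{u}) ≤
      @LocallyQuasiFinite := by
  intro A B g hg
  have h1 : Mono g := hg.1
  have h2 : LocallyOfFiniteType g := hg.2
  exact (inferInstance : LocallyQuasiFinite g)

theorem mono_le_separated :
    (MorphismProperty.monomorphisms Scheme.{u} : MorphismProperty Scheme.{u}) ≤ @IsSeparated := by
  intro A B g hg
  have h1 : Mono g := hg
  exact (inferInstance : IsSeparated g)

/-- All the properties of the diagonal of an algebraic space at once, for any base change of it. -/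
theorem repWith_props_of_isPullback_diag {X : Sp S} (hX : IsAlgSpace X) {F G : Sp S} {j : F ⟶ G} {k : F ⟶ X}
    {t : G ⟶ X ⨯ X} (sq : IsPullback k j (Limits.diag X) t) :
    RepWith @LocallyOfFiniteType j ∧ RepWith (MorphismProperty.monomorphisms Scheme.{u}) j ∧
      RepWith @IsSeparated j ∧ RepWith @LocallyQuasiFinite j ∧
      RepWith (@LocallyQuasiFinite ⊓ @LocallyOfFiniteType) j := by
  have h1 : RepWith @LocallyOfFiniteType (Limits.diag X) := repWith_lft_diag hX
  haveI := mono_diag X
  have h2 : RepWith (MorphismProperty.monomorphisms Scheme.{u}) (Limits.diag X) :=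
    repWith_monomorphisms_of_mono _ hX.diag
  have h3 : RepWith @IsSeparated (Limits.diag X) := repWith_mono mono_le_separated _ h2
  have h4 : RepWith @LocallyQuasiFinite (Limits.diag X) :=
    repWith_mono mono_inf_lft_le_lqf _ (repWith_inf _ h2 h1)
  exact ⟨(RepWith (S := S) _).of_isPullback sq h1, (RepWith (S := S) _).of_isPullback sq h2,
    (RepWith (S := S) _).of_isPullback sq h3, (RepWith (S := S) _).of_isPullback sq h4,
    (RepWith (S := S) _).of_isPullback sq (repWith_inf _ h4 h1)⟩

end Groth.Agent.Lib.Helper16
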