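import Mathlib.AlgebraicGeometry.Sites.Fpqc
import Mathlib.AlgebraicGeometry.Morphisms.UniversallyOpen
import Mathlib.AlgebraicGeometry.PullbackCarrier

/-!
# Helper library (helper16): fpqc coverings are submersive (a subset is open iff its preimages are)
-/

set_option autoImplicit false
universe u
open CategoryTheory CategoryTheory.Limits AlgebraicGeometry Opposite Topology MorphismProperty

namespace Groth.Agent.Lib.Helper16

/-- A subset of the base of a quasi-compact flat cover is open as soon as all its preimages are open. -/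
theorem isOpen_of_quasiCompactCover {T : Scheme.{u}} (E : PreZeroHypercover.{u} T) [QuasiCompactCover E]
    (hflat : ∀ i, Flat (E.f i)) (s : Set T) (hs : ∀ i, IsOpen ((E.f i) ⁻¹' s)) : IsOpen s := by
  rw [isOpen_iff_forall_mem_open]
  intro x hx
  obtain ⟨U, hU', hxU⟩ : ∃ U : T.Opens, IsAffineOpen U ∧ x ∈ U := by
    obtain ⟨_, ⟨U, hU, rfl⟩, hxU, -⟩ :=
      T.isBasis_affineOpens.exists_subset_of_mem_open (Set.mem_univ x) isOpen_univ
    exact ⟨U, hU, hxU⟩
  refine ⟨s ∩ U, Set.inter_subset_left, ?_, ⟨hx, hxU⟩⟩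
  obtain ⟨n, a, V, hV, hVU⟩ := QuasiCompactCover.exists_isAffineOpen_of_isCompact E hU'.isCompact
  haveI : ∀ k, IsAffine ((V k : (E.X (a k)).Opens) : Scheme.{u}) := hV
  haveI : ∀ k, Flat ((V k).ι ≫ E.f (a k)) := fun k => by
    haveI := hflat (a k)
    infer_instance
  obtain ⟨p, hpι, hpflat⟩ : ∃ p : (∐ fun k : Fin n => ((V k : (E.X (a k)).Opens) : Scheme.{u})) ⟶ T,
      (∀ k, Sigma.ι _ k ≫ p = (V k).ι ≫ E.f (a k)) ∧ Flat p :=
    ⟨Sigma.desc fun k => (V k).ι ≫ E.f (a k), fun k => Sigma.ι_desc _ _, inferInstance⟩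
  have hrange : Set.range p = U := by
    rw [← hVU]
    ext y
    simp only [Set.mem_range, Set.mem_iUnion, Set.mem_image]
    constructor
    · rintro ⟨z, rfl⟩
      have hcov : ∃ (k : Fin n) (z' : ((V k : (E.X (a k)).Opens) : Scheme.{u})),
          (Sigma.ι (fun k : Fin n => ((V k : (E.X (a k)).Opens) : Scheme.{u})) k) z' = z :=
        (sigmaOpenCover fun k : Fin n => ((V k : (E.X (a k)).Opens) : Scheme.{u})).exists_eq z
      obtain ⟨k, z', rfl⟩ := hcov
      refine ⟨k, (V k).ι z', z'.2, ?_⟩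
      rw [← Scheme.Hom.comp_apply, ← Scheme.Hom.comp_apply, hpι k]
    · rintro ⟨k, t, ht, rfl⟩
      refine ⟨(Sigma.ι (fun k : Fin n => ((V k : (E.X (a k)).Opens) : Scheme.{u})) k) ⟨t, ht⟩, ?_⟩
      rw [← Scheme.Hom.comp_apply, hpι, Scheme.Hom.comp_apply]
      rfl
  have hsub : Set.range p ⊆ Set.range U.ι := by rw [Scheme.Opens.range_ι, hrange]
  obtain ⟨p', hp'⟩ : ∃ p' : _ ⟶ (U : Scheme.{u}), p' ≫ U.ι = p :=
    ⟨IsOpenImmersion.lift U.ι p hsub, IsOpenImmersion.lift_fac _ _ _⟩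
  haveI : Flat p' := MorphismProperty.of_postcomp (W := @Flat) (W' := @IsOpenImmersion) p' U.ι
    inferInstance (by rw [hp']; exact hpflat)
  haveI : Surjective p' := ⟨fun w => by
    have hw : U.ι w ∈ Set.range p := by
      rw [hrange]
      exact w.2
    obtain ⟨z, hz⟩ := hw
    exact ⟨z, U.ι.isOpenEmbedding.injective (by rw [← Scheme.Hom.comp_apply, hp', hz])⟩⟩
  haveI : IsAffine (U : Scheme.{u}) := hU'
  have hq : Topology.IsQuotientMap p' := Flat.isQuotientMap_of_surjective p'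
  have h1 : s ∩ U = U.ι '' (U.ι ⁻¹' s) := by
    rw [Set.image_preimage_eq_inter_range, Scheme.Opens.range_ι]
  rw [h1]
  apply U.ι.isOpenEmbedding.isOpenMap
  rw [← hq.isOpen_preimage]
  have h2 : p' ⁻¹' (U.ι ⁻¹' s) = p ⁻¹' s := by
    ext z
    simp only [Set.mem_preimage]
    rw [← Scheme.Hom.comp_apply, hp']
  rw [h2]
  rw [(sigmaOpenCover fun k : Fin n =>
    ((V k : (E.X (a k)).Opens) : Scheme.{u})).isOpenCover_opensRange.isOpen_iff_inter]
  intro (k : Fin n)
  rw [Scheme.Hom.coe_opensRange, ← Set.image_preimage_eq_inter_range]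
  apply (Scheme.Hom.isOpenEmbedding _).isOpenMap
  have h3 : (Sigma.ι (fun k : Fin n => ((V k : (E.X (a k)).Opens) : Scheme.{u})) k) ⁻¹' (p ⁻¹' s) =
      (V k).ι ⁻¹' ((E.f (a k)) ⁻¹' s) := by
    ext z
    simp only [Set.mem_preimage]
    rw [← Scheme.Hom.comp_apply, hpι, Scheme.Hom.comp_apply]
  show IsOpen ((Sigma.ι (fun k : Fin n => ((V k : (E.X (a k)).Opens) : Scheme.{u})) k) ⁻¹' (p ⁻¹' s))
  rw [h3]
  exact (hs (a k)).preimage (V k).ι.continuous

/-- A subset of the base of an fpqc covering is open as soon as all its preimages are open. -/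
theorem isOpen_of_fpqc_cover {T : Scheme.{u}} {ι : Type u} {Ti : ι → Scheme.{u}} (f : ∀ i, Ti i ⟶ T)
    (hf : Presieve.ofArrows Ti f ∈ Scheme.fpqcPrecoverage T) (s : Set T)
    (hs : ∀ i, IsOpen ((f i) ⁻¹' s)) : IsOpen s := by
  haveI : QuasiCompactCover (⟨ι, Ti, f⟩ : PreZeroHypercover.{u} T) :=
    Scheme.presieve₀_mem_qcPrecoverage_iff.1 hf.1
  have hflat : ∀ i, Flat (f i) := ((Scheme.ofArrows_mem_precoverage_iff (P := @Flat)).1 hf.2).2
  exact isOpen_of_quasiCompactCover ⟨ι, Ti, f⟩ hflat s hs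

/-- The members of an fpqc covering are jointly surjective. -/
theorem fpqc_cover_surjective {T : Scheme.{u}} {ι : Type u} {Ti : ι → Scheme.{u}} (f : ∀ i, Ti i ⟶ T)
    (hf : Presieve.ofArrows Ti f ∈ Scheme.fpqcPrecoverage T) : ∀ x : T, ∃ i, x ∈ Set.range (f i) :=
  ((Scheme.ofArrows_mem_precoverage_iff (P := @Flat)).1 hf.2).1

end Groth.Agent.Lib.Helper16
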