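import Groth.Agent.Lib.Helper16.QuasiCompact

/-!
# Helper library (helper16): universal topological properties of morphisms of sheaves, etale locality on the base
-/

set_option autoImplicit false
universe u
open CategoryTheory CategoryTheory.Limits AlgebraicGeometry Opposite Topology

namespace Groth.Agent.Lib.Helper16

open AlgSp

section Top

variable {A B : Type*} [TopologicalSpace A] [TopologicalSpace B] (f : A → B)
variable {ι : Type*} {Ai Bi : ι → Type*} [∀ i, TopologicalSpace (Ai i)] [∀ i, TopologicalSpace (Bi i)]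
  (σ : ∀ i, Ai i → A) (ρ : ∀ i, Bi i → B) (fi : ∀ i, Ai i → Bi i)

theorem top_preimage_image_cover (comm : ∀ i x, f (σ i x) = ρ i (fi i x))
    (cart : ∀ i (a : A) (b : Bi i), f a = ρ i b → ∃ x, σ i x = a ∧ fi i x = b) (i : ι) (C : Set A) :
    ρ i ⁻¹' (f '' C) = fi i '' (σ i ⁻¹' C) := by
  ext b
  constructor
  · rintro ⟨a, ha, hab⟩
    obtain ⟨x, hx1, hx2⟩ := cart i a b hab
    exact ⟨x, by simpa [hx1] using ha, hx2⟩
  · rintro ⟨x, hx, rfl⟩
    exact ⟨σ i x, hx, comm i x⟩

theorem top_isOpen_of_cover (hρo : ∀ i, IsOpenMap (ρ i)) (hs : ∀ b : B, ∃ i x, ρ i x = b) (O : Set B)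
    (h : ∀ i, IsOpen (ρ i ⁻¹' O)) : IsOpen O := by
  have : O = ⋃ i, ρ i '' (ρ i ⁻¹' O) := by
    ext b
    constructor
    · intro hb
      obtain ⟨i, x, rfl⟩ := hs b
      exact Set.mem_iUnion.2 ⟨i, x, hb, rfl⟩
    · intro hb
      obtain ⟨i, x, hx, rfl⟩ := Set.mem_iUnion.1 hb
      exact hx
  rw [this]
  exact isOpen_iUnion fun i => hρo i _ (h i)

theorem top_isOpenMap_of_cover (comm : ∀ i x, f (σ i x) = ρ i (fi i x))
    (cart : ∀ i (a : A) (b : Bi i), f a = ρ i b → ∃ x, σ i x = a ∧ fi i x = b)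
    (hσ : ∀ i, Continuous (σ i)) (hρo : ∀ i, IsOpenMap (ρ i)) (hs : ∀ b : B, ∃ i x, ρ i x = b)
    (h : ∀ i, IsOpenMap (fi i)) : IsOpenMap f := by
  intro U hU
  apply top_isOpen_of_cover ρ hρo hs
  intro i
  rw [top_preimage_image_cover f σ ρ fi comm cart]
  exact h i _ (hU.preimage (hσ i))

theorem top_isClosedMap_of_cover (comm : ∀ i x, f (σ i x) = ρ i (fi i x))
    (cart : ∀ i (a : A) (b : Bi i), f a = ρ i b → ∃ x, σ i x = a ∧ fi i x = b)
    (hσ : ∀ i, Continuous (σ i)) (hρo : ∀ i, IsOpenMap (ρ i)) (hs : ∀ b : B, ∃ i x, ρ i x = b)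
    (h : ∀ i, IsClosedMap (fi i)) : IsClosedMap f := by
  intro C hC
  rw [← isOpen_compl_iff]
  apply top_isOpen_of_cover ρ hρo hs
  intro i
  rw [Set.preimage_compl, top_preimage_image_cover f σ ρ fi comm cart, isOpen_compl_iff]
  exact h i _ (hC.preimage (hσ i))

theorem top_injective_of_cover
    (cart : ∀ i (a : A) (b : Bi i), f a = ρ i b → ∃ x, σ i x = a ∧ fi i x = b)
    (hs : ∀ b : B, ∃ i x, ρ i x = b)
    (h : ∀ i, Function.Injective (fi i)) : Function.Injective f := by
  intro a a' haa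
  obtain ⟨i, x, hx⟩ := hs (f a)
  obtain ⟨y, hy1, hy2⟩ := cart i a x hx.symm
  obtain ⟨y', hy1', hy2'⟩ := cart i a' x (haa ▸ hx.symm)
  have : y = y' := h i (hy2.trans hy2'.symm)
  rw [← hy1, ← hy1', this]

theorem top_surjective_of_cover (comm : ∀ i x, f (σ i x) = ρ i (fi i x))
    (hs : ∀ b : B, ∃ i x, ρ i x = b)
    (h : ∀ i, Function.Surjective (fi i)) : Function.Surjective f := by
  intro b
  obtain ⟨i, x, rfl⟩ := hs b
  obtain ⟨y, rfl⟩ := h i x
  exact ⟨σ i y, comm i y⟩

theorem top_isQuotientMap_of_cover (comm : ∀ i x, f (σ i x) = ρ i (fi i x))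
    (hσ : ∀ i, Continuous (σ i)) (hρo : ∀ i, IsOpenMap (ρ i)) (hs : ∀ b : B, ∃ i x, ρ i x = b)
    (hf : Continuous f) (h : ∀ i, IsQuotientMap (fi i)) : IsQuotientMap f := by
  refine ⟨IsCoinducing.of_isOpen_preimage_iff_isOpen fun s => ⟨?_, fun hs' => hs'.preimage hf⟩,
    top_surjective_of_cover f σ ρ fi comm hs fun i => (h i).surjective⟩
  intro hs'
  apply top_isOpen_of_cover ρ hρo hs
  intro i
  rw [← (h i).1.isOpen_preimage]
  have : fi i ⁻¹' (ρ i ⁻¹' s) = σ i ⁻¹' (f ⁻¹' s) := by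
    ext x
    simp only [Set.mem_preimage, comm i x]
  rw [this]
  exact hs'.preimage (hσ i)

end Top

variable {S : Scheme.{u}}

theorem map_eq_ofPt_comp {F : Sp S} {W : Over S} (g : (yon S).obj W ⟶ F) :
    Points.map g = Points.ofPt g ∘ (Points.schemeHomeo W).symm := by
  funext x
  obtain ⟨w, rfl⟩ := (Points.schemeHomeo W).surjective x
  simp only [Function.comp_apply, Homeomorph.symm_apply_apply]
  exact (Points.ofPt_eq_map_ofScheme g w).symm

theorem isOpenMap_map_of_etale {F : Sp S} {W : Over S} (g : (yon S).obj W ⟶ F) (hg : RepWith @Etale g) :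
    IsOpenMap (Points.map g) := by
  rw [map_eq_ofPt_comp]
  exact (isOpenMap_ofPt_of_etale g hg).comp (Points.schemeHomeo W).symm.isOpenMap

/-- A property of morphisms of sheaves is etale local on the base. -/
def IsEtaleLocalOnBase (Q : MorphismProperty (Sp S)) : Prop :=
  ∀ ⦃Z' Z : Sp S⦄ (π : Z' ⟶ Z) ⦃ι : Type u⦄ (W : ι → Over S) (ρ : ∀ i, (yon S).obj (W i) ⟶ Z),
    (∀ i, RepWith @Etale (ρ i)) → (∀ z : Points Z, ∃ i w, Points.ofPt (ρ i) w = z) →
    (∀ i, Q (pullback.snd π (ρ i))) → Q π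

section Cover

variable {Z' Z : Sp S} (π : Z' ⟶ Z) {ι : Type u} {W : ι → Over S} (ρ : ∀ i, (yon S).obj (W i) ⟶ Z)

theorem cover_comm (i : ι) (x : Points (pullback π (ρ i))) :
    Points.map π (Points.map (pullback.fst π (ρ i)) x) =
      Points.map (ρ i) (Points.map (pullback.snd π (ρ i)) x) := by
  rw [← Points.map_comp, ← Points.map_comp, pullback.condition]

theorem cover_cart (i : ι) (a : Points Z') (b : Points ((yon S).obj (W i)))
    (h : Points.map π a = Points.map (ρ i) b) :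
    ∃ x : Points (pullback π (ρ i)), Points.map (pullback.fst π (ρ i)) x = a ∧
      Points.map (pullback.snd π (ρ i)) x = b :=
  exists_point_of_isPullback (IsPullback.of_hasPullback π (ρ i)) a b h

theorem cover_surj (hs : ∀ z : Points Z, ∃ i w, Points.ofPt (ρ i) w = z) (z : Points Z) :
    ∃ i x, Points.map (ρ i) x = z := by
  obtain ⟨i, w, rfl⟩ := hs z
  exact ⟨i, Points.ofScheme _ w, (Points.ofPt_eq_map_ofScheme _ w).symm⟩

end Cover

theorem isEtaleLocalOnBase_isOpenMor : IsEtaleLocalOnBase (IsOpenMor (S := S)) := by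
  intro Z' Z π ι W ρ hρ hs h
  exact top_isOpenMap_of_cover (Points.map π) (fun i => Points.map (pullback.fst π (ρ i)))
    (fun i => Points.map (ρ i)) (fun i => Points.map (pullback.snd π (ρ i))) (cover_comm π ρ) (cover_cart π ρ)
    (fun i => Points.continuous_map _) (fun i => isOpenMap_map_of_etale _ (hρ i)) (cover_surj ρ hs) h

theorem isEtaleLocalOnBase_isClosedMor : IsEtaleLocalOnBase (IsClosedMor (S := S)) := by
  intro Z' Z π ι W ρ hρ hs h
  exact top_isClosedMap_of_cover (Points.map π) (fun i => Points.map (pullback.fst π (ρ i)))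
    (fun i => Points.map (ρ i)) (fun i => Points.map (pullback.snd π (ρ i))) (cover_comm π ρ) (cover_cart π ρ)
    (fun i => Points.continuous_map _) (fun i => isOpenMap_map_of_etale _ (hρ i)) (cover_surj ρ hs) h

theorem isEtaleLocalOnBase_injective :
    IsEtaleLocalOnBase (fun (_ _ : Sp S) f => Function.Injective (Points.map f)) := by
  intro Z' Z π ι W ρ hρ hs h
  exact top_injective_of_cover (Points.map π) (fun i => Points.map (pullback.fst π (ρ i)))
    (fun i => Points.map (ρ i)) (fun i => Points.map (pullback.snd π (ρ i))) (cover_cart π ρ)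
    (cover_surj ρ hs) h

theorem isEtaleLocalOnBase_surjective : IsEtaleLocalOnBase (IsSurjectiveMor (S := S)) := by
  intro Z' Z π ι W ρ hρ hs h
  exact top_surjective_of_cover (Points.map π) (fun i => Points.map (pullback.fst π (ρ i)))
    (fun i => Points.map (ρ i)) (fun i => Points.map (pullback.snd π (ρ i))) (cover_comm π ρ)
    (cover_surj ρ hs) h

theorem isEtaleLocalOnBase_isSubmersiveMor : IsEtaleLocalOnBase (IsSubmersiveMor (S := S)) := by
  intro Z' Z π ι W ρ hρ hs h
  exact top_isQuotientMap_of_cover (Points.map π) (fun i => Points.map (pullback.fst π (ρ i)))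
    (fun i => Points.map (ρ i)) (fun i => Points.map (pullback.snd π (ρ i))) (cover_comm π ρ)
    (fun i => Points.continuous_map _) (fun i => isOpenMap_map_of_etale _ (hρ i)) (cover_surj ρ hs)
    (Points.continuous_map π) h

theorem isEtaleLocalOnBase_isHomeomorph :
    IsEtaleLocalOnBase (fun (_ _ : Sp S) f => IsHomeomorph (Points.map f)) := by
  intro Z' Z π ι W ρ hρ hs h
  refine ⟨Points.continuous_map π, isEtaleLocalOnBase_isOpenMor π W ρ hρ hs fun i => (h i).isOpenMap,
    isEtaleLocalOnBase_injective π W ρ hρ hs fun i => (h i).injective,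
    isEtaleLocalOnBase_surjective π W ρ hρ hs fun i => (h i).surjective⟩

/-- The general criterion: a property etale local on the base holds universally (over algebraic spaces) as soon as
it holds after base change to a class of test schemes which etale-locally covers every algebraic space over the
target. -/
theorem univSp_of_tests {Q : MorphismProperty (Sp S)} (hQ : IsEtaleLocalOnBase Q) {F G : Sp S} (f : F ⟶ G)
    (𝒞 : ∀ T : Over S, ((yon S).obj T ⟶ G) → Prop)
    (hcov : ∀ ⦃Z : Sp S⦄, IsAlgSpace Z → ∀ g : Z ⟶ G, ∃ (ι : Type u) (W : ι → Over S)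
      (ρ : ∀ i, (yon S).obj (W i) ⟶ Z), (∀ i, RepWith @Etale (ρ i)) ∧
        (∀ z : Points Z, ∃ i w, Points.ofPt (ρ i) w = z) ∧ ∀ i, 𝒞 (W i) (ρ i ≫ g))
    (h : ∀ (T : Over S) (t : (yon S).obj T ⟶ G), 𝒞 T t → ∀ (P : Sp S) (fst : P ⟶ F)
      (snd : P ⟶ (yon S).obj T), IsPullback fst snd f t → Q snd) :
    UnivSp Q f := by
  intro Z Z' hZ g fst snd sq
  obtain ⟨ι, W, ρ, hρ, hs, hC⟩ := hcov hZ g
  refine hQ snd W ρ hρ hs fun i => ?_
  exact h (W i) (ρ i ≫ g) (hC i) _ _ _ ((IsPullback.of_hasPullback snd (ρ i)).paste_horiz sq)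

/-- Every algebraic space is covered by etale charts from affine schemes. -/
theorem exists_affine_etale_cover {Z : Sp S} (hZ : IsAlgSpace Z) :
    ∃ (ι : Type u) (W : ι → Over S) (ρ : ∀ i, (yon S).obj (W i) ⟶ Z), (∀ i, RepWith @Etale (ρ i)) ∧
      (∀ z : Points Z, ∃ i w, Points.ofPt (ρ i) w = z) ∧ ∀ i, IsAffine (W i).left := by
  obtain ⟨V, q, hqe, hqs⟩ := hZ.atlas
  refine ⟨V.left.affineOpens, fun i => overOpen V i.1, fun i => (yon S).map (overOpenι V i.1) ≫ q,
    fun i => repWith_etale_restrict q hqe i.1, ?_, fun i => i.2⟩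
  intro z
  obtain ⟨v, rfl⟩ := ofPt_surjective_of_surjective q hqs z
  obtain ⟨W, hW, hv, -⟩ := (TopologicalSpace.Opens.isBasis_iff_nbhd.mp V.left.isBasis_affineOpens)
    (show v ∈ (⊤ : V.left.Opens) from trivial)
  refine ⟨⟨W, hW⟩, (⟨v, hv⟩ : ↥W), ?_⟩
  rw [ofPt_restrict]
  rfl

/-- A property etale local on the base holds universally iff it holds after every base change to an affine
scheme. -/
theorem univSp_iff_affine {Q : MorphismProperty (Sp S)} (hQ : IsEtaleLocalOnBase Q) {F G : Sp S} (f : F ⟶ G) :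
    UnivSp Q f ↔ ∀ (Z : Over S), IsAffine Z.left → ∀ (g : (yon S).obj Z ⟶ G) (P : Sp S)
      (fst : P ⟶ F) (snd : P ⟶ (yon S).obj Z), IsPullback fst snd f g → Q snd := by
  constructor
  · intro h Z _ g P fst snd sq
    exact h (IsAlgSpace.yon_obj Z) g fst snd sq
  · intro h
    refine univSp_of_tests hQ f (fun T _ => IsAffine T.left) ?_ fun T t hT P fst snd sq => h T hT t P fst snd sq
    intro Z hZ g
    obtain ⟨ι, W, ρ, h1, h2, h3⟩ := exists_affine_etale_cover hZ
    exact ⟨ι, W, ρ, h1, h2, h3⟩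

/-- Every algebraic space over the target of an etale surjective chart `p : h_V ⟶ G` is etale-covered by a scheme
mapping to `V`. -/
theorem exists_etale_cover_through_chart {G : Sp S} {V : Over S} (p : (yon S).obj V ⟶ G)
    (hp : RepWith @Etale p) (hps : RepWith @Surjective p) {Z : Sp S} (hZ : IsAlgSpace Z) (g : Z ⟶ G) :
    ∃ (W : Over S) (ρ : (yon S).obj W ⟶ Z) (t : W ⟶ V), RepWith @Etale ρ ∧ RepWith @Surjective ρ ∧
      ρ ≫ g = (yon S).map t ≫ p := by
  obtain ⟨Z₀, q, hqe, hqs⟩ := hZ.atlas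
  have sq := hp.rep.isPullback (q ≫ g)
  obtain ⟨t, ht⟩ := (yon S).map_surjective (hp.rep.fst (q ≫ g))
  rw [← ht] at sq
  have he : Etale (hp.rep.snd (q ≫ g)).left := hp.property_snd (q ≫ g)
  have hsj : Surjective (hp.rep.snd (q ≫ g)).left := hps.property _ _ _ (hp.rep.isPullback (q ≫ g))
  refine ⟨_, (yon S).map (hp.rep.snd (q ≫ g)) ≫ q, t, ?_, ?_, ?_⟩
  · exact (RepWith @Etale).comp_mem _ _ ((repWith_yon_map_iff _ _).2 he) hqe
  · exact (RepWith @Surjective).comp_mem _ _ ((repWith_yon_map_iff _ _).2 hsj) hqs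
  · rw [Category.assoc, sq.w]

/-- Descent of a universal property along an etale surjective chart of the target. -/
theorem univSp_of_chart {Q : MorphismProperty (Sp S)} (hQ : IsEtaleLocalOnBase Q) {F G : Sp S} (f : F ⟶ G)
    {V : Over S} (p : (yon S).obj V ⟶ G) (hp : RepWith @Etale p) (hps : RepWith @Surjective p)
    {P : Sp S} (fst : P ⟶ F) (snd : P ⟶ (yon S).obj V) (sq : IsPullback fst snd f p)
    (h : UnivSp Q snd) : UnivSp Q f := by
  refine univSp_of_tests hQ f (fun T t => ∃ t' : T ⟶ V, t = (yon S).map t' ≫ p) ?_ ?_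
  · intro Z hZ g
    obtain ⟨W, ρ, t, h1, h2, h3⟩ := exists_etale_cover_through_chart p hp hps hZ g
    exact ⟨PUnit, fun _ => W, fun _ => ρ, fun _ => h1,
      fun z => ⟨PUnit.unit, ofPt_surjective_of_surjective ρ h2 z⟩, fun _ => ⟨t, h3⟩⟩
  · rintro T _ ⟨t', rfl⟩ P' fst' snd' sq'
    have hw : sq.lift fst' (snd' ≫ (yon S).map t') (by rw [sq'.w, Category.assoc]) ≫ snd =
        snd' ≫ (yon S).map t' := sq.lift_snd _ _ _
    refine h (IsAlgSpace.yon_obj T) ((yon S).map t') (sq.lift fst' (snd' ≫ (yon S).map t')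
      (by rw [sq'.w, Category.assoc])) snd' ?_
    refine IsPullback.of_right ?_ hw sq
    rw [sq.lift_fst]
    exact sq'

end Groth.Agent.Lib.Helper16
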