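import Groth.Agent.Lib.Helper16.QuasiCompactMor
import Groth.Agent.Lib.Helper16.Univ

/-!
# Helper library (helper16): descent of quasi-compactness of morphisms of algebraic spaces
-/

set_option autoImplicit false
universe u
open CategoryTheory CategoryTheory.Limits AlgebraicGeometry Opposite Topology

namespace Groth.Agent.Lib.Helper16

open AlgSp

variable {S : Scheme.{u}}

/-- If `c : h_T ⟶ Z` is open and surjective on points and `|Z|` is quasi-compact, a quasi-compact open of `T`
already surjects onto `|Z|`. -/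
theorem exists_compact_open_surjective {Z : Sp S} [CompactSpace (Points Z)] {T : Over S} (c : (yon S).obj T ⟶ Z)
    (hopen : IsOpenMap (Points.ofPt c)) (hsurj : Function.Surjective (Points.ofPt c)) :
    ∃ W : T.left.Opens, IsCompact (W : Set ↥T.left) ∧ ∀ z : Points Z, ∃ w ∈ W, Points.ofPt c w = z := by
  have hex : ∀ v : ↥T.left, ∃ W : T.left.Opens, IsAffineOpen W ∧ v ∈ W := by
    intro v
    obtain ⟨W, hW, hv, -⟩ := (TopologicalSpace.Opens.isBasis_iff_nbhd.mp T.left.isBasis_affineOpens)
      (show v ∈ (⊤ : T.left.Opens) from trivial)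
    exact ⟨W, hW, hv⟩
  choose W hWa hvW using hex
  have hcover : (Set.univ : Set (Points Z)) ⊆ ⋃ v, Points.ofPt c '' (W v : Set ↥T.left) := by
    intro x _
    obtain ⟨v, rfl⟩ := hsurj x
    exact Set.mem_iUnion.2 ⟨v, v, hvW v, rfl⟩
  obtain ⟨t, ht⟩ := isCompact_univ.elim_finite_subcover _ (fun v => hopen _ (W v).isOpen) hcover
  refine ⟨⨆ v ∈ t, W v, ?_, fun z => ?_⟩
  · have : ((⨆ v ∈ t, W v : T.left.Opens) : Set ↥T.left) = ⋃ v ∈ t, (W v : Set ↥T.left) := by simp
    rw [this]
    exact t.isCompact_biUnion fun v _ => (hWa v).isCompact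
  · obtain ⟨v, hv⟩ := Set.mem_iUnion.1 (ht (Set.mem_univ z))
    obtain ⟨hvt, w, hw, rfl⟩ := Set.mem_iUnion.1 hv
    exact ⟨w, TopologicalSpace.Opens.mem_iSup.2 ⟨v, TopologicalSpace.Opens.mem_iSup.2 ⟨hvt, hw⟩⟩, rfl⟩

/-- The descent criterion. -/
theorem isQuasiCompactMor_of_base_change {X Y X' Y' : Sp S} (hX : IsAlgSpace X)
    (hY : Representable (Limits.diag Y)) (f : X ⟶ Y) (g : Y' ⟶ Y) (fst' : X' ⟶ X) (f' : X' ⟶ Y')
    (sq' : IsPullback fst' f' f g) (hf' : IsQuasiCompactMor f')
    (hW : ∀ (Z : Over S), IsAffine Z.left → ∀ (z : (yon S).obj Z ⟶ Y), ∃ (W : Over S) (w : W ⟶ Z)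
      (ω : (yon S).obj W ⟶ Y'), CompactSpace ↥W.left ∧ Function.Surjective w.left ∧
        ω ≫ g = (yon S).map w ≫ z) :
    IsQuasiCompactMor f := by
  apply isQuasiCompactMor_of_affine hX hY
  intro Z hZ z P fst snd sq
  obtain ⟨W, w, ω, hWc, hws, hω⟩ := hW Z hZ z
  have hP : IsAlgSpace P := isAlgSpace_of_isPullback hX hY (IsAlgSpace.yon_obj Z) sq
  have sqW : IsPullback (pullback.fst snd ((yon S).map w) ≫ fst) (pullback.snd snd ((yon S).map w)) f
      (ω ≫ g) := by
    rw [hω]
    exact (IsPullback.of_hasPullback snd ((yon S).map w)).paste_horiz sq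
  have hl : sq'.lift (pullback.fst snd ((yon S).map w) ≫ fst) (pullback.snd snd ((yon S).map w) ≫ ω)
      (sqW.w.trans (Category.assoc _ _ _).symm) ≫ f' = pullback.snd snd ((yon S).map w) ≫ ω := sq'.lift_snd _ _ _
  have sql : IsPullback (sq'.lift (pullback.fst snd ((yon S).map w) ≫ fst)
      (pullback.snd snd ((yon S).map w) ≫ ω) (sqW.w.trans (Category.assoc _ _ _).symm))
      (pullback.snd snd ((yon S).map w)) f' ω := by
    refine IsPullback.of_right ?_ hl sq'
    rw [sq'.lift_fst]
    exact sqW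
  have hPW : IsQuasiCompactSp (pullback snd ((yon S).map w)) :=
    hf' (IsAlgSpace.yon_obj W) (isQuasiCompactSp_yon_of_compactSpace W) ω _ _ sql
  have := compactSpace_points_of_isQuasiCompactSp hPW
  have hsurj : Function.Surjective (Points.map (pullback.fst snd ((yon S).map w))) := by
    intro x
    obtain ⟨z₀, hz₀⟩ := (Points.schemeHomeo Z).surjective (Points.map snd x)
    obtain ⟨w₀, rfl⟩ := hws z₀
    obtain ⟨y, hy, -⟩ := exists_point_of_isPullback (IsPullback.of_hasPullback snd ((yon S).map w)) x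
      (Points.ofScheme W w₀) (by rw [map_yon_map_ofScheme]; exact hz₀.symm)
    exact ⟨y, hy⟩
  have : CompactSpace (Points P) := by
    constructor
    have h1 := isCompact_range (Points.continuous_map (pullback.fst snd ((yon S).map w)))
    rwa [hsurj.range_eq] at h1
  exact isQuasiCompactSp_of_compactSpace hP

/-- Restriction of a morphism of schemes to an open of the source, surjectivity. -/
theorem compactSpace_overOpen {T : Over S} (W : T.left.Opens) (hW : IsCompact (W : Set ↥T.left)) :
    CompactSpace ↥(overOpen T W).left := isCompact_iff_compactSpace.mp hW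

/-- Quasi-compactness descends along an etale surjective base change of algebraic spaces. -/
theorem isQuasiCompactMor_of_etale_surjective_base {X Y X' Y' : Sp S} (hX : IsAlgSpace X)
    (hY : Representable (Limits.diag Y)) (hY' : IsAlgSpace Y') (f : X ⟶ Y) (g : Y' ⟶ Y) (fst' : X' ⟶ X)
    (f' : X' ⟶ Y') (sq' : IsPullback fst' f' f g) (hg : IsEtaleMor g) (hgs : IsSurjectiveMor g)
    (hf' : IsQuasiCompactMor f') : IsQuasiCompactMor f := by
  refine isQuasiCompactMor_of_base_change hX hY f g fst' f' sq' hf' ?_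
  intro Z hZ z
  obtain ⟨V', a', ha'e, ha's⟩ := hY'.atlas
  have hc : RepWith @Etale (a' ≫ g) := hg a' ha'e
  obtain ⟨T, cT, τ₀, sqT⟩ := hc.rep z
  obtain ⟨τ, rfl⟩ := (yon S).map_surjective τ₀
  have hcTe : Etale cT.left := hc.property _ _ _ sqT
  have hcs : Function.Surjective (Points.map (a' ≫ g)) := by
    intro y
    obtain ⟨y', rfl⟩ := hgs y
    obtain ⟨v, rfl⟩ := ofPt_surjective_of_surjective a' ha's y'
    exact ⟨Points.ofScheme V' v, by rw [← Points.ofPt_eq_map_ofScheme, Points.map_ofPt]⟩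
  have hcs' : RepWith @Surjective (a' ≫ g) := (repWith_surjective_iff _ hc.rep).2 hcs
  have hcTs : Surjective cT.left := hcs'.property _ _ _ sqT
  have hZc : CompactSpace (Points ((yon S).obj Z)) := (Points.schemeHomeo Z).compactSpace
  have hTe : RepWith @Etale ((yon S).map cT) := (repWith_yon_map_iff _ _).2 hcTe
  have hTs : RepWith @Surjective ((yon S).map cT) := (repWith_yon_map_iff _ _).2 hcTs
  obtain ⟨W, hWc, hWs⟩ := exists_compact_open_surjective ((yon S).map cT) (isOpenMap_ofPt_of_etale _ hTe)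
    (ofPt_surjective_of_surjective _ hTs)
  refine ⟨overOpen T W, overOpenι T W ≫ cT, (yon S).map (overOpenι T W ≫ τ) ≫ a',
    compactSpace_overOpen W hWc, ?_, ?_⟩
  · intro z₀
    obtain ⟨w, hw, hwz⟩ := hWs (Points.ofScheme Z z₀)
    refine ⟨(⟨w, hw⟩ : ↥W), ?_⟩
    apply ofScheme_injective Z
    rw [← hwz, Points.ofPt_eq_map_ofScheme, map_yon_map_ofScheme]
    rfl
  · rw [Functor.map_comp, Functor.map_comp, Category.assoc, Category.assoc, Category.assoc, sqT.w]

/-- Quasi-compactness descends along a universally open surjective base change of algebraic spaces. -/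
theorem isQuasiCompactMor_of_univOpen_surjective_base {X Y X' Y' : Sp S} (hX : IsAlgSpace X)
    (hY : Representable (Limits.diag Y)) (hY' : IsAlgSpace Y') (f : X ⟶ Y) (g : Y' ⟶ Y) (fst' : X' ⟶ X)
    (f' : X' ⟶ Y') (sq' : IsPullback fst' f' f g) (hg : IsUnivOpenMor g) (hgs : IsSurjectiveMor g)
    (hf' : IsQuasiCompactMor f') : IsQuasiCompactMor f := by
  refine isQuasiCompactMor_of_base_change hX hY f g fst' f' sq' hf' ?_
  intro Z hZ z
  have sqZ := IsPullback.of_hasPullback z g
  have hZ' : IsAlgSpace (pullback z g) := isAlgSpace_of_isPullback (IsAlgSpace.yon_obj Z) hY hY' sqZ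
  have hopen : IsOpenMap (Points.map (pullback.fst z g)) := hg (IsAlgSpace.yon_obj Z) z _ _ sqZ.flip
  have hsurj : Function.Surjective (Points.map (pullback.fst z g)) := by
    intro x
    obtain ⟨y', hy'⟩ := hgs (Points.map z x)
    obtain ⟨p, hp, -⟩ := exists_point_of_isPullback sqZ x y' hy'.symm
    exact ⟨p, hp⟩
  obtain ⟨T, a, hae, has⟩ := hZ'.atlas
  obtain ⟨cT, hcT⟩ := (yon S).map_surjective (a ≫ pullback.fst z g)
  have hZc : CompactSpace (Points ((yon S).obj Z)) := (Points.schemeHomeo Z).compactSpace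
  have hco : IsOpenMap (Points.ofPt ((yon S).map cT)) := by
    rw [hcT]
    have : Points.ofPt (a ≫ pullback.fst z g) = Points.map (pullback.fst z g) ∘ Points.ofPt a := by
      funext t
      exact (Points.map_ofPt a _ t).symm
    rw [this]
    exact hopen.comp (isOpenMap_ofPt_of_etale a hae)
  have hcs : Function.Surjective (Points.ofPt ((yon S).map cT)) := by
    rw [hcT]
    intro x
    obtain ⟨p, rfl⟩ := hsurj x
    obtain ⟨t, rfl⟩ := ofPt_surjective_of_surjective a has p
    exact ⟨t, (Points.map_ofPt a _ t).symm⟩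
  obtain ⟨W, hWc, hWs⟩ := exists_compact_open_surjective ((yon S).map cT) hco hcs
  refine ⟨overOpen T W, overOpenι T W ≫ cT, (yon S).map (overOpenι T W) ≫ a ≫ pullback.snd z g,
    compactSpace_overOpen W hWc, ?_, ?_⟩
  · intro z₀
    obtain ⟨w, hw, hwz⟩ := hWs (Points.ofScheme Z z₀)
    refine ⟨(⟨w, hw⟩ : ↥W), ?_⟩
    apply ofScheme_injective Z
    rw [← hwz, Points.ofPt_eq_map_ofScheme, map_yon_map_ofScheme]
    rfl
  · rw [Functor.map_comp, Category.assoc, Category.assoc, Category.assoc, hcT, Category.assoc,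
      pullback.condition]

end Groth.Agent.Lib.Helper16
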