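import Groth.Agent.Lib.Helper16.Univ
import Groth.Agent.Lib.Helper16.QuasiCompactMor2
import Groth.Agent.Lib.Helper16.FpqcOpen
import Groth.Agent.Lib.Helper16.DiagProps
import Groth.Prelude.Def_AlgSpCov

/-!
# Helper library (helper16): properties of morphisms of algebraic spaces which are fpqc local on the base
-/

set_option autoImplicit false
universe u
open CategoryTheory CategoryTheory.Limits AlgebraicGeometry Opposite Topology MorphismProperty

namespace Groth.Agent.Lib.Helper16

open AlgSp

section Top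

variable {A B : Type*} [TopologicalSpace A] [TopologicalSpace B] (f : A → B)
variable {ι : Type*} {Ai Bi : ι → Type*} [∀ i, TopologicalSpace (Ai i)] [∀ i, TopologicalSpace (Bi i)]
  (σ : ∀ i, Ai i → A) (ρ : ∀ i, Bi i → B) (fi : ∀ i, Ai i → Bi i)

theorem top_isOpenMap_of_sub (comm : ∀ i x, f (σ i x) = ρ i (fi i x))
    (cart : ∀ i (a : A) (b : Bi i), f a = ρ i b → ∃ x, σ i x = a ∧ fi i x = b)
    (hσ : ∀ i, Continuous (σ i))
    (hsub : ∀ O : Set B, (∀ i, IsOpen (ρ i ⁻¹' O)) → IsOpen O)
    (h : ∀ i, IsOpenMap (fi i)) : IsOpenMap f := by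
  intro U hU
  apply hsub
  intro i
  rw [top_preimage_image_cover f σ ρ fi comm cart]
  exact h i _ (hU.preimage (hσ i))

theorem top_isClosedMap_of_sub (comm : ∀ i x, f (σ i x) = ρ i (fi i x))
    (cart : ∀ i (a : A) (b : Bi i), f a = ρ i b → ∃ x, σ i x = a ∧ fi i x = b)
    (hσ : ∀ i, Continuous (σ i))
    (hsub : ∀ O : Set B, (∀ i, IsOpen (ρ i ⁻¹' O)) → IsOpen O)
    (h : ∀ i, IsClosedMap (fi i)) : IsClosedMap f := by
  intro C hC
  rw [← isOpen_compl_iff]
  apply hsub
  intro i
  rw [Set.preimage_compl, top_preimage_image_cover f σ ρ fi comm cart, isOpen_compl_iff]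
  exact h i _ (hC.preimage (hσ i))

theorem top_isQuotientMap_of_sub (comm : ∀ i x, f (σ i x) = ρ i (fi i x))
    (hσ : ∀ i, Continuous (σ i))
    (hsub : ∀ O : Set B, (∀ i, IsOpen (ρ i ⁻¹' O)) → IsOpen O)
    (hs : ∀ b : B, ∃ i x, ρ i x = b)
    (hf : Continuous f) (h : ∀ i, IsQuotientMap (fi i)) : IsQuotientMap f := by
  refine ⟨IsCoinducing.of_isOpen_preimage_iff_isOpen fun s => ⟨?_, fun hs' => hs'.preimage hf⟩,
    top_surjective_of_cover f σ ρ fi comm hs fun i => (h i).surjective⟩
  intro hs'
  apply hsub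
  intro i
  rw [← (h i).1.isOpen_preimage]
  have : fi i ⁻¹' (ρ i ⁻¹' s) = σ i ⁻¹' (f ⁻¹' s) := by
    ext x
    simp only [Set.mem_preimage, comm i x]
  rw [this]
  exact hs'.preimage (hσ i)

end Top

/-- A finite jointly surjective family of flat quasi-compact morphisms of schemes is jointly submersive. -/
theorem isOpen_of_std_cover {Z : Scheme.{u}} {m : ℕ} (W : Fin m → Scheme.{u}) (c : ∀ j, W j ⟶ Z)
    (hqc : ∀ j, QuasiCompact (c j)) (hflat : ∀ j, Flat (c j)) (hs : ∀ z : Z, ∃ j, z ∈ Set.range (c j))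
    (O : Set Z) (h : ∀ j, IsOpen ((c j) ⁻¹' O)) : IsOpen O := by
  let E : PreZeroHypercover.{u} Z := ⟨ULift.{u} (Fin m), fun j => W j.down, fun j => c j.down⟩
  haveI : QuasiCompactCover E := by
    refine ⟨fun {U} hU => ?_⟩
    refine IsCompactOpenCovered.of_finite (κ := Fin m) (fun j => (ULift.up j : ULift.{u} (Fin m)))
      (fun j => (c j) ⁻¹ᵁ U) (fun j => ?_) ?_
    · exact (hqc j).isCompact_preimage _ U.2 hU.isCompact
    · ext z
      simp only [Set.mem_iUnion, Set.mem_image]
      constructor
      · rintro ⟨j, w, hw, rfl⟩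
        exact hw
      · intro hz
        obtain ⟨j, w, rfl⟩ := hs z
        exact ⟨j, w, hz, rfl⟩
  exact isOpen_of_quasiCompactCover E (fun j => hflat j.down) O (fun j => h j.down)

section Category

universe v w
variable {C : Type w} [Category.{v} C]

/-- The base change of `snd` (itself a base change of `f` along `t`) along `c`, when `c ≫ t` lifts through `gi`,
is a base change of the base change `pi` of `f` along `gi`. -/
theorem isPullback_refine {X Y Xi Yi P T W Q : C} {f : X ⟶ Y} {gi : Yi ⟶ Y} {pi : Xi ⟶ Yi} {qi : Xi ⟶ X}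
    (sqi : IsPullback qi pi f gi) {t : T ⟶ Y} {fst : P ⟶ X} {snd : P ⟶ T}
    (sqP : IsPullback fst snd f t) {c : W ⟶ T} {l : W ⟶ Yi} (hl : l ≫ gi = c ≫ t) {a : Q ⟶ P} {b : Q ⟶ W}
    (sqQ : IsPullback a b snd c) :
    ∃ k : Q ⟶ Xi, IsPullback k b pi l ∧ k ≫ qi = a ≫ fst := by
  have outer : IsPullback (a ≫ fst) b f (c ≫ t) := sqQ.paste_horiz sqP
  rw [← hl] at outer
  have w : (a ≫ fst) ≫ f = (b ≫ l) ≫ gi := by rw [outer.w, Category.assoc]
  refine ⟨sqi.lift (a ≫ fst) (b ≫ l) w, ?_, sqi.lift_fst _ _ _⟩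
  refine IsPullback.of_right ?_ (sqi.lift_snd _ _ _) sqi
  rw [sqi.lift_fst]
  exact outer

end Category

variable {S : Scheme.{u}}

/-- The refinement clause of an fpqc covering: every morphism from an affine scheme admits a standard fpqc
covering whose members lift through members of the family. -/
def FpqcRefines {ι : Type u} {X : Sp S} (Y : ι → Sp S) (g : ∀ i, Y i ⟶ X) : Prop :=
  ∀ (Z : Over S), IsAffine Z.left → ∀ (h : (yon S).obj Z ⟶ X),
    ∃ (m : ℕ) (W : Fin m → Over S) (c : ∀ j, W j ⟶ Z),
      (∀ j, IsAffine (W j).left) ∧ (∀ j, Flat (c j).left) ∧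
      (∀ z : ↥Z.left, ∃ j, z ∈ Set.range (c j).left) ∧
      ∀ j, ∃ (i : ι) (l : (yon S).obj (W j) ⟶ Y i), l ≫ g i = (yon S).map (c j) ≫ h

theorem fpqcRefines_of_isFpqcCover {ι : Type u} {X : Sp S} {Y : ι → Sp S} {g : ∀ i, Y i ⟶ X}
    (h : IsFpqcCover Y g) : FpqcRefines Y g := h.2

section StdCover

variable {Z : Over S} {m : ℕ} (W : Fin m → Over S) (c : ∀ j, W j ⟶ Z)

/-- Jointly submersive on points, for a standard fpqc covering of an affine scheme. -/
theorem isOpen_points_of_std_cover (hZ : IsAffine Z.left) (hWa : ∀ j, IsAffine (W j).left)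
    (hcf : ∀ j, Flat (c j).left) (hcs : ∀ z : ↥Z.left, ∃ j, z ∈ Set.range (c j).left)
    (O : Set (Points ((yon S).obj Z)))
    (h : ∀ j, IsOpen (Points.map ((yon S).map (c j)) ⁻¹' O)) : IsOpen O := by
  have hO : IsOpen ((Points.schemeHomeo Z) ⁻¹' O) := by
    refine isOpen_of_std_cover (fun j => (W j).left) (fun j => (c j).left) (fun j => ?_) hcf hcs _
      (fun j => ?_)
    · haveI := hZ
      haveI := hWa j
      infer_instance
    · have h2 := (h j).preimage (Points.schemeHomeo (W j)).continuous
      have e : ((c j).left : ↥(W j).left → ↥Z.left) ⁻¹' ((Points.schemeHomeo Z) ⁻¹' O) =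
          (Points.schemeHomeo (W j)) ⁻¹' (Points.map ((yon S).map (c j)) ⁻¹' O) := by
        ext w
        simp only [Set.mem_preimage]
        rw [Points.map_yon_map_apply]
      rw [e]
      exact h2
  exact (Points.schemeHomeo Z).isOpen_preimage.1 hO

/-- Jointly surjective on points, for a standard fpqc covering of an affine scheme. -/
theorem std_cover_surj (hcs : ∀ z : ↥Z.left, ∃ j, z ∈ Set.range (c j).left)
    (z : Points ((yon S).obj Z)) : ∃ j x, Points.map ((yon S).map (c j)) x = z := by
  obtain ⟨z₀, rfl⟩ := (Points.schemeHomeo Z).surjective z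
  obtain ⟨j, w, hw⟩ := hcs z₀
  exact ⟨j, Points.schemeHomeo (W j) w, by rw [Points.map_yon_map_apply, hw]⟩

end StdCover

section Cover'

variable {Z' Z : Sp S} (π : Z' ⟶ Z) {ι : Type*} {W : ι → Sp S} (ρ : ∀ i, W i ⟶ Z)

theorem cover_comm' (i : ι) (x : Points (pullback π (ρ i))) :
    Points.map π (Points.map (pullback.fst π (ρ i)) x) =
      Points.map (ρ i) (Points.map (pullback.snd π (ρ i)) x) := by
  rw [← Points.map_comp, ← Points.map_comp, pullback.condition]

theorem cover_cart' (i : ι) (a : Points Z') (b : Points (W i))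
    (h : Points.map π a = Points.map (ρ i) b) :
    ∃ x : Points (pullback π (ρ i)), Points.map (pullback.fst π (ρ i)) x = a ∧
      Points.map (pullback.snd π (ρ i)) x = b :=
  exists_point_of_isPullback (IsPullback.of_hasPullback π (ρ i)) a b h

end Cover'

/-- A property of morphisms of sheaves with target an affine scheme descends along standard fpqc coverings. -/
def StdDescends (Q : MorphismProperty (Sp S)) : Prop :=
  ∀ ⦃T : Over S⦄, IsAffine T.left → ∀ ⦃P : Sp S⦄ (π : P ⟶ (yon S).obj T) (m : ℕ) (W : Fin m → Over S)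
    (c : ∀ j, W j ⟶ T), (∀ j, IsAffine (W j).left) → (∀ j, Flat (c j).left) →
    (∀ z : ↥T.left, ∃ j, z ∈ Set.range (c j).left) →
    (∀ j, Q (pullback.snd π ((yon S).map (c j)))) → Q π

theorem stdDescends_isOpenMor : StdDescends (IsOpenMor (S := S)) := by
  intro T hT P π m W c hWa hcf hcs h
  exact top_isOpenMap_of_sub (Points.map π) (fun j => Points.map (pullback.fst π ((yon S).map (c j))))
    (fun j => Points.map ((yon S).map (c j))) (fun j => Points.map (pullback.snd π ((yon S).map (c j))))
    (cover_comm' π _) (cover_cart' π _) (fun j => Points.continuous_map _)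
    (isOpen_points_of_std_cover W c hT hWa hcf hcs) h

theorem stdDescends_isClosedMor : StdDescends (IsClosedMor (S := S)) := by
  intro T hT P π m W c hWa hcf hcs h
  exact top_isClosedMap_of_sub (Points.map π) (fun j => Points.map (pullback.fst π ((yon S).map (c j))))
    (fun j => Points.map ((yon S).map (c j))) (fun j => Points.map (pullback.snd π ((yon S).map (c j))))
    (cover_comm' π _) (cover_cart' π _) (fun j => Points.continuous_map _)
    (isOpen_points_of_std_cover W c hT hWa hcf hcs) h

theorem stdDescends_injective :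
    StdDescends (fun (_ _ : Sp S) f => Function.Injective (Points.map f)) := by
  intro T hT P π m W c hWa hcf hcs h
  exact top_injective_of_cover (Points.map π) (fun j => Points.map (pullback.fst π ((yon S).map (c j))))
    (fun j => Points.map ((yon S).map (c j))) (fun j => Points.map (pullback.snd π ((yon S).map (c j))))
    (cover_cart' π _) (std_cover_surj W c hcs) h

theorem stdDescends_surjective : StdDescends (IsSurjectiveMor (S := S)) := by
  intro T hT P π m W c hWa hcf hcs h
  exact top_surjective_of_cover (Points.map π) (fun j => Points.map (pullback.fst π ((yon S).map (c j))))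
    (fun j => Points.map ((yon S).map (c j))) (fun j => Points.map (pullback.snd π ((yon S).map (c j))))
    (cover_comm' π _) (std_cover_surj W c hcs) h

theorem stdDescends_isSubmersiveMor : StdDescends (IsSubmersiveMor (S := S)) := by
  intro T hT P π m W c hWa hcf hcs h
  exact top_isQuotientMap_of_sub (Points.map π) (fun j => Points.map (pullback.fst π ((yon S).map (c j))))
    (fun j => Points.map ((yon S).map (c j))) (fun j => Points.map (pullback.snd π ((yon S).map (c j))))
    (cover_comm' π _) (fun j => Points.continuous_map _)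
    (isOpen_points_of_std_cover W c hT hWa hcf hcs) (std_cover_surj W c hcs) (Points.continuous_map π) h

theorem stdDescends_isHomeomorph :
    StdDescends (fun (_ _ : Sp S) f => IsHomeomorph (Points.map f)) := by
  intro T hT P π m W c hWa hcf hcs h
  exact ⟨Points.continuous_map π,
    stdDescends_isOpenMor hT π m W c hWa hcf hcs fun j => (h j).isOpenMap,
    stdDescends_injective hT π m W c hWa hcf hcs fun j => (h j).injective,
    stdDescends_surjective hT π m W c hWa hcf hcs fun j => (h j).surjective⟩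

/-- Descent of a universal property along a family satisfying the refinement clause of fpqc coverings. -/
theorem univSp_of_fpqcRefines {Q : MorphismProperty (Sp S)} (hQ : IsEtaleLocalOnBase Q) (hstd : StdDescends Q)
    {ι : Type u} {Y : Sp S} (Yi : ι → Sp S) (g : ∀ i, Yi i ⟶ Y) (href : FpqcRefines Yi g)
    {X : Sp S} (f : X ⟶ Y) (Xi : ι → Sp S) (p : ∀ i, Xi i ⟶ Yi i) (q : ∀ i, Xi i ⟶ X)
    (sq : ∀ i, IsPullback (q i) (p i) f (g i)) (hp : ∀ i, UnivSp Q (p i)) : UnivSp Q f := by
  rw [univSp_iff_affine hQ]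
  intro T hT t P fst snd sqP
  obtain ⟨m, W, c, hWa, hcf, hcs, hl⟩ := href T hT t
  apply hstd hT snd m W c hWa hcf hcs
  intro j
  obtain ⟨i, l, hl'⟩ := hl j
  obtain ⟨k, hk, -⟩ := isPullback_refine (sq i) sqP hl'
    (IsPullback.of_hasPullback snd ((yon S).map (c j)))
  exact hp i (IsAlgSpace.yon_obj _) l k _ hk

theorem isLocalOnBase_fpqc_univSp {Q : MorphismProperty (Sp S)} (hQ : IsEtaleLocalOnBase Q)
    (hstd : StdDescends Q) : IsLocalOnBase (IsFpqcCover (S := S)) (UnivSp Q) := by
  intro ι Y Yi g hY hYi hcov X f hX Xi p q hXi sq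
  exact ⟨fun hf i => univSp_of_isPullback (sq i) hf,
    fun hp => univSp_of_fpqcRefines hQ hstd Yi g hcov.2 f Xi p q sq hp⟩

/-- Base change of quasi-compact morphisms. -/
theorem isQuasiCompactMor_of_isPullback {X Y X' Y' : Sp S} {f : X ⟶ Y} {g : Y' ⟶ Y}
    {fst : X' ⟶ X} {snd : X' ⟶ Y'} (sq : IsPullback fst snd f g) (hf : IsQuasiCompactMor f) :
    IsQuasiCompactMor snd := by
  intro Z Z' hZ hZq g₁ fst₁ snd₁ sq₁
  exact hf hZ hZq (g₁ ≫ g) (fst₁ ≫ fst) snd₁ (sq₁.paste_horiz sq)

/-- Descent of quasi-compactness along a family satisfying the refinement clause of fpqc coverings. -/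
theorem isQuasiCompactMor_of_fpqcRefines {ι : Type u} {Y : Sp S} (hY : IsAlgSpace Y) (Yi : ι → Sp S)
    (g : ∀ i, Yi i ⟶ Y) (href : FpqcRefines Yi g) {X : Sp S} (hX : IsAlgSpace X) (f : X ⟶ Y)
    (Xi : ι → Sp S) (p : ∀ i, Xi i ⟶ Yi i) (q : ∀ i, Xi i ⟶ X)
    (sq : ∀ i, IsPullback (q i) (p i) f (g i)) (hp : ∀ i, IsQuasiCompactMor (p i)) :
    IsQuasiCompactMor f := by
  apply isQuasiCompactMor_of_affine hX hY.diag f
  intro T hT t P fst snd sqP
  have hP : IsAlgSpace P := isAlgSpace_of_isPullback hX hY.diag (IsAlgSpace.yon_obj T) sqP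
  obtain ⟨m, W, c, hWa, hcf, hcs, hl⟩ := href T hT t
  have hQ : ∀ j, IsQuasiCompactSp (pullback snd ((yon S).map (c j))) := by
    intro j
    obtain ⟨i, l, hl'⟩ := hl j
    obtain ⟨k, hk, -⟩ := isPullback_refine (sq i) sqP hl'
      (IsPullback.of_hasPullback snd ((yon S).map (c j)))
    haveI := hWa j
    exact hp i (IsAlgSpace.yon_obj _) (isQuasiCompactSp_yon_of_compactSpace (W j)) l k _ hk
  haveI : CompactSpace (Points P) := by
    constructor
    have huniv : (Set.univ : Set (Points P)) =
        ⋃ j : Fin m, Set.range (Points.map (pullback.fst snd ((yon S).map (c j)))) := by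
      apply Set.eq_of_subset_of_subset _ (Set.subset_univ _)
      intro x _
      obtain ⟨j, w, hw⟩ := std_cover_surj W c hcs (Points.map snd x)
      obtain ⟨y, hy, -⟩ := exists_point_of_isPullback
        (IsPullback.of_hasPullback snd ((yon S).map (c j))) x w hw.symm
      exact Set.mem_iUnion.2 ⟨j, y, hy⟩
    rw [huniv]
    exact isCompact_iUnion fun j => by
      haveI := compactSpace_points_of_isQuasiCompactSp (hQ j)
      exact isCompact_range (Points.continuous_map _)
  exact isQuasiCompactSp_of_compactSpace hP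

theorem isLocalOnBase_fpqc_isQuasiCompactMor :
    IsLocalOnBase (IsFpqcCover (S := S)) IsQuasiCompactMor := by
  intro ι Y Yi g hY hYi hcov X f hX Xi p q hXi sq
  exact ⟨fun hf i => isQuasiCompactMor_of_isPullback (sq i) hf,
    fun hp => isQuasiCompactMor_of_fpqcRefines hY Yi g hcov.2 hX f Xi p q sq hp⟩

/-- The diagonal of a morphism from an algebraic space is representable. -/
theorem representable_diagonal {X Y : Sp S} (hX : IsAlgSpace X) (f : X ⟶ Y) :
    Representable (pullback.diagonal f) :=
  MorphismProperty.of_isPullback (P := Representable (S := S)) (isPullback_diagonal_diag f) hX.diag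

theorem isLocalOnBase_fpqc_isQuasiSeparatedMor :
    IsLocalOnBase (IsFpqcCover (S := S)) IsQuasiSeparatedMor := by
  intro ι Y Yi g hY hYi hcov X f hX Xi p q hXi sq
  constructor
  · intro hf i
    exact (RepWith @QuasiCompact).of_isPullback (isPullback_diagonal_of_isPullback (sq i)) hf
  · intro hp
    have hΔ : Representable (pullback.diagonal f) := representable_diagonal hX f
    have hD : IsAlgSpace (pullback f f) :=
      isAlgSpace_of_isPullback hX hY.diag hX (IsPullback.of_hasPullback f f)
    change RepWith @QuasiCompact (pullback.diagonal f)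
    rw [repWith_quasiCompact_iff_isQuasiCompactMor _ hΔ]
    refine isQuasiCompactMor_of_fpqcRefines hD (fun i => pullback (p i) (p i))
      (fun i => pullback.map (p i) (p i) f f (q i) (q i) (g i) (sq i).w.symm (sq i).w.symm) ?_ hX
      (pullback.diagonal f) Xi (fun i => pullback.diagonal (p i)) q
      (fun i => isPullback_diagonal_of_isPullback (sq i)) (fun i => ?_)
    · intro T hT t
      obtain ⟨m, W, c, hWa, hcf, hcs, hl⟩ := hcov.2 T hT (t ≫ pullback.fst f f ≫ f)
      refine ⟨m, W, c, hWa, hcf, hcs, fun j => ?_⟩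
      obtain ⟨i, l, hl'⟩ := hl j
      obtain ⟨t', ht'⟩ := exists_lift_diagonalObj (sq i) ((yon S).map (c j) ≫ t) l
        (by rw [Category.assoc, hl'])
      exact ⟨i, t', ht'⟩
    · exact (repWith_quasiCompact_iff_isQuasiCompactMor _ (representable_diagonal (hXi i) (p i))).1 (hp i)

end Groth.Agent.Lib.Helper16
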