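import Groth.Agent.Lib.Helper16.LocPGen
import Groth.Agent.Lib.Helper16.FpqcCore

/-!
# Helper library (helper16): `AlgSp.LocP P` is fpqc local on the base
-/

set_option autoImplicit false
universe u
open CategoryTheory CategoryTheory.Limits AlgebraicGeometry Opposite Topology MorphismProperty

namespace Groth.Agent.Lib.Helper16

open AlgSp

theorem P_snd_of_isPullback {C : Type*} [Category C] {P : MorphismProperty C} [P.RespectsIso]
    {A A' B D E : C} {fst : A ⟶ B} {snd : A ⟶ D} {fst' : A' ⟶ B} {snd' : A' ⟶ D} {f : B ⟶ E} {g : D ⟶ E}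
    (sq : IsPullback fst snd f g) (sq' : IsPullback fst' snd' f g) (h : P snd') : P snd := by
  rw [← sq.isoIsPullback_hom_snd _ _ sq']
  exact (P.cancel_left_of_respectsIso _ _).2 h

/-- Descent of `P` along a standard fpqc covering of an affine scheme. -/
theorem of_std_fpqc_cover {P : MorphismProperty Scheme.{u}} [IsZariskiLocalAtTarget P]
    [P.DescendsAlong (@Surjective ⊓ @Flat ⊓ @QuasiCompact)]
    {A B : Scheme.{u}} (h : A ⟶ B) [IsAffine B] {m : ℕ} (W : Fin m → Scheme.{u}) (c : ∀ j, W j ⟶ B)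
    [∀ j, IsAffine (W j)] (hcf : ∀ j, Flat (c j)) (hcs : ∀ b : B, ∃ j, b ∈ Set.range (c j))
    (H : ∀ j, P (pullback.snd h (c j))) : P h := by
  have hσ : (@Surjective ⊓ @Flat ⊓ @QuasiCompact : MorphismProperty Scheme.{u}) (Sigma.desc c) := by
    refine ⟨⟨⟨fun b => ?_⟩, IsZariskiLocalAtSource.sigmaDesc hcf⟩, inferInstance⟩
    obtain ⟨j, w, rfl⟩ := hcs b
    refine ⟨Sigma.ι W j w, ?_⟩
    rw [← Scheme.Hom.comp_apply, Sigma.ι_desc]
  apply MorphismProperty.of_pullback_snd_of_descendsAlong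
    (Q := @Surjective ⊓ @Flat ⊓ @QuasiCompact) hσ
  rw [IsZariskiLocalAtTarget.iff_of_openCover (P := P) (sigmaOpenCover W)]
  intro j
  have sq1 : IsPullback (pullback.fst (pullback.snd h (Sigma.desc c)) (Sigma.ι W j) ≫ pullback.fst h (Sigma.desc c))
      (pullback.snd (pullback.snd h (Sigma.desc c)) (Sigma.ι W j)) h (c j) := by
    have := (IsPullback.of_hasPullback (pullback.snd h (Sigma.desc c)) (Sigma.ι W j)).paste_horiz
      (IsPullback.of_hasPullback h (Sigma.desc c))
    rwa [Sigma.ι_desc] at this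
  exact P_snd_of_isPullback sq1 (IsPullback.of_hasPullback h (c j)) (H j)

variable {S : Scheme.{u}} {P : MorphismProperty Scheme.{u}}

/-- Transport of `SrcP` for a base change of `f` to the chart diagrams of `f`. -/
theorem P_of_srcP_of_isPullback {X Y : Sp S} {f : X ⟶ Y} {V W : Over S} (b : (yon S).obj V ⟶ Y) (n : W ⟶ V)
    {ZW : Sp S} {pW : ZW ⟶ X} {φW : ZW ⟶ (yon S).obj W} (sqW : IsPullback pW φW f ((yon S).map n ≫ b))
    (hφ : SrcP P φW) {U : Over S} (a : (yon S).obj U ⟶ pullback f b) (h : U ⟶ V) (ha : RepWith @Etale a)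
    (hc : a ≫ pullback.snd f b = (yon S).map h) : P (pullback.snd h n).left := by
  have w : pW ≫ f = (φW ≫ (yon S).map n) ≫ b := by rw [Category.assoc]; exact sqW.w
  have sq2 : IsPullback (pullback.lift _ _ w) φW (pullback.snd f b) ((yon S).map n) := by
    refine IsPullback.of_right ?_ (pullback.lift_snd _ _ _) (IsPullback.of_hasPullback f b)
    rw [pullback.lift_fst]
    exact sqW
  obtain ⟨a', ha'₁, sqa⟩ := chart_baseChange sq2 a h hc
  have ha'e : RepWith @Etale a' := (RepWith @Etale).of_isPullback sqa.flip ha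
  exact hφ a' _ ha'e ha'₁

set_option backward.isDefEq.respectTransparency.types false in
theorem locP_of_fpqcRefines (hP : EtLocalST P) [IsZariskiLocalAtTarget P]
    [P.DescendsAlong (@Surjective ⊓ @Flat ⊓ @QuasiCompact)]
    {ι : Type u} {Y : Sp S} (Yi : ι → Sp S) (hYi : ∀ i, IsAlgSpace (Yi i)) (g : ∀ i, Yi i ⟶ Y)
    (href : FpqcRefines Yi g) {X : Sp S} (f : X ⟶ Y) (Xi : ι → Sp S) (hXi : ∀ i, IsAlgSpace (Xi i))
    (p : ∀ i, Xi i ⟶ Yi i) (q : ∀ i, Xi i ⟶ X) (sq : ∀ i, IsPullback (q i) (p i) f (g i))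
    (hp : ∀ i, LocP P (p i)) : LocP P f := by
  have := hP.respectsIso
  apply locP_of_srcP
  intro V b hb U a h ha hc
  apply IsZariskiLocalAtTarget.of_forall_exists_morphismRestrict
  intro v
  obtain ⟨_, ⟨(O : V.left.Opens), hO, rfl⟩, hvO, -⟩ :=
    V.left.isBasis_affineOpens.exists_subset_of_mem_open (Set.mem_univ v) isOpen_univ
  refine ⟨O, hvO, ?_⟩
  let VO : Over S := Over.mk (O.ι ≫ V.hom)
  let ιO : VO ⟶ V := Over.homMk O.ι rfl
  have hVO : IsAffine VO.left := hO
  obtain ⟨m, W, c, hWa, hcf, hcs, hl⟩ := href VO hVO ((yon S).map ιO ≫ b)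
  have : IsAffine (Scheme.Opens.toScheme (X := V.left) O) := hO
  have : ∀ j, IsAffine (W j).left := hWa
  refine of_std_fpqc_cover (h.left ∣_ O) (fun j => (W j).left) (fun j => (c j).left) hcf hcs ?_
  intro j
  obtain ⟨i, l, hl'⟩ := hl j
  have hl'' : l ≫ g i = (yon S).map (c j ≫ ιO) ≫ b := by
    rw [hl', Functor.map_comp, Category.assoc]
  have sqW : IsPullback (pullback.fst (p i) l ≫ q i) (pullback.snd (p i) l) f ((yon S).map (c j ≫ ιO) ≫ b) := by
    rw [← hl'']
    exact (IsPullback.of_hasPullback (p i) l).paste_horiz (sq i)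
  have hsrc : SrcP P (pullback.snd (p i) l) :=
    srcP_of_locP_yon hP (hXi i) (hYi i) (p i) (hp i) l _ _ (IsPullback.of_hasPullback (p i) l)
  have h1 : P (pullback.snd h (c j ≫ ιO)).left := P_of_srcP_of_isPullback b (c j ≫ ιO) sqW hsrc a h ha hc
  have sqA : IsPullback (pullback.fst (h.left ∣_ O) (c j).left ≫ (h.left ⁻¹ᵁ O).ι)
      (pullback.snd (h.left ∣_ O) (c j).left) h.left ((c j).left ≫ O.ι) :=
    (IsPullback.of_hasPullback (h.left ∣_ O) (c j).left).paste_horiz (isPullback_morphismRestrict h.left O).flip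
  exact P_snd_of_isPullback sqA (isPullback_left_forget h (c j ≫ ιO)) h1

set_option backward.isDefEq.respectTransparency.types false in
/-- `LocP P` is fpqc local on the base. -/
theorem isLocalOnBase_fpqc_locP (hP : EtLocalST P) [IsZariskiLocalAtTarget P]
    [P.DescendsAlong (@Surjective ⊓ @Flat ⊓ @QuasiCompact)] :
    IsLocalOnBase (IsFpqcCover (S := S)) (LocP P) := by
  intro ι Y Yi g hY hYi hcov X f hX Xi p q hXi sq
  exact ⟨fun hf i => locP_of_isPullback hP hX hY (sq i) hf,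
    fun hp => locP_of_fpqcRefines hP Yi hYi g hcov.2 f Xi hXi p q sq hp⟩

end Groth.Agent.Lib.Helper16
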