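import Groth.Agent.Lib.Helper16.EtLocal
import Groth.Agent.Lib.Helper16.LocP

/-!
# Helper library (helper16): general theory of `AlgSp.LocP P` for `P` etale local on the source and target
-/

set_option autoImplicit false
universe u
open CategoryTheory CategoryTheory.Limits AlgebraicGeometry Opposite Topology

namespace Groth.Agent.Lib.Helper16

open AlgSp

variable {S : Scheme.{u}} {P : MorphismProperty Scheme.{u}}

/-- One chart diagram with surjective etale source chart and top arrow in `P` suffices. -/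
theorem locP_of_chart (hP : EtLocalST P) {X Y : Sp S} (f : X ⟶ Y) {U V : Over S}
    (a : (yon S).obj U ⟶ X) (b : (yon S).obj V ⟶ Y) (h : U ⟶ V)
    (ha : RepWith @Etale a) (has : RepWith @Surjective a) (hb : RepWith @Etale b)
    (comm : a ≫ f = (yon S).map h ≫ b) (hh : P h.left) : LocP P f := by
  intro U' V' a' b' h' ha' hb' comm'
  obtain ⟨W, i, p₀, sqW⟩ := ha.rep a'
  obtain ⟨p, rfl⟩ := (yon S).map_surjective p₀
  have hi_e : Etale i.left := ha.property _ _ _ sqW
  have hi_s : Surjective i.left := has.property _ _ _ sqW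
  have hp_e : Etale p.left := ha'.property _ _ _ sqW.flip
  obtain ⟨V'', q', q₀, sqV⟩ := hb.rep b'
  obtain ⟨q, rfl⟩ := (yon S).map_surjective q₀
  have hq'_e : Etale q'.left := hb.property _ _ _ sqV
  have hq_e : Etale q.left := hb'.property _ _ _ sqV.flip
  have hcomm : (yon S).map (p ≫ h) ≫ b = (yon S).map (i ≫ h') ≫ b' := by
    rw [Functor.map_comp, Category.assoc, ← comm, ← Category.assoc, sqW.w, Category.assoc, comm',
      Functor.map_comp, Category.assoc]
  obtain ⟨r, hr⟩ := (yon S).map_surjective (sqV.lift _ _ hcomm)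
  have hr1 : r ≫ q = p ≫ h := (yon S).map_injective (by rw [Functor.map_comp, hr, sqV.lift_fst])
  have hr2 : r ≫ q' = i ≫ h' := (yon S).map_injective (by rw [Functor.map_comp, hr, sqV.lift_snd])
  have h1 : P (p ≫ h).left := by rw [Over.comp_left]; exact hP.precomp _ _ hp_e hh
  have h2 : P r.left := by
    rw [← hr1, Over.comp_left] at h1
    exact hP.cancel _ _ hq_e h1
  have h3 : P (i ≫ h').left := by rw [← hr2, Over.comp_left]; exact hP.postcomp _ _ hq'_e h2
  rw [Over.comp_left] at h3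
  exact hP.ofCover' _ _ hi_e hi_s h3

/-- `φ : X ⟶ h_V` has `P` etale locally on the source. -/
def SrcP (P : MorphismProperty Scheme.{u}) {X : Sp S} {V : Over S} (φ : X ⟶ (yon S).obj V) : Prop :=
  ∀ ⦃U : Over S⦄ (a : (yon S).obj U ⟶ X) (h : U ⟶ V), RepWith @Etale a → a ≫ φ = (yon S).map h → P h.left

/-- One etale surjective chart suffices for `SrcP`. -/
theorem srcP_of_atlas (hP : EtLocalST P) {X : Sp S} {V : Over S} (φ : X ⟶ (yon S).obj V) {U₁ : Over S}
    (a₁ : (yon S).obj U₁ ⟶ X) (h₁ : U₁ ⟶ V) (ha₁ : RepWith @Etale a₁) (ha₁s : RepWith @Surjective a₁)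
    (c : a₁ ≫ φ = (yon S).map h₁) (hh : P h₁.left) : SrcP P φ := by
  intro U a h ha hc
  obtain ⟨W, i, p₀, sqW⟩ := ha₁.rep a
  obtain ⟨p, rfl⟩ := (yon S).map_surjective p₀
  have hi_e : Etale i.left := ha₁.property _ _ _ sqW
  have hi_s : Surjective i.left := ha₁s.property _ _ _ sqW
  have hp_e : Etale p.left := ha.property _ _ _ sqW.flip
  have hpi : p ≫ h₁ = i ≫ h := by
    apply (yon S).map_injective
    rw [Functor.map_comp, Functor.map_comp, ← c, ← hc, ← Category.assoc, sqW.w, Category.assoc]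
  have h1 : P (p ≫ h₁).left := by rw [Over.comp_left]; exact hP.precomp _ _ hp_e hh
  rw [hpi, Over.comp_left] at h1
  exact hP.ofCover' _ _ hi_e hi_s h1

theorem srcP_of_locP {X Y : Sp S} {f : X ⟶ Y} (hf : LocP P f) {V : Over S} (b : (yon S).obj V ⟶ Y)
    (hb : RepWith @Etale b) {Z : Sp S} (fst : Z ⟶ X) (snd : Z ⟶ (yon S).obj V) (sq : IsPullback fst snd f b) :
    SrcP P snd := by
  intro U a h ha hc
  have hfst : RepWith @Etale fst := (RepWith @Etale).of_isPullback sq.flip hb
  exact hf (a ≫ fst) b h ((RepWith @Etale).comp_mem _ _ ha hfst) hb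
    (by rw [Category.assoc, sq.w, ← Category.assoc, hc])

/-- Cancellation for representable etale morphisms from a scheme. -/
theorem repWith_etale_of_comp {X Z : Sp S} {U : Over S} (l : (yon S).obj U ⟶ Z) (p : Z ⟶ X)
    (hp : RepWith @Etale p) (hlp : RepWith @Etale (l ≫ p)) : RepWith @Etale l := by
  obtain ⟨E, e₁, e₂, sq⟩ := hp.rep (l ≫ p)
  have he₁ : Etale e₁.left := hp.property _ _ _ sq
  have he₂ : RepWith @Etale e₂ := (RepWith @Etale).of_isPullback sq.flip hlp
  obtain ⟨s, hs⟩ := (yon S).map_surjective (sq.lift l (𝟙 _) (by rw [Category.id_comp]))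
  have hs1 : s ≫ e₁ = 𝟙 U := by
    apply (yon S).map_injective
    rw [Functor.map_comp, hs, sq.lift_snd, yon_map_id]
  have hs2 : (yon S).map s ≫ e₂ = l := by rw [hs, sq.lift_fst]
  have h1 : Etale (s.left ≫ e₁.left) := by
    rw [← Over.comp_left, hs1, Over.id_left]
    infer_instance
  have hse : Etale s.left := Etale.of_comp s.left e₁.left
  rw [← hs2]
  exact (RepWith @Etale).comp_mem _ _ ((repWith_yon_map_iff _ _).2 hse) he₂

theorem locP_of_srcP {X Y : Sp S} {f : X ⟶ Y}
    (H : ∀ ⦃V : Over S⦄ (b : (yon S).obj V ⟶ Y), RepWith @Etale b → SrcP P (pullback.snd f b)) :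
    LocP P f := by
  intro U V a b h ha hb comm
  have hfst : RepWith @Etale (pullback.fst f b) :=
    (RepWith @Etale).of_isPullback (IsPullback.of_hasPullback f b).flip hb
  have hl : RepWith @Etale (pullback.lift a ((yon S).map h) comm) := by
    apply repWith_etale_of_comp _ (pullback.fst f b) hfst
    rw [pullback.lift_fst]; exact ha
  exact H b hb _ h hl (pullback.lift_snd _ _ _)

/-- The base change of an etale chart along a pullback square over `h_m`. -/
theorem chart_baseChange {X X' : Sp S} {V V' : Over S} {φ : X ⟶ (yon S).obj V} {m : V' ⟶ V} {fst : X' ⟶ X}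
    {φ' : X' ⟶ (yon S).obj V'} (sq : IsPullback fst φ' φ ((yon S).map m)) {U : Over S}
    (a : (yon S).obj U ⟶ X) (h : U ⟶ V) (hc : a ≫ φ = (yon S).map h) :
    ∃ a' : (yon S).obj (pullback h m) ⟶ X', a' ≫ φ' = (yon S).map (pullback.snd h m) ∧
      IsPullback a' ((yon S).map (pullback.fst h m)) fst a := by
  have w : ((yon S).map (pullback.fst h m) ≫ a) ≫ φ = (yon S).map (pullback.snd h m) ≫ (yon S).map m := by
    rw [Category.assoc, hc, ← Functor.map_comp, ← Functor.map_comp, pullback.condition]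
  refine ⟨sq.lift _ _ w, sq.lift_snd _ _ _, ?_⟩
  refine IsPullback.of_right ?_ (sq.lift_fst _ _ _) sq.flip
  rw [sq.lift_snd, hc]
  exact ((IsPullback.of_hasPullback h m).map (yon S)).flip

theorem isPullback_left_forget {U V V' : Over S} (h : U ⟶ V) (m : V' ⟶ V) :
    IsPullback (pullback.fst h m).left (pullback.snd h m).left h.left m.left :=
  (IsPullback.of_hasPullback h m).map (Over.forget S)

/-- `SrcP` is stable under base change along morphisms of schemes. -/
theorem srcP_baseChange (hP : EtLocalST P) {X : Sp S}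
    (hX : ∃ (U : Over S) (a : (yon S).obj U ⟶ X), RepWith @Etale a ∧ RepWith @Surjective a) {V V' : Over S}
    (φ : X ⟶ (yon S).obj V) (hφ : SrcP P φ) (m : V' ⟶ V) {X' : Sp S} (fst : X' ⟶ X)
    (φ' : X' ⟶ (yon S).obj V') (sq : IsPullback fst φ' φ ((yon S).map m)) : SrcP P φ' := by
  obtain ⟨U₁, a₁, ha₁, ha₁s⟩ := hX
  obtain ⟨h₁, hh₁⟩ := (yon S).map_surjective (a₁ ≫ φ)
  have hPh₁ : P h₁.left := hφ a₁ h₁ ha₁ hh₁.symm
  obtain ⟨a', ha'₁, sqa⟩ := chart_baseChange sq a₁ h₁ hh₁.symm
  have ha'e : RepWith @Etale a' := (RepWith @Etale).of_isPullback sqa.flip ha₁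
  have ha's : RepWith @Surjective a' := (RepWith @Surjective).of_isPullback sqa.flip ha₁s
  exact srcP_of_atlas hP φ' a' (pullback.snd h₁ m) ha'e ha's ha'₁
    (hP.of_isPullback (isPullback_left_forget h₁ m) hPh₁)

/-- `SrcP` descends along an etale surjective cover of the target. -/
theorem srcP_of_etale_cover (hP : EtLocalST P) {X : Sp S} {V V' : Over S} (φ : X ⟶ (yon S).obj V)
    (m : V' ⟶ V) (hm : Etale m.left) (hms : Surjective m.left) {X' : Sp S} (fst : X' ⟶ X)
    (φ' : X' ⟶ (yon S).obj V') (sq : IsPullback fst φ' φ ((yon S).map m)) (H : SrcP P φ') : SrcP P φ := by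
  intro U a h ha hc
  obtain ⟨a', ha'₁, sqa⟩ := chart_baseChange sq a h hc
  have ha'e : RepWith @Etale a' := (RepWith @Etale).of_isPullback sqa.flip ha
  have h1 : P (pullback.snd h m).left := H a' _ ha'e ha'₁
  have hfe : Etale (pullback.fst h m).left :=
    MorphismProperty.of_isPullback (P := @Etale) (isPullback_left_forget h m).flip hm
  have hfs : Surjective (pullback.fst h m).left :=
    MorphismProperty.of_isPullback (P := @Surjective) (isPullback_left_forget h m).flip hms
  have h2 : P ((pullback.snd h m).left ≫ m.left) := hP.postcomp _ _ hm h1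
  rw [← Over.comp_left, ← pullback.condition, Over.comp_left] at h2
  exact hP.ofCover' _ _ hfe hfs h2

/-- `LocP P f` gives `SrcP P` for the base change of `f` along any morphism from a scheme. -/
theorem srcP_of_locP_yon (hP : EtLocalST P) {X Y : Sp S} (hX : IsAlgSpace X) (hY : IsAlgSpace Y) (f : X ⟶ Y)
    (hf : LocP P f) {T : Over S} (t : (yon S).obj T ⟶ Y) {Z : Sp S} (p : Z ⟶ X) (φ : Z ⟶ (yon S).obj T)
    (sq : IsPullback p φ f t) : SrcP P φ := by
  obtain ⟨V₀, c, hce, hcs⟩ := hY.atlas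
  obtain ⟨T', i, j₀, sqT⟩ := hce.rep t
  obtain ⟨j, rfl⟩ := (yon S).map_surjective j₀
  have hie : Etale i.left := hce.property _ _ _ sqT
  have his : Surjective i.left := hcs.property _ _ _ sqT
  have h0 : SrcP P (pullback.snd f c) := srcP_of_locP hf c hce _ _ (IsPullback.of_hasPullback f c)
  have hZ₀ : IsAlgSpace (pullback f c) :=
    isAlgSpace_of_isPullback hX hY.diag (IsAlgSpace.yon_obj V₀) (IsPullback.of_hasPullback f c)
  -- the base change to `T'`
  have sq1 : IsPullback (pullback.fst φ ((yon S).map i) ≫ p) (pullback.snd φ ((yon S).map i)) f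
      ((yon S).map j ≫ c) := by
    rw [sqT.w]
    exact (IsPullback.of_hasPullback φ ((yon S).map i)).paste_horiz sq
  have w : (pullback.fst φ ((yon S).map i) ≫ p) ≫ f = (pullback.snd φ ((yon S).map i) ≫ (yon S).map j) ≫ c := by
    rw [Category.assoc]; exact sq1.w
  have sq2 : IsPullback (pullback.lift _ _ w) (pullback.snd φ ((yon S).map i)) (pullback.snd f c)
      ((yon S).map j) := by
    refine IsPullback.of_right ?_ (pullback.lift_snd _ _ _) (IsPullback.of_hasPullback f c)
    rw [pullback.lift_fst]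
    exact sq1
  have h1 : SrcP P (pullback.snd φ ((yon S).map i)) :=
    srcP_baseChange hP hZ₀.atlas _ h0 j _ _ sq2
  exact srcP_of_etale_cover hP φ i hie his _ _ (IsPullback.of_hasPullback φ ((yon S).map i)) h1

/-- Base change of `LocP P`. -/
theorem locP_of_isPullback (hP : EtLocalST P) {X Y X' Y' : Sp S} (hX : IsAlgSpace X) (hY : IsAlgSpace Y)
    {f : X ⟶ Y} {g : Y' ⟶ Y} {fst : X' ⟶ X} {f' : X' ⟶ Y'} (sq : IsPullback fst f' f g) (hf : LocP P f) :
    LocP P f' := by
  apply locP_of_srcP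
  intro V' b' _
  exact srcP_of_locP_yon hP hX hY f hf (b' ≫ g) _ _ ((IsPullback.of_hasPullback f' b').paste_horiz sq)

/-- Composition of `LocP P`. -/
theorem locP_comp (hP : EtLocalST P) {X Y Z : Sp S} (hX : IsAlgSpace X) (hY : IsAlgSpace Y) (hZ : IsAlgSpace Z)
    (f : X ⟶ Y) (g : Y ⟶ Z) (hf : LocP P f) (hg : LocP P g) : LocP P (f ≫ g) := by
  obtain ⟨W₀, c, hce, hcs⟩ := hZ.atlas
  obtain ⟨V₀, b₀, hb₀e, hb₀s⟩ := hY.atlas
  obtain ⟨U₀, a₀, ha₀e, ha₀s⟩ := hX.atlas
  obtain ⟨V₁, k, cV, hb₁e, hb₁c, -, -, hb₁s⟩ := exists_chart_diagram g c hce b₀ hb₀e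
  obtain ⟨U₁, h, cU, ha₁e, ha₁c, -, -, ha₁s⟩ := exists_chart_diagram f _ hb₁e a₀ ha₀e
  have hPh : P h.left := hf _ _ h ha₁e hb₁e ha₁c
  have hPk : P k.left := hg _ _ k hb₁e hce hb₁c
  have := hP.mult
  refine locP_of_chart hP (f ≫ g) _ c (h ≫ k) ha₁e (ha₁s (hb₁s hcs hb₀s) ha₀s) hce ?_ ?_
  · rw [← Category.assoc, ha₁c, Category.assoc, hb₁c, Functor.map_comp, Category.assoc]
  · rw [Over.comp_left]; exact P.comp_mem _ _ hPh hPk

/-- For a representable morphism, `LocP P` is `RepWith P`. -/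
theorem locP_iff_repWith (hP : EtLocalST P) {X Y : Sp S} (hX : IsAlgSpace X) (hY : IsAlgSpace Y) (f : X ⟶ Y)
    (hrep : Representable f) : LocP P f ↔ RepWith P f := by
  constructor
  · intro hf
    refine ⟨hrep, fun T W t fst' w sq' => ?_⟩
    have h1 : SrcP P ((yon S).map w) := srcP_of_locP_yon hP hX hY f hf t fst' _ sq'
    exact h1 (𝟙 _) w (repWith_id _ W) (Category.id_comp _)
  · intro hf
    exact locP_of_repWith P P (fun A B C m i hm hi => hP.precomp m i hm hi) f hf

end Groth.Agent.Lib.Helper16
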