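import Groth.Prelude.Def_AlgSpDec

/-!
# Helper library (helper16): field-valued points as morphisms, points of fibre products
-/

set_option autoImplicit false
universe u
open CategoryTheory CategoryTheory.Limits AlgebraicGeometry Opposite

namespace Groth.Agent.Lib.Helper16

open AlgSp

variable {S : Scheme.{u}}

/-- The field-valued point defined by a morphism `h_{Spec K} ⟶ F`. -/
noncomputable def fieldPtOfHom {F : Sp S} (K : Type u) [Field K] (str : Spec (CommRingCat.of K) ⟶ S)
    (m : (yon S).obj (Over.mk str) ⟶ F) : FieldPt F :=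
  ⟨K, str, (J S).uliftYonedaEquiv m⟩

@[simp] theorem fieldPtOfHom_toHom {F : Sp S} (K : Type u) [Field K] (str : Spec (CommRingCat.of K) ⟶ S)
    (m : (yon S).obj (Over.mk str) ⟶ F) : (fieldPtOfHom K str m).toHom = m :=
  Equiv.symm_apply_apply _ _

theorem fieldPtOfHom_map {F G : Sp S} (K : Type u) [Field K] (str : Spec (CommRingCat.of K) ⟶ S)
    (m : (yon S).obj (Over.mk str) ⟶ F) (f : F ⟶ G) :
    (fieldPtOfHom K str m).map f = fieldPtOfHom K str (m ≫ f) := by
  unfold fieldPtOfHom FieldPt.map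
  congr 1

/-- The relation on field valued points in terms of morphisms. -/
theorem rel_iff_toHom {F : Sp S} (p q : FieldPt F) :
    FieldPt.Rel p q ↔ ∃ (Ω : Type u) (_ : Field Ω) (w : Spec (CommRingCat.of Ω) ⟶ S) (a : Over.mk w ⟶ p.pt)
      (b : Over.mk w ⟶ q.pt), (yon S).map a ≫ p.toHom = (yon S).map b ≫ q.toHom := by
  have key : ∀ (r : FieldPt F) {T : Over S} (a : T ⟶ r.pt),
      (yon S).map a ≫ r.toHom = (J S).uliftYonedaEquiv.symm (F.obj.map a.op r.val) := by
    intro r T a
    exact GrothendieckTopology.uliftYonedaEquiv_symm_naturality_left _ a F r.val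
  constructor
  · rintro ⟨Ω, _, w, a, b, h⟩
    refine ⟨Ω, inferInstance, w, a, b, ?_⟩
    rw [key, key, h]
  · rintro ⟨Ω, _, w, a, b, h⟩
    refine ⟨Ω, inferInstance, w, a, b, ?_⟩
    rw [key, key] at h
    exact (J S).uliftYonedaEquiv.symm.injective h

/-- A field-valued point is equivalent to any of its restrictions along a field extension. -/
theorem rel_fieldPtOfHom_comp {F : Sp S} (p : FieldPt F) (Ω : Type u) [Field Ω]
    (w : Spec (CommRingCat.of Ω) ⟶ S) (a : Over.mk w ⟶ p.pt) :
    FieldPt.Rel (fieldPtOfHom Ω w ((yon S).map a ≫ p.toHom)) p := by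
  rw [rel_iff_toHom]
  refine ⟨Ω, inferInstance, w, 𝟙 _, a, ?_⟩
  rw [fieldPtOfHom_toHom]
  exact ((yon S).map_id _).symm ▸ Category.id_comp _

theorem mk_fieldPtOfHom_comp {F : Sp S} (p : FieldPt F) (Ω : Type u) [Field Ω]
    (w : Spec (CommRingCat.of Ω) ⟶ S) (a : Over.mk w ⟶ p.pt) :
    Points.mk (fieldPtOfHom Ω w ((yon S).map a ≫ p.toHom)) = Points.mk p :=
  Points.sound (rel_fieldPtOfHom_comp p Ω w a)

/-- Points of a fibre product surject onto the fibre product of the sets of points. -/
theorem exists_point_of_isPullback {F' F G H : Sp S} {fst : F' ⟶ F} {snd : F' ⟶ H} {f : F ⟶ G} {g : H ⟶ G}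
    (sq : IsPullback fst snd f g) (x : Points F) (y : Points H)
    (hxy : Points.map f x = Points.map g y) :
    ∃ z : Points F', Points.map fst z = x ∧ Points.map snd z = y := by
  induction x using Points.ind with
  | h p =>
  induction y using Points.ind with
  | h q =>
  rw [Points.map_mk, Points.map_mk, Points.mk_eq_mk_iff, rel_iff_toHom] at hxy
  obtain ⟨Ω, _, w, a, b, h⟩ := hxy
  rw [FieldPt.toHom_map, FieldPt.toHom_map] at h
  let l : (yon S).obj (Over.mk w) ⟶ F' :=
    sq.lift ((yon S).map a ≫ p.toHom) ((yon S).map b ≫ q.toHom) (by rw [Category.assoc, Category.assoc]; exact h)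
  refine ⟨Points.mk (fieldPtOfHom Ω w l), ?_, ?_⟩
  · rw [Points.map_mk, fieldPtOfHom_map, sq.lift_fst]
    exact mk_fieldPtOfHom_comp p Ω w a
  · rw [Points.map_mk, fieldPtOfHom_map, sq.lift_snd]
    exact mk_fieldPtOfHom_comp q Ω w b

end Groth.Agent.Lib.Helper16
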