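import Mathlib.RingTheory.Etale.StandardEtale
import Mathlib.RingTheory.Etale.Kaehler
import Mathlib.RingTheory.Etale.Descent
import Mathlib.RingTheory.Unramified.LocalStructure
import Mathlib.RingTheory.Smooth.Kaehler
import Mathlib.RingTheory.Smooth.Locus
import Mathlib.RingTheory.RingHom.Smooth
import Mathlib.AlgebraicGeometry.Morphisms.Smooth
import Mathlib.Algebra.Module.Torsion.Basic
import Mathlib.RingTheory.Localization.BaseChange
import Mathlib.RingTheory.Flat.FaithfullyFlat.Basic
import Groth.Agent.Lib.Helper16.EtLocal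

/-!
# Helper library (helper16): smoothness is etale local on the source

Ring level: if `C → R → R'` with `R → R'` etale and faithfully flat and `C → R'` smooth, then
`C → R` is smooth.  The vanishing of `H¹(L_{R/C})` is proved by lifting standard etale algebras
over `R` to the polynomial ring presenting `R`, and using the base change of `H¹` of the naive
cotangent complex along formally etale maps of extensions.
-/

set_option autoImplicit false
set_option linter.style.haveILetI false
set_option linter.unnecessarySimpa false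
universe u
open Polynomial TensorProduct

namespace Groth.Agent.Lib.Helper16

namespace Sm
open Algebra

/-- Lifting a standard etale pair along a surjective ring homomorphism, up to multiplying `g`. -/
theorem exists_lift_pair {P₀ S : Type u} [CommRing P₀] [CommRing S] (φ : P₀ →+* S)
    (hφ : Function.Surjective φ) (E : StandardEtalePair S) :
    ∃ (E₀ : StandardEtalePair P₀) (n : ℕ), E₀.f.map φ = E.f ∧ E₀.g.map φ = E.g ^ (n + 1) := by
  obtain ⟨p₁, p₂, n, e⟩ := E.cond
  obtain ⟨f', hf', -, hmon⟩ := lifts_and_natDegree_eq_and_monic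
    ((mem_lifts _).2 (map_surjective φ hφ E.f)) E.monic_f
  obtain ⟨g', hg'⟩ := map_surjective φ hφ E.g
  obtain ⟨q₁, hq₁⟩ := map_surjective φ hφ p₁
  obtain ⟨q₂, hq₂⟩ := map_surjective φ hφ p₂
  refine ⟨⟨f', hmon, g' * (derivative f' * q₁ + f' * q₂), g' * q₁, g' * q₂, 1, by ring⟩, n, hf', ?_⟩
  simp only [Polynomial.map_mul, Polynomial.map_add, ← derivative_map, hf', hg', hq₁, hq₂, e]
  ring


variable {R S T : Type u} [CommRing R] [CommRing S] [CommRing T] [Algebra R S] [Algebra R T]
  [Algebra S T] [IsScalarTower R S T]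

set_option backward.isDefEq.respectTransparency false in
/-- Base change of `H¹(L)` along a flat lift of `S → T` to a formally etale map of extensions. -/
theorem nonempty_tensorH1Cotangent_equiv [Module.Flat S T] (P : Algebra.Extension.{u} R S)
    (Q₀ : Type u) [CommRing Q₀] [Algebra P.Ring Q₀] [Algebra R Q₀] [IsScalarTower R P.Ring Q₀]
    [Algebra.FormallyEtale P.Ring Q₀] [Module.Flat P.Ring Q₀]
    (fQ : Q₀ →ₐ[R] T)
    (hcomm : ∀ x : P.Ring, fQ (algebraMap P.Ring Q₀ x) = algebraMap S T (algebraMap P.Ring S x))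
    (hsurj : Function.Surjective fQ)
    (hker : RingHom.ker fQ ≤ Ideal.map (algebraMap P.Ring Q₀) P.ker) :
    Nonempty (T ⊗[S] P.H1Cotangent ≃ₗ[T] (Extension.ofSurjective fQ hsurj).H1Cotangent) := by
  letI Q : Extension R T := .ofSurjective fQ hsurj
  letI f : P.Hom Q :=
  { toRingHom := algebraMap P.Ring Q₀
    toRingHom_algebraMap x := (IsScalarTower.algebraMap_apply R P.Ring Q₀ _).symm
    algebraMap_toRingHom x := hcomm x }
  letI : Algebra P.Ring Q.Ring := (inferInstance : Algebra P.Ring Q₀)
  refine ⟨Extension.tensorH1CotangentOfFormallyEtale f rfl ?_ ?_⟩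
  · exact RingHom.formallyEtale_algebraMap.mpr (inferInstance : Algebra.FormallyEtale P.Ring Q₀)
  · -- bijectivity
    let g : Q₀ ⊗[P.Ring] P.ker →ₗ[Q₀] Q₀ :=
      (AlgebraTensorModule.rid _ _ _).toLinearMap ∘ₗ AlgebraTensorModule.lTensor Q₀ Q₀ P.ker.subtype
    have hg : Function.Injective g := by
      simp only [g, LinearMap.coe_comp, LinearEquiv.coe_coe, EquivLike.comp_injective]
      exact Module.Flat.lTensor_preserves_injective_linearMap _ (Submodule.injective_subtype _)
    have key : ∀ z, (((f.mapKer rfl).liftBaseChange Q.Ring z).1 : Q.Ring) = g z := by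
      intro z
      induction z with
      | zero => simp only [map_zero]; rfl
      | add x y hx hy => simp only [map_add, Submodule.coe_add, hx, hy]
      | tmul q x =>
        simp [g, Algebra.smul_def, mul_comm]
        rfl
    constructor
    · intro z₁ z₂ h
      apply hg
      rw [← key, ← key, h]
    · intro j
      have hj : (j.1 : Q.Ring) ∈ Ideal.map (algebraMap P.Ring Q₀) P.ker := hker j.2
      have hrange : ∀ y ∈ Ideal.map (algebraMap P.Ring Q₀) P.ker, ∃ z, g z = y := by
        intro y hy
        induction hy using Submodule.span_induction with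
        | mem y h =>
          obtain ⟨x, hx, rfl⟩ := h
          exact ⟨1 ⊗ₜ ⟨x, hx⟩, by simp [g, Algebra.smul_def]⟩
        | zero => exact ⟨0, map_zero _⟩
        | add a b _ _ ha hb =>
          obtain ⟨z₁, rfl⟩ := ha
          obtain ⟨z₂, rfl⟩ := hb
          exact ⟨z₁ + z₂, map_add _ _ _⟩
        | smul a b _ hb =>
          obtain ⟨z, rfl⟩ := hb
          exact ⟨a • z, by simp⟩
      obtain ⟨z, hz⟩ := hrange _ hj
      exact ⟨z, Subtype.ext ((key z).trans hz)⟩

variable {R S : Type u} [CommRing R] [CommRing S] [Algebra R S]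

set_option backward.isDefEq.respectTransparency false in
theorem subsingleton_tensor_h1Cotangent_of_etale_lift (P : Algebra.Extension.{u} R S)
    [Algebra.FormallySmooth R P.Ring]
    (Q₀ : Type u) [CommRing Q₀] [Algebra P.Ring Q₀] [Algebra R Q₀] [IsScalarTower R P.Ring Q₀]
    [Algebra.Etale P.Ring Q₀] [Algebra.FormallySmooth R (S ⊗[P.Ring] Q₀)] :
    Subsingleton ((S ⊗[P.Ring] Q₀) ⊗[S] P.H1Cotangent) := by
  have hone : ∀ p : P.Ring, (1 : S) ⊗ₜ[P.Ring] (algebraMap P.Ring Q₀ p) =
      (algebraMap P.Ring S p) ⊗ₜ[P.Ring] (1 : Q₀) := by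
    intro p
    rw [Algebra.algebraMap_eq_smul_one, Algebra.algebraMap_eq_smul_one (A := S), TensorProduct.smul_tmul]
  let fQ : Q₀ →ₐ[R] S ⊗[P.Ring] Q₀ :=
    { toRingHom := (Algebra.TensorProduct.includeRight (R := P.Ring) (A := S) (B := Q₀)).toRingHom
      commutes' := fun r => by
        show (1 : S) ⊗ₜ[P.Ring] (algebraMap R Q₀ r) = algebraMap R (S ⊗[P.Ring] Q₀) r
        rw [IsScalarTower.algebraMap_apply R P.Ring Q₀, hone, Algebra.TensorProduct.algebraMap_apply,
          ← IsScalarTower.algebraMap_apply] }
  have hfQ : ∀ q, fQ q = (1 : S) ⊗ₜ[P.Ring] q := fun q => rfl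
  have hsurj : Function.Surjective fQ := by
    intro t
    induction t with
    | zero => exact ⟨0, map_zero _⟩
    | add a b ha hb =>
      obtain ⟨x, rfl⟩ := ha
      obtain ⟨y, rfl⟩ := hb
      exact ⟨x + y, map_add _ _ _⟩
    | tmul s q =>
      obtain ⟨p, rfl⟩ := P.algebraMap_surjective s
      refine ⟨p • q, ?_⟩
      rw [hfQ, Algebra.algebraMap_eq_smul_one, TensorProduct.smul_tmul]
  have hker : RingHom.ker fQ ≤ Ideal.map (algebraMap P.Ring Q₀) P.ker := by
    intro q hq
    have h0 : (1 : S) ⊗ₜ[P.Ring] q = 0 := hq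
    have hex := rTensor_exact Q₀ (LinearMap.exact_subtype_ker_map (Algebra.linearMap P.Ring S))
      P.algebraMap_surjective
    have h1 : (Algebra.linearMap P.Ring S).rTensor Q₀ ((1 : P.Ring) ⊗ₜ q) = 0 := by simpa using h0
    obtain ⟨z, hz⟩ := (hex _).1 h1
    have h2 : q = TensorProduct.lid P.Ring Q₀
        ((LinearMap.ker (Algebra.linearMap P.Ring S)).subtype.rTensor Q₀ z) := by
      rw [hz]; simp
    rw [h2]
    clear hz h2
    induction z with
    | zero => simp
    | add a b ha hb =>
      rw [map_add, map_add]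
      exact Ideal.add_mem _ ha hb
    | tmul x q' =>
      simp only [LinearMap.rTensor_tmul, Submodule.subtype_apply, TensorProduct.lid_tmul,
        Algebra.smul_def]
      exact Ideal.mul_mem_right _ _ (Ideal.mem_map_of_mem _ (by simpa using x.2))
  have hfl : Module.Flat P.Ring Q₀ := inferInstance
  obtain ⟨e⟩ := nonempty_tensorH1Cotangent_equiv P Q₀ fQ (fun x => (hone x).trans
    (Algebra.TensorProduct.algebraMap_apply _).symm) hsurj hker
  have : Algebra.FormallySmooth R Q₀ := .comp R P.Ring Q₀
  have : Algebra.FormallySmooth R (Extension.ofSurjective fQ hsurj).Ring := this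
  have e2 := Extension.equivH1CotangentOfFormallySmooth (Extension.ofSurjective fQ hsurj)
  exact (e.trans e2).toEquiv.subsingleton


/-- Two standard etale presentations whose pairs have the same `f` and `g₂ = g₁^(n+1)` present
isomorphic algebras. -/
theorem nonempty_algEquiv_of_pairs {S T T₂ : Type u} [CommRing S] [CommRing T] [CommRing T₂]
    [Algebra S T] [Algebra S T₂]
    (E : StandardEtalePresentation S T) (B : StandardEtalePresentation S T₂) (n : ℕ)
    (hf : B.f = E.f) (hg : B.g = E.g ^ (n + 1)) : Nonempty (T ≃ₐ[S] T₂) := by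
  have h1 : E.P.HasMap B.x := by
    refine ⟨?_, ?_⟩
    · rw [← hf]; exact B.hasMap.1
    · have := B.hasMap.2
      rw [hg, map_pow, isUnit_pow_succ_iff] at this
      exact this
  have h2 : B.P.HasMap E.x := by
    refine ⟨?_, ?_⟩
    · rw [hf]; exact E.hasMap.1
    · rw [hg, map_pow]; exact E.hasMap.2.pow _
  let φ : T →ₐ[S] T₂ := (E.P.lift B.x h1).comp E.equivRing.toAlgHom
  let ψ : T₂ →ₐ[S] T := (B.P.lift E.x h2).comp B.equivRing.toAlgHom
  refine ⟨AlgEquiv.ofAlgHom φ ψ ?_ ?_⟩
  · apply B.hom_ext
    simp [φ, ψ]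
  · apply E.hom_ext
    simp [φ, ψ]

theorem subsingleton_of_forall_prime_exists_away {A : Type u} [CommRing A] {N : Type u}
    [AddCommGroup N] [Module A N]
    (H : ∀ (Q : Ideal A) [Q.IsPrime], ∃ f ∉ Q, Subsingleton (Localization.Away f ⊗[A] N)) :
    Subsingleton N := by
  suffices h : ∀ x : N, x = 0 from ⟨fun x y => by rw [h x, h y]⟩
  intro x
  by_contra hx
  have hne : Ideal.torsionOf A N x ≠ ⊤ := (Ideal.torsionOf_eq_top_iff A x).not.2 hx
  obtain ⟨Q, hQmax, hQ⟩ := Ideal.exists_le_maximal _ hne
  have := hQmax.isPrime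
  obtain ⟨f, hf, hsub⟩ := H Q
  have : IsLocalizedModule (.powers f) (TensorProduct.mk A (Localization.Away f) N 1) :=
    (isLocalizedModule_iff_isBaseChange (.powers f) (Localization.Away f) _).2
      (TensorProduct.isBaseChange A N (Localization.Away f))
  obtain ⟨⟨c, k, rfl⟩, hc⟩ := (IsLocalizedModule.eq_zero_iff (.powers f)
    (TensorProduct.mk A (Localization.Away f) N 1) (m := x)).1 (Subsingleton.elim _ _)
  have hmem : f ^ k ∈ Ideal.torsionOf A N x := (Ideal.mem_torsionOf_iff _ _).2 hc
  exact hf (hQmax.isPrime.mem_of_pow_mem _ (hQ hmem))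



section B
variable {R S T : Type u} [CommRing R] [CommRing S] [CommRing T] [Algebra R S] [Algebra R T]
  [Algebra S T] [IsScalarTower R S T]

set_option backward.isDefEq.respectTransparency false in
theorem subsingleton_tensor_h1Cotangent_of_isStandardEtale [Algebra.IsStandardEtale S T]
    [Algebra.FormallySmooth R T] : Subsingleton (T ⊗[S] Algebra.H1Cotangent R S) := by
  obtain ⟨E⟩ := Algebra.IsStandardEtale.nonempty_standardEtalePresentation (R := S) (S := T)
  let P : Algebra.Extension.{u} R S := (Algebra.Generators.self R S).toExtension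
  obtain ⟨E₀, n, hf, hg⟩ := exists_lift_pair (algebraMap P.Ring S) P.algebraMap_surjective E.P
  letI : Algebra R E₀.Ring := ((algebraMap P.Ring E₀.Ring).comp (algebraMap R P.Ring)).toAlgebra
  have : IsScalarTower R P.Ring E₀.Ring := .of_algebraMap_eq' rfl
  let B₀ : StandardEtalePresentation P.Ring E₀.Ring :=
    ⟨E₀, E₀.X, E₀.hasMap_X, by simpa [StandardEtalePair.lift_X_left] using Function.bijective_id⟩
  let B : StandardEtalePresentation S (S ⊗[P.Ring] E₀.Ring) := B₀.baseChange
  obtain ⟨e⟩ := nonempty_algEquiv_of_pairs E B n hf hg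
  have : Algebra.FormallySmooth R P.Ring :=
    inferInstanceAs (Algebra.FormallySmooth R (MvPolynomial S R))
  have : Algebra.FormallySmooth R (S ⊗[P.Ring] E₀.Ring) :=
    Algebra.FormallySmooth.of_equiv (e.restrictScalars R)
  have := subsingleton_tensor_h1Cotangent_of_etale_lift P E₀.Ring
  exact (TensorProduct.congr e.toLinearEquiv (LinearEquiv.refl S _)).toEquiv.subsingleton

end B

section D
variable (C R R' : Type u) [CommRing C] [CommRing R] [CommRing R'] [Algebra C R] [Algebra R R']
  [Algebra C R'] [IsScalarTower C R R']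

theorem subsingleton_h1Cotangent_of_etale_faithfullyFlat [Algebra.Etale R R']
    [Module.FaithfullyFlat R R'] [Algebra.FormallySmooth C R'] :
    Subsingleton (Algebra.H1Cotangent C R) := by
  have : Subsingleton (R' ⊗[R] Algebra.H1Cotangent C R) := by
    apply subsingleton_of_forall_prime_exists_away (A := R')
    intro Q _
    have : Algebra.IsEtaleAt R Q := Algebra.FormallyEtale.comp R R' (Localization.AtPrime Q)
    obtain ⟨f, hf, hstd⟩ := Algebra.IsEtaleAt.exists_isStandardEtale (R := R) Q
    refine ⟨f, hf, ?_⟩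
    have : Algebra.FormallySmooth C (Localization.Away f) := .comp C R' _
    have := subsingleton_tensor_h1Cotangent_of_isStandardEtale (R := C) (S := R)
      (T := Localization.Away f)
    exact (AlgebraTensorModule.cancelBaseChange R R' (Localization.Away f) (Localization.Away f)
      (Algebra.H1Cotangent C R)).toEquiv.subsingleton
  exact Module.FaithfullyFlat.lTensor_reflects_triviality R R' _

theorem smooth_of_etale_faithfullyFlat [Algebra.Etale R R']
    [Module.FaithfullyFlat R R'] [Algebra.Smooth C R'] [Algebra.FinitePresentation C R] :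
    Algebra.Smooth C R := by
  refine ⟨?_, ‹_›⟩
  rw [Algebra.formallySmooth_iff]
  refine ⟨?_, subsingleton_h1Cotangent_of_etale_faithfullyFlat C R R'⟩
  have e := KaehlerDifferential.tensorKaehlerEquivOfFormallyEtale C R R'
  have : Module.Flat R' (R' ⊗[R] Ω[R⁄C]) := .of_linearEquiv e
  have : Module.Flat R Ω[R⁄C] := Module.Flat.of_flat_tensorProduct _ _ R'
  exact Module.Flat.projective_of_finitePresentation

end D

end Sm

open CategoryTheory CategoryTheory.Limits AlgebraicGeometry MorphismProperty

theorem smooth_etDescends : RingHomEtDescends.{u} @RingHom.Smooth := by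
  intro C R R' _ _ _ f g hg hff H
  have hfp : f.FinitePresentation :=
    finitePresentation_etDescends f g hg hff H.finitePresentation
  algebraize [f, g, g.comp f]
  have h1 : Algebra.Etale R R' := RingHom.etale_algebraMap.1 hg
  have h2 : Module.FaithfullyFlat R R' := (RingHom.faithfullyFlat_algebraMap_iff).1 hff
  have h3 : Algebra.Smooth C R' := RingHom.smooth_algebraMap.1 H
  have h4 : Algebra.FinitePresentation C R := RingHom.finitePresentation_algebraMap.1 hfp
  exact RingHom.smooth_algebraMap.2 (Sm.smooth_of_etale_faithfullyFlat C R R')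

theorem etLocalST_smooth : EtLocalST @Smooth where
  baseChange := inferInstance
  mult := by
    have : MorphismProperty.ContainsIdentities @Smooth := ⟨fun X => inferInstance⟩
    exact {}
  etale_le := fun X Y f hf => by have : Etale f := hf; infer_instance
  ofCover := fun A B h H => by
    have : MorphismProperty.RespectsRight @Smooth @IsOpenImmersion :=
      respectsRight_isOpenImmersion_of @Smooth fun f _ => inferInstance
    exact of_hasEtCover smooth_etDescends h H

/-- Each of the seven listed classes of morphisms of schemes is etale local on the source and target. -/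
theorem etLocalST_of_seven (P : MorphismProperty Scheme.{u})
    (hP : P = @LocallyOfFiniteType ∨ P = @LocallyOfFinitePresentation ∨ P = @Flat ∨ P = @Smooth ∨ P = @Etale ∨
      (∀ ⦃A B : Scheme.{u}⦄ (g : A ⟶ B), P g ↔ (LocallyQuasiFinite g ∧ LocallyOfFiniteType g)) ∨
      (∀ ⦃A B : Scheme.{u}⦄ (g : A ⟶ B), P g ↔ (LocallyOfFiniteType g ∧ FormallyUnramified g))) :
    EtLocalST P := by
  rcases hP with rfl | rfl | rfl | rfl | rfl | h | h
  · exact etLocalST_locallyOfFiniteType
  · exact etLocalST_locallyOfFinitePresentation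
  · exact etLocalST_flat
  · exact etLocalST_smooth
  · exact etLocalST_etale
  · exact etLocalST_locallyQuasiFinite.of_eq h
  · exact etLocalST_unramified.of_eq h

end Groth.Agent.Lib.Helper16
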