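import Groth.Agent.Lib.Helper16.QuasiCompactMor2
import Groth.Agent.Lib.Helper16.Descent

/-!
# Helper library (helper16): diagonals of morphisms of sheaves / algebraic spaces

* base change of the diagonal, factorisation of maps to `X ×_Y X` through a base change,
* `RepWith P (Δ_f)` can be checked after base change to affine schemes (for `P` Zariski local on the target) or
  after an etale surjective base change (for `P` satisfying fppf descent),
* fibre products: quasi-compactness, `RepWith Q (diag P)` for a fibre product `P`.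
-/

set_option autoImplicit false
universe u
open CategoryTheory CategoryTheory.Limits AlgebraicGeometry Opposite Topology MorphismProperty

namespace Groth.Agent.Lib.Helper16

open AlgSp

section General

universe v w
variable {C : Type w} [Category.{v} C]

/-- Transport of a property respecting isomorphisms between two pullbacks of the same cospan. -/
theorem P_of_two_pullbacks (Pr : MorphismProperty C) [Pr.RespectsIso] {P P' X Y Z : C} {fst : P ⟶ X}
    {snd : P ⟶ Y} {fst' : P' ⟶ X} {snd' : P' ⟶ Y} {f : X ⟶ Z} {g : Y ⟶ Z}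
    (h : IsPullback fst snd f g) (h' : IsPullback fst' snd' f g) (hs : Pr snd') : Pr snd := by
  have hiso : IsIso (h'.lift fst snd h.w) :=
    ⟨h.lift fst' snd' h'.w, h.hom_ext (by simp) (by simp), h'.hom_ext (by simp) (by simp)⟩
  rw [← h'.lift_snd fst snd h.w]
  exact (Pr.cancel_left_of_respectsIso (h'.lift fst snd h.w) snd').2 hs

variable [HasPullbacks C]

set_option backward.isDefEq.respectTransparency false in
/-- The base change of the diagonal is the diagonal of the base change. -/
theorem isPullback_diagonal_of_isPullback {X' X Y' Y : C} {p₁ : X' ⟶ X} {q : X' ⟶ Y'} {f : X ⟶ Y}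
    {y : Y' ⟶ Y} (sq : IsPullback p₁ q f y) :
    IsPullback p₁ (pullback.diagonal q) (pullback.diagonal f)
      (pullback.map q q f f p₁ p₁ y sq.w.symm sq.w.symm) := by
  refine isPullback_of_exists_lift ?_ ?_ ?_
  · apply pullback.hom_ext <;> simp
  · intro Q a b h
    have h1 : a = b ≫ pullback.fst q q ≫ p₁ := by
      have := congrArg (· ≫ pullback.fst f f) h
      simpa using this
    have h2 : a = b ≫ pullback.snd q q ≫ p₁ := by
      have := congrArg (· ≫ pullback.snd f f) h
      simpa using this
    have h3 : b ≫ pullback.fst q q = b ≫ pullback.snd q q := by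
      apply sq.hom_ext
      · rw [Category.assoc, Category.assoc, ← h1, ← h2]
      · rw [Category.assoc, Category.assoc, pullback.condition]
    refine ⟨b ≫ pullback.fst q q, ?_, ?_⟩
    · rw [Category.assoc, ← h1]
    · apply pullback.hom_ext
      · rw [Category.assoc, pullback.diagonal_fst, Category.comp_id]
      · rw [Category.assoc, pullback.diagonal_snd, Category.comp_id, h3]
  · intro Q l l' _ h2
    have := congrArg (· ≫ pullback.fst q q) h2
    simpa using this

set_option backward.isDefEq.respectTransparency false in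
/-- A map to `X ×_Y X` lying over a map to `Y'` factors through `X' ×_{Y'} X'`. -/
theorem exists_lift_diagonalObj {X' X Y' Y Q : C} {p₁ : X' ⟶ X} {q : X' ⟶ Y'} {f : X ⟶ Y} {y : Y' ⟶ Y}
    (sq : IsPullback p₁ q f y) (t : Q ⟶ pullback f f) (u : Q ⟶ Y')
    (h : t ≫ pullback.fst f f ≫ f = u ≫ y) :
    ∃ t' : Q ⟶ pullback q q, t' ≫ pullback.map q q f f p₁ p₁ y sq.w.symm sq.w.symm = t := by
  have h' : t ≫ pullback.snd f f ≫ f = u ≫ y := by rw [← pullback.condition]; exact h
  refine ⟨pullback.lift (sq.lift (t ≫ pullback.fst f f) u (by rw [Category.assoc]; exact h))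
    (sq.lift (t ≫ pullback.snd f f) u (by rw [Category.assoc]; exact h'))
    (by rw [sq.lift_snd, sq.lift_snd]), ?_⟩
  apply pullback.hom_ext <;> simp

set_option backward.isDefEq.respectTransparency false in
/-- For a pullback `P = X ×_Y W`, the map `P ⟶ X ×_Z W` is a base change of the diagonal of `g : Y ⟶ Z`. -/
theorem isPullback_diagonal_of_isPullback_comp {P X W Y Z : C} {fst : P ⟶ X} {snd : P ⟶ W} {f : X ⟶ Y}
    {w : W ⟶ Y} (sq : IsPullback fst snd f w) (g : Y ⟶ Z) :
    IsPullback (fst ≫ f) (pullback.lift fst snd (by rw [← Category.assoc, sq.w, Category.assoc]))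
      (pullback.diagonal g)
      (pullback.map (f ≫ g) (w ≫ g) g g f w (𝟙 Z) (Category.comp_id _) (Category.comp_id _)) := by
  refine isPullback_of_exists_lift ?_ ?_ ?_
  · apply pullback.hom_ext
    · simp
    · simp [sq.w]
  · intro Q a b h
    have h1 : a = b ≫ pullback.fst (f ≫ g) (w ≫ g) ≫ f := by
      have := congrArg (· ≫ pullback.fst g g) h
      simpa using this
    have h2 : a = b ≫ pullback.snd (f ≫ g) (w ≫ g) ≫ w := by
      have := congrArg (· ≫ pullback.snd g g) h
      simpa using this
    have hw : (b ≫ pullback.fst (f ≫ g) (w ≫ g)) ≫ f = (b ≫ pullback.snd (f ≫ g) (w ≫ g)) ≫ w := by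
      rw [Category.assoc, Category.assoc, ← h1, ← h2]
    refine ⟨sq.lift _ _ hw, ?_, ?_⟩
    · rw [← Category.assoc, sq.lift_fst, Category.assoc, ← h1]
    · apply pullback.hom_ext
      · rw [Category.assoc, pullback.lift_fst, sq.lift_fst]
      · rw [Category.assoc, pullback.lift_snd, sq.lift_snd]
  · intro Q l l' _ h2
    apply sq.hom_ext
    · have := congrArg (· ≫ pullback.fst (f ≫ g) (w ≫ g)) h2
      simpa using this
    · have := congrArg (· ≫ pullback.snd (f ≫ g) (w ≫ g)) h2
      simpa using this

end General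

variable {S : Scheme.{u}}

/-- Base change of `UnivSp Q`. -/
theorem univSp_of_isPullback {Q : MorphismProperty (Sp S)} {X Y X' Y' : Sp S} {f : X ⟶ Y} {g : Y' ⟶ Y}
    {fst : X' ⟶ X} {snd : X' ⟶ Y'} (sq : IsPullback fst snd f g) (hf : UnivSp Q f) : UnivSp Q snd := by
  intro Z Z' hZ g₁ fst₁ snd₁ sq₁
  exact hf hZ (g₁ ≫ g) (fst₁ ≫ fst) snd₁ (sq₁.paste_horiz sq)

/-- Lemma G: if the base change `q` of `f` has diagonal representable with `P`, then every represented pullback of
the diagonal of `f` along a map lying over the base change has `P`. -/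
theorem P_of_diagonal_base_change {P : MorphismProperty Scheme.{u}} {X Y X' Y' : Sp S} {f : X ⟶ Y}
    {p₁ : X' ⟶ X} {q : X' ⟶ Y'} {y : Y' ⟶ Y} (sq : IsPullback p₁ q f y)
    (hq : RepWith P (pullback.diagonal q)) {T E : Over S} (t : (yon S).obj T ⟶ pullback f f)
    (u : (yon S).obj T ⟶ Y') (h : t ≫ pullback.fst f f ≫ f = u ≫ y) (a : (yon S).obj E ⟶ X) (b : E ⟶ T)
    (sqE : IsPullback a ((yon S).map b) (pullback.diagonal f) t) : P b.left := by
  obtain ⟨t', ht'⟩ := exists_lift_diagonalObj sq t u h
  have sqK := isPullback_diagonal_of_isPullback sq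
  have hw : a ≫ pullback.diagonal f =
      ((yon S).map b ≫ t') ≫ pullback.map q q f f p₁ p₁ y sq.w.symm sq.w.symm := by
    rw [Category.assoc, ht']; exact sqE.w
  have hl : sqK.lift a ((yon S).map b ≫ t') hw ≫ pullback.diagonal q = (yon S).map b ≫ t' :=
    sqK.lift_snd _ _ _
  have sql : IsPullback (sqK.lift a ((yon S).map b ≫ t') hw) ((yon S).map b) (pullback.diagonal q) t' := by
    refine IsPullback.of_right ?_ hl sqK
    rw [sqK.lift_fst, ht']
    exact sqE
  exact hq.property _ _ _ sql

/-- The pullback of the diagonal of `f` along `t` is the pullback of the diagonal of `X` along the pair of components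
of `t`. -/
theorem isPullback_diagonal_of_diag {X Y : Sp S} (f : X ⟶ Y) {T E : Over S}
    (t : (yon S).obj T ⟶ pullback f f) (ε : (yon S).obj E ⟶ X) (e : E ⟶ T)
    (sq₀ : IsPullback ε ((yon S).map e) (Limits.diag X)
      (prod.lift (t ≫ pullback.fst f f) (t ≫ pullback.snd f f))) :
    IsPullback ε ((yon S).map e) (pullback.diagonal f) t := by
  have h1 : ε = (yon S).map e ≫ t ≫ pullback.fst f f := by
    have := congrArg (· ≫ prod.fst) sq₀.w
    simpa only [Category.assoc, prod.lift_fst, Category.comp_id] using this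
  have h2 : ε = (yon S).map e ≫ t ≫ pullback.snd f f := by
    have := congrArg (· ≫ prod.snd) sq₀.w
    simpa only [Category.assoc, prod.lift_snd, Category.comp_id] using this
  refine isPullback_of_exists_lift ?_ ?_ ?_
  · apply pullback.hom_ext
    · rw [Category.assoc, pullback.diagonal_fst, Category.comp_id, Category.assoc]; exact h1
    · rw [Category.assoc, pullback.diagonal_snd, Category.comp_id, Category.assoc]; exact h2
  · intro Q a b h
    have ha1 : a = b ≫ t ≫ pullback.fst f f := by
      have := congrArg (· ≫ pullback.fst f f) h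
      simpa only [Category.assoc, pullback.diagonal_fst, Category.comp_id] using this
    have ha2 : a = b ≫ t ≫ pullback.snd f f := by
      have := congrArg (· ≫ pullback.snd f f) h
      simpa only [Category.assoc, pullback.diagonal_snd, Category.comp_id] using this
    have hw : a ≫ Limits.diag X = b ≫ prod.lift (t ≫ pullback.fst f f) (t ≫ pullback.snd f f) := by
      apply Limits.prod.hom_ext
      · simp only [Category.assoc, prod.lift_fst, Category.comp_id]; exact ha1
      · simp only [Category.assoc, prod.lift_snd, Category.comp_id]; exact ha2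
    exact ⟨sq₀.lift a b hw, sq₀.lift_fst _ _ _, sq₀.lift_snd _ _ _⟩
  · intro Q l l' h1 h2
    exact sq₀.hom_ext h1 h2

/-- Lemma F: `RepWith P (Δ_f)` can be checked after base change to affine schemes, when the source has
representable diagonal and `P` is Zariski local on the target. -/
theorem repWith_diagonal_of_affine {P : MorphismProperty Scheme.{u}} [P.IsStableUnderBaseChange]
    [IsZariskiLocalAtTarget P] {X Y : Sp S} (hX : Representable (Limits.diag X)) (f : X ⟶ Y)
    (h : ∀ (Z : Over S), IsAffine Z.left → ∀ (g : (yon S).obj Z ⟶ Y) (X' : Sp S) (fst : X' ⟶ X)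
      (snd : X' ⟶ (yon S).obj Z), IsPullback fst snd f g → RepWith P (pullback.diagonal snd)) :
    RepWith P (pullback.diagonal f) := by
  have : P.RespectsIso := MorphismProperty.IsStableUnderBaseChange.respectsIso
  apply MorphismProperty.relative.of_exists
  intro T t
  obtain ⟨E, e, ε, sq₀⟩ := hX (prod.lift (t ≫ pullback.fst f f) (t ≫ pullback.snd f f))
  have sqE := isPullback_diagonal_of_diag f t ε e sq₀
  refine ⟨E, ε, e, sqE, ?_⟩
  change P e.left
  apply IsZariskiLocalAtTarget.of_forall_exists_morphismRestrict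
  intro x
  obtain ⟨W, hW, hxW, -⟩ := (TopologicalSpace.Opens.isBasis_iff_nbhd.mp T.left.isBasis_affineOpens)
    (show x ∈ (⊤ : T.left.Opens) from trivial)
  refine ⟨W, hxW, ?_⟩
  have sqW := isPullback_restrict sqE W
  have hWa : IsAffine (overOpen T W).left := hW
  have sq := IsPullback.of_hasPullback f (((yon S).map (overOpenι T W) ≫ t) ≫ pullback.fst f f ≫ f)
  have hq := h (overOpen T W) hWa _ _ _ _ sq
  exact P_of_diagonal_base_change sq hq ((yon S).map (overOpenι T W) ≫ t) (𝟙 _)
    (by rw [Category.id_comp]) _ _ sqW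

/-- Lemma H: `RepWith P (Δ_f)` can be checked after an etale surjective base change, for `P` satisfying fppf
descent. -/
theorem repWith_diagonal_of_etale_cover {P : MorphismProperty Scheme.{u}} [P.IsStableUnderBaseChange]
    [P.DescendsAlong (@Surjective ⊓ @Flat ⊓ @LocallyOfFinitePresentation)]
    {X Y : Sp S} (hX : Representable (Limits.diag X)) (f : X ⟶ Y) {V : Over S} (p : (yon S).obj V ⟶ Y)
    (hp : RepWith @Etale p) (hps : RepWith @Surjective p) {X' : Sp S} (fst : X' ⟶ X)
    (snd : X' ⟶ (yon S).obj V) (sq : IsPullback fst snd f p) (hq : RepWith P (pullback.diagonal snd)) :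
    RepWith P (pullback.diagonal f) := by
  have : P.RespectsIso := MorphismProperty.IsStableUnderBaseChange.respectsIso
  apply MorphismProperty.relative.of_exists
  intro T t
  obtain ⟨E, e, ε, sq₀⟩ := hX (prod.lift (t ≫ pullback.fst f f) (t ≫ pullback.snd f f))
  have sqE := isPullback_diagonal_of_diag f t ε e sq₀
  refine ⟨E, ε, e, sqE, ?_⟩
  change P e.left
  obtain ⟨T', c, u, sqT⟩ := hp.rep (t ≫ pullback.fst f f ≫ f)
  have hce : Etale c.left := hp.property _ _ _ sqT
  have hcs : Surjective c.left := hps.property _ _ _ sqT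
  refine P_of_fppf_cover e c hcs inferInstance inferInstance ?_
  have sq1 : IsPullback ((yon S).map (pullback.fst e c) ≫ ε) ((yon S).map (pullback.snd e c))
      (pullback.diagonal f) ((yon S).map c ≫ t) :=
    ((IsPullback.of_hasPullback e c).map (yon S)).paste_horiz sqE
  exact P_of_diagonal_base_change sq hq ((yon S).map c ≫ t) u
    (by rw [Category.assoc]; exact sqT.w.symm) _ _ sq1

/-- The diagonal of a fibre product of sheaves is representable with `Q` as soon as the diagonals of the two factors
are (for `Q` stable under base change and composition). -/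
theorem repWith_diag_of_isPullback {Q : MorphismProperty Scheme.{u}} [Q.IsStableUnderBaseChange]
    [Q.IsStableUnderComposition] {X Y Z P : Sp S} {f : X ⟶ Y} {g : Z ⟶ Y} {fst : P ⟶ X} {snd : P ⟶ Z}
    (sq : IsPullback fst snd f g) (hX : RepWith Q (Limits.diag X)) (hZ : RepWith Q (Limits.diag Z)) :
    RepWith Q (Limits.diag P) := by
  have : Q.RespectsIso := MorphismProperty.IsStableUnderBaseChange.respectsIso
  apply MorphismProperty.relative.of_exists
  intro T t
  obtain ⟨t₁, ht₁⟩ : ∃ t₁, t₁ = t ≫ prod.fst := ⟨_, rfl⟩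
  obtain ⟨t₂, ht₂⟩ : ∃ t₂, t₂ = t ≫ prod.snd := ⟨_, rfl⟩
  obtain ⟨EX, eX, εX, sqX⟩ := hX.rep (prod.lift (t₁ ≫ fst) (t₂ ≫ fst))
  obtain ⟨EZ, eZ, εZ, sqZ⟩ := hZ.rep (prod.lift (t₁ ≫ snd) (t₂ ≫ snd))
  have hQX : Q eX.left := hX.property _ _ _ sqX
  have hQZ : Q eZ.left := hZ.property _ _ _ sqZ
  have hX1 : εX = (yon S).map eX ≫ t₁ ≫ fst := by
    have := congrArg (· ≫ prod.fst) sqX.w
    simpa only [Category.assoc, prod.lift_fst, Category.comp_id] using this
  have hX2 : εX = (yon S).map eX ≫ t₂ ≫ fst := by
    have := congrArg (· ≫ prod.snd) sqX.w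
    simpa only [Category.assoc, prod.lift_snd, Category.comp_id] using this
  have hZ1 : εZ = (yon S).map eZ ≫ t₁ ≫ snd := by
    have := congrArg (· ≫ prod.fst) sqZ.w
    simpa only [Category.assoc, prod.lift_fst, Category.comp_id] using this
  have hZ2 : εZ = (yon S).map eZ ≫ t₂ ≫ snd := by
    have := congrArg (· ≫ prod.snd) sqZ.w
    simpa only [Category.assoc, prod.lift_snd, Category.comp_id] using this
  obtain ⟨e, he⟩ : ∃ e : pullback eX eZ ⟶ T, e = pullback.fst eX eZ ≫ eX := ⟨_, rfl⟩
  have sqE := (IsPullback.of_hasPullback eX eZ).map (yon S)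
  have he1 : (yon S).map e = (yon S).map (pullback.fst eX eZ) ≫ (yon S).map eX := by
    rw [he, Functor.map_comp]
  have he2 : (yon S).map e = (yon S).map (pullback.snd eX eZ) ≫ (yon S).map eZ := by
    rw [he, pullback.condition, Functor.map_comp]
  have key : (yon S).map e ≫ t₁ = (yon S).map e ≫ t₂ := by
    apply sq.hom_ext
    · rw [he1]
      simp only [Category.assoc]
      rw [← hX1, ← hX2]
    · rw [he2]
      simp only [Category.assoc]
      rw [← hZ1, ← hZ2]
  have e1 : ∀ {R : Sp S} (m : R ⟶ (yon S).obj (pullback eX eZ)),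
      (m ≫ (yon S).map (pullback.fst eX eZ)) ≫ εX = (m ≫ (yon S).map e ≫ t₁) ≫ fst := by
    intro R m
    rw [hX1, he1]
    simp only [Category.assoc]
  have e2 : ∀ {R : Sp S} (m : R ⟶ (yon S).obj (pullback eX eZ)),
      (m ≫ (yon S).map (pullback.fst eX eZ)) ≫ (yon S).map eX = m ≫ (yon S).map e := by
    intro R m
    rw [he1, Category.assoc]
  have e3 : ∀ {R : Sp S} (m : R ⟶ (yon S).obj (pullback eX eZ)),
      (m ≫ (yon S).map (pullback.snd eX eZ)) ≫ εZ = (m ≫ (yon S).map e ≫ t₁) ≫ snd := by
    intro R m
    rw [hZ1, he2]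
    simp only [Category.assoc]
  have e4 : ∀ {R : Sp S} (m : R ⟶ (yon S).obj (pullback eX eZ)),
      (m ≫ (yon S).map (pullback.snd eX eZ)) ≫ (yon S).map eZ = m ≫ (yon S).map e := by
    intro R m
    rw [he2, Category.assoc]
  refine ⟨pullback eX eZ, (yon S).map e ≫ t₁, e, ?_, ?_⟩
  · refine isPullback_of_exists_lift ?_ ?_ ?_
    · apply Limits.prod.hom_ext
      · simp only [Category.assoc, prod.lift_fst, Category.comp_id]
        rw [ht₁]
      · simp only [Category.assoc, prod.lift_snd, Category.comp_id]
        rw [key, ht₂]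
    · intro R a b h
      have ha1 : a = b ≫ t₁ := by
        have := congrArg (· ≫ prod.fst) h
        rw [ht₁]
        simpa only [Category.assoc, prod.lift_fst, Category.comp_id] using this
      have ha2 : a = b ≫ t₂ := by
        have := congrArg (· ≫ prod.snd) h
        rw [ht₂]
        simpa only [Category.assoc, prod.lift_snd, Category.comp_id] using this
      have hwX : (a ≫ fst) ≫ Limits.diag X = b ≫ prod.lift (t₁ ≫ fst) (t₂ ≫ fst) := by
        apply Limits.prod.hom_ext
        · simp only [Category.assoc, prod.lift_fst, Category.comp_id]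
          rw [ha1, Category.assoc]
        · simp only [Category.assoc, prod.lift_snd, Category.comp_id]
          rw [ha2, Category.assoc]
      have hwZ : (a ≫ snd) ≫ Limits.diag Z = b ≫ prod.lift (t₁ ≫ snd) (t₂ ≫ snd) := by
        apply Limits.prod.hom_ext
        · simp only [Category.assoc, prod.lift_fst, Category.comp_id]
          rw [ha1, Category.assoc]
        · simp only [Category.assoc, prod.lift_snd, Category.comp_id]
          rw [ha2, Category.assoc]
      have hl : sqX.lift (a ≫ fst) b hwX ≫ (yon S).map eX = sqZ.lift (a ≫ snd) b hwZ ≫ (yon S).map eZ := by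
        rw [sqX.lift_snd, sqZ.lift_snd]
      have hb : sqE.lift _ _ hl ≫ (yon S).map e = b := by
        rw [he1, ← Category.assoc, sqE.lift_fst, sqX.lift_snd]
      refine ⟨sqE.lift _ _ hl, ?_, hb⟩
      rw [← Category.assoc, hb, ← ha1]
    · intro R l l' h1 h2
      apply sqE.hom_ext
      · apply sqX.hom_ext
        · rw [e1 l, e1 l', h1]
        · rw [e2 l, e2 l', h2]
      · apply sqZ.hom_ext
        · rw [e3 l, e3 l', h1]
        · rw [e4 l, e4 l', h2]
  · change Q e.left
    rw [he]
    change Q ((pullback.fst eX eZ).left ≫ eX.left)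
    exact Q.comp_mem _ _ ((Q.inverseImage (Over.forget S)).pullback_fst eX eZ hQZ) hQX

/-- A fibre product of quasi-compact sheaves over a sheaf with quasi-compact diagonal, over a quasi-separated base
scheme, is quasi-compact. -/
theorem isQuasiCompactSp_of_isPullback [QuasiSeparatedSpace ↥S] {X Y Z P : Sp S} {f : X ⟶ Y} {g : Z ⟶ Y}
    {fst : P ⟶ X} {snd : P ⟶ Z} (sq : IsPullback fst snd f g) (hX : IsQuasiCompactSp X)
    (hZ : IsQuasiCompactSp Z) (hY : RepWith @QuasiCompact (Limits.diag Y)) : IsQuasiCompactSp P := by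
  obtain ⟨A, a, hae, has, hA⟩ := hX
  obtain ⟨B, b, hbe, hbs, hB⟩ := hZ
  have hA' : CompactSpace ↥A.left := hA
  have hB' : CompactSpace ↥B.left := hB
  obtain ⟨R, rU, rW, r, -, -, sqR, hQ⟩ := exists_chart_of_isPullback sq a b
    (Functor.relativelyRepresentable.of_diag hY.rep (a ≫ f))
  refine ⟨R, r, hQ @Etale hae hbe, hQ @Surjective has hbs, ?_⟩
  obtain ⟨A₀, hA₀⟩ : ∃ A₀ : A ⟶ Over.mk (𝟙 S), A₀.left = A.hom := ⟨Over.homMk A.hom, rfl⟩
  obtain ⟨B₀, hB₀⟩ : ∃ B₀ : B ⟶ Over.mk (𝟙 S), B₀.left = B.hom := ⟨Over.homMk B.hom, rfl⟩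
  obtain ⟨m, hm1', hm2'⟩ : ∃ m : R ⟶ pullback A₀ B₀, m ≫ pullback.fst A₀ B₀ = rU ∧
      m ≫ pullback.snd A₀ B₀ = rW :=
    ⟨pullback.lift rU rW (Over.mkIdTerminal.hom_ext _ _), pullback.lift_fst _ _ _, pullback.lift_snd _ _ _⟩
  have sq₀ := (IsPullback.of_hasPullback A₀ B₀).map (yon S)
  have hm1 : (yon S).map m ≫ (yon S).map (pullback.fst A₀ B₀) = (yon S).map rU := by
    rw [← Functor.map_comp, hm1']
  have hm2 : (yon S).map m ≫ (yon S).map (pullback.snd A₀ B₀) = (yon S).map rW := by
    rw [← Functor.map_comp, hm2']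
  have sqD : IsPullback ((yon S).map rU ≫ a ≫ f) ((yon S).map m) (Limits.diag Y)
      (prod.lift ((yon S).map (pullback.fst A₀ B₀) ≫ a ≫ f) ((yon S).map (pullback.snd A₀ B₀) ≫ b ≫ g)) := by
    refine isPullback_of_exists_lift ?_ ?_ ?_
    · apply Limits.prod.hom_ext
      · simp only [Category.assoc, prod.lift_fst, Category.comp_id]
        rw [← Category.assoc ((yon S).map m), hm1]
      · simp only [Category.assoc, prod.lift_snd, Category.comp_id]
        rw [← Category.assoc ((yon S).map m), hm2]
        exact sqR.w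
    · intro Q c d h
      have hc1 : c = d ≫ (yon S).map (pullback.fst A₀ B₀) ≫ a ≫ f := by
        have := congrArg (· ≫ prod.fst) h
        simpa only [Category.assoc, prod.lift_fst, Category.comp_id] using this
      have hc2 : c = d ≫ (yon S).map (pullback.snd A₀ B₀) ≫ b ≫ g := by
        have := congrArg (· ≫ prod.snd) h
        simpa only [Category.assoc, prod.lift_snd, Category.comp_id] using this
      have hw : (d ≫ (yon S).map (pullback.fst A₀ B₀)) ≫ a ≫ f =
          (d ≫ (yon S).map (pullback.snd A₀ B₀)) ≫ b ≫ g := by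
        rw [Category.assoc, Category.assoc, ← hc1, ← hc2]
      refine ⟨sqR.lift _ _ hw, ?_, ?_⟩
      · rw [← Category.assoc, sqR.lift_fst, Category.assoc, ← hc1]
      · apply sq₀.hom_ext
        · rw [Category.assoc, hm1, sqR.lift_fst]
        · rw [Category.assoc, hm2, sqR.lift_snd]
    · intro Q l l' _ h2
      apply sqR.hom_ext
      · have := congrArg (· ≫ (yon S).map (pullback.fst A₀ B₀)) h2
        simpa only [Category.assoc, hm1] using this
      · have := congrArg (· ≫ (yon S).map (pullback.snd A₀ B₀)) h2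
        simpa only [Category.assoc, hm2] using this
  have hm : QuasiCompact m.left := hY.property _ _ _ sqD
  have sqS : IsPullback (pullback.fst A₀ B₀).left (pullback.snd A₀ B₀).left A₀.left B₀.left :=
    (IsPullback.of_hasPullback A₀ B₀).map (Over.forget S)
  have hAq : QuasiCompact A₀.left := by
    rw [hA₀]
    exact @quasiCompact_of_compactSpace _ _ A.hom hA' ‹QuasiSeparatedSpace ↥S›
  have h2 : QuasiCompact (pullback.snd A₀ B₀).left := MorphismProperty.of_isPullback sqS hAq
  have : CompactSpace ↥(pullback A₀ B₀).left :=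
    QuasiCompact.compactSpace_of_compactSpace (pullback.snd A₀ B₀).left
  exact QuasiCompact.compactSpace_of_compactSpace m.left

end Groth.Agent.Lib.Helper16
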