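import Groth.Agent.Lib.Helper16.LocPFpqc

/-!
# Helper library (helper16): instances of the general `LocP` theory
-/

set_option autoImplicit false
universe u
open CategoryTheory CategoryTheory.Limits AlgebraicGeometry Opposite Topology MorphismProperty

namespace Groth.Agent.Lib.Helper16

open AlgSp

/-- Flatness satisfies fpqc descent. -/
instance flat_descendsAlong_fpqc :
    MorphismProperty.DescendsAlong @Flat.{u} (@Surjective ⊓ @Flat ⊓ @QuasiCompact) where
  of_isPullback {A X Y Z fst snd f g} sq hf hfst := by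
    have h1 : Flat f := hf.1.2
    have h2 : Surjective f := hf.1.1
    have h3 : Flat snd := MorphismProperty.of_isPullback (P := @Flat) sq h1
    have h4 : Surjective snd := MorphismProperty.of_isPullback (P := @Surjective) sq h2
    have h5 : Flat fst := hfst
    have h6 : Flat (snd ≫ g) := by rw [← sq.w]; infer_instance
    exact Groth.Agent.Lib.Helper3.flat_of_flat_comp_of_surjective snd g

variable {S : Scheme.{u}}

theorem IsLocalOnBase.and {τ : CovNotion S} {P Q : MorphismProperty (Sp S)} (hP : IsLocalOnBase τ P)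
    (hQ : IsLocalOnBase τ Q) : IsLocalOnBase τ (fun _ _ f => P f ∧ Q f) := by
  intro ι Y Yi g hY hYi hcov X f hX Xi p q hXi sq
  have h1 := hP Yi g hY hYi hcov f hX Xi p q hXi sq
  have h2 := hQ Yi g hY hYi hcov f hX Xi p q hXi sq
  exact ⟨fun h i => ⟨h1.1 h.1 i, h2.1 h.2 i⟩, fun h => ⟨h1.2 fun i => (h i).1, h2.2 fun i => (h i).2⟩⟩

theorem IsLocalOnBase.of_iff {τ : CovNotion S} {P Q : MorphismProperty (Sp S)} (hP : IsLocalOnBase τ P)
    (h : ∀ ⦃X Y : Sp S⦄ (f : X ⟶ Y), IsAlgSpace X → IsAlgSpace Y → (Q f ↔ P f)) : IsLocalOnBase τ Q := by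
  intro ι Y Yi g hY hYi hcov X f hX Xi p q hXi sq
  have h1 := hP Yi g hY hYi hcov f hX Xi p q hXi sq
  exact ⟨fun hf i => (h (p i) (hXi i) (hYi i)).2 (h1.1 ((h f hX hY).1 hf) i),
    fun hp => (h f hX hY).2 (h1.2 fun i => (h (p i) (hXi i) (hYi i)).1 (hp i))⟩

/-- A morphism to an algebraic space is etale iff it is etale on chart diagrams. -/
theorem isEtaleMor_iff_locP_etale {X Y : Sp S} (hY : IsAlgSpace Y) (f : X ⟶ Y) :
    IsEtaleMor f ↔ LocP @Etale f := by
  constructor
  · intro hf U V a b h ha hb comm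
    have h1 : RepWith @Etale ((yon S).map h ≫ b) := by rw [← comm]; exact hf a ha
    exact (repWith_yon_map_iff _ _).1 (repWith_etale_of_comp _ b hb h1)
  · intro hf U φ hφ
    have h1 : LocP @Etale (φ ≫ f) := by
      intro U' V' a' b' h' ha' hb' comm'
      exact hf (a' ≫ φ) b' h' ((RepWith @Etale).comp_mem _ _ ha' hφ) hb' (by rw [Category.assoc, comm'])
    exact (locP_iff_repWith etLocalST_etale (IsAlgSpace.yon_obj U) hY (φ ≫ f)
      (hY.representable_from_yon _)).1 h1

end Groth.Agent.Lib.Helper16
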