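import Groth.Agent.Lib.Helper16.FpqcMono
import Groth.Agent.Lib.Helper16.FpqcCore
import Groth.Agent.Lib.Helper16.Diagonal

/-!
# Helper library (helper16): fpqc locality on the base of properties of the diagonal
-/

set_option autoImplicit false
universe u
open CategoryTheory CategoryTheory.Limits AlgebraicGeometry Opposite

namespace Groth.Agent.Lib.Helper16

open AlgSp

variable {S : Scheme.{u}}

/-- The family of diagonal objects `X i ×_{Y i} X i ⟶ X ×_Y X` of the base changes of `f` satisfies the refinement
clause of fpqc coverings. -/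
theorem fpqcRefines_diagonalObj {ι : Type u} {Y : Sp S} (Yi : ι → Sp S) (g : ∀ i, Yi i ⟶ Y)
    (href : FpqcRefines Yi g) {X : Sp S} (f : X ⟶ Y) (Xi : ι → Sp S) (p : ∀ i, Xi i ⟶ Yi i) (q : ∀ i, Xi i ⟶ X)
    (sq : ∀ i, IsPullback (q i) (p i) f (g i)) :
    FpqcRefines (fun i => pullback (p i) (p i))
      (fun i => pullback.map (p i) (p i) f f (q i) (q i) (g i) (sq i).w.symm (sq i).w.symm) := by
  intro T hT t
  obtain ⟨m, W, c, hWa, hcf, hcs, hl⟩ := href T hT (t ≫ pullback.fst f f ≫ f)
  refine ⟨m, W, c, hWa, hcf, hcs, fun j => ?_⟩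
  obtain ⟨i, l, hl'⟩ := hl j
  obtain ⟨t', ht'⟩ := exists_lift_diagonalObj (sq i) ((yon S).map (c j) ≫ t) l
    (by rw [Category.assoc, hl'])
  exact ⟨i, t', ht'⟩

/-- For `Pr` Zariski local on the target, stable under base change and satisfying fpqc descent, the property "the
diagonal is representable with `Pr`" is fpqc local on the base. -/
theorem isLocalOnBase_fpqc_diagonal_repWith {Pr : MorphismProperty Scheme.{u}} [IsZariskiLocalAtTarget Pr]
    [Pr.IsStableUnderBaseChange] [Pr.DescendsAlong (@Surjective ⊓ @Flat ⊓ @QuasiCompact)] :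
    IsLocalOnBase (IsFpqcCover (S := S)) (fun _ _ f => RepWith Pr (pullback.diagonal f)) := by
  intro ι Y Yi g hY hYi hcov X f hX Xi p q hXi sq
  constructor
  · intro hf i
    exact (RepWith Pr).of_isPullback (isPullback_diagonal_of_isPullback (sq i)) hf
  · intro hp
    exact repWith_of_fpqcRefines _ _ (fpqcRefines_diagonalObj Yi g hcov.2 f Xi p q sq) (pullback.diagonal f)
      (representable_diagonal hX f) Xi (fun i => pullback.diagonal (p i)) q
      (fun i => isPullback_diagonal_of_isPullback (sq i)) hp

end Groth.Agent.Lib.Helper16
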