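import Groth.Agent.Lib.Helper16.Charts
import Groth.Agent.Lib.Helper16.Rep

/-!
# Helper library (helper16): quasi-compact sheaves / algebraic spaces, restriction of charts to opens
-/

set_option autoImplicit false
universe u
open CategoryTheory CategoryTheory.Limits AlgebraicGeometry Opposite Topology

namespace Groth.Agent.Lib.Helper16

open AlgSp

variable {S : Scheme.{u}}

/-- The open subscheme `W` of `V.left` as a scheme over `S`. -/
noncomputable abbrev overOpen (V : Over S) (W : V.left.Opens) : Over S := Over.mk (W.ι ≫ V.hom)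

/-- The inclusion of the open subscheme `W` of `V` as a morphism over `S`. -/
noncomputable abbrev overOpenι (V : Over S) (W : V.left.Opens) : overOpen V W ⟶ V := Over.homMk W.ι rfl

/-- Restricting an etale chart to an open subscheme gives an etale chart. -/
theorem repWith_etale_restrict {F : Sp S} {V : Over S} (q : (yon S).obj V ⟶ F) (hq : RepWith @Etale q)
    (W : V.left.Opens) : RepWith @Etale ((yon S).map (overOpenι V W) ≫ q) := by
  refine (RepWith @Etale).comp_mem _ _ ((repWith_yon_map_iff _ _).2 ?_) hq
  change Etale W.ι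
  infer_instance

theorem ofPt_restrict {F : Sp S} {V : Over S} (q : (yon S).obj V ⟶ F) (W : V.left.Opens)
    (w : ↥(overOpen V W).left) :
    Points.ofPt ((yon S).map (overOpenι V W) ≫ q) w = Points.ofPt q (W.ι w) :=
  ofPt_yon_map_comp _ _ _

/-- A sheaf with a surjective chart from a quasi-compact scheme has a quasi-compact space of points. -/
theorem compactSpace_points_of_chart {F : Sp S} {U : Over S} (p : (yon S).obj U ⟶ F)
    (hp : RepWith @Surjective p) [CompactSpace ↥U.left] : CompactSpace (Points F) := by
  constructor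
  have := (isCompact_range (Points.continuous_ofPt p))
  rwa [(ofPt_surjective_of_surjective p hp).range_eq] at this

theorem compactSpace_points_of_isQuasiCompactSp {F : Sp S} (hF : IsQuasiCompactSp F) :
    CompactSpace (Points F) := by
  obtain ⟨U, p, -, hps, hU⟩ := hF
  exact compactSpace_points_of_chart p hps

/-- If the images of opens `W i` of a chart `V` cover the points of an algebraic space, the restriction of the
chart to the union is surjective. -/
theorem repWith_surjective_restrict {F : Sp S} (hF : IsAlgSpace F) {V : Over S} (q : (yon S).obj V ⟶ F)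
    (W : V.left.Opens) (hW : ∀ x : Points F, ∃ w ∈ W, Points.ofPt q w = x) :
    RepWith @Surjective ((yon S).map (overOpenι V W) ≫ q) := by
  rw [repWith_surjective_iff _ (hF.representable_from_yon _)]
  intro x
  obtain ⟨w, hw, rfl⟩ := hW x
  refine ⟨Points.ofScheme _ (⟨w, hw⟩ : ↥W), ?_⟩
  rw [← Points.ofPt_eq_map_ofScheme, ofPt_restrict]
  rfl

/-- An algebraic space with quasi-compact space of points is quasi-compact. -/
theorem isQuasiCompactSp_of_compactSpace {F : Sp S} (hF : IsAlgSpace F) [CompactSpace (Points F)] :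
    IsQuasiCompactSp F := by
  obtain ⟨V, q, hqe, hqs⟩ := hF.atlas
  -- an affine open neighbourhood of every point of `V`
  have hb := V.left.isBasis_affineOpens
  have hex : ∀ v : ↥V.left, ∃ W : V.left.Opens, IsAffineOpen W ∧ v ∈ W := by
    intro v
    obtain ⟨W, hW, hv, -⟩ := (TopologicalSpace.Opens.isBasis_iff_nbhd.mp hb) (show v ∈ (⊤ : V.left.Opens) from trivial)
    exact ⟨W, hW, hv⟩
  choose W hWa hvW using hex
  have hopen : ∀ v, IsOpen (Points.ofPt q '' (W v : Set ↥V.left)) := fun v =>
    isOpenMap_ofPt_of_etale q hqe _ (W v).isOpen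
  have hcover : (Set.univ : Set (Points F)) ⊆ ⋃ v, Points.ofPt q '' (W v : Set ↥V.left) := by
    intro x _
    obtain ⟨v, rfl⟩ := ofPt_surjective_of_surjective q hqs x
    exact Set.mem_iUnion.2 ⟨v, v, hvW v, rfl⟩
  obtain ⟨t, ht⟩ := isCompact_univ.elim_finite_subcover _ hopen hcover
  let W' : V.left.Opens := ⨆ v ∈ t, W v
  have hW'c : IsCompact (W' : Set ↥V.left) := by
    have : (W' : Set ↥V.left) = ⋃ v ∈ t, (W v : Set ↥V.left) := by
      simp [W']
    rw [this]
    exact t.isCompact_biUnion fun v _ => (hWa v).isCompact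
  refine ⟨overOpen V W', (yon S).map (overOpenι V W') ≫ q, repWith_etale_restrict q hqe W', ?_, ?_⟩
  · apply repWith_surjective_restrict hF
    intro x
    obtain ⟨v, hv⟩ := Set.mem_iUnion.1 (ht (Set.mem_univ x))
    obtain ⟨hvt, w, hw, rfl⟩ := Set.mem_iUnion.1 hv
    refine ⟨w, ?_, rfl⟩
    exact TopologicalSpace.Opens.mem_iSup.2 ⟨v, TopologicalSpace.Opens.mem_iSup.2 ⟨hvt, hw⟩⟩
  · exact isCompact_iff_compactSpace.mp hW'c

theorem isQuasiCompactSp_iff_compactSpace {F : Sp S} (hF : IsAlgSpace F) :
    IsQuasiCompactSp F ↔ CompactSpace (Points F) :=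
  ⟨compactSpace_points_of_isQuasiCompactSp, fun _ => isQuasiCompactSp_of_compactSpace hF⟩

end Groth.Agent.Lib.Helper16
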