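import Groth.Agent.Lib.Helper16.LocSurj
import Mathlib.CategoryTheory.MorphismProperty.Local

/-!
# Helper library (helper16): properties fppf local on the base and `RepWith`
-/

set_option autoImplicit false
universe u
open CategoryTheory CategoryTheory.Limits AlgebraicGeometry Opposite Topology

namespace Groth.Agent.Lib.Helper16

open AlgSp

variable {S : Scheme.{u}}

instance lfp_containsIdentities :
    MorphismProperty.ContainsIdentities (@LocallyOfFinitePresentation : MorphismProperty Scheme.{u}) :=
  ⟨fun _ => inferInstance⟩

instance lfp_isMultiplicative :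
    MorphismProperty.IsMultiplicative (@LocallyOfFinitePresentation : MorphismProperty Scheme.{u}) where

/-- The underlying square of schemes of a pullback square in `Over S` mapped by `yon`. -/
theorem isPullback_left_of_yon {A B C D : Over S} {a : A ⟶ B} {b : A ⟶ C} {c : B ⟶ D} {d : C ⟶ D}
    (sq : IsPullback ((yon S).map a) ((yon S).map b) ((yon S).map c) ((yon S).map d)) :
    IsPullback a.left b.left c.left d.left :=
  (IsPullback.of_map (yon S) ((yon S).map_injective (by
    rw [Functor.map_comp, Functor.map_comp]; exact sq.w)) sq).map (Over.forget S)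

/-- If `β` is a base change of `(yon S).map w` along `(yon S).map c` and `β` is representable with `P`, then the
underlying morphism of the pullback of `w` along `c` in `Over S` has `P`. -/
theorem P_pullback_snd_of_repWith {P : MorphismProperty Scheme.{u}} [P.IsStableUnderBaseChange]
    {W T T' : Over S} (w : W ⟶ T) (c : T' ⟶ T) {Q : Sp S} (α : Q ⟶ (yon S).obj W)
    (β : Q ⟶ (yon S).obj T') (sq : IsPullback α β ((yon S).map w) ((yon S).map c))
    (hβ : RepWith P β) : P (pullback.snd w c).left := by
  have sq₀ : IsPullback ((yon S).map (pullback.fst w c)) ((yon S).map (pullback.snd w c))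
      ((yon S).map w) ((yon S).map c) := (IsPullback.of_hasPullback w c).map (yon S)
  have e : (sq₀.isoIsPullback _ _ sq).hom ≫ β = (yon S).map (pullback.snd w c) :=
    IsPullback.isoIsPullback_hom_snd _ _ sq₀ sq
  have h1 : RepWith P ((yon S).map (pullback.snd w c)) := by
    rw [← e]
    exact MorphismProperty.RespectsIso.precomp _ _ _ hβ
  exact (repWith_yon_map_iff P _).1 h1

/-- A property of morphisms of schemes which is fppf local on the target can be checked on a covering sieve of the
topology `J S`. -/
theorem P_of_sieve {P : MorphismProperty Scheme.{u}} [P.IsStableUnderBaseChange]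
    [P.IsLocalAtTarget Scheme.fppfPrecoverage] {W T : Over S} (w : W ⟶ T) (R : Sieve T) (hR : R ∈ J S T)
    (h : ∀ ⦃T' : Over S⦄ (c : T' ⟶ T), R c → P (pullback.snd w c).left) : P w.left := by
  rw [J_eq, GrothendieckTopology.mem_over_iff] at hR
  obtain ⟨𝒰, hle⟩ := (Scheme.mem_grothendieckTopology_iff
    (P := @Flat ⊓ @LocallyOfFinitePresentation)).1 hR
  refine MorphismProperty.IsLocalAtTarget.of_forall_pullbackSnd
    (K := Scheme.fppfPrecoverage) (R := Presieve.ofArrows 𝒰.X 𝒰.f) 𝒰.mem₀ ?_
  intro U g _ hg
  have hg' := hle _ _ hg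
  rw [Sieve.overEquiv_iff] at hg'
  have hP := h _ hg'
  have sq : IsPullback (pullback.fst w (Over.homMk g : Over.mk (g ≫ T.hom) ⟶ T)).left
      (pullback.snd w (Over.homMk g : Over.mk (g ≫ T.hom) ⟶ T)).left w.left g :=
    (IsPullback.of_hasPullback w (Over.homMk g : Over.mk (g ≫ T.hom) ⟶ T)).map (Over.forget S)
  have e := sq.isoPullback_hom_snd
  rw [← e] at hP
  exact (P.cancel_left_of_respectsIso _ _).1 hP

end Groth.Agent.Lib.Helper16
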