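import Groth.Agent.Lib.Helper16.UnivInj
import Groth.Agent.Lib.Helper16.FibreProduct
import Groth.Agent.Lib.Helper16.FppfLocal

/-!
# Helper library (helper16): descent of universal injectivity along a surjective base change; morphisms to a field
-/

set_option autoImplicit false
universe u
open CategoryTheory CategoryTheory.Limits AlgebraicGeometry Opposite Topology

namespace Groth.Agent.Lib.Helper16

open AlgSp

variable {S : Scheme.{u}}

/-- Universal injectivity descends along a base change which is surjective on points. -/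
theorem isUnivInjectiveMor_of_surjective_base {X Y Z P : Sp S} (hX : Representable (Limits.diag X))
    (hZ : Representable (Limits.diag Z)) (f : X ⟶ Y) (g : Z ⟶ Y) (hg : IsSurjectiveMor g)
    (fst : P ⟶ X) (snd : P ⟶ Z) (sq : IsPullback fst snd f g) (h : IsUnivInjectiveMor snd) :
    IsUnivInjectiveMor f := by
  apply isUnivInjectiveMor_of_injOnFieldPoints
  have hP : InjOnFieldPoints snd :=
    injOnFieldPoints_of_isUnivInjectiveMor (representable_diag_of_isPullback hX hZ sq) snd h
  intro K _ str a b hab
  change a ≫ f = b ≫ f at hab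
  obtain ⟨z, hz⟩ := hg (Points.mk (fieldPtOfHom K str (a ≫ f)))
  induction z using Points.ind with
  | h q =>
  rw [Points.map_mk, Points.mk_eq_mk_iff, rel_iff_toHom] at hz
  obtain ⟨Ω, _, w, β, α, hαβ⟩ := hz
  rw [fieldPtOfHom_toHom, FieldPt.toHom_map] at hαβ
  change Over.mk w ⟶ q.pt at β
  change Over.mk w ⟶ Over.mk str at α
  have hαβ' : ((yon S).map β ≫ q.toHom) ≫ g = (yon S).map α ≫ a ≫ f :=
    (Category.assoc _ _ _).trans hαβ
  have ea : ((yon S).map α ≫ a) ≫ f = ((yon S).map β ≫ q.toHom) ≫ g := by
    rw [Category.assoc, hαβ']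
  have eb : ((yon S).map α ≫ b) ≫ f = ((yon S).map β ≫ q.toHom) ≫ g := by
    rw [Category.assoc, ← hab, hαβ']
  have key : sq.lift _ _ ea = sq.lift _ _ eb := by
    apply hP Ω w
    change sq.lift _ _ ea ≫ snd = sq.lift _ _ eb ≫ snd
    rw [sq.lift_snd, sq.lift_snd]
  have h2 : (yon S).map α ≫ a = (yon S).map α ≫ b := by
    have := congrArg (· ≫ fst) key
    simpa only [sq.lift_fst] using this
  have : Nonempty ↥(Over.mk w).left := inferInstanceAs (Nonempty ↥(Spec (CommRingCat.of Ω)))
  exact eq_of_yon_map_comp_eq hX α a b h2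

/-- A map on points is open as soon as its composite with a map which is surjective on points is open. -/
theorem isOpenMap_of_comp_surjective {P Z R : Sp S} (π : P ⟶ Z) (r : R ⟶ P)
    (hr : Function.Surjective (Points.map r)) (h : IsOpenMap (Points.map (r ≫ π))) :
    IsOpenMap (Points.map π) := by
  intro W hW
  have : Points.map π '' W = Points.map (r ≫ π) '' (Points.map r ⁻¹' W) := by
    ext z
    constructor
    · rintro ⟨x, hx, rfl⟩
      obtain ⟨y, rfl⟩ := hr x
      exact ⟨y, hx, Points.map_comp _ _ _⟩
    · rintro ⟨y, hy, rfl⟩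
      exact ⟨Points.map r y, hy, (Points.map_comp _ _ _).symm⟩
  rw [this]
  exact h _ (hW.preimage (Points.continuous_map r))

/-- A morphism from an algebraic space to the spectrum of a field is universally open. -/
theorem isUnivOpenMor_of_field {X : Sp S} (hX : IsAlgSpace X) {k : Type u} [Field k]
    (str : Spec (CommRingCat.of k) ⟶ S) (p : X ⟶ (yon S).obj (Over.mk str)) : IsUnivOpenMor p := by
  obtain ⟨U, pU, hUe, hUs⟩ := hX.atlas
  obtain ⟨u, hu⟩ := (yon S).map_surjective (pU ≫ p)
  refine univSp_of_tests isEtaleLocalOnBase_isOpenMor p (fun _ _ => True) ?_ ?_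
  · intro Z hZ g
    obtain ⟨V, q, hqe, hqs⟩ := hZ.atlas
    exact ⟨PUnit, fun _ => V, fun _ => q, fun _ => hqe,
      fun z => ⟨PUnit.unit, ofPt_surjective_of_surjective q hqs z⟩, fun _ => trivial⟩
  · intro T t _ P fst snd sq
    obtain ⟨t₀, rfl⟩ := (yon S).map_surjective t
    obtain ⟨R, rU, rW, r, -, hr2, sqR, hr⟩ := exists_chart_of_isPullback sq pU (𝟙 ((yon S).obj T))
      (representable_of_yon _)
    have hrs : RepWith @Surjective r := hr @Surjective hUs (repWith_id _ T)
    have hrs' : Function.Surjective (Points.map r) := (repWith_surjective_iff r hrs.rep).1 hrs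
    refine isOpenMap_of_comp_surjective snd r hrs' ?_
    rw [hr2, Category.comp_id]
    rw [← hu, Category.id_comp] at sqR
    have sqS : IsPullback rU.left rW.left u.left t₀.left := isPullback_left_of_yon sqR
    have hsub : Subsingleton ↥(Over.mk str).left :=
      inferInstanceAs (Subsingleton (PrimeSpectrum k))
    have hint : IsIntegral (Over.mk str).left :=
      inferInstanceAs (IsIntegral (Spec (CommRingCat.of k)))
    have huo : UniversallyOpen u.left := inferInstance
    have : UniversallyOpen rW.left := MorphismProperty.of_isPullback sqS huo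
    rw [Points.map_yon_map_eq]
    exact (isOpenMap_conj_iff _ _ _).2 rW.left.isOpenMap

end Groth.Agent.Lib.Helper16
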