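import Groth.Agent.Lib.Helper16.Diagonal
import Groth.Agent.Lib.Helper16.UnivInj2
import Mathlib.AlgebraicGeometry.Morphisms.UniversallyClosed
import Mathlib.AlgebraicGeometry.Morphisms.UniversallyOpen

/-!
# Helper library (helper16): universally closed morphisms are quasi-compact; flat lfp morphisms are universally open;
preimages of quasi-compact opens under quasi-compact morphisms
-/

set_option autoImplicit false
universe u
open CategoryTheory CategoryTheory.Limits AlgebraicGeometry Opposite Topology MorphismProperty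

namespace Groth.Agent.Lib.Helper16

open AlgSp

variable {S : Scheme.{u}}

open _root_.PrimeSpectrum MvPolynomial in
/-- An algebraic space universally closed over a field has a quasi-compact space of points. -/
theorem compactSpace_points_of_univClosed_field {K : Type u} [Field K] (str : Spec (CommRingCat.of K) ⟶ S)
    {Q : Sp S} (hQ : IsAlgSpace Q) (h : Q ⟶ (yon S).obj (Over.mk str)) (hh : IsUnivClosedMor h) :
    CompactSpace (Points Q) := by
  classical
  obtain ⟨U, a, hae, has⟩ := hQ.atlas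
  let 𝒰 : U.left.OpenCover := U.left.affineCover
  let Qi (i : 𝒰.I₀) : Set (Points Q) := Points.ofPt a '' Set.range (𝒰.f i)
  have hQio (i : 𝒰.I₀) : IsOpen (Qi i) :=
    isOpenMap_ofPt_of_etale a hae _ (𝒰.f i).isOpenEmbedding.isOpen_range
  have hQic (i : 𝒰.I₀) : IsCompact (Qi i) :=
    (isCompact_range (𝒰.f i).continuous).image (Points.continuous_ofPt a)
  have hQcov (x : Points Q) : ∃ i, x ∈ Qi i := by
    obtain ⟨u, rfl⟩ := ofPt_surjective_of_surjective a has x
    exact ⟨𝒰.idx u, u, 𝒰.covers u, rfl⟩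
  let T₀ : Scheme.{u} := Spec (.of <| MvPolynomial 𝒰.I₀ K)
  let q₀ : T₀ ⟶ Spec (.of K) := Spec.map (CommRingCat.ofHom MvPolynomial.C)
  let T : Over S := Over.mk (q₀ ≫ str)
  let q : T ⟶ Over.mk str := Over.homMk q₀ rfl
  have sqP := IsPullback.of_hasPullback h ((yon S).map q)
  have hfT : IsClosedMap (Points.map (pullback.snd h ((yon S).map q))) :=
    hh (IsAlgSpace.yon_obj T) ((yon S).map q) _ _ sqP
  let θ : Points (pullback h ((yon S).map q)) → T₀ :=
    fun z => (Points.schemeHomeo T).symm (Points.map (pullback.snd h ((yon S).map q)) z)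
  have hθc : Continuous θ := (Points.schemeHomeo T).symm.continuous.comp (Points.continuous_map _)
  have hθcl : IsClosedMap θ := (Points.schemeHomeo T).symm.isClosedMap.comp hfT
  let p : Points (pullback h ((yon S).map q)) → Points Q := Points.map (pullback.fst h ((yon S).map q))
  have hpc : Continuous p := Points.continuous_map _
  let Ti (i : 𝒰.I₀) : T₀.Opens := basicOpen (MvPolynomial.X i)
  let Z : Set (Points (pullback h ((yon S).map q))) := (⋃ i, θ ⁻¹' (Ti i : Set T₀) ∩ p ⁻¹' (Qi i))ᶜ
  have hZ : IsClosed Z := by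
    simp only [Z, isClosed_compl_iff]
    exact isOpen_iUnion fun i ↦ ((Ti i).2.preimage hθc).inter ((hQio i).preimage hpc)
  let Zc : T₀.Opens := ⟨(θ '' Z)ᶜ, (hθcl _ hZ).isOpen_compl⟩
  let ψ : MvPolynomial 𝒰.I₀ K →ₐ[K] K := MvPolynomial.aeval (fun _ ↦ 1)
  let t : T₀ := Spec.map (CommRingCat.ofHom ψ.toRingHom) default
  have ht (i : 𝒰.I₀) : t ∈ Ti i := show ψ (.X i) ≠ 0 by simp [ψ]
  have htZc : t ∈ Zc := by
    rintro ⟨z, hz, hzt⟩
    obtain ⟨i, hi⟩ := hQcov (p z)
    exact hz (Set.mem_iUnion.2 ⟨i, by rw [Set.mem_preimage, hzt]; exact ht i, hi⟩)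
  obtain ⟨U', ⟨g, rfl⟩, htU', hU'le⟩ := TopologicalSpace.Opens.isBasis_iff_nbhd.mp isBasis_basic_opens htZc
  let σ : Finset 𝒰.I₀ := MvPolynomial.vars g
  let φ : MvPolynomial 𝒰.I₀ K →+* MvPolynomial 𝒰.I₀ K :=
    (MvPolynomial.aeval fun i : 𝒰.I₀ ↦ if i ∈ σ then MvPolynomial.X i else 0).toRingHom
  let t' : T₀ := Spec.map (CommRingCat.ofHom φ) t
  have ht'g : t' ∈ PrimeSpectrum.basicOpen g :=
    show φ g ∉ t.asIdeal from (show φ g = g from aeval_ite_mem_eq_self g subset_rfl).symm ▸ htU'
  have hnot : t' ∉ θ '' Z := hU'le ht'g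
  suffices ⋃ i ∈ σ, Qi i = Set.univ from
    ⟨this ▸ Finset.isCompact_biUnion _ fun i _ ↦ hQic i⟩
  rw [Set.iUnion₂_eq_univ_iff]
  contrapose! hnot
  obtain ⟨x, hx⟩ := hnot
  have hxy : Points.map h x = Points.map ((yon S).map q) (Points.schemeHomeo T t') := by
    apply (Points.schemeHomeo (Over.mk str)).symm.injective
    exact Subsingleton.elim (α := ↥(Spec (CommRingCat.of K))) _ _
  obtain ⟨z, hz1, hz2⟩ := exists_point_of_isPullback sqP x (Points.schemeHomeo T t') hxy
  have hθz : θ z = t' := by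
    show (Points.schemeHomeo T).symm (Points.map _ z) = t'
    rw [hz2, Homeomorph.symm_apply_apply]
  refine ⟨z, ?_, hθz⟩
  intro hmem
  obtain ⟨i, hi1, hi2⟩ := Set.mem_iUnion.1 hmem
  rw [Set.mem_preimage, hθz] at hi1
  have hi2' : x ∈ Qi i := by rw [← hz1]; exact hi2
  by_cases hiσ : i ∈ σ
  · exact hx i hiσ hi2'
  · have h0 : φ (MvPolynomial.X i) = 0 := by simp [φ, hiσ]
    have hi1' : φ (MvPolynomial.X i) ∉ t.asIdeal := hi1
    rw [h0] at hi1'
    exact hi1' (Ideal.zero_mem _)

/-- A universally closed morphism of algebraic spaces is quasi-compact. -/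
theorem isQuasiCompactMor_of_isUnivClosedMor {X Y : Sp S} (hX : IsAlgSpace X) (hY : IsAlgSpace Y) (f : X ⟶ Y)
    (hf : IsUnivClosedMor f) : IsQuasiCompactMor f := by
  apply isQuasiCompactMor_of_affine hX hY.diag
  intro Z hZ z P fst snd sq
  have hP : IsAlgSpace P := isAlgSpace_of_isPullback hX hY.diag (IsAlgSpace.yon_obj Z) sq
  have hZa : IsAffine Z.left := hZ
  have hZc : CompactSpace (Points ((yon S).obj Z)) := (Points.schemeHomeo Z).compactSpace
  have hsnd : IsUnivClosedMor snd := univSp_of_isPullback sq hf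
  have hprop : IsProperMap (Points.map snd) := by
    rw [isProperMap_iff_isClosedMap_and_compact_fibers]
    refine ⟨Points.continuous_map snd, hf (IsAlgSpace.yon_obj Z) z fst snd sq, fun y => ?_⟩
    obtain ⟨s, rfl⟩ := (Points.schemeHomeo Z).surjective y
    let str : Spec (CommRingCat.of ↥(Z.left.residueField s)) ⟶ S := Z.left.fromSpecResidueField s ≫ Z.hom
    let ι : Over.mk str ⟶ Z := Over.homMk (Z.left.fromSpecResidueField s) rfl
    have sqs := IsPullback.of_hasPullback snd ((yon S).map ι)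
    have hPs : IsAlgSpace (pullback snd ((yon S).map ι)) :=
      isAlgSpace_of_isPullback hP (IsAlgSpace.yon_obj Z).diag (IsAlgSpace.yon_obj _) sqs
    have huc : IsUnivClosedMor (pullback.snd snd ((yon S).map ι)) := univSp_of_isPullback sqs hsnd
    have hc := compactSpace_points_of_univClosed_field (K := ↥(Z.left.residueField s)) str hPs _ huc
    have hι : ∀ k : ↥(Over.mk str).left, ι.left k = s := fun k =>
      Scheme.fromSpecResidueField_apply s k
    have hfib : Points.map snd ⁻¹' {Points.schemeHomeo Z s} =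
        Set.range (Points.map (pullback.fst snd ((yon S).map ι))) := by
      ext x
      constructor
      · intro hx
        have hx' : Points.map snd x = Points.schemeHomeo Z s := hx
        have k₀ : ↥(Over.mk str).left :=
          (IsLocalRing.closedPoint ↥(Z.left.residueField s) : ↥(Spec (CommRingCat.of ↥(Z.left.residueField s))))
        obtain ⟨w, hw, -⟩ := exists_point_of_isPullback sqs x (Points.schemeHomeo (Over.mk str) k₀) (by
          rw [hx', Points.map_yon_map_apply, hι])
        exact ⟨w, hw⟩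
      · rintro ⟨w, rfl⟩
        show Points.map snd (Points.map (pullback.fst _ _) w) = _
        rw [← Points.map_comp, sqs.w, Points.map_comp]
        obtain ⟨k, hk⟩ := (Points.schemeHomeo (Over.mk str)).surjective
          (Points.map (pullback.snd snd ((yon S).map ι)) w)
        rw [← hk, Points.map_yon_map_apply, hι]
    rw [hfib]
    exact isCompact_range (Points.continuous_map _)
  have hcomp : CompactSpace (Points P) := by
    constructor
    have := hprop.isCompact_preimage (isCompact_univ (X := Points ((yon S).obj Z)))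
    rwa [Set.preimage_univ] at this
  exact isQuasiCompactSp_of_compactSpace hP

/-- For a quasi-compact morphism to an algebraic space, the preimage of a quasi-compact open set of points is
quasi-compact. -/
theorem isCompact_preimage_of_isQuasiCompactMor {X Y : Sp S} (hY : IsAlgSpace Y) (f : X ⟶ Y)
    (hf : IsQuasiCompactMor f) (V : Set (Points Y)) (hV : IsOpen V) (hVc : IsCompact V) :
    IsCompact (Points.map f ⁻¹' V) := by
  obtain ⟨B, b, hbe, hbs⟩ := hY.atlas
  have hbo := isOpenMap_ofPt_of_etale b hbe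
  have hbc := Points.continuous_ofPt b
  have hex : ∀ v : {v : ↥B.left // Points.ofPt b v ∈ V}, ∃ W : B.left.Opens, IsAffineOpen W ∧ v.1 ∈ W ∧
      (W : Set ↥B.left) ⊆ Points.ofPt b ⁻¹' V := by
    intro v
    obtain ⟨W, hW, hvW, hWV⟩ := (TopologicalSpace.Opens.isBasis_iff_nbhd.mp B.left.isBasis_affineOpens)
      (show v.1 ∈ (⟨Points.ofPt b ⁻¹' V, hV.preimage hbc⟩ : B.left.Opens) from v.2)
    exact ⟨W, hW, hvW, hWV⟩
  choose W hWa hvW hWV using hex
  have hcover : V ⊆ ⋃ v : {v : ↥B.left // Points.ofPt b v ∈ V},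
      Points.ofPt b '' (W v : Set ↥B.left) := by
    intro y hy
    obtain ⟨v, rfl⟩ := ofPt_surjective_of_surjective b hbs y
    exact Set.mem_iUnion.2 ⟨⟨v, hy⟩, v, hvW ⟨v, hy⟩, rfl⟩
  obtain ⟨t, ht⟩ := hVc.elim_finite_subcover _ (fun v => hbo _ (W v).isOpen) hcover
  obtain ⟨W', hW'⟩ : ∃ W' : B.left.Opens, W' = ⨆ v ∈ t, W v := ⟨_, rfl⟩
  have hmem : ∀ w : ↥B.left, w ∈ W' ↔ ∃ v ∈ t, w ∈ W v := by
    intro w
    rw [hW']
    simp only [TopologicalSpace.Opens.mem_iSup, exists_prop]
  have hW'c : IsCompact (W' : Set ↥B.left) := by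
    have : (W' : Set ↥B.left) = ⋃ v ∈ t, (W v : Set ↥B.left) := by
      ext w
      simp only [SetLike.mem_coe, hmem, Set.mem_iUnion, exists_prop]
    rw [this]
    exact t.isCompact_biUnion fun v _ => (hWa v).isCompact
  have hW'V : ∀ w ∈ W', Points.ofPt b w ∈ V := by
    intro w hw
    obtain ⟨v, -, hwv⟩ := (hmem w).1 hw
    exact hWV v hwv
  have hVW' : ∀ y ∈ V, ∃ w ∈ W', Points.ofPt b w = y := by
    intro y hy
    obtain ⟨v, hv⟩ := Set.mem_iUnion.1 (ht hy)
    obtain ⟨hvt, w, hw, rfl⟩ := Set.mem_iUnion.1 hv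
    exact ⟨w, (hmem w).2 ⟨v, hvt, hw⟩, rfl⟩
  haveI := compactSpace_overOpen W' hW'c
  obtain ⟨β, hβ⟩ : ∃ β : (yon S).obj (overOpen B W') ⟶ Y, β = (yon S).map (overOpenι B W') ≫ b := ⟨_, rfl⟩
  have sqP := IsPullback.of_hasPullback f β
  have hP : IsQuasiCompactSp (pullback f β) :=
    hf (IsAlgSpace.yon_obj _) (isQuasiCompactSp_yon_of_compactSpace _) β _ _ sqP
  have := compactSpace_points_of_isQuasiCompactSp hP
  have hβpt : ∀ w : ↥(overOpen B W').left, Points.map β (Points.schemeHomeo _ w) = Points.ofPt b (W'.ι w) := by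
    intro w
    rw [hβ, ← ofPt_restrict]
    exact (Points.ofPt_eq_map_ofScheme _ _).symm
  have himg : Points.map f ⁻¹' V = Set.range (Points.map (pullback.fst f β)) := by
    ext x
    constructor
    · intro hx
      obtain ⟨w, hw, hwy⟩ := hVW' _ hx
      obtain ⟨z, hz, -⟩ := exists_point_of_isPullback sqP x (Points.schemeHomeo _ (⟨w, hw⟩ : ↥W')) (by
        rw [hβpt]; exact hwy.symm)
      exact ⟨z, hz⟩
    · rintro ⟨z, rfl⟩
      show Points.map f (Points.map _ z) ∈ V
      rw [← Points.map_comp, sqP.w, Points.map_comp]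
      obtain ⟨w, hw⟩ := (Points.schemeHomeo _).surjective (Points.map (pullback.snd f β) z)
      rw [← hw, hβpt]
      exact hW'V _ w.2
  rw [himg]
  exact isCompact_range (Points.continuous_map _)

/-- A flat morphism locally of finite presentation between algebraic spaces is universally open. -/
theorem isUnivOpenMor_of_flat_lfp {X Y : Sp S} (hX : IsAlgSpace X) (hY : IsAlgSpace Y) (f : X ⟶ Y)
    (hfl : LocP @Flat f) (hfp : LocP @LocallyOfFinitePresentation f) : IsUnivOpenMor f := by
  obtain ⟨U, a, hae, has⟩ := hX.atlas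
  obtain ⟨V, p, hpe, hps⟩ := hY.atlas
  obtain ⟨W, c, w₀, sqW⟩ := hpe.rep (a ≫ f)
  obtain ⟨ω, rfl⟩ := (yon S).map_surjective w₀
  have hce : Etale c.left := hpe.property _ _ _ sqW
  have hchart : RepWith @Etale ((yon S).map c ≫ a) :=
    (RepWith @Etale).comp_mem _ _ ((repWith_yon_map_iff _ _).2 hce) hae
  have hcomm : ((yon S).map c ≫ a) ≫ f = (yon S).map ω ≫ p := by
    rw [Category.assoc]; exact sqW.w.symm
  have hωfl : Flat ω.left := hfl _ _ ω hchart hpe hcomm
  have hωfp : LocallyOfFinitePresentation ω.left := hfp _ _ ω hchart hpe hcomm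
  have hωo : UniversallyOpen ω.left := UniversallyOpen.of_flat _
  refine univSp_of_tests isEtaleLocalOnBase_isOpenMor f
    (fun T t => ∃ τ : T ⟶ V, t = (yon S).map τ ≫ p) ?_ ?_
  · intro Z hZ g
    obtain ⟨W', ρ, τ, hρe, hρs, hρ⟩ := exists_etale_cover_through_chart p hpe hps hZ g
    refine ⟨PUnit.{u + 1}, fun _ => W', fun _ => ρ, fun _ => hρe, ?_, fun _ => ⟨τ, hρ⟩⟩
    intro z
    obtain ⟨w, hw⟩ := ofPt_surjective_of_surjective ρ hρs z
    exact ⟨PUnit.unit, w, hw⟩
  · rintro T t ⟨τ, rfl⟩ P fst snd sq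
    obtain ⟨R, rU, rW, r, -, hr2, sqR, hQ⟩ := exists_chart_of_isPullback sq a (𝟙 _)
      (hY.representable_from_yon _)
    have hrs : RepWith @Surjective r := hQ @Surjective has (repWith_id _ T)
    have sqR' : IsPullback ((yon S).map rU) ((yon S).map rW) (a ≫ f) ((yon S).map τ ≫ p) := by
      have := sqR
      rwa [Category.id_comp] at this
    have hw : ((yon S).map rW ≫ (yon S).map τ) ≫ p = (yon S).map rU ≫ a ≫ f := by
      rw [Category.assoc]; exact sqR'.w.symm
    obtain ⟨l, hl⟩ := (yon S).map_surjective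
      (sqW.lift ((yon S).map rW ≫ (yon S).map τ) ((yon S).map rU) hw)
    have hl1 : (yon S).map l ≫ (yon S).map ω = (yon S).map rW ≫ (yon S).map τ := by
      rw [hl, sqW.lift_fst]
    have hl2 : (yon S).map l ≫ (yon S).map c = (yon S).map rU := by
      rw [hl, sqW.lift_snd]
    have sq2 : IsPullback ((yon S).map l) ((yon S).map rW) ((yon S).map ω) ((yon S).map τ) := by
      refine IsPullback.of_right ?_ hl1 sqW.flip
      rw [hl2]
      exact sqR'
    have sq3 := isPullback_left_of_yon sq2
    have hrWo : UniversallyOpen rW.left := MorphismProperty.of_isPullback sq3 hωo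
    have h1 : IsOpenMap (Points.map ((yon S).map rW)) := by
      rw [Points.map_yon_map_eq]
      exact (Points.schemeHomeo T).isOpenMap.comp
        (rW.left.isOpenMap.comp (Points.schemeHomeo R).symm.isOpenMap)
    refine isOpenMap_of_comp_surjective snd r ((repWith_surjective_iff r hrs.rep).1 hrs) ?_
    rw [hr2, Category.comp_id]
    exact h1

end Groth.Agent.Lib.Helper16
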