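import Groth.Agent.Lib.Helper16.LocPInst
import Groth.Agent.Lib.Helper16.UnivClosed

/-!
# Helper library (helper16): locality on the source for `LocP` and topological properties
-/

set_option autoImplicit false
universe u
open CategoryTheory CategoryTheory.Limits AlgebraicGeometry Opposite Topology MorphismProperty

namespace Groth.Agent.Lib.Helper16

open AlgSp

variable {S : Scheme.{u}} {P : MorphismProperty Scheme.{u}}

theorem locP_mono {P Q : MorphismProperty Scheme.{u}} (h : P ≤ Q) {X Y : Sp S} {f : X ⟶ Y}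
    (hf : LocP P f) : LocP Q f :=
  fun _ _ a b k ha hb comm => h _ (hf a b k ha hb comm)

theorem IsLocalOnSource.of_iff {τ : CovNotion S} {P Q : MorphismProperty (Sp S)} (hP : IsLocalOnSource τ P)
    (h : ∀ ⦃X Y : Sp S⦄ (f : X ⟶ Y), IsAlgSpace X → IsAlgSpace Y → (Q f ↔ P f)) : IsLocalOnSource τ Q := by
  intro ι X Xi g hX hXi hcov Y f hY
  have h1 := hP Xi g hX hXi hcov f hY
  exact ⟨fun hf i => (h _ (hXi i) hY).2 (h1.1 ((h f hX hY).1 hf) i),
    fun hp => (h f hX hY).2 (h1.2 fun i => (h _ (hXi i) hY).1 (hp i))⟩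

/-- `LocP P` is etale local on the source, for `P` etale local on source and target. -/
theorem isLocalOnSource_et_locP (hP : EtLocalST P) : IsLocalOnSource (IsEtCover (S := S)) (LocP P) := by
  intro ι X Xi g hX hXi hcov Y f hY
  constructor
  · intro hf i
    exact locP_comp hP (hXi i) hX hY (g i) f
      (locP_mono hP.etale_le ((isEtaleMor_iff_locP_etale hX (g i)).1 (hcov.1 i))) hf
  · intro H U V a b h ha hb comm
    apply hP.ofCover
    intro u
    obtain ⟨i, xi, hxi⟩ := hcov.2 (Points.ofPt a u)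
    obtain ⟨Ui, ai, haie, hais⟩ := (hXi i).atlas
    obtain ⟨ui, rfl⟩ := ofPt_surjective_of_surjective ai hais xi
    have hci : RepWith @Etale (ai ≫ g i) := hcov.1 i ai haie
    obtain ⟨W, e, p₀, sqW⟩ := hci.rep a
    obtain ⟨p, rfl⟩ := (yon S).map_surjective p₀
    have he : Etale e.left := hci.property _ _ _ sqW
    have hp : Etale p.left := ha.property _ _ _ sqW.flip
    obtain ⟨w, -, hw⟩ := exists_point_of_isPullback_yon_yon sqW ui u
      ((Points.map_ofPt ai (g i) ui).symm.trans hxi)
    have ha' : RepWith @Etale ((yon S).map p ≫ ai) :=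
      (RepWith @Etale).comp_mem _ _ ((repWith_yon_map_iff _ _).2 hp) haie
    have comm' : ((yon S).map p ≫ ai) ≫ g i ≫ f = (yon S).map (e ≫ h) ≫ b := by
      calc ((yon S).map p ≫ ai) ≫ g i ≫ f = ((yon S).map p ≫ ai ≫ g i) ≫ f := by
            simp only [Category.assoc]
        _ = ((yon S).map e ≫ a) ≫ f := by rw [sqW.w]
        _ = (yon S).map (e ≫ h) ≫ b := by rw [Category.assoc, comm, Functor.map_comp, Category.assoc]
    exact ⟨W.left, e.left, he, ⟨w, hw⟩, H i _ b (e ≫ h) ha' hb comm'⟩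

/-! ### Open and universally open morphisms -/

theorem isOpenMap_of_jointly_surjective_comp {A B : Type*} [TopologicalSpace A] [TopologicalSpace B]
    {ι : Type*} {Ai : ι → Type*} [∀ i, TopologicalSpace (Ai i)] (f : A → B) (σ : ∀ i, Ai i → A)
    (hσ : ∀ i, Continuous (σ i)) (hs : ∀ a, ∃ i x, σ i x = a) (h : ∀ i, IsOpenMap (f ∘ σ i)) :
    IsOpenMap f := by
  intro O hO
  have : f '' O = ⋃ i, (f ∘ σ i) '' (σ i ⁻¹' O) := by
    ext y
    simp only [Set.mem_image, Set.mem_iUnion, Set.mem_preimage, Function.comp_apply]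
    constructor
    · rintro ⟨x, hx, rfl⟩
      obtain ⟨i, xi, rfl⟩ := hs x
      exact ⟨i, xi, hx, rfl⟩
    · rintro ⟨i, xi, hxi, rfl⟩
      exact ⟨_, hxi, rfl⟩
  rw [this]
  exact isOpen_iUnion fun i => h i _ (hO.preimage (hσ i))

theorem isOpenMor_of_isUnivOpenMor {X Y : Sp S} (hY : IsAlgSpace Y) {f : X ⟶ Y} (hf : IsUnivOpenMor f) :
    IsOpenMor f :=
  hf hY (𝟙 Y) (𝟙 X) f (IsPullback.of_horiz_isIso ⟨by rw [Category.id_comp, Category.comp_id]⟩)

theorem points_map_comp_eq {F G H : Sp S} (f : F ⟶ G) (g : G ⟶ H) :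
    Points.map (f ≫ g) = Points.map g ∘ Points.map f :=
  funext fun x => Points.map_comp f g x

theorem isLocalOnSource_fppf_isOpenMor : IsLocalOnSource (IsFppfCover (S := S)) IsOpenMor := by
  intro ι X Xi g hX hXi hcov Y f hY
  constructor
  · intro hf i
    have hgi : IsOpenMor (g i) := isOpenMor_of_isUnivOpenMor hX
      (isUnivOpenMor_of_flat_lfp (hXi i) hX (g i) (hcov.1 i).1 (hcov.1 i).2)
    show IsOpenMap (Points.map (g i ≫ f))
    rw [points_map_comp_eq]
    exact IsOpenMap.comp hf hgi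
  · intro H
    refine isOpenMap_of_jointly_surjective_comp (Points.map f) (fun i => Points.map (g i))
      (fun i => Points.continuous_map _) (fun x => ?_) (fun i => ?_)
    · obtain ⟨i, xi, hxi⟩ := hcov.2 x
      exact ⟨i, xi, hxi⟩
    · rw [← points_map_comp_eq]
      exact H i

theorem isLocalOnSource_fppf_isUnivOpenMor : IsLocalOnSource (IsFppfCover (S := S)) IsUnivOpenMor := by
  intro ι X Xi g hX hXi hcov Y f hY
  constructor
  · intro hf i Z Z'' hZ t fst' snd' sq'
    have sqZ := IsPullback.of_hasPullback f t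
    have hZ' : IsAlgSpace (pullback f t) := isAlgSpace_of_isPullback hX hY.diag hZ sqZ
    obtain ⟨l, hl1, hl2⟩ : ∃ l : Z'' ⟶ pullback f t, l ≫ pullback.fst f t = fst' ≫ g i ∧
        l ≫ pullback.snd f t = snd' :=
      ⟨pullback.lift (fst' ≫ g i) snd' (by rw [Category.assoc]; exact sq'.w), pullback.lift_fst _ _ _,
        pullback.lift_snd _ _ _⟩
    have sql : IsPullback fst' l (g i) (pullback.fst f t) :=
      IsPullback.of_bot (by rw [hl2]; exact sq') hl1.symm sqZ
    have hgi : IsUnivOpenMor (g i) :=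
      isUnivOpenMor_of_flat_lfp (hXi i) hX (g i) (hcov.1 i).1 (hcov.1 i).2
    have h1 : IsOpenMor l := hgi hZ' (pullback.fst f t) fst' l sql
    have h2 : IsOpenMor (pullback.snd f t) := hf hZ t _ _ sqZ
    show IsOpenMap (Points.map snd')
    rw [← hl2, points_map_comp_eq]
    exact IsOpenMap.comp h2 h1
  · intro H Z Z' hZ t fst snd sq
    refine isOpenMap_of_jointly_surjective_comp (Points.map snd)
      (fun i => Points.map (pullback.snd (g i) fst))
      (fun i => Points.continuous_map _) (fun z => ?_) (fun i => ?_)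
    · obtain ⟨i, xi, hxi⟩ := hcov.2 (Points.map fst z)
      obtain ⟨q, -, hq⟩ := exists_point_of_isPullback (IsPullback.of_hasPullback (g i) fst) xi z hxi
      exact ⟨i, q, hq⟩
    · rw [← points_map_comp_eq]
      exact H i hZ t _ _ ((IsPullback.of_hasPullback (g i) fst).paste_vert sq)

/-! ### Flatness is fpqc local on the source -/

theorem isLocalOnSource_fpqc_locP_flat : IsLocalOnSource (IsFpqcCover (S := S)) (LocP @Flat) := by
  intro ι X Xi g hX hXi hcov Y f hY
  constructor
  · intro hf i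
    exact locP_comp etLocalST_flat (hXi i) hX hY (g i) f (hcov.1 i) hf
  · intro H U V a b h ha hb comm
    apply flat_of_flat_cover
    intro u
    obtain ⟨_, ⟨(O : U.left.Opens), hO, rfl⟩, huO, -⟩ :=
      U.left.isBasis_affineOpens.exists_subset_of_mem_open (Set.mem_univ u) isOpen_univ
    let UO : Over S := Over.mk (O.ι ≫ U.hom)
    let ιO : UO ⟶ U := Over.homMk O.ι rfl
    have hUO : IsAffine UO.left := hO
    obtain ⟨m, W, c, hWa, hcf, hcs, hl⟩ := hcov.2 UO hUO ((yon S).map ιO ≫ a)
    obtain ⟨j, w, hw⟩ := hcs (⟨u, huO⟩ : ↥O)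
    obtain ⟨i, l, hl'⟩ := hl j
    -- the point of `Xi i` given by `w`
    have hpt : Points.map (g i) (Points.ofPt l w) = Points.map a (Points.ofScheme U u) := by
      rw [Points.map_ofPt, hl', ← Functor.map_comp_assoc, ofPt_yon_map_comp, ← Points.ofPt_eq_map_ofScheme]
      congr 1
      change O.ι ((c j).left w) = u
      rw [hw]
      rfl
    have sqQ := IsPullback.of_hasPullback (g i) a
    have hQ : IsAlgSpace (pullback (g i) a) :=
      isAlgSpace_of_isPullback (hXi i) hX.diag (IsAlgSpace.yon_obj U) sqQ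
    have hsnd : LocP @Flat (pullback.snd (g i) a) :=
      locP_of_isPullback etLocalST_flat (hXi i) hX sqQ (hcov.1 i)
    have hfst : RepWith @Etale (pullback.fst (g i) a) := (RepWith @Etale).of_isPullback sqQ.flip ha
    obtain ⟨z, -, hz⟩ := exists_point_of_isPullback sqQ (Points.ofPt l w) (Points.ofScheme U u) hpt
    obtain ⟨U'', a'', ha''e, ha''s⟩ := hQ.atlas
    obtain ⟨u'', hu''⟩ := ofPt_surjective_of_surjective a'' ha''s z
    obtain ⟨e, he⟩ := (yon S).map_surjective (a'' ≫ pullback.snd (g i) a)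
    have hefl : Flat e.left :=
      hsnd a'' (𝟙 _) e ha''e (repWith_id _ U) (by rw [Category.comp_id, he])
    have heu : e.left u'' = u := by
      apply ofScheme_injective U
      rw [← map_yon_map_ofScheme, he, Points.map_comp, ← Points.ofPt_eq_map_ofScheme, hu'', hz]
    have ha''' : RepWith @Etale (a'' ≫ pullback.fst (g i) a) := (RepWith @Etale).comp_mem _ _ ha''e hfst
    have comm' : (a'' ≫ pullback.fst (g i) a) ≫ g i ≫ f = (yon S).map (e ≫ h) ≫ b := by
      calc (a'' ≫ pullback.fst (g i) a) ≫ g i ≫ f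
          = (a'' ≫ pullback.fst (g i) a ≫ g i) ≫ f := by simp only [Category.assoc]
        _ = (a'' ≫ pullback.snd (g i) a ≫ a) ≫ f := by rw [pullback.condition]
        _ = (yon S).map (e ≫ h) ≫ b := by
            rw [← Category.assoc a'', ← he, Category.assoc, comm, Functor.map_comp, Category.assoc]
    exact ⟨U''.left, e.left, hefl, ⟨u'', heu⟩, H i _ b (e ≫ h) ha''' hb comm'⟩

end Groth.Agent.Lib.Helper16
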