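import Groth.Agent.Lib.Helper16.DiagProps

/-!
# Helper library (helper16): cancellation for `RepWith`, `LocP` of a first factor, affine morphisms
-/

set_option autoImplicit false
universe u
open CategoryTheory CategoryTheory.Limits AlgebraicGeometry Opposite Topology MorphismProperty

namespace Groth.Agent.Lib.Helper16

open AlgSp

variable {S : Scheme.{u}}

/-- Cancellation: if `a ≫ b` and the diagonal of `b` are representable with `P`, so is `a`. -/
theorem repWith_of_comp_of_diagonal {P : MorphismProperty Scheme.{u}} [P.IsStableUnderBaseChange]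
    [P.IsMultiplicative] {Z Y X : Sp S} (a : Z ⟶ Y) (b : Y ⟶ X) (hab : RepWith P (a ≫ b))
    (hΔ : RepWith P (pullback.diagonal b)) : RepWith P a := by
  have h1 := (RepWith (S := S) P).of_isPullback (pullback_lift_diagonal_isPullback a b) hΔ
  have h2 : RepWith P (pullback.snd (a ≫ b) b) :=
    (RepWith (S := S) P).of_isPullback (IsPullback.of_hasPullback (a ≫ b) b) hab
  have h3 := (RepWith (S := S) P).comp_mem _ _ h1 h2
  rwa [pullback.lift_snd] at h3

/-- If `f ≫ g` has `P` etale locally on source and target then so does `f`, for `P` satisfying fppf descent and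
cancellation. -/
theorem locP_of_comp {P : MorphismProperty Scheme.{u}}
    [P.DescendsAlong (@Surjective ⊓ @Flat ⊓ @LocallyOfFinitePresentation)]
    (hP : ∀ ⦃A B C : Scheme.{u}⦄ (m : A ⟶ B) (n : B ⟶ C), P (m ≫ n) → P m)
    {X Y Z : Sp S} (hZ : IsAlgSpace Z) (f : X ⟶ Y) (g : Y ⟶ Z) (h : LocP P (f ≫ g)) : LocP P f := by
  intro U V a b m ha hb hcomm
  obtain ⟨W₀, c, hce, hcs⟩ := hZ.atlas
  obtain ⟨V', π, w, hπe, hπs, hπw⟩ := exists_cover_over_chart g b c hce hcs
  refine P_of_fppf_cover m π hπs inferInstance inferInstance ?_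
  obtain ⟨h1, h2⟩ := chart_diagram_comp f g a b m ha hcomm c π w hπw
  have h3 : P (pullback.snd m π ≫ w).left := h _ c _ h1 hce h2
  rw [Over.comp_left] at h3
  exact hP _ w.left h3

/-- Base change of affine morphisms. -/
theorem isAffineMor_of_isPullback {F G F' G' : Sp S} {f : F ⟶ G} {g : G' ⟶ G} {fst : F' ⟶ F}
    {snd : F' ⟶ G'} (sq : IsPullback fst snd f g) (hf : IsAffineMor f) : IsAffineMor snd := by
  intro Z hZ z
  obtain ⟨W, i, φ, sqW, hW⟩ := hf hZ (z ≫ g)
  refine ⟨W, i, sq.lift φ ((yon S).map i ≫ z) (by rw [Category.assoc]; exact sqW.w), ?_, hW⟩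
  refine IsPullback.of_right ?_ (sq.lift_snd _ _ _) sq
  rw [sq.lift_fst]
  exact sqW

/-- Composition of affine morphisms. -/
theorem isAffineMor_comp {F G H : Sp S} (f : F ⟶ G) (g : G ⟶ H) (hf : IsAffineMor f) (hg : IsAffineMor g) :
    IsAffineMor (f ≫ g) := by
  intro Z hZ z
  obtain ⟨W, i, φ, sqW, hW⟩ := hg hZ z
  obtain ⟨W', i', φ', sqW', hW'⟩ := hf hW φ
  refine ⟨W', i' ≫ i, φ', ?_, hW'⟩
  rw [Functor.map_comp]
  exact sqW'.paste_vert sqW

/-- Closed immersions are affine. -/
theorem isAffineMor_of_repWith_isClosedImmersion {F G : Sp S} (f : F ⟶ G)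
    (hf : RepWith @IsClosedImmersion f) : IsAffineMor f := by
  intro Z hZ z
  obtain ⟨W, i, φ, sqW⟩ := hf.rep z
  have hi : IsClosedImmersion i.left := hf.property _ _ _ sqW
  have : IsAffine Z.left := hZ
  exact ⟨W, i, φ, sqW, isAffine_of_isAffineHom i.left⟩

/-- A morphism over `B` from a space affine over `B` is affine as soon as the diagonal of the target over `B` is. -/
theorem isAffineMor_of_affine_over_base {X Y B : Sp S} (g : X ⟶ Y) (q : Y ⟶ B) (hp : IsAffineMor (g ≫ q))
    (hΔ : IsAffineMor (pullback.diagonal q)) : IsAffineMor g := by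
  have h1 := isAffineMor_of_isPullback (pullback_lift_diagonal_isPullback g q) hΔ
  have h2 : IsAffineMor (pullback.snd (g ≫ q) q) :=
    isAffineMor_of_isPullback (IsPullback.of_hasPullback (g ≫ q) q) hp
  have h3 := isAffineMor_comp _ _ h1 h2
  rwa [pullback.lift_snd] at h3

end Groth.Agent.Lib.Helper16
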