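import Groth.Agent.Lib.Helper16.Univ
import Groth.Prelude.Def_SGA1
import Mathlib.AlgebraicGeometry.Morphisms.UniversallyClosed
import Mathlib.AlgebraicGeometry.Morphisms.UniversallyInjective
import Mathlib.AlgebraicGeometry.Morphisms.UniversallyOpen

/-!
# Helper library (helper16): for representable morphisms, the representable universal topological properties agree
with the ones defined through points
-/

set_option autoImplicit false
universe u
open CategoryTheory CategoryTheory.Limits AlgebraicGeometry Opposite Topology

namespace Groth.Agent.Lib.Helper16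

open AlgSp

variable {S : Scheme.{u}}

/-- The homeomorphism on points induced by an isomorphism of sheaves. -/
noncomputable def pointsHomeoOfIso {F G : Sp S} (e : F ≅ G) : Points F ≃ₜ Points G where
  toFun := Points.map e.hom
  invFun := Points.map e.inv
  left_inv x := by rw [← Points.map_comp, e.hom_inv_id, Points.map_id]
  right_inv x := by rw [← Points.map_comp, e.inv_hom_id, Points.map_id]
  continuous_toFun := Points.continuous_map _
  continuous_invFun := Points.continuous_map _

theorem map_iso_comp {A A' B : Sp S} (e : A ≅ A') (π : A' ⟶ B) :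
    Points.map (e.hom ≫ π) = Points.map π ∘ pointsHomeoOfIso e := by
  funext x
  exact Points.map_comp _ _ x

/-- The general comparison. -/
theorem repWith_universally_iff_univSp
    (Pt : ∀ {α β : Type u} [TopologicalSpace α] [TopologicalSpace β], (α → β) → Prop)
    (Q : MorphismProperty (Sp S))
    (hQiso : ∀ {A A' B : Sp S} (e : A ≅ A') (π : A' ⟶ B), Q π → Q (e.hom ≫ π))
    (hQloc : IsEtaleLocalOnBase Q)
    (hQP : ∀ {T T' : Over S} (φ : T ⟶ T'), Q ((yon S).map φ) ↔ topologically Pt φ.left)
    {F G : Sp S} (f : F ⟶ G) (hf : Representable f) :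
    RepWith (MorphismProperty.universally (topologically Pt)) f ↔ UnivSp Q f := by
  constructor
  · intro h
    refine univSp_of_tests hQloc f (fun _ _ => True) ?_ ?_
    · intro Z hZ g
      obtain ⟨V, q, hqe, hqs⟩ := hZ.atlas
      exact ⟨PUnit, fun _ => V, fun _ => q, fun _ => hqe,
        fun z => ⟨PUnit.unit, ofPt_surjective_of_surjective q hqs z⟩, fun _ => trivial⟩
    · intro T t _ P fst snd sq
      obtain ⟨V, g, fst₀, sq₀⟩ := hf t
      have h1 : topologically Pt g.left := h.property t fst₀ g sq₀ _ _ _ IsPullback.of_id_snd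
      have h2 : Q ((yon S).map g) := (hQP g).2 h1
      have e : (sq.isoIsPullback _ _ sq₀).hom ≫ (yon S).map g = snd :=
        IsPullback.isoIsPullback_hom_snd _ _ sq sq₀
      rw [← e]
      exact hQiso _ _ h2
  · intro h
    refine ⟨hf, fun U V g fst snd sq => ?_⟩
    intro X' Y' i₁ i₂ f' sqS
    have hw : f' ≫ i₂ ≫ U.hom = i₁ ≫ V.hom := by
      rw [← Category.assoc, sqS.w, Category.assoc]
      exact congrArg (fun x => i₁ ≫ x) (Over.w snd)
    let i₂o : Over.mk (i₂ ≫ U.hom) ⟶ U := Over.homMk i₂ rfl
    let i₁o : Over.mk (i₁ ≫ V.hom) ⟶ V := Over.homMk i₁ rfl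
    let φ : Over.mk (i₁ ≫ V.hom) ⟶ Over.mk (i₂ ≫ U.hom) := Over.homMk f' hw
    have e : φ ≫ i₂o = i₁o ≫ snd := Over.OverMorphism.ext sqS.w
    have sqO : IsPullback φ i₁o i₂o snd := IsPullback.of_map (Over.forget S) e sqS
    have sq1 := ((sqO.map (yon S)).flip).paste_horiz sq
    exact (hQP φ).1 (h (IsAlgSpace.yon_obj _) _ _ _ sq1)

section Conj

variable {α β : Type u} [TopologicalSpace α] [TopologicalSpace β] {α' β' : Type*} [TopologicalSpace α']
  [TopologicalSpace β'] (e : α ≃ₜ α') (e' : β ≃ₜ β') (g : α → β)

theorem conj_eq : g = e'.symm ∘ (e' ∘ g ∘ e.symm) ∘ e := by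
  funext x
  simp

theorem isOpenMap_conj_iff : IsOpenMap (e' ∘ g ∘ e.symm) ↔ IsOpenMap g := by
  constructor
  · intro h
    rw [conj_eq e e' g]
    exact e'.symm.isOpenMap.comp (h.comp e.isOpenMap)
  · intro h
    exact e'.isOpenMap.comp (h.comp e.symm.isOpenMap)

theorem isClosedMap_conj_iff : IsClosedMap (e' ∘ g ∘ e.symm) ↔ IsClosedMap g := by
  constructor
  · intro h
    rw [conj_eq e e' g]
    exact e'.symm.isClosedMap.comp (h.comp e.isClosedMap)
  · intro h
    exact e'.isClosedMap.comp (h.comp e.symm.isClosedMap)

theorem injective_conj_iff : Function.Injective (e' ∘ g ∘ e.symm) ↔ Function.Injective g := by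
  constructor
  · intro h
    rw [conj_eq e e' g]
    exact e'.symm.injective.comp (h.comp e.injective)
  · intro h
    exact e'.injective.comp (h.comp e.symm.injective)

theorem isQuotientMap_conj_iff : IsQuotientMap (e' ∘ g ∘ e.symm) ↔ IsQuotientMap g := by
  constructor
  · intro h
    rw [conj_eq e e' g]
    exact e'.symm.isQuotientMap.comp (h.comp e.isQuotientMap)
  · intro h
    exact e'.isQuotientMap.comp (h.comp e.symm.isQuotientMap)

end Conj

theorem repWith_universallyOpen_iff {F G : Sp S} (f : F ⟶ G) (hf : Representable f) :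
    RepWith @UniversallyOpen f ↔ IsUnivOpenMor f := by
  rw [UniversallyOpen.eq]
  refine repWith_universally_iff_univSp @IsOpenMap IsOpenMor ?_ isEtaleLocalOnBase_isOpenMor ?_ f hf
  · intro A A' B e π h
    change IsOpenMap _
    rw [map_iso_comp]
    exact IsOpenMap.comp h (pointsHomeoOfIso e).isOpenMap
  · intro T T' φ
    change IsOpenMap _ ↔ IsOpenMap _
    rw [Points.map_yon_map_eq]
    exact isOpenMap_conj_iff _ _ _

theorem repWith_universallyClosed_iff {F G : Sp S} (f : F ⟶ G) (hf : Representable f) :
    RepWith @UniversallyClosed f ↔ IsUnivClosedMor f := by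
  rw [universallyClosed_eq]
  refine repWith_universally_iff_univSp @IsClosedMap IsClosedMor ?_ isEtaleLocalOnBase_isClosedMor ?_ f hf
  · intro A A' B e π h
    change IsClosedMap _
    rw [map_iso_comp]
    exact IsClosedMap.comp h (pointsHomeoOfIso e).isClosedMap
  · intro T T' φ
    change IsClosedMap _ ↔ IsClosedMap _
    rw [Points.map_yon_map_eq]
    exact isClosedMap_conj_iff _ _ _

theorem repWith_universallyInjective_iff {F G : Sp S} (f : F ⟶ G) (hf : Representable f) :
    RepWith @UniversallyInjective f ↔ IsUnivInjectiveMor f := by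
  rw [universallyInjective_eq]
  refine repWith_universally_iff_univSp (fun f => Function.Injective f)
    (fun _ _ f => Function.Injective (Points.map f)) ?_ isEtaleLocalOnBase_injective ?_ f hf
  · intro A A' B e π h
    change Function.Injective _
    rw [map_iso_comp]
    exact Function.Injective.comp h (pointsHomeoOfIso e).injective
  · intro T T' φ
    change Function.Injective _ ↔ Function.Injective _
    rw [Points.map_yon_map_eq]
    exact injective_conj_iff _ _ _

theorem repWith_univSubmersive_iff {F G : Sp S} (f : F ⟶ G) (hf : Representable f) :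
    RepWith SGA1.UnivSubmersive f ↔ IsUnivSubmersiveMor f := by
  refine repWith_universally_iff_univSp (fun f => IsQuotientMap f) IsSubmersiveMor ?_
    isEtaleLocalOnBase_isSubmersiveMor ?_ f hf
  · intro A A' B e π h
    change IsQuotientMap _
    rw [map_iso_comp]
    exact IsQuotientMap.comp h (pointsHomeoOfIso e).isQuotientMap
  · intro T T' φ
    change IsQuotientMap _ ↔ IsQuotientMap _
    rw [Points.map_yon_map_eq]
    exact isQuotientMap_conj_iff _ _ _

end Groth.Agent.Lib.Helper16
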