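import Groth.Agent.Lib.Helper16.FppfLocal2
import Groth.Agent.Lib.Helper16.Rep

/-!
# Helper library (helper16): descent of monomorphisms along etale surjective charts
-/

set_option autoImplicit false
universe u
open CategoryTheory CategoryTheory.Limits AlgebraicGeometry Opposite Topology

namespace Groth.Agent.Lib.Helper16

open AlgSp

variable {S : Scheme.{u}}

/-- A representable etale surjective morphism of sheaves is an epimorphism. -/
theorem epi_of_etale_surjective {F G : Sp S} (q : F ⟶ G) (hqe : RepWith @Etale q)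
    (hqs : RepWith @Surjective q) : Epi q := by
  have := isLocallySurjective_of_etale_surjective q hqe hqs
  infer_instance

theorem mono_of_chart_aux {X Y : Sp S} (f : X ⟶ Y) {V : Over S} (p : (yon S).obj V ⟶ Y) (hp : RepWith @Etale p)
    (hps : RepWith @Surjective p) {P : Sp S} (fst : P ⟶ X) (snd : P ⟶ (yon S).obj V)
    (sq : IsPullback fst snd f p) [Mono snd] {T : Over S} (a b : (yon S).obj T ⟶ X) (hab : a ≫ f = b ≫ f) :
    a = b := by
  have sq' := hp.rep.isPullback (a ≫ f)
  have he : RepWith @Etale ((yon S).map (hp.rep.snd (a ≫ f))) :=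
    (repWith_yon_map_iff _ _).2 (hp.property_snd _)
  have hs : RepWith @Surjective ((yon S).map (hp.rep.snd (a ≫ f))) :=
    (repWith_yon_map_iff _ _).2 (hps.property _ _ _ sq')
  have := epi_of_etale_surjective _ he hs
  rw [← cancel_epi ((yon S).map (hp.rep.snd (a ≫ f)))]
  have e1 : ((yon S).map (hp.rep.snd (a ≫ f)) ≫ a) ≫ f = hp.rep.fst (a ≫ f) ≫ p := by
    rw [sq'.w, Category.assoc]
  have e2 : ((yon S).map (hp.rep.snd (a ≫ f)) ≫ b) ≫ f = hp.rep.fst (a ≫ f) ≫ p := by
    rw [sq'.w, Category.assoc, hab]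
  have key : sq.lift _ _ e1 = sq.lift _ _ e2 := by
    rw [← cancel_mono snd, sq.lift_snd, sq.lift_snd]
  calc (yon S).map (hp.rep.snd (a ≫ f)) ≫ a = sq.lift _ _ e1 ≫ fst := (sq.lift_fst _ _ _).symm
    _ = sq.lift _ _ e2 ≫ fst := by rw [key]
    _ = _ := sq.lift_fst _ _ _

/-- Being a monomorphism descends along an etale surjective chart of the target. -/
theorem mono_of_chart {X Y : Sp S} (f : X ⟶ Y) {V : Over S} (p : (yon S).obj V ⟶ Y) (hp : RepWith @Etale p)
    (hps : RepWith @Surjective p) {P : Sp S} (fst : P ⟶ X) (snd : P ⟶ (yon S).obj V)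
    (sq : IsPullback fst snd f p) [Mono snd] : Mono f := by
  constructor
  intro Z a b hab
  apply sp_hom_ext
  intro T z
  exact mono_of_chart_aux f p hp hps fst snd sq (z ≫ a) (z ≫ b)
    (by rw [Category.assoc, Category.assoc, hab])

end Groth.Agent.Lib.Helper16
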