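import Groth.Agent.Lib.Helper16.LocPSource
import Groth.Agent.Lib.Helper16.MonoDescent
import Groth.Agent.Lib.Helper16.DiagProps

/-!
# Helper library (helper16): monomorphisms, isomorphisms and open immersions are fpqc local on the base
-/

set_option autoImplicit false
universe u
open CategoryTheory CategoryTheory.Limits AlgebraicGeometry Opposite Topology MorphismProperty

namespace Groth.Agent.Lib.Helper16

open AlgSp

variable {S : Scheme.{u}}

/-- A property of morphisms of schemes which is Zariski local on the target and satisfies fpqc descent can be checked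
after base change to standard fpqc coverings of the affine opens of the target. -/
theorem P_of_affine_std_covers {Pr : MorphismProperty Scheme.{u}} [IsZariskiLocalAtTarget Pr]
    [Pr.DescendsAlong (@Surjective ⊓ @Flat ⊓ @QuasiCompact)] {W T : Over S} (w : W ⟶ T)
    (H : ∀ (O : T.left.Opens), IsAffineOpen O →
      ∃ (m : ℕ) (Wc : Fin m → Over S) (c : ∀ j, Wc j ⟶ Over.mk (O.ι ≫ T.hom)),
        (∀ j, IsAffine (Wc j).left) ∧ (∀ j, Flat (c j).left) ∧
        (∀ z : ↥(Over.mk (O.ι ≫ T.hom)).left, ∃ j, z ∈ Set.range (c j).left) ∧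
        ∀ j, Pr (pullback.snd w (c j ≫ (Over.homMk O.ι rfl : Over.mk (O.ι ≫ T.hom) ⟶ T))).left) :
    Pr w.left := by
  have : Pr.RespectsIso := inferInstance
  apply IsZariskiLocalAtTarget.of_forall_exists_morphismRestrict
  intro v
  obtain ⟨_, ⟨(O : T.left.Opens), hO, rfl⟩, hvO, -⟩ :=
    T.left.isBasis_affineOpens.exists_subset_of_mem_open (Set.mem_univ v) isOpen_univ
  refine ⟨O, hvO, ?_⟩
  obtain ⟨m, Wc, c, hWa, hcf, hcs, hP⟩ := H O hO
  have : IsAffine (Scheme.Opens.toScheme (X := T.left) O) := hO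
  have : ∀ j, IsAffine (Wc j).left := hWa
  refine of_std_fpqc_cover (w.left ∣_ O) (fun j => (Wc j).left) (fun j => (c j).left) hcf hcs ?_
  intro j
  have sqA : IsPullback (pullback.fst (w.left ∣_ O) (c j).left ≫ (w.left ⁻¹ᵁ O).ι)
      (pullback.snd (w.left ∣_ O) (c j).left) w.left ((c j).left ≫ O.ι) :=
    (IsPullback.of_hasPullback (w.left ∣_ O) (c j).left).paste_horiz (isPullback_morphismRestrict w.left O).flip
  exact P_snd_of_isPullback sqA
    (isPullback_left_forget w (c j ≫ (Over.homMk O.ι rfl : Over.mk (O.ι ≫ T.hom) ⟶ T))) (hP j)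

/-- Descent of `RepWith Pr` along a family satisfying the refinement clause of fpqc coverings, for a morphism
already known to be representable. -/
theorem repWith_of_fpqcRefines {Pr : MorphismProperty Scheme.{u}} [IsZariskiLocalAtTarget Pr]
    [Pr.DescendsAlong (@Surjective ⊓ @Flat ⊓ @QuasiCompact)]
    {ι : Type u} {Y : Sp S} (Yi : ι → Sp S) (g : ∀ i, Yi i ⟶ Y) (href : FpqcRefines Yi g) {X : Sp S}
    (f : X ⟶ Y) (hrep : Representable f) (Xi : ι → Sp S) (p : ∀ i, Xi i ⟶ Yi i) (q : ∀ i, Xi i ⟶ X)
    (sq : ∀ i, IsPullback (q i) (p i) f (g i)) (hp : ∀ i, RepWith Pr (p i)) : RepWith Pr f := by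
  refine ⟨hrep, fun T W t fst w sqT => ?_⟩
  show Pr w.left
  apply P_of_affine_std_covers w
  intro O hO
  have hTO : IsAffine (Over.mk (O.ι ≫ T.hom)).left := hO
  obtain ⟨m, Wc, c, hWa, hcf, hcs, hl⟩ := href (Over.mk (O.ι ≫ T.hom)) hTO
    ((yon S).map (Over.homMk O.ι rfl : Over.mk (O.ι ≫ T.hom) ⟶ T) ≫ t)
  refine ⟨m, Wc, c, hWa, hcf, hcs, fun j => ?_⟩
  obtain ⟨i, l, hl'⟩ := hl j
  have hl'' : l ≫ g i = (yon S).map (c j ≫ (Over.homMk O.ι rfl : Over.mk (O.ι ≫ T.hom) ⟶ T)) ≫ t := by
    rw [hl', Functor.map_comp, Category.assoc]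
  have sqY := (IsPullback.of_hasPullback w (c j ≫ (Over.homMk O.ι rfl : Over.mk (O.ι ≫ T.hom) ⟶ T))).map (yon S)
  obtain ⟨k, hk, -⟩ := isPullback_refine (sq i) sqT hl'' sqY
  exact (hp i).property _ _ _ hk

/-- The refinement clause of fpqc coverings implies joint surjectivity on points. -/
theorem fpqcRefines_surjective {ι : Type u} {Y : Sp S} (Yi : ι → Sp S) (g : ∀ i, Yi i ⟶ Y)
    (href : FpqcRefines Yi g) (y : Points Y) : ∃ (i : ι) (yi : Points (Yi i)), Points.map (g i) yi = y := by
  induction y using Points.ind with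
  | h p =>
    have hp : IsAffine p.pt.left := inferInstanceAs (IsAffine (Spec (CommRingCat.of p.K)))
    obtain ⟨m, W, c, hWa, hcf, hcs, hl⟩ := href p.pt hp p.toHom
    obtain ⟨j, w, hw⟩ := hcs (IsLocalRing.closedPoint p.K : ↥(Spec (CommRingCat.of p.K)))
    obtain ⟨i, l, hl'⟩ := hl j
    refine ⟨i, Points.ofPt l w, ?_⟩
    rw [Points.map_ofPt, hl', ofPt_yon_map_comp, Points.ofPt_toHom]

/-- Monomorphisms descend along families satisfying the refinement clause of fpqc coverings. -/
theorem mono_of_fpqcRefines {ι : Type u} {Y : Sp S} (Yi : ι → Sp S) (g : ∀ i, Yi i ⟶ Y)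
    (href : FpqcRefines Yi g) {X : Sp S} (hX : IsAlgSpace X) (f : X ⟶ Y) (Xi : ι → Sp S)
    (p : ∀ i, Xi i ⟶ Yi i) (q : ∀ i, Xi i ⟶ X) (sq : ∀ i, IsPullback (q i) (p i) f (g i))
    (hp : ∀ i, Mono (p i)) : Mono f := by
  constructor
  intro Z a₀ b₀ hab₀
  apply sp_hom_ext
  intro T z
  have hab : (z ≫ a₀) ≫ f = (z ≫ b₀) ≫ f := by rw [Category.assoc, Category.assoc, hab₀]
  generalize z ≫ a₀ = a at hab ⊢
  generalize z ≫ b₀ = b at hab ⊢
  have hd := hX.diag
  have sqE := hd.isPullback (prod.lift a b)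
  have h1 : hd.fst (prod.lift a b) = (yon S).map (hd.snd (prod.lift a b)) ≫ a := by
    have := sqE.w =≫ prod.fst
    simp only [Category.assoc, prod.lift_fst, Category.comp_id] at this
    exact this
  have h2 : hd.fst (prod.lift a b) = (yon S).map (hd.snd (prod.lift a b)) ≫ b := by
    have := sqE.w =≫ prod.snd
    simp only [Category.assoc, prod.lift_snd, Category.comp_id] at this
    exact this
  have hmono : Mono ((yon S).map (hd.snd (prod.lift a b))) :=
    (MorphismProperty.monomorphisms.iff _).1 (MorphismProperty.of_isPullback sqE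
      ((MorphismProperty.monomorphisms.iff _).2 (mono_diag X)))
  have hemono : Mono (hd.snd (prod.lift a b)) := (yon S).mono_of_mono_map hmono
  have hiso : IsIso (hd.snd (prod.lift a b)).left := by
    show MorphismProperty.isomorphisms Scheme.{u} (hd.snd (prod.lift a b)).left
    apply P_of_affine_std_covers (hd.snd (prod.lift a b))
    intro O hO
    have hTO : IsAffine (Over.mk (O.ι ≫ T.hom)).left := hO
    obtain ⟨m, Wc, c, hWa, hcf, hcs, hl⟩ := href (Over.mk (O.ι ≫ T.hom)) hTO
      ((yon S).map (Over.homMk O.ι rfl : Over.mk (O.ι ≫ T.hom) ⟶ T) ≫ a ≫ f)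
    refine ⟨m, Wc, c, hWa, hcf, hcs, fun j => ?_⟩
    obtain ⟨i, l, hl'⟩ := hl j
    set n : Wc j ⟶ T := c j ≫ (Over.homMk O.ι rfl : Over.mk (O.ι ≫ T.hom) ⟶ T) with hn
    have hla : ((yon S).map n ≫ a) ≫ f = l ≫ g i := by
      rw [hl', hn, Functor.map_comp]
      simp only [Category.assoc]
    have hlb : ((yon S).map n ≫ b) ≫ f = l ≫ g i := by
      rw [Category.assoc, ← hab, ← Category.assoc, hla]
    have key : (yon S).map n ≫ a = (yon S).map n ≫ b := by
      have ha := (sq i).lift_snd ((yon S).map n ≫ a) l hla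
      have hb := (sq i).lift_snd ((yon S).map n ≫ b) l hlb
      have hm := hp i
      have e1 : (sq i).lift ((yon S).map n ≫ a) l hla = (sq i).lift ((yon S).map n ≫ b) l hlb :=
        (cancel_mono (p i)).1 (ha.trans hb.symm)
      rw [← (sq i).lift_fst ((yon S).map n ≫ a) l hla, e1, (sq i).lift_fst]
    have wlift : ((yon S).map n ≫ a) ≫ Limits.diag X = (yon S).map n ≫ prod.lift a b := by
      apply Limits.prod.hom_ext
      · simp only [Category.assoc, prod.lift_fst, Category.comp_id]
      · simp only [Category.assoc, prod.lift_snd, Category.comp_id]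
        exact key
    obtain ⟨s, hs⟩ := (yon S).map_surjective (sqE.lift _ _ wlift)
    have hse : s ≫ hd.snd (prod.lift a b) = n := by
      apply (yon S).map_injective
      rw [Functor.map_comp, hs, sqE.lift_snd]
    have hsplit : IsSplitEpi (pullback.snd (hd.snd (prod.lift a b)) n) :=
      IsSplitEpi.mk' ⟨pullback.lift s (𝟙 _) (by rw [hse, Category.id_comp]), pullback.lift_snd _ _ _⟩
    have : IsIso (pullback.snd (hd.snd (prod.lift a b)) n) := isIso_of_mono_of_isSplitEpi _
    show IsIso ((Over.forget S).map (pullback.snd (hd.snd (prod.lift a b)) n))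
    infer_instance
  have : IsIso ((Over.forget S).map (hd.snd (prod.lift a b))) := hiso
  have : IsIso (hd.snd (prod.lift a b)) := isIso_of_reflects_iso _ (Over.forget S)
  exact (cancel_epi ((yon S).map (hd.snd (prod.lift a b)))).1 (h1.symm.trans h2)

theorem isEtaleMor_of_isIso {X Y : Sp S} (f : X ⟶ Y) [IsIso f] : IsEtaleMor f := by
  intro U φ hφ
  exact ((RepWith @Etale).cancel_right_of_respectsIso φ f).2 hφ

/-- An etale surjective monomorphism from an algebraic space is an isomorphism. -/
theorem isIso_of_etale_mono_surjective {X Y : Sp S} (hX : IsAlgSpace X) (f : X ⟶ Y) (hf : IsEtaleMor f)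
    [Mono f] (hs : IsSurjectiveMor f) : IsIso f := by
  obtain ⟨U, a, hae, has⟩ := hX.atlas
  have h1 : RepWith @Etale (a ≫ f) := hf a hae
  have h2 : RepWith @Surjective (a ≫ f) := by
    rw [repWith_surjective_iff _ h1.rep, points_map_comp_eq]
    exact Function.Surjective.comp hs ((repWith_surjective_iff a hae.rep).1 has)
  have : Epi (a ≫ f) := epi_of_etale_surjective _ h1 h2
  have : Epi f := epi_of_epi a f
  exact isIso_of_mono_of_epi f

/-- Isomorphisms descend along families satisfying the refinement clause of fpqc coverings. -/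
theorem isIso_of_fpqcRefines {ι : Type u} {Y : Sp S} (hY : IsAlgSpace Y) (Yi : ι → Sp S)
    (hYi : ∀ i, IsAlgSpace (Yi i)) (g : ∀ i, Yi i ⟶ Y)
    (href : FpqcRefines Yi g) {X : Sp S} (hX : IsAlgSpace X) (f : X ⟶ Y) (Xi : ι → Sp S)
    (hXi : ∀ i, IsAlgSpace (Xi i))
    (p : ∀ i, Xi i ⟶ Yi i) (q : ∀ i, Xi i ⟶ X) (sq : ∀ i, IsPullback (q i) (p i) f (g i))
    (hp : ∀ i, IsIso (p i)) : IsIso f := by
  have hmono : Mono f := mono_of_fpqcRefines Yi g href hX f Xi p q sq (fun i => inferInstance)
  have het : LocP @Etale f := locP_of_fpqcRefines etLocalST_etale Yi hYi g href f Xi hXi p q sq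
    (fun i => (isEtaleMor_iff_locP_etale (hYi i) (p i)).1 (isEtaleMor_of_isIso (p i)))
  have hsurj : IsSurjectiveMor f := by
    intro y
    obtain ⟨i, yi, rfl⟩ := fpqcRefines_surjective Yi g href y
    refine ⟨Points.map (q i) (Points.map (inv (p i)) yi), ?_⟩
    rw [← Points.map_comp, ← Points.map_comp, (sq i).w, IsIso.inv_hom_id_assoc]
  exact isIso_of_etale_mono_surjective hX f ((isEtaleMor_iff_locP_etale hY f).2 het) hsurj

/-- An etale monomorphism of algebraic spaces is (representable by) an open immersion. -/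
theorem repWith_isOpenImmersion_of_etale_mono {X Y : Sp S} (hX : IsAlgSpace X) (hY : IsAlgSpace Y)
    (f : X ⟶ Y) (hf : LocP @Etale f) [Mono f] : RepWith @IsOpenImmersion f := by
  apply MorphismProperty.relative.of_exists
  intro T t
  have sqZ := IsPullback.of_hasPullback f t
  have hZ : IsAlgSpace (pullback f t) := isAlgSpace_of_isPullback hX hY.diag (IsAlgSpace.yon_obj T) sqZ
  have hsnd : IsEtaleMor (pullback.snd f t) :=
    (isEtaleMor_iff_locP_etale (IsAlgSpace.yon_obj T) _).2 (locP_of_isPullback etLocalST_etale hX hY sqZ hf)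
  obtain ⟨U, a, hae, has⟩ := hZ.atlas
  obtain ⟨h, hh⟩ := (yon S).map_surjective (a ≫ pullback.snd f t)
  have hhe : Etale h.left := (repWith_yon_map_iff _ _).1 (by rw [hh]; exact hsnd a hae)
  let O : T.left.Opens := ⟨Set.range h.left, h.left.isOpenMap.isOpen_range⟩
  let TO : Over S := Over.mk (O.ι ≫ T.hom)
  let ιO : TO ⟶ T := Over.homMk O.ι rfl
  have hrange : Set.range h.left ⊆ Set.range O.ι := by
    rw [Scheme.Opens.range_ι]; exact subset_rfl
  have hh'l : IsOpenImmersion.lift O.ι h.left hrange ≫ O.ι = h.left := IsOpenImmersion.lift_fac _ _ _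
  let h' : U ⟶ TO := Over.homMk (IsOpenImmersion.lift O.ι h.left hrange) (by
    show IsOpenImmersion.lift O.ι h.left hrange ≫ O.ι ≫ T.hom = U.hom
    rw [← Category.assoc, hh'l]; exact Over.w h)
  have hh' : h' ≫ ιO = h := by
    ext : 1
    exact hh'l
  have hh'e : Etale h'.left := by
    have h3 : Etale (IsOpenImmersion.lift O.ι h.left hrange ≫ O.ι) := by rw [hh'l]; exact hhe
    exact etLocalST_etale.cancel _ O.ι inferInstance h3
  have hh's : Surjective h'.left := by
    refine ⟨fun y => ?_⟩
    have hy : O.ι y ∈ Set.range h.left := by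
      have : O.ι y ∈ Set.range O.ι := ⟨y, rfl⟩
      rw [Scheme.Opens.range_ι] at this
      exact this
    obtain ⟨u, hu⟩ := hy
    refine ⟨u, ?_⟩
    apply O.ι.isOpenEmbedding.injective
    rw [← Scheme.Hom.comp_apply]
    show (IsOpenImmersion.lift O.ι h.left hrange ≫ O.ι) u = O.ι y
    rw [hh'l, hu]
  have hιO : RepWith @IsOpenImmersion ((yon S).map ιO) :=
    (repWith_yon_map_iff _ _).2 (inferInstanceAs (IsOpenImmersion O.ι))
  have hle : (@IsOpenImmersion : MorphismProperty Scheme.{u}) ≤ MorphismProperty.monomorphisms _ :=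
    fun A B k hk => by
      have : IsOpenImmersion k := hk
      exact (MorphismProperty.monomorphisms.iff _).2 inferInstance
  have hιOm : Mono ((yon S).map ιO) := mono_of_repWith hle _ hιO
  have sqP := IsPullback.of_hasPullback (pullback.snd f t) ((yon S).map ιO)
  have hfstm : Mono (pullback.fst (pullback.snd f t) ((yon S).map ιO)) :=
    mono_of_repWith hle _ ((RepWith @IsOpenImmersion).of_isPullback sqP.flip hιO)
  have hcond : a ≫ pullback.snd f t = (yon S).map h' ≫ (yon S).map ιO := by
    rw [← Functor.map_comp, hh', hh]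
  have hae' : Epi a := epi_of_etale_surjective a hae has
  have hfste : Epi (pullback.fst (pullback.snd f t) ((yon S).map ιO)) :=
    epi_of_epi_fac (pullback.lift_fst a ((yon S).map h') hcond)
  have hfsti : IsIso (pullback.fst (pullback.snd f t) ((yon S).map ιO)) := isIso_of_mono_of_epi _
  obtain ⟨s, hs⟩ : ∃ s : pullback f t ⟶ (yon S).obj TO, s ≫ (yon S).map ιO = pullback.snd f t :=
    ⟨inv (pullback.fst (pullback.snd f t) ((yon S).map ιO)) ≫ pullback.snd _ _, by
      rw [Category.assoc, ← pullback.condition, IsIso.inv_hom_id_assoc]⟩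
  have hsm : Mono s := by
    have : Mono (s ≫ (yon S).map ιO) := by rw [hs]; infer_instance
    exact mono_of_mono s ((yon S).map ιO)
  have has' : a ≫ s = (yon S).map h' := by
    rw [← cancel_mono ((yon S).map ιO), Category.assoc, hs, hcond]
  have hse : Epi s := by
    have : Epi ((yon S).map h') := epi_of_etale_surjective _ ((repWith_yon_map_iff _ _).2 hh'e)
      ((repWith_yon_map_iff _ _).2 hh's)
    exact epi_of_epi_fac has'
  have hsi : IsIso s := isIso_of_mono_of_epi s
  have sq1 : IsPullback (inv s) ((yon S).map ιO) (pullback.snd f t) (𝟙 _) :=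
    IsPullback.of_horiz_isIso ⟨by rw [Category.comp_id, IsIso.inv_comp_eq, hs]⟩
  have sq2 := sq1.paste_horiz sqZ
  rw [Category.id_comp] at sq2
  exact ⟨TO, inv s ≫ pullback.fst f t, ιO, sq2, inferInstanceAs (IsOpenImmersion O.ι)⟩

theorem isLocalOnBase_fpqc_monomorphisms :
    IsLocalOnBase (IsFpqcCover (S := S)) (MorphismProperty.monomorphisms (Sp S)) := by
  intro ι Y Yi g hY hYi hcov X f hX Xi p q hXi sq
  constructor
  · intro hf i
    exact MorphismProperty.of_isPullback (sq i) hf
  · intro hp
    exact (MorphismProperty.monomorphisms.iff _).2 (mono_of_fpqcRefines Yi g hcov.2 hX f Xi p q sq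
      (fun i => (MorphismProperty.monomorphisms.iff _).1 (hp i)))

theorem isLocalOnBase_fpqc_isomorphisms :
    IsLocalOnBase (IsFpqcCover (S := S)) (MorphismProperty.isomorphisms (Sp S)) := by
  intro ι Y Yi g hY hYi hcov X f hX Xi p q hXi sq
  constructor
  · intro hf i
    exact MorphismProperty.of_isPullback (sq i) hf
  · intro hp
    exact (MorphismProperty.isomorphisms.iff _).2 (isIso_of_fpqcRefines hY Yi hYi g hcov.2 hX f Xi hXi p q sq
      (fun i => (MorphismProperty.isomorphisms.iff _).1 (hp i)))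

theorem isLocalOnBase_fpqc_repWith_isOpenImmersion :
    IsLocalOnBase (IsFpqcCover (S := S)) (RepWith @IsOpenImmersion) := by
  intro ι Y Yi g hY hYi hcov X f hX Xi p q hXi sq
  constructor
  · intro hf i
    exact MorphismProperty.of_isPullback (sq i) hf
  · intro hp
    have hle : (@IsOpenImmersion : MorphismProperty Scheme.{u}) ≤ MorphismProperty.monomorphisms _ :=
      fun A B k hk => by
        have : IsOpenImmersion k := hk
        exact (MorphismProperty.monomorphisms.iff _).2 inferInstance
    have hmono : Mono f := mono_of_fpqcRefines Yi g hcov.2 hX f Xi p q sq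
      (fun i => mono_of_repWith hle _ (hp i))
    have het : LocP @Etale f := locP_of_fpqcRefines etLocalST_etale Yi hYi g hcov.2 f Xi hXi p q sq
      (fun i => (locP_iff_repWith etLocalST_etale (hXi i) (hYi i) (p i) (hp i).rep).2
        (MorphismProperty.relative_monotone (fun A B k hk => by
          have : IsOpenImmersion k.left := hk
          exact (inferInstance : Etale k.left)) _ (hp i)))
    exact repWith_isOpenImmersion_of_etale_mono hX hY f het

end Groth.Agent.Lib.Helper16
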