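import Groth.Agent.Lib.Helper16.ZarRep
import Groth.Agent.Lib.Helper16.FpqcMono

/-!
# Helper library (helper16): affine morphisms of algebraic spaces are representable
-/

set_option autoImplicit false
universe u w
open CategoryTheory CategoryTheory.Limits AlgebraicGeometry Opposite

namespace Groth.Agent.Lib.Helper16

open AlgSp

variable {S : Scheme.{u}}

/-- A morphism of algebraic spaces whose base changes to affine schemes are schemes is representable. -/
theorem representable_of_affine_local {X Y : Sp S} (hX : IsAlgSpace X) (hY : IsAlgSpace Y) (f : X ⟶ Y)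
    (hf : ∀ ⦃Z : Over S⦄, IsAffine Z.left → ∀ (g : (yon S).obj Z ⟶ Y),
      ∃ (W : Over S) (i : W ⟶ Z) (fst : (yon S).obj W ⟶ X), IsPullback fst ((yon S).map i) f g) :
    Representable f := by
  intro U g
  have hT : IsAlgSpace (pullback f g) :=
    isAlgSpace_of_isPullback hX hY.diag (IsAlgSpace.yon_obj U) (IsPullback.of_hasPullback f g)
  have hO : ∀ O : U.left.directedAffineCover.I₀, IsAffine (affOv U O).left := fun O => O.2
  choose V i fstV sqV using fun O : U.left.directedAffineCover.I₀ =>
    hf (hO O) ((yon S).map (affOvι U O) ≫ g)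
  have hw : ∀ O, fstV O ≫ f = ((yon S).map (i O) ≫ (yon S).map (affOvι U O)) ≫ g := fun O => by
    rw [(sqV O).w, Category.assoc]
  have sqa : ∀ O, IsPullback (pullback.lift (fstV O) ((yon S).map (i O) ≫ (yon S).map (affOvι U O)) (hw O))
      ((yon S).map (i O)) (pullback.snd f g) ((yon S).map (affOvι U O)) := by
    intro O
    refine IsPullback.of_right ?_ (pullback.lift_snd _ _ _) (IsPullback.of_hasPullback f g)
    rw [pullback.lift_fst]
    exact sqV O
  obtain ⟨V', p, e, he⟩ := exists_rep_of_zariski_local hT (pullback.snd f g) V i _ sqa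
  refine ⟨V', p, e.hom ≫ pullback.fst f g, ?_⟩
  refine IsPullback.of_iso (IsPullback.of_hasPullback f g) e.symm (Iso.refl _) (Iso.refl _) (Iso.refl _) ?_ ?_ ?_ ?_
  · simp
  · rw [Iso.symm_hom, Iso.refl_hom, Category.comp_id, ← he, Iso.inv_hom_id_assoc]
  · simp
  · simp

/-- Affine morphisms of algebraic spaces are representable. -/
theorem representable_of_isAffineMor {X Y : Sp S} (hX : IsAlgSpace X) (hY : IsAlgSpace Y) (f : X ⟶ Y)
    (hf : IsAffineMor f) : Representable f :=
  representable_of_affine_local hX hY f (fun Z hZ g => by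
    obtain ⟨W, i, fst, sq, -⟩ := hf hZ g
    exact ⟨W, i, fst, sq⟩)

/-- Affine morphisms of algebraic spaces are representable by affine morphisms of schemes. -/
theorem repWith_isAffineHom_of_isAffineMor {X Y : Sp S} (hX : IsAlgSpace X) (hY : IsAlgSpace Y) (f : X ⟶ Y)
    (hf : IsAffineMor f) : RepWith @IsAffineHom f := by
  refine ⟨representable_of_isAffineMor hX hY f hf, ?_⟩
  intro U V t fst g sq
  show IsAffineHom g.left
  refine ⟨fun O hOa => ?_⟩
  have hOa' : IsAffine (overOpen U O).left := hOa
  obtain ⟨W, i, fst', sqW, hW⟩ := hf hOa' ((yon S).map (overOpenι U O) ≫ t)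
  have sqR := isPullback_restrict sq O
  let e := sqR.isoIsPullback _ _ sqW
  have : IsAffine W.left := hW
  have hiso : IsIso ((yon S).preimage e.hom).left := by
    have : IsIso ((yon S).preimage e.hom) := by
      have : IsIso ((yon S).map ((yon S).preimage e.hom)) := by rw [Functor.map_preimage]; infer_instance
      exact isIso_of_fully_faithful (yon S) _
    exact inferInstanceAs (IsIso ((Over.forget S).map ((yon S).preimage e.hom)))
  exact IsAffine.of_isIso ((yon S).preimage e.hom).left

/-- Morphisms representable with a property implying "affine" are affine. -/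
theorem isAffineMor_of_repWith_le_isAffineHom {Pr : MorphismProperty Scheme.{u}} (hle : Pr ≤ @IsAffineHom)
    {F G : Sp S} (f : F ⟶ G) (hf : RepWith Pr f) : IsAffineMor f := by
  intro Z hZ z
  obtain ⟨W, i, φ, sqW⟩ := hf.rep z
  have hi : IsAffineHom i.left := hle _ (hf.property _ _ _ sqW)
  have : IsAffine Z.left := hZ
  exact ⟨W, i, φ, sqW, isAffine_of_isAffineHom i.left⟩

/-- Descent of `RepWith Pr` along families satisfying the refinement clause of fpqc coverings, for `Pr` implying
"affine", Zariski local on the target and satisfying fpqc descent. -/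
theorem repWith_of_fpqcRefines_of_le_isAffineHom {Pr : MorphismProperty Scheme.{u}}
    [IsZariskiLocalAtTarget Pr] [Pr.DescendsAlong (@Surjective ⊓ @Flat ⊓ @QuasiCompact)] (hle : Pr ≤ @IsAffineHom)
    {ι : Type u} {Y : Sp S} (hY : IsAlgSpace Y) (Yi : ι → Sp S) (g : ∀ i, Yi i ⟶ Y) (href : FpqcRefines Yi g)
    {X : Sp S} (hX : IsAlgSpace X) (f : X ⟶ Y) (Xi : ι → Sp S) (p : ∀ i, Xi i ⟶ Yi i) (q : ∀ i, Xi i ⟶ X)
    (sq : ∀ i, IsPullback (q i) (p i) f (g i)) (hp : ∀ i, RepWith Pr (p i)) : RepWith Pr f := by
  have haff : IsAffineMor f := isAffineMor_of_fpqcRefines hY Yi g href hX f Xi p q sq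
    (fun i => isAffineMor_of_repWith_le_isAffineHom hle _ (hp i))
  exact repWith_of_fpqcRefines Yi g href f (representable_of_isAffineMor hX hY f haff) Xi p q sq hp

/-- A property of morphisms of schemes implying "affine", Zariski local on the target and satisfying fpqc descent, gives
a property of representable morphisms of algebraic spaces which is fpqc local on the base. -/
theorem isLocalOnBase_fpqc_repWith_of_le_isAffineHom {Pr : MorphismProperty Scheme.{u}}
    [Pr.IsStableUnderBaseChange] [IsZariskiLocalAtTarget Pr]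
    [Pr.DescendsAlong (@Surjective ⊓ @Flat ⊓ @QuasiCompact)] (hle : Pr ≤ @IsAffineHom) :
    IsLocalOnBase (IsFpqcCover (S := S)) (RepWith Pr) := by
  intro ι Y Yi g hY hYi hcov X f hX Xi p q hXi sq
  constructor
  · intro hf i
    exact MorphismProperty.of_isPullback (sq i) hf
  · intro hp
    exact repWith_of_fpqcRefines_of_le_isAffineHom hle hY Yi g hcov.2 hX f Xi p q sq hp

/-- `AffWith Pr` implies `RepWith Pr` for morphisms of algebraic spaces, for `Pr` Zariski local on the target. -/
theorem repWith_of_affWith {Pr : MorphismProperty Scheme.{u}} [IsZariskiLocalAtTarget Pr] {X Y : Sp S}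
    (hX : IsAlgSpace X) (hY : IsAlgSpace Y) (f : X ⟶ Y) (hf : AffWith Pr f) : RepWith Pr f := by
  have : Pr.RespectsIso := inferInstance
  refine ⟨representable_of_affine_local hX hY f (fun Z hZ g => ?_), ?_⟩
  · obtain ⟨W, i, fst, sq, -⟩ := hf hZ g
    exact ⟨W, i, fst, sq⟩
  intro U V t fst g sq
  show Pr g.left
  apply IsZariskiLocalAtTarget.of_forall_exists_morphismRestrict
  intro v
  obtain ⟨_, ⟨(O : U.left.Opens), hO, rfl⟩, hvO, -⟩ :=
    U.left.isBasis_affineOpens.exists_subset_of_mem_open (Set.mem_univ v) isOpen_univ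
  refine ⟨O, hvO, ?_⟩
  have hOa' : IsAffine (overOpen U O).left := hO
  obtain ⟨W, i, fst', sqW, -, hPi⟩ := hf hOa' ((yon S).map (overOpenι U O) ≫ t)
  have sqR := isPullback_restrict sq O
  let e := sqW.isoIsPullback _ _ sqR
  have he : e.hom ≫ (yon S).map (overRestrict g O) = (yon S).map i := sqW.isoIsPullback_hom_snd _ _ sqR
  have hiso : IsIso ((yon S).preimage e.hom) := by
    have : IsIso ((yon S).map ((yon S).preimage e.hom)) := by rw [Functor.map_preimage]; infer_instance
    exact isIso_of_fully_faithful (yon S) _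
  have hiso' : IsIso ((yon S).preimage e.hom).left :=
    inferInstanceAs (IsIso ((Over.forget S).map ((yon S).preimage e.hom)))
  have h1 : (yon S).preimage e.hom ≫ overRestrict g O = i := by
    apply (yon S).map_injective
    rw [Functor.map_comp, Functor.map_preimage, he]
  have h2 : ((yon S).preimage e.hom).left ≫ (g.left ∣_ O) = i.left := by
    have := congrArg CommaMorphism.left h1
    exact this
  rw [← (Pr.cancel_left_of_respectsIso ((yon S).preimage e.hom).left (g.left ∣_ O)), h2]
  exact hPi

/-- `RepWith Pr` implies `AffWith Pr` when `Pr` implies "affine". -/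
theorem affWith_of_repWith {Pr : MorphismProperty Scheme.{u}} (hle : Pr ≤ @IsAffineHom) {F G : Sp S} (f : F ⟶ G)
    (hf : RepWith Pr f) : AffWith Pr f := by
  intro Z hZ z
  obtain ⟨W, i, φ, sqW⟩ := hf.rep z
  have hPi : Pr i.left := hf.property _ _ _ sqW
  have hi : IsAffineHom i.left := hle _ hPi
  have : IsAffine Z.left := hZ
  exact ⟨W, i, φ, sqW, isAffine_of_isAffineHom i.left, hPi⟩

end Groth.Agent.Lib.Helper16
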