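import Groth.Agent.Lib.Helper16.FibreProduct
import Groth.Agent.Lib.Helper16.FppfLocal
import Groth.Prelude.Def_AlgSp3

/-!
# Helper library (helper16): chart diagrams of morphisms of algebraic spaces, cancellation for etale charts
-/

set_option autoImplicit false
universe u
open CategoryTheory CategoryTheory.Limits AlgebraicGeometry Opposite Topology

namespace Groth.Agent.Lib.Helper16

open AlgSp

variable {S : Scheme.{u}}

/-- Cancellation: a morphism between etale charts of a sheaf is etale. -/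
theorem etale_of_etale_charts {X : Sp S} {U V : Over S} (a : (yon S).obj U ⟶ X) (c : (yon S).obj V ⟶ X)
    (ha : RepWith @Etale a) (hc : RepWith @Etale c) (m : U ⟶ V) (hm : (yon S).map m ≫ c = a) :
    Etale m.left := by
  obtain ⟨E, e₁, e₂₀, sq⟩ := hc.rep a
  obtain ⟨e₂, rfl⟩ := (yon S).map_surjective e₂₀
  have he₁ : Etale e₁.left := hc.property _ _ _ sq
  have he₂ : Etale e₂.left := ha.property _ _ _ sq.flip
  obtain ⟨s, hs⟩ := (yon S).map_surjective (sq.lift ((yon S).map m) (𝟙 _) (by rw [hm, Category.id_comp]))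
  have hs1 : s ≫ e₁ = 𝟙 U := by
    apply (yon S).map_injective
    rw [Functor.map_comp, hs, sq.lift_snd, yon_map_id]
  have hs2 : s ≫ e₂ = m := by
    apply (yon S).map_injective
    rw [Functor.map_comp, hs, sq.lift_fst]
  have h1 : Etale (s.left ≫ e₁.left) := by
    rw [← Over.comp_left, hs1, Over.id_left]
    infer_instance
  have hse : Etale s.left := Etale.of_comp s.left e₁.left
  rw [← hs2, Over.comp_left]
  infer_instance

/-- Chart diagrams exist: for `f : X ⟶ Y`, an etale chart `b` of `Y` and an etale chart `a₀` of `X`, the fibre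
product `h_{U₀} ×_Y h_V` is a scheme `U`, etale over `X`, with a morphism to `V` over `f`. -/
theorem exists_chart_diagram {X Y : Sp S} (f : X ⟶ Y) {V U₀ : Over S} (b : (yon S).obj V ⟶ Y)
    (hb : RepWith @Etale b) (a₀ : (yon S).obj U₀ ⟶ X) (ha₀ : RepWith @Etale a₀) :
    ∃ (U : Over S) (h : U ⟶ V) (c : U ⟶ U₀), RepWith @Etale ((yon S).map c ≫ a₀) ∧
      ((yon S).map c ≫ a₀) ≫ f = (yon S).map h ≫ b ∧ Etale c.left ∧
      IsPullback ((yon S).map h) ((yon S).map c) b (a₀ ≫ f) ∧
      (RepWith @Surjective b → RepWith @Surjective a₀ → RepWith @Surjective ((yon S).map c ≫ a₀)) := by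
  obtain ⟨U, c, h₀, sq⟩ := hb.rep (a₀ ≫ f)
  obtain ⟨h, rfl⟩ := (yon S).map_surjective h₀
  have hce : Etale c.left := hb.property _ _ _ sq
  refine ⟨U, h, c, ?_, ?_, hce, sq, ?_⟩
  · exact (RepWith @Etale).comp_mem _ _ ((repWith_yon_map_iff _ _).2 hce) ha₀
  · rw [Category.assoc, sq.w]
  · intro hbs has
    have hcs : Surjective c.left := hbs.property _ _ _ sq
    exact (RepWith @Surjective).comp_mem _ _ ((repWith_yon_map_iff _ _).2 hcs) has

/-- If `f : X ⟶ Y` is locally of finite type (etale locally) and `Y` has an etale surjective chart by a scheme with a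
property `Q` which passes to the source of morphisms locally of finite type, then `X` has such a chart. -/
theorem etaleLocally_of_locP_lft {X Y : Sp S} (hX : IsAlgSpace X) (f : X ⟶ Y) (hf : LocP @LocallyOfFiniteType f)
    (Q : Scheme.{u} → Prop)
    (hQ : ∀ ⦃A B : Scheme.{u}⦄ (g : A ⟶ B), LocallyOfFiniteType g → Q B → Q A)
    (hY : EtaleLocally Q Y) : EtaleLocally Q X := by
  obtain ⟨V, b, hbe, hbs, hV⟩ := hY
  obtain ⟨U₀, a₀, hae, has⟩ := hX.atlas
  obtain ⟨U, h, c, h1, h2, -, -, h3⟩ := exists_chart_diagram f b hbe a₀ hae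
  exact ⟨U, (yon S).map c ≫ a₀, h1, h3 hbs has, hQ h.left (hf _ _ h h1 hbe h2) hV⟩

end Groth.Agent.Lib.Helper16
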