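import Groth.Agent.Lib.Helper16.SmoothEt
import Groth.Agent.Lib.Helper16.LocPSource
import Groth.Agent.Lib.Helper16.ChartDiagram
import Groth.Prelude.Def_AlgSpCov

/-!
# Helper library (helper16): properties smooth local / etale-smooth local on source-and-target
-/

set_option autoImplicit false
universe u
open CategoryTheory CategoryTheory.Limits AlgebraicGeometry Opposite Topology

namespace Groth.Agent.Lib.Helper16

open AlgSp

variable {S : Scheme.{u}}

/-! ### Identities -/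

theorem isEtaleMor_id (X : Sp S) : IsEtaleMor (𝟙 X) := fun U φ hφ => by
  rw [Category.comp_id]; exact hφ

theorem locP_etale_id {X : Sp S} (hX : IsAlgSpace X) : LocP @Etale (𝟙 X) :=
  (isEtaleMor_iff_locP_etale hX _).1 (isEtaleMor_id X)

theorem etale_le_smooth : (@Etale : MorphismProperty Scheme.{u}) ≤ @Smooth :=
  fun X Y f hf => by have : Etale f := hf; infer_instance

theorem locP_smooth_of_isEtaleMor {X Y : Sp S} (hY : IsAlgSpace Y) {f : X ⟶ Y} (hf : IsEtaleMor f) :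
    LocP @Smooth f :=
  locP_mono etale_le_smooth ((isEtaleMor_iff_locP_etale hY f).1 hf)

theorem locP_smooth_id {X : Sp S} (hX : IsAlgSpace X) : LocP @Smooth (𝟙 X) :=
  locP_smooth_of_isEtaleMor hX (isEtaleMor_id X)

theorem isPullback_id_id {X Y : Sp S} (f : X ⟶ Y) : IsPullback (𝟙 X) f f (𝟙 Y) :=
  IsPullback.of_horiz_isIso ⟨by rw [Category.id_comp, Category.comp_id]⟩

/-! ### Cancellation for `LocP` -/

/-- If `p` is etale and `e ≫ p` has `P` then `e` has `P`. -/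
theorem locP_cancel {P : MorphismProperty Scheme.{u}} (hP : EtLocalST P) {X W X' : Sp S}
    (hX : IsAlgSpace X) (hW : IsAlgSpace W) (hX' : IsAlgSpace X')
    (e : X ⟶ W) (p : W ⟶ X') (hp : LocP @Etale p) (h : LocP P (e ≫ p)) : LocP P e := by
  obtain ⟨X'₀, c, hce, hcs⟩ := hX'.atlas
  obtain ⟨W₀, b₀, hb₀e, hb₀s⟩ := hW.atlas
  obtain ⟨U₀, a₀, ha₀e, ha₀s⟩ := hX.atlas
  obtain ⟨W₁, k, cW, hb₁e, hb₁c, -, -, hb₁s⟩ := exists_chart_diagram p c hce b₀ hb₀e
  obtain ⟨U₁, h', cU, ha₁e, ha₁c, -, -, ha₁s⟩ := exists_chart_diagram e _ hb₁e a₀ ha₀e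
  have hk : Etale k.left := hp _ _ k hb₁e hce hb₁c
  have hhk : P (h' ≫ k).left := h _ c (h' ≫ k) ha₁e hce (by
    rw [← Category.assoc, ha₁c, Category.assoc, hb₁c, Functor.map_comp, Category.assoc])
  rw [Over.comp_left] at hhk
  have hh : P h'.left := hP.cancel _ _ hk hhk
  exact locP_of_chart hP e _ _ h' ha₁e (ha₁s (hb₁s hcs hb₀s) ha₀s) hb₁e ha₁c hh

/-- The graph of `f : X ⟶ Y` with respect to an etale `g : Y ⟶ Z` is an etale section of
`X ×_Z Y ⟶ X`. -/
theorem exists_graph {X Y Z : Sp S} (hX : IsAlgSpace X) (hY : IsAlgSpace Y) (hZ : IsAlgSpace Z)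
    (f : X ⟶ Y) (g : Y ⟶ Z) (hg : IsEtaleMor g) :
    ∃ (W : Sp S) (p : W ⟶ X) (q : W ⟶ Y) (e : X ⟶ W), IsAlgSpace W ∧ IsPullback p q (f ≫ g) g ∧
      IsEtaleMor e ∧ e ≫ p = 𝟙 X ∧ e ≫ q = f := by
  have sqW : IsPullback (pullback.fst (f ≫ g) g) (pullback.snd (f ≫ g) g) (f ≫ g) g :=
    IsPullback.of_hasPullback _ _
  have hW : IsAlgSpace (pullback (f ≫ g) g) := isAlgSpace_of_isPullback hX hZ.diag hY sqW
  have hg' : LocP @Etale g := (isEtaleMor_iff_locP_etale hZ g).1 hg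
  have hp : LocP @Etale (pullback.fst (f ≫ g) g) :=
    locP_of_isPullback etLocalST_etale hY hZ sqW.flip hg'
  have hw : 𝟙 X ≫ f ≫ g = f ≫ g := Category.id_comp _
  have he1 : sqW.lift (𝟙 X) f hw ≫ pullback.fst (f ≫ g) g = 𝟙 X := sqW.lift_fst _ _ _
  have he2 : sqW.lift (𝟙 X) f hw ≫ pullback.snd (f ≫ g) g = f := sqW.lift_snd _ _ _
  have he : LocP @Etale (sqW.lift (𝟙 X) f hw) :=
    locP_cancel etLocalST_etale hX hW hX _ _ hp (by rw [he1]; exact locP_etale_id hX)
  exact ⟨_, _, _, _, hW, sqW, (isEtaleMor_iff_locP_etale hW _).2 he, he1, he2⟩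

/-! ### Two-member families -/

/-- The objects of the two-member family `{X, Y}`. -/
def pairObj (X Y : Sp S) : ULift.{u} Bool → Sp S
  | ⟨false⟩ => X
  | ⟨true⟩ => Y

/-- The two-member family `{𝟙 X, g}` of morphisms to `X`. -/
def pairHom {X Y : Sp S} (g : Y ⟶ X) : ∀ i, pairObj X Y i ⟶ X
  | ⟨false⟩ => 𝟙 X
  | ⟨true⟩ => g

/-- The two-member family `{f, f'}` of morphisms. -/
def pairMap {X Y X' Y' : Sp S} (f : X ⟶ Y) (f' : X' ⟶ Y') : ∀ i, pairObj X X' i ⟶ pairObj Y Y' i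
  | ⟨false⟩ => f
  | ⟨true⟩ => f'

theorem pairObj_isAlgSpace {X Y : Sp S} (hX : IsAlgSpace X) (hY : IsAlgSpace Y) :
    ∀ i, IsAlgSpace (pairObj X Y i)
  | ⟨false⟩ => hX
  | ⟨true⟩ => hY

theorem isCover_pair {Q : MorphismProperty (Sp S)} {X Y : Sp S} (g : Y ⟶ X) (hid : Q (𝟙 X)) (hg : Q g) :
    IsCover Q (pairObj X Y) (pairHom g) := by
  refine ⟨?_, fun x => ⟨⟨false⟩, x, Points.map_id x⟩⟩
  rintro ⟨_ | _⟩
  · exact hid
  · exact hg

/-- A property local on the source for `Q`-coverings is stable under precomposition with `Q`. -/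
theorem precomp_of_isLocalOnSource {Q P : MorphismProperty (Sp S)}
    (h1 : IsLocalOnSource (fun _ _ Y g => IsCover Q Y g) P) {X Y Z : Sp S} (hX : IsAlgSpace X)
    (hY : IsAlgSpace Y) (hZ : IsAlgSpace Z) (f : X ⟶ Y) (g : Y ⟶ Z) (hid : Q (𝟙 Y)) (hf : Q f) (hg : P g) :
    P (f ≫ g) :=
  (h1 (pairObj Y X) (pairHom f) hY (pairObj_isAlgSpace hY hX) (isCover_pair f hid hf) g hZ).1 hg ⟨true⟩

/-- A property local on the base for `Q`-coverings is stable under base change along `Q`. -/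
theorem baseChange_of_isLocalOnBase {Q P : MorphismProperty (Sp S)}
    (h2 : IsLocalOnBase (fun _ _ Y g => IsCover Q Y g) P) {X Y X' Y' : Sp S} (hX : IsAlgSpace X)
    (hY : IsAlgSpace Y) (hX' : IsAlgSpace X') (hY' : IsAlgSpace Y') (f : X ⟶ Y) (g : Y' ⟶ Y)
    (f' : X' ⟶ Y') (g' : X' ⟶ X) (sq : IsPullback g' f' f g) (hid : Q (𝟙 Y)) (hg : Q g) (hf : P f) :
    P f' := by
  refine (h2 (pairObj Y Y') (pairHom g) hY (pairObj_isAlgSpace hY hY') (isCover_pair g hid hg) f hX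
    (pairObj X X') (pairMap f f') (pairHom g') (pairObj_isAlgSpace hX hX') ?_).1 hf ⟨true⟩
  rintro ⟨_ | _⟩
  · exact isPullback_id_id f
  · exact sq

/-! ### Smooth local on source-and-target -/

variable {P : MorphismProperty (Sp S)}

theorem IsSmoothLocalST.isLocalOnSource (hP : IsSmoothLocalST P) :
    IsLocalOnSource (IsSmCover (S := S)) P := by
  intro ι X Xi g hX hXi hcov Y f hY
  constructor
  · intro hf i
    exact hP.precomp (hXi i) hX hY (g i) f (hcov.1 i) hf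
  · intro H
    rw [hP.locality hX hY f]
    intro x
    obtain ⟨i, v, hv⟩ := hcov.2 x
    exact ⟨Xi i, Y, g i, 𝟙 Y, g i ≫ f, v, hXi i, hY, hcov.1 i, locP_smooth_id hY,
      by rw [Category.comp_id], hv, H i⟩

theorem IsSmoothLocalST.isLocalOnBase (hP : IsSmoothLocalST P) :
    IsLocalOnBase (IsSmCover (S := S)) P := by
  intro ι Y Yi g hY hYi hcov X f hX Xi p q hXi sq
  constructor
  · intro hf i
    exact hP.baseChange hX hY (hXi i) (hYi i) f (g i) (p i) (q i) (sq i) (hcov.1 i) hf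
  · intro H
    rw [hP.locality hX hY f]
    intro x
    obtain ⟨i, y, hy⟩ := hcov.2 (Points.map f x)
    obtain ⟨z, hz1, -⟩ := exists_point_of_isPullback (sq i) x y hy.symm
    have hq : LocP @Smooth (q i) :=
      locP_of_isPullback etLocalST_smooth (hYi i) hY (sq i).flip (hcov.1 i)
    exact ⟨Xi i, Yi i, q i, g i, p i, z, hXi i, hYi i, hq, hcov.1 i, (sq i).w, hz1, H i⟩

theorem IsSmoothLocalST.postcomp (hP : IsSmoothLocalST P) {X Y Z : Sp S} (hX : IsAlgSpace X)
    (hY : IsAlgSpace Y) (hZ : IsAlgSpace Z) (f : X ⟶ Y) (g : Y ⟶ Z) (hf : P f) (hg : LocP @Smooth g) :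
    P (f ≫ g) := by
  rw [hP.locality hX hZ]
  intro x
  exact ⟨X, Y, 𝟙 X, g, f, x, hX, hY, locP_smooth_id hX, hg, Category.id_comp _, Points.map_id x, hf⟩

/-- Converse: local on the source and on the base for smooth coverings, and stable under
postcomposition with smooth morphisms, implies smooth local on source-and-target. -/
theorem isSmoothLocalST_of (P : MorphismProperty (Sp S))
    (h1 : IsLocalOnSource (IsSmCover (S := S)) P) (h2 : IsLocalOnBase (IsSmCover (S := S)) P)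
    (h3 : ∀ ⦃X Y Z : Sp S⦄, IsAlgSpace X → IsAlgSpace Y → IsAlgSpace Z → ∀ (f : X ⟶ Y) (g : Y ⟶ Z),
      P f → LocP @Smooth g → P (f ≫ g)) : IsSmoothLocalST P where
  precomp := fun X Y Z hX hY hZ f g hf hg =>
    precomp_of_isLocalOnSource h1 hX hY hZ f g (locP_smooth_id hY) hf hg
  baseChange := fun X Y X' Y' hX hY hX' hY' f g f' g' sq hg hf =>
    baseChange_of_isLocalOnBase h2 hX hY hX' hY' f g f' g' sq (locP_smooth_id hY) hg hf
  locality := by
    intro X Y hX hY f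
    constructor
    · intro hf x
      exact ⟨X, Y, 𝟙 X, 𝟙 Y, f, x, hX, hY, locP_smooth_id hX, locP_smooth_id hY,
        by rw [Category.id_comp, Category.comp_id], Points.map_id x, hf⟩
    · intro H
      obtain ⟨U₀, a₀, -, ha₀s⟩ := hX.atlas
      choose U V a b h v hU hV ha hb comm hv hPh using H
      have hcov : IsSmCover (fun u : ↥U₀.left => U (Points.ofPt a₀ u))
          (fun u => a (Points.ofPt a₀ u)) := by
        refine ⟨fun u => ha _, fun x => ?_⟩
        obtain ⟨u, rfl⟩ := ofPt_surjective_of_surjective a₀ ha₀s x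
        exact ⟨u, v _, hv _⟩
      refine (h1 _ _ hX (fun u => hU _) hcov f hY).2 fun u => ?_
      rw [comm]
      exact h3 (hU _) (hV _) hY _ _ (hPh _) (hb _)

/-! ### Etale-smooth local on source-and-target -/

theorem IsEtaleSmoothLocalST.isLocalOnSource (hP : IsEtaleSmoothLocalST P) :
    IsLocalOnSource (IsEtCover (S := S)) P := by
  intro ι X Xi g hX hXi hcov Y f hY
  constructor
  · intro hf i
    exact hP.precomp (hXi i) hX hY (g i) f (hcov.1 i) hf
  · intro H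
    rw [hP.locality hX hY f]
    intro x
    obtain ⟨i, v, hv⟩ := hcov.2 x
    refine ⟨Y, X, Xi i, 𝟙 Y, 𝟙 X, f, g i, v, hY, hX, hXi i, locP_smooth_id hY, isPullback_id_id f,
      hcov.1 i, ?_, H i⟩
    rw [Category.comp_id]; exact hv

theorem IsEtaleSmoothLocalST.isLocalOnBase (hP : IsEtaleSmoothLocalST P) :
    IsLocalOnBase (IsSmCover (S := S)) P := by
  intro ι Y Yi g hY hYi hcov X f hX Xi p q hXi sq
  constructor
  · intro hf i
    exact hP.baseChange hX hY (hXi i) (hYi i) f (g i) (p i) (q i) (sq i) (hcov.1 i) hf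
  · intro H
    rw [hP.locality hX hY f]
    intro x
    obtain ⟨i, y, hy⟩ := hcov.2 (Points.map f x)
    obtain ⟨z, hz1, -⟩ := exists_point_of_isPullback (sq i) x y hy.symm
    refine ⟨Yi i, Xi i, Xi i, g i, q i, p i, 𝟙 _, z, hYi i, hXi i, hXi i, hcov.1 i, sq i,
      isEtaleMor_id _, ?_, ?_⟩
    · rw [Category.id_comp]; exact hz1
    · rw [Category.id_comp]; exact H i

theorem IsEtaleSmoothLocalST.postcomp (hP : IsEtaleSmoothLocalST P) {X Y Z : Sp S} (hX : IsAlgSpace X)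
    (hY : IsAlgSpace Y) (hZ : IsAlgSpace Z) (f : X ⟶ Y) (g : Y ⟶ Z) (hf : P f) (hg : IsEtaleMor g) :
    P (f ≫ g) := by
  obtain ⟨W, p, q, e, hW, sqW, he, he1, he2⟩ := exists_graph hX hY hZ f g hg
  rw [hP.locality hX hZ]
  intro x
  refine ⟨Y, W, X, g, p, q, e, x, hY, hW, hX, locP_smooth_of_isEtaleMor hZ hg, sqW, he, ?_, ?_⟩
  · rw [he1]; exact Points.map_id x
  · rw [he2]; exact hf

theorem IsEtaleSmoothLocalST.of_postcomp (hP : IsEtaleSmoothLocalST P) {X Y Z : Sp S} (hX : IsAlgSpace X)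
    (hY : IsAlgSpace Y) (hZ : IsAlgSpace Z) (f : X ⟶ Y) (g : Y ⟶ Z) (hg : IsEtaleMor g)
    (hfg : P (f ≫ g)) : P f := by
  obtain ⟨W, p, q, e, hW, sqW, he, he1, he2⟩ := exists_graph hX hY hZ f g hg
  have hq : P q := hP.baseChange hX hZ hW hY (f ≫ g) g q p sqW (locP_smooth_of_isEtaleMor hZ hg) hfg
  have := hP.precomp hX hW hY e q he hq
  rwa [he2] at this

end Groth.Agent.Lib.Helper16
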