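import Groth.Agent.Lib.Helper16.FppfLocal

/-!
# Helper library (helper16): `RepWith P` can be checked after a locally surjective base change
-/

set_option autoImplicit false
universe u
open CategoryTheory CategoryTheory.Limits AlgebraicGeometry Opposite Topology

namespace Groth.Agent.Lib.Helper16

open AlgSp

variable {S : Scheme.{u}}

/-- Let `a : F ⟶ G` be representable, `b : H ⟶ G` locally surjective and `a'` the base change of `a` along `b`.
If `a'` is representable with `P` (stable under base change, fppf local on the base), so is `a`. -/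
theorem repWith_of_isLocallySurjective_base {F G H : Sp S} (a : F ⟶ G) (ha : Representable a) (b : H ⟶ G)
    [Sheaf.IsLocallySurjective b] {Q : Sp S} (b' : Q ⟶ F) (a' : Q ⟶ H) (sq : IsPullback b' a' a b)
    (P : MorphismProperty Scheme.{u}) [P.IsStableUnderBaseChange]
    [P.IsLocalAtTarget Scheme.fppfPrecoverage] (h : RepWith P a') : RepWith P a := by
  refine ⟨ha, fun U V g fst snd sq' => ?_⟩
  have hR : Presheaf.imageSieve b.hom ((J S).uliftYonedaEquiv g) ∈ J S U :=
    Presheaf.imageSieve_mem (J S) b.hom (U := op U) ((J S).uliftYonedaEquiv g)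
  refine P_of_sieve snd _ hR ?_
  rintro T' c ⟨t, ht⟩
  -- the lift `h_{T'} ⟶ H`
  let t' : (yon S).obj T' ⟶ H := (J S).uliftYonedaEquiv.symm t
  have ht' : t' ≫ b = (yon S).map c ≫ g := by
    apply (J S).uliftYonedaEquiv.injective
    rw [GrothendieckTopology.uliftYonedaEquiv_comp, Equiv.apply_symm_apply,
      ← GrothendieckTopology.uliftYonedaEquiv_naturality]
    exact ht
  have sq1 := h.rep.isPullback t'
  have hP : P (h.rep.snd t').left := h.property_snd t'
  have sq2 : IsPullback (h.rep.fst t' ≫ b') ((yon S).map (h.rep.snd t')) a ((yon S).map c ≫ g) := by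
    rw [← ht']
    exact sq1.paste_horiz sq
  let α : (yon S).obj (h.rep.pullback t') ⟶ (yon S).obj V :=
    sq'.lift (h.rep.fst t' ≫ b') ((yon S).map (h.rep.snd t') ≫ (yon S).map c)
      (by rw [Category.assoc]; exact sq2.w)
  have sq3 : IsPullback α ((yon S).map (h.rep.snd t')) ((yon S).map snd) ((yon S).map c) := by
    refine IsPullback.of_right ?_ (sq'.lift_snd _ _ _) sq'
    rw [sq'.lift_fst]
    exact sq2
  exact P_pullback_snd_of_repWith snd c α _ sq3 ((repWith_yon_map_iff P _).2 hP)

/-- Monotonicity of `RepWith` in the property. -/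
theorem repWith_mono {P Q : MorphismProperty Scheme.{u}} (h : P ≤ Q) {F G : Sp S} (f : F ⟶ G)
    (hf : RepWith P f) : RepWith Q f :=
  MorphismProperty.relative_monotone (fun _ _ _ hg => h _ hg) _ hf

theorem etale_le_flat : (@Etale : MorphismProperty Scheme.{u}) ≤ @Flat := fun _ _ f hf => by
  have : Etale f := hf
  exact (inferInstance : Flat f)

theorem etale_le_lfp : (@Etale : MorphismProperty Scheme.{u}) ≤ @LocallyOfFinitePresentation :=
  fun _ _ f hf => by
    have : Etale f := hf
    exact (inferInstance : LocallyOfFinitePresentation f)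

/-- A representable etale surjective morphism is locally surjective. -/
theorem isLocallySurjective_of_etale_surjective {F G : Sp S} (q : F ⟶ G) (hqe : RepWith @Etale q)
    (hqs : RepWith @Surjective q) : Sheaf.IsLocallySurjective q :=
  isLocallySurjective_of_repWith_fppf q (repWith_mono etale_le_flat q hqe)
    (repWith_mono etale_le_lfp q hqe) hqs

/-- `RepWith P` for a representable morphism can be checked on the base change to an etale surjective chart. -/
theorem repWith_iff_of_chart {X Y : Sp S} (f : Y ⟶ X) (hf : Representable f) {U V : Over S}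
    (q : (yon S).obj U ⟶ X) (hqe : RepWith @Etale q) (hqs : RepWith @Surjective q)
    (fst : (yon S).obj V ⟶ Y) (g : V ⟶ U) (sq : IsPullback fst ((yon S).map g) f q)
    (P : MorphismProperty Scheme.{u}) [P.IsStableUnderBaseChange]
    [P.IsLocalAtTarget Scheme.fppfPrecoverage] : RepWith P f ↔ P g.left := by
  constructor
  · intro h
    exact h.property q fst g sq
  · intro h
    have : Sheaf.IsLocallySurjective q := isLocallySurjective_of_etale_surjective q hqe hqs
    exact repWith_of_isLocallySurjective_base f hf q fst _ sq P ((repWith_yon_map_iff P _).2 h)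

end Groth.Agent.Lib.Helper16
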