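import Groth.Agent.Lib.Helper16.QuasiCompact
import Groth.Agent.Lib.Helper16.FibreProduct
import Groth.Agent.Lib.Helper16.FppfLocal2
import Groth.Prelude.Def_AlgSp3

/-!
# Helper library (helper16): quasi-compact morphisms of algebraic spaces
-/

set_option autoImplicit false
universe u
open CategoryTheory CategoryTheory.Limits AlgebraicGeometry Opposite Topology

namespace Groth.Agent.Lib.Helper16

open AlgSp

variable {S : Scheme.{u}}

/-- Restriction of a morphism of schemes over `S` to an open of the target. -/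
noncomputable def overRestrict {U V : Over S} (g : V ⟶ U) (W : U.left.Opens) :
    overOpen V (g.left ⁻¹ᵁ W) ⟶ overOpen U W :=
  Over.homMk (g.left ∣_ W) (by
    change (g.left ∣_ W) ≫ W.ι ≫ U.hom = (g.left ⁻¹ᵁ W).ι ≫ V.hom
    rw [← Category.assoc, morphismRestrict_ι, Category.assoc, Over.w g])

theorem isPullback_overRestrict {U V : Over S} (g : V ⟶ U) (W : U.left.Opens) :
    IsPullback (overRestrict g W) (overOpenι V (g.left ⁻¹ᵁ W)) (overOpenι U W) g :=
  IsPullback.of_map (Over.forget S) (Over.OverMorphism.ext (morphismRestrict_ι g.left W))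
    (isPullback_morphismRestrict g.left W)

/-- Restriction of a represented pullback square to an open of the base. -/
theorem isPullback_restrict {F G : Sp S} {f : F ⟶ G} {U V : Over S} {t : (yon S).obj U ⟶ G}
    {fst : (yon S).obj V ⟶ F} {g : V ⟶ U} (sq : IsPullback fst ((yon S).map g) f t) (W : U.left.Opens) :
    IsPullback ((yon S).map (overOpenι V (g.left ⁻¹ᵁ W)) ≫ fst) ((yon S).map (overRestrict g W)) f
      ((yon S).map (overOpenι U W) ≫ t) :=
  (((isPullback_overRestrict g W).map (yon S)).flip).paste_horiz sq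

theorem isQuasiCompactSp_yon_of_compactSpace (T : Over S) [CompactSpace ↥T.left] :
    IsQuasiCompactSp ((yon S).obj T) :=
  ⟨T, 𝟙 _, repWith_id _ T, repWith_id _ T, inferInstance⟩

theorem compactSpace_of_isQuasiCompactSp_yon (T : Over S) (h : IsQuasiCompactSp ((yon S).obj T)) :
    CompactSpace ↥T.left := by
  have := compactSpace_points_of_isQuasiCompactSp h
  exact (Points.schemeHomeo T).symm.compactSpace

/-- The source of a representable quasi-compact morphism to a quasi-compact sheaf is quasi-compact. -/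
theorem isQuasiCompactSp_of_repWith_quasiCompact {Z' Z : Sp S} (π : Z' ⟶ Z) (hπ : RepWith @QuasiCompact π)
    (hZ : IsQuasiCompactSp Z) : IsQuasiCompactSp Z' := by
  obtain ⟨W, q, hqe, hqs, hW⟩ := hZ
  obtain ⟨W', c, fst', sq⟩ := hπ.rep q
  have hc : QuasiCompact c.left := hπ.property _ _ _ sq
  have : CompactSpace ↥W.left := hW
  exact ⟨W', fst', (RepWith @Etale).of_isPullback sq.flip hqe, (RepWith @Surjective).of_isPullback sq.flip hqs,
    QuasiCompact.compactSpace_of_compactSpace c.left⟩

theorem isQuasiCompactMor_of_repWith_quasiCompact {X Y : Sp S} (f : X ⟶ Y) (hf : RepWith @QuasiCompact f) :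
    IsQuasiCompactMor f := by
  intro Z Z' _ hZ g fst snd sq
  exact isQuasiCompactSp_of_repWith_quasiCompact snd ((RepWith @QuasiCompact).of_isPullback sq hf) hZ

theorem repWith_quasiCompact_of_isQuasiCompactMor {X Y : Sp S} (f : X ⟶ Y) (hf : Representable f)
    (h : IsQuasiCompactMor f) : RepWith @QuasiCompact f := by
  refine ⟨hf, fun U V t fst g sq => ?_⟩
  change QuasiCompact g.left
  rw [quasiCompact_iff_forall_isAffineOpen]
  intro W hW
  have hWc : CompactSpace ↥(overOpen U W).left := isCompact_iff_compactSpace.mp hW.isCompact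
  have h1 := h (IsAlgSpace.yon_obj _) (isQuasiCompactSp_yon_of_compactSpace (overOpen U W)) _ _ _
    (isPullback_restrict sq W)
  have h2 : CompactSpace ↥(overOpen V (g.left ⁻¹ᵁ W)).left := compactSpace_of_isQuasiCompactSp_yon _ h1
  exact isCompact_iff_compactSpace.mpr h2

theorem repWith_quasiCompact_iff_isQuasiCompactMor {X Y : Sp S} (f : X ⟶ Y) (hf : Representable f) :
    RepWith @QuasiCompact f ↔ IsQuasiCompactMor f :=
  ⟨isQuasiCompactMor_of_repWith_quasiCompact f, repWith_quasiCompact_of_isQuasiCompactMor f hf⟩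

/-- A finite affine open cover of a quasi-compact scheme. -/
theorem exists_finite_affine_cover (W : Scheme.{u}) [CompactSpace ↥W] :
    ∃ t : Finset W.affineOpens, ∀ w : ↥W, ∃ i ∈ t, w ∈ i.1 := by
  have hcover : (Set.univ : Set ↥W) ⊆ ⋃ i : W.affineOpens, (i.1 : Set ↥W) := by
    intro w _
    obtain ⟨V, hV, hw, -⟩ := (TopologicalSpace.Opens.isBasis_iff_nbhd.mp W.isBasis_affineOpens)
      (show w ∈ (⊤ : W.Opens) from trivial)
    exact Set.mem_iUnion.2 ⟨⟨V, hV⟩, hw⟩
  obtain ⟨t, ht⟩ := isCompact_univ.elim_finite_subcover _ (fun i : W.affineOpens => i.1.isOpen) hcover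
  refine ⟨t, fun w => ?_⟩
  obtain ⟨i, hi⟩ := Set.mem_iUnion.1 (ht (Set.mem_univ w))
  obtain ⟨hit, hw⟩ := Set.mem_iUnion.1 hi
  exact ⟨i, hit, hw⟩

/-- Quasi-compactness of a morphism of algebraic spaces can be tested on affine schemes over the target. -/
theorem isQuasiCompactMor_of_affine {X Y : Sp S} (hX : IsAlgSpace X) (hY : Representable (Limits.diag Y))
    (f : X ⟶ Y)
    (h : ∀ (Z : Over S), IsAffine Z.left → ∀ (g : (yon S).obj Z ⟶ Y) (P : Sp S) (fst : P ⟶ X)
      (snd : P ⟶ (yon S).obj Z), IsPullback fst snd f g → IsQuasiCompactSp P) :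
    IsQuasiCompactMor f := by
  intro Z Z' hZ hZq g fst snd sq
  have hZ' : IsAlgSpace Z' := isAlgSpace_of_isPullback hX hY hZ sq
  obtain ⟨W, q, hqe, hqs, hW⟩ := hZq
  have : CompactSpace ↥W.left := hW
  obtain ⟨t, ht⟩ := exists_finite_affine_cover W.left
  have hcomp : ∀ i : W.left.affineOpens,
      IsCompact (Set.range (Points.map (pullback.fst snd ((yon S).map (overOpenι W i.1) ≫ q)))) := by
    intro i
    have hP := h (overOpen W i.1) i.2 (((yon S).map (overOpenι W i.1) ≫ q) ≫ g) _ _ _
      ((IsPullback.of_hasPullback snd ((yon S).map (overOpenι W i.1) ≫ q)).paste_horiz sq)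
    have := compactSpace_points_of_isQuasiCompactSp hP
    exact isCompact_range (Points.continuous_map _)
  have huniv : (Set.univ : Set (Points Z')) =
      ⋃ i ∈ t, Set.range (Points.map (pullback.fst snd ((yon S).map (overOpenι W i.1) ≫ q))) := by
    apply Set.eq_of_subset_of_subset _ (Set.subset_univ _)
    intro z' _
    obtain ⟨w, hw⟩ := ofPt_surjective_of_surjective q hqs (Points.map snd z')
    obtain ⟨i, hit, hwi⟩ := ht w
    have hw' : Points.map snd z' = Points.map ((yon S).map (overOpenι W i.1) ≫ q)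
        (Points.ofScheme _ (⟨w, hwi⟩ : ↥i.1)) := by
      rw [← Points.ofPt_eq_map_ofScheme, ofPt_restrict, ← hw]
      rfl
    obtain ⟨x, hx1, -⟩ := exists_point_of_isPullback
      (IsPullback.of_hasPullback snd ((yon S).map (overOpenι W i.1) ≫ q)) z' _ hw'
    exact Set.mem_biUnion hit ⟨x, hx1⟩
  have : CompactSpace (Points Z') := by
    constructor
    rw [huniv]
    exact t.isCompact_biUnion fun i _ => hcomp i
  exact isQuasiCompactSp_of_compactSpace hZ'

/-- In a commutative triangle with `f` surjective, quasi-compactness of `f ≫ q` implies that of `q`. -/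
theorem isQuasiCompactMor_of_surjective_comp {X Y Z₀ : Sp S} (hY : IsAlgSpace Y)
    (hZ₀ : Representable (Limits.diag Z₀)) (f : X ⟶ Y) (q : Y ⟶ Z₀) (hf : IsSurjectiveMor f)
    (hp : IsQuasiCompactMor (f ≫ q)) : IsQuasiCompactMor q := by
  intro Z Y' hZ hZq g fstY sndY sqY
  have hY' : IsAlgSpace Y' := isAlgSpace_of_isPullback hY hZ₀ hZ sqY
  have sqX := IsPullback.of_hasPullback (f ≫ q) g
  have hX' : IsQuasiCompactSp (pullback (f ≫ q) g) := hp hZ hZq g _ _ sqX
  have hw : (pullback.fst (f ≫ q) g ≫ f) ≫ q = pullback.snd (f ≫ q) g ≫ g := by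
    rw [Category.assoc, pullback.condition]
  have sqm : IsPullback (sqY.lift (pullback.fst (f ≫ q) g ≫ f) (pullback.snd (f ≫ q) g) hw)
      (pullback.fst (f ≫ q) g) fstY f := by
    refine IsPullback.of_right ?_ (sqY.lift_fst _ _ _) sqY.flip
    rw [sqY.lift_snd]
    exact sqX.flip
  have hsurj : Function.Surjective
      (Points.map (sqY.lift (pullback.fst (f ≫ q) g ≫ f) (pullback.snd (f ≫ q) g) hw)) := by
    intro y'
    obtain ⟨x, hx⟩ := hf (Points.map fstY y')
    obtain ⟨x', hx'1, -⟩ := exists_point_of_isPullback sqm y' x hx.symm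
    exact ⟨x', hx'1⟩
  have := compactSpace_points_of_isQuasiCompactSp hX'
  have : CompactSpace (Points Y') := by
    constructor
    have h1 := isCompact_range (Points.continuous_map
      (sqY.lift (pullback.fst (f ≫ q) g ≫ f) (pullback.snd (f ≫ q) g) hw))
    rwa [hsurj.range_eq] at h1
  exact isQuasiCompactSp_of_compactSpace hY'

end Groth.Agent.Lib.Helper16
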