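import Groth.Agent.Lib.Helper16.FlatSmoothLocal
import Groth.Agent.Lib.Helper9.FppfSource
import Groth.Agent.Lib.Helper16.AlgSt.DiagLft

/-!
# Locally of finite type / presentation are smooth local on source-and-target
-/

set_option autoImplicit false
universe u
open CategoryTheory CategoryTheory.Limits AlgebraicGeometry Opposite Topology MorphismProperty

namespace Groth.Agent.Lib.Helper16

open AlgSp

variable {S : Scheme.{u}}

/-- `P₀` is fppf local on the source, in pointwise form. -/
def FppfSrc (P₀ : MorphismProperty Scheme.{u}) : Prop :=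
  ∀ ⦃A B : Scheme.{u}⦄ (h : A ⟶ B),
    (∀ x : A, ∃ (A' : Scheme.{u}) (e : A' ⟶ A), Flat e ∧ LocallyOfFinitePresentation e ∧
      x ∈ Set.range e ∧ P₀ (e ≫ h)) → P₀ h

theorem fppfSrc_lft : FppfSrc @LocallyOfFiniteType := fun A B h H =>
  Groth.Agent.Lib.Helper9.FppfSource.core' (P := @LocallyOfFiniteType)
    Groth.Agent.Lib.Helper9.FppfSource.ft_source
    (fun φ ψ => Groth.Agent.Lib.Helper9.FppfSource.ft_desc φ ψ) h (fun y => by
      obtain ⟨A', e, he₁, he₂, ⟨x, hx⟩, hP⟩ := H y
      exact ⟨A', e, x, hx, he₁, he₂, hP⟩)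

theorem fppfSrc_lfp : FppfSrc @LocallyOfFinitePresentation := fun A B h H =>
  Groth.Agent.Lib.Helper9.FppfSource.core' (P := @LocallyOfFinitePresentation)
    Groth.Agent.Lib.Helper9.FppfSource.fp_source
    (fun φ ψ => Groth.Agent.Lib.Helper9.FppfSource.fp_desc φ ψ) h (fun y => by
      obtain ⟨A', e, he₁, he₂, ⟨x, hx⟩, hP⟩ := H y
      exact ⟨A', e, x, hx, he₁, he₂, hP⟩)

theorem FppfSrc.of_comp {P₀ : MorphismProperty Scheme.{u}} (hsrc : FppfSrc P₀) {A B C : Scheme.{u}}
    (h : A ⟶ B) (k : B ⟶ C) (h₁ : Surjective h) (h₂ : Flat h)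
    (h₃ : LocallyOfFinitePresentation h) (hk : P₀ (h ≫ k)) : P₀ k :=
  hsrc k (fun y => by
    obtain ⟨x, hx⟩ := h₁.surj y
    exact ⟨A, h, h₂, h₃, ⟨x, hx⟩, hk⟩)

/-- `LocP P₀` is local on the source for smooth coverings, when `P₀` is fppf local on the source. -/
theorem isLocalOnSource_sm_locP_of_fppfSrc {P₀ : MorphismProperty Scheme.{u}} (hP₀ : EtLocalST P₀)
    (hsm : (@Smooth : MorphismProperty Scheme.{u}) ≤ P₀) (hsrc : FppfSrc P₀) :
    IsLocalOnSource (IsSmCover (S := S)) (LocP P₀) := by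
  intro ι X Xi g hX hXi hcov Y f hY
  constructor
  · intro hf i
    exact locP_comp hP₀ (hXi i) hX hY (g i) f (locP_mono hsm (hcov.1 i)) hf
  · intro H U V a b h ha hb comm
    apply hsrc
    intro u
    obtain ⟨i, xi, hxi⟩ := hcov.2 (Points.map a (Points.ofScheme U u))
    have sqQ := IsPullback.of_hasPullback (g i) a
    have hQ : IsAlgSpace (pullback (g i) a) :=
      isAlgSpace_of_isPullback (hXi i) hX.diag (IsAlgSpace.yon_obj U) sqQ
    have hsndF : LocP @Flat (pullback.snd (g i) a) :=
      locP_of_isPullback etLocalST_flat (hXi i) hX sqQ (locP_mono smooth_le_flat' (hcov.1 i))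
    have hsndP : LocP @LocallyOfFinitePresentation (pullback.snd (g i) a) :=
      locP_of_isPullback etLocalST_locallyOfFinitePresentation (hXi i) hX sqQ
        (locP_mono smooth_le_lfp' (hcov.1 i))
    have hfst : RepWith @Etale (pullback.fst (g i) a) := (RepWith @Etale).of_isPullback sqQ.flip ha
    obtain ⟨z, -, hz⟩ := exists_point_of_isPullback sqQ xi (Points.ofScheme U u) hxi
    obtain ⟨U'', a'', ha''e, ha''s⟩ := hQ.atlas
    obtain ⟨u'', hu''⟩ := ofPt_surjective_of_surjective a'' ha''s z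
    obtain ⟨e, he⟩ := (yon S).map_surjective (a'' ≫ pullback.snd (g i) a)
    have hefl : Flat e.left :=
      hsndF a'' (𝟙 _) e ha''e (repWith_id _ U) (by rw [Category.comp_id, he])
    have helfp : LocallyOfFinitePresentation e.left :=
      hsndP a'' (𝟙 _) e ha''e (repWith_id _ U) (by rw [Category.comp_id, he])
    have heu : e.left u'' = u := by
      apply ofScheme_injective U
      rw [← map_yon_map_ofScheme, he, Points.map_comp, ← Points.ofPt_eq_map_ofScheme, hu'', hz]
    have ha''' : RepWith @Etale (a'' ≫ pullback.fst (g i) a) := (RepWith @Etale).comp_mem _ _ ha''e hfst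
    have comm' : (a'' ≫ pullback.fst (g i) a) ≫ g i ≫ f = (yon S).map (e ≫ h) ≫ b := by
      calc (a'' ≫ pullback.fst (g i) a) ≫ g i ≫ f
          = (a'' ≫ pullback.fst (g i) a ≫ g i) ≫ f := by simp only [Category.assoc]
        _ = (a'' ≫ pullback.snd (g i) a ≫ a) ≫ f := by rw [pullback.condition]
        _ = (yon S).map (e ≫ h) ≫ b := by
            rw [← Category.assoc a'', ← he, Category.assoc, comm, Functor.map_comp, Category.assoc]
    exact ⟨U''.left, e.left, hefl, helfp, ⟨u'', heu⟩, H i _ b (e ≫ h) ha''' hb comm'⟩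

theorem isLocalOnBase_sm_locP_of_good {P₀ : MorphismProperty Scheme.{u}}
    (hG : Groth.Agent.Lib.Helper28.AlgSt.PropInst.Good (S := S) (LocP P₀)) :
    IsLocalOnBase (IsSmCover (S := S)) (LocP P₀) := by
  intro ι Y Yi g hY hYi hcov X f hX Xi p q hXi sq
  exact hG.loc Yi g hY hYi
    ⟨fun i => ⟨locP_mono smooth_le_flat' (hcov.1 i), locP_mono smooth_le_lfp' (hcov.1 i)⟩, hcov.2⟩
    f hX Xi p q hXi sq

/-- `LocP P₀` is smooth local on source-and-target when `P₀` is fppf local on the source. -/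
theorem isSmoothLocalST_locP_of_fppfSrc {P₀ : MorphismProperty Scheme.{u}} (hP₀ : EtLocalST P₀)
    (hG : Groth.Agent.Lib.Helper28.AlgSt.PropInst.Good (S := S) (LocP P₀))
    (hsm : (@Smooth : MorphismProperty Scheme.{u}) ≤ P₀) (hsrc : FppfSrc P₀) :
    IsSmoothLocalST (S := S) (LocP P₀) := by
  refine Groth.Agent.S10567.result _ (isLocalOnSource_sm_locP_of_fppfSrc hP₀ hsm hsrc)
    (isLocalOnBase_sm_locP_of_good hG) ?_
  intro X Y Z f g hf hg
  exact locP_comp hP₀ X.property Y.property Z.property f.hom g.hom hf (locP_mono hsm hg)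

theorem smooth_le_lft' : (@Smooth : MorphismProperty Scheme.{u}) ≤ @LocallyOfFiniteType :=
  fun _ _ f hf => by
    haveI : Smooth f := hf
    exact (inferInstance : LocallyOfFiniteType f)

/-- Locally of finite type is smooth local on source-and-target. -/
theorem isSmoothLocalST_locP_lft : IsSmoothLocalST (S := S) (LocP @LocallyOfFiniteType) :=
  isSmoothLocalST_locP_of_fppfSrc etLocalST_locallyOfFiniteType
    Groth.Agent.Lib.Helper16.AlgStDC.good_lft smooth_le_lft' fppfSrc_lft

/-- Locally of finite presentation is smooth local on source-and-target. -/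
theorem isSmoothLocalST_locP_lfp : IsSmoothLocalST (S := S) (LocP @LocallyOfFinitePresentation) :=
  isSmoothLocalST_locP_of_fppfSrc etLocalST_locallyOfFinitePresentation
    Groth.Agent.Lib.Helper28.AlgSt.Descent.good_lfp smooth_le_lfp' fppfSrc_lfp

end Groth.Agent.Lib.Helper16
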