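import Groth.Agent.Lib.Helper16.Rep
import Mathlib.AlgebraicGeometry.Sites.Fpqc

/-!
# Helper library (helper16): `h` sends disjoint open covers to coproducts of fppf sheaves
-/

set_option autoImplicit false
universe u w
open CategoryTheory CategoryTheory.Limits AlgebraicGeometry Opposite

namespace Groth.Agent.Lib.Helper16

open AlgSp

variable {S : Scheme.{u}}

/-- The empty sieve covers a scheme over `S` with empty underlying space. -/
theorem bot_mem_J_of_isEmpty (Z : Over S) [IsEmpty Z.left] : (⊥ : Sieve Z) ∈ J S Z := by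
  rw [J_eq, GrothendieckTopology.mem_over_iff]
  have : Sieve.overEquiv Z ⊥ = ⊥ := by
    ext Y f
    rw [Sieve.overEquiv_iff]
    rfl
  rw [this]
  exact Scheme.bot_mem_grothendieckTopology Z.left

/-- Sections of a sheaf over a scheme with empty underlying space are unique. -/
theorem sections_subsingleton_of_isEmpty (F : Sp S) (Z : Over S) [IsEmpty Z.left] :
    Subsingleton (F.obj.obj (op Z)) := by
  have hF : Presieve.IsSheaf (J S) F.obj := (isSheaf_iff_isSheaf_of_type _ _).1 F.property
  have h := hF _ (bot_mem_J_of_isEmpty Z)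
  refine ⟨fun x y => ?_⟩
  have hsep := h.isSeparatedFor
  exact hsep (fun _ _ hf => False.elim hf) x y (fun _ _ hf => False.elim hf) (fun _ _ hf => False.elim hf)

/-- A jointly surjective family of open immersions generates a covering sieve of the fppf topology over `S`. -/
theorem generate_ofArrows_mem_J_of_open_cover {ι : Type w} {X : Over S} (Xj : ι → Over S) (s : ∀ j, Xj j ⟶ X)
    (hopen : ∀ j, IsOpenImmersion (s j).left) (hsurj : ∀ x : X.left, ∃ j, x ∈ Set.range (s j).left) :
    Sieve.generate (Presieve.ofArrows Xj s) ∈ J S X := by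
  rw [J_eq, GrothendieckTopology.mem_over_iff]
  have hmem : Presieve.ofArrows (fun j => (Xj j).left) (fun j => (s j).left) ∈ Scheme.fppfPrecoverage X.left := by
    rw [Scheme.fppfPrecoverage, Scheme.ofArrows_mem_precoverage_iff]
    exact ⟨hsurj, fun j => ⟨inferInstance, inferInstance⟩⟩
  refine GrothendieckTopology.superset_covering _ ?_ (Precoverage.generate_mem_toGrothendieck hmem)
  rw [Sieve.generate_le_iff]
  rintro _ _ ⟨j⟩
  rw [Sieve.overEquiv_iff]
  refine ⟨Xj j, Over.homMk (𝟙 _) (by simp), s j, ⟨j⟩, ?_⟩
  ext1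
  simp


/-- `h` sends a disjoint open cover to a coproduct of sheaves. -/
theorem isColimit_cofan_yon_of_disjoint_open_cover {ι : Type w} {X : Over S} (Xj : ι → Over S)
    (s : ∀ j, Xj j ⟶ X) (hopen : ∀ j, IsOpenImmersion (s j).left)
    (hsurj : ∀ x : X.left, ∃ j, x ∈ Set.range (s j).left)
    (hdisj : ∀ i j, i ≠ j → Disjoint (Set.range (s i).left) (Set.range (s j).left)) :
    Nonempty (IsColimit (Cofan.mk ((yon S).obj X) (fun j => (yon S).map (s j)))) := by
  have hcov := generate_ofArrows_mem_J_of_open_cover Xj s hopen hsurj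
  have hmono : ∀ j, Mono (s j) := fun j => by
    have : Mono ((Over.forget S).map (s j)) := by
      change Mono (s j).left
      infer_instance
    exact (Over.forget S).mono_of_mono_map this
  have key : ∀ (F : Sp S) (x : ∀ j, (yon S).obj (Xj j) ⟶ F),
      ∃! m : (yon S).obj X ⟶ F, ∀ j, (yon S).map (s j) ≫ m = x j := by
    intro F x
    have hF : Presieve.IsSheaf (J S) F.obj := (isSheaf_iff_isSheaf_of_type _ _).1 F.property
    have hsh : Presieve.IsSheafFor F.obj (Presieve.ofArrows Xj s) :=
      (Presieve.isSheafFor_iff_generate _).2 (hF _ hcov)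
    rw [Presieve.isSheafFor_arrows_iff] at hsh
    obtain ⟨ξ, hξ, hξu⟩ := hsh (fun j => (J S).uliftYonedaEquiv (x j)) (by
      intro i j Z gi gj hg
      by_cases hij : i = j
      · subst hij
        rw [(cancel_mono (s i)).1 hg]
      · have : IsEmpty Z.left := ⟨fun z => by
          have h1 : (s i).left (gi.left z) = (s j).left (gj.left z) := by
            have := congrArg (fun f => f.left z) hg
            simpa using this
          exact (Set.disjoint_iff.1 (hdisj i j hij)) ⟨⟨_, rfl⟩, ⟨_, h1.symm⟩⟩⟩
        exact (sections_subsingleton_of_isEmpty F Z).elim _ _)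
    refine ⟨(J S).uliftYonedaEquiv.symm ξ, fun j => ?_, fun m hm => ?_⟩
    · apply (J S).uliftYonedaEquiv.injective
      rw [← hξ j, ← GrothendieckTopology.uliftYonedaEquiv_naturality, Equiv.apply_symm_apply]
    · apply (J S).uliftYonedaEquiv.injective
      rw [Equiv.apply_symm_apply]
      apply hξu
      intro j
      rw [GrothendieckTopology.uliftYonedaEquiv_naturality, hm j]
  refine ⟨Cofan.IsColimit.mk _ (fun t => (key t.pt t.inj).exists.choose)
    (fun t j => (key t.pt t.inj).exists.choose_spec j)
    (fun t m hm => (key t.pt t.inj).unique hm (key t.pt t.inj).exists.choose_spec)⟩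

end Groth.Agent.Lib.Helper16
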