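import Mathlib.AlgebraicGeometry.Morphisms.Etale
import Mathlib.AlgebraicGeometry.Morphisms.FlatDescent
import Mathlib.AlgebraicGeometry.Morphisms.LocalFlatDescent
import Mathlib.AlgebraicGeometry.Morphisms.QuasiFinite
import Mathlib.AlgebraicGeometry.Morphisms.UniversallyOpen
import Groth.Agent.Lib.Helper3.FlatDescent
import Mathlib.RingTheory.Smooth.NoetherianDescent
import Mathlib.RingTheory.RingHom.Etale
import Mathlib.RingTheory.RingHom.FinitePresentation
import Mathlib.RingTheory.Unramified.LocalStructure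

/-!
# Helper library (helper16): properties of morphisms of schemes that are etale local on the source and target
-/

set_option autoImplicit false
universe u
open CategoryTheory CategoryTheory.Limits AlgebraicGeometry Opposite Topology MorphismProperty

namespace Groth.Agent.Lib.Helper16

/-- Every point of the source has an etale neighbourhood on which `h` has `P`. -/
def HasEtCover (P : MorphismProperty Scheme.{u}) {A B : Scheme.{u}} (h : A ⟶ B) : Prop :=
  ∀ x : A, ∃ (A' : Scheme.{u}) (e : A' ⟶ A), Etale e ∧ x ∈ Set.range e ∧ P (e ≫ h)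

/-- `P` is etale local on the source and target (in a form convenient for `AlgSp.LocP`). -/
structure EtLocalST (P : MorphismProperty Scheme.{u}) : Prop where
  baseChange : P.IsStableUnderBaseChange
  mult : P.IsMultiplicative
  etale_le : @Etale ≤ P
  ofCover : ∀ ⦃A B : Scheme.{u}⦄ (h : A ⟶ B), HasEtCover P h → P h

namespace EtLocalST

variable {P : MorphismProperty Scheme.{u}} (hP : EtLocalST P)
include hP

theorem respectsIso : P.RespectsIso :=
  have := hP.baseChange
  MorphismProperty.IsStableUnderBaseChange.respectsIso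

theorem precomp {A B C : Scheme.{u}} (e : A ⟶ B) (h : B ⟶ C) (he : Etale e) (hh : P h) : P (e ≫ h) :=
  have := hP.mult
  P.comp_mem _ _ (hP.etale_le _ _ _ he) hh

theorem postcomp {A B C : Scheme.{u}} (h : A ⟶ B) (e : B ⟶ C) (he : Etale e) (hh : P h) : P (h ≫ e) :=
  have := hP.mult
  P.comp_mem _ _ hh (hP.etale_le _ _ _ he)

theorem cancel {A B C : Scheme.{u}} (h : A ⟶ B) (e : B ⟶ C) (he : Etale e) (H : P (h ≫ e)) : P h := by
  have := hP.baseChange
  have := hP.mult
  have : P.HasOfPostcompProperty @Etale := by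
    rw [MorphismProperty.hasOfPostcompProperty_iff_le_diagonal]
    intro X Y f hf
    have : Etale f := hf
    exact hP.etale_le _ _ _ (inferInstanceAs (Etale (pullback.diagonal f)))
  exact P.of_postcomp h e he H

theorem ofCover' {A' A B : Scheme.{u}} (e : A' ⟶ A) (h : A ⟶ B) (he : Etale e) (hs : Surjective e)
    (H : P (e ≫ h)) : P h :=
  hP.ofCover h fun x => ⟨A', e, he, hs.surj x, H⟩

theorem of_isPullback {A B A' B' : Scheme.{u}} {fst : A' ⟶ A} {snd : A' ⟶ B'} {f : A ⟶ B} {g : B' ⟶ B}
    (sq : IsPullback fst snd f g) (hf : P f) : P snd :=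
  have := hP.baseChange
  P.of_isPullback sq hf

end EtLocalST

/-- A property of ring maps descends along etale faithfully flat extensions of the target. -/
def RingHomEtDescends (Q : ∀ {R S : Type u} [CommRing R] [CommRing S], (R →+* S) → Prop) : Prop :=
  ∀ {C R R' : Type u} [CommRing C] [CommRing R] [CommRing R'] (f : C →+* R) (g : R →+* R'),
    g.Etale → g.FaithfullyFlat → Q (g.comp f) → Q f

theorem ofCover_affine {P : MorphismProperty Scheme.{u}}
    {Q : ∀ {R S : Type u} [CommRing R] [CommRing S], (R →+* S) → Prop} [HasRingHomProperty P Q]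
    (hQ : RingHomEtDescends Q) {A' A B : Scheme.{u}} [IsAffine A'] [IsAffine A] [IsAffine B]
    (e : A' ⟶ A) (h : A ⟶ B) [Etale e] [Surjective e] (H : P (e ≫ h)) : P h := by
  rw [HasRingHomProperty.iff_of_isAffine (P := P)] at H ⊢
  have he : e.appTop.hom.Etale := (HasRingHomProperty.iff_of_isAffine (P := @Etale)).1 inferInstance
  have hff : e.appTop.hom.FaithfullyFlat := by
    rw [← flat_and_surjective_SpecMap_iff]
    constructor
    · exact (MorphismProperty.arrow_mk_iso_iff @Flat (arrowIsoSpecΓOfIsAffine e)).1 inferInstance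
    · exact (MorphismProperty.arrow_mk_iso_iff @Surjective (arrowIsoSpecΓOfIsAffine e)).1 inferInstance
  exact hQ h.appTop.hom e.appTop.hom he hff H

theorem of_hasEtCover {P : MorphismProperty Scheme.{u}}
    {Q : ∀ {R S : Type u} [CommRing R] [CommRing S], (R →+* S) → Prop} [HasRingHomProperty P Q]
    [P.RespectsRight @IsOpenImmersion]
    (hQ : RingHomEtDescends Q) {A B : Scheme.{u}} (h : A ⟶ B) (H : HasEtCover P h) : P h := by
  rw [IsZariskiLocalAtSource.iff_exists_resLE (P := P)]
  intro x
  obtain ⟨A', e, he, ⟨x', rfl⟩, hP⟩ := H x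
  obtain ⟨_, ⟨UB, hUB, rfl⟩, hxUB, -⟩ :=
    B.isBasis_affineOpens.exists_subset_of_mem_open (Set.mem_univ (h (e x'))) isOpen_univ
  obtain ⟨_, ⟨V, hV, rfl⟩, hxV, hVU⟩ :=
    A.isBasis_affineOpens.exists_subset_of_mem_open hxUB (UB.2.preimage h.continuous)
  obtain ⟨_, ⟨V', hV', rfl⟩, hxV', hV'V⟩ :=
    A'.isBasis_affineOpens.exists_subset_of_mem_open hxV (V.2.preimage e.continuous)
  let W : A.Opens := ⟨e '' V', e.isOpenMap _ V'.2⟩
  obtain ⟨r, hrW, hxr⟩ := hV.exists_basicOpen_le (V := W) ⟨e x', ⟨x', hxV', rfl⟩⟩ hxV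
  have hV₁ : IsAffineOpen (A.basicOpen r) := hV.basicOpen r
  have hV'₁ : IsAffineOpen (A'.basicOpen (e.appLE V V' hV'V r)) := hV'.basicOpen _
  have hle₁ : A'.basicOpen (e.appLE V V' hV'V r) ≤ e ⁻¹ᵁ (A.basicOpen r) := by
    rw [Scheme.basicOpen_appLE]; exact inf_le_right
  have hle₂ : A.basicOpen r ≤ h ⁻¹ᵁ UB := (A.basicOpen_le r).trans hVU
  refine ⟨UB, A.basicOpen r, hxr, hle₂, ?_⟩
  have : IsAffine (A.basicOpen r).toScheme := hV₁
  have : IsAffine (A'.basicOpen (e.appLE V V' hV'V r)).toScheme := hV'₁
  have : IsAffine (Scheme.Opens.toScheme (X := B) UB) := hUB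
  have hsurj : Surjective (e.resLE (A.basicOpen r) (A'.basicOpen (e.appLE V V' hV'V r)) hle₁) := by
    refine ⟨fun y => ?_⟩
    obtain ⟨z, hzV', hz⟩ := hrW y.2
    have hz' : z ∈ A'.basicOpen (e.appLE V V' hV'V r) := by
      rw [Scheme.basicOpen_appLE]
      refine ⟨hzV', ?_⟩
      change e z ∈ A.basicOpen r
      rw [hz]; exact y.2
    refine ⟨⟨z, hz'⟩, Subtype.ext ?_⟩
    rw [Scheme.Hom.coe_resLE_apply]
    exact hz
  refine ofCover_affine hQ (e.resLE (A.basicOpen r) (A'.basicOpen (e.appLE V V' hV'V r)) hle₁)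
    (h.resLE UB (A.basicOpen r) hle₂) ?_
  rw [Scheme.Hom.resLE_comp_resLE]
  exact IsZariskiLocalAtSource.resLE _ hP


/-! ### Descent along a flat locally finitely presented morphism covering the image -/

theorem isPullback_of_comp_mono {C : Type*} [Category C] {P X Y Z Z' : C} {fst : P ⟶ X} {snd : P ⟶ Y}
    {f : X ⟶ Z} {g : Y ⟶ Z} (i : Z ⟶ Z') [Mono i] (sq : IsPullback fst snd (f ≫ i) (g ≫ i)) :
    IsPullback fst snd f g := by
  have w : fst ≫ f = snd ≫ g := by
    rw [← cancel_mono i, Category.assoc, Category.assoc, sq.w]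
  refine ⟨⟨w⟩, ⟨PullbackCone.IsLimit.mk w
    (fun s => sq.lift s.fst s.snd (by rw [← Category.assoc, s.condition, Category.assoc]))
    (fun s => sq.lift_fst _ _ _) (fun s => sq.lift_snd _ _ _) ?_⟩⟩
  intro s m h1 h2
  exact sq.hom_ext (by rw [h1, sq.lift_fst]) (by rw [h2, sq.lift_snd])

/-- Descent of `P` along a flat, locally finitely presented morphism `π` whose image contains the image of
`φ`. -/
theorem descends_of_range_subset {P : MorphismProperty Scheme.{u}}
    [P.DescendsAlong (@Surjective ⊓ @Flat ⊓ @LocallyOfFinitePresentation)]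
    [P.RespectsRight @IsOpenImmersion] {X X' Z Z' : Scheme.{u}} {fst : X' ⟶ X} {snd : X' ⟶ Z'}
    {φ : X ⟶ Z} {π : Z' ⟶ Z} [Flat π] [LocallyOfFinitePresentation π] (sq : IsPullback fst snd φ π)
    (hfst : Function.Surjective fst) (h : P snd) : P φ := by
  let U : Z.Opens := ⟨Set.range π, π.isOpenMap.isOpen_range⟩
  have hπ : Set.range π ⊆ Set.range U.ι := by
    rw [Scheme.Opens.range_ι]; exact subset_rfl
  have hφ : Set.range φ ⊆ Set.range U.ι := by
    rw [Scheme.Opens.range_ι]
    rintro _ ⟨x, rfl⟩
    obtain ⟨x', rfl⟩ := hfst x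
    refine ⟨snd x', ?_⟩
    rw [← Scheme.Hom.comp_apply, ← sq.w, Scheme.Hom.comp_apply]
  have sq' : IsPullback fst snd (IsOpenImmersion.lift U.ι φ hφ) (IsOpenImmersion.lift U.ι π hπ) := by
    apply isPullback_of_comp_mono U.ι
    rw [IsOpenImmersion.lift_fac, IsOpenImmersion.lift_fac]
    exact sq
  have h1 : Surjective (IsOpenImmersion.lift U.ι π hπ) := by
    refine ⟨fun z => ?_⟩
    obtain ⟨z', hz'⟩ := z.2
    refine ⟨z', Subtype.ext ?_⟩
    have := congrArg (fun k => k.base z') (IsOpenImmersion.lift_fac U.ι π hπ)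
    simp only [Scheme.Hom.comp_base, TopCat.hom_comp, ContinuousMap.comp_apply] at this
    exact this.trans hz'
  have h2 : Flat (IsOpenImmersion.lift U.ι π hπ) :=
    MorphismProperty.of_postcomp (W := @Flat) (W' := MorphismProperty.monomorphisms Scheme.{u}) _ U.ι
      (inferInstanceAs (Mono U.ι)) (by rw [IsOpenImmersion.lift_fac]; infer_instance)
  have h3 : LocallyOfFinitePresentation (IsOpenImmersion.lift U.ι π hπ) :=
    MorphismProperty.of_postcomp (W := @LocallyOfFinitePresentation)
      (W' := MorphismProperty.monomorphisms Scheme.{u}) _ U.ι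
      (inferInstanceAs (Mono U.ι)) (by rw [IsOpenImmersion.lift_fac]; infer_instance)
  have h4 : P (IsOpenImmersion.lift U.ι φ hφ) :=
    MorphismProperty.of_isPullback_of_descendsAlong
      (Q := @Surjective ⊓ @Flat ⊓ @LocallyOfFinitePresentation) sq'.flip ⟨⟨h1, h2⟩, h3⟩ h
  rw [← IsOpenImmersion.lift_fac U.ι φ hφ]
  exact MorphismProperty.RespectsRight.postcomp (Q := @IsOpenImmersion) _ inferInstance _ h4

/-! ### Ring level: formally unramified -/

open TensorProduct in
theorem formallyUnramified_etDescends : RingHomEtDescends.{u} RingHom.FormallyUnramified := by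
  intro C R R' _ _ _ f g hg hff H
  algebraize [f, g, g.comp f]
  have e := KaehlerDifferential.tensorKaehlerEquivOfFormallyEtale C R R'
  have h1 : Subsingleton (R' ⊗[R] Ω[R⁄C]) := e.toEquiv.injective.subsingleton
  have h2 : Subsingleton Ω[R⁄C] := Module.FaithfullyFlat.lTensor_reflects_triviality R R' _
  exact ⟨h2⟩

/-! ### Flatness is local on the source for flat coverings -/

theorem flat_of_flat_cover {A B : Scheme.{u}} (h : A ⟶ B)
    (H : ∀ x : A, ∃ (A' : Scheme.{u}) (e : A' ⟶ A), Flat e ∧ x ∈ Set.range e ∧ Flat (e ≫ h)) : Flat h := by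
  apply Flat.of_stalkMap
  intro y
  obtain ⟨A', e, he, ⟨x, rfl⟩, heh⟩ := H y
  have hcomp := Scheme.Hom.stalkMap_comp e h x
  have h1 : ((e ≫ h).stalkMap x).hom.Flat := Flat.stalkMap (e ≫ h) x
  have h2 : (e.stalkMap x).hom.Flat := Flat.stalkMap e x
  rw [hcomp] at h1
  exact Groth.Agent.Lib.Helper3.ringHom_flat_of_comp_of_faithfullyFlat _ _ h2 h1


/-! ### Ring level: finite type and finite presentation, via Noetherian models of etale algebras -/

open TensorProduct in
theorem etDescends_of_model {P : MorphismProperty Scheme.{u}}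
    {Q : ∀ {R S : Type u} [CommRing R] [CommRing S], (R →+* S) → Prop} [HasRingHomProperty P Q]
    [P.DescendsAlong (@Surjective ⊓ @Flat ⊓ @LocallyOfFinitePresentation)]
    [P.RespectsRight @IsOpenImmersion]
    (hcomp : RingHom.StableUnderComposition @Q)
    (hfp : ∀ {R S : Type u} [CommRing R] [CommRing S] (f : R →+* S), f.FinitePresentation → Q f)
    (hcancel : ∀ {R S T : Type u} [CommRing R] [CommRing S] [CommRing T] (f : R →+* S) (g : S →+* T),
      f.FiniteType → Q (g.comp f) → Q g) : RingHomEtDescends @Q := by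
  intro C R R' _ _ _ f g hg hff H
  algebraize [g]
  obtain ⟨A₀, B₀, _, _, hfg, hét, ⟨e⟩⟩ := Algebra.Etale.exists_subalgebra_fg ℤ R R'
  -- the objects and morphisms in `CommRingCat`
  let ι : CommRingCat.of A₀ ⟶ CommRingCat.of R := CommRingCat.ofHom (algebraMap A₀ R)
  let β : CommRingCat.of A₀ ⟶ CommRingCat.of B₀ := CommRingCat.ofHom (algebraMap A₀ B₀)
  let gC : CommRingCat.of R ⟶ CommRingCat.of R' := CommRingCat.ofHom g
  let fC : CommRingCat.of C ⟶ CommRingCat.of R := CommRingCat.ofHom f
  let γ : CommRingCat.of B₀ ⟶ CommRingCat.of R' := CommRingCat.ofHom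
    ((e.symm : R ⊗[A₀] B₀ →+* R').comp (Algebra.TensorProduct.includeRight : B₀ →ₐ[A₀] R ⊗[A₀] B₀).toRingHom)
  have hpo : IsPushout ι β gC γ := by
    refine (CommRingCat.isPushout_tensorProduct A₀ R B₀).of_iso (Iso.refl _) (Iso.refl _) (Iso.refl _)
      e.symm.toRingEquiv.toCommRingCatIso (by simp [ι]) (by simp [β]) ?_ ?_
    · ext r
      change e.symm (r ⊗ₜ[A₀] (1 : B₀)) = g r
      have : (r ⊗ₜ[A₀] (1 : B₀)) = algebraMap R (R ⊗[A₀] B₀) r := by
        rw [Algebra.TensorProduct.algebraMap_apply]; rfl
      rw [this, AlgEquiv.commutes, RingHom.algebraMap_toAlgebra]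
    · ext b
      rfl
  -- the finitely presented `C`-algebra `T = C ⊗_ℤ A₀`
  let Z₀ : CommRingCat.{u} := CommRingCat.of (ULift.{u} ℤ)
  let zC : Z₀ ⟶ CommRingCat.of C := CommRingCat.isInitial.to _
  let zA : Z₀ ⟶ CommRingCat.of A₀ := CommRingCat.isInitial.to _
  have hzA : zA.hom.FinitePresentation := by
    have : IsNoetherianRing (ULift.{u} ℤ) := isNoetherianRing_of_ringEquiv ℤ ULift.ringEquiv.symm
    have h1 : Algebra.FiniteType ℤ A₀ := (Subalgebra.fg_iff_finiteType A₀).1 hfg
    have h1' : (zA.hom.comp (ULift.ringEquiv.symm : ℤ ≃+* ULift.{u} ℤ).toRingHom).FiniteType := by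
      have h0 : zA.hom.comp (ULift.ringEquiv.symm : ℤ ≃+* ULift.{u} ℤ).toRingHom = algebraMap ℤ A₀ :=
        Subsingleton.elim _ _
      rw [h0]; exact RingHom.finiteType_algebraMap.2 h1
    exact RingHom.FinitePresentation.of_finiteType.1 (RingHom.FiniteType.of_comp_finiteType h1')
  let inlT := pushout.inl zC zA
  let inrT := pushout.inr zC zA
  have hinlT : inlT.hom.FinitePresentation :=
    RingHom.finitePresentation_isStableUnderBaseChange.pushout_inl RingHom.finitePresentation_respectsIso
      zC zA hzA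
  let ψ : pushout zC zA ⟶ CommRingCat.of R := pushout.desc fC ι (CommRingCat.isInitial.hom_ext _ _)
  have hψ₁ : inlT ≫ ψ = fC := pushout.inl_desc _ _ _
  have hψ₂ : inrT ≫ ψ = ι := pushout.inr_desc _ _ _
  -- the etale `T`-algebra `T' = T ⊗_{A₀} B₀`
  let τ := pushout.inl inrT β
  let inr' := pushout.inr inrT β
  have hβ : β.hom.Etale := RingHom.etale_algebraMap.2 hét
  have hτ : τ.hom.Etale :=
    RingHom.Etale.isStableUnderBaseChange.pushout_inl RingHom.Etale.respectsIso inrT β hβ
  let γ' : pushout inrT β ⟶ CommRingCat.of R' := pushout.desc (ψ ≫ gC) γ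
    (by rw [← Category.assoc, hψ₂]; exact hpo.w)
  have hγ'₁ : τ ≫ γ' = ψ ≫ gC := pushout.inl_desc _ _ _
  have hγ'₂ : inr' ≫ γ' = γ := pushout.inr_desc _ _ _
  have hright : IsPushout ψ τ gC γ' := by
    refine IsPushout.of_left ?_ hγ'₁.symm (IsPushout.of_hasPushout inrT β)
    rw [hψ₂, hγ'₂]
    exact hpo
  have sqS : IsPullback (Spec.map gC) (Spec.map γ') (Spec.map ψ) (Spec.map τ) :=
    isPullback_SpecMap_of_isPushout ψ τ gC γ' hright
  have hEt : Etale (Spec.map τ) := (HasRingHomProperty.Spec_iff (P := @Etale)).2 hτ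
  have hsurj : Surjective (Spec.map gC) := ((flat_and_surjective_SpecMap_iff gC).2 hff).2
  -- `Q` for `T' ⟶ R'`
  have hγ'Q : Q γ'.hom := by
    refine hcancel (inlT ≫ τ).hom γ'.hom ?_ ?_
    · have hτ' : τ.hom.FinitePresentation := hτ.finitePresentation
      exact RingHom.FiniteType.of_finitePresentation (RingHom.FinitePresentation.comp hτ' hinlT)
    · have : (inlT ≫ τ) ≫ γ' = fC ≫ gC := by rw [Category.assoc, hγ'₁, ← Category.assoc, hψ₁]
      have h3 : γ'.hom.comp (inlT ≫ τ).hom = g.comp f := congrArg CommRingCat.Hom.hom this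
      rw [h3]; exact H
  have hψP : P (Spec.map ψ) :=
    descends_of_range_subset sqS hsurj.surj ((HasRingHomProperty.Spec_iff (P := P)).2 hγ'Q)
  have hψQ : Q ψ.hom := (HasRingHomProperty.Spec_iff (P := P)).1 hψP
  have h4 : f = ψ.hom.comp inlT.hom := (congrArg CommRingCat.Hom.hom hψ₁).symm
  rw [h4]
  exact hcomp _ _ (hfp _ hinlT) hψQ


/-! ### The instances -/

theorem respectsRight_isOpenImmersion_of (P : MorphismProperty Scheme.{u}) [P.IsStableUnderComposition]
    (h : ∀ {X Y : Scheme.{u}} (f : X ⟶ Y) [IsOpenImmersion f], P f) : P.RespectsRight @IsOpenImmersion :=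
  ⟨fun i hi f hf => P.comp_mem f i hf (@h _ _ i hi)⟩

set_option backward.isDefEq.respectTransparency.types false in
theorem finiteType_etDescends : RingHomEtDescends.{u} @RingHom.FiniteType := by
  have : MorphismProperty.RespectsRight @LocallyOfFiniteType @IsOpenImmersion :=
    respectsRight_isOpenImmersion_of @LocallyOfFiniteType fun f _ => inferInstance
  exact @etDescends_of_model.{u} @LocallyOfFiniteType
    (fun {R S} [CommRing R] [CommRing S] f => RingHom.FiniteType f) inferInstance inferInstance this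
    RingHom.finiteType_stableUnderComposition
    (fun {R S} _ _ f hf => RingHom.FiniteType.of_finitePresentation hf)
    (fun {R S T} _ _ _ f g _ h => RingHom.FiniteType.of_comp_finiteType h)

set_option backward.isDefEq.respectTransparency.types false in
theorem finitePresentation_etDescends : RingHomEtDescends.{u} @RingHom.FinitePresentation := by
  have : MorphismProperty.RespectsRight @LocallyOfFinitePresentation @IsOpenImmersion :=
    respectsRight_isOpenImmersion_of @LocallyOfFinitePresentation fun f _ => inferInstance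
  exact @etDescends_of_model.{u} @LocallyOfFinitePresentation
    (fun {R S} [CommRing R] [CommRing S] f => RingHom.FinitePresentation f) inferInstance inferInstance this
    RingHom.finitePresentation_stableUnderComposition
    (fun {R S} _ _ f hf => hf)
    (fun {R S T} _ _ _ f g hf h => RingHom.FinitePresentation.of_comp_finiteType f h hf)

theorem etLocalST_locallyOfFiniteType : EtLocalST @LocallyOfFiniteType where
  baseChange := inferInstance
  mult := inferInstance
  etale_le := fun X Y f hf => by have : Etale f := hf; infer_instance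
  ofCover := fun A B h H => by
    have : MorphismProperty.RespectsRight @LocallyOfFiniteType @IsOpenImmersion :=
      respectsRight_isOpenImmersion_of @LocallyOfFiniteType fun f _ => inferInstance
    exact of_hasEtCover finiteType_etDescends h H

theorem etLocalST_locallyOfFinitePresentation : EtLocalST @LocallyOfFinitePresentation where
  baseChange := inferInstance
  mult := by
    have : MorphismProperty.ContainsIdentities @LocallyOfFinitePresentation := ⟨fun X => inferInstance⟩
    exact {}
  etale_le := fun X Y f hf => by have : Etale f := hf; infer_instance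
  ofCover := fun A B h H => by
    have : MorphismProperty.RespectsRight @LocallyOfFinitePresentation @IsOpenImmersion :=
      respectsRight_isOpenImmersion_of @LocallyOfFinitePresentation fun f _ => inferInstance
    exact of_hasEtCover finitePresentation_etDescends h H

theorem etLocalST_flat : EtLocalST @Flat where
  baseChange := inferInstance
  mult := inferInstance
  etale_le := fun X Y f hf => by have : Etale f := hf; infer_instance
  ofCover := fun A B h H => flat_of_flat_cover h fun x => by
    obtain ⟨A', e, he, hx, hf⟩ := H x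
    exact ⟨A', e, inferInstance, hx, hf⟩

theorem formallyUnramified_of_hasEtCover {A B : Scheme.{u}} (h : A ⟶ B)
    (H : HasEtCover @FormallyUnramified h) : FormallyUnramified h := by
  have : MorphismProperty.RespectsRight @FormallyUnramified @IsOpenImmersion :=
    respectsRight_isOpenImmersion_of @FormallyUnramified fun f _ => inferInstance
  exact of_hasEtCover formallyUnramified_etDescends h H

theorem EtLocalST.inf {P Q : MorphismProperty Scheme.{u}} (hP : EtLocalST P) (hQ : EtLocalST Q) :
    EtLocalST (P ⊓ Q) where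
  baseChange := by have := hP.baseChange; have := hQ.baseChange; infer_instance
  mult := by have := hP.mult; have := hQ.mult; infer_instance
  etale_le := fun X Y f hf => ⟨hP.etale_le _ _ _ hf, hQ.etale_le _ _ _ hf⟩
  ofCover := fun A B h H => ⟨hP.ofCover h fun x => by
      obtain ⟨A', e, he, hx, hf⟩ := H x
      exact ⟨A', e, he, hx, hf.1⟩, hQ.ofCover h fun x => by
      obtain ⟨A', e, he, hx, hf⟩ := H x
      exact ⟨A', e, he, hx, hf.2⟩⟩

theorem EtLocalST.of_eq {P Q : MorphismProperty Scheme.{u}} (hP : EtLocalST P)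
    (h : ∀ ⦃A B : Scheme.{u}⦄ (g : A ⟶ B), Q g ↔ P g) : EtLocalST Q := by
  have : Q = P := by ext A B g; exact h g
  rw [this]; exact hP

theorem etLocalST_unramified : EtLocalST (@LocallyOfFiniteType ⊓ @FormallyUnramified) where
  baseChange := inferInstance
  mult := inferInstance
  etale_le := fun X Y f hf => by have : Etale f := hf; exact ⟨inferInstance, inferInstance⟩
  ofCover := fun A B h H => ⟨etLocalST_locallyOfFiniteType.ofCover h fun x => by
      obtain ⟨A', e, he, hx, hf⟩ := H x
      exact ⟨A', e, he, hx, hf.1⟩, formallyUnramified_of_hasEtCover h fun x => by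
      obtain ⟨A', e, he, hx, hf⟩ := H x
      exact ⟨A', e, he, hx, hf.2⟩⟩

theorem etLocalST_etale : EtLocalST @Etale where
  baseChange := inferInstance
  mult := inferInstance
  etale_le := le_rfl
  ofCover := fun A B h H => by
    rw [Etale.iff_flat_and_formallyUnramified]
    refine ⟨etLocalST_flat.ofCover h fun x => ?_, formallyUnramified_of_hasEtCover h fun x => ?_,
      etLocalST_locallyOfFinitePresentation.ofCover h fun x => ?_⟩
    all_goals
      obtain ⟨A', e, he, hx, hf⟩ := H x
      have : Etale (e ≫ h) := hf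
      exact ⟨A', e, he, hx, inferInstance⟩

theorem locallyQuasiFinite_of_unramified {X Y : Scheme.{u}} (f : X ⟶ Y) [LocallyOfFiniteType f]
    [FormallyUnramified f] : LocallyQuasiFinite f := by
  rw [HasRingHomProperty.iff_appLE (P := @LocallyQuasiFinite)]
  intro U V e
  have h1 := HasRingHomProperty.appLE (P := @LocallyOfFiniteType) f inferInstance U V e
  have h2 := HasRingHomProperty.appLE (P := @FormallyUnramified) f inferInstance U V e
  algebraize [(f.appLE U V e).hom]
  change Algebra.QuasiFinite _ _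
  infer_instance

theorem locallyQuasiFinite_of_hasEtCover {A B : Scheme.{u}} (h : A ⟶ B) [LocallyOfFiniteType h]
    (H : HasEtCover (@LocallyQuasiFinite ⊓ @LocallyOfFiniteType) h) : LocallyQuasiFinite h := by
  rw [locallyQuasiFinite_iff_isDiscrete_preimage_singleton]
  intro b
  rw [isDiscrete_iff_forall_mem_exists_isOpen]
  intro y hy
  obtain ⟨A', e, he, ⟨x', rfl⟩, hqf, hft⟩ := H y
  have : LocallyOfFiniteType (e ≫ h) := hft
  have hd := (locallyQuasiFinite_iff_isDiscrete_preimage_singleton (f := e ≫ h)).1 hqf b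
  rw [isDiscrete_iff_forall_mem_exists_isOpen] at hd
  have hx' : x' ∈ (e ≫ h) ⁻¹' {b} := by
    simp only [Set.mem_preimage, Set.mem_singleton_iff, Scheme.Hom.comp_apply]
    exact hy
  obtain ⟨u, hu, hux⟩ := hd x' hx'
  have hx'u : x' ∈ u := by
    have : x' ∈ u ∩ (e ≫ h) ⁻¹' {b} := by rw [hux]; rfl
    exact this.1
  refine ⟨e '' u, e.isOpenMap _ hu, ?_⟩
  ext z
  constructor
  · rintro ⟨⟨w, hwu, rfl⟩, hz⟩
    have hw : w ∈ u ∩ (e ≫ h) ⁻¹' {b} := by
      refine ⟨hwu, ?_⟩
      simp only [Set.mem_preimage, Set.mem_singleton_iff, Scheme.Hom.comp_apply]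
      exact hz
    rw [hux] at hw
    rw [Set.mem_singleton_iff.1 hw]
    rfl
  · intro hz
    rw [Set.mem_singleton_iff.1 hz]
    exact ⟨⟨x', hx'u, rfl⟩, hy⟩

theorem etLocalST_locallyQuasiFinite : EtLocalST (@LocallyQuasiFinite ⊓ @LocallyOfFiniteType) where
  baseChange := inferInstance
  mult := inferInstance
  etale_le := fun X Y f hf => by
    have : Etale f := hf
    exact ⟨locallyQuasiFinite_of_unramified f, inferInstance⟩
  ofCover := fun A B h H => by
    have h1 : LocallyOfFiniteType h := etLocalST_locallyOfFiniteType.ofCover h fun x => by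
      obtain ⟨A', e, he, hx, hf⟩ := H x
      exact ⟨A', e, he, hx, hf.2⟩
    exact ⟨locallyQuasiFinite_of_hasEtCover h H, h1⟩

end Groth.Agent.Lib.Helper16
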