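import Groth.Agent.Lib.Helper16.Charts
import Mathlib.AlgebraicGeometry.Noetherian
import Mathlib.AlgebraicGeometry.Properties
import Mathlib.RingTheory.Ideal.KrullsHeightTheorem

/-!
# Helper library (helper16): no specializations in the fibres of etale charts
-/

set_option autoImplicit false
universe u
open CategoryTheory CategoryTheory.Limits AlgebraicGeometry Opposite Topology

namespace Groth.Agent.Lib.Helper16

open AlgSp

variable {S : Scheme.{u}}

/-- One step of the chain argument: from a strict generization `u' ⤳ u` between two points of an etale chart with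
the same image, produce a strict generization `u'' ⤳ u'` with the same image again. -/
theorem exists_strict_generization_step {F : Sp S} {U : Over S} (a : (yon S).obj U ⟶ F)
    (ha : RepWith @Etale a) (u u' : ↥U.left) (he : Points.ofPt a u = Points.ofPt a u') (hs : u' ⤳ u)
    (hne : u' ≠ u) :
    ∃ u'' : ↥U.left, u'' ⤳ u' ∧ u'' ≠ u' ∧ Points.ofPt a u'' = Points.ofPt a u' := by
  have sq := ha.rep.isPullback a
  obtain ⟨t, ht⟩ := (yon S).map_surjective (ha.rep.fst a)
  rw [← ht] at sq
  set s := ha.rep.snd a with hs_def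
  have hset : Etale s.left := ha.property_snd a
  have htet : Etale t.left := ha.property a _ t sq.flip
  -- a point `r` of `R = U ×_F U` with `t r = u`, `s r = u'`
  obtain ⟨r, hr1, hr2⟩ := exists_point_of_isPullback_yon_yon sq u u' he
  -- lift the generization `u' ⤳ u = t r` along `t`
  obtain ⟨r', hr's, hr't⟩ := Flat.generalizingMap t.left (hr1 ▸ hs : u' ⤳ t.left r)
  refine ⟨s.left r', ?_, ?_, ?_⟩
  · rw [← hr2]
    exact hr's.map s.left.continuous
  · intro h
    have : LocallyQuasiFinite s.left := locallyQuasiFinite_of_etale s.left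
    have hrr : r' = r := eq_of_specializes_of_locallyQuasiFinite s.left hr's (h.trans hr2.symm)
    apply hne
    rw [← hr't, hrr, hr1]
  · rw [← ofPt_yon_map_comp, ← sq.w, ofPt_yon_map_comp, hr't]

/-- If strict generization is well-founded on a saturated subset `E` of an etale chart, then no point of `E` is a
strict generization of another point with the same image. -/
theorem eq_of_specializes_of_wellFounded {F : Sp S} {U : Over S} (a : (yon S).obj U ⟶ F)
    (ha : RepWith @Etale a) (E : Set ↥U.left)
    (hsat : ∀ w w' : ↥U.left, w ∈ E → Points.ofPt a w' = Points.ofPt a w → w' ∈ E)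
    (hwf : WellFounded (fun w' w : E => w'.1 ⤳ w.1 ∧ w'.1 ≠ w.1))
    (u u' : ↥U.left) (hu : u ∈ E) (he : Points.ofPt a u = Points.ofPt a u') (hs : u' ⤳ u) : u = u' := by
  by_contra hne
  have hu' : u' ∈ E := hsat u u' hu he.symm
  let P : Set E := {w | ∃ v : ↥U.left, w.1 ⤳ v ∧ w.1 ≠ v ∧ Points.ofPt a v = Points.ofPt a w.1}
  have hP : P.Nonempty := ⟨⟨u', hu'⟩, u, hs, fun h => hne h.symm, he⟩
  obtain ⟨m, ⟨v, hmv, hne', hv⟩, hmin⟩ := hwf.has_min P hP
  obtain ⟨m'', h1, h2, h3⟩ := exists_strict_generization_step a ha v m.1 hv hmv hne'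
  have hm'' : m'' ∈ E := hsat m.1 m'' m.2 h3
  exact hmin ⟨m'', hm''⟩ ⟨m.1, h1, h2, h3.symm⟩ ⟨h1, h2⟩

/-- Strict generization is well-founded on a locally Noetherian scheme. -/
theorem wellFounded_strict_generization_of_isLocallyNoetherian (X : Scheme.{u}) [IsLocallyNoetherian X] :
    WellFounded (fun w' w : X => w' ⤳ w ∧ w' ≠ w) := by
  have hfin : ∀ x : X, Order.coheight x < ⊤ := by
    intro x
    have h1 := ringKrullDim_stalk_eq_coheight x
    have h2 : ringKrullDim (X.presheaf.stalk x) < ⊤ := ringKrullDim_lt_top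
    rw [h1] at h2
    exact WithBot.coe_lt_coe.1 h2
  refine Subrelation.wf (r := InvImage (· < ·) (Order.coheight (α := X))) ?_
    (InvImage.wf _ wellFounded_lt)
  intro w' w ⟨hs, hne⟩
  have hlt : w < w' := lt_of_le_not_ge (Scheme.le_iff_specializes.2 hs)
    (fun h => hne ((hs.antisymm (Scheme.le_iff_specializes.1 h)).eq))
  exact Order.coheight_strictAnti hlt (hfin w')

/-- Strict generization is well-founded on a finite set of points of a scheme. -/
theorem wellFounded_strict_generization_of_finite {X : Scheme.{u}} (E : Set X) (hE : E.Finite) :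
    WellFounded (fun w' w : E => w'.1 ⤳ w.1 ∧ w'.1 ≠ w.1) := by
  have : Finite E := hE
  have : IsTrans E (fun w' w : E => w'.1 ⤳ w.1 ∧ w'.1 ≠ w.1) := ⟨by
    rintro a b c ⟨h1, h2⟩ ⟨h3, h4⟩
    refine ⟨h1.trans h3, fun h => ?_⟩
    apply h4
    exact ((h ▸ h1 : c.1 ⤳ b.1).antisymm h3).eq.symm⟩
  have : Std.Irrefl (fun w' w : E => w'.1 ⤳ w.1 ∧ w'.1 ≠ w.1) := ⟨fun a h => h.2 rfl⟩
  exact Finite.wellFounded_of_trans_of_irrefl _

/-- A point with finite fibres in all affine etale charts has no specializations in the fibres of etale charts. -/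
theorem eq_of_specializes_of_finite_fibres {F : Sp S} (x : Points F)
    (hx : ∀ (V : Over S) (b : (yon S).obj V ⟶ F), IsAffine V.left → RepWith @Etale b →
      (Points.ofPt b ⁻¹' {x}).Finite)
    {U : Over S} (a : (yon S).obj U ⟶ F) (ha : RepWith @Etale a) (u u' : ↥U.left)
    (hu : Points.ofPt a u = x) (hu' : Points.ofPt a u' = x) (hs : u' ⤳ u) : u = u' := by
  obtain ⟨W, hW, huW, -⟩ := exists_isAffineOpen_mem_and_subset (x := u) (U := ⊤) trivial
  have hu'W : u' ∈ W := hs.mem_open W.isOpen huW
  let V : Over S := Over.mk (W.ι ≫ U.hom)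
  let ι' : V ⟶ U := Over.homMk W.ι rfl
  have hι' : RepWith @Etale ((yon S).map ι') := (repWith_yon_map_iff _ _).2 (by
    change Etale W.ι
    infer_instance)
  have ha' : RepWith @Etale ((yon S).map ι' ≫ a) := MorphismProperty.comp_mem _ _ _ hι' ha
  have hfin : (Points.ofPt ((yon S).map ι' ≫ a) ⁻¹' {x}).Finite := hx V _ hW ha'
  let w : ↥V.left := ⟨u, huW⟩
  let w' : ↥V.left := ⟨u', hu'W⟩
  have hw : Points.ofPt ((yon S).map ι' ≫ a) w = x := by
    rw [ofPt_yon_map_comp]; exact hu
  have hw' : Points.ofPt ((yon S).map ι' ≫ a) w' = x := by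
    rw [ofPt_yon_map_comp]; exact hu'
  have hsw : w' ⤳ w := (W.ι.isOpenEmbedding.isInducing.specializes_iff).1 hs
  have key := eq_of_specializes_of_wellFounded _ ha' (Points.ofPt ((yon S).map ι' ≫ a) ⁻¹' {x})
    (fun w₁ w₂ h1 h2 => by
      simp only [Set.mem_preimage, Set.mem_singleton_iff] at h1 ⊢
      rw [h2, h1])
    (wellFounded_strict_generization_of_finite _ hfin) w w' hw (hw.trans hw'.symm) hsw
  exact congrArg Subtype.val key

/-- In a locally Noetherian sheaf (some etale surjective chart is locally Noetherian), there are no specializations in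
the fibres of etale charts. -/
theorem eq_of_specializes_of_isLocNoethSp {F : Sp S} (hF : IsLocNoethSp F)
    {U : Over S} (a : (yon S).obj U ⟶ F) (ha : RepWith @Etale a) (u u' : ↥U.left)
    (he : Points.ofPt a u = Points.ofPt a u') (hs : u' ⤳ u) : u = u' := by
  obtain ⟨U₀, p, hp, hps, hN⟩ := hF
  have sq := hp.rep.isPullback a
  obtain ⟨c, hc⟩ := (yon S).map_surjective (hp.rep.fst a)
  rw [← hc] at sq
  set snd := hp.rep.snd a with hsnd
  have hset : Etale snd.left := hp.property_snd a
  have hsurj : Surjective snd.left := hps.property a _ snd sq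
  have hcet : Etale c.left := ha.property p _ c sq.flip
  have hVN : IsLocallyNoetherian (hp.rep.pullback a).left :=
    LocallyOfFiniteType.isLocallyNoetherian c.left
  have ha' : RepWith @Etale ((yon S).map snd ≫ a) :=
    MorphismProperty.comp_mem _ _ _ ((repWith_yon_map_iff _ _).2 hset) ha
  obtain ⟨v, hv⟩ := hsurj.surj u
  obtain ⟨v', hv's, hv'⟩ := Flat.generalizingMap snd.left (hv ▸ hs : u' ⤳ snd.left v)
  have hwf := wellFounded_strict_generization_of_isLocallyNoetherian (hp.rep.pullback a).left
  have key := eq_of_specializes_of_wellFounded _ ha' Set.univ (fun _ _ _ _ => trivial)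
    (InvImage.wf Subtype.val hwf) v v' trivial
    (by rw [ofPt_yon_map_comp, ofPt_yon_map_comp, hv, hv', he]) hv's
  rw [← hv, ← hv', key]

end Groth.Agent.Lib.Helper16
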