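import Groth.Agent.Lib.Helper16.EtDim
import Groth.Agent.Lib.Helper16.Fibres
import Groth.Agent.Lib.Helper16.LocPGen
import Groth.Agent.Lib.Helper16.ChartDiagram
import Groth.Agent.Lib.Helper16.FibreProduct
import Groth.Agent.Lib.Helper16.EtLocal
import Mathlib.AlgebraicGeometry.Artinian

/-!
# Helper library (helper16): zero-dimensional charts, discreteness, local quasi-finiteness
-/

set_option autoImplicit false
universe u
open CategoryTheory CategoryTheory.Limits AlgebraicGeometry Opposite

namespace Groth.Agent.Lib.Helper16.DimZero

open AlgSp Groth.Agent.Lib.Helper16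

variable {S : Scheme.{u}}

/-- A locally Noetherian scheme without nontrivial specializations is discrete. -/
theorem discreteTopology_of_forall_specializes_eq (U : Scheme.{u}) [IsLocallyNoetherian U]
    (h : ∀ z z' : U, z' ⤳ z → z' = z) : DiscreteTopology U := by
  have hdim : topologicalKrullDim U ≤ 0 := by
    rw [EtDim.topologicalKrullDim_eq_krullDim, Order.krullDim_nonpos_iff_forall_isMax]
    intro x b hxb
    have : b = x := h x b hxb
    rw [this]
  have := IsLocallyArtinian.of_topologicalKrullDim_le_zero hdim
  infer_instance

/-- A locally Noetherian scheme of dimension at most zero is discrete. -/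
theorem discreteTopology_of_topologicalKrullDim_le_zero (U : Scheme.{u}) [IsLocallyNoetherian U]
    (h : topologicalKrullDim U ≤ 0) : DiscreteTopology U := by
  have := IsLocallyArtinian.of_topologicalKrullDim_le_zero h
  infer_instance

/-- Any two morphisms to the sheaf represented by the terminal object of `Over S` agree. -/
theorem hom_yon_terminal_ext {X : Sp S} (f g : X ⟶ (yon S).obj (Over.mk (𝟙 S))) : f = g := by
  apply Sheaf.hom_ext
  ext W x
  apply ULift.ext
  apply Over.OverMorphism.ext
  have h1 := Over.w (f.hom.app W x).down
  have h2 := Over.w (g.hom.app W x).down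
  exact ((Category.comp_id _).symm.trans h1).trans (((Category.comp_id _).symm.trans h2).symm)

/-- Chart diagram of a morphism to the terminal representable sheaf. -/
theorem prop_of_locP_terminal {P : MorphismProperty Scheme.{u}} {X : Sp S}
    (p : X ⟶ (yon S).obj (Over.mk (𝟙 S))) (hp : LocP P p) {U : Over S} (a : (yon S).obj U ⟶ X)
    (ha : RepWith @Etale a) : P U.hom := by
  have h := hp a (𝟙 _) (Over.homMk U.hom : U ⟶ Over.mk (𝟙 S)) ha (repWith_id _ _)
    (hom_yon_terminal_ext _ _)
  exact h

/-- A space is discrete as soon as an atlas is. -/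
theorem discreteTopology_points_of_atlas {X : Sp S} {V : Over S} (b : (yon S).obj V ⟶ X)
    (hbe : RepWith @Etale b) (hbs : RepWith @Surjective b) [DiscreteTopology ↥V.left] :
    DiscreteTopology (Points X) := by
  rw [discreteTopology_iff_isOpen_singleton]
  intro x
  obtain ⟨v, rfl⟩ := ofPt_surjective_of_surjective b hbs x
  have := isOpenMap_ofPt_of_etale b hbe {v} (isOpen_discrete _)
  rwa [Set.image_singleton] at this

end Groth.Agent.Lib.Helper16.DimZero
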