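import Groth.Agent.Lib.Helper16.Points

/-!
# Helper library (helper16): basic facts on decent sheaves and decent morphisms
-/

set_option autoImplicit false
universe u
open CategoryTheory CategoryTheory.Limits AlgebraicGeometry Opposite

namespace Groth.Agent.Lib.Helper16

open AlgSp

variable {S : Scheme.{u}}

/-- Any morphism from the spectrum of a field is quasi-compact. -/
theorem quasiCompact_of_field_source {K : Type u} [Field K] {T : Scheme.{u}}
    (f : Spec (CommRingCat.of K) ⟶ T) : QuasiCompact f := by
  rw [quasiCompact_iff]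
  intro U _ _
  exact (Set.toFinite _).isCompact

instance mono_yon_map {U V : Over S} (g : U ⟶ V) [Mono g] : Mono ((yon S).map g) :=
  inferInstance

/-- `h_T` is decent for every scheme `T` over `S`. -/
theorem isDecent_yon (T : Over S) : IsDecent ((yon S).obj T) := by
  intro x
  refine ⟨FieldPt.ofPt (𝟙 _) (Points.toScheme T x), Points.ofScheme_toScheme T x, ?_, ?_⟩
  · rw [FieldPt.toHom_ofPt, Category.comp_id]
    have : Mono (Over.homMk (T.left.fromSpecResidueField (Points.toScheme T x)) rfl :
        Over.mk (T.left.fromSpecResidueField (Points.toScheme T x) ≫ T.hom) ⟶ T) :=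
      Over.mono_of_mono_left _
    exact @mono_yon_map _ _ _ _ this
  · rw [FieldPt.toHom_ofPt, Category.comp_id, repWith_yon_map_iff]
    exact quasiCompact_of_field_source _

/-- A decent morphism with decent target has decent source (for arbitrary sheaves). -/
theorem isDecent_of_isDecentMor {F G : Sp S} (f : F ⟶ G) (hf : IsDecentMor f) (hG : IsDecent G) :
    IsDecent F := by
  intro x
  obtain ⟨p, hp, hm, hq⟩ := hG (Points.map f x)
  have sq : IsPullback (pullback.fst f p.toHom) (pullback.snd f p.toHom) f p.toHom :=
    IsPullback.of_hasPullback _ _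
  have hF' : IsDecent (pullback f p.toHom) := hf p.toHom _ _ sq
  -- the unique point of `Spec K`
  let s : ↥(Spec (CommRingCat.of p.K)) := IsLocalRing.closedPoint p.K
  have hs : Points.map p.toHom (Points.ofScheme p.pt s) = Points.map f x := by
    rw [← Points.ofPt_eq_map_ofScheme, Points.ofPt_toHom, hp]
  obtain ⟨z, hz1, _⟩ := exists_point_of_isPullback sq x _ hs.symm
  obtain ⟨p', hp', hm', hq'⟩ := hF' z
  refine ⟨p'.map (pullback.fst f p.toHom), ?_, ?_, ?_⟩
  · rw [← Points.map_mk, hp', hz1]
  · rw [FieldPt.toHom_map]
    have h2 : Mono (pullback.fst f p.toHom) := @pullback.fst_of_mono _ _ _ _ _ _ _ _ hm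
    exact @mono_comp _ _ _ _ _ _ hm' _ h2
  · rw [FieldPt.toHom_map]
    have h1 : RepWith @QuasiCompact (pullback.fst f p.toHom) :=
      MorphismProperty.of_isPullback sq.flip hq
    exact MorphismProperty.comp_mem _ _ _ hq' h1

/-- Decent morphisms are stable under base change. -/
theorem isDecentMor_of_isPullback {F' F G G' : Sp S} {fst : F' ⟶ F} {snd : F' ⟶ G'} {f : F ⟶ G}
    {g : G' ⟶ G} (sq : IsPullback fst snd f g) (hf : IsDecentMor f) : IsDecentMor snd := by
  intro T F'' t fst' snd' sq'
  exact hf (t ≫ g) (fst' ≫ fst) snd' (sq'.paste_horiz sq)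

/-- A representable morphism is decent. -/
theorem isDecentMor_of_representable {F G : Sp S} (f : F ⟶ G) (hf : Representable f) :
    IsDecentMor f := by
  intro T F' g fst snd sq
  have sq' := hf.isPullback g
  exact (isDecent_yon _).of_iso (sq'.isoIsPullback _ _ sq)

/-- The source of a representable morphism to a decent sheaf is decent. -/
theorem isDecent_of_representable {F G : Sp S} (f : F ⟶ G) (hf : Representable f) (hG : IsDecent G) :
    IsDecent F :=
  isDecent_of_isDecentMor f (isDecentMor_of_representable f hf) hG

end Groth.Agent.Lib.Helper16
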