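import Groth.Agent.Lib.Helper16.Charts
import Groth.Agent.Lib.Helper16.Decent

/-!
# Helper library (helper16): specializations and etale charts
-/

set_option autoImplicit false
universe u
open CategoryTheory CategoryTheory.Limits AlgebraicGeometry Opposite Topology

namespace Groth.Agent.Lib.Helper16

open AlgSp

variable {S : Scheme.{u}}

/-- The fibre of an etale chart over the class of a representable field-valued point `p` is the image of the
scheme representing `h_{Spec K} ×_F h_U`. -/
theorem ofPt_eq_mk_iff_mem_range {F : Sp S} (p : FieldPt F) (hrep : Representable p.toHom)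
    {U : Over S} (a : (yon S).obj U ⟶ F) (w : ↥U.left) :
    Points.ofPt a w = Points.mk p ↔ w ∈ Set.range (hrep.snd a).left := by
  have sq := hrep.isPullback a
  obtain ⟨c, hc⟩ := (yon S).map_surjective (hrep.fst a)
  rw [← hc] at sq
  constructor
  · intro hw
    obtain ⟨v, _, hv⟩ := exists_point_of_isPullback_yon_yon sq (IsLocalRing.closedPoint p.K) w
      (by rw [Points.ofPt_toHom, hw])
    exact ⟨v, hv⟩
  · rintro ⟨z, rfl⟩
    rw [← ofPt_yon_map_comp, ← sq.w, ofPt_yon_map_comp, Points.ofPt_toHom]

/-- Generizations lift along etale charts to points represented by quasi-compact field-valued points. -/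
theorem exists_specializes_lift {F : Sp S} (x x' : Points F) (h : x' ⤳ x) (p : FieldPt F)
    (hp : Points.mk p = x') (hq : RepWith @QuasiCompact p.toHom)
    {U : Over S} (a : (yon S).obj U ⟶ F) (ha : RepWith @Etale a) (u : ↥U.left)
    (hu : Points.ofPt a u = x) :
    ∃ u' : ↥U.left, u' ⤳ u ∧ Points.ofPt a u' = x' := by
  have hqc : QuasiCompact (hq.rep.snd a).left := hq.property_snd a
  have hmem : u ∈ closure (Set.range (hq.rep.snd a).left) := by
    rw [mem_closure_iff]
    intro O hO huO
    have hopen : IsOpen (Points.ofPt a '' O) := isOpenMap_ofPt_of_etale a ha O hO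
    have hx : x ∈ Points.ofPt a '' O := ⟨u, huO, hu⟩
    obtain ⟨w, hwO, hw⟩ := h.mem_open hopen hx
    refine ⟨w, hwO, ?_⟩
    rw [← ofPt_eq_mk_iff_mem_range p hq.rep a w, hw, hp]
  obtain ⟨z, hz⟩ := exists_specializes_of_mem_closure_range (hq.rep.snd a).left u hmem
  refine ⟨(hq.rep.snd a).left z, hz, ?_⟩
  rw [← hp, ofPt_eq_mk_iff_mem_range p hq.rep a]
  exact ⟨z, rfl⟩

end Groth.Agent.Lib.Helper16
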