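import Groth.Agent.Lib.Helper16.Fibres
import Groth.Agent.Lib.Helper16.Special

/-!
# Helper library (helper16): finiteness of fibres of affine etale charts over quasi-compact points
-/

set_option autoImplicit false
universe u
open CategoryTheory CategoryTheory.Limits AlgebraicGeometry Opposite Topology

namespace Groth.Agent.Lib.Helper16

open AlgSp

variable {S : Scheme.{u}}

/-- A quasi-compact scheme etale over the spectrum of a field is finite (as a set). -/
theorem finite_of_etale_over_field {Z : Scheme.{u}} {K : Type u} [Field K] (c : Z ⟶ Spec (CommRingCat.of K))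
    [Etale c] [CompactSpace Z] : Finite Z := by
  have : LocallyQuasiFinite c := locallyQuasiFinite_of_etale c
  have : QuasiCompact c := HasAffineProperty.iff_of_isAffine.mpr (by infer_instance)
  have h := c.finite_preimage_singleton (IsLocalRing.closedPoint K)
  refine Set.finite_univ_iff.1 (h.subset fun z _ => ?_)
  exact Subsingleton.elim (α := ↥(Spec (CommRingCat.of K))) _ _

/-- The fibre of an affine (or just quasi-compact) etale chart over the class of a representable quasi-compact
field-valued point is finite. -/
theorem finite_fibre_of_quasiCompact_fieldPt {F : Sp S} (p : FieldPt F) (hq : RepWith @QuasiCompact p.toHom)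
    {V : Over S} [CompactSpace ↥V.left] (a : (yon S).obj V ⟶ F) (ha : RepWith @Etale a) :
    (Points.ofPt a ⁻¹' {Points.mk p}).Finite := by
  have sq := hq.rep.isPullback a
  obtain ⟨c, hc⟩ := (yon S).map_surjective (hq.rep.fst a)
  rw [← hc] at sq
  have hqc : QuasiCompact (hq.rep.snd a).left := hq.property_snd a
  have hcet : Etale c.left := ha.property p.toHom _ c sq.flip
  have hcpt : CompactSpace ↥(hq.rep.pullback a).left :=
    QuasiCompact.compactSpace_of_compactSpace (hq.rep.snd a).left
  have hfin : Finite ↥(hq.rep.pullback a).left := finite_of_etale_over_field c.left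
  have : Points.ofPt a ⁻¹' {Points.mk p} = Set.range (hq.rep.snd a).left := by
    ext w
    simp only [Set.mem_preimage, Set.mem_singleton_iff]
    exact ofPt_eq_mk_iff_mem_range p hq.rep a w
  rw [this]
  exact Set.finite_range _

/-- On a decent sheaf there are no specializations in the fibres of etale charts. -/
theorem eq_of_specializes_of_isDecent {F : Sp S} (hF : IsDecent F)
    {U : Over S} (a : (yon S).obj U ⟶ F) (ha : RepWith @Etale a) (u u' : ↥U.left)
    (he : Points.ofPt a u = Points.ofPt a u') (hs : u' ⤳ u) : u = u' := by
  obtain ⟨p, hp, -, hq⟩ := hF (Points.ofPt a u)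
  refine eq_of_specializes_of_finite_fibres (Points.ofPt a u) ?_ a ha u u' rfl he.symm hs
  intro V b hV hb
  rw [← hp]
  exact finite_fibre_of_quasiCompact_fieldPt p hq b hb

end Groth.Agent.Lib.Helper16
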