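import Groth.Agent.Lib.Helper16.QsNoeth

/-!
# Helper library (helper16): quasi-compactness of the diagonal of an algebraic space, checked on affine etale charts
-/

set_option autoImplicit false
universe u
open CategoryTheory CategoryTheory.Limits AlgebraicGeometry Opposite Topology TopologicalSpace

namespace Groth.Agent.Lib.Helper16.Strata

open AlgSp

variable {S : Scheme.{u}}

/-- `h_A ×_X h_B ⟶ h_A × h_B` is a base change of the diagonal of `X`. -/
theorem isPullback_diag_of_isPullback {X : Sp S} {A B R : Over S} (a : (yon S).obj A ⟶ X)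
    (b : (yon S).obj B ⟶ X) (rU : R ⟶ A) (rW : R ⟶ B)
    (sqR : IsPullback ((yon S).map rU) ((yon S).map rW) a b)
    (A₀ : A ⟶ Over.mk (𝟙 S)) (B₀ : B ⟶ Over.mk (𝟙 S)) (m : R ⟶ pullback A₀ B₀)
    (hm1' : m ≫ pullback.fst A₀ B₀ = rU) (hm2' : m ≫ pullback.snd A₀ B₀ = rW) :
    IsPullback ((yon S).map rU ≫ a) ((yon S).map m) (Limits.diag X)
      (prod.lift ((yon S).map (pullback.fst A₀ B₀) ≫ a) ((yon S).map (pullback.snd A₀ B₀) ≫ b)) := by
  have sq₀ := (IsPullback.of_hasPullback A₀ B₀).map (yon S)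
  have hm1 : (yon S).map m ≫ (yon S).map (pullback.fst A₀ B₀) = (yon S).map rU := by
    rw [← Functor.map_comp, hm1']
  have hm2 : (yon S).map m ≫ (yon S).map (pullback.snd A₀ B₀) = (yon S).map rW := by
    rw [← Functor.map_comp, hm2']
  refine isPullback_of_exists_lift ?_ ?_ ?_
  · apply Limits.prod.hom_ext
    · simp only [Category.assoc, prod.lift_fst, Category.comp_id]
      rw [← Category.assoc ((yon S).map m), hm1]
    · simp only [Category.assoc, prod.lift_snd, Category.comp_id]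
      rw [← Category.assoc ((yon S).map m), hm2]
      exact sqR.w
  · intro Q c d h
    have hc1 : c = d ≫ (yon S).map (pullback.fst A₀ B₀) ≫ a := by
      have := congrArg (· ≫ prod.fst) h
      simpa only [Category.assoc, prod.lift_fst, Category.comp_id] using this
    have hc2 : c = d ≫ (yon S).map (pullback.snd A₀ B₀) ≫ b := by
      have := congrArg (· ≫ prod.snd) h
      simpa only [Category.assoc, prod.lift_snd, Category.comp_id] using this
    have hw : (d ≫ (yon S).map (pullback.fst A₀ B₀)) ≫ a =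
        (d ≫ (yon S).map (pullback.snd A₀ B₀)) ≫ b := by
      rw [Category.assoc, Category.assoc, ← hc1, ← hc2]
    refine ⟨sqR.lift _ _ hw, ?_, ?_⟩
    · rw [← Category.assoc, sqR.lift_fst, Category.assoc, ← hc1]
    · apply sq₀.hom_ext
      · rw [Category.assoc, hm1, sqR.lift_fst]
      · rw [Category.assoc, hm2, sqR.lift_snd]
  · intro Q l l' _ h2
    apply sqR.hom_ext
    · have := congrArg (· ≫ (yon S).map (pullback.fst A₀ B₀)) h2
      simpa only [Category.assoc, hm1] using this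
    · have := congrArg (· ≫ (yon S).map (pullback.snd A₀ B₀)) h2
      simpa only [Category.assoc, hm2] using this

/-- The hypothesis: fibre products over `X` of affine opens of the chart `U` are quasi-compact. -/
def AffineCompact {X : Sp S} {U : Over S} (p : (yon S).obj U ⟶ X) : Prop :=
  ∀ (W₁ W₂ : U.left.Opens), IsAffineOpen W₁ → IsAffineOpen W₂ → ∀ (R' : Over S) (c : R' ⟶ overOpen U W₁)
    (sn : R' ⟶ overOpen U W₂), IsPullback ((yon S).map c) ((yon S).map sn) ((yon S).map (overOpenι U W₁) ≫ p)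
      ((yon S).map (overOpenι U W₂) ≫ p) → CompactSpace ↥R'.left

theorem exists_affineOpen_mem {Y : Scheme.{u}} (y : ↥Y) : ∃ W : Y.Opens, IsAffineOpen W ∧ y ∈ W := by
  obtain ⟨_, ⟨W, hW, rfl⟩, h, -⟩ :=
    Y.isBasis_affineOpens.exists_subset_of_mem_open (Set.mem_univ y) isOpen_univ
  exact ⟨W, hW, h⟩

theorem quasiCompact_of_affineCompact {X : Sp S} {U : Over S} [QuasiSeparatedSpace ↥U.left]
    (p : (yon S).obj U ⟶ X) (hpe : RepWith @Etale p) {R : Over S} (rU rW : R ⟶ U)
    (sqR : IsPullback ((yon S).map rU) ((yon S).map rW) p p) (A₀ : U ⟶ Over.mk (𝟙 S))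
    (m : R ⟶ pullback A₀ A₀) (hm1 : m ≫ pullback.fst A₀ A₀ = rU) (hm2 : m ≫ pullback.snd A₀ A₀ = rW)
    (H : AffineCompact p) : QuasiCompact m.left := by
  have hA₀ : QuasiSeparated A₀.left := inferInstance
  have sqP : IsPullback (pullback.fst A₀ A₀).left (pullback.snd A₀ A₀).left A₀.left A₀.left :=
    (IsPullback.of_hasPullback A₀ A₀).map (Over.forget S)
  have hsndqs : QuasiSeparated (pullback.snd A₀ A₀).left :=
    MorphismProperty.of_isPullback (P := @QuasiSeparated) sqP hA₀
  have hPqs : QuasiSeparatedSpace ↥(pullback A₀ A₀).left :=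
    quasiSeparatedSpace_of_quasiSeparated (pullback.snd A₀ A₀).left
  let O : U.left.affineOpens × U.left.affineOpens → (pullback A₀ A₀).left.Opens := fun i =>
    (pullback.fst A₀ A₀).left ⁻¹ᵁ i.1.1 ⊓ (pullback.snd A₀ A₀).left ⁻¹ᵁ i.2.1
  have hO : iSup O = ⊤ := by
    rw [eq_top_iff]
    intro q _
    obtain ⟨W₁, hW₁, hq₁⟩ := exists_affineOpen_mem ((pullback.fst A₀ A₀).left q)
    obtain ⟨W₂, hW₂, hq₂⟩ := exists_affineOpen_mem ((pullback.snd A₀ A₀).left q)
    exact TopologicalSpace.Opens.mem_iSup.2 ⟨(⟨W₁, hW₁⟩, ⟨W₂, hW₂⟩), hq₁, hq₂⟩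
  refine IsZariskiLocalAtTarget.of_iSup_eq_top (P := @QuasiCompact) O hO (fun i => ?_)
  obtain ⟨⟨W₁, hW₁⟩, ⟨W₂, hW₂⟩⟩ := i
  have hOqs : QuasiSeparatedSpace ↥(O (⟨W₁, hW₁⟩, ⟨W₂, hW₂⟩)).toScheme :=
    quasiSeparatedSpace_of_quasiSeparated (O (⟨W₁, hW₁⟩, ⟨W₂, hW₂⟩)).ι
  have hcpt : CompactSpace ↥(m.left ⁻¹ᵁ O (⟨W₁, hW₁⟩, ⟨W₂, hW₂⟩)).toScheme := by
    refine (isCompact_iff_compactSpace (s := (m.left ⁻¹ᵁ O (⟨W₁, hW₁⟩, ⟨W₂, hW₂⟩) : Set ↥R.left))).1 ?_
    obtain ⟨R', sn', ρ₁, sq'⟩ := (repWith_etale_restrict p hpe W₁).rep ((yon S).map (overOpenι U W₂) ≫ p)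
    obtain ⟨c', rfl⟩ := (yon S).map_surjective ρ₁
    have hR'c : CompactSpace ↥R'.left := H W₁ W₂ hW₁ hW₂ R' c' sn' sq'
    obtain ⟨φ, hφ1, hφ2⟩ := exists_lift_R₂ sqR (c' ≫ overOpenι U W₁) (sn' ≫ overOpenι U W₂) (by
      rw [Functor.map_comp, Functor.map_comp, Category.assoc, Category.assoc]; exact sq'.w)
    have hrU : ∀ r, (pullback.fst A₀ A₀).left (m.left r) = rU.left r := fun r => by
      rw [← hm1]; rfl
    have hrW : ∀ r, (pullback.snd A₀ A₀).left (m.left r) = rW.left r := fun r => by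
      rw [← hm2]; rfl
    have hset : (m.left ⁻¹ᵁ O (⟨W₁, hW₁⟩, ⟨W₂, hW₂⟩) : Set ↥R.left) = Set.range φ.left := by
      ext r
      constructor
      · rintro ⟨h1, h2⟩
        have h1' : rU.left r ∈ W₁ := by rw [← hrU]; exact h1
        have h2' : rW.left r ∈ W₂ := by rw [← hrW]; exact h2
        have hpt : ∀ t, (R.left.fromSpecResidueField r) t = r := fun t => by
          rw [Subsingleton.elim t (IsLocalRing.closedPoint _)]
          exact R.left.fromSpecResidueField_apply r _
        have hsub₁ : Set.range (R.left.fromSpecResidueField r ≫ rU.left) ⊆ Set.range W₁.ι := by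
          rw [Scheme.Opens.range_ι]
          rintro _ ⟨t, rfl⟩
          rw [Scheme.Hom.comp_apply, hpt]
          exact h1'
        have hsub₂ : Set.range (R.left.fromSpecResidueField r ≫ rW.left) ⊆ Set.range W₂.ι := by
          rw [Scheme.Opens.range_ι]
          rintro _ ⟨t, rfl⟩
          rw [Scheme.Hom.comp_apply, hpt]
          exact h2'
        let TK : Over S := Over.mk (R.left.fromSpecResidueField r ≫ R.hom)
        let x' : TK ⟶ R := Over.homMk (R.left.fromSpecResidueField r) rfl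
        let y₁ : TK ⟶ overOpen U W₁ := Over.homMk (IsOpenImmersion.lift W₁.ι _ hsub₁) (by
          change IsOpenImmersion.lift W₁.ι _ hsub₁ ≫ W₁.ι ≫ U.hom = R.left.fromSpecResidueField r ≫ R.hom
          rw [← Category.assoc, IsOpenImmersion.lift_fac, Category.assoc, Over.w rU])
        let y₂ : TK ⟶ overOpen U W₂ := Over.homMk (IsOpenImmersion.lift W₂.ι _ hsub₂) (by
          change IsOpenImmersion.lift W₂.ι _ hsub₂ ≫ W₂.ι ≫ U.hom = R.left.fromSpecResidueField r ≫ R.hom
          rw [← Category.assoc, IsOpenImmersion.lift_fac, Category.assoc, Over.w rW])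
        have hy₁ : y₁ ≫ overOpenι U W₁ = x' ≫ rU :=
          Over.OverMorphism.ext (IsOpenImmersion.lift_fac W₁.ι _ hsub₁)
        have hy₂ : y₂ ≫ overOpenι U W₂ = x' ≫ rW :=
          Over.OverMorphism.ext (IsOpenImmersion.lift_fac W₂.ι _ hsub₂)
        have heq : (yon S).map y₁ ≫ (yon S).map (overOpenι U W₁) ≫ p =
            (yon S).map y₂ ≫ (yon S).map (overOpenι U W₂) ≫ p := by
          rw [← Category.assoc, ← Functor.map_comp, hy₁, ← Category.assoc, ← Functor.map_comp, hy₂,
            Functor.map_comp, Functor.map_comp, Category.assoc, Category.assoc, sqR.w]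
        obtain ⟨z, hz1, hz2⟩ := exists_lift_R₂ sq' y₁ y₂ heq
        have hzφ : z ≫ φ = x' := by
          apply hom_ext_R₂ sqR
          · rw [Category.assoc, hφ1, ← Category.assoc, hz1, hy₁]
          · rw [Category.assoc, hφ2, ← Category.assoc, hz2, hy₂]
        refine ⟨z.left (IsLocalRing.closedPoint _), ?_⟩
        have h3 : (z ≫ φ).left (IsLocalRing.closedPoint _) = r := by
          rw [hzφ]; exact hpt _
        exact h3
      · rintro ⟨z, rfl⟩
        constructor
        · show (pullback.fst A₀ A₀).left (m.left (φ.left z)) ∈ W₁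
          rw [hrU]
          have : (φ ≫ rU).left z = W₁.ι (c'.left z) := by rw [hφ1]; rfl
          have h4 : rU.left (φ.left z) = W₁.ι (c'.left z) := this
          rw [h4]
          exact (c'.left z).2
        · show (pullback.snd A₀ A₀).left (m.left (φ.left z)) ∈ W₂
          rw [hrW]
          have : (φ ≫ rW).left z = W₂.ι (sn'.left z) := by rw [hφ2]; rfl
          have h4 : rW.left (φ.left z) = W₂.ι (sn'.left z) := this
          rw [h4]
          exact (sn'.left z).2
    rw [hset]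
    exact isCompact_range φ.left.continuous
  infer_instance

/-- The diagonal of an algebraic space is quasi-compact as soon as fibre products of affine opens of an etale atlas
(with quasi-separated source) are quasi-compact. -/
theorem repWith_quasiCompact_diag_of_affineCompact {X : Sp S} (hX : IsAlgSpace X) {U : Over S}
    [QuasiSeparatedSpace ↥U.left] (p : (yon S).obj U ⟶ X) (hpe : RepWith @Etale p)
    (hps : RepWith @Surjective p) (H : AffineCompact p) : RepWith @QuasiCompact (Limits.diag X) := by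
  obtain ⟨R, rW, ρ₀, sqR⟩ := hpe.rep p
  obtain ⟨rU, rfl⟩ := (yon S).map_surjective ρ₀
  obtain ⟨A₀, -⟩ : ∃ A₀ : U ⟶ Over.mk (𝟙 S), A₀ = A₀ := ⟨Over.mkIdTerminal.from U, rfl⟩
  obtain ⟨m, hm1, hm2⟩ : ∃ m : R ⟶ pullback A₀ A₀, m ≫ pullback.fst A₀ A₀ = rU ∧
      m ≫ pullback.snd A₀ A₀ = rW :=
    ⟨pullback.lift rU rW (Over.mkIdTerminal.hom_ext _ _), pullback.lift_fst _ _ _, pullback.lift_snd _ _ _⟩
  have hmqc : QuasiCompact m.left := quasiCompact_of_affineCompact p hpe rU rW sqR A₀ m hm1 hm2 H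
  have sqD := isPullback_diag_of_isPullback p p rU rW sqR A₀ A₀ m hm1 hm2
  apply MorphismProperty.relative.of_exists
  intro T t
  obtain ⟨E, e, ε, sqE⟩ := hX.diag t
  refine ⟨E, ε, e, sqE, ?_⟩
  change QuasiCompact e.left
  obtain ⟨T₁, ρ₁, u₁, hρ₁e, hρ₁s, hρ₁⟩ :=
    exists_etale_cover_through_chart p hpe hps (IsAlgSpace.yon_obj T) (t ≫ prod.fst)
  obtain ⟨c₁, rfl⟩ := (yon S).map_surjective ρ₁
  obtain ⟨T₂, ρ₂, u₂, hρ₂e, hρ₂s, hρ₂⟩ :=
    exists_etale_cover_through_chart p hpe hps (IsAlgSpace.yon_obj T₁) ((yon S).map c₁ ≫ t ≫ prod.snd)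
  obtain ⟨c₂, rfl⟩ := (yon S).map_surjective ρ₂
  have hc₁e : Etale c₁.left := (repWith_yon_map_iff _ _).1 hρ₁e
  have hc₁s : Surjective c₁.left := (repWith_yon_map_iff _ _).1 hρ₁s
  have hc₂e : Etale c₂.left := (repWith_yon_map_iff _ _).1 hρ₂e
  have hc₂s : Surjective c₂.left := (repWith_yon_map_iff _ _).1 hρ₂s
  have hce : Etale (c₂ ≫ c₁).left := by rw [Over.comp_left]; infer_instance
  have hcs : Surjective (c₂ ≫ c₁).left := by rw [Over.comp_left]; infer_instance
  obtain ⟨w, hw1, hw2⟩ : ∃ w : T₂ ⟶ pullback A₀ A₀, w ≫ pullback.fst A₀ A₀ = c₂ ≫ u₁ ∧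
      w ≫ pullback.snd A₀ A₀ = u₂ :=
    ⟨pullback.lift (c₂ ≫ u₁) u₂ (Over.mkIdTerminal.hom_ext _ _), pullback.lift_fst _ _ _,
      pullback.lift_snd _ _ _⟩
  have sq' : IsPullback ((yon S).map (pullback.fst m w) ≫ (yon S).map rU ≫ p)
      ((yon S).map (pullback.snd m w)) (Limits.diag X)
      ((yon S).map w ≫ prod.lift ((yon S).map (pullback.fst A₀ A₀) ≫ p)
        ((yon S).map (pullback.snd A₀ A₀) ≫ p)) :=
    ((IsPullback.of_hasPullback m w).map (yon S)).paste_horiz sqD
  have hw : (yon S).map w ≫ prod.lift ((yon S).map (pullback.fst A₀ A₀) ≫ p)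
      ((yon S).map (pullback.snd A₀ A₀) ≫ p) =
      prod.lift ((yon S).map (c₂ ≫ u₁) ≫ p) ((yon S).map u₂ ≫ p) := by
    apply Limits.prod.hom_ext
    · simp only [Category.assoc, prod.lift_fst]
      rw [← Category.assoc, ← Functor.map_comp, hw1]
    · simp only [Category.assoc, prod.lift_snd]
      rw [← Category.assoc, ← Functor.map_comp, hw2]
  rw [hw] at sq'
  refine P_of_fppf_cover e (c₂ ≫ c₁) hcs inferInstance inferInstance ?_
  have sq1 : IsPullback ((yon S).map (pullback.fst e (c₂ ≫ c₁)) ≫ ε)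
      ((yon S).map (pullback.snd e (c₂ ≫ c₁))) (Limits.diag X) ((yon S).map (c₂ ≫ c₁) ≫ t) :=
    ((IsPullback.of_hasPullback e (c₂ ≫ c₁)).map (yon S)).paste_horiz sqE
  have ht' : (yon S).map (c₂ ≫ c₁) ≫ t =
      prod.lift ((yon S).map (c₂ ≫ u₁) ≫ p) ((yon S).map u₂ ≫ p) := by
    apply Limits.prod.hom_ext
    · simp only [Category.assoc, prod.lift_fst, Functor.map_comp]
      rw [hρ₁]
    · simp only [Category.assoc, prod.lift_snd, Functor.map_comp]
      rw [← hρ₂]
  rw [ht'] at sq1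
  have hqc' : QuasiCompact (pullback.snd m w).left :=
    MorphismProperty.of_isPullback (P := @QuasiCompact)
      ((IsPullback.of_hasPullback m w).map (Over.forget S)) hmqc
  have h3 := P_of_two_pullbacks (RepWith (S := S) @QuasiCompact) sq1 sq'
    ((repWith_yon_map_iff _ _).2 hqc')
  exact (repWith_yon_map_iff _ _).1 h3

/-- A locally Noetherian decent algebraic space is quasi-separated. -/
theorem isQuasiSeparatedSp_of_locNoeth_of_isDecent {X : Sp S} (hX : IsAlgSpace X) (hN : IsLocNoethSp X)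
    (hd : IsDecent X) : IsQuasiSeparatedSp X := by
  obtain ⟨U, p, hpe, hps, hU⟩ := hN
  have hU' : IsLocallyNoetherian U.left := hU
  refine repWith_quasiCompact_diag_of_affineCompact hX p hpe hps ?_
  intro W₁ W₂ hW₁ hW₂ R' c sn sq
  have h1 : IsAffine (overOpen U W₁).left := hW₁
  have h2 : IsNoetherian (overOpen U W₂).left := by
    have h3 : IsLocallyNoetherian (overOpen U W₂).left := (inferInstance : IsLocallyNoetherian W₂.toScheme)
    have h4 : CompactSpace ↥(overOpen U W₂).left := isCompact_iff_compactSpace.1 hW₂.isCompact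
    exact { toIsLocallyNoetherian := h3, toCompactSpace := h4 }
  exact compactSpace_of_isPullback_of_isDecent sq hd (repWith_etale_restrict p hpe W₁)

end Groth.Agent.Lib.Helper16.Strata
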