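import Groth.Agent.Lib.Helper16.SchLocusCodim0b
import Groth.Agent.Lib.Helper16.QsNoeth2
import Groth.Agent.Lib.Helper16.FiniteFibres

/-!
# Helper library (helper16): an algebraic space etale over the spectrum of a field is a scheme
-/

set_option autoImplicit false
universe u
open CategoryTheory CategoryTheory.Limits AlgebraicGeometry Opposite

namespace Groth.Agent.Lib.Helper16.SchLocus

open AlgSp Groth.Agent.Lib.Helper15 Strata

variable {S : Scheme.{u}}

/-- An algebraic space all of whose points lie in the schematic locus is a scheme. -/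
theorem isRepresentable_of_forall_mem_schLocus {X : Sp S} (hX : IsAlgSpace X) (h : ∀ x : Points X, x ∈ schLocus X) :
    X.obj.IsRepresentable := by
  obtain ⟨U, a, hae, has⟩ := hX.atlas
  have hch : ∀ u : ↥U.left, ∃ (M : Over S) (m : (yon S).obj M ⟶ X), RepWith @IsOpenImmersion m ∧
      Points.ofPt a u ∈ Set.range (Points.ofPt m) := fun u => h _
  choose M m hm hmem using hch
  have hcov : ∀ x : Points X, ∃ u, x ∈ Set.range (Points.ofPt (m u)) := by
    intro x
    obtain ⟨u, hu⟩ := ofPt_surjective_of_surjective a has x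
    exact ⟨u, hu ▸ hmem u⟩
  obtain ⟨Mg, e, -⟩ := GlueRep.exists_iso_yon_of_open_cover m hm hcov
  exact isRepresentable_of_iso e.symm

/-- Every point of an algebraic space etale over the spectrum of a field lies in the schematic locus. -/
theorem mem_schLocus_of_etale_over_field {X : Sp S} (hX : IsAlgSpace X) (k : Type u) [Field k]
    (str : Spec (CommRingCat.of k) ⟶ S) (f : X ⟶ (yon S).obj (Over.mk str)) (hf : IsEtaleMor f)
    (x : Points X) : x ∈ schLocus X := by
  obtain ⟨U, a, hae, has⟩ := hX.atlas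
  obtain ⟨u, hu⟩ := ofPt_surjective_of_surjective a has x
  obtain ⟨O, hO, huO⟩ := exists_affineOpen_mem u
  have hOaff : IsAffine (overOpen U O).left := hO
  have hae₀ : RepWith @Etale ((yon S).map (overOpenι U O) ≫ a) := repWith_etale_restrict a hae O
  obtain ⟨a₀, ha₀⟩ : ∃ a₀ : (yon S).obj (overOpen U O) ⟶ X, a₀ = (yon S).map (overOpenι U O) ≫ a := ⟨_, rfl⟩
  rw [← ha₀] at hae₀
  obtain ⟨g₀, hg₀⟩ := (yon S).map_surjective (a₀ ≫ f)
  have hg₀e : Etale g₀.left := (repWith_yon_map_iff _ _).1 (hg₀ ▸ hf a₀ hae₀)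
  obtain ⟨g₁, hg₁⟩ : ∃ g₁ : (overOpen U O).left ⟶ Spec (CommRingCat.of k), g₁ = g₀.left := ⟨_, rfl⟩
  have hg₁e : Etale g₁ := hg₁ ▸ hg₀e
  -- the kernel pair
  have sq := hae₀.rep.isPullback a₀
  obtain ⟨c, hc⟩ := (yon S).map_surjective (hae₀.rep.fst a₀)
  rw [← hc] at sq
  obtain ⟨R, sn, hR, hsn⟩ : ∃ (R : Over S) (sn : R ⟶ overOpen U O), R = hae₀.rep.pullback a₀ ∧
      HEq sn (hae₀.rep.snd a₀) := ⟨_, _, rfl, HEq.rfl⟩
  subst hR
  obtain rfl : sn = hae₀.rep.snd a₀ := eq_of_heq hsn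
  have hcg : c ≫ g₀ = hae₀.rep.snd a₀ ≫ g₀ := (yon S).map_injective (by
    rw [Functor.map_comp, Functor.map_comp, hg₀, ← Category.assoc, sq.w, Category.assoc])
  have hcg₁ : c.left ≫ g₁ = (hae₀.rep.snd a₀).left ≫ g₁ := by
    rw [hg₁]
    exact congrArg CommaMorphism.left hcg
  obtain ⟨m, hm1, hm2⟩ : ∃ m : (hae₀.rep.pullback a₀).left ⟶ pullback g₁ g₁, m ≫ pullback.fst g₁ g₁ = c.left ∧
      m ≫ pullback.snd g₁ g₁ = (hae₀.rep.snd a₀).left :=
    ⟨pullback.lift c.left (hae₀.rep.snd a₀).left hcg₁, pullback.lift_fst _ _ _, pullback.lift_snd _ _ _⟩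
  have hm : Mono m := by
    constructor
    intro W m₁ m₂ h
    have h1 : m₁ ≫ c.left = m₂ ≫ c.left := by
      have := congrArg (· ≫ pullback.fst g₁ g₁) h
      simpa only [Category.assoc, hm1] using this
    have h2 : m₁ ≫ (hae₀.rep.snd a₀).left = m₂ ≫ (hae₀.rep.snd a₀).left := by
      have := congrArg (· ≫ pullback.snd g₁ g₁) h
      simpa only [Category.assoc, hm2] using this
    have hw : m₂ ≫ (hae₀.rep.pullback a₀).hom = m₁ ≫ (hae₀.rep.pullback a₀).hom := by
      rw [← Over.w (hae₀.rep.snd a₀), ← Category.assoc, ← h2, Category.assoc]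
    let m₁' : Over.mk (m₁ ≫ (hae₀.rep.pullback a₀).hom) ⟶ hae₀.rep.pullback a₀ := Over.homMk m₁ rfl
    let m₂' : Over.mk (m₁ ≫ (hae₀.rep.pullback a₀).hom) ⟶ hae₀.rep.pullback a₀ := Over.homMk m₂ hw
    have := hom_ext_R sq (ρ₁ := m₁') (ρ₂ := m₂') (Over.OverMorphism.ext h1) (Over.OverMorphism.ext h2)
    exact congrArg CommaMorphism.left this
  have hT : Finite ↥(pullback g₁ g₁) := finite_of_etale_over_field (pullback.fst g₁ g₁ ≫ g₁)
  have hRfin : Finite ↥(hae₀.rep.pullback a₀).left := Finite.of_injective _ m.injective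
  have hRc : CompactSpace ↥(hae₀.rep.pullback a₀).left := Finite.compactSpace
  -- dimension 0
  have hdim : ringKrullDim ↥((overOpen U O).left.presheaf.stalk (⟨u, huO⟩ : ↥O)) = 0 := by
    rw [EtDim.ringKrullDim_stalk_eq_of_etale g₁ (⟨u, huO⟩ : ↥O), ringKrullDim_stalk_eq_coheight]
    have hmax : IsMax (g₁ (⟨u, huO⟩ : ↥O)) := fun b _ =>
      le_of_eq (Subsingleton.elim (α := PrimeSpectrum k) _ _)
    rw [Order.coheight_eq_zero.2 hmax]
    rfl
  have hmem := mem_schLocus_of_codim_zero hX a₀ hae₀ sq (⟨u, huO⟩ : ↥O) hdim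
  rw [ha₀, ofPt_restrict] at hmem
  rw [← hu]
  exact hmem

end Groth.Agent.Lib.Helper16.SchLocus
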