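import Groth.Agent.Lib.Helper16.ZmtSp5
import Groth.Agent.Lib.Helper17.AlgSpUnram
import Groth.Agent.Lib.Helper16.SchLocusField
import Groth.Agent.Lib.Helper16.LocPGen
import Groth.Agent.Lib.Helper16.DimZero
import Groth.Agent.Lib.Helper16.FibreProduct
import Groth.Agent.Lib.Helper16.EtLocal
import Groth.Agent.Lib.Helper16.FpqcCover

/-!
# Helper library (helper16): a sheaf with a representable etale surjective chart is an algebraic space

The diagonal of a sheaf `F` receiving an "etale locally liftable" chart `q : h_U ⟶ F` whose kernel pair is an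
algebraic space locally of finite type over `U` is representable: the pullback of the diagonal to a scheme `T` is,
etale locally on `T`, a monomorphism locally of finite type into a scheme, hence a scheme (separated and locally
quasi-finite over a scheme), and so is the pullback itself.
-/

set_option autoImplicit false
universe u
open CategoryTheory CategoryTheory.Limits AlgebraicGeometry Opposite Topology MorphismProperty

namespace Groth.Agent.Lib.Helper16.EtChart

open AlgSp Groth.Agent.Lib.Helper15 Groth.Agent.Lib.Helper16 Groth.Agent.Lib.Helper16.SchLocus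

variable {S : Scheme.{u}}

/-- A monomorphism locally of finite type is locally quasi-finite. -/
theorem locP_lqf_of_mono_lft {X Y : Sp S} (hX : IsAlgSpace X) (hY : IsAlgSpace Y) (j : X ⟶ Y) [Mono j]
    (hlft : LocP @LocallyOfFiniteType j) : LocP (@LocallyQuasiFinite ⊓ @LocallyOfFiniteType) j := by
  have : (RepWith (S := S) @IsOpenImmersion).RespectsIso :=
    MorphismProperty.IsStableUnderBaseChange.respectsIso
  have hΔ : RepWith @IsOpenImmersion (pullback.diagonal j) :=
    (RepWith (S := S) @IsOpenImmersion).of_isIso (pullback.diagonal j)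
  have hu := Helper17.locP_unramified_of_diagonal hX hY j hlft hΔ
  intro U V a b m ha hb comm
  obtain ⟨h1, h2⟩ := hu a b m ha hb comm
  have : LocallyOfFiniteType m.left := h1
  have : FormallyUnramified m.left := h2
  exact ⟨locallyQuasiFinite_of_unramified m.left, h1⟩

/-- An algebraic space with a monomorphism locally of finite type to a scheme is a scheme. -/
theorem exists_iso_yon_of_mono_lft {T : Over S} {Z : Sp S} (hZ : IsAlgSpace Z) (j : Z ⟶ (yon S).obj T)
    [Mono j] (hlft : LocP @LocallyOfFiniteType j) : ∃ M : Over S, Nonempty ((yon S).obj M ≅ Z) := by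
  have hqf := locP_lqf_of_mono_lft hZ (IsAlgSpace.yon_obj T) j hlft
  have hsep := ZmtSp.isSeparatedMor_of_mono j
  exact exists_iso_yon_of_isRepresentable
    (isRepresentable_of_forall_mem_schLocus hZ
      (fun x => ZmtSp.mem_schLocus_of_lqf_separated hZ j hqf hsep x))

/-- The kernel pair of `a`, `b` mapped to the product of the sources is a base change of the diagonal. -/
theorem isPullback_diag_of_isPullback' {X R : Sp S} {A B : Over S} (a : (yon S).obj A ⟶ X)
    (b : (yon S).obj B ⟶ X) (r₁ : R ⟶ (yon S).obj A) (r₂ : R ⟶ (yon S).obj B)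
    (sqR : IsPullback r₁ r₂ a b)
    (A₀ : A ⟶ Over.mk (𝟙 S)) (B₀ : B ⟶ Over.mk (𝟙 S)) (m : R ⟶ (yon S).obj (pullback A₀ B₀))
    (hm1 : m ≫ (yon S).map (pullback.fst A₀ B₀) = r₁)
    (hm2 : m ≫ (yon S).map (pullback.snd A₀ B₀) = r₂) :
    IsPullback (r₁ ≫ a) m (Limits.diag X)
      (prod.lift ((yon S).map (pullback.fst A₀ B₀) ≫ a) ((yon S).map (pullback.snd A₀ B₀) ≫ b)) := by
  have sq₀ := (IsPullback.of_hasPullback A₀ B₀).map (yon S)
  refine isPullback_of_exists_lift ?_ ?_ ?_
  · apply Limits.prod.hom_ext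
    · simp only [Category.assoc, prod.lift_fst, Category.comp_id]
      rw [← Category.assoc m, hm1]
    · simp only [Category.assoc, prod.lift_snd, Category.comp_id]
      rw [← Category.assoc m, hm2]
      exact sqR.w
  · intro Q c d h
    have hc1 : c = d ≫ (yon S).map (pullback.fst A₀ B₀) ≫ a := by
      have := congrArg (· ≫ prod.fst) h
      simpa only [Category.assoc, prod.lift_fst, Category.comp_id] using this
    have hc2 : c = d ≫ (yon S).map (pullback.snd A₀ B₀) ≫ b := by
      have := congrArg (· ≫ prod.snd) h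
      simpa only [Category.assoc, prod.lift_snd, Category.comp_id] using this
    have hw : (d ≫ (yon S).map (pullback.fst A₀ B₀)) ≫ a =
        (d ≫ (yon S).map (pullback.snd A₀ B₀)) ≫ b := by
      rw [Category.assoc, Category.assoc, ← hc1, ← hc2]
    refine ⟨sqR.lift _ _ hw, ?_, ?_⟩
    · rw [← Category.assoc, sqR.lift_fst, Category.assoc, ← hc1]
    · apply sq₀.hom_ext
      · rw [Category.assoc, hm1, sqR.lift_fst]
      · rw [Category.assoc, hm2, sqR.lift_snd]
  · intro Q l l' _ h2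
    apply sqR.hom_ext
    · have := congrArg (· ≫ (yon S).map (pullback.fst A₀ B₀)) h2
      simpa only [Category.assoc, hm1] using this
    · have := congrArg (· ≫ (yon S).map (pullback.snd A₀ B₀)) h2
      simpa only [Category.assoc, hm2] using this

/-- The diagonal of the source of a monomorphism is a base change of the diagonal of the target. -/
theorem isPullback_diag_of_mono {C : Type*} [Category C] [HasBinaryProducts C] {Z Y : C} (m : Z ⟶ Y)
    [Mono m] : IsPullback m (Limits.diag Z) (Limits.diag Y) (prod.map m m) := by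
  refine isPullback_of_exists_lift ?_ ?_ ?_
  · apply Limits.prod.hom_ext
    · simp only [Limits.diag, Category.assoc, prod.lift_fst, prod.map_fst, Category.comp_id]
      rw [← Category.assoc, prod.lift_fst, Category.id_comp]
    · simp only [Limits.diag, Category.assoc, prod.lift_snd, prod.map_snd, Category.comp_id]
      rw [← Category.assoc, prod.lift_snd, Category.id_comp]
  · intro Q a b h
    have h1 : a = (b ≫ prod.fst) ≫ m := by
      have := congrArg (· ≫ prod.fst) h
      simpa only [Limits.diag, Category.assoc, prod.lift_fst, prod.map_fst, Category.comp_id] using this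
    have h2 : a = (b ≫ prod.snd) ≫ m := by
      have := congrArg (· ≫ prod.snd) h
      simpa only [Limits.diag, Category.assoc, prod.lift_snd, prod.map_snd, Category.comp_id] using this
    have h3 : b ≫ prod.fst = b ≫ prod.snd := (cancel_mono m).1 (h1.symm.trans h2)
    refine ⟨b ≫ prod.fst, h1.symm, ?_⟩
    apply Limits.prod.hom_ext
    · simp only [Limits.diag, Category.assoc, prod.lift_fst, Category.comp_id]
    · simp only [Limits.diag, Category.assoc, prod.lift_snd, Category.comp_id]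
      exact h3
  · intro Q l l' h _
    exact (cancel_mono m).1 h

/-- **Representability of the diagonal from an etale locally liftable chart.** -/
theorem representable_diag_of_chart {F R : Sp S} {U : Over S} (q : (yon S).obj U ⟶ F)
    (hlift : ∀ ⦃T : Over S⦄ (ξ : (yon S).obj T ⟶ F), ∃ (T' : Over S) (e : T' ⟶ T) (u : T' ⟶ U),
      Etale e.left ∧ Surjective e.left ∧ (yon S).map u ≫ q = (yon S).map e ≫ ξ)
    (hR : IsAlgSpace R) (r₁ r₂ : R ⟶ (yon S).obj U) (sqR : IsPullback r₁ r₂ q q)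
    (hr : LocP @LocallyOfFiniteType r₂) : Representable (Limits.diag F) := by
  intro T g
  obtain ⟨T₁, e₁, u₁, he₁, hs₁, hu₁⟩ := hlift (g ≫ prod.fst)
  obtain ⟨T', e₂, v₂, he₂, hs₂, hv₂⟩ := hlift ((yon S).map e₁ ≫ g ≫ prod.snd)
  obtain ⟨e, he_def⟩ : ∃ e : T' ⟶ T, e = e₂ ≫ e₁ := ⟨_, rfl⟩
  obtain ⟨v₁, hv₁_def⟩ : ∃ v₁ : T' ⟶ U, v₁ = e₂ ≫ u₁ := ⟨_, rfl⟩
  have hee : Etale e.left := by
    rw [he_def, Over.comp_left]; infer_instance
  have hes : Surjective e.left := by
    rw [he_def, Over.comp_left]; infer_instance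
  have hv₁ : (yon S).map v₁ ≫ q = (yon S).map e ≫ g ≫ prod.fst := by
    rw [hv₁_def, he_def, Functor.map_comp, Functor.map_comp, Category.assoc, hu₁, Category.assoc]
  have hv₂' : (yon S).map v₂ ≫ q = (yon S).map e ≫ g ≫ prod.snd := by
    rw [hv₂, he_def, Functor.map_comp, Category.assoc]
  -- `U ×_S U`
  obtain ⟨U₀, -⟩ : ∃ U₀ : U ⟶ Over.mk (𝟙 S), True := ⟨Over.mkIdTerminal.from U, trivial⟩
  have sq₀ := (IsPullback.of_hasPullback U₀ U₀).map (yon S)
  obtain ⟨m, hm_def⟩ : ∃ m : R ⟶ (yon S).obj (pullback U₀ U₀),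
      m = sq₀.lift r₁ r₂ (DimZero.hom_yon_terminal_ext _ _) := ⟨_, rfl⟩
  have hm1 : m ≫ (yon S).map (pullback.fst U₀ U₀) = r₁ := by rw [hm_def]; exact sq₀.lift_fst _ _ _
  have hm2 : m ≫ (yon S).map (pullback.snd U₀ U₀) = r₂ := by rw [hm_def]; exact sq₀.lift_snd _ _ _
  have sqD := isPullback_diag_of_isPullback' q q r₁ r₂ sqR U₀ U₀ m hm1 hm2
  have hmono : Mono m := sqD.mono_snd_of_mono
  have hm_lft : LocP @LocallyOfFiniteType m := by
    refine locP_lft_of_comp (IsAlgSpace.yon_obj U) m ((yon S).map (pullback.snd U₀ U₀)) ?_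
    rw [hm2]; exact hr
  -- the point `w` of `U ×_S U`
  obtain ⟨w, hw1, hw2⟩ : ∃ w : T' ⟶ pullback U₀ U₀,
      w ≫ pullback.fst U₀ U₀ = v₁ ∧ w ≫ pullback.snd U₀ U₀ = v₂ :=
    ⟨pullback.lift v₁ v₂ (Over.mkIdTerminal.hom_ext _ _), pullback.lift_fst _ _ _, pullback.lift_snd _ _ _⟩
  obtain ⟨G, hG_def⟩ : ∃ G : (yon S).obj (pullback U₀ U₀) ⟶ F ⨯ F,
      G = prod.lift ((yon S).map (pullback.fst U₀ U₀) ≫ q) ((yon S).map (pullback.snd U₀ U₀) ≫ q) :=
    ⟨_, rfl⟩
  rw [← hG_def] at sqD
  have hwG : (yon S).map w ≫ G = (yon S).map e ≫ g := by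
    rw [hG_def]
    apply Limits.prod.hom_ext
    · rw [Category.assoc, prod.lift_fst, ← Category.assoc, ← Functor.map_comp, hw1, hv₁, Category.assoc]
    · rw [Category.assoc, prod.lift_snd, ← Category.assoc, ← Functor.map_comp, hw2, hv₂', Category.assoc]
  -- `Z₁ = T' ×_{U × U} R`
  obtain ⟨Z₁, p₁, p₂, sqZ₁⟩ : ∃ (Z₁ : Sp S) (p₁ : Z₁ ⟶ (yon S).obj T') (p₂ : Z₁ ⟶ R),
      IsPullback p₁ p₂ ((yon S).map w) m := ⟨_, _, _, IsPullback.of_hasPullback _ _⟩
  have hZ₁ : IsAlgSpace Z₁ :=
    isAlgSpace_of_isPullback (IsAlgSpace.yon_obj T') (IsAlgSpace.yon_obj _).diag hR sqZ₁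
  have hp₁mono : Mono p₁ := sqZ₁.mono_fst_of_mono
  have hp₁lft : LocP @LocallyOfFiniteType p₁ :=
    locP_of_isPullback etLocalST_locallyOfFiniteType hR (IsAlgSpace.yon_obj _) sqZ₁.flip hm_lft
  obtain ⟨M₁, ⟨ε₁⟩⟩ := exists_iso_yon_of_mono_lft hZ₁ p₁ hp₁lft
  obtain ⟨μ, hμ⟩ := (yon S).map_surjective (ε₁.hom ≫ p₁)
  have hriE : (RepWith (S := S) @Etale).RespectsIso := MorphismProperty.IsStableUnderBaseChange.respectsIso
  have hriS : (RepWith (S := S) @Surjective).RespectsIso :=
    MorphismProperty.IsStableUnderBaseChange.respectsIso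
  have hμlft : LocallyOfFiniteType μ.left := by
    refine hp₁lft ε₁.hom (𝟙 _) μ ((RepWith (S := S) @Etale).of_isIso ε₁.hom) (repWith_id _ T') ?_
    rw [hμ, Category.comp_id]
  have sqA : IsPullback (p₂ ≫ r₁ ≫ q) p₁ (Limits.diag F) ((yon S).map e ≫ g) := by
    have := sqZ₁.flip.paste_horiz sqD
    rwa [hwG] at this
  -- `Z = F ×_{F × F} T`
  obtain ⟨Z, fstZ, sndZ, sqZ⟩ : ∃ (Z : Sp S) (fstZ : Z ⟶ F) (sndZ : Z ⟶ (yon S).obj T),
      IsPullback fstZ sndZ (Limits.diag F) g := ⟨_, _, _, IsPullback.of_hasPullback _ _⟩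
  have hsndmono : Mono sndZ := sqZ.mono_snd_of_mono
  obtain ⟨l, hl1, hl2⟩ : ∃ l : Z₁ ⟶ Z, l ≫ fstZ = p₂ ≫ r₁ ≫ q ∧ l ≫ sndZ = p₁ ≫ (yon S).map e :=
    ⟨sqZ.lift (p₂ ≫ r₁ ≫ q) (p₁ ≫ (yon S).map e) (by rw [sqA.w, Category.assoc]),
      sqZ.lift_fst _ _ _, sqZ.lift_snd _ _ _⟩
  have sq₁ : IsPullback l p₁ sndZ ((yon S).map e) := by
    refine IsPullback.of_right ?_ hl2 sqZ
    rw [hl1]; exact sqA
  have hl_e : RepWith @Etale l :=
    (RepWith (S := S) @Etale).of_isPullback sq₁.flip ((repWith_yon_map_iff _ _).2 hee)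
  have hl_s : RepWith @Surjective l :=
    (RepWith (S := S) @Surjective).of_isPullback sq₁.flip ((repWith_yon_map_iff _ _).2 hes)
  have ha_e : RepWith @Etale (ε₁.hom ≫ l) :=
    (MorphismProperty.cancel_left_of_respectsIso (RepWith @Etale) ε₁.hom l).2 hl_e
  have ha_s : RepWith @Surjective (ε₁.hom ≫ l) :=
    (MorphismProperty.cancel_left_of_respectsIso (RepWith @Surjective) ε₁.hom l).2 hl_s
  have hZ : IsAlgSpace Z := by
    refine ⟨?_, M₁, ε₁.hom ≫ l, ha_e, ha_s⟩
    exact (Representable (S := S)).of_isPullback (isPullback_diag_of_mono sndZ) (IsAlgSpace.yon_obj T).diag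
  have hsnd_lft : LocP @LocallyOfFiniteType sndZ := by
    refine locP_of_chart etLocalST_locallyOfFiniteType sndZ (ε₁.hom ≫ l) ((yon S).map e) μ ha_e ha_s
      ((repWith_yon_map_iff _ _).2 hee) ?_ hμlft
    rw [Category.assoc, hl2, ← Category.assoc, hμ]
  obtain ⟨M, ⟨ε⟩⟩ := exists_iso_yon_of_mono_lft hZ sndZ hsnd_lft
  obtain ⟨s, hs⟩ := (yon S).map_surjective (ε.hom ≫ sndZ)
  refine ⟨M, s, ε.hom ≫ fstZ, ?_⟩
  have h1 : IsPullback ε.hom ((yon S).map s) sndZ (𝟙 _) :=
    IsPullback.of_horiz_isIso ⟨by rw [hs, Category.comp_id]⟩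
  have h2 := h1.paste_horiz sqZ
  rwa [Category.id_comp] at h2

/-- A sheaf with a representable etale surjective map from a scheme is an algebraic space. -/
theorem isAlgSpace_of_etale_chart {F : Sp S} {U : Over S} (p : (yon S).obj U ⟶ F)
    (hpe : RepWith @Etale p) (hps : RepWith @Surjective p) : IsAlgSpace F := by
  refine ⟨?_, U, p, hpe, hps⟩
  obtain ⟨R₀, r₂, r₁, sqR⟩ := hpe.rep p
  have hr₂ : Etale r₂.left := hpe.property _ _ _ sqR
  refine representable_diag_of_chart p ?_ (IsAlgSpace.yon_obj R₀) r₁ ((yon S).map r₂) sqR ?_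
  · intro T ξ
    obtain ⟨T', e, u₀, sq⟩ := hpe.rep ξ
    obtain ⟨u, rfl⟩ := (yon S).map_surjective u₀
    exact ⟨T', e, u, hpe.property _ _ _ sq, hps.property _ _ _ sq, sq.w⟩
  · exact locP_of_repWith_etale etLocalST_locallyOfFiniteType (IsAlgSpace.yon_obj R₀)
      (IsAlgSpace.yon_obj U) _ ((repWith_yon_map_iff _ _).2 hr₂)

/-- A sheaf with a representable etale surjective map from an algebraic space is an algebraic space. -/
theorem isAlgSpace_of_repWith_etale_surjective {X F : Sp S} (hX : IsAlgSpace X) (f : X ⟶ F)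
    (he : RepWith @Etale f) (hs : RepWith @Surjective f) : IsAlgSpace F := by
  obtain ⟨U, a, hae, has⟩ := hX.atlas
  exact isAlgSpace_of_etale_chart (a ≫ f) ((RepWith (S := S) @Etale).comp_mem _ _ hae he)
    ((RepWith (S := S) @Surjective).comp_mem _ _ has hs)

/-- A sheaf with a map from an algebraic space which is representable by algebraic spaces, etale and surjective is an
algebraic space. -/
theorem isAlgSpace_of_repBySp_etale_surjective {X F : Sp S} (hX : IsAlgSpace X) (p : X ⟶ F)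
    (hp : ∀ ⦃U : Over S⦄ (ξ : (yon S).obj U ⟶ F) ⦃F' : Sp S⦄ (fst : F' ⟶ X) (snd : F' ⟶ (yon S).obj U),
      IsPullback fst snd p ξ → IsAlgSpace F' ∧ (IsSurjectiveMor ⊓ IsEtaleMor) snd) : IsAlgSpace F := by
  obtain ⟨U, a, hae, has⟩ := hX.atlas
  obtain ⟨q, hq⟩ : ∃ q : (yon S).obj U ⟶ F, q = a ≫ p := ⟨_, rfl⟩
  have key : ∀ ⦃T : Over S⦄ (ξ : (yon S).obj T ⟶ F) ⦃V : Over S⦄ (v : (yon S).obj V ⟶ (yon S).obj U)
      (s : V ⟶ T), IsPullback v ((yon S).map s) q ξ → Etale s.left ∧ Surjective s.left := by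
    intro T ξ V v s sq
    obtain ⟨hP, hPs, hPe⟩ := hp ξ (pullback.fst p ξ) (pullback.snd p ξ) (IsPullback.of_hasPullback p ξ)
    obtain ⟨k, hk1, hk2⟩ : ∃ k : (yon S).obj V ⟶ pullback p ξ,
        k ≫ pullback.fst p ξ = v ≫ a ∧ k ≫ pullback.snd p ξ = (yon S).map s :=
      ⟨pullback.lift (v ≫ a) ((yon S).map s) (by rw [Category.assoc, ← hq]; exact sq.w),
        pullback.lift_fst _ _ _, pullback.lift_snd _ _ _⟩
    have sqk : IsPullback v k a (pullback.fst p ξ) := by
      refine IsPullback.of_bot ?_ hk1.symm (IsPullback.of_hasPullback p ξ)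
      rw [hk2, ← hq]; exact sq
    have hk_e : RepWith @Etale k := (RepWith (S := S) @Etale).of_isPullback sqk hae
    have hk_s : RepWith @Surjective k := (RepWith (S := S) @Surjective).of_isPullback sqk has
    have h1 : RepWith @Etale (k ≫ pullback.snd p ξ) := hPe k hk_e
    rw [hk2] at h1
    refine ⟨(repWith_yon_map_iff _ _).1 h1, ?_⟩
    refine (repWith_yon_map_iff _ _).1 ((repWith_surjective_iff _ (representable_yon_map s)).2 ?_)
    intro y
    obtain ⟨z, hz⟩ := hPs y
    obtain ⟨x, hx⟩ := (repWith_surjective_iff k hk_e.rep).1 hk_s z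
    exact ⟨x, by rw [← hk2, Points.map_comp, hx, hz]⟩
  have hlift : ∀ ⦃T : Over S⦄ (ξ : (yon S).obj T ⟶ F), ∃ (T' : Over S) (e : T' ⟶ T) (u : T' ⟶ U),
      Etale e.left ∧ Surjective e.left ∧ (yon S).map u ≫ q = (yon S).map e ≫ ξ := by
    intro T ξ
    obtain ⟨hP, hPs, hPe⟩ := hp ξ (pullback.fst p ξ) (pullback.snd p ξ) (IsPullback.of_hasPullback p ξ)
    obtain ⟨W, c, hce, hcs⟩ := hP.atlas
    have h1 : RepWith @Etale (c ≫ pullback.snd p ξ) := hPe c hce
    obtain ⟨e', he'⟩ := (yon S).map_surjective (c ≫ pullback.snd p ξ)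
    rw [← he'] at h1
    have he'e : Etale e'.left := (repWith_yon_map_iff _ _).1 h1
    have he's : Surjective e'.left := by
      refine (repWith_yon_map_iff _ _).1 ((repWith_surjective_iff _ (representable_yon_map e')).2 ?_)
      intro y
      obtain ⟨z, hz⟩ := hPs y
      obtain ⟨x, hx⟩ := (repWith_surjective_iff c hce.rep).1 hcs z
      exact ⟨x, by rw [he', Points.map_comp, hx, hz]⟩
    obtain ⟨W', e'', u₀, sq⟩ := hae.rep (c ≫ pullback.fst p ξ)
    obtain ⟨u, rfl⟩ := (yon S).map_surjective u₀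
    have he''e : Etale e''.left := hae.property _ _ _ sq
    have he''s : Surjective e''.left := has.property _ _ _ sq
    refine ⟨W', e'' ≫ e', u, ?_, ?_, ?_⟩
    · rw [Over.comp_left]; infer_instance
    · rw [Over.comp_left]; infer_instance
    · rw [hq, ← Category.assoc, sq.w, Functor.map_comp, he']
      simp only [Category.assoc]
      rw [pullback.condition]
  obtain ⟨hPU, -, hPUe⟩ := hp q (pullback.fst p q) (pullback.snd p q) (IsPullback.of_hasPullback p q)
  have sqA := IsPullback.of_hasPullback a (pullback.fst p q)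
  have hR : IsAlgSpace (pullback a (pullback.fst p q)) :=
    isAlgSpace_of_isPullback (IsAlgSpace.yon_obj U) hX.diag hPU sqA
  have sqR : IsPullback (pullback.snd a (pullback.fst p q) ≫ pullback.snd p q)
      (pullback.fst a (pullback.fst p q)) q q := by
    have := sqA.flip.paste_horiz (IsPullback.of_hasPullback p q).flip
    rwa [← hq] at this
  have h_snd₂ : LocP @LocallyOfFiniteType (pullback.snd a (pullback.fst p q)) :=
    locP_of_repWith_etale etLocalST_locallyOfFiniteType hR hPU _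
      ((RepWith (S := S) @Etale).of_isPullback sqA hae)
  have h_snd₁ : LocP @LocallyOfFiniteType (pullback.snd p q) := by
    have h := (isEtaleMor_iff_locP_etale (IsAlgSpace.yon_obj U) _).1 hPUe
    intro V W a' b' h' ha' hb' c'
    have : Etale h'.left := h a' b' h' ha' hb' c'
    infer_instance
  have hr := locP_comp etLocalST_locallyOfFiniteType hR hPU (IsAlgSpace.yon_obj U) _ _ h_snd₂ h_snd₁
  have hdiag := representable_diag_of_chart q hlift hR _ _ sqR.flip hr
  have hqrep : Representable q := Functor.relativelyRepresentable.of_diag hdiag q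
  exact ⟨hdiag, U, q, ⟨hqrep, fun T V ξ v s sq => (key ξ v s sq).1⟩,
    ⟨hqrep, fun T V ξ v s sq => (key ξ v s sq).2⟩⟩

end Groth.Agent.Lib.Helper16.EtChart
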