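import Groth.Agent.Lib.Helper16.SpCoprod

/-!
# Helper library (helper16): representability is local for open-closed decompositions of the target
-/

set_option autoImplicit false
universe u w
open CategoryTheory CategoryTheory.Limits AlgebraicGeometry Opposite

namespace Groth.Agent.Lib.Helper16.SpCoprod

open AlgSp Groth.Agent.Lib.Helper16

variable {S : Scheme.{u}}

section Sigma

variable {ι : Type w} [Small.{u} ι] (W : ι → Over S)

/-- The coproduct of a family of schemes over `S`. -/
noncomputable def sig : Over S := Over.mk (Sigma.desc fun i => (W i).hom)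

/-- The coprojections. -/
noncomputable def sigι (i : ι) : W i ⟶ sig W :=
  Over.homMk (Sigma.ι (fun i => (W i).left) i) (by simp [sig])

@[simp] theorem sigι_left (i : ι) : (sigι W i).left = Sigma.ι (fun i => (W i).left) i := rfl

instance (i : ι) : IsOpenImmersion (sigι W i).left :=
  inferInstanceAs (IsOpenImmersion (Sigma.ι (fun i => (W i).left) i))

theorem sig_cover (x : (sig W).left) : ∃ i, x ∈ Set.range (sigι W i).left := by
  obtain ⟨i, y, hy⟩ := (sigmaOpenCover (fun i => (W i).left)).exists_eq x
  exact ⟨i, y, hy⟩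

theorem sig_disjoint (i j : ι) (hij : i ≠ j) :
    Disjoint (Set.range (sigι W i).left) (Set.range (sigι W j).left) := by
  have := disjoint_opensRange_sigmaι (fun i => (W i).left) i j hij
  rw [Set.disjoint_iff]
  rintro x ⟨hx1, hx2⟩
  exact (disjoint_iff.1 this).le (show x ∈ ((Sigma.ι (fun i => (W i).left) i).opensRange ⊓
    (Sigma.ι (fun i => (W i).left) j).opensRange : (∐ fun i => (W i).left).Opens) from ⟨hx1, hx2⟩)

/-- `h` of the coproduct is the coproduct of sheaves. -/
theorem isColimit_sig :
    Nonempty (IsColimit (Cofan.mk ((yon S).obj (sig W)) (fun i : ι => (yon S).map (sigι W i)))) :=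
  isColimit_cofan_yon_of_disjoint_open_cover W (sigι W)
    (fun _ => inferInstance) (sig_cover W) (sig_disjoint W)

/-- Morphisms out of the coproduct. -/
noncomputable def sigDesc {T : Over S} (r : ∀ i, W i ⟶ T) : sig W ⟶ T :=
  Over.homMk (Sigma.desc fun i => (r i).left) (by
    apply Sigma.hom_ext
    intro i
    simp [sig])

@[reassoc (attr := simp)]
theorem sigι_desc {T : Over S} (r : ∀ i, W i ⟶ T) (i : ι) : sigι W i ≫ sigDesc W r = r i := by
  ext1
  simp only [Over.comp_left, sigι_left, sigDesc, Over.homMk_left]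
  exact Sigma.ι_desc _ _

/-- A property local at the source holds for a morphism out of a coproduct if it holds on each summand. -/
theorem sigDesc_prop {P : MorphismProperty Scheme.{u}} [IsZariskiLocalAtSource P] {T : Over S}
    (r : ∀ i, W i ⟶ T) (h : ∀ i, P (r i).left) : P (sigDesc W r).left := by
  change P (Sigma.desc fun i => (r i).left)
  rw [IsZariskiLocalAtSource.iff_of_openCover (P := P) (sigmaOpenCover fun i => (W i).left)]
  intro i
  have : (sigmaOpenCover fun i => (W i).left).f i ≫ (Sigma.desc fun i => (r i).left) = (r i).left := by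
    simp only [sigmaOpenCover_f]
    exact Sigma.ι_desc _ _
  rw [this]
  exact h i

theorem sigDesc_surjective {T : Over S} (r : ∀ i, W i ⟶ T)
    (h : ∀ x : T.left, ∃ i, x ∈ Set.range (r i).left) : Surjective (sigDesc W r).left := by
  refine ⟨fun x => ?_⟩
  obtain ⟨i, y, hy⟩ := h x
  refine ⟨(sigι W i).left y, ?_⟩
  rw [← Scheme.Hom.comp_apply, ← Over.comp_left, sigι_desc]
  exact hy

end Sigma

/-- **Representability is local for disjoint open decompositions of the target.** -/
theorem exists_isPullback_of_decomposition {A B : Sp S} (f : A ⟶ B) {T : Over S} (t : (yon S).obj T ⟶ B)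
    {ι : Type w} [Small.{u} ι] [HasColimitsOfShape (Discrete ι) (Type (u + 1))]
    (V : ι → Over S) (g : ∀ i, V i ⟶ T) (hopen : ∀ i, IsOpenImmersion (g i).left)
    (hsurj : ∀ x : T.left, ∃ i, x ∈ Set.range (g i).left)
    (hdisj : ∀ i j, i ≠ j → Disjoint (Set.range (g i).left) (Set.range (g j).left))
    (W : ι → Over S) (w : ∀ i, W i ⟶ V i) (a : ∀ i, (yon S).obj (W i) ⟶ A)
    (sq : ∀ i, IsPullback (a i) ((yon S).map (w i)) f ((yon S).map (g i) ≫ t)) :
    ∃ a' : (yon S).obj (sig W) ⟶ A,
      IsPullback a' ((yon S).map (sigDesc W fun i => w i ≫ g i)) f t ∧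
      ∀ i, (yon S).map (sigι W i) ≫ a' = a i := by
  obtain ⟨hT⟩ := isColimit_cofan_yon_of_disjoint_open_cover V g hopen hsurj hdisj
  have hVK := isVanKampen_cofan _ hT
  obtain ⟨hW⟩ := isColimit_sig W
  -- the pullback sheaf
  let b : ∀ i, (yon S).obj (W i) ⟶ pullback f t := fun i =>
    pullback.lift (a i) ((yon S).map (w i ≫ g i)) (by rw [(sq i).w, Functor.map_comp, Category.assoc])
  have hb1 : ∀ i, b i ≫ pullback.fst f t = a i := fun i => pullback.lift_fst _ _ _
  have hb2 : ∀ i, b i ≫ pullback.snd f t = (yon S).map (w i) ≫ (yon S).map (g i) := fun i => by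
    rw [← Functor.map_comp]
    exact pullback.lift_snd _ _ _
  have sqb : ∀ i, IsPullback (b i) ((yon S).map (w i)) (pullback.snd f t) ((yon S).map (g i)) := fun i => by
    refine IsPullback.of_right ?_ (hb2 i) (IsPullback.of_hasPullback f t)
    rw [hb1]
    exact sq i
  let α : Discrete.functor (fun i => (yon S).obj (W i)) ⟶ Discrete.functor (fun i => (yon S).obj (V i)) :=
    Discrete.natTrans fun i => (yon S).map (w i.as)
  have hcol : Nonempty (IsColimit (Cofan.mk (pullback f t) b)) :=
    (hVK (Cofan.mk (pullback f t) b) α (pullback.snd f t) (by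
      ext1
      ext1 ⟨i⟩
      simpa [α, Cofan.inj] using (hb2 i).symm) (NatTrans.Equifibered.of_discrete α)).2 (fun ⟨i⟩ => sqb i)
  obtain ⟨hP⟩ := hcol
  let φ : (yon S).obj (sig W) ≅ pullback f t := IsColimit.coconePointUniqueUpToIso hW hP
  have hφ : ∀ i, (yon S).map (sigι W i) ≫ φ.hom = b i := fun i =>
    IsColimit.comp_coconePointUniqueUpToIso_hom hW hP ⟨i⟩
  have hsnd : φ.hom ≫ pullback.snd f t = (yon S).map (sigDesc W fun i => w i ≫ g i) := by
    refine Cofan.IsColimit.hom_ext hW _ _ (fun i => ?_)
    simp only [Cofan.mk_pt, cofan_mk_inj]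
    rw [← Category.assoc, hφ, hb2, ← Functor.map_comp, ← Functor.map_comp, sigι_desc]
  refine ⟨φ.hom ≫ pullback.fst f t, ?_, fun i => by rw [← Category.assoc, hφ, hb1]⟩
  exact IsPullback.of_iso (IsPullback.of_hasPullback f t) φ.symm (Iso.refl _) (Iso.refl _) (Iso.refl _)
    (by simp) (by simp [← hsnd]) (by simp) (by simp)

end Groth.Agent.Lib.Helper16.SpCoprod
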