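import Groth.Agent.Lib.Helper16.AffDescCover
import Groth.Agent.Lib.Helper16.FibreProduct
import Groth.Agent.Lib.Helper16.Misc1
import Groth.Agent.Lib.Helper16.LocPFpqc

/-!
# Helper library (helper16): affine morphisms of algebraic spaces are fpqc local on the base
-/

set_option autoImplicit false
universe u
open CategoryTheory CategoryTheory.Limits AlgebraicGeometry Opposite

namespace Groth.Agent.Lib.Helper16

open AlgSp

variable {S : Scheme.{u}}

/-- Core of fpqc descent for affine-type morphisms: if the base changes of `f` to the members of a standard fpqc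
covering `c j : W j ⟶ Z` of an affine scheme are affine schemes `V j`, then the base change of `f` to `Z` is an affine
scheme `T₀`, and the `V j` are the base changes of `T₀ ⟶ Z`. -/
theorem exists_affine_rep_of_std_cover {X Y : Sp S} (hX : IsAlgSpace X) (hY : IsAlgSpace Y) (f : X ⟶ Y)
    {Z : Over S} (hZ : IsAffine Z.left) (z : (yon S).obj Z ⟶ Y) {m : ℕ} (W V : Fin m → Over S)
    (c : ∀ j, W j ⟶ Z) (hWa : ∀ j, IsAffine (W j).left) (hcf : ∀ j, Flat (c j).left)
    (hcs : ∀ z : ↥Z.left, ∃ j, z ∈ Set.range (c j).left) (hVa : ∀ j, IsAffine (V j).left)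
    (π : ∀ j, V j ⟶ W j) (b : ∀ j, (yon S).obj (V j) ⟶ X)
    (sq : ∀ j, IsPullback (b j) ((yon S).map (π j)) f ((yon S).map (c j) ≫ z)) :
    ∃ (T₀ : Over S) (i₀ : T₀ ⟶ Z) (fst : (yon S).obj T₀ ⟶ X), IsPullback fst ((yon S).map i₀) f z ∧
      IsAffine T₀.left ∧ ∀ j, ∃ k : V j ⟶ T₀, IsPullback k.left (π j).left i₀.left (c j).left := by
  have hT : IsAlgSpace (pullback f z) :=
    isAlgSpace_of_isPullback hX hY.diag (IsAlgSpace.yon_obj Z) (IsPullback.of_hasPullback f z)
  have hw : ∀ j, b j ≫ f = ((yon S).map (π j) ≫ (yon S).map (c j)) ≫ z := fun j => by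
    rw [(sq j).w, Category.assoc]
  let a : ∀ j, (yon S).obj (V j) ⟶ pullback f z := fun j =>
    pullback.lift (b j) ((yon S).map (π j) ≫ (yon S).map (c j)) (hw j)
  have sqa : ∀ j, IsPullback (a j) ((yon S).map (π j)) (pullback.snd f z) ((yon S).map (c j)) := by
    intro j
    refine IsPullback.of_right ?_ (pullback.lift_snd _ _ _) (IsPullback.of_hasPullback f z)
    rw [pullback.lift_fst]
    exact sq j
  obtain ⟨T₀, i₀, e, hT₀, he⟩ := AffDesc.exists_iso_of_std_cover hZ hT (pullback.snd f z) W V c hWa hcf hcs hVa π a sqa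
  refine ⟨T₀, i₀, e.inv ≫ pullback.fst f z, ?_, hT₀, fun j => ?_⟩
  · refine IsPullback.of_iso (IsPullback.of_hasPullback f z) e (Iso.refl _) (Iso.refl _) (Iso.refl _) ?_ ?_ ?_ ?_
    · simp
    · rw [Iso.refl_hom, Category.comp_id, he]
    · simp
    · simp
  · obtain ⟨k, hk⟩ := (yon S).map_surjective (a j ≫ e.hom)
    refine ⟨k, isPullback_left_of_yon ?_⟩
    rw [hk]
    refine IsPullback.of_iso (sqa j) (Iso.refl _) e (Iso.refl _) (Iso.refl _) ?_ ?_ ?_ ?_
    · simp
    · simp
    · rw [Iso.refl_hom, Category.comp_id, he]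
    · simp

/-- Affine morphisms descend along families satisfying the refinement clause of fpqc coverings. -/
theorem isAffineMor_of_fpqcRefines {ι : Type u} {Y : Sp S} (hY : IsAlgSpace Y) (Yi : ι → Sp S)
    (g : ∀ i, Yi i ⟶ Y) (href : FpqcRefines Yi g) {X : Sp S} (hX : IsAlgSpace X) (f : X ⟶ Y) (Xi : ι → Sp S)
    (p : ∀ i, Xi i ⟶ Yi i) (q : ∀ i, Xi i ⟶ X) (sq : ∀ i, IsPullback (q i) (p i) f (g i))
    (hp : ∀ i, IsAffineMor (p i)) : IsAffineMor f := by
  intro Z hZ z
  obtain ⟨m, W, c, hWa, hcf, hcs, hl⟩ := href Z hZ z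
  choose i l hl using hl
  have hV := fun j => hp (i j) (hWa j) (l j)
  choose V π fstV sqV hVa using hV
  have sq' : ∀ j, IsPullback (fstV j ≫ q (i j)) ((yon S).map (π j)) f ((yon S).map (c j) ≫ z) := by
    intro j
    rw [← hl j]
    exact (sqV j).paste_horiz (sq (i j))
  obtain ⟨T₀, i₀, fst, sqT, hT₀, -⟩ := exists_affine_rep_of_std_cover hX hY f hZ z W V c hWa hcf hcs hVa π
    (fun j => fstV j ≫ q (i j)) sq'
  exact ⟨T₀, i₀, fst, sqT, hT₀⟩

/-- Affine morphisms of algebraic spaces are fpqc local on the base. -/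
theorem isLocalOnBase_fpqc_isAffineMor : IsLocalOnBase (IsFpqcCover (S := S)) IsAffineMor := by
  intro ι Y Yi g hY hYi hcov X f hX Xi p q hXi sq
  constructor
  · intro hf i
    exact isAffineMor_of_isPullback (sq i) hf
  · intro hp
    exact isAffineMor_of_fpqcRefines hY Yi g hcov.2 hX f Xi p q sq hp

end Groth.Agent.Lib.Helper16

namespace Groth.Agent.Lib.Helper16

open AlgSp

variable {S : Scheme.{u}}

/-- `f` is affine and its base changes to affine schemes have `P` (the shape of `IsIntegralMor` and `IsFiniteMor`). -/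
def AffWith (P : MorphismProperty Scheme.{u}) : MorphismProperty (Sp S) := fun F G f =>
  ∀ ⦃Z : Over S⦄, IsAffine Z.left → ∀ (g : (yon S).obj Z ⟶ G),
    ∃ (W : Over S) (i : W ⟶ Z) (fst : (yon S).obj W ⟶ F),
      IsPullback fst ((yon S).map i) f g ∧ IsAffine W.left ∧ P i.left

theorem isIntegralMor_eq_affWith : (IsIntegralMor : MorphismProperty (Sp S)) = AffWith @IsIntegralHom := rfl

theorem isFiniteMor_eq_affWith : (IsFiniteMor : MorphismProperty (Sp S)) = AffWith @IsFinite := rfl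

/-- Base change of `AffWith P`. -/
theorem affWith_of_isPullback {P : MorphismProperty Scheme.{u}} {F G F' G' : Sp S} {f : F ⟶ G} {g : G' ⟶ G}
    {fst : F' ⟶ F} {snd : F' ⟶ G'} (sq : IsPullback fst snd f g) (hf : AffWith P f) : AffWith P snd := by
  intro Z hZ z
  obtain ⟨W, i, φ, sqW, hW⟩ := hf hZ (z ≫ g)
  refine ⟨W, i, sq.lift φ ((yon S).map i ≫ z) (by rw [Category.assoc]; exact sqW.w), ?_, hW⟩
  refine IsPullback.of_right ?_ (sq.lift_snd _ _ _) sq
  rw [sq.lift_fst]
  exact sqW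

/-- `AffWith P` descends along families satisfying the refinement clause of fpqc coverings, for `P` Zariski local on the
target and satisfying fpqc descent. -/
theorem affWith_of_fpqcRefines {P : MorphismProperty Scheme.{u}} [IsZariskiLocalAtTarget P]
    [P.DescendsAlong (@Surjective ⊓ @Flat ⊓ @QuasiCompact)] {ι : Type u} {Y : Sp S} (hY : IsAlgSpace Y)
    (Yi : ι → Sp S) (g : ∀ i, Yi i ⟶ Y) (href : FpqcRefines Yi g) {X : Sp S} (hX : IsAlgSpace X) (f : X ⟶ Y)
    (Xi : ι → Sp S) (p : ∀ i, Xi i ⟶ Yi i) (q : ∀ i, Xi i ⟶ X) (sq : ∀ i, IsPullback (q i) (p i) f (g i))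
    (hp : ∀ i, AffWith P (p i)) : AffWith P f := by
  intro Z hZ z
  obtain ⟨m, W, c, hWa, hcf, hcs, hl⟩ := href Z hZ z
  choose i l hl using hl
  have hV := fun j => hp (i j) (hWa j) (l j)
  choose V π fstV sqV hVa hPπ using hV
  have sq' : ∀ j, IsPullback (fstV j ≫ q (i j)) ((yon S).map (π j)) f ((yon S).map (c j) ≫ z) := by
    intro j
    rw [← hl j]
    exact (sqV j).paste_horiz (sq (i j))
  obtain ⟨T₀, i₀, fst, sqT, hT₀, hk⟩ := exists_affine_rep_of_std_cover hX hY f hZ z W V c hWa hcf hcs hVa π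
    (fun j => fstV j ≫ q (i j)) sq'
  refine ⟨T₀, i₀, fst, sqT, hT₀, ?_⟩
  have : IsAffine Z.left := hZ
  have : ∀ j, IsAffine (W j).left := hWa
  refine of_std_fpqc_cover i₀.left (fun j => (W j).left) (fun j => (c j).left) hcf hcs (fun j => ?_)
  obtain ⟨k, hk⟩ := hk j
  exact P_snd_of_isPullback (IsPullback.of_hasPullback i₀.left (c j).left) hk (hPπ j)

/-- `AffWith P` is fpqc local on the base. -/
theorem isLocalOnBase_fpqc_affWith {P : MorphismProperty Scheme.{u}} [IsZariskiLocalAtTarget P]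
    [P.DescendsAlong (@Surjective ⊓ @Flat ⊓ @QuasiCompact)] :
    IsLocalOnBase (IsFpqcCover (S := S)) (AffWith P) := by
  intro ι Y Yi g hY hYi hcov X f hX Xi p q hXi sq
  constructor
  · intro hf i
    exact affWith_of_isPullback (sq i) hf
  · intro hp
    exact affWith_of_fpqcRefines hY Yi g hcov.2 hX f Xi p q sq hp

end Groth.Agent.Lib.Helper16
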