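import Groth.Agent.Lib.Helper16.SheafRep
import Groth.Agent.Lib.Helper16.FibreProduct
import Mathlib.CategoryTheory.Limits.Preserves.Shapes.Equalizers

/-!
# Helper library (helper16): a sheaf with a representable map to an algebraic space is an algebraic space
-/

set_option autoImplicit false
universe u
open CategoryTheory CategoryTheory.Limits AlgebraicGeometry Opposite
open AlgSp

namespace Groth.Agent.Lib.Helper16

variable {S : Scheme.{u}}

/-- If `a : G ⟶ X` is representable and `t : h_T ⟶ G` is such that `t ≫ a` is representable, then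
`t` is representable. -/
theorem representable_of_comp {G X : Sp S} {a : G ⟶ X} (ha : Representable a) {T : Over S}
    (t : (yon S).obj T ⟶ G) (hta : Representable (t ≫ a)) : Representable t := by
  intro T' t'
  obtain ⟨A, pA', pA₀, sqA⟩ := hta (t' ≫ a)
  obtain ⟨pA, rfl⟩ := (yon S).map_surjective pA₀
  obtain ⟨V, q, v, sqV⟩ := ha (t ≫ a)
  obtain ⟨σ, hσ⟩ := (yon S).map_surjective (sqV.lift t (𝟙 _) (by rw [Category.id_comp]))
  have hσv : (yon S).map σ ≫ v = t := by rw [hσ, sqV.lift_fst]
  have hσq : (yon S).map σ ≫ (yon S).map q = 𝟙 _ := by rw [hσ, sqV.lift_snd]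
  obtain ⟨τ, hτ⟩ := (yon S).map_surjective (sqV.lift ((yon S).map pA' ≫ t') ((yon S).map pA)
    (by rw [Category.assoc, sqA.w]))
  have hτv : (yon S).map τ ≫ v = (yon S).map pA' ≫ t' := by rw [hτ, sqV.lift_fst]
  have hτq : (yon S).map τ ≫ (yon S).map q = (yon S).map pA := by rw [hτ, sqV.lift_snd]
  have hE : IsLimit (Fork.ofι ((yon S).map (equalizer.ι (pA ≫ σ) τ))
      (by simp only [← (yon S).map_comp]; rw [equalizer.condition]) :
      Fork ((yon S).map (pA ≫ σ)) ((yon S).map τ)) :=
    isLimitOfHasEqualizerOfPreservesLimit (yon S) (pA ≫ σ) τ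
  have hEw : (yon S).map (equalizer.ι (pA ≫ σ) τ) ≫ (yon S).map (pA ≫ σ) =
      (yon S).map (equalizer.ι (pA ≫ σ) τ) ≫ (yon S).map τ := by
    simp only [← (yon S).map_comp]; rw [equalizer.condition]
  refine ⟨equalizer (pA ≫ σ) τ, equalizer.ι (pA ≫ σ) τ ≫ pA',
    (yon S).map (equalizer.ι (pA ≫ σ) τ ≫ pA), ?_⟩
  apply isPullback_of_exists_lift
  · calc (yon S).map (equalizer.ι (pA ≫ σ) τ ≫ pA) ≫ t
        = (yon S).map (equalizer.ι (pA ≫ σ) τ) ≫ (yon S).map (pA ≫ σ) ≫ v := by
          rw [(yon S).map_comp, (yon S).map_comp, Category.assoc, Category.assoc, hσv]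
      _ = (yon S).map (equalizer.ι (pA ≫ σ) τ) ≫ (yon S).map τ ≫ v := by
          rw [← Category.assoc, hEw, Category.assoc]
      _ = (yon S).map (equalizer.ι (pA ≫ σ) τ ≫ pA') ≫ t' := by
          rw [hτv, (yon S).map_comp, Category.assoc]
  · intro Q x x' hxx'
    have h1 : x ≫ (t ≫ a) = x' ≫ (t' ≫ a) := by rw [← Category.assoc, hxx', Category.assoc]
    have hl1 : sqA.lift x x' h1 ≫ (yon S).map pA = x := sqA.lift_fst _ _ _
    have hl2 : sqA.lift x x' h1 ≫ (yon S).map pA' = x' := sqA.lift_snd _ _ _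
    have h2 : sqA.lift x x' h1 ≫ (yon S).map (pA ≫ σ) = sqA.lift x x' h1 ≫ (yon S).map τ := by
      apply sqV.hom_ext
      · rw [Category.assoc, Category.assoc, hτv, (yon S).map_comp, Category.assoc, hσv,
          ← Category.assoc, ← Category.assoc, hl1, hl2, hxx']
      · rw [Category.assoc, Category.assoc, hτq, (yon S).map_comp, Category.assoc, hσq,
          Category.comp_id]
    have he : Fork.IsLimit.lift hE _ h2 ≫ (yon S).map (equalizer.ι (pA ≫ σ) τ) =
        sqA.lift x x' h1 := Fork.IsLimit.lift_ι' hE _ h2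
    refine ⟨Fork.IsLimit.lift hE _ h2, ?_, ?_⟩
    · calc Fork.IsLimit.lift hE _ h2 ≫ (yon S).map (equalizer.ι (pA ≫ σ) τ ≫ pA)
          = (Fork.IsLimit.lift hE _ h2 ≫ (yon S).map (equalizer.ι (pA ≫ σ) τ)) ≫
              (yon S).map pA := by
            rw [Category.assoc]; congr 1
        _ = x := by rw [he]; exact hl1
    · calc Fork.IsLimit.lift hE _ h2 ≫ (yon S).map (equalizer.ι (pA ≫ σ) τ ≫ pA')
          = (Fork.IsLimit.lift hE _ h2 ≫ (yon S).map (equalizer.ι (pA ≫ σ) τ)) ≫
              (yon S).map pA' := by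
            rw [Category.assoc]; congr 1
        _ = x' := by rw [he]; exact hl2
  · intro Q l l' h1 h2
    apply Fork.IsLimit.hom_ext hE
    change l ≫ (yon S).map (equalizer.ι (pA ≫ σ) τ) = l' ≫ (yon S).map (equalizer.ι (pA ≫ σ) τ)
    apply sqA.hom_ext
    · simpa only [(yon S).map_comp, Category.assoc] using h1
    · simpa only [(yon S).map_comp, Category.assoc] using h2

/-- A sheaf with a representable map to an algebraic space is an algebraic space. -/
theorem isAlgSpace_of_representable {G X : Sp S} (hX : IsAlgSpace X) (a : G ⟶ X)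
    (ha : Representable a) : IsAlgSpace G where
  diag := Functor.relativelyRepresentable.diag_of_map_from_obj fun _ t =>
    representable_of_comp ha t (hX.representable_from_yon _)
  atlas := by
    obtain ⟨U, p, h1, h2⟩ := hX.atlas
    obtain ⟨V, snd, fst, sq⟩ := ha p
    exact ⟨V, fst, (RepWith @Etale).of_isPullback sq.flip h1,
      (RepWith @Surjective).of_isPullback sq.flip h2⟩

/-- Presheaf version: a presheaf with a map representable by schemes to an algebraic space is an algebraic space. -/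
theorem isAlgSpaceP_of_relativelyRepresentable (X : AlgSp.Space S)
    (G : AlgSp.PSp S) (a : G ⟶ X.obj.obj) (ha : (AlgSp.pyon S).relativelyRepresentable a) :
    AlgSp.IsAlgSpaceP G := by
  have hG : Presheaf.IsSheaf (J S) G :=
    isSheaf_of_relativelyRepresentable S G X.obj.obj a ha X.obj.property
  refine ⟨hG, isAlgSpace_of_representable (G := ⟨G, hG⟩) X.property (ObjectProperty.homMk a) ?_⟩
  intro U g
  obtain ⟨V, snd, fst, sq⟩ := ha g.hom
  refine ⟨V, snd, ObjectProperty.homMk fst, ?_⟩
  exact IsPullback.of_map_of_faithful (sheafToPresheaf (J S) (Type (u + 1))) sq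

end Groth.Agent.Lib.Helper16
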