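import Groth.Agent.Lib.Helper16.VKSheaf
import Groth.Agent.Lib.Helper16.YonCoprod

/-!
# Helper library (helper16): coproducts of fppf sheaves over `S` and open-closed decompositions

The key construction: for a colimit cofan `c : Cofan F` of sheaves, the *index map*
`c.pt ⟶ h_D`, `D = ∐_{i} S`, whose fibre over the `i`-th copy of `S` is `F i` (van Kampen property).
-/

set_option autoImplicit false
universe u w
open CategoryTheory CategoryTheory.Limits AlgebraicGeometry Opposite

namespace Groth.Agent.Lib.Helper16.SpCoprod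

open AlgSp Groth.Agent.Lib.Helper16

variable {S : Scheme.{u}}

/-- Colimit cofans of sheaves over `S` are van Kampen. -/
theorem isVanKampen_cofan {ι : Type w} [HasColimitsOfShape (Discrete ι) (Type (u + 1))]
    {F : ι → Sp S} (c : Cofan F) (hc : IsColimit c) : IsVanKampenColimit c :=
  VK.isVanKampenColimit_cofan_sheaf (J S) c hc

section Index

variable (S) (ι : Type w) [Small.{u} ι]

/-- The index scheme `∐_{i : ι} S` over `S`. -/
noncomputable def idx : Over S := Over.mk (Sigma.desc (fun _ : ι => 𝟙 S))

/-- The terminal object `S` of `Over S`. -/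
abbrev one : Over S := Over.mk (𝟙 S)

variable {ι}

/-- The `i`-th copy of `S` in the index scheme. -/
noncomputable def idxι (i : ι) : one S ⟶ idx S ι :=
  Over.homMk (Sigma.ι (fun _ : ι => S) i) (by simp [idx])

@[simp] theorem idxι_left (i : ι) : (idxι S i).left = Sigma.ι (fun _ : ι => S) i := rfl

instance (i : ι) : IsOpenImmersion (idxι S i).left :=
  inferInstanceAs (IsOpenImmersion (Sigma.ι (fun _ : ι => S) i))

theorem idx_cover (x : (idx S ι).left) : ∃ i, x ∈ Set.range (idxι S i).left := by
  obtain ⟨i, y, hy⟩ := (sigmaOpenCover (fun _ : ι => S)).exists_eq x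
  exact ⟨i, y, hy⟩

theorem idx_disjoint (i j : ι) (hij : i ≠ j) :
    Disjoint (Set.range (idxι S i).left) (Set.range (idxι S j).left) := by
  have := disjoint_opensRange_sigmaι (fun _ : ι => S) i j hij
  rw [Set.disjoint_iff]
  rintro x ⟨hx1, hx2⟩
  exact (disjoint_iff.1 this).le (show x ∈ ((Sigma.ι (fun _ : ι => S) i).opensRange ⊓
    (Sigma.ι (fun _ : ι => S) j).opensRange : (∐ fun _ : ι => S).Opens) from ⟨hx1, hx2⟩)

/-- Each copy of `S` is closed in the index scheme. -/
theorem isClosed_range_idxι (i : ι) : IsClosed (Set.range (idxι S i).left) := by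
  have : (Set.range (idxι S i).left)ᶜ = ⋃ j ∈ {j : ι | j ≠ i}, Set.range (idxι S j).left := by
    ext x
    simp only [Set.mem_compl_iff, Set.mem_iUnion, Set.mem_ofPred_eq, exists_prop]
    constructor
    · intro hx
      obtain ⟨j, hj⟩ := idx_cover S x
      refine ⟨j, ?_, hj⟩
      rintro rfl
      exact hx hj
    · rintro ⟨j, hji, hj⟩ hx
      exact (Set.disjoint_iff.1 (idx_disjoint S j i hji)) ⟨hj, hx⟩
  rw [← isOpen_compl_iff, this]
  exact isOpen_biUnion fun j _ => (idxι S j).left.isOpenEmbedding.isOpen_range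

instance (i : ι) : IsClosedImmersion (idxι S i).left :=
  IsClosedImmersion.of_isPreimmersion _ (isClosed_range_idxι S i)

/-- `h` of the index scheme is the coproduct of copies of the terminal sheaf. -/
theorem isColimit_idx :
    Nonempty (IsColimit (Cofan.mk ((yon S).obj (idx S ι)) (fun i : ι => (yon S).map (idxι S i)))) :=
  isColimit_cofan_yon_of_disjoint_open_cover (fun _ : ι => one S) (idxι S)
    (fun _ => inferInstance) (idx_cover S) (idx_disjoint S)

/-- `h_S` is the terminal sheaf. -/
noncomputable def isTerminalOne : IsTerminal ((yon S).obj (one S)) :=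
  IsTerminal.isTerminalObj (yon S) _ Over.mkIdTerminal

end Index

section IndexMap

variable {ι : Type w} [Small.{u} ι] {F : ι → Sp S} (c : Cofan F) (hc : IsColimit c)

/-- The index map `∐ F_i ⟶ h_{∐ S}`. -/
noncomputable def idxMap : c.pt ⟶ (yon S).obj (idx S ι) :=
  Cofan.IsColimit.desc hc (fun i => (isTerminalOne S).from (F i) ≫ (yon S).map (idxι S i))

@[reassoc]
theorem inj_idxMap (i : ι) :
    c.inj i ≫ idxMap c hc = (isTerminalOne S).from (F i) ≫ (yon S).map (idxι S i) := by
  simp [idxMap]

/-- The fibre of the index map over the `i`-th copy of `S` is `F i`. -/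
theorem isPullback_idxMap [HasColimitsOfShape (Discrete ι) (Type (u + 1))] (i : ι) :
    IsPullback (c.inj i) ((isTerminalOne S).from (F i)) (idxMap c hc) ((yon S).map (idxι S i)) := by
  obtain ⟨hD⟩ := isColimit_idx S (ι := ι)
  have hVK := isVanKampen_cofan _ hD
  let α : Discrete.functor F ⟶ Discrete.functor (fun _ : ι => (yon S).obj (one S)) :=
    Discrete.natTrans fun i => (isTerminalOne S).from (F i.as)
  have h := (hVK c α (idxMap c hc) (by
    ext1
    ext1 ⟨i⟩
    simpa [α, Cofan.inj] using (inj_idxMap c hc i).symm) (NatTrans.Equifibered.of_discrete α)).1 ⟨hc⟩ ⟨i⟩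
  exact h

end IndexMap

section Decomposition

variable {ι : Type w} [Small.{u} ι] [HasColimitsOfShape (Discrete ι) (Type (u + 1))]
  {F : ι → Sp S} (c : Cofan F)

/-- **Open-closed decomposition.** A map from a scheme `T` to a coproduct `∐ F_i` of sheaves decomposes `T` into
pairwise disjoint open and closed subschemes `V_i`, with `h_{V_i} = h_T ×_{∐ F_i} F_i`. -/
theorem exists_decomposition (hc : IsColimit c) {T : Over S} (t : (yon S).obj T ⟶ c.pt) :
    ∃ (V : ι → Over S) (g : ∀ i, V i ⟶ T) (a : ∀ i, (yon S).obj (V i) ⟶ F i),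
      (∀ i, IsPullback (a i) ((yon S).map (g i)) (c.inj i) t) ∧
      (∀ i, IsOpenImmersion (g i).left ∧ IsClosedImmersion (g i).left) ∧
      (∀ x : T.left, ∃ i, x ∈ Set.range (g i).left) ∧
      (∀ i j, i ≠ j → Disjoint (Set.range (g i).left) (Set.range (g j).left)) := by
  obtain ⟨δ, hδ⟩ := (yon S).map_surjective (t ≫ idxMap c hc)
  let V : ι → Over S := fun i => Over.mk (pullback.snd (idxι S i).left δ.left ≫ T.hom)
  let g : ∀ i, V i ⟶ T := fun i => Over.homMk (pullback.snd (idxι S i).left δ.left) rfl
  let p : ∀ i, V i ⟶ one S := fun i => Over.homMk (pullback.fst (idxι S i).left δ.left) (by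
    have h1 := Over.w (idxι S i)
    have h2 := Over.w δ
    simp only [V, Over.mk_hom]
    rw [← h2, ← Category.assoc, ← pullback.condition, Category.assoc, h1]
    rfl)
  have sqO : ∀ i, IsPullback (p i) (g i) (idxι S i) δ := fun i =>
    IsPullback.of_map (Over.forget S) (Over.OverMorphism.ext pullback.condition)
      (IsPullback.of_hasPullback (idxι S i).left δ.left)
  have sqY : ∀ i, IsPullback ((yon S).map (p i)) ((yon S).map (g i)) ((yon S).map (idxι S i))
      (t ≫ idxMap c hc) := fun i => by
    rw [← hδ]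
    exact (sqO i).map (yon S)
  have hR := fun i => (isPullback_idxMap c hc i).flip
  have key : ∀ i, ∃ a : (yon S).obj (V i) ⟶ F i, a ≫ (isTerminalOne S).from (F i) = (yon S).map (p i) ∧
      a ≫ c.inj i = (yon S).map (g i) ≫ t := fun i =>
    ⟨(hR i).lift ((yon S).map (p i)) ((yon S).map (g i) ≫ t) (by rw [(sqY i).w, Category.assoc]),
      (hR i).lift_fst _ _ _, (hR i).lift_snd _ _ _⟩
  choose a ha1 ha2 using key
  refine ⟨V, g, a, fun i => ?_, fun i => ⟨?_, ?_⟩, fun x => ?_, fun i j hij => ?_⟩
  · refine IsPullback.of_right ?_ (ha2 i) (hR i)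
    rw [ha1 i]
    exact sqY i
  · exact MorphismProperty.of_isPullback (P := @IsOpenImmersion)
      (IsPullback.of_hasPullback (idxι S i).left δ.left) inferInstance
  · exact MorphismProperty.of_isPullback (P := @IsClosedImmersion)
      (IsPullback.of_hasPullback (idxι S i).left δ.left) inferInstance
  · obtain ⟨i, hi⟩ := idx_cover S (δ.left x)
    refine ⟨i, ?_⟩
    change x ∈ Set.range (pullback.snd (idxι S i).left δ.left)
    rw [Scheme.Pullback.range_snd]
    exact hi
  · change Disjoint (Set.range (pullback.snd (idxι S i).left δ.left))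
      (Set.range (pullback.snd (idxι S j).left δ.left))
    rw [Scheme.Pullback.range_snd, Scheme.Pullback.range_snd]
    exact (idx_disjoint S i j hij).preimage _

/-- The coprojections of a coproduct of sheaves are representable by open and closed immersions. -/
theorem repWith_openClosed_inj (hc : IsColimit c) (i : ι) :
    RepWith (@IsOpenImmersion ⊓ @IsClosedImmersion) (c.inj i) := by
  refine MorphismProperty.relative.of_exists fun T t => ?_
  obtain ⟨V, g, a, h1, h2, -, -⟩ := exists_decomposition c hc t
  exact ⟨V i, a i, g i, h1 i, h2 i⟩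

omit [HasColimitsOfShape (Discrete ι) (Type (u + 1))] in
/-- The scheme `T` is the coproduct of the pieces of a decomposition. -/
theorem nonempty_isColimit_of_decomposition {T : Over S} (V : ι → Over S) (g : ∀ i, V i ⟶ T)
    (hopen : ∀ i, IsOpenImmersion (g i).left) (hsurj : ∀ x : T.left, ∃ i, x ∈ Set.range (g i).left)
    (hdisj : ∀ i j, i ≠ j → Disjoint (Set.range (g i).left) (Set.range (g j).left)) :
    Nonempty (IsColimit (Cofan.mk T.left (fun i => (g i).left))) := by
  apply nonempty_isColimit_cofanMk_of
  · rw [eq_top_iff]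
    intro x _
    obtain ⟨i, hi⟩ := hsurj x
    simp only [TopologicalSpace.Opens.iSup_mk, TopologicalSpace.Opens.mem_mk, Set.mem_iUnion]
    exact ⟨i, hi⟩
  · intro i j hij
    rw [Function.onFun_apply, disjoint_iff]
    ext x
    simp only [TopologicalSpace.Opens.coe_inf, Scheme.Hom.coe_opensRange, Set.mem_inter_iff,
      TopologicalSpace.Opens.coe_bot, Set.mem_empty_iff_false, iff_false]
    rintro ⟨h1, h2⟩
    exact Set.disjoint_iff.1 (hdisj i j hij) ⟨h1, h2⟩

end Decomposition

end Groth.Agent.Lib.Helper16.SpCoprod
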