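import Groth.Agent.Lib.Helper16.FreeQuot
import Groth.Agent.Lib.Helper16.LocSurj
import Groth.Agent.Lib.Helper16.Rep
import Groth.Agent.Lib.Helper16.QuasiCompact
import Groth.Agent.Lib.Helper5.SheafGrpQuot

/-!
# Helper library (helper16): the quotient sheaf of an affine scheme over `S` by a free action of a finite group is
representable
-/

set_option autoImplicit false
set_option linter.unusedSectionVars false
universe u v
open CategoryTheory CategoryTheory.Limits AlgebraicGeometry Opposite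

namespace Groth.Agent.Lib.Helper16.FreeQuot

open AlgSp FreeAct

variable {S : Scheme.{u}} {G : Type v} [Group G] [Fintype G] [DecidableEq G]

/-- The quotient of an affine scheme over `S` by a free action of a finite group `G` (written as a right action
`φ (σ τ) = φ σ ≫ φ τ`). -/
theorem exists_quotient {W : Over S} [IsAffine W.left] (φ : G → (W ⟶ W)) (hφ1 : φ 1 = 𝟙 W)
    (hφmul : ∀ σ τ, φ (σ * τ) = φ σ ≫ φ τ)
    (hfree : ∀ σ : G, σ ≠ 1 → ∀ (K : Type u) [Field K] (x : Spec (CommRingCat.of K) ⟶ W.left),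
      x ≫ (φ σ).left ≠ x) :
    ∃ (M : Over S) (q : W ⟶ M), IsAffine M.left ∧ Flat q.left ∧ Surjective q.left ∧
      LocallyOfFinitePresentation q.left ∧ (∀ σ, φ σ ≫ q = q) ∧
      ∀ (T : Over S) (w w' : T ⟶ W), w ≫ q = w' ≫ q → ∀ t : T.left, ∃ O : T.left.Opens, t ∈ O ∧
        ∃ σ : G, overOpenι T O ≫ w' = overOpenι T O ≫ w ≫ φ σ := by
  obtain ⟨A, hA⟩ : ∃ A : CommRingCat.{u}, A = Γ(W.left, ⊤) := ⟨_, rfl⟩
  subst hA
  letI inst : MulSemiringAction G Γ(W.left, ⊤) :=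
    { smul := fun σ a => (φ σ).left.appTop.hom a
      one_smul := fun a => by
        show (φ 1).left.appTop.hom a = a
        rw [hφ1]
        simp
      mul_smul := fun σ τ a => by
        show (φ (σ * τ)).left.appTop.hom a = (φ σ).left.appTop.hom ((φ τ).left.appTop.hom a)
        rw [hφmul, Over.comp_left, Scheme.Hom.comp_appTop]
        rfl
      smul_zero := fun σ => map_zero _
      smul_add := fun σ a b => map_add _ a b
      smul_one := fun σ => map_one _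
      smul_mul := fun σ a b => map_mul _ a b }
  have hact : ∀ σ : G, actHom Γ(W.left, ⊤) σ = (φ σ).left.appTop := fun σ => by
    ext a
    rfl
  have hnat : ∀ σ : G, W.left.isoSpec.hom ≫ Spec.map (actHom Γ(W.left, ⊤) σ) = (φ σ).left ≫ W.left.isoSpec.hom :=
    fun σ => by rw [hact]; exact Scheme.isoSpec_hom_naturality _
  have hnat' : ∀ σ : G, Spec.map (actHom Γ(W.left, ⊤) σ) ≫ W.left.isoSpec.inv = W.left.isoSpec.inv ≫ (φ σ).left :=
    fun σ => by rw [hact]; exact Scheme.isoSpec_inv_naturality _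
  have hfreeA : IsFree G Γ(W.left, ⊤) := by
    intro σ hσ m hm
    by_contra hne
    push_neg at hne
    letI : Field (Γ(W.left, ⊤) ⧸ m) := Ideal.Quotient.field m
    refine hfree σ hσ (Γ(W.left, ⊤) ⧸ m)
      (Spec.map (CommRingCat.ofHom (Ideal.Quotient.mk m)) ≫ W.left.isoSpec.inv) ?_
    rw [Category.assoc, ← hnat', ← Category.assoc, ← Spec.map_comp]
    congr 2
    ext a
    exact Ideal.Quotient.eq.2 (hne a)
  have hinv : ∀ σ : G, Spec.map (actHom Γ(W.left, ⊤) σ) ≫ W.left.isoSpec.inv ≫ W.hom =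
      W.left.isoSpec.inv ≫ W.hom := fun σ => by
    rw [← Category.assoc, hnat', Category.assoc, Over.w]
  obtain ⟨h', hh'⟩ := exists_desc hfreeA (W.left.isoSpec.inv ≫ W.hom) hinv
  have hflat := flat_q hfreeA
  have hsurj := surjective_q G Γ(W.left, ⊤)
  have hlfp := lfp_q hfreeA
  have hqw : (W.left.isoSpec.hom ≫ Spec.map (incl G Γ(W.left, ⊤))) ≫ h' = W.hom := by
    rw [Category.assoc, hh', Iso.hom_inv_id_assoc]
  refine ⟨Over.mk h', Over.homMk (W.left.isoSpec.hom ≫ Spec.map (incl G Γ(W.left, ⊤))) hqw, ?_, ?_, ?_, ?_, ?_, ?_⟩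
  · show IsAffine (Spec _)
    infer_instance
  · show Flat (W.left.isoSpec.hom ≫ Spec.map (incl G Γ(W.left, ⊤)))
    infer_instance
  · show Surjective (W.left.isoSpec.hom ≫ Spec.map (incl G Γ(W.left, ⊤)))
    infer_instance
  · show LocallyOfFinitePresentation (W.left.isoSpec.hom ≫ Spec.map (incl G Γ(W.left, ⊤)))
    infer_instance
  · intro σ
    ext
    show (φ σ).left ≫ W.left.isoSpec.hom ≫ Spec.map (incl G Γ(W.left, ⊤)) =
      W.left.isoSpec.hom ≫ Spec.map (incl G Γ(W.left, ⊤))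
    rw [← Category.assoc, ← hnat, Category.assoc, specMap_actHom_incl]
  · intro T w w' hww' t
    have h1 : (w.left ≫ W.left.isoSpec.hom) ≫ Spec.map (incl G Γ(W.left, ⊤)) =
        (w'.left ≫ W.left.isoSpec.hom) ≫ Spec.map (incl G Γ(W.left, ⊤)) := by
      have := congrArg CommaMorphism.left hww'
      simpa only [Over.comp_left, Over.homMk_left, Category.assoc] using this
    obtain ⟨O, htO, σ, hO⟩ := exists_opens_eq hfreeA _ _ h1 t
    refine ⟨O, htO, σ, ?_⟩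
    ext
    show O.ι ≫ w'.left = O.ι ≫ w.left ≫ (φ σ).left
    rw [← cancel_mono W.left.isoSpec.hom]
    simp only [Category.assoc] at hO ⊢
    rw [hO, hnat]

/-- Two epimorphisms out of `h_W` with the same kernel pair (tested on schemes) have isomorphic targets. -/
theorem exists_iso_of_same_kernel {X : Sp S} {W M : Over S} (q₁ : (yon S).obj W ⟶ X) (hq₁ : Epi q₁)
    (q : W ⟶ M) (hq : Epi ((yon S).map q))
    (hk : ∀ (T : Over S) (w w' : T ⟶ W), (yon S).map w ≫ q₁ = (yon S).map w' ≫ q₁ ↔ w ≫ q = w' ≫ q) :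
    ∃ e : X ≅ (yon S).obj M, q₁ ≫ e.hom = (yon S).map q := by
  have heff₁ : EffectiveEpi q₁ := Helper5.SheafGrpQuot.effectiveEpi_of_epi (J S) _
  have heff₂ : EffectiveEpi ((yon S).map q) := Helper5.SheafGrpQuot.effectiveEpi_of_epi (J S) _
  have hdesc₁ : ∀ {Z : Sp S} (g₁ g₂ : Z ⟶ (yon S).obj W), g₁ ≫ q₁ = g₂ ≫ q₁ →
      g₁ ≫ (yon S).map q = g₂ ≫ (yon S).map q := by
    intro Z g₁ g₂ h
    apply sp_hom_ext
    intro T z
    obtain ⟨γ₁, hγ₁⟩ := (yon S).map_surjective (z ≫ g₁)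
    obtain ⟨γ₂, hγ₂⟩ := (yon S).map_surjective (z ≫ g₂)
    have h12 : γ₁ ≫ q = γ₂ ≫ q := (hk T γ₁ γ₂).1 (by
      rw [hγ₁, hγ₂, Category.assoc, Category.assoc, h])
    rw [← Category.assoc, ← Category.assoc, ← hγ₁, ← hγ₂, ← Functor.map_comp, ← Functor.map_comp, h12]
  have hdesc₂ : ∀ {Z : Sp S} (g₁ g₂ : Z ⟶ (yon S).obj W), g₁ ≫ (yon S).map q = g₂ ≫ (yon S).map q →
      g₁ ≫ q₁ = g₂ ≫ q₁ := by
    intro Z g₁ g₂ h
    apply sp_hom_ext
    intro T z
    obtain ⟨γ₁, hγ₁⟩ := (yon S).map_surjective (z ≫ g₁)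
    obtain ⟨γ₂, hγ₂⟩ := (yon S).map_surjective (z ≫ g₂)
    have h12 : γ₁ ≫ q = γ₂ ≫ q := (yon S).map_injective (by
      rw [Functor.map_comp, Functor.map_comp, hγ₁, hγ₂, Category.assoc, Category.assoc, h])
    rw [← Category.assoc, ← Category.assoc, ← hγ₁, ← hγ₂]
    exact (hk T γ₁ γ₂).2 h12
  obtain ⟨e₁, he₁⟩ : ∃ e₁ : X ⟶ (yon S).obj M, q₁ ≫ e₁ = (yon S).map q :=
    ⟨EffectiveEpi.desc q₁ _ (fun g₁ g₂ h => hdesc₁ g₁ g₂ h), EffectiveEpi.fac _ _ _⟩
  obtain ⟨e₂, he₂⟩ : ∃ e₂ : (yon S).obj M ⟶ X, (yon S).map q ≫ e₂ = q₁ :=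
    ⟨EffectiveEpi.desc ((yon S).map q) _ (fun g₁ g₂ h => hdesc₂ g₁ g₂ h), EffectiveEpi.fac _ _ _⟩
  refine ⟨⟨e₁, e₂, ?_, ?_⟩, he₁⟩
  · rw [← cancel_epi q₁, ← Category.assoc, he₁, he₂, Category.comp_id]
  · rw [← cancel_epi ((yon S).map q), ← Category.assoc, he₂, he₁, Category.comp_id]

end Groth.Agent.Lib.Helper16.FreeQuot
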