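import Groth.Agent.Lib.Helper16.YonCoprod
import Groth.Agent.Lib.Helper16.QuasiCompact

/-!
# Helper library (helper16): gluing maps out of representable sheaves along locally directed open covers
-/

set_option autoImplicit false
universe u w
open CategoryTheory CategoryTheory.Limits AlgebraicGeometry Opposite

namespace Groth.Agent.Lib.Helper16

open AlgSp

variable {S : Scheme.{u}}

/-- Two maps from a representable sheaf agree if they agree on a jointly surjective family of open immersions. -/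
theorem yon_hom_ext_of_open_cover {F : Sp S} {Z : Over S} (a b : (yon S).obj Z ⟶ F) {κ : Type w}
    (Zk : κ → Over S) (s : ∀ k, Zk k ⟶ Z) (hopen : ∀ k, IsOpenImmersion (s k).left)
    (hsurj : ∀ x : Z.left, ∃ k, x ∈ Set.range (s k).left)
    (h : ∀ k, (yon S).map (s k) ≫ a = (yon S).map (s k) ≫ b) : a = b := by
  apply (J S).uliftYonedaEquiv.injective
  have hsep := ((isSheaf_iff_isSheaf_of_type _ _).1 F.property).isSeparated
  refine (hsep _ (generate_ofArrows_mem_J_of_open_cover Zk s hopen hsurj)).ext ?_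
  rintro T' g ⟨Y, g', _, ⟨k⟩, rfl⟩
  rw [GrothendieckTopology.uliftYonedaEquiv_naturality, GrothendieckTopology.uliftYonedaEquiv_naturality,
    Functor.map_comp, Category.assoc, Category.assoc, h k]


/-- Gluing maps out of a representable sheaf along a locally directed open cover. -/
theorem existsUnique_glue_of_locallyDirected {F : Sp S} {V : Over S} {I : Type w} [Preorder I]
    (VO : I → Over S) (ι : ∀ O, VO O ⟶ V) (hopen : ∀ O, IsOpenImmersion (ι O).left)
    (hsurj : ∀ x : V.left, ∃ O, x ∈ Set.range (ι O).left)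
    (j : ∀ {O O' : I}, O ≤ O' → (VO O ⟶ VO O')) (hj : ∀ {O O' : I} (h : O ≤ O'), j h ≫ ι O' = ι O)
    (hdir : ∀ (O O' : I) (x : (VO O).left) (x' : (VO O').left), (ι O).left x = (ι O').left x' →
      ∃ (O'' : I) (h : O'' ≤ O) (h' : O'' ≤ O') (y : (VO O'').left), (j h).left y = x ∧ (j h').left y = x')
    (a : ∀ O, (yon S).obj (VO O) ⟶ F) (ha : ∀ {O O' : I} (h : O ≤ O'), (yon S).map (j h) ≫ a O' = a O) :
    ∃! σ : (yon S).obj V ⟶ F, ∀ O, (yon S).map (ι O) ≫ σ = a O := by
  have hcov := generate_ofArrows_mem_J_of_open_cover VO ι hopen hsurj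
  have hmono : ∀ O, Mono (ι O) := fun O => by
    have : Mono ((Over.forget S).map (ι O)) := by
      change Mono (ι O).left
      infer_instance
    exact (Over.forget S).mono_of_mono_map this
  have hjopen : ∀ {O O' : I} (h : O ≤ O'), IsOpenImmersion (j h).left := fun {O O'} h => by
    have h1 : (j h).left ≫ (ι O').left = (ι O).left := by rw [← Over.comp_left, hj]
    have : IsOpenImmersion ((j h).left ≫ (ι O').left) := by rw [h1]; exact hopen O
    exact IsOpenImmersion.of_comp (j h).left (ι O').left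
  have hF : Presieve.IsSheaf (J S) F.obj := (isSheaf_iff_isSheaf_of_type _ _).1 F.property
  have hsh : Presieve.IsSheafFor F.obj (Presieve.ofArrows VO ι) :=
    (Presieve.isSheafFor_iff_generate _).2 (hF _ hcov)
  rw [Presieve.isSheafFor_arrows_iff] at hsh
  obtain ⟨ξ, hξ, hξu⟩ := hsh (fun O => (J S).uliftYonedaEquiv (a O)) (by
    intro O O' Z gO gO' hg
    rw [GrothendieckTopology.uliftYonedaEquiv_naturality, GrothendieckTopology.uliftYonedaEquiv_naturality]
    congr 1
    -- local check on `Z`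
    let κ := Σ' (O'' : I) (_ : O'' ≤ O), O'' ≤ O'
    let Zo : κ → Z.left.Opens := fun k =>
      gO.left ⁻¹ᵁ (j k.2.1).left.opensRange ⊓ gO'.left ⁻¹ᵁ (j k.2.2).left.opensRange
    refine yon_hom_ext_of_open_cover _ _ (fun k : κ => overOpen Z (Zo k)) (fun k => overOpenι Z (Zo k))
      (fun k => ?_) (fun z => ?_) (fun k => ?_)
    · show IsOpenImmersion (Scheme.Opens.ι _)
      infer_instance
    · have hz : (ι O).left (gO.left z) = (ι O').left (gO'.left z) := by
        have := congrArg (fun f => f.left z) hg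
        simpa using this
      obtain ⟨O'', h, h', y, hy, hy'⟩ := hdir O O' _ _ hz
      refine ⟨⟨O'', h, h'⟩, ⟨z, ⟨⟨y, hy⟩, ⟨y, hy'⟩⟩⟩, rfl⟩
    · obtain ⟨O'', h, h'⟩ := k
      have := hjopen h
      have hrange : Set.range ((Zo ⟨O'', h, h'⟩).ι ≫ gO.left) ⊆ Set.range (j h).left := by
        rintro _ ⟨w, rfl⟩
        exact w.2.1
      let ℓ₀ := IsOpenImmersion.lift (j h).left ((Zo ⟨O'', h, h'⟩).ι ≫ gO.left) hrange
      have hℓ₀ : ℓ₀ ≫ (j h).left = (Zo ⟨O'', h, h'⟩).ι ≫ gO.left := IsOpenImmersion.lift_fac _ _ _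
      let ℓ : overOpen Z (Zo ⟨O'', h, h'⟩) ⟶ VO O'' := Over.homMk ℓ₀ (by
        simp only [overOpen, Over.mk_hom]
        rw [← Over.w (j h), ← Category.assoc, hℓ₀, Category.assoc, Over.w])
      have hℓ : ℓ ≫ j h = overOpenι Z (Zo ⟨O'', h, h'⟩) ≫ gO := by
        ext1
        exact hℓ₀
      have hℓ' : ℓ ≫ j h' = overOpenι Z (Zo ⟨O'', h, h'⟩) ≫ gO' := by
        rw [← cancel_mono (ι O'), Category.assoc, hj, Category.assoc, ← hg, ← Category.assoc, ← hℓ,
          Category.assoc, hj]
      rw [← Category.assoc, ← Category.assoc, ← Functor.map_comp, ← Functor.map_comp, ← hℓ, ← hℓ',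
        Functor.map_comp, Functor.map_comp, Category.assoc, Category.assoc, ha, ha])
  refine ⟨(J S).uliftYonedaEquiv.symm ξ, fun O => ?_, fun m hm => ?_⟩
  · apply (J S).uliftYonedaEquiv.injective
    rw [← hξ O, ← GrothendieckTopology.uliftYonedaEquiv_naturality, Equiv.apply_symm_apply]
  · apply (J S).uliftYonedaEquiv.injective
    rw [Equiv.apply_symm_apply]
    apply hξu
    intro O
    rw [GrothendieckTopology.uliftYonedaEquiv_naturality, hm O]

end Groth.Agent.Lib.Helper16
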