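import Groth.Agent.Lib.Helper16.TupleAct
import Groth.Agent.Lib.Helper16.FreeQuotSp
import Groth.Agent.Lib.Helper16.ZarGlue
import Groth.Agent.Lib.Helper16.FppfLocal2

/-!
# Helper library (helper16): an algebraic space with a finite etale chart of constant degree from an affine scheme is
an affine scheme
-/

set_option autoImplicit false
universe u
open CategoryTheory CategoryTheory.Limits AlgebraicGeometry Opposite

namespace Groth.Agent.Lib.Helper16.Tuple

open AlgSp Strata FreeQuot

variable {S : Scheme.{u}}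

/-- Two morphisms over `S` that agree locally on the source agree. -/
theorem over_hom_ext_of_forall {T M : Over S} (f g : T ⟶ M)
    (h : ∀ t : ↥T.left, ∃ O : T.left.Opens, t ∈ O ∧ overOpenι T O ≫ f = overOpenι T O ≫ g) : f = g := by
  ext1
  apply Scheme.hom_ext_of_forall
  intro t
  obtain ⟨O, htO, hO⟩ := h t
  exact ⟨O, htO, congrArg CommaMorphism.left hO⟩

/-- Two maps out of a representable sheaf that agree locally on the source agree. -/
theorem yon_hom_ext_of_forall {F : Sp S} {T : Over S} (f g : (yon S).obj T ⟶ F)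
    (h : ∀ t : ↥T.left, ∃ O : T.left.Opens, t ∈ O ∧
      (yon S).map (overOpenι T O) ≫ f = (yon S).map (overOpenι T O) ≫ g) : f = g := by
  choose O htO hO using h
  refine yon_hom_ext_of_open_cover f g (fun t => overOpen T (O t)) (fun t => overOpenι T (O t))
    (fun t => ?_) (fun t => ⟨t, ?_⟩) hO
  · show IsOpenImmersion (O t).ι
    infer_instance
  · show t ∈ Set.range (O t).ι
    rw [Scheme.Opens.range_ι]
    exact htO t

variable {X : Sp S} {U : Over S} {a : (yon S).obj U ⟶ X} {W : Over S} {k : ℕ}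
  {π : Fin (k + 1) → (W ⟶ U)} {R : Over S} {c sn : R ⟶ U}

/-- The quotient of an invariant affine open of the universal tuple scheme by the symmetric group is the image in
`X`. -/
theorem exists_iso_yon_quotient (hπ : IsUniv a π) (hae : RepWith @Etale a)
    (sq : IsPullback ((yon S).map c) ((yon S).map sn) a a)
    (hdeg : ∀ u : ↥U.left, ¬ HasDeg sn.left u (k + 1 + 1))
    {W₀ : Over S} [IsAffine W₀.left] (j : W₀ ⟶ W) [Mono j]
    (φ₀ : Equiv.Perm (Fin (k + 1)) → (W₀ ⟶ W₀)) (hφ₀ : ∀ σ, φ₀ σ ≫ j = j ≫ act hπ σ)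
    {X₀ : Sp S} (m : X₀ ⟶ X) [Mono m] (q₁ : (yon S).obj W₀ ⟶ X₀) [Epi q₁]
    (hq₁ : q₁ ≫ m = (yon S).map (j ≫ π 0) ≫ a) :
    ∃ (M : Over S) (q : W₀ ⟶ M) (e : X₀ ≅ (yon S).obj M), IsAffine M.left ∧ q₁ ≫ e.hom = (yon S).map q ∧
      Flat q.left ∧ Surjective q.left ∧ LocallyOfFinitePresentation q.left := by
  have h1 : φ₀ 1 = 𝟙 W₀ := by
    rw [← cancel_mono j, hφ₀, act_one, Category.comp_id, Category.id_comp]
  have hmul : ∀ σ τ, φ₀ (σ * τ) = φ₀ σ ≫ φ₀ τ := by
    intro σ τ
    rw [← cancel_mono j, hφ₀, act_mul, Category.assoc (φ₀ σ), hφ₀, ← Category.assoc (φ₀ σ), hφ₀, Category.assoc]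
  have hfree : ∀ σ : Equiv.Perm (Fin (k + 1)), σ ≠ 1 → ∀ (K : Type u) [Field K]
      (x : Spec (CommRingCat.of K) ⟶ W₀.left), x ≫ (φ₀ σ).left ≠ x := by
    intro σ hσ K _ x hx
    apply act_free hπ σ hσ K (x ≫ j.left)
    rw [Category.assoc, ← Over.comp_left, ← hφ₀, Over.comp_left, ← Category.assoc, hx]
  obtain ⟨M, q, hMaff, hqflat, hqsurj, hqlfp, hinv, hker⟩ := exists_quotient φ₀ h1 hmul hfree
  have hepiq : Epi ((yon S).map q) := by
    have : Sheaf.IsLocallySurjective ((yon S).map q) :=
      isLocallySurjective_of_repWith_fppf _ ((repWith_yon_map_iff _ _).2 hqflat)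
        ((repWith_yon_map_iff _ _).2 hqlfp) ((repWith_yon_map_iff _ _).2 hqsurj)
    infer_instance
  have hq₁' : ∀ {T : Over S} (w : T ⟶ W₀), (yon S).map w ≫ q₁ ≫ m = (yon S).map ((w ≫ j) ≫ π 0) ≫ a := by
    intro T w
    rw [hq₁, ← Category.assoc, ← Functor.map_comp, Category.assoc]
  have hk : ∀ (T : Over S) (w w' : T ⟶ W₀),
      (yon S).map w ≫ q₁ = (yon S).map w' ≫ q₁ ↔ w ≫ q = w' ≫ q := by
    intro T w w'
    constructor
    · intro h
      have h' : (yon S).map ((w ≫ j) ≫ π 0) ≫ a = (yon S).map ((w' ≫ j) ≫ π 0) ≫ a := by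
        rw [← hq₁', ← hq₁', ← Category.assoc, h, Category.assoc]
      apply over_hom_ext_of_forall
      intro t
      obtain ⟨O, htO, σ, hσ⟩ := exists_perm_of_eq hπ hae sq hdeg 0 (w ≫ j) (w' ≫ j) h' t
      refine ⟨O, htO, ?_⟩
      have h2 : overOpenι T O ≫ w' = overOpenι T O ≫ w ≫ φ₀ σ := by
        rw [← cancel_mono j]
        simp only [Category.assoc]
        rw [hφ₀]
        exact hσ
      rw [← Category.assoc _ w' q, h2, Category.assoc, Category.assoc, hinv]
    · intro h
      haveI : Mono m := inferInstance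
      rw [← cancel_mono m, Category.assoc, Category.assoc]
      apply yon_hom_ext_of_forall
      intro t
      obtain ⟨O, htO, σ, hσ⟩ := hker T w w' h t
      refine ⟨O, htO, ?_⟩
      have key : ∀ {T' : Over S} (v : T' ⟶ W) (i : Fin (k + 1)),
          (yon S).map (v ≫ π i) ≫ a = (yon S).map v ≫ (yon S).map (π 0) ≫ a := by
        intro T' v i
        rw [Functor.map_comp, Category.assoc, hπ.tuple.eq i 0]
      have hL : ∀ w'' : T ⟶ W₀, (yon S).map (overOpenι T O) ≫ (yon S).map w'' ≫ q₁ ≫ m =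
          (yon S).map ((overOpenι T O ≫ w'' ≫ j) ≫ π 0) ≫ a := by
        intro w''
        rw [hq₁]
        simp only [Functor.map_comp, Category.assoc]
      rw [hL w, hL w']
      have h3 : (overOpenι T O ≫ w' ≫ j) ≫ π 0 = (overOpenι T O ≫ w ≫ j) ≫ π (σ 0) := by
        rw [← Category.assoc (overOpenι T O) w' j, hσ]
        simp only [Category.assoc]
        rw [← Category.assoc (φ₀ σ), hφ₀, Category.assoc, act_π]
      rw [h3, key _ (σ 0), key _ 0]
  obtain ⟨e, he⟩ := exists_iso_of_same_kernel q₁ inferInstance q hepiq hk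
  exact ⟨M, q, e, hMaff, he, hqflat, hqsurj, hqlfp⟩

/-- **Theorem A.** An algebraic space with a finite etale surjective chart of constant degree `k + 1` from an
affine scheme is an affine scheme. -/
theorem exists_iso_yon_of_const_deg [IsAffine U.left] (hae : RepWith @Etale a) (haf : RepWith @IsFinite a)
    (has : RepWith @Surjective a) (sq : IsPullback ((yon S).map c) ((yon S).map sn) a a) (k : ℕ)
    (hdeg : ∀ u : ↥U.left, HasDeg sn.left u (k + 1) ∧ ¬ HasDeg sn.left u (k + 1 + 1)) :
    ∃ (M : Over S) (_ : X ≅ (yon S).obj M), IsAffine M.left := by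
  obtain ⟨W, π, hπ, hfin, het⟩ := exists_univ hae haf k
  have hWaff : IsAffine W.left := isAffine_of_isAffineHom (π 0).left
  have hsurj : Surjective (π 0).left := surjective_π hπ sq hdeg 0
  have hepi1 : Epi ((yon S).map (π 0)) := by
    have : Sheaf.IsLocallySurjective ((yon S).map (π 0)) :=
      isLocallySurjective_of_repWith_fppf _ ((repWith_yon_map_iff _ _).2 (inferInstance : Flat (π 0).left))
        ((repWith_yon_map_iff _ _).2 (inferInstance : LocallyOfFinitePresentation (π 0).left))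
        ((repWith_yon_map_iff _ _).2 hsurj)
    infer_instance
  have hepi2 : Epi a := by
    have : Sheaf.IsLocallySurjective a := isLocallySurjective_of_etale_surjective a hae has
    infer_instance
  have hepi : Epi ((yon S).map (π 0) ≫ a) := epi_comp _ _
  obtain ⟨M, q, e, hM, -⟩ := exists_iso_yon_quotient hπ hae sq (fun u => (hdeg u).2) (𝟙 W) (act hπ)
    (fun σ => by rw [Category.comp_id, Category.id_comp]) (𝟙 X) ((yon S).map (π 0) ≫ a)
    (by rw [Category.comp_id, Category.id_comp])
  exact ⟨M, e, hM⟩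

end Groth.Agent.Lib.Helper16.Tuple
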