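import Groth.Agent.S0084
import Mathlib.AlgebraicGeometry.Morphisms.FlatDescent
import Mathlib.AlgebraicGeometry.Sites.Fpqc

/-!
# Helper library (helper16): properties that descend along fppf covers and are Zariski local on the target are local
at the target for the fppf precoverage
-/

set_option autoImplicit false
universe u
open CategoryTheory CategoryTheory.Limits AlgebraicGeometry Opposite

namespace Groth.Agent.Lib.Helper16

theorem isPullback_id_of_mono {C : Type*} [Category C] {X V Z : C} (g : X ⟶ V) (j : V ⟶ Z) [Mono j] :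
    IsPullback (𝟙 X) g (g ≫ j) j := by
  refine ⟨⟨by rw [Category.id_comp]⟩, ⟨PullbackCone.IsLimit.mk _ (fun s => s.fst) (fun s => ?_) (fun s => ?_)
    (fun s m h1 _ => ?_)⟩⟩
  · exact Category.comp_id _
  · rw [← cancel_mono j, Category.assoc]
    exact s.condition
  · rw [← h1]
    exact (Category.comp_id _).symm

theorem isLocalAtTarget_fppf_of_descendsAlong (P : MorphismProperty Scheme.{u}) [P.IsStableUnderBaseChange]
    [IsZariskiLocalAtTarget P]
    [P.DescendsAlong (@Surjective ⊓ @Flat ⊓ @LocallyOfFinitePresentation : MorphismProperty Scheme.{u})] :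
    P.IsLocalAtTarget Scheme.fppfPrecoverage := by
  refine MorphismProperty.IsLocalAtTarget.mk_of_isStableUnderBaseChange ?_
  intro X Y f 𝒰 h
  have hmem : Presieve.ofArrows 𝒰.X 𝒰.f ∈
      Scheme.precoverage (@Flat ⊓ @LocallyOfFinitePresentation : MorphismProperty Scheme.{u}) Y := 𝒰.mem₀
  rw [Scheme.ofArrows_mem_precoverage_iff] at hmem
  obtain ⟨hsurj, hprop⟩ := hmem
  have hfl : ∀ i, Flat (𝒰.f i) := fun i => (hprop i).1
  have hlfp : ∀ i, LocallyOfFinitePresentation (𝒰.f i) := fun i => (hprop i).2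
  let V : 𝒰.I₀ → Y.Opens := fun i => ⟨Set.range (𝒰.f i), (𝒰.f i).isOpenMap.isOpen_range⟩
  have hV : iSup V = ⊤ := by
    rw [eq_top_iff]
    intro y _
    obtain ⟨i, hi⟩ := hsurj y
    exact TopologicalSpace.Opens.mem_iSup.2 ⟨i, hi⟩
  rw [IsZariskiLocalAtTarget.iff_of_iSup_eq_top (P := P) V hV]
  intro i
  let g : 𝒰.X i ⟶ (V i).toScheme := IsOpenImmersion.lift (V i).ι (𝒰.f i) (by
    rw [Scheme.Opens.range_ι]
    exact subset_rfl)
  have hg : g ≫ (V i).ι = 𝒰.f i := IsOpenImmersion.lift_fac _ _ _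
  have hgsq : IsPullback (𝟙 _) g (𝒰.f i) (V i).ι := by
    rw [← hg]
    exact isPullback_id_of_mono g (V i).ι
  have hgfl : Flat g := MorphismProperty.of_isPullback (P := @Flat) hgsq (hfl i)
  have hglfp : LocallyOfFinitePresentation g :=
    MorphismProperty.of_isPullback (P := @LocallyOfFinitePresentation) hgsq (hlfp i)
  have hgsurj : Surjective g := by
    constructor
    intro v
    obtain ⟨x, hx⟩ : (V i).ι v ∈ Set.range (𝒰.f i) := v.2
    refine ⟨x, ?_⟩
    apply (V i).ι.injective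
    rw [← Scheme.Hom.comp_apply, hg, hx]
  have t : IsPullback (f ⁻¹ᵁ V i).ι (f ∣_ V i) f (V i).ι := (isPullback_morphismRestrict f (V i)).flip
  let snd := t.lift (pullback.fst f (𝒰.f i)) (pullback.snd f (𝒰.f i) ≫ g) (by
    rw [Category.assoc, hg, pullback.condition])
  have hsnd1 : snd ≫ (f ⁻¹ᵁ V i).ι = pullback.fst f (𝒰.f i) := t.lift_fst _ _ _
  have hsnd2 : snd ≫ (f ∣_ V i) = pullback.snd f (𝒰.f i) ≫ g := t.lift_snd _ _ _
  have s : IsPullback (snd ≫ (f ⁻¹ᵁ V i).ι) (pullback.snd f (𝒰.f i)) f (g ≫ (V i).ι) := by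
    rw [hsnd1, hg]
    exact IsPullback.of_hasPullback f (𝒰.f i)
  have sq : IsPullback snd (pullback.snd f (𝒰.f i)) (f ∣_ V i) g := IsPullback.of_right s hsnd2 t
  exact MorphismProperty.of_isPullback_of_descendsAlong (P := P)
    (Q := (@Surjective ⊓ @Flat ⊓ @LocallyOfFinitePresentation : MorphismProperty Scheme.{u}))
    sq.flip ⟨⟨hgsurj, hgfl⟩, hglfp⟩ (h i)

instance : MorphismProperty.DescendsAlong @IsFinite
    (@Surjective ⊓ @Flat ⊓ @QuasiCompact : MorphismProperty Scheme.{u}) := Groth.Agent.S0084.result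

instance isLocalAtTarget_isFinite_fppf :
    MorphismProperty.IsLocalAtTarget (@IsFinite : MorphismProperty Scheme.{u}) Scheme.fppfPrecoverage :=
  isLocalAtTarget_fppf_of_descendsAlong _

end Groth.Agent.Lib.Helper16
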