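import Groth.Agent.Lib.Helper16.StrataRestrict
import Groth.Agent.Lib.Helper16.FinEtQuot
import Groth.Agent.Lib.Helper16.FppfLocalT
import Mathlib.AlgebraicGeometry.Morphisms.Affine

/-!
# Helper library (helper16): an invariant open of an affine etale chart over which the kernel pair has constant degree
gives a nonempty open subscheme
-/

set_option autoImplicit false
universe u
open CategoryTheory CategoryTheory.Limits AlgebraicGeometry Opposite

namespace Groth.Agent.Lib.Helper16.SchLocus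

open AlgSp Groth.Agent.Lib.Helper15 Strata

variable {S : Scheme.{u}}

set_option maxHeartbeats 800000 in
/-- **Theorem A', pointed form.** -/
theorem mem_schLocus_of_const_deg {X : Sp S} (hX : IsAlgSpace X) {U : Over S} [IsAffine U.left]
    (a : (yon S).obj U ⟶ X) (hae : RepWith @Etale a) {R : Over S} {c sn : R ⟶ U}
    (sq : IsPullback ((yon S).map c) ((yon S).map sn) a a) (O : U.left.Opens)
    (k : ℕ) (hdeg : ∀ u ∈ O, HasDeg sn.left u (k + 1) ∧ ¬ HasDeg sn.left u (k + 1 + 1))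
    (hinv : ∀ r : ↥R.left, sn.left r ∈ O → c.left r ∈ O) (u₀ : ↥U.left) (hu₀ : u₀ ∈ O) :
    Points.ofPt a u₀ ∈ schLocus X := by
  classical
  -- Step 1: the restricted chart
  obtain ⟨j, hj⟩ : ∃ j : overOpen U O ⟶ U, j = overOpenι U O := ⟨_, rfl⟩
  have hjl : j.left = O.ι := by rw [hj]; rfl
  have hjo : IsOpenImmersion j.left := by rw [hjl]; infer_instance
  have hjm : Mono j := by
    have : Mono ((Over.forget S).map j) := by
      change Mono j.left
      infer_instance
    exact (Over.forget S).mono_of_mono_map this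
  have hrange : Set.range j.left = (O : Set ↥U.left) := by rw [hjl]; exact Scheme.Opens.range_ι O
  have hae' : RepWith @Etale ((yon S).map j ≫ a) := by rw [hj]; exact repWith_etale_restrict a hae O
  -- Step 2: the image
  obtain ⟨V, hV, a₁, ha₁, hae₁, has₁, -⟩ := exists_factor_image _ hae'
  have hX₁ : IsAlgSpace (openSub X V) := isAlgSpace_openSub hX V hV
  -- Step 3: the kernel pair of `a₁`
  have sq₁ := hae₁.rep.isPullback a₁
  obtain ⟨c', hc'⟩ := (yon S).map_surjective (hae₁.rep.fst a₁)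
  rw [← hc'] at sq₁
  obtain ⟨sn', hsn'⟩ : ∃ sn' : hae₁.rep.pullback a₁ ⟶ overOpen U O, sn' = hae₁.rep.snd a₁ := ⟨_, rfl⟩
  rw [← hsn'] at sq₁
  have sq' : IsPullback ((yon S).map c') ((yon S).map sn') ((yon S).map j ≫ a) ((yon S).map j ≫ a) := by
    rw [← ha₁]
    exact isPullback_comp_mono (openSubι X V) sq₁
  -- Step 4: the degrees
  have hdeg' : ∀ u' : ↥(overOpen U O).left,
      HasDeg sn'.left u' (k + 1) ∧ ¬ HasDeg sn'.left u' (k + 1 + 1) := by
    intro u'
    have hu' : j.left u' ∈ O := by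
      have : j.left u' ∈ Set.range j.left := ⟨u', rfl⟩
      rw [hrange] at this
      exact this
    refine ⟨hasDeg_restrict_of_hasDeg sq sq' ?_ (hdeg _ hu').1,
      fun h => (hdeg _ hu').2 (hasDeg_of_hasDeg_restrict sq sq' h)⟩
    intro r hr
    rw [hrange] at hr ⊢
    exact hinv r hr
  -- Step 5: finiteness
  have hsne : Etale sn'.left := hae₁.property _ _ _ sq₁
  have hUsep : IsSeparated (overOpen U O).hom := by
    have : IsSeparated U.hom := ClosedPt.isSeparated_of_isAffine U.hom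
    change IsSeparated (O.ι ≫ U.hom)
    infer_instance
  have hsns : IsSeparated sn'.left := isSeparated_sn' sq₁ hUsep
  have hfin : IsFinite sn'.left := isFinite_of_forall_hasDeg (k + 1) sn'.left hdeg'
  have haf₁ : RepWith @IsFinite a₁ :=
    (repWith_iff_of_chart a₁ hae₁.rep a₁ hae₁ has₁ ((yon S).map c') sn' sq₁ @IsFinite).2 hfin
  -- Step 6: the universal tuple
  obtain ⟨W, π, hπ, hfin0, het0⟩ := Tuple.exists_univ hae₁ haf₁ k
  have hsurj0 : Surjective (π 0).left := Tuple.surjective_π hπ sq₁ hdeg' 0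
  obtain ⟨w₀, hw₀⟩ := hsurj0.surj ⟨u₀, hu₀⟩
  have hactiso : ∀ σ, IsIso (Tuple.act hπ σ) := fun σ =>
    ⟨⟨Tuple.act hπ σ⁻¹, by rw [← Tuple.act_mul, mul_inv_cancel, Tuple.act_one],
      by rw [← Tuple.act_mul, inv_mul_cancel, Tuple.act_one]⟩⟩
  have hfinπ : ∀ i, IsFinite (π i).left := by
    intro i
    have h1 : Tuple.act hπ (Equiv.swap 0 i) ≫ π 0 = π i := by
      rw [Tuple.act_π, Equiv.swap_apply_left]
    rw [← h1, Over.comp_left]
    have := hactiso (Equiv.swap 0 i)
    have : IsIso (Tuple.act hπ (Equiv.swap 0 i)).left :=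
      inferInstanceAs (IsIso ((Over.forget S).map (Tuple.act hπ (Equiv.swap 0 i))))
    infer_instance
  -- Step 7: an invariant affine open
  obtain ⟨h, hhO, hhs⟩ := exists_basicOpen_le_of_finite O (Set.range fun i => j.left ((π i).left w₀))
    (Set.finite_range _) (by
      rintro _ ⟨i, rfl⟩
      have : j.left ((π i).left w₀) ∈ Set.range j.left := ⟨_, rfl⟩
      rw [hrange] at this
      exact this)
  obtain ⟨D, hDdef⟩ : ∃ D : U.left.Opens, D = U.left.basicOpen h := ⟨_, rfl⟩
  have hD : IsAffineOpen D := by rw [hDdef]; exact (isAffineOpen_top U.left).basicOpen h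
  have hDO : D ≤ O := by rw [hDdef]; exact hhO
  obtain ⟨D', hD'def⟩ : ∃ D' : (overOpen U O).left.Opens, D' = j.left ⁻¹ᵁ D := ⟨_, rfl⟩
  have hD' : IsAffineOpen D' := by
    rw [hD'def, ← Scheme.Hom.isAffineOpen_iff_of_isOpenImmersion j.left,
      Scheme.Hom.image_preimage_eq_opensRange_inf]
    have : j.left.opensRange = O := by
      apply TopologicalSpace.Opens.ext
      exact hrange
    rw [this, inf_eq_right.2 hDO]
    exact hD
  have hmemD' : ∀ u' : ↥(overOpen U O).left, u' ∈ D' ↔ j.left u' ∈ D := by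
    intro u'
    rw [hD'def]
    rfl
  have hWsep : IsSeparated (terminal.from W.left) := by
    have : IsSeparated (terminal.from U.left) := inferInstance
    rw [← terminal.comp_from ((π 0).left ≫ j.left)]
    infer_instance
  have hWdiag : IsAffineHom (pullback.diagonal (terminal.from W.left)) := inferInstance
  obtain ⟨Wi, hWidef⟩ : ∃ Wi : Fin (k + 1) → W.left.Opens, Wi = fun i => (π i).left ⁻¹ᵁ D' := ⟨_, rfl⟩
  have hWi : ∀ i, IsAffineOpen (Wi i) := fun i => by
    rw [hWidef]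
    have := hfinπ i
    exact hD'.preimage (π i).left
  obtain ⟨W₀, hW₀def⟩ : ∃ W₀ : W.left.Opens, W₀ = ⨅ i, Wi i := ⟨_, rfl⟩
  have hW₀aff : IsAffineOpen W₀ := by
    rw [hW₀def]
    exact IsAffineOpen.iInf hWi
  have hmemW₀ : ∀ w : ↥W.left, w ∈ W₀ ↔ ∀ i, (π i).left w ∈ D' := by
    intro w
    rw [hW₀def, ← SetLike.mem_coe, TopologicalSpace.Opens.coe_iInf, Set.mem_iInter, hWidef]
    rfl
  have hw₀mem : w₀ ∈ W₀ := by
    rw [hmemW₀]
    intro i
    rw [hmemD', hDdef]
    exact hhs ⟨i, rfl⟩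
  -- Step 8: the restricted action
  have hφ₀ex : ∀ σ : Equiv.Perm (Fin (k + 1)), ∃ φ₀ : overOpen W W₀ ⟶ overOpen W W₀,
      φ₀ ≫ overOpenι W W₀ = overOpenι W W₀ ≫ Tuple.act hπ σ := by
    intro σ
    apply exists_lift_overOpen
    intro t'
    rw [hmemW₀]
    intro i
    have h1 : (π i).left ((overOpenι W W₀ ≫ Tuple.act hπ σ).left t') = (π (σ i)).left (W₀.ι t') := by
      rw [← Tuple.act_π hπ σ i]
      rfl
    rw [h1]
    exact (hmemW₀ _).1 t'.2 (σ i)
  choose φ₀ hφ₀ using hφ₀ex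
  have hι₀m : Mono (overOpenι W W₀) := by
    have : Mono ((Over.forget S).map (overOpenι W W₀)) := by
      change Mono W₀.ι
      infer_instance
    exact (Over.forget S).mono_of_mono_map this
  have hW₀aff' : IsAffine (overOpen W W₀).left := hW₀aff
  -- Step 9: the chart from `W₀`
  have hbe : RepWith @Etale ((yon S).map (overOpenι W W₀ ≫ π 0) ≫ a₁) := by
    refine (RepWith @Etale).comp_mem _ _ ((repWith_yon_map_iff _ _).2 ?_) hae₁
    change Etale (W₀.ι ≫ (π 0).left)
    infer_instance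
  obtain ⟨V₀, hV₀, q₁, hq₁, hq₁e, hq₁s, -⟩ := exists_factor_image _ hbe
  have hq₁epi : Epi q₁ := by
    have : Sheaf.IsLocallySurjective q₁ := isLocallySurjective_of_etale_surjective q₁ hq₁e hq₁s
    exact (Sheaf.isLocallySurjective_iff_epi q₁).1 inferInstance
  -- Step 10: the quotient
  obtain ⟨M, q, e, -⟩ := Tuple.exists_iso_yon_quotient hπ hae₁ sq₁ (fun u => (hdeg' u).2) (overOpenι W W₀) φ₀ hφ₀
    (openSubι (openSub X V) V₀) q₁ hq₁
  have hcomp : RepWith @IsOpenImmersion (openSubι (openSub X V) V₀ ≫ openSubι X V) :=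
    (RepWith @IsOpenImmersion).comp_mem _ _ (repWith_isOpenImmersion_openSubι V₀ hV₀)
      (repWith_isOpenImmersion_openSubι V hV)
  have hsub := range_map_subset_schLocus _ hcomp (isRepresentable_of_iso e)
  have hmem := hsub ⟨Points.ofPt q₁ ⟨w₀, hw₀mem⟩, rfl⟩
  have hcompute : Points.map (openSubι (openSub X V) V₀ ≫ openSubι X V) (Points.ofPt q₁ ⟨w₀, hw₀mem⟩) =
      Points.ofPt a u₀ := by
    rw [Points.map_ofPt, ← Category.assoc, hq₁, Category.assoc, ha₁, ofPt_yon_map_comp, ofPt_yon_map_comp]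
    congr 1
    have h1 : (overOpenι W W₀ ≫ π 0).left ⟨w₀, hw₀mem⟩ = (π 0).left w₀ := rfl
    rw [h1, hw₀, hjl]
    rfl
  rw [hcompute] at hmem
  exact hmem

/-- **Theorem A'.** -/
theorem schLocus_nonempty_of_const_deg {X : Sp S} (hX : IsAlgSpace X) {U : Over S} [IsAffine U.left]
    (a : (yon S).obj U ⟶ X) (hae : RepWith @Etale a) {R : Over S} {c sn : R ⟶ U}
    (sq : IsPullback ((yon S).map c) ((yon S).map sn) a a) (O : U.left.Opens) (hOne : ∃ u : ↥U.left, u ∈ O)
    (k : ℕ) (hdeg : ∀ u ∈ O, HasDeg sn.left u (k + 1) ∧ ¬ HasDeg sn.left u (k + 1 + 1))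
    (hinv : ∀ r : ↥R.left, sn.left r ∈ O → c.left r ∈ O) : (schLocus X).Nonempty := by
  obtain ⟨u₀, hu₀⟩ := hOne
  exact ⟨_, mem_schLocus_of_const_deg hX a hae sq O k hdeg hinv u₀ hu₀⟩

end Groth.Agent.Lib.Helper16.SchLocus
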