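import Groth.Agent.Lib.Helper16.ZmtSp4
import Groth.Agent.Lib.Helper16.SchLocusA

/-!
# Helper library (helper16): separated locally quasi-finite morphisms of algebraic spaces (part 5: an algebraic space
separated and locally quasi-finite over a scheme is a scheme)
-/

set_option autoImplicit false
universe u
open CategoryTheory CategoryTheory.Limits AlgebraicGeometry Opposite Topology

namespace Groth.Agent.Lib.Helper16.ZmtSp

open AlgSp Groth.Agent.Lib.Helper15 Groth.Agent.Lib.Helper16 Groth.Agent.Lib.Helper16.SchLocus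
  Groth.Agent.Lib.Helper16.SchImg Groth.Agent.Lib.Helper16.GenFinSp Groth.Agent.Lib.Helper16.Strata

section Deg

theorem isFinite_s' {R U : Scheme.{u}} (s : R ⟶ U) [Etale s] [IsFinite s] : IsFinite (s' s) := by
  unfold s'
  have hcl : IsClosed (Set.range (offDiag s).ι) := by
    rw [Scheme.Opens.range_ι]
    show IsClosed ((Set.range (pullback.diagonal s))ᶜ)
    exact (pullback.diagonal s).isOpenEmbedding.isOpen_range.isClosed_compl
  have : IsClosedImmersion (offDiag s).ι := .of_isPreimmersion _ hcl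
  infer_instance

/-- For a finite etale morphism the degree strata are closed. -/
theorem isClosed_setOf_hasDeg_of_isFinite (d : ℕ) : ∀ {R U : Scheme.{u}} (s : R ⟶ U) [Etale s] [IsFinite s],
    IsClosed {u | HasDeg s u d} := by
  induction d with
  | zero =>
    intro R U s _ _
    convert isClosed_univ
    ext u
    simp only [Set.mem_ofPred_eq, Set.mem_univ, iff_true]
    exact hasDeg_zero s u
  | succ d ih =>
    intro R U s _ _
    rw [setOf_hasDeg_succ]
    have := isFinite_s' s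
    exact s.isClosedMap _ (ih (s' s))

theorem exists_max_hasDeg {R U : Scheme.{u}} (s : R ⟶ U) [Etale s] [CompactSpace ↥R] (u : ↥U)
    (hu : u ∈ Set.range s) : ∃ k : ℕ, HasDeg s u (k + 1) ∧ ¬ HasDeg s u (k + 1 + 1) := by
  classical
  obtain ⟨N, hN⟩ := exists_bound_hasDeg_of_compactSpace s
  have h1 : HasDeg s u 1 := (hasDeg_one_iff s u).2 hu
  have hN1 : 1 ≤ N := hN u 1 h1
  obtain ⟨D, hD⟩ : ∃ D, D = Nat.findGreatest (fun d => HasDeg s u d) N := ⟨_, rfl⟩
  have hDspec : HasDeg s u D := by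
    rw [hD]
    exact Nat.findGreatest_spec (P := fun d => HasDeg s u d) hN1 h1
  have hD1 : 1 ≤ D := by
    rw [hD]
    exact Nat.le_findGreatest hN1 h1
  have hDmax : ¬ HasDeg s u (D + 1) := by
    intro h
    have h2 : D + 1 ≤ N := hN u _ h
    have h3 : D + 1 ≤ Nat.findGreatest (fun d => HasDeg s u d) N := Nat.le_findGreatest h2 h
    rw [← hD] at h3
    omega
  obtain ⟨k, rfl⟩ : ∃ k, D = k + 1 := ⟨D - 1, by omega⟩
  exact ⟨k, hDspec, hDmax⟩

end Deg

set_option backward.isDefEq.respectTransparency false in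
/-- The kernel pair of `ν` maps to the kernel pair of `ν ≫ p1` by a base change of the diagonal of `p1`. -/
theorem isPullback_diagonal_of_kernelPair {C : Type*} [Category C] [HasPullbacks C] {A P B R K : C} {ν : A ⟶ P}
    {p1 : P ⟶ B} {c' sn : R ⟶ A} (sqR : IsPullback c' sn ν ν) {h : A ⟶ B} {k1 k2 : K ⟶ A}
    (sqK : IsPullback k1 k2 h h) (hh : ν ≫ p1 = h) (ρ : R ⟶ K) (h1 : ρ ≫ k1 = c') (h2 : ρ ≫ k2 = sn) :
    IsPullback (c' ≫ ν) ρ (pullback.diagonal p1)
      (pullback.lift (k1 ≫ ν) (k2 ≫ ν) (by rw [Category.assoc, Category.assoc, hh, sqK.w])) := by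
  refine isPullback_of_exists_lift ?_ ?_ ?_
  · apply pullback.hom_ext
    · rw [Category.assoc, pullback.diagonal_fst, Category.comp_id, Category.assoc, pullback.lift_fst,
        ← Category.assoc, h1]
    · rw [Category.assoc, pullback.diagonal_snd, Category.comp_id, Category.assoc, pullback.lift_snd,
        ← Category.assoc, h2, sqR.w]
  · intro Q a b hab
    have e1 : a = b ≫ k1 ≫ ν := by
      have := congrArg (· ≫ pullback.fst p1 p1) hab
      simpa using this
    have e2 : a = b ≫ k2 ≫ ν := by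
      have := congrArg (· ≫ pullback.snd p1 p1) hab
      simpa using this
    have hw : (b ≫ k1) ≫ ν = (b ≫ k2) ≫ ν := by rw [Category.assoc, Category.assoc, ← e1, ← e2]
    refine ⟨sqR.lift _ _ hw, ?_, ?_⟩
    · rw [← Category.assoc, sqR.lift_fst, Category.assoc, ← e1]
    · apply sqK.hom_ext
      · rw [Category.assoc, h1, sqR.lift_fst]
      · rw [Category.assoc, h2, sqR.lift_snd]
  · intro Q l l' _ hl
    apply sqR.hom_ext
    · rw [← h1, ← Category.assoc, hl, Category.assoc]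
    · rw [← h2, ← Category.assoc, hl, Category.assoc]

variable {S : Scheme.{u}}

/-- The kernel pair of a chart, finite over the base, of a space separated over the base has finite projections. -/
theorem isFinite_sn_of_separated {T' V₁ R : Over S} {P : Sp S} (p1 : P ⟶ (yon S).obj T') (hp1 : IsSeparatedMor p1)
    (ν : (yon S).obj V₁ ⟶ P) (c₁ : V₁ ⟶ T') (hc : ν ≫ p1 = (yon S).map c₁) (hfin : IsFinite c₁.left)
    {c' sn : R ⟶ V₁} (sqR : IsPullback ((yon S).map c') ((yon S).map sn) ν ν) : IsFinite sn.left := by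
  have hw : c' ≫ c₁ = sn ≫ c₁ := (yon S).map_injective (by
    rw [Functor.map_comp, Functor.map_comp, ← hc, ← Category.assoc, sqR.w, Category.assoc])
  have sqK := isPullback_ovPullback c₁ c₁
  obtain ⟨ρ₀, hρ1, hρ2⟩ : ∃ ρ₀ : R ⟶ ovPullback c₁ c₁, ρ₀ ≫ ovPullbackFst c₁ c₁ = c' ∧
      ρ₀ ≫ ovPullbackSnd c₁ c₁ = sn := ⟨sqK.lift c' sn hw, sqK.lift_fst _ _ _, sqK.lift_snd _ _ _⟩
  have key := isPullback_diagonal_of_kernelPair sqR (sqK.map (yon S)) hc ((yon S).map ρ₀)
    (by rw [← Functor.map_comp, hρ1]) (by rw [← Functor.map_comp, hρ2])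
  have hcl : RepWith @IsClosedImmersion ((yon S).map ρ₀) :=
    (RepWith (S := S) @IsClosedImmersion).of_isPullback key hp1
  have hcl' : IsClosedImmersion ρ₀.left := (repWith_yon_map_iff _ _).1 hcl
  have hsn : sn.left = ρ₀.left ≫ pullback.snd c₁.left c₁.left := by
    rw [← hρ2]
    rfl
  rw [hsn]
  have h1 : IsFinite (pullback.snd c₁.left c₁.left) := MorphismProperty.pullback_snd _ _ hfin
  have h2 : IsFinite ρ₀.left := inferInstance
  exact MorphismProperty.comp_mem _ _ _ h2 h1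

/-- The case of an affine base and an affine chart. -/
theorem mem_schLocus_of_chart {T U : Over S} [IsAffine T.left] [IsAffine U.left] {X : Sp S} (hX : IsAlgSpace X)
    (f : X ⟶ (yon S).obj T) (hqf : LocP (@LocallyQuasiFinite ⊓ @LocallyOfFiniteType) f) (hsep : IsSeparatedMor f)
    (a : (yon S).obj U ⟶ X) (hae : RepWith @Etale a) (u : ↥U.left) : Points.ofPt a u ∈ schLocus X := by
  have hT : IsAlgSpace ((yon S).obj T) := IsAlgSpace.yon_obj T
  obtain ⟨g, hg⟩ := (yon S).map_surjective (a ≫ f)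
  have hgqf : (@LocallyQuasiFinite ⊓ @LocallyOfFiniteType : MorphismProperty Scheme.{u}) g.left :=
    hqf a (𝟙 _) g hae (repWith_id _ T) (by rw [Category.comp_id, hg])
  have hlqf : LocallyQuasiFinite g.left := hgqf.1
  have hlft : LocallyOfFiniteType g.left := hgqf.2
  have hgsep : IsSeparated g.left := inferInstance
  obtain ⟨T'₀, e₀, V₀, b₀, c₀, v₀, hT'aff, he₀, hb₀, hc₀, hcomm, hv₀⟩ :=
    exists_etale_finite_nbhd g.left u (g.left.quasiFiniteAt u)
  obtain ⟨T', V₁, e, b, c, v₁, hT', he, hb, hc, hbc, hbv⟩ : ∃ (T' V₁ : Over S) (e : T' ⟶ T) (b : V₁ ⟶ U)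
      (c : V₁ ⟶ T') (v₁ : ↥V₁.left), IsAffine T'.left ∧ Etale e.left ∧ Etale b.left ∧ IsFinite c.left ∧
        b ≫ g = c ≫ e ∧ b.left v₁ = u :=
    ⟨Over.mk (e₀ ≫ T.hom), Over.mk (b₀ ≫ U.hom), Over.homMk e₀ rfl, Over.homMk b₀ rfl,
      Over.homMk c₀ (by
        show c₀ ≫ e₀ ≫ T.hom = b₀ ≫ U.hom
        rw [← Category.assoc, ← hcomm, Category.assoc, Over.w g]),
      v₀, hT'aff, he₀, hb₀, hc₀, Over.OverMorphism.ext hcomm, hv₀⟩
  have hV₁aff : IsAffine V₁.left := isAffine_of_isAffineHom c.left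
  obtain ⟨P, p2, p1, sq⟩ : ∃ (P : Sp S) (p2 : P ⟶ X) (p1 : P ⟶ (yon S).obj T'),
      IsPullback p2 p1 f ((yon S).map e) := ⟨_, _, _, IsPullback.of_hasPullback _ _⟩
  have hP : IsAlgSpace P := isAlgSpace_of_isPullback hX hT.diag (IsAlgSpace.yon_obj T') sq
  have hp1sep : IsSeparatedMor p1 := isSeparatedMor_of_isPullback sq hsep
  have hee : RepWith @Etale ((yon S).map e) := (repWith_yon_map_iff _ _).2 he
  have hp2e : RepWith @Etale p2 := (RepWith (S := S) @Etale).of_isPullback sq.flip hee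
  have hwν : ((yon S).map b ≫ a) ≫ f = (yon S).map c ≫ (yon S).map e := by
    rw [Category.assoc, ← hg, ← Functor.map_comp, ← Functor.map_comp, hbc]
  obtain ⟨ν, hν2, hν1⟩ : ∃ ν : (yon S).obj V₁ ⟶ P, ν ≫ p2 = (yon S).map b ≫ a ∧ ν ≫ p1 = (yon S).map c :=
    ⟨sq.lift _ _ hwν, sq.lift_fst _ _ _, sq.lift_snd _ _ _⟩
  have hνe : RepWith @Etale ν := by
    apply repWith_etale_of_comp ν p2 hp2e
    rw [hν2]
    exact (RepWith @Etale).comp_mem _ _ ((repWith_yon_map_iff _ _).2 hb) hae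
  -- the kernel pair
  obtain ⟨R, sn, c'₀, sqR⟩ := hνe.rep ν
  obtain ⟨c', rfl⟩ := (yon S).map_surjective c'₀
  have hsne : Etale sn.left := hνe.property _ _ _ sqR
  have hsnf : IsFinite sn.left := isFinite_sn_of_separated p1 hp1sep ν c hν1 hc sqR
  have hRaff : IsAffine R.left := isAffine_of_isAffineHom sn.left
  obtain ⟨r₁, -, hr₁⟩ := exists_point_of_isPullback_yon_yon sqR v₁ v₁ rfl
  obtain ⟨k, hk1, hk2⟩ := exists_max_hasDeg sn.left v₁ ⟨r₁, hr₁⟩
  obtain ⟨O, hOmem⟩ : ∃ O : V₁.left.Opens, ∀ x, x ∈ O ↔ (HasDeg sn.left x (k + 1) ∧ ¬ HasDeg sn.left x (k + 1 + 1)) :=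
    ⟨⟨{x | HasDeg sn.left x (k + 1)} ∩ {x | HasDeg sn.left x (k + 1 + 1)}ᶜ,
      (isOpen_setOf_hasDeg (k + 1) sn.left).inter
        (isClosed_setOf_hasDeg_of_isFinite (k + 1 + 1) sn.left).isOpen_compl⟩, fun x => Iff.rfl⟩
  have hinv : ∀ r : ↥R.left, sn.left r ∈ O → c'.left r ∈ O := by
    intro r hr
    obtain ⟨h1, h2⟩ := (hOmem _).1 hr
    have heq : Points.ofPt ν (c'.left r) = Points.ofPt ν (sn.left r) := by
      rw [← ofPt_yon_map_comp, ← ofPt_yon_map_comp, sqR.w]
    exact (hOmem _).2 ⟨hasDeg_of_ofPt_eq sqR heq h1, fun h => h2 (hasDeg_of_ofPt_eq sqR heq.symm h)⟩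
  have hmem := mem_schLocus_of_const_deg hP ν hνe sqR O k (fun x hx => (hOmem x).1 hx) hinv v₁
    ((hOmem _).2 ⟨hk1, hk2⟩)
  have := map_mem_schLocus_of_etale_baseChange e he hX f hsep hqf p1 p2 sq _ hmem
  rwa [Points.map_ofPt, hν2, ofPt_yon_map_comp, hbv] at this

/-- **An algebraic space separated and locally quasi-finite over a scheme is a scheme** (pointwise form). -/
theorem mem_schLocus_of_lqf_separated {T : Over S} {X : Sp S} (hX : IsAlgSpace X) (f : X ⟶ (yon S).obj T)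
    (hqf : LocP (@LocallyQuasiFinite ⊓ @LocallyOfFiniteType) f) (hsep : IsSeparatedMor f) (x : Points X) :
    x ∈ schLocus X := by
  obtain ⟨_, ⟨(O : T.left.Opens), hO, rfl⟩, hθO, -⟩ := T.left.isBasis_affineOpens.exists_subset_of_mem_open
    (Set.mem_univ (Points.toScheme T (Points.map f x))) isOpen_univ
  have hOaff : IsAffine (overOpen T O).left := hO
  obtain ⟨P₀, k, p₀, sqL⟩ : ∃ (P₀ : Sp S) (k : P₀ ⟶ X) (p₀ : P₀ ⟶ (yon S).obj (overOpen T O)),
      IsPullback k p₀ f ((yon S).map (overOpenι T O)) := ⟨_, _, _, IsPullback.of_hasPullback _ _⟩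
  have hT := IsAlgSpace.yon_obj T
  have hP₀ : IsAlgSpace P₀ := isAlgSpace_of_isPullback hX hT.diag (IsAlgSpace.yon_obj _) sqL
  have hιO : RepWith @IsOpenImmersion ((yon S).map (overOpenι T O)) :=
    (repWith_yon_map_iff _ _).2 (by change IsOpenImmersion O.ι; infer_instance)
  have hk : RepWith @IsOpenImmersion k := (RepWith (S := S) @IsOpenImmersion).of_isPullback sqL.flip hιO
  have hp₀sep : IsSeparatedMor p₀ := isSeparatedMor_of_isPullback sqL hsep
  have hp₀qf : LocP (@LocallyQuasiFinite ⊓ @LocallyOfFiniteType) p₀ :=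
    locP_of_isPullback etLocalST_locallyQuasiFinite hX hT sqL hqf
  obtain ⟨x₀, hx₀, -⟩ := exists_point_of_isPullback sqL x (Points.ofScheme _ (⟨_, hθO⟩ : ↥O)) (by
    rw [map_yon_map_ofScheme]
    exact (Points.ofScheme_toScheme T _).symm)
  rw [← hx₀]
  apply map_mem_schLocus k hk
  obtain ⟨U, a, hae, has⟩ := hP₀.atlas
  obtain ⟨u₀, rfl⟩ := ofPt_surjective_of_surjective a has x₀
  obtain ⟨_, ⟨(U₀ : U.left.Opens), hU₀, rfl⟩, hu₀, -⟩ := U.left.isBasis_affineOpens.exists_subset_of_mem_open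
    (Set.mem_univ u₀) isOpen_univ
  have hU₀aff : IsAffine (overOpen U U₀).left := hU₀
  have ha₀e : RepWith @Etale ((yon S).map (overOpenι U U₀) ≫ a) := repWith_etale_restrict a hae U₀
  have := mem_schLocus_of_chart hP₀ p₀ hp₀qf hp₀sep _ ha₀e (⟨u₀, hu₀⟩ : ↥U₀)
  rwa [ofPt_restrict] at this

end Groth.Agent.Lib.Helper16.ZmtSp
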