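import Groth.Agent.Lib.Helper16.UnivClosed
import Groth.Agent.Lib.Helper16.MonoDescent
import Mathlib.AlgebraicGeometry.Morphisms.LocalFlatDescent

/-!
# Helper library (helper16): flat quasi-compact surjective morphisms are universally submersive; monomorphisms to
the spectrum of a field
-/

set_option autoImplicit false
universe u
open CategoryTheory CategoryTheory.Limits AlgebraicGeometry Opposite Topology MorphismProperty

namespace Groth.Agent.Lib.Helper16

open AlgSp

variable {S : Scheme.{u}}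

/-- For a test map through the chart `V` of `Y`, the base change of `f` has an etale surjective chart `R` such
that `R ⟶ T` is a base change of the chart morphism `ω : W = U ×_Y V ⟶ V`. -/
theorem exists_chart_base_change_through_chart {X Y : Sp S} (hY : IsAlgSpace Y) (f : X ⟶ Y) {U V W : Over S}
    (a : (yon S).obj U ⟶ X) (hae : RepWith @Etale a) (has : RepWith @Surjective a) (p : (yon S).obj V ⟶ Y)
    (c : W ⟶ U) (ω : W ⟶ V) (sqW : IsPullback ((yon S).map ω) ((yon S).map c) p (a ≫ f)) {T : Over S}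
    (τ : T ⟶ V) {P : Sp S} (fst : P ⟶ X) (snd : P ⟶ (yon S).obj T)
    (sq : IsPullback fst snd f ((yon S).map τ ≫ p)) :
    ∃ (R : Over S) (rW : R ⟶ T) (r : (yon S).obj R ⟶ P) (l : R ⟶ W), RepWith @Etale r ∧
      RepWith @Surjective r ∧ r ≫ snd = (yon S).map rW ∧ IsPullback l.left rW.left ω.left τ.left := by
  obtain ⟨R, rU, rW, r, -, hr2, sqR, hQ⟩ := exists_chart_of_isPullback sq a (𝟙 _)
    (hY.representable_from_yon _)
  have hre : RepWith @Etale r := hQ @Etale hae (repWith_id _ T)
  have hrs : RepWith @Surjective r := hQ @Surjective has (repWith_id _ T)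
  have sqR' : IsPullback ((yon S).map rU) ((yon S).map rW) (a ≫ f) ((yon S).map τ ≫ p) := by
    have := sqR
    rwa [Category.id_comp] at this
  have hw : ((yon S).map rW ≫ (yon S).map τ) ≫ p = (yon S).map rU ≫ a ≫ f := by
    rw [Category.assoc]; exact sqR'.w.symm
  obtain ⟨l, hl⟩ := (yon S).map_surjective
    (sqW.lift ((yon S).map rW ≫ (yon S).map τ) ((yon S).map rU) hw)
  have hl1 : (yon S).map l ≫ (yon S).map ω = (yon S).map rW ≫ (yon S).map τ := by
    rw [hl, sqW.lift_fst]
  have hl2 : (yon S).map l ≫ (yon S).map c = (yon S).map rU := by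
    rw [hl, sqW.lift_snd]
  have sq2 : IsPullback ((yon S).map l) ((yon S).map rW) ((yon S).map ω) ((yon S).map τ) := by
    refine IsPullback.of_right ?_ hl1 sqW.flip
    rw [hl2]
    exact sqR'
  exact ⟨R, rW, r, l, hre, hrs, by rw [hr2, Category.comp_id], isPullback_left_of_yon sq2⟩

/-- A flat, quasi-compact, surjective morphism of algebraic spaces is universally submersive. -/
theorem isUnivSubmersiveMor_of_flat_qc_surjective {X Y : Sp S} (hX : IsAlgSpace X) (hY : IsAlgSpace Y)
    (f : X ⟶ Y) (hfl : LocP @Flat f) (hqc : IsQuasiCompactMor f) (hs : IsSurjectiveMor f) :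
    IsUnivSubmersiveMor f := by
  obtain ⟨U, a, hae, has⟩ := hX.atlas
  obtain ⟨V, p, hpe, hps⟩ := hY.atlas
  obtain ⟨W, c, w₀, sqW⟩ := hpe.rep (a ≫ f)
  obtain ⟨ω, rfl⟩ := (yon S).map_surjective w₀
  have hce : Etale c.left := hpe.property _ _ _ sqW
  have hchart : RepWith @Etale ((yon S).map c ≫ a) :=
    (RepWith @Etale).comp_mem _ _ ((repWith_yon_map_iff _ _).2 hce) hae
  have hcomm : ((yon S).map c ≫ a) ≫ f = (yon S).map ω ≫ p := by
    rw [Category.assoc]; exact sqW.w.symm
  have hωfl : Flat ω.left := hfl _ _ ω hchart hpe hcomm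
  refine univSp_of_tests isEtaleLocalOnBase_isSubmersiveMor f
    (fun T t => IsAffine T.left ∧ ∃ τ : T ⟶ V, t = (yon S).map τ ≫ p) ?_ ?_
  · intro Z hZ g
    obtain ⟨W', ρ, τ, hρe, hρs, hρ⟩ := exists_etale_cover_through_chart p hpe hps hZ g
    refine ⟨W'.left.affineOpens, fun i => overOpen W' i.1, fun i => (yon S).map (overOpenι W' i.1) ≫ ρ,
      fun i => repWith_etale_restrict ρ hρe i.1, ?_, fun i => ⟨i.2, overOpenι W' i.1 ≫ τ, ?_⟩⟩
    · intro z
      obtain ⟨w, hw⟩ := ofPt_surjective_of_surjective ρ hρs z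
      obtain ⟨Wi, hWi, hwWi, -⟩ := (TopologicalSpace.Opens.isBasis_iff_nbhd.mp W'.left.isBasis_affineOpens)
        (show w ∈ (⊤ : W'.left.Opens) from trivial)
      refine ⟨⟨Wi, hWi⟩, (⟨w, hwWi⟩ : ↥Wi), ?_⟩
      rw [ofPt_restrict]
      exact hw
    · rw [Category.assoc, hρ, Functor.map_comp, Category.assoc]
  · rintro T t ⟨hT, τ, rfl⟩ P fst snd sq
    obtain ⟨R, rW, r, l, hre, hrs, hr2, sq3⟩ :=
      exists_chart_base_change_through_chart hY f a hae has p c ω sqW τ fst snd sq
    have hrWfl : Flat rW.left := MorphismProperty.of_isPullback sq3 hωfl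
    have hTa : IsAffine T.left := hT
    have hPq : IsQuasiCompactSp P :=
      hqc (IsAlgSpace.yon_obj T) (isQuasiCompactSp_yon_of_compactSpace T) _ fst snd sq
    have hPc := compactSpace_points_of_isQuasiCompactSp hPq
    obtain ⟨W₁, hW₁c, hW₁s⟩ := exists_compact_open_surjective r (isOpenMap_ofPt_of_etale r hre)
      (ofPt_surjective_of_surjective r hrs)
    have hW₁c' : CompactSpace ↥(W₁ : Scheme.{u}) := isCompact_iff_compactSpace.mp hW₁c
    have hrel : ∀ x : ↥R.left, Points.map snd (Points.ofPt r x) = Points.schemeHomeo T (rW.left x) := by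
      intro x
      rw [Points.map_ofPt, hr2, Points.ofPt_eq_map_ofScheme, map_yon_map_ofScheme]
      rfl
    have hψfl : Flat (W₁.ι ≫ rW.left) := inferInstance
    have hψqc : QuasiCompact (W₁.ι ≫ rW.left) := inferInstance
    have hψs : Surjective (W₁.ι ≫ rW.left) := by
      refine ⟨fun z => ?_⟩
      obtain ⟨x, hx⟩ := hs (Points.map ((yon S).map τ ≫ p) (Points.schemeHomeo T z))
      obtain ⟨y, -, hy⟩ := exists_point_of_isPullback sq x (Points.schemeHomeo T z) hx
      obtain ⟨w, hw, hwy⟩ := hW₁s y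
      refine ⟨(⟨w, hw⟩ : ↥W₁), ?_⟩
      apply (Points.schemeHomeo T).injective
      have := hrel w
      rw [hwy, hy] at this
      exact this.symm
    have hq := Flat.isQuotientMap_of_surjective (W₁.ι ≫ rW.left)
    have hfun : Points.map snd ∘ (fun w : ↥W₁ => Points.ofPt r (W₁.ι w)) =
        Points.schemeHomeo T ∘ (W₁.ι ≫ rW.left) := by
      funext w
      exact hrel (W₁.ι w)
    have hcomp : IsQuotientMap (Points.map snd ∘ (fun w : ↥W₁ => Points.ofPt r (W₁.ι w))) := by
      rw [hfun]
      exact (Points.schemeHomeo T).isQuotientMap.comp hq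
    exact IsQuotientMap.of_comp ((Points.continuous_ofPt r).comp W₁.ι.continuous)
      (Points.continuous_map snd) hcomp

/-- Squares over a monomorphism. -/
theorem isPullback_of_comp_mono_sub {C : Type*} [Category C] {P X Y Z Z' : C} {fst : P ⟶ X} {snd : P ⟶ Y}
    {a : X ⟶ Z} {b : Y ⟶ Z} (f : Z ⟶ Z') [Mono f] (sq : IsPullback fst snd (a ≫ f) (b ≫ f)) :
    IsPullback fst snd a b := by
  refine isPullback_of_exists_lift ?_ ?_ ?_
  · rw [← cancel_mono f, Category.assoc, Category.assoc]
    exact sq.w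
  · intro Q c d h
    have h' : c ≫ a ≫ f = d ≫ b ≫ f := by rw [← Category.assoc, h, Category.assoc]
    exact ⟨sq.lift c d h', sq.lift_fst _ _ _, sq.lift_snd _ _ _⟩
  · intro Q l l' h1 h2
    exact sq.hom_ext h1 h2

/-- A monomorphism from a nonempty algebraic space to the spectrum of a field is an isomorphism. -/
theorem isIso_of_mono_to_field {k : Type u} [Field k] (str : Spec (CommRingCat.of k) ⟶ S) {Z : Sp S}
    (hZ : IsAlgSpace Z) (f : Z ⟶ (yon S).obj (Over.mk str)) [Mono f] (hne : Nonempty (Points Z)) :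
    IsIso f := by
  obtain ⟨x⟩ := hne
  obtain ⟨U, a, hae, has⟩ := hZ.atlas
  obtain ⟨u, -⟩ := ofPt_surjective_of_surjective a has x
  obtain ⟨W, hW, huW, -⟩ := (TopologicalSpace.Opens.isBasis_iff_nbhd.mp U.left.isBasis_affineOpens)
    (show u ∈ (⊤ : U.left.Opens) from trivial)
  have hae' : RepWith @Etale ((yon S).map (overOpenι U W) ≫ a) := repWith_etale_restrict a hae W
  obtain ⟨γ, hγ⟩ := (yon S).map_surjective (((yon S).map (overOpenι U W) ≫ a) ≫ f)
  have sqγ : IsPullback ((yon S).map (pullback.fst γ γ)) ((yon S).map (pullback.snd γ γ))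
      ((yon S).map (overOpenι U W) ≫ a) ((yon S).map (overOpenι U W) ≫ a) := by
    apply isPullback_of_comp_mono_sub f
    rw [← hγ]
    exact (IsPullback.of_hasPullback γ γ).map (yon S)
  have hpr : Etale (pullback.fst γ γ).left := hae'.property _ _ _ sqγ.flip
  have sqS : IsPullback (pullback.fst γ γ).left (pullback.snd γ γ).left γ.left γ.left :=
    (IsPullback.of_hasPullback γ γ).map (Over.forget S)
  have hWa : IsAffine (overOpen U W).left := hW
  obtain ⟨γ₀, hγ₀⟩ : ∃ γ₀ : (overOpen U W).left ⟶ Spec (CommRingCat.of k), γ₀ = γ.left := ⟨_, rfl⟩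
  have h1 : Flat γ₀ := inferInstance
  have h2 : QuasiCompact γ₀ := inferInstance
  have h3 : Surjective γ₀ := ⟨fun z => ⟨(⟨u, huW⟩ : ↥W), Subsingleton.elim _ _⟩⟩
  have hγe : Etale γ₀ := by
    rw [hγ₀]
    rw [hγ₀] at h1 h2 h3
    exact MorphismProperty.of_isPullback_of_descendsAlong (P := @Etale)
      (Q := @Surjective ⊓ @Flat ⊓ @QuasiCompact) sqS ⟨⟨h3, h1⟩, h2⟩ hpr
  rw [hγ₀] at hγe h3
  have hepi : Epi ((yon S).map γ) := by
    have hl : Sheaf.IsLocallySurjective ((yon S).map γ) :=
      isLocallySurjective_of_repWith_fppf _ ((repWith_yon_map_iff _ _).2 (inferInstance : Flat γ.left))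
        ((repWith_yon_map_iff _ _).2 (inferInstance : LocallyOfFinitePresentation γ.left))
        ((repWith_yon_map_iff _ _).2 h3)
    infer_instance
  rw [hγ] at hepi
  have : Epi f := epi_of_epi ((yon S).map (overOpenι U W) ≫ a) f
  exact isIso_of_mono_of_epi f

end Groth.Agent.Lib.Helper16
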