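import Groth.Agent.Lib.Helper16.GlueRep
import Groth.Agent.Lib.Helper15.OpenSubspace
import Groth.Agent.Lib.Helper15.OpenLocus

/-!
# Helper library (helper16): the schematic locus of an algebraic space
-/

set_option autoImplicit false
universe u
open CategoryTheory CategoryTheory.Limits AlgebraicGeometry Opposite

namespace Groth.Agent.Lib.Helper16.SchLocus

open AlgSp Groth.Agent.Lib.Helper15

variable {S : Scheme.{u}}

theorem isOpenImmersion_le_etale : (@IsOpenImmersion : MorphismProperty Scheme.{u}) ≤ @Etale :=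
  fun _ _ f hf => by
    have : IsOpenImmersion f := hf
    exact (inferInstance : Etale f)

/-- The schematic locus: the points with an open neighbourhood which is a scheme. -/
def schLocus (X : Sp S) : Set (Points X) :=
  {x | ∃ (M : Over S) (m : (yon S).obj M ⟶ X), RepWith @IsOpenImmersion m ∧ x ∈ Set.range (Points.ofPt m)}

theorem range_subset_schLocus {X : Sp S} {M : Over S} (m : (yon S).obj M ⟶ X) (hm : RepWith @IsOpenImmersion m) :
    Set.range (Points.ofPt m) ⊆ schLocus X := fun _ hx => ⟨M, m, hm, hx⟩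

theorem isOpen_schLocus (X : Sp S) : IsOpen (schLocus X) := by
  rw [isOpen_iff_forall_mem_open]
  rintro x ⟨M, m, hm, hx⟩
  refine ⟨Set.range (Points.ofPt m), range_subset_schLocus m hm, ?_, hx⟩
  exact (isOpenMap_ofPt_of_etale m (repWith_mono isOpenImmersion_le_etale m hm)).isOpen_range

theorem range_map_yon {X : Sp S} {M : Over S} (m : (yon S).obj M ⟶ X) :
    Set.range (Points.map m) = Set.range (Points.ofPt m) := by
  ext x
  constructor
  · rintro ⟨y, rfl⟩
    refine ⟨Points.toScheme M y, ?_⟩
    rw [Points.ofPt_eq_map_ofScheme, Points.ofScheme_toScheme]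
  · rintro ⟨t, rfl⟩
    exact ⟨Points.ofScheme M t, (Points.ofPt_eq_map_ofScheme m t).symm⟩

/-- The schematic locus is a scheme. -/
theorem exists_iso_yon_openSub_schLocus {X : Sp S} (hX : IsAlgSpace X) :
    ∃ (Mg : Over S), Nonempty ((yon S).obj Mg ≅ openSub X (schLocus X)) := by
  obtain ⟨U, a, hae, has⟩ := hX.atlas
  let ι : Type u := {u : ↥U.left // Points.ofPt a u ∈ schLocus X}
  have hch : ∀ i : ι, ∃ (M : Over S) (m : (yon S).obj M ⟶ X), RepWith @IsOpenImmersion m ∧
      Points.ofPt a i.1 ∈ Set.range (Points.ofPt m) := fun i => i.2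
  choose M m hm hmem using hch
  have hfac : ∀ i, ∃ m' : (yon S).obj (M i) ⟶ openSub X (schLocus X), m' ≫ openSubι X (schLocus X) = m i :=
    fun i => (exists_factor_openSub_iff (schLocus X) (m i)).2 fun t =>
      range_subset_schLocus (m i) (hm i) ⟨t, rfl⟩
  choose m' hm' using hfac
  have hm'o : ∀ i, RepWith @IsOpenImmersion (m' i) := fun i =>
    repWith_of_comp_mono _ (m' i) (openSubι X (schLocus X)) (by rw [hm' i]; exact hm i)
  have hcov : ∀ x : Points (openSub X (schLocus X)), ∃ i, x ∈ Set.range (Points.ofPt (m' i)) := by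
    intro x'
    have hx : Points.map (openSubι X (schLocus X)) x' ∈ schLocus X :=
      (range_map_openSubι (schLocus X)).subset ⟨x', rfl⟩
    obtain ⟨u, hu⟩ := ofPt_surjective_of_surjective a has (Points.map (openSubι X (schLocus X)) x')
    let i : ι := ⟨u, by rw [hu]; exact hx⟩
    obtain ⟨p, hp⟩ := hmem i
    refine ⟨i, p, ?_⟩
    apply points_map_injective_of_mono (openSubι X (schLocus X))
    rw [Points.map_ofPt, hm' i, hp]
    exact hu
  obtain ⟨Mg, e, -⟩ := GlueRep.exists_iso_yon_of_open_cover m' hm'o hcov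
  exact ⟨Mg, ⟨e⟩⟩

/-- A sheaf isomorphic to a representable sheaf has a representable underlying presheaf. -/
theorem isRepresentable_of_iso {F : Sp S} {M : Over S} (e : F ≅ (yon S).obj M) : F.obj.IsRepresentable := by
  have e' : F.obj ≅ CategoryTheory.uliftYoneda.{u + 1}.obj M := (sheafToPresheaf _ _).mapIso e
  exact ⟨M, ⟨(Functor.RepresentableBy.equivUliftYonedaIso _ M).symm e'.symm⟩⟩

/-- A sheaf with representable underlying presheaf is isomorphic to a representable sheaf. -/
theorem exists_iso_yon_of_isRepresentable {F : Sp S} (h : F.obj.IsRepresentable) :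
    ∃ M : Over S, Nonempty ((yon S).obj M ≅ F) := by
  obtain ⟨M, ⟨R⟩⟩ := h
  have e' : ((yon S).obj M).obj ≅ F.obj := Functor.RepresentableBy.equivUliftYonedaIso _ M R
  exact ⟨M, ⟨(fullyFaithfulSheafToPresheaf _ _).preimageIso e'⟩⟩

/-- Every open subspace which is a scheme lies in the schematic locus. -/
theorem range_map_subset_schLocus {X X'' : Sp S} (j'' : X'' ⟶ X) (hj'' : RepWith @IsOpenImmersion j'')
    (hrep : X''.obj.IsRepresentable) : Set.range (Points.map j'') ⊆ schLocus X := by
  obtain ⟨M'', ⟨e''⟩⟩ := exists_iso_yon_of_isRepresentable hrep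
  have hm : RepWith @IsOpenImmersion (e''.hom ≫ j'') :=
    (MorphismProperty.cancel_left_of_respectsIso (RepWith @IsOpenImmersion) e''.hom j'').2 hj''
  rintro _ ⟨x'', rfl⟩
  have h1 : Points.map j'' x'' = Points.map (e''.hom ≫ j'') (Points.map e''.inv x'') := by
    rw [← Points.map_comp]
    simp
  rw [h1]
  apply range_subset_schLocus _ hm
  rw [← range_map_yon]
  exact ⟨_, rfl⟩

end Groth.Agent.Lib.Helper16.SchLocus
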