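import Mathlib.AlgebraicGeometry.ZariskisMainTheorem
import Mathlib.AlgebraicGeometry.QuasiAffine
import Mathlib.AlgebraicGeometry.Morphisms.QuasiCompact

/-!
# Helper library (helper16): Zariski's main theorem, scheme level consequences
-/

set_option autoImplicit false
universe u
open CategoryTheory CategoryTheory.Limits AlgebraicGeometry

namespace Groth.Agent.Lib.Helper16.ZmtSp

/-- **Zariski's main theorem** A quasi-compact scheme, separated and locally quasi-finite over an affine scheme,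
is quasi-affine. -/
theorem isQuasiAffine_of_locallyQuasiFinite {M T : Scheme.{u}} [IsAffine T] (m : M ⟶ T)
    [LocallyQuasiFinite m] [LocallyOfFiniteType m] [IsSeparated m] [CompactSpace M] : M.IsQuasiAffine := by
  have : QuasiCompact m := by
    rw [HasAffineProperty.iff_of_isAffine (P := @QuasiCompact)]
    infer_instance
  have : IsAffine m.normalization := isAffine_of_isAffineHom m.fromNormalization
  exact Scheme.IsQuasiAffine.of_isImmersion m.toNormalization

/-- **Etale localization of quasi-finite morphisms** (packaged form of Mathlib's statement, with affine etale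
neighbourhood). -/
theorem exists_etale_finite_nbhd {U T : Scheme.{u}} (g : U ⟶ T) [LocallyOfFiniteType g] [IsSeparated g] (u : ↥U)
    (hu : g.QuasiFiniteAt u) :
    ∃ (T' : Scheme.{u}) (e : T' ⟶ T) (V₁ : Scheme.{u}) (b : V₁ ⟶ U) (c : V₁ ⟶ T') (v₁ : ↥V₁),
      IsAffine T' ∧ Etale e ∧ Etale b ∧ IsFinite c ∧ b ≫ g = c ≫ e ∧ b v₁ = u := by
  obtain ⟨E, e₀, he₀, -, V, W, v, -, hfin, hv⟩ := exists_etale_isCompl_of_quasiFiniteAt g rfl hu
  obtain ⟨h, hh⟩ : ∃ h : V.toScheme ⟶ E, h = V.ι ≫ pullback.snd g e₀ := ⟨_, rfl⟩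
  rw [← hh] at hfin
  obtain ⟨_, ⟨(E₁ : E.Opens), hE₁, rfl⟩, hvE₁, -⟩ :=
    E.isBasis_affineOpens.exists_subset_of_mem_open (Set.mem_univ (h v)) isOpen_univ
  have hfin' : IsFinite (h ∣_ E₁) := IsZariskiLocalAtTarget.restrict hfin E₁
  refine ⟨E₁, E₁.ι ≫ e₀, (h ⁻¹ᵁ E₁).toScheme, (h ⁻¹ᵁ E₁).ι ≫ V.ι ≫ pullback.fst g e₀, h ∣_ E₁, ⟨v, hvE₁⟩, hE₁,
    inferInstance, inferInstance, hfin', ?_, ?_⟩
  · rw [Category.assoc, Category.assoc, pullback.condition, ← Category.assoc V.ι, ← hh, ← Category.assoc,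
      ← morphismRestrict_ι, Category.assoc]
  · rw [← hv]
    rfl

end Groth.Agent.Lib.Helper16.ZmtSp
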