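import Groth.Agent.Lib.Helper16.ZarGlue
import Groth.Agent.Lib.Helper16.FinEtQuot
import Groth.Agent.Lib.Helper15.MonoInj
import Groth.Agent.Lib.Helper15.ToposQuot
import Mathlib.AlgebraicGeometry.Gluing
import Mathlib.CategoryTheory.Limits.Constructions.Over.Connected

/-!
# Helper library (helper16): a sheaf covered by representable open subsheaves is representable (port of Mathlib's
`AlgebraicGeometry.Scheme.LocalRepresentability` to fppf sheaves over a base)
-/

set_option autoImplicit false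
universe u
open CategoryTheory CategoryTheory.Limits AlgebraicGeometry Opposite

namespace Groth.Agent.Lib.Helper16.GlueRep

open AlgSp Functor.relativelyRepresentable

variable {S : Scheme.{u}} {F : Sp S} {ι : Type u} {M : ι → Over S} (f : ∀ i, (yon S).obj (M i) ⟶ F)
  (hf : ∀ i, RepWith @IsOpenImmersion (f i))

include hf in
theorem mono_f (i : ι) : Mono (f i) := Helper15.mono_of_repWith_isOpenImmersion _ (hf i)

theorem isOpenImmersion_fst' (i j : ι) : IsOpenImmersion ((hf i).rep.fst' (f j)).left :=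
  (hf j).property _ _ _ ((hf i).rep.isPullback' (f j)).flip

theorem isOpenImmersion_snd (i j : ι) : IsOpenImmersion ((hf i).rep.snd (f j)).left :=
  (hf i).property_snd (f j)

theorem fst'_self_eq_snd (i : ι) : (hf i).rep.fst' (f i) = (hf i).rep.snd (f i) := by
  have := mono_f f hf i
  apply (yon S).map_injective
  rw [← cancel_mono (f i), ((hf i).rep.isPullback' (f i)).w]

theorem isIso_fst'_self (i : ι) : IsIso ((hf i).rep.fst' (f i)) := by
  have := mono_f f hf i
  have := ((hf i).rep.isPullback' (f i)).isIso_fst_of_mono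
  exact isIso_of_fully_faithful (yon S) _

theorem mono_fst' (i j : ι) : Mono ((hf i).rep.fst' (f j)) := by
  have := isOpenImmersion_fst' f hf i j
  have : Mono ((Over.forget S).map ((hf i).rep.fst' (f j))) := by
    change Mono ((hf i).rep.fst' (f j)).left
    infer_instance
  exact (Over.forget S).mono_of_mono_map this

set_option backward.isDefEq.respectTransparency false in
/-- The gluing data in `Over S`. -/
noncomputable def glueDataOver : CategoryTheory.GlueData (Over S) where
  J := ι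
  U := M
  V := fun (i, j) ↦ (hf i).rep.pullback (f j)
  f i j := (hf i).rep.fst' (f j)
  f_mono i j := mono_fst' f hf i j
  f_id i := isIso_fst'_self f hf i
  t i j := (hf i).rep.symmetry (hf j).rep
  t_id i := by apply (hf i).rep.hom_ext' <;> simp [fst'_self_eq_snd f hf i]
  t' i j k := lift₃ _ _ _ (pullback₃.p₂ _ _ _) (pullback₃.p₃ _ _ _) (pullback₃.p₁ _ _ _)
    (by simp) (by simp)
  t_fac i j k := (hf j).rep.hom_ext' (by simp) (by simp)
  cocycle i j k := pullback₃.hom_ext (by simp) (by simp) (by simp)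

/-- The gluing data of schemes. -/
noncomputable def glueData : Scheme.GlueData where
  toGlueData := (glueDataOver f hf).mapGlueData (Over.forget S)
  f_open i j := isOpenImmersion_fst' f hf i j

/-- The structure morphism of the glued scheme. -/
noncomputable def gluedStr : (glueData f hf).glued ⟶ S :=
  Multicoequalizer.desc (glueData f hf).diagram S (fun i => (M i).hom) (by
    rintro ⟨i, j⟩
    change ((hf i).rep.fst' (f j)).left ≫ (M i).hom =
      (((hf i).rep.symmetry (hf j).rep).left ≫ ((hf j).rep.fst' (f i)).left) ≫ (M j).hom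
    rw [Over.w, Category.assoc, Over.w, Over.w])

/-- The glued scheme over `S`. -/
noncomputable def glued : Over S := Over.mk (gluedStr f hf)

/-- The inclusions into the glued scheme. -/
noncomputable def gluedι (i : ι) : M i ⟶ glued f hf :=
  Over.homMk ((glueData f hf).ι i) (Multicoequalizer.π_desc _ _ _ _ _)

instance (i : ι) : IsOpenImmersion (gluedι f hf i).left :=
  inferInstanceAs (IsOpenImmersion ((glueData f hf).ι i))

theorem gluedι_jointly_surjective (x : ↥(glued f hf).left) : ∃ i, x ∈ Set.range (gluedι f hf i).left := by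
  obtain ⟨i, y, hy⟩ := (glueData f hf).ι_jointly_surjective x
  exact ⟨i, y, hy⟩

theorem glue_condition (i j : ι) :
    (hf i).rep.fst' (f j) ≫ gluedι f hf i = (hf i).rep.snd (f j) ≫ gluedι f hf j := by
  rw [← (hf i).rep.symmetry_fst (hf j).rep, Category.assoc]
  ext1
  exact ((glueData f hf).glue_condition i j).symm

/-- The intersections in the glued scheme are the chosen fibre products. -/
theorem exists_lift_of_gluedι_eq {i j : ι} {Z : Over S} (gi : Z ⟶ M i) (gj : Z ⟶ M j)
    (h : gi ≫ gluedι f hf i = gj ≫ gluedι f hf j) :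
    ∃ z : Z ⟶ (hf i).rep.pullback (f j), z ≫ (hf i).rep.fst' (f j) = gi ∧ z ≫ (hf i).rep.snd (f j) = gj := by
  have h' : gi.left ≫ (glueData f hf).ι i = gj.left ≫ (glueData f hf).ι j :=
    congrArg CommaMorphism.left h
  obtain ⟨z₀, hz1, hz2⟩ : ∃ z₀ : Z.left ⟶ ((hf i).rep.pullback (f j)).left,
      z₀ ≫ ((hf i).rep.fst' (f j)).left = gi.left ∧
      z₀ ≫ ((hf i).rep.symmetry (hf j).rep).left ≫ ((hf j).rep.fst' (f i)).left = gj.left := by
    obtain ⟨z₀, hz1, hz2⟩ :=
      PullbackCone.IsLimit.lift' ((glueData f hf).vPullbackConeIsLimit i j) gi.left gj.left h'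
    exact ⟨z₀, hz1, hz2⟩
  have hw : z₀ ≫ ((hf i).rep.pullback (f j)).hom = Z.hom := by
    rw [← Over.w ((hf i).rep.fst' (f j)), ← Category.assoc, hz1, Over.w]
  refine ⟨Over.homMk z₀ hw, ?_, ?_⟩
  · ext1
    exact hz1
  · rw [← (hf i).rep.symmetry_fst (hf j).rep]
    ext1
    exact hz2

theorem yon_map_comp_f_eq {i j : ι} {Z : Over S} (gi : Z ⟶ M i) (gj : Z ⟶ M j)
    (h : gi ≫ gluedι f hf i = gj ≫ gluedι f hf j) : (yon S).map gi ≫ f i = (yon S).map gj ≫ f j := by
  obtain ⟨z, rfl, rfl⟩ := exists_lift_of_gluedι_eq f hf gi gj h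
  rw [Functor.map_comp, Functor.map_comp, Category.assoc, Category.assoc, ((hf i).rep.isPullback' (f j)).w]

/-- Gluing maps out of a representable sheaf along an open cover. -/
theorem existsUnique_glue_of_compat {F : Sp S} {V : Over S} {I : Type u} (VO : I → Over S) (ι : ∀ i, VO i ⟶ V)
    (hopen : ∀ i, IsOpenImmersion (ι i).left) (hsurj : ∀ x : V.left, ∃ i, x ∈ Set.range (ι i).left)
    (a : ∀ i, (yon S).obj (VO i) ⟶ F)
    (ha : ∀ (i j : I) (Z : Over S) (gi : Z ⟶ VO i) (gj : Z ⟶ VO j), gi ≫ ι i = gj ≫ ι j →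
      (yon S).map gi ≫ a i = (yon S).map gj ≫ a j) :
    ∃! σ : (yon S).obj V ⟶ F, ∀ i, (yon S).map (ι i) ≫ σ = a i := by
  have hcov := generate_ofArrows_mem_J_of_open_cover VO ι hopen hsurj
  have hF : Presieve.IsSheaf (J S) F.obj := (isSheaf_iff_isSheaf_of_type _ _).1 F.property
  have hsh : Presieve.IsSheafFor F.obj (Presieve.ofArrows VO ι) :=
    (Presieve.isSheafFor_iff_generate _).2 (hF _ hcov)
  rw [Presieve.isSheafFor_arrows_iff] at hsh
  obtain ⟨ξ, hξ, hξu⟩ := hsh (fun O => (J S).uliftYonedaEquiv (a O)) (by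
    intro O O' Z gO gO' hg
    rw [GrothendieckTopology.uliftYonedaEquiv_naturality, GrothendieckTopology.uliftYonedaEquiv_naturality]
    congr 1
    exact ha O O' Z gO gO' hg)
  refine ⟨(J S).uliftYonedaEquiv.symm ξ, fun O => ?_, fun m hm => ?_⟩
  · apply (J S).uliftYonedaEquiv.injective
    rw [← hξ O, ← GrothendieckTopology.uliftYonedaEquiv_naturality, Equiv.apply_symm_apply]
  · apply (J S).uliftYonedaEquiv.injective
    rw [Equiv.apply_symm_apply]
    apply hξu
    intro O
    rw [GrothendieckTopology.uliftYonedaEquiv_naturality, hm O]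

theorem exists_gluedHom : ∃ g : (yon S).obj (glued f hf) ⟶ F, ∀ i, (yon S).map (gluedι f hf i) ≫ g = f i :=
  (existsUnique_glue_of_compat M (gluedι f hf) (fun i => inferInstance) (gluedι_jointly_surjective f hf) f
    (fun _ _ _ gi gj h => yon_map_comp_f_eq f hf gi gj h)).exists

/-- The map from the glued scheme to `F`. -/
noncomputable def gluedHom : (yon S).obj (glued f hf) ⟶ F := (exists_gluedHom f hf).choose

theorem gluedι_gluedHom (i : ι) : (yon S).map (gluedι f hf i) ≫ gluedHom f hf = f i :=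
  (exists_gluedHom f hf).choose_spec i

/-- Lifting through an open immersion over `S`. -/
theorem exists_lift_of_range_subset {Z V V' : Over S} (j : V' ⟶ V) [IsOpenImmersion j.left] (ζ : Z ⟶ V)
    (h : Set.range ζ.left ⊆ Set.range j.left) : ∃ ℓ : Z ⟶ V', ℓ ≫ j = ζ := by
  let ℓ₀ := IsOpenImmersion.lift j.left ζ.left h
  have hℓ₀ : ℓ₀ ≫ j.left = ζ.left := IsOpenImmersion.lift_fac _ _ _
  refine ⟨Over.homMk ℓ₀ (by rw [← Over.w j, ← Category.assoc, hℓ₀, Over.w]), ?_⟩
  ext1
  exact hℓ₀

theorem eq_of_comp_gluedHom_eq {T : Over S} (α β : T ⟶ glued f hf)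
    (h : (yon S).map α ≫ gluedHom f hf = (yon S).map β ≫ gluedHom f hf) : α = β := by
  apply Tuple.over_hom_ext_of_forall
  intro t
  obtain ⟨i, hi⟩ := gluedι_jointly_surjective f hf (α.left t)
  obtain ⟨j, hj⟩ := gluedι_jointly_surjective f hf (β.left t)
  obtain ⟨O, hO⟩ : ∃ O : T.left.Opens, O = α.left ⁻¹ᵁ (gluedι f hf i).left.opensRange ⊓
      β.left ⁻¹ᵁ (gluedι f hf j).left.opensRange := ⟨_, rfl⟩
  have hOmem : ∀ y : ↥T.left, y ∈ O → α.left y ∈ Set.range (gluedι f hf i).left ∧
      β.left y ∈ Set.range (gluedι f hf j).left := by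
    intro y hy
    rw [hO] at hy
    exact hy
  have htO : t ∈ O := by
    rw [hO]
    exact ⟨hi, hj⟩
  refine ⟨O, htO, ?_⟩
  obtain ⟨a, ha⟩ := exists_lift_of_range_subset (gluedι f hf i) (overOpenι T O ≫ α) (by
    rintro _ ⟨y, rfl⟩
    exact (hOmem _ y.2).1)
  obtain ⟨b, hb⟩ := exists_lift_of_range_subset (gluedι f hf j) (overOpenι T O ≫ β) (by
    rintro _ ⟨y, rfl⟩
    exact (hOmem _ y.2).2)
  have hab : (yon S).map a ≫ f i = (yon S).map b ≫ f j := by
    rw [← gluedι_gluedHom f hf i, ← gluedι_gluedHom f hf j, ← Category.assoc, ← Category.assoc,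
      ← Functor.map_comp, ← Functor.map_comp, ha, hb, Functor.map_comp, Functor.map_comp, Category.assoc,
      Category.assoc, h]
  obtain ⟨z, h1, h2⟩ : ∃ z : overOpen T O ⟶ (hf i).rep.pullback (f j),
      z ≫ (hf i).rep.fst' (f j) = a ∧ z ≫ (hf i).rep.snd (f j) = b :=
    ⟨(hf i).rep.lift' a b hab, (hf i).rep.lift'_fst a b hab, (hf i).rep.lift'_snd a b hab⟩
  calc overOpenι T O ≫ α = a ≫ gluedι f hf i := ha.symm
    _ = (z ≫ (hf i).rep.fst' (f j)) ≫ gluedι f hf i := by rw [h1]
    _ = (z ≫ (hf i).rep.snd (f j)) ≫ gluedι f hf j := by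
      rw [Category.assoc, glue_condition, Category.assoc]
    _ = b ≫ gluedι f hf j := by rw [h2]
    _ = overOpenι T O ≫ β := hb

theorem mono_gluedHom : Mono (gluedHom f hf) := by
  constructor
  intro Z a b h
  apply sp_hom_ext
  intro T z
  obtain ⟨α, hα⟩ := (yon S).map_surjective (z ≫ a)
  obtain ⟨β, hβ⟩ := (yon S).map_surjective (z ≫ b)
  rw [← hα, ← hβ]
  congr 1
  apply eq_of_comp_gluedHom_eq f hf
  rw [hα, hβ, Category.assoc, Category.assoc, h]

theorem epi_gluedHom (hcov : ∀ x : Points F, ∃ i, x ∈ Set.range (Points.ofPt (f i))) :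
    Epi (gluedHom f hf) := by
  rw [Helper15.epi_iff_locally_lift]
  intro T y
  refine ⟨Sieve.generate (Presieve.ofArrows (fun i => (hf i).rep.pullback y) (fun i => (hf i).rep.snd y)),
    generate_ofArrows_mem_J_of_open_cover _ _ (fun i => (hf i).property_snd y) (fun t => ?_), ?_⟩
  · obtain ⟨i, m, hm⟩ := hcov (Points.ofPt y t)
    obtain ⟨v, -, hv⟩ := exists_point_of_isPullback_yon_yon ((hf i).rep.isPullback' y) m t hm
    exact ⟨i, v, hv⟩
  · rintro T' g' ⟨Y, h, _, ⟨i⟩, rfl⟩
    refine ⟨(yon S).map (h ≫ (hf i).rep.fst' y ≫ gluedι f hf i), ?_⟩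
    rw [Functor.map_comp, Functor.map_comp, Category.assoc, Category.assoc, gluedι_gluedHom,
      ((hf i).rep.isPullback' y).w, Functor.map_comp, Category.assoc]

include hf in
/-- **Lemma G.** A sheaf covered by representable open subsheaves is representable. -/
theorem exists_iso_yon_of_open_cover (hcov : ∀ x : Points F, ∃ i, x ∈ Set.range (Points.ofPt (f i))) :
    ∃ (Mg : Over S) (e : (yon S).obj Mg ≅ F) (j : ∀ i, M i ⟶ Mg), (∀ i, (yon S).map (j i) ≫ e.hom = f i) ∧
      (∀ i, IsOpenImmersion (j i).left) ∧ ∀ x : ↥Mg.left, ∃ i, x ∈ Set.range (j i).left := by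
  have h1 := mono_gluedHom f hf
  have h2 := epi_gluedHom f hf hcov
  have h3 : IsIso (gluedHom f hf) := isIso_of_mono_of_epi _
  exact ⟨glued f hf, asIso (gluedHom f hf), gluedι f hf, gluedι_gluedHom f hf, fun i => inferInstance,
    gluedι_jointly_surjective f hf⟩

end Groth.Agent.Lib.Helper16.GlueRep
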