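import Groth.Agent.Lib.Helper16.Misc1
import Groth.Agent.Lib.Helper16.LocP
import Mathlib.AlgebraicGeometry.Morphisms.FinitePresentation

/-!
# Helper library (helper16): miscellaneous lemmas II

* `isPullback_diag_of_kernelPair`: the kernel pair `X ×_Y X ⟶ X ⨯ X` is the base change of the diagonal of `Y`.
* `lfp_of_comp_of_lft`: cancellation for morphisms locally of finite presentation of schemes.
* `locP_lfp_of_comp`: the same for algebraic spaces.
-/

set_option autoImplicit false
universe u
open CategoryTheory CategoryTheory.Limits AlgebraicGeometry Opposite Topology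

namespace Groth.Agent.Lib.Helper16

open AlgSp

/-- The map `X ×_Y X ⟶ X ⨯ X` is the base change of the diagonal of `Y` along `f ⨯ f`. -/
theorem isPullback_diag_of_kernelPair {C : Type*} [Category C] [HasPullbacks C] [HasBinaryProducts C] {X Y : C}
    (f : X ⟶ Y) :
    IsPullback (pullback.fst f f ≫ f) (prod.lift (pullback.fst f f) (pullback.snd f f)) (Limits.diag Y)
      (prod.map f f) := by
  refine isPullback_of_exists_lift ?_ ?_ ?_
  · apply prod.hom_ext
    · simp only [Category.assoc, prod.lift_fst, prod.map_fst, Category.comp_id, prod.lift_fst_assoc]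
    · simp only [Category.assoc, prod.lift_snd, prod.map_snd, Category.comp_id, prod.lift_snd_assoc,
        pullback.condition]
  · intro Q a b h
    have h1 : a = b ≫ prod.fst ≫ f := by
      have := congrArg (· ≫ prod.fst) h
      simpa only [Category.assoc, prod.lift_fst, prod.map_fst, Category.comp_id] using this
    have h2 : a = b ≫ prod.snd ≫ f := by
      have := congrArg (· ≫ prod.snd) h
      simpa only [Category.assoc, prod.lift_snd, prod.map_snd, Category.comp_id] using this
    refine ⟨pullback.lift (b ≫ prod.fst) (b ≫ prod.snd) ?_, ?_, ?_⟩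
    · rw [Category.assoc, Category.assoc, ← h1, ← h2]
    · rw [pullback.lift_fst_assoc, Category.assoc, ← h1]
    · apply prod.hom_ext
      · simp only [Category.assoc, prod.lift_fst, pullback.lift_fst]
      · simp only [Category.assoc, prod.lift_snd, pullback.lift_snd]
  · intro Q l l' _ h2
    apply pullback.hom_ext
    · have := congrArg (· ≫ prod.fst) h2
      simpa only [Category.assoc, prod.lift_fst] using this
    · have := congrArg (· ≫ prod.snd) h2
      simpa only [Category.assoc, prod.lift_snd] using this

/-- The diagonal of `X` is the relative diagonal of `f` followed by `X ×_Y X ⟶ X ⨯ X`. -/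
theorem diag_eq_diagonal_comp {C : Type*} [Category C] [HasPullbacks C] [HasBinaryProducts C] {X Y : C}
    (f : X ⟶ Y) :
    Limits.diag X = pullback.diagonal f ≫ prod.lift (pullback.fst f f) (pullback.snd f f) := by
  apply prod.hom_ext
  · simp only [Category.assoc, prod.lift_fst, pullback.diagonal_fst]
  · simp only [Category.assoc, prod.lift_snd, pullback.diagonal_snd]

/-- Cancellation: if `f ≫ g` is locally of finite presentation and `g` is locally of finite type then `f` is
locally of finite presentation. -/
theorem lfp_of_comp_of_lft {X Y Z : Scheme.{u}} {f : X ⟶ Y} {g : Y ⟶ Z}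
    (h : LocallyOfFinitePresentation (f ≫ g)) (hg : LocallyOfFiniteType g) :
    LocallyOfFinitePresentation f := by
  wlog hZ : IsAffine Z generalizing X Y Z
  · rw [IsZariskiLocalAtTarget.iff_of_iSup_eq_top (P := @LocallyOfFinitePresentation) _
      (g.iSup_preimage_eq_top (iSup_affineOpens_eq_top Z))]
    intro U
    have H := IsZariskiLocalAtTarget.restrict h U.1
    rw [morphismRestrict_comp] at H
    exact this H (IsZariskiLocalAtTarget.restrict hg U.1) inferInstance
  wlog hY : IsAffine Y generalizing X Y
  · rw [IsZariskiLocalAtTarget.iff_of_iSup_eq_top (P := @LocallyOfFinitePresentation) _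
      (iSup_affineOpens_eq_top Y)]
    intro U
    have H := HasRingHomProperty.comp_of_isOpenImmersion @LocallyOfFinitePresentation (f ⁻¹ᵁ U.1).ι (f ≫ g) h
    rw [← morphismRestrict_ι_assoc] at H
    exact this H inferInstance inferInstance
  wlog hX : IsAffine X generalizing X
  · rw [IsZariskiLocalAtSource.iff_of_iSup_eq_top (P := @LocallyOfFinitePresentation) _
      (iSup_affineOpens_eq_top X)]
    intro U
    have H := HasRingHomProperty.comp_of_isOpenImmersion @LocallyOfFinitePresentation U.1.ι (f ≫ g) h
    rw [← Category.assoc] at H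
    exact this H inferInstance
  rw [HasRingHomProperty.iff_of_isAffine (P := @LocallyOfFinitePresentation)] at h ⊢
  rw [HasRingHomProperty.iff_of_isAffine (P := @LocallyOfFiniteType)] at hg
  exact RingHom.FinitePresentation.of_comp_finiteType _ h hg

/-- `g × 𝟙` is the base change of `g` along the first projection. -/
theorem isPullback_prod_map_fst {C : Type*} [Category C] [HasBinaryProducts C] {U' U : C} (g : U' ⟶ U) (V : C) :
    IsPullback (prod.fst : U' ⨯ V ⟶ U') (prod.map g (𝟙 V)) g prod.fst := by
  refine isPullback_of_exists_lift (prod.map_fst g (𝟙 V)).symm ?_ ?_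
  · intro Q a b h
    refine ⟨prod.lift a (b ≫ prod.snd), prod.lift_fst _ _, ?_⟩
    apply prod.hom_ext
    · simp only [Category.assoc, prod.map_fst, prod.lift_fst_assoc, h]
    · simp only [Category.assoc, prod.map_snd, prod.lift_snd, Category.comp_id]
  · intro Q l l' h1 h2
    apply prod.hom_ext h1
    have := congrArg (· ≫ prod.snd) h2
    simpa only [Category.assoc, prod.map_snd, Category.comp_id] using this

/-- `𝟙 × g` is the base change of `g` along the second projection. -/
theorem isPullback_prod_map_snd {C : Type*} [Category C] [HasBinaryProducts C] {U' U : C} (g : U' ⟶ U) (V : C) :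
    IsPullback (prod.snd : V ⨯ U' ⟶ U') (prod.map (𝟙 V) g) g prod.snd := by
  refine isPullback_of_exists_lift (prod.map_snd (𝟙 V) g).symm ?_ ?_
  · intro Q a b h
    refine ⟨prod.lift (b ≫ prod.fst) a, prod.lift_snd _ _, ?_⟩
    apply prod.hom_ext
    · simp only [Category.assoc, prod.map_fst, prod.lift_fst, Category.comp_id]
    · simp only [Category.assoc, prod.map_snd, prod.lift_snd_assoc, h]
  · intro Q l l' h1 h2
    refine prod.hom_ext ?_ h1
    have := congrArg (· ≫ prod.fst) h2
    simpa only [Category.assoc, prod.map_fst, Category.comp_id] using this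


variable {S : Scheme.{u}}

/-- If `f ≫ g` is locally of finite presentation and `g` is locally of finite type, then `f` is locally of finite
presentation (all etale locally on source and target). -/
theorem locP_lfp_of_comp {X Y Z : Sp S} (hZ : IsAlgSpace Z) (f : X ⟶ Y) (g : Y ⟶ Z)
    (hX : LocP @LocallyOfFinitePresentation (f ≫ g)) (hY : LocP @LocallyOfFiniteType g) :
    LocP @LocallyOfFinitePresentation f := by
  intro U V a b m ha hb hcomm
  obtain ⟨W₀, c, hce, hcs⟩ := hZ.atlas
  obtain ⟨V', π, w, hπe, hπs, hπw⟩ := exists_cover_over_chart g b c hce hcs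
  refine P_of_fppf_cover m π hπs inferInstance inferInstance ?_
  obtain ⟨h1, h2⟩ := chart_diagram_comp f g a b m ha hcomm c π w hπw
  have h3 : LocallyOfFinitePresentation (pullback.snd m π ≫ w).left := hX _ c _ h1 hce h2
  rw [Over.comp_left] at h3
  have h4 : LocallyOfFiniteType w.left :=
    hY ((yon S).map π ≫ b) c w
      ((RepWith @Etale).comp_mem _ _ ((repWith_yon_map_iff _ _).2 hπe) hb) hce hπw
  exact lfp_of_comp_of_lft h3 h4

/-- The product `g × g` of an etale morphism over `S` with itself is etale. -/
theorem etale_prod_map {U' U : Over S} (g : U' ⟶ U) [Etale g.left] : Etale (prod.map g g).left := by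
  have h1 : Etale (prod.map g (𝟙 U')).left :=
    MorphismProperty.of_isPullback (P := @Etale) ((isPullback_prod_map_fst g U').map (Over.forget S))
      ‹Etale g.left›
  have h2 : Etale (prod.map (𝟙 U) g).left :=
    MorphismProperty.of_isPullback (P := @Etale) ((isPullback_prod_map_snd g U).map (Over.forget S))
      ‹Etale g.left›
  have e : prod.map g g = prod.map g (𝟙 U') ≫ prod.map (𝟙 U) g := by
    rw [prod.map_map, Category.comp_id, Category.id_comp]
  rw [e, Over.comp_left]
  infer_instance

set_option backward.isDefEq.respectTransparency false in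
/-- Restriction of an etale equivalence relation along an etale morphism. -/
theorem isEtaleEqvRel_restrict {R U R' U' : Over S} (s t : R ⟶ U)
    (g : U' ⟶ U) (s' t' : R' ⟶ U') (r : R' ⟶ R)
    (hsq : IsPullback (prod.lift t' s') r (prod.map g g) (prod.lift t s))
    (h : AlgSp.IsEtaleEqvRel s t) [Etale g.left] :
    AlgSp.IsEtaleEqvRel s' t' := by
  have e_t : t' ≫ g = r ≫ t := by
    have := congrArg (· ≫ prod.fst) hsq.w
    simpa using this
  have e_s : s' ≫ g = r ≫ s := by
    have := congrArg (· ≫ prod.snd) hsq.w
    simpa using this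
  have hgg : Etale (prod.map g g).left := etale_prod_map g
  have hr : Etale r.left := MorphismProperty.of_isPullback (P := @Etale) (hsq.map (Over.forget S)) hgg
  have hse : Etale s.left := h.etale_left
  have hte : Etale t.left := h.etale_right
  have hs' : Etale s'.left := by
    have : Etale (s'.left ≫ g.left) := by
      rw [← Over.comp_left, e_s, Over.comp_left]
      infer_instance
    exact Etale.of_comp s'.left g.left
  have ht' : Etale t'.left := by
    have : Etale (t'.left ≫ g.left) := by
      rw [← Over.comp_left, e_t, Over.comp_left]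
      infer_instance
    exact Etale.of_comp t'.left g.left
  have key : ∀ (T : Over S) (a b : T ⟶ U'), (∃ ρ : T ⟶ R', ρ ≫ t' = a ∧ ρ ≫ s' = b) ↔
      (∃ r₀ : T ⟶ R, r₀ ≫ t = a ≫ g ∧ r₀ ≫ s = b ≫ g) := by
    intro T a b
    constructor
    · rintro ⟨ρ, rfl, rfl⟩
      exact ⟨ρ ≫ r, by rw [Category.assoc, ← e_t, Category.assoc],
        by rw [Category.assoc, ← e_s, Category.assoc]⟩
    · rintro ⟨r₀, h1, h2⟩
      have hw : prod.lift a b ≫ prod.map g g = r₀ ≫ prod.lift t s := by
        apply prod.hom_ext <;> simp [h1, h2]
      refine ⟨hsq.lift _ _ hw, ?_, ?_⟩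
      · have := congrArg (· ≫ prod.fst) (hsq.lift_fst _ _ hw)
        simpa using this
      · have := congrArg (· ≫ prod.snd) (hsq.lift_fst _ _ hw)
        simpa using this
  refine ⟨⟨?_, ?_⟩, hs', ht'⟩
  · intro T ρ ρ' h1 h2
    apply hsq.hom_ext
    · apply prod.hom_ext
      · simpa using h1
      · simpa using h2
    · refine h.injective T (ρ ≫ r) (ρ' ≫ r) ?_ ?_
      · simp only [Category.assoc, ← e_t]
        rw [← Category.assoc, h1, Category.assoc]
      · simp only [Category.assoc, ← e_s]
        rw [← Category.assoc, h2, Category.assoc]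
  · intro T
    have hE := h.equivalence T
    exact ⟨fun a => (key T a a).2 (hE.refl _),
      fun {a b} hab => (key T b a).2 (hE.symm ((key T a b).1 hab)),
      fun {a b c} h1 h2 => (key T a c).2 (hE.trans ((key T a b).1 h1) ((key T b c).1 h2))⟩

end Groth.Agent.Lib.Helper16
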