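import Groth.Agent.Lib.Helper16.SchImg
import Groth.Agent.Lib.Helper16.SchImgKer

/-!
# Helper library (helper16): scheme theoretic image via charts

* `isSchImage_of_chart`: chart criterion for being the scheme theoretic image.
* `exists_isSchImage_of_chart`: if the kernel of a chart of `f` is invariant, its closed subscheme descends to
  the scheme theoretic image.
* `ker_le_of_etale_surjective`: the kernel of a chart only depends on the sheaf it covers.
-/

set_option autoImplicit false
universe u
open CategoryTheory CategoryTheory.Limits AlgebraicGeometry Opposite Topology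

namespace Groth.Agent.Lib.Helper16.SchImg

open AlgSp SchImgKer

variable {S : Scheme.{u}}

theorem mono_of_repWith_isClosedImmersion {F G : Sp S} (i : F ⟶ G) (hi : RepWith @IsClosedImmersion i) :
    Mono i :=
  mono_of_repWith (P := @IsClosedImmersion)
    (fun _ _ g hg => by
      have : IsClosedImmersion g := hg
      exact MorphismProperty.monomorphisms.infer_property g) i hi

/-- **Chart criterion for the scheme theoretic image.** -/
theorem isSchImage_of_chart {X Y Z : Sp S} (f : X ⟶ Y) (i : Z ⟶ Y) (hi : RepWith @IsClosedImmersion i)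
    (hfac : ∃ f' : X ⟶ Z, f' ≫ i = f) {V U' W : Over S} (p : (yon S).obj V ⟶ Y) (hpe : RepWith @Etale p)
    (hps : RepWith @Surjective p) (e : (yon S).obj U' ⟶ X) (g : U' ⟶ V) (hw : e ≫ f = (yon S).map g ≫ p)
    (j : W ⟶ V) (q : (yon S).obj W ⟶ Z) (sq : IsPullback q ((yon S).map j) i p)
    (hker : g.left.ker ≤ j.left.ker) : IsSchImage f i := by
  refine ⟨hi, hfac, ?_⟩
  intro Z'' i' hZ'' hi' hf''
  obtain ⟨f'', hf''⟩ := hf''
  obtain ⟨W'', j'', fst'', sqW⟩ := hi'.rep p
  have hj'' : IsClosedImmersion j''.left := hi'.property _ _ _ sqW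
  have hj : IsClosedImmersion j.left := hi.property _ _ _ sq
  have hc : (e ≫ f'') ≫ i' = (yon S).map g ≫ p := by rw [Category.assoc, hf'', hw]
  obtain ⟨l, hl⟩ := (yon S).map_surjective (sqW.lift _ _ hc)
  have hl2 : l ≫ j'' = g := by
    apply (yon S).map_injective
    rw [Functor.map_comp, hl, sqW.lift_snd]
  have hl3 : l.left ≫ j''.left = g.left := congrArg CommaMorphism.left hl2
  have hle : j''.left.ker ≤ j.left.ker := by
    refine le_trans ?_ hker
    rw [← hl3]
    exact Scheme.Hom.le_ker_comp _ _
  let m : W.left ⟶ W''.left := IsClosedImmersion.lift j''.left j.left hle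
  have hm : m ≫ j''.left = j.left := IsClosedImmersion.lift_fac _ _ _
  let m' : W ⟶ W'' := Over.homMk m (by
    rw [← Over.w j'', ← Category.assoc, hm, Over.w j])
  have hm' : m' ≫ j'' = j := by
    ext1
    exact hm
  have hqe : RepWith @Etale q := by
    have := repWith_isStableUnderBaseChange (S := S) @Etale
    exact MorphismProperty.of_isPullback sq.flip hpe
  have hqs : RepWith @Surjective q := by
    have := repWith_isStableUnderBaseChange (S := S) @Surjective
    exact MorphismProperty.of_isPullback sq.flip hps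
  have hqepi : Epi q := epi_of_etale_surjective _ hqe hqs
  have : Mono i' := mono_of_repWith_isClosedImmersion i' hi'
  refine exists_lift_of_epi_mono q i' i ((yon S).map m' ≫ fst'') ?_
  rw [Category.assoc, sqW.w, ← Category.assoc, ← Functor.map_comp, hm', sq.w]

/-- If the kernel of a chart `g₀` of `f` over an atlas of `Y` is invariant under the etale equivalence relation
of the atlas, the closed subscheme it defines descends to the scheme theoretic image of `f`. -/
theorem exists_isSchImage_of_chart {X Y : Sp S} (hY : IsAlgSpace Y) (f : X ⟶ Y) {V R U' : Over S}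
    (p : (yon S).obj V ⟶ Y) (hpe : RepWith @Etale p) (hps : RepWith @Surjective p) (s t : R ⟶ V)
    (sqR : IsPullback ((yon S).map t) ((yon S).map s) p p) (e : (yon S).obj U' ⟶ X) [Epi e] (g₀ : U' ⟶ V)
    (hw : e ≫ f = (yon S).map g₀ ≫ p) (hinv : g₀.left.ker.comap s.left ≤ g₀.left.ker.comap t.left) :
    ∃ (Z : Sp S) (i : Z ⟶ Y)
      (q : (yon S).obj (Over.mk (g₀.left.ker.subschemeι ≫ V.hom)) ⟶ Z), IsAlgSpace Z ∧ IsSchImage f i ∧
        IsPullback q ((yon S).map (Over.homMk g₀.left.ker.subschemeι rfl :
          Over.mk (g₀.left.ker.subschemeι ≫ V.hom) ⟶ V)) i p := by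
  set I₀ := g₀.left.ker with hI₀
  let Z' : Over S := Over.mk (I₀.subschemeι ≫ V.hom)
  let io : Z' ⟶ V := Over.homMk I₀.subschemeι rfl
  have hmono : Mono io := (Over.forget S).mono_of_mono_map (inferInstanceAs (Mono I₀.subschemeι))
  obtain ⟨Z, i, q, hZ, hi, sq⟩ := InvSub.exists_subspace' hY s t p hpe hps sqR io (by
    intro T' r x hrx
    have h1 : r.left ≫ t.left = x.left ≫ I₀.subschemeι := congrArg CommaMorphism.left hrx
    obtain ⟨w, hw⟩ := exists_lift_of_comap_le s.left t.left I₀ hinv r.left x.left h1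
    refine ⟨Over.homMk w ?_, ?_⟩
    · show w ≫ I₀.subschemeι ≫ V.hom = T'.hom
      rw [← Category.assoc, hw, Category.assoc, Over.w s, Over.w r]
    · ext1
      exact hw)
  have hicl : RepWith @IsClosedImmersion i :=
    Groth.Agent.S9932.result @IsClosedImmersion (Or.inl rfl) (X := ⟨Z, hZ⟩) (Y := ⟨Y, hY⟩)
      (ObjectProperty.homMk i) V p hpe hps q _ sq
      ((repWith_yon_map_iff @IsClosedImmersion _).2 (inferInstanceAs (IsClosedImmersion I₀.subschemeι)))
  refine ⟨Z, i, q, hZ, ?_, sq⟩
  refine isSchImage_of_chart f i hicl ?_ p hpe hps e g₀ hw io q sq ?_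
  · let g₁ : U'.left ⟶ I₀.subscheme := IsClosedImmersion.lift I₀.subschemeι g₀.left
      (by rw [Scheme.IdealSheafData.ker_subschemeι])
    have hg₁ : g₁ ≫ I₀.subschemeι = g₀.left := IsClosedImmersion.lift_fac _ _ _
    let g₂ : U' ⟶ Z' := Over.homMk g₁ (by
      show g₁ ≫ I₀.subschemeι ≫ V.hom = U'.hom
      rw [← Category.assoc, hg₁, Over.w g₀])
    have hg₂ : g₂ ≫ io = g₀ := by
      ext1
      exact hg₁
    refine exists_lift_of_epi_mono e i f ((yon S).map g₂ ≫ q) ?_
    rw [hw, Category.assoc, sq.w, ← Category.assoc, ← Functor.map_comp, hg₂]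
  · show g₀.left.ker ≤ (I₀.subschemeι).ker
    rw [Scheme.IdealSheafData.ker_subschemeι]

/-- The kernel of a chart of a sheaf over a scheme only depends on the sheaf: a chart which is etale and
surjective has the smallest kernel. -/
theorem ker_le_of_etale_surjective {F : Sp S} {R P P' : Over S} (m : F ⟶ (yon S).obj R)
    (ε' : (yon S).obj P' ⟶ F) (hε'e : RepWith @Etale ε') (hε's : RepWith @Surjective ε') (a' : P' ⟶ R)
    (ha' : ε' ≫ m = (yon S).map a') (ε : (yon S).obj P ⟶ F) (a : P ⟶ R) (ha : ε ≫ m = (yon S).map a) :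
    a'.left.ker ≤ a.left.ker := by
  obtain ⟨P'', c, d', sq⟩ := hε'e.rep ε
  obtain ⟨d, rfl⟩ := (yon S).map_surjective d'
  have hce : Etale c.left := hε'e.property _ _ _ sq
  have hcs : Surjective c.left := hε's.property _ _ _ sq
  have hcd : c ≫ a = d ≫ a' := by
    apply (yon S).map_injective
    rw [Functor.map_comp, Functor.map_comp, ← ha, ← ha', ← Category.assoc, ← Category.assoc, sq.w]
  have hcd' : c.left ≫ a.left = d.left ≫ a'.left := congrArg CommaMorphism.left hcd
  calc a'.left.ker ≤ (d.left ≫ a'.left).ker := Scheme.Hom.le_ker_comp _ _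
    _ = (c.left ≫ a.left).ker := by rw [hcd']
    _ = a.left.ker := ker_comp_of_flat_surjective _ _

end Groth.Agent.Lib.Helper16.SchImg
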