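import Groth.Agent.Lib.Helper16.EtChartSp
import Groth.Agent.Lib.Helper26.AlgSpFormal
import Groth.Agent.Lib.Helper17.AlgSpAff
import Groth.Agent.Lib.Helper16.UnivRep
import Groth.Agent.Lib.Helper16.SchImg2
import Groth.Agent.Lib.Helper16.DiagProps
import Groth.Agent.Lib.Helper16.FpqcMono
import Groth.Agent.Lib.Helper15.MonoInj

/-!
# Helper library (helper16): unramified monomorphisms of algebraic spaces
-/

set_option autoImplicit false
universe u
open CategoryTheory CategoryTheory.Limits AlgebraicGeometry Opposite Topology MorphismProperty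

namespace Groth.Agent.Lib.Helper16.UnramMono

open AlgSp Groth.Agent.Lib.Helper15 Groth.Agent.Lib.Helper16 Groth.Agent.Lib.Helper16.SchLocus

variable {S : Scheme.{u}}

/-- The closed immersion defined by a square zero ideal is surjective. -/
theorem surjective_specMap_quotientMk {A : Type u} [CommRing A] (I : Ideal A) (hI : I ^ 2 = ⊥) :
    Surjective (Spec.map (CommRingCat.ofHom (Ideal.Quotient.mk I))) := by
  have hle : I ≤ nilradical A := by
    intro x hx
    rw [mem_nilradical]
    refine ⟨2, ?_⟩
    have : x ^ 2 ∈ I ^ 2 := Ideal.pow_mem_pow hx 2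
    rwa [hI, Ideal.mem_bot] at this
  refine ⟨fun x => ?_⟩
  obtain ⟨y, hy⟩ := (PrimeSpectrum.comap_quotientMk_bijective_of_le_nilradical hle).2 x
  exact ⟨y, hy⟩

/-- Two sections of an etale morphism which agree after a surjective morphism agree. -/
theorem eq_of_sections_of_etale {T T' W : Scheme.{u}} (j : T ⟶ T') [Surjective j] (w : W ⟶ T') [Etale w]
    (s s' : T' ⟶ W) (hs : s ≫ w = 𝟙 T') (hs' : s' ≫ w = 𝟙 T') (h : j ≫ s = j ≫ s') : s = s' := by
  obtain ⟨t, ht1, ht2⟩ : ∃ t : T' ⟶ pullback w w, t ≫ pullback.fst w w = s ∧ t ≫ pullback.snd w w = s' :=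
    ⟨pullback.lift s s' (by rw [hs, hs']), pullback.lift_fst _ _ _, pullback.lift_snd _ _ _⟩
  have hcond := pullback.condition (f := pullback.diagonal w) (g := t)
  have a1 : pullback.fst (pullback.diagonal w) t = pullback.snd (pullback.diagonal w) t ≫ s := by
    have := congrArg (· ≫ pullback.fst w w) hcond
    simpa only [Category.assoc, pullback.diagonal_fst, Category.comp_id, ht1] using this
  have a2 : pullback.fst (pullback.diagonal w) t = pullback.snd (pullback.diagonal w) t ≫ s' := by
    have := congrArg (· ≫ pullback.snd w w) hcond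
    simpa only [Category.assoc, pullback.diagonal_snd, Category.comp_id, ht2] using this
  have hsurj : Surjective (pullback.snd (pullback.diagonal w) t) := by
    obtain ⟨k, hk⟩ : ∃ k : T ⟶ pullback (pullback.diagonal w) t, k ≫ pullback.snd (pullback.diagonal w) t = j :=
      ⟨pullback.lift (j ≫ s) j (by
        apply pullback.hom_ext
        · simp only [Category.assoc, pullback.diagonal_fst, Category.comp_id, ht1]
        · simp only [Category.assoc, pullback.diagonal_snd, Category.comp_id, ht2, h]),
        pullback.lift_snd _ _ _⟩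
    refine ⟨fun x => ?_⟩
    obtain ⟨y, hy⟩ := j.surjective x
    exact ⟨k y, by rw [← Scheme.Hom.comp_apply, hk, hy]⟩
  have : IsIso (pullback.snd (pullback.diagonal w) t) :=
    (isIso_iff_isOpenImmersion_and_surjective _).2 ⟨inferInstance, hsurj⟩
  exact (cancel_epi (pullback.snd (pullback.diagonal w) t)).1 (a1.symm.trans a2)

/-- A representable etale morphism of sheaves is formally unramified in the lifting sense. -/
theorem isFormallyUnramifiedMor_of_repWith_etale {F G : Sp S} (a : F ⟶ G) (ha : RepWith @Etale a) :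
    IsFormallyUnramifiedMor a := by
  intro sq l l' h1 h2 h3 h4
  obtain ⟨W, w, c, sqW⟩ := ha.rep sq.bot
  have hw : Etale w.left := ha.property _ _ _ sqW
  obtain ⟨σ, hσ⟩ := (yon S).map_surjective (sqW.lift l (𝟙 _) (by rw [h2, Category.id_comp]))
  obtain ⟨σ', hσ'⟩ := (yon S).map_surjective (sqW.lift l' (𝟙 _) (by rw [h4, Category.id_comp]))
  have hσ1 : (yon S).map σ ≫ c = l := by rw [hσ, sqW.lift_fst]
  have hσ'1 : (yon S).map σ' ≫ c = l' := by rw [hσ', sqW.lift_fst]
  have hσ2 : σ ≫ w = 𝟙 _ := by
    apply (yon S).map_injective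
    rw [Functor.map_comp, hσ, sqW.lift_snd]
    exact ((yon S).map_id _).symm
  have hσ'2 : σ' ≫ w = 𝟙 _ := by
    apply (yon S).map_injective
    rw [Functor.map_comp, hσ', sqW.lift_snd]
    exact ((yon S).map_id _).symm
  have hj : sq.j ≫ σ = sq.j ≫ σ' := by
    apply (yon S).map_injective
    rw [Functor.map_comp, Functor.map_comp]
    apply sqW.hom_ext
    · rw [Category.assoc, Category.assoc, hσ1, hσ'1, h1, h3]
    · rw [Category.assoc, Category.assoc, ← (yon S).map_comp σ w, ← (yon S).map_comp σ' w, hσ2, hσ'2]
  have hsurj : Surjective sq.j.left := surjective_specMap_quotientMk sq.I sq.sq_zero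
  have hleft : σ.left = σ'.left :=
    eq_of_sections_of_etale sq.j.left w.left σ.left σ'.left
      (by rw [← Over.comp_left, hσ2]; rfl) (by rw [← Over.comp_left, hσ'2]; rfl)
      (by rw [← Over.comp_left, ← Over.comp_left, hj])
  have hσσ' : σ = σ' := Over.OverMorphism.ext hleft
  rw [← hσ1, ← hσ'1, hσσ']

/-- If `h_g` is formally unramified in the lifting sense then `g` is formally unramified. -/
theorem formallyUnramified_of_isFormallyUnramifiedMor_yon_map {U V : Over S} (h : U ⟶ V)
    (hh : IsFormallyUnramifiedMor ((yon S).map h)) : FormallyUnramified h.left := by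
  refine FormallyUnramified.of_hom_ext h.left ?_
  intro R Q φ hφ hker g₁ g₂ hg hgf
  have hstr : g₂ ≫ U.hom = g₁ ≫ U.hom := by
    rw [← Over.w h, ← Category.assoc, ← Category.assoc, hgf]
  obtain ⟨ψ, hψ⟩ : ∃ ψ : CommRingCat.of (↑R ⧸ RingHom.ker φ.hom) ≅ Q,
      CommRingCat.ofHom (Ideal.Quotient.mk (RingHom.ker φ.hom)) ≫ ψ.hom = φ := by
    refine ⟨(RingHom.quotientKerEquivOfSurjective hφ).toCommRingCatIso, ?_⟩
    ext x
    rfl
  have hmk : Spec.map (CommRingCat.ofHom (Ideal.Quotient.mk (RingHom.ker φ.hom))) ≫ g₁ =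
      Spec.map (CommRingCat.ofHom (Ideal.Quotient.mk (RingHom.ker φ.hom))) ≫ g₂ := by
    have h1 : Spec.map φ = Spec.map ψ.hom ≫
        Spec.map (CommRingCat.ofHom (Ideal.Quotient.mk (RingHom.ker φ.hom))) := by
      rw [← Spec.map_comp, hψ]
    rw [h1, Category.assoc, Category.assoc] at hg
    exact (cancel_epi (Spec.map ψ.hom)).1 hg
  let sq : InfSq ((yon S).map h) :=
    { A := R
      I := RingHom.ker φ.hom
      sq_zero := hker
      str := g₁ ≫ U.hom
      top := (yon S).map (Over.homMk
        (Spec.map (CommRingCat.ofHom (Ideal.Quotient.mk (RingHom.ker φ.hom))) ≫ g₁) (by simp))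
      bot := (yon S).map (Over.homMk (g₁ ≫ h.left) (by simp))
      comm := by
        rw [← Functor.map_comp, ← Functor.map_comp]
        exact congrArg (fun t => (yon S).map t) (Over.OverMorphism.ext (Category.assoc _ _ _)) }
  have key := hh sq ((yon S).map (Over.homMk g₁ rfl : sq.ptT' ⟶ U))
    ((yon S).map (Over.homMk g₂ hstr : sq.ptT' ⟶ U))
    (by rw [← Functor.map_comp]; exact congrArg (fun t => (yon S).map t) (Over.OverMorphism.ext rfl))
    (by rw [← Functor.map_comp]; exact congrArg (fun t => (yon S).map t) (Over.OverMorphism.ext rfl))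
    (by rw [← Functor.map_comp]; exact congrArg (fun t => (yon S).map t) (Over.OverMorphism.ext hmk.symm))
    (by rw [← Functor.map_comp]; exact congrArg (fun t => (yon S).map t) (Over.OverMorphism.ext hgf.symm))
  exact congrArg (fun t => t.left) ((yon S).map_injective key)

/-- Formally unramified in the lifting sense implies formally unramified on charts. -/
theorem locP_formallyUnramified_of_isFormallyUnramifiedMor {X Y : Sp S} (f : X ⟶ Y)
    (hf : IsFormallyUnramifiedMor f) : LocP @FormallyUnramified f := by
  intro U V a b h ha hb comm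
  have h1 : IsFormallyUnramifiedMor (a ≫ f) :=
    Groth.Agent.Lib.Helper26.AlgSpFormal.unramified_comp (isFormallyUnramifiedMor_of_repWith_etale a ha) hf
  rw [comm] at h1
  exact formallyUnramified_of_isFormallyUnramifiedMor_yon_map h
    (Groth.Agent.Lib.Helper26.AlgSpFormal.unramified_of_comp h1)

/-- An unramified universally injective morphism of algebraic spaces is a monomorphism. -/
theorem mono_of_locP_unramified_of_univInjective {X Y : Sp S} (hX : IsAlgSpace X) (hY : IsAlgSpace Y)
    (f : X ⟶ Y) (hu : LocP (@LocallyOfFiniteType ⊓ @FormallyUnramified) f)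
    (hinj : IsUnivInjectiveMor f) : Mono f := by
  have hΔ := Groth.Agent.Lib.Helper17.repWith_isOpenImmersion_diagonal_of_locP_unramified hX hY f hu
  have hΔe : RepWith @Etale (pullback.diagonal f) :=
    MorphismProperty.relative_monotone (fun _ _ k hk => by
      have : IsOpenImmersion k.left := hk
      exact (inferInstance : Etale k.left)) _ hΔ
  have hinj' : Function.Injective (Points.map (pullback.snd f f)) :=
    hinj hX f (pullback.fst f f) (pullback.snd f f) (IsPullback.of_hasPullback f f)
  have hsurj : IsSurjectiveMor (pullback.diagonal f) := by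
    intro z
    refine ⟨Points.map (pullback.snd f f) z, hinj' ?_⟩
    rw [← Points.map_comp, pullback.diagonal_snd, Points.map_id]
  have hiso : IsIso (pullback.diagonal f) :=
    isIso_of_etale_mono_surjective hX _
      (fun U φ hφ => (RepWith (S := S) @Etale).comp_mem _ _ hφ hΔe) hsurj
  have h1 : IsIso (pullback.diagonal f ≫ pullback.fst f f) := by
    rw [pullback.diagonal_fst]; infer_instance
  have h2 : IsIso (pullback.fst f f) := IsIso.of_isIso_comp_left (pullback.diagonal f) _
  exact IsKernelPair.mono_of_isIso_fst (IsPullback.of_hasPullback f f)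

/-- A monomorphism is universally injective. -/
theorem isUnivInjectiveMor_of_mono {X Y : Sp S} (f : X ⟶ Y) [Mono f] : IsUnivInjectiveMor f := by
  intro Z Z' _ g fst snd sq
  have : Mono snd := sq.mono_snd_of_mono
  exact points_map_injective_of_mono snd

/-- A monomorphism locally of finite type of algebraic spaces is representable. -/
theorem representable_of_mono_lft {X Y : Sp S} (hX : IsAlgSpace X) (hY : IsAlgSpace Y) (f : X ⟶ Y)
    [Mono f] (hlft : LocP @LocallyOfFiniteType f) : Representable f := by
  intro T ξ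
  have sqZ := IsPullback.of_hasPullback f ξ
  have hZ : IsAlgSpace (pullback f ξ) := isAlgSpace_of_isPullback hX hY.diag (IsAlgSpace.yon_obj T) sqZ
  have hmono : Mono (pullback.snd f ξ) := sqZ.mono_snd_of_mono
  have hl : LocP @LocallyOfFiniteType (pullback.snd f ξ) :=
    locP_of_isPullback etLocalST_locallyOfFiniteType hX hY sqZ hlft
  obtain ⟨M, ⟨ε⟩⟩ := EtChart.exists_iso_yon_of_mono_lft hZ (pullback.snd f ξ) hl
  obtain ⟨s, hs⟩ := (yon S).map_surjective (ε.hom ≫ pullback.snd f ξ)
  refine ⟨M, s, ε.hom ≫ pullback.fst f ξ, ?_⟩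
  have h1 : IsPullback ε.hom ((yon S).map s) (pullback.snd f ξ) (𝟙 _) :=
    IsPullback.of_horiz_isIso ⟨by rw [hs, Category.comp_id]⟩
  have h2 := h1.paste_horiz sqZ
  rwa [Category.id_comp] at h2

/-- A monomorphism locally of finite type is unramified. -/
theorem locP_unramified_of_mono_lft {X Y : Sp S} (hX : IsAlgSpace X) (hY : IsAlgSpace Y) (f : X ⟶ Y)
    [Mono f] (hlft : LocP @LocallyOfFiniteType f) :
    LocP (@LocallyOfFiniteType ⊓ @FormallyUnramified) f := by
  have : (RepWith (S := S) @IsOpenImmersion).RespectsIso :=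
    MorphismProperty.IsStableUnderBaseChange.respectsIso
  exact Groth.Agent.Lib.Helper17.locP_unramified_of_diagonal hX hY f hlft
    ((RepWith (S := S) @IsOpenImmersion).of_isIso (pullback.diagonal f))

end Groth.Agent.Lib.Helper16.UnramMono
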