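import Groth.Agent.Lib.Helper16.QAffGeom
import Groth.Agent.Lib.Helper16.AffDescLocal

/-!
# Helper library (helper16): quasi-affine morphisms of algebraic spaces are fpqc local on the base
-/

set_option autoImplicit false
universe u
open CategoryTheory CategoryTheory.Limits AlgebraicGeometry Opposite

namespace Groth.Agent.Lib.Helper16

open AlgSp

variable {S : Scheme.{u}}

open scoped Function in
/-- A finite coproduct of quasi-affine schemes is quasi-affine. -/
theorem isQuasiAffine_sigma {ι : Type} [Finite ι] (X : ι → Scheme.{u}) (h : ∀ j, (X j).IsQuasiAffine) :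
    (∐ X).IsQuasiAffine := by
  have hc : CompactSpace ↥(∐ X) := by
    have : Finite (sigmaOpenCover X).I₀ := inferInstanceAs (Finite ι)
    have : ∀ i, CompactSpace ↥((sigmaOpenCover X).X i) := fun i => (h i).toCompactSpace
    exact (sigmaOpenCover X).compactSpace
  let α : ∀ j, X j ⟶ ∐ fun j => Spec Γ(X j, ⊤) := fun j => (X j).toSpecΓ ≫ Sigma.ι (fun j => Spec Γ(X j, ⊤)) j
  have hα : ∀ j, IsOpenImmersion (α j) := fun j => inferInstance
  have hdisj : Pairwise (Disjoint on (Set.range <| α ·)) := by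
    intro i j hij
    have := disjoint_opensRange_sigmaι (fun j => Spec Γ(X j, ⊤)) i j hij
    rw [← TopologicalSpace.Opens.coe_disjoint] at this
    refine this.mono ?_ ?_
    · rintro _ ⟨x, rfl⟩
      exact ⟨(X i).toSpecΓ x, rfl⟩
    · rintro _ ⟨x, rfl⟩
      exact ⟨(X j).toSpecΓ x, rfl⟩
  have : IsOpenImmersion (Sigma.desc α) := isOpenImmersion_sigmaDesc _ α hdisj
  exact Scheme.IsQuasiAffine.of_isImmersion (Sigma.desc α)

/-- **Quasi-affine descent along a standard fpqc covering**: an algebraic space `T` over an affine scheme `Z` whose base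
changes to the members of a standard fpqc covering of `Z` are quasi-affine schemes is itself a quasi-affine scheme. -/
theorem exists_iso_of_std_qaff_cover {Z : Over S} (hZ : IsAffine Z.left) {T : Sp S} (hT : IsAlgSpace T)
    (t : T ⟶ (yon S).obj Z) {m : ℕ} (W V : Fin m → Over S) (c : ∀ j, W j ⟶ Z)
    (hWa : ∀ j, IsAffine (W j).left) (hcf : ∀ j, Flat (c j).left)
    (hcs : ∀ z : ↥Z.left, ∃ j, z ∈ Set.range (c j).left) (hVa : ∀ j, (V j).left.IsQuasiAffine)
    (π : ∀ j, V j ⟶ W j) (a : ∀ j, (yon S).obj (V j) ⟶ T)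
    (sq : ∀ j, IsPullback (a j) ((yon S).map (π j)) t ((yon S).map (c j))) :
    ∃ (T₀ : Over S) (p : T₀ ⟶ Z) (e : T ≅ (yon S).obj T₀), T₀.left.IsQuasiAffine ∧
      e.hom ≫ (yon S).map p = t := by
  obtain ⟨a', sq'⟩ := exists_sigma_isPullback t W V c π a sq
  have hW' : IsAffine (ovSigma W).left := by
    show IsAffine (∐ fun j => (W j).left)
    infer_instance
  have hV' : (ovSigma V).left.IsQuasiAffine := isQuasiAffine_sigma (fun j => (V j).left) hVa
  have hfl : Flat (ovSigmaDesc W c).left := by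
    show Flat (Sigma.desc fun j => (c j).left)
    rw [IsZariskiLocalAtSource.iff_of_openCover (P := @Flat) (sigmaOpenCover fun j => (W j).left)]
    intro (j : Fin m)
    have h1 : Sigma.ι (fun j => (W j).left) j ≫ (Sigma.desc fun j => (c j).left) = (c j).left :=
      Sigma.ι_desc _ _
    show Flat (Sigma.ι (fun j => (W j).left) j ≫ (Sigma.desc fun j => (c j).left))
    rw [h1]
    exact hcf j
  have hsu : Surjective (ovSigmaDesc W c).left := by
    show Surjective (Sigma.desc fun j => (c j).left)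
    refine ⟨fun z => ?_⟩
    obtain ⟨j, w, hw⟩ := hcs z
    refine ⟨(Sigma.ι (fun j => (W j).left) j) w, ?_⟩
    have h1 : Sigma.ι (fun j => (W j).left) j ≫ (Sigma.desc fun j => (c j).left) = (c j).left :=
      Sigma.ι_desc _ _
    rw [← hw, ← h1]
    rfl
  obtain ⟨T₀, p, e, hT₀, he, -⟩ := exists_iso_of_quasiAffine_cover hZ hW' hV' (ovSigmaDesc W c) _ hT t a' sq'
  exact ⟨T₀, p, e, hT₀, he⟩

/-- Base change of quasi-affine morphisms. -/
theorem isQuasiAffineMor_of_isPullback {F G F' G' : Sp S} {f : F ⟶ G} {g : G' ⟶ G} {fst : F' ⟶ F}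
    {snd : F' ⟶ G'} (sq : IsPullback fst snd f g) (hf : IsQuasiAffineMor f) : IsQuasiAffineMor snd := by
  intro Z hZ z
  obtain ⟨W, i, φ, sqW, hW⟩ := hf hZ (z ≫ g)
  refine ⟨W, i, sq.lift φ ((yon S).map i ≫ z) (by rw [Category.assoc]; exact sqW.w), ?_, hW⟩
  refine IsPullback.of_right ?_ (sq.lift_snd _ _ _) sq
  rw [sq.lift_fst]
  exact sqW

/-- Core of fpqc descent for quasi-affine morphisms. -/
theorem exists_qaff_rep_of_std_cover {X Y : Sp S} (hX : IsAlgSpace X) (hY : IsAlgSpace Y) (f : X ⟶ Y)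
    {Z : Over S} (hZ : IsAffine Z.left) (z : (yon S).obj Z ⟶ Y) {m : ℕ} (W V : Fin m → Over S)
    (c : ∀ j, W j ⟶ Z) (hWa : ∀ j, IsAffine (W j).left) (hcf : ∀ j, Flat (c j).left)
    (hcs : ∀ z : ↥Z.left, ∃ j, z ∈ Set.range (c j).left) (hVa : ∀ j, (V j).left.IsQuasiAffine)
    (π : ∀ j, V j ⟶ W j) (b : ∀ j, (yon S).obj (V j) ⟶ X)
    (sq : ∀ j, IsPullback (b j) ((yon S).map (π j)) f ((yon S).map (c j) ≫ z)) :
    ∃ (T₀ : Over S) (i₀ : T₀ ⟶ Z) (fst : (yon S).obj T₀ ⟶ X), IsPullback fst ((yon S).map i₀) f z ∧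
      T₀.left.IsQuasiAffine ∧ ∀ j, ∃ k : V j ⟶ T₀, IsPullback k.left (π j).left i₀.left (c j).left := by
  have hT : IsAlgSpace (pullback f z) :=
    isAlgSpace_of_isPullback hX hY.diag (IsAlgSpace.yon_obj Z) (IsPullback.of_hasPullback f z)
  have hw : ∀ j, b j ≫ f = ((yon S).map (π j) ≫ (yon S).map (c j)) ≫ z := fun j => by
    rw [(sq j).w, Category.assoc]
  let a : ∀ j, (yon S).obj (V j) ⟶ pullback f z := fun j =>
    pullback.lift (b j) ((yon S).map (π j) ≫ (yon S).map (c j)) (hw j)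
  have sqa : ∀ j, IsPullback (a j) ((yon S).map (π j)) (pullback.snd f z) ((yon S).map (c j)) := by
    intro j
    refine IsPullback.of_right ?_ (pullback.lift_snd _ _ _) (IsPullback.of_hasPullback f z)
    rw [pullback.lift_fst]
    exact sq j
  obtain ⟨T₀, i₀, e, hT₀, he⟩ := exists_iso_of_std_qaff_cover hZ hT (pullback.snd f z) W V c hWa hcf hcs hVa π a sqa
  refine ⟨T₀, i₀, e.inv ≫ pullback.fst f z, ?_, hT₀, fun j => ?_⟩
  · refine IsPullback.of_iso (IsPullback.of_hasPullback f z) e (Iso.refl _) (Iso.refl _) (Iso.refl _) ?_ ?_ ?_ ?_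
    · simp
    · rw [Iso.refl_hom, Category.comp_id, he]
    · simp
    · simp
  · obtain ⟨k, hk⟩ := (yon S).map_surjective (a j ≫ e.hom)
    refine ⟨k, isPullback_left_of_yon ?_⟩
    rw [hk]
    refine IsPullback.of_iso (sqa j) (Iso.refl _) e (Iso.refl _) (Iso.refl _) ?_ ?_ ?_ ?_
    · simp
    · simp
    · rw [Iso.refl_hom, Category.comp_id, he]
    · simp

/-- Quasi-affine morphisms descend along families satisfying the refinement clause of fpqc coverings. -/
theorem isQuasiAffineMor_of_fpqcRefines {ι : Type u} {Y : Sp S} (hY : IsAlgSpace Y) (Yi : ι → Sp S)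
    (g : ∀ i, Yi i ⟶ Y) (href : FpqcRefines Yi g) {X : Sp S} (hX : IsAlgSpace X) (f : X ⟶ Y) (Xi : ι → Sp S)
    (p : ∀ i, Xi i ⟶ Yi i) (q : ∀ i, Xi i ⟶ X) (sq : ∀ i, IsPullback (q i) (p i) f (g i))
    (hp : ∀ i, IsQuasiAffineMor (p i)) : IsQuasiAffineMor f := by
  intro Z hZ z
  obtain ⟨m, W, c, hWa, hcf, hcs, hl⟩ := href Z hZ z
  choose i l hl using hl
  have hV := fun j => hp (i j) (hWa j) (l j)
  choose V π fstV sqV hVa using hV
  have sq' : ∀ j, IsPullback (fstV j ≫ q (i j)) ((yon S).map (π j)) f ((yon S).map (c j) ≫ z) := by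
    intro j
    rw [← hl j]
    exact (sqV j).paste_horiz (sq (i j))
  obtain ⟨T₀, i₀, fst, sqT, hT₀, -⟩ := exists_qaff_rep_of_std_cover hX hY f hZ z W V c hWa hcf hcs hVa π
    (fun j => fstV j ≫ q (i j)) sq'
  exact ⟨T₀, i₀, fst, sqT, hT₀⟩

/-- Quasi-affine morphisms of algebraic spaces are fpqc local on the base. -/
theorem isLocalOnBase_fpqc_isQuasiAffineMor : IsLocalOnBase (IsFpqcCover (S := S)) IsQuasiAffineMor := by
  intro ι Y Yi g hY hYi hcov X f hX Xi p q hXi sq
  constructor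
  · intro hf i
    exact isQuasiAffineMor_of_isPullback (sq i) hf
  · intro hp
    exact isQuasiAffineMor_of_fpqcRefines hY Yi g hcov.2 hX f Xi p q sq hp

end Groth.Agent.Lib.Helper16
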