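import Groth.Agent.Lib.Helper16.FlatMonoSp2
import Groth.Agent.Lib.Helper16.QAffLocal
import Groth.Agent.Lib.Helper16.ZmtSch

/-!
# Helper library (helper16): separated locally quasi-finite morphisms of algebraic spaces (part 1: tools)
-/

set_option autoImplicit false
universe u
open CategoryTheory CategoryTheory.Limits AlgebraicGeometry Opposite Topology

namespace Groth.Agent.Lib.Helper16.ZmtSp

open AlgSp Groth.Agent.Lib.Helper15 Groth.Agent.Lib.Helper16 Groth.Agent.Lib.Helper16.SchLocus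
  Groth.Agent.Lib.Helper16.SchImg Groth.Agent.Lib.Helper16.GenFinSp Groth.Agent.Lib.Helper16.Strata

section Cat

variable {C : Type*} [Category C]

/-- The other projection `P'' ⟶ P` of the triple fibre product. -/
theorem exists_swap {X T T' T'' P P'' : C} {f : X ⟶ T} {e : T' ⟶ T} {p1 : P ⟶ T'} {p2 : P ⟶ X}
    (sq : IsPullback p2 p1 f e) {q0 q1 : T'' ⟶ T'} (sqT : IsPullback q0 q1 e e) {r1 : P'' ⟶ P} {r2 : P'' ⟶ T''}
    (sqa : IsPullback r1 r2 p1 q0) :
    ∃ μ : P'' ⟶ P, μ ≫ p2 = r1 ≫ p2 ∧ μ ≫ p1 = r2 ≫ q1 ∧ IsPullback μ r2 p1 q1 ∧ IsPullback μ r1 p2 p2 := by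
  have hw : (r1 ≫ p2) ≫ f = (r2 ≫ q1) ≫ e := by
    rw [Category.assoc, sq.w, ← Category.assoc, sqa.w, Category.assoc, sqT.w, Category.assoc]
  have h1 : sq.lift _ _ hw ≫ p2 = r1 ≫ p2 := sq.lift_fst _ _ _
  have h2 : sq.lift _ _ hw ≫ p1 = r2 ≫ q1 := sq.lift_snd _ _ _
  have big : IsPullback (r1 ≫ p2) r2 f (q0 ≫ e) := sqa.paste_horiz sq
  have sqμ : IsPullback (sq.lift _ _ hw) r2 p1 q1 := by
    refine IsPullback.of_right ?_ h2 sq
    rw [h1, ← sqT.w]
    exact big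
  refine ⟨sq.lift _ _ hw, h1, h2, sqμ, ?_⟩
  have v := sqμ.paste_vert sqT.flip
  rw [← sqa.w, ← sq.w] at v
  exact IsPullback.of_bot v h1 sq

/-- The diagonal section of the triple fibre product. -/
theorem exists_diag_section {X T T' T'' P P'' : C} {f : X ⟶ T} {e : T' ⟶ T} {p1 : P ⟶ T'} {p2 : P ⟶ X}
    (sq : IsPullback p2 p1 f e) {q0 q1 : T'' ⟶ T'} {r1 : P'' ⟶ P} {r2 : P'' ⟶ T''}
    (sqa : IsPullback r1 r2 p1 q0) (μ : P'' ⟶ P) (h1 : μ ≫ p2 = r1 ≫ p2) (h2 : μ ≫ p1 = r2 ≫ q1)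
    (Δ : T' ⟶ T'') (hΔ0 : Δ ≫ q0 = 𝟙 _) (hΔ1 : Δ ≫ q1 = 𝟙 _) :
    ∃ δ : P ⟶ P'', δ ≫ r1 = 𝟙 _ ∧ δ ≫ μ = 𝟙 _ ∧ IsPullback δ p1 r2 Δ := by
  have hw : 𝟙 P ≫ p1 = (p1 ≫ Δ) ≫ q0 := by rw [Category.id_comp, Category.assoc, hΔ0, Category.comp_id]
  have d1 : sqa.lift _ _ hw ≫ r1 = 𝟙 _ := sqa.lift_fst _ _ _
  have d2 : sqa.lift _ _ hw ≫ r2 = p1 ≫ Δ := sqa.lift_snd _ _ _
  refine ⟨sqa.lift _ _ hw, d1, ?_, ?_⟩
  · apply sq.hom_ext
    · rw [Category.assoc, h1, ← Category.assoc, d1]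
    · rw [Category.assoc, h2, ← Category.assoc, d2, Category.assoc, hΔ1, Category.comp_id, Category.id_comp]
  · refine IsPullback.of_right ?_ d2 sqa
    rw [d1, hΔ0]
    exact IsPullback.of_horiz_isIso ⟨by rw [Category.id_comp, Category.comp_id]⟩

end Cat

variable {S : Scheme.{u}}

/-- On the diagonal the two projections of the triple fibre product agree. -/
theorem map_eq_of_mem_range_diag {P P'' T' T'' : Sp S} {δ : P ⟶ P''} {r1 μ : P'' ⟶ P} {p1 : P ⟶ T'}
    {r2 : P'' ⟶ T''} {Δ : T' ⟶ T''} (d1 : δ ≫ r1 = 𝟙 _) (dμ : δ ≫ μ = 𝟙 _) (sqδ : IsPullback δ p1 r2 Δ)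
    (q : Points P'') (t : Points T') (h : Points.map r2 q = Points.map Δ t) :
    Points.map r1 q = Points.map μ q := by
  obtain ⟨z₁, hz₁, -⟩ := exists_point_of_isPullback sqδ q t h
  rw [← hz₁, ← Points.map_comp, ← Points.map_comp, d1, dμ]

/-- Restriction to an open of `T''`. -/
theorem map_mem_schLocus_of_restrict {T' T'' : Over S} (q0 : T'' ⟶ T') {P P'' : Sp S}
    (p1 : P ⟶ (yon S).obj T') (r1 : P'' ⟶ P) (r2 : P'' ⟶ (yon S).obj T'')
    (sqa : IsPullback r1 r2 p1 ((yon S).map q0)) (O : T''.left.Opens)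
    (H : ∀ {Ps : Sp S} (o : Ps ⟶ P) (o2 : Ps ⟶ (yon S).obj (overOpen T'' O)),
      IsPullback o o2 p1 ((yon S).map (overOpenι T'' O ≫ q0)) → ∀ zs : Points Ps, zs ∈ schLocus Ps →
        Points.map o zs ∈ schLocus P)
    (q : Points P'') (hq : q ∈ schLocus P'') (hqO : Points.toScheme T'' (Points.map r2 q) ∈ O) :
    Points.map r1 q ∈ schLocus P := by
  have sqo := IsPullback.of_hasPullback r2 ((yon S).map (overOpenι T'' O))
  have hιO : RepWith @IsOpenImmersion ((yon S).map (overOpenι T'' O)) :=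
    (repWith_yon_map_iff _ _).2 (by change IsOpenImmersion O.ι; infer_instance)
  have ho1 : RepWith @IsOpenImmersion (pullback.fst r2 ((yon S).map (overOpenι T'' O))) :=
    (RepWith (S := S) @IsOpenImmersion).of_isPullback sqo.flip hιO
  obtain ⟨qs, hqs, -⟩ := exists_point_of_isPullback sqo q (Points.ofScheme _ (⟨_, hqO⟩ : ↥O)) (by
    rw [map_yon_map_ofScheme]
    exact (Points.ofScheme_toScheme T'' _).symm)
  have hqs' : qs ∈ schLocus _ := mem_schLocus_of_map_mem _ ho1 (by rw [hqs]; exact hq)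
  have sqs := sqo.paste_horiz sqa
  rw [← Functor.map_comp] at sqs
  have := H _ _ sqs qs hqs'
  rwa [Points.map_comp, hqs] at this

/-- A morphism from a quasi-affine scheme to an affine scheme is quasi-affine. -/
theorem isQuasiAffineMor_yon_map {M T' : Over S} [IsAffine T'.left] (m : M ⟶ T') (hM : M.left.IsQuasiAffine) :
    IsQuasiAffineMor ((yon S).map m) := by
  intro Z hZ z
  obtain ⟨z₀, rfl⟩ := (yon S).map_surjective z
  have : IsAffine Z.left := hZ
  refine ⟨ovPullback m z₀, ovPullbackSnd m z₀, (yon S).map (ovPullbackFst m z₀),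
    (isPullback_ovPullback m z₀).map (yon S), ?_⟩
  show (pullback m.left z₀.left).IsQuasiAffine
  have h0 : IsAffineHom z₀.left := isAffineHom_of_isAffine _
  have : IsAffineHom (pullback.fst m.left z₀.left) := MorphismProperty.pullback_fst _ _ h0
  exact Scheme.IsQuasiAffine.of_isAffineHom (pullback.fst m.left z₀.left)

/-- Monomorphisms are separated. -/
theorem isSeparatedMor_of_mono {F G : Sp S} (f : F ⟶ G) [Mono f] : IsSeparatedMor f := by
  have : (RepWith (S := S) @IsClosedImmersion).RespectsIso :=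
    MorphismProperty.IsStableUnderBaseChange.respectsIso
  exact (RepWith (S := S) @IsClosedImmersion).of_isIso (pullback.diagonal f)

theorem isSeparatedMor_comp {F G H : Sp S} (f : F ⟶ G) (g : G ⟶ H) (hf : IsSeparatedMor f)
    (hg : IsSeparatedMor g) : IsSeparatedMor (f ≫ g) :=
  (RepWith (S := S) @IsClosedImmersion).diagonal.comp_mem f g hf hg

theorem isSeparatedMor_of_isPullback {F G F' G' : Sp S} {f : F ⟶ G} {g : G' ⟶ G} {fst : F' ⟶ F}
    {snd : F' ⟶ G'} (sq : IsPullback fst snd f g) (hf : IsSeparatedMor f) : IsSeparatedMor snd :=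
  (RepWith (S := S) @IsClosedImmersion).diagonal.of_isPullback sq hf

end Groth.Agent.Lib.Helper16.ZmtSp
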