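import Groth.Agent.Lib.Helper16.Decent
import Mathlib.AlgebraicGeometry.Morphisms.FlatMono
import Mathlib.AlgebraicGeometry.Morphisms.UniversallyInjective

/-!
# Helper library (helper16): monomorphic field-valued points
-/

set_option autoImplicit false
universe u
open CategoryTheory CategoryTheory.Limits AlgebraicGeometry Opposite

namespace Groth.Agent.Lib.Helper16

open AlgSp

variable {S : Scheme.{u}}

/-- A monomorphism from a nonempty scheme to the spectrum of a field is an isomorphism. -/
theorem isIso_of_mono_of_nonempty_of_field {V : Scheme.{u}} {K : Type u} [Field K]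
    (f : V ⟶ Spec (CommRingCat.of K)) [Mono f] [Nonempty ↥V] : IsIso f := by
  have hinj : Function.Injective f := f.injective
  have hsub : Subsingleton ↥V := hinj.subsingleton
  have hfin : Finite ↥V := Finite.of_subsingleton
  have : QuasiCompact f := by
    rw [quasiCompact_iff]
    intro U _ _
    exact (Set.toFinite _).isCompact
  have : Surjective f := ⟨fun y => by
    obtain ⟨v⟩ := ‹Nonempty ↥V›
    exact ⟨v, Subsingleton.elim _ _⟩⟩
  exact Flat.isIso_of_surjective_of_mono f

/-- If `p` is a monomorphic representable field-valued point and `q` is a field-valued point in the same class, then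
`q` factors through `p`. -/
theorem exists_factor_of_rel_of_mono {F : Sp S} (p q : FieldPt F) (hm : Mono p.toHom)
    (hrep : Representable p.toHom) (h : FieldPt.Rel q p) :
    ∃ c : q.pt ⟶ p.pt, q.toHom = (yon S).map c ≫ p.toHom := by
  have sq := hrep.isPullback q.toHom
  set V := hrep.pullback q.toHom with hV
  set fst := hrep.fst q.toHom with hfst
  set snd := hrep.snd q.toHom with hsnd
  have hmono1 : Mono ((yon S).map snd) :=
    MorphismProperty.of_isPullback (P := MorphismProperty.monomorphisms _) sq
      (MorphismProperty.monomorphisms.infer_property _)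
  have hmono2 : Mono snd := (yon S).mono_of_mono_map hmono1
  have hmono3 : Mono snd.left := inferInstance
  obtain ⟨Ω, _, w, a, b, hab⟩ := (rel_iff_toHom q p).1 h
  let l : (yon S).obj (Over.mk w) ⟶ (yon S).obj V := sq.lift ((yon S).map b) ((yon S).map a) hab.symm
  let l' : Over.mk w ⟶ V := (yon S).preimage l
  have hne : Nonempty ↥V.left := ⟨l'.left (IsLocalRing.closedPoint Ω)⟩
  have hiso : IsIso snd.left := isIso_of_mono_of_nonempty_of_field snd.left
  have hiso' : IsIso snd := by
    have : IsIso ((Over.forget S).map snd) := hiso
    exact isIso_of_reflects_iso snd (Over.forget S)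
  obtain ⟨c0, hc0⟩ := (yon S).map_surjective fst
  refine ⟨inv snd ≫ c0, ?_⟩
  rw [Functor.map_comp, Category.assoc, hc0, sq.w, ← Category.assoc, ← Functor.map_comp,
    IsIso.inv_hom_id]
  exact ((yon S).map_id _).symm ▸ (Category.id_comp _).symm

end Groth.Agent.Lib.Helper16
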