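import Groth.Prelude.Def_AlgSpRep

set_option autoImplicit false
universe u
open CategoryTheory CategoryTheory.Limits AlgebraicGeometry Opposite
open AlgSp

namespace Groth.Agent.Lib.Helper16

/-- Evaluating a pullback square of presheaves at an object gives a pullback square of types. -/
theorem isPullback_eval {S : Scheme.{u}} {F' F G H : AlgSp.PSp S} {fst : F' ⟶ F} {snd : F' ⟶ H}
    {a : F ⟶ G} {ξ : H ⟶ G} (sq : IsPullback fst snd a ξ) (Y : (Over S)ᵒᵖ) :
    IsPullback (fst.app Y) (snd.app Y) (a.app Y) (ξ.app Y) :=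
  sq.map ((evaluation _ _).obj Y)

/-- A presheaf admitting a map representable by schemes to an fppf sheaf is an fppf sheaf. -/
theorem isSheaf_of_relativelyRepresentable (S : Scheme.{u}) (F G : AlgSp.PSp S) (a : F ⟶ G)
    (ha : (AlgSp.pyon S).relativelyRepresentable a) (hG : Presheaf.IsSheaf (AlgSp.J S) G) :
    Presheaf.IsSheaf (AlgSp.J S) F := by
  rw [isSheaf_iff_isSheaf_of_type] at hG ⊢
  intro T R hR
  have hGR := hG R hR
  rw [← Presieve.isSeparatedFor_and_exists_isAmalgamation_iff_isSheafFor]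
  -- general facts
  have key : ∀ (x : Presieve.FamilyOfElements F (R : Presieve T)) (hx : x.Compatible),
      ∃ (ξ : G.obj (op T)) (V : Over S) (snd : V ⟶ T) (fst : (pyon S).obj V ⟶ F),
        IsPullback fst ((pyon S).map snd) a (uliftYonedaEquiv.{u+1}.symm ξ) ∧
        ∀ ⦃Y : Over S⦄ (f : Y ⟶ T) (hf : R f), G.map f.op ξ = a.app (op Y) (x f hf) := by
    intro x hx
    refine ⟨hGR.amalgamate (x.map a) (hx.map a), ?_⟩
    obtain ⟨V, snd, fst, sq⟩ := ha (uliftYonedaEquiv.{u+1}.symm (hGR.amalgamate (x.map a) (hx.map a)))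
    exact ⟨V, snd, fst, sq, fun Y f hf => hGR.valid_glue (hx.map a) f hf⟩
  have hVsh : ∀ V : Over S, Presieve.IsSheafFor ((pyon S).obj V) (R : Presieve T) := by
    intro V
    have h1 : Presheaf.IsSheaf (AlgSp.J S) ((pyon S).obj V) := ((yon S).obj V).property
    rw [isSheaf_iff_isSheaf_of_type] at h1
    exact h1 R hR
  constructor
  · -- separated
    intro x t₁ t₂ h₁ h₂
    have hx : x.Compatible := Presieve.is_compatible_of_exists_amalgamation x ⟨t₁, h₁⟩
    obtain ⟨ξ, V, snd, fst, sq, hξ⟩ := key x hx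
    have e₁ : a.app (op T) t₁ = ξ :=
      hGR.isSeparatedFor (x.map a) _ _ (h₁.map a) (fun Y f hf => hξ f hf)
    have e₂ : a.app (op T) t₂ = ξ :=
      hGR.isSeparatedFor (x.map a) _ _ (h₂.map a) (fun Y f hf => hξ f hf)
    have sqT := isPullback_eval sq (op T)
    have hξT : (uliftYonedaEquiv.{u+1}.symm ξ).app (op T) (ULift.up (𝟙 T)) = ξ := by
      simp
    obtain ⟨k₁, hk₁, hk₁'⟩ := Types.exists_of_isPullback sqT t₁ (ULift.up (𝟙 T))
      (by rw [e₁, hξT])
    obtain ⟨k₂, hk₂, hk₂'⟩ := Types.exists_of_isPullback sqT t₂ (ULift.up (𝟙 T))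
      (by rw [e₂, hξT])
    have hk : k₁ = k₂ := by
      refine (hVsh V).isSeparatedFor.ext ?_
      intro Y f hf
      refine Types.ext_of_isPullback (isPullback_eval sq (op Y)) ?_ ?_
      · rw [NatTrans.naturality_apply, NatTrans.naturality_apply, hk₁, hk₂, h₁ f hf, h₂ f hf]
      · rw [NatTrans.naturality_apply, NatTrans.naturality_apply, hk₁', hk₂']
    rw [← hk₁, ← hk₂, hk]
  · -- existence
    intro x hx
    obtain ⟨ξ, V, snd, fst, sq, hξ⟩ := key x hx
    have hex : ∀ ⦃Y : Over S⦄ (f : Y ⟶ T) (hf : R f),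
        ∃ k : ((pyon S).obj V).obj (op Y), fst.app (op Y) k = x f hf ∧
          ((pyon S).map snd).app (op Y) k = ULift.up f := by
      intro Y f hf
      refine Types.exists_of_isPullback (isPullback_eval sq (op Y)) (x f hf) (ULift.up f) ?_
      rw [← hξ f hf]
      simp
    let h : Presieve.FamilyOfElements ((pyon S).obj V) (R : Presieve T) :=
      fun Y f hf => (hex f hf).choose
    have h1 : ∀ ⦃Y : Over S⦄ (f : Y ⟶ T) (hf : R f), fst.app (op Y) (h f hf) = x f hf :=
      fun Y f hf => (hex f hf).choose_spec.1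
    have h2 : ∀ ⦃Y : Over S⦄ (f : Y ⟶ T) (hf : R f),
        ((pyon S).map snd).app (op Y) (h f hf) = ULift.up f :=
      fun Y f hf => (hex f hf).choose_spec.2
    have hcomp : h.Compatible := by
      intro Y₁ Y₂ Z g₁ g₂ f₁ f₂ hf₁ hf₂ comm
      refine Types.ext_of_isPullback (isPullback_eval sq (op Z)) ?_ ?_
      · rw [NatTrans.naturality_apply, NatTrans.naturality_apply, h1, h1]
        exact hx g₁ g₂ hf₁ hf₂ comm
      · rw [NatTrans.naturality_apply, NatTrans.naturality_apply, h2, h2]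
        change ULift.up (g₁ ≫ f₁) = ULift.up (g₂ ≫ f₂)
        rw [comm]
    refine ⟨fst.app (op T) ((hVsh V).amalgamate h hcomp), ?_⟩
    intro Y f hf
    rw [← NatTrans.naturality_apply, (hVsh V).valid_glue hcomp f hf, h1]

end Groth.Agent.Lib.Helper16
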