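import Groth.Agent.Lib.Helper16.YonCoprod
import Mathlib.CategoryTheory.Extensive
import Mathlib.CategoryTheory.Sites.LeftExact

/-!
# Helper library (helper16): finite coproducts of schemes over `S` and the functor `h`; reduction of finite families of
pullback squares to a single square over the coproduct
-/

set_option autoImplicit false
universe u w
open CategoryTheory CategoryTheory.Limits AlgebraicGeometry Opposite

namespace Groth.Agent.Lib.Helper16

open AlgSp

variable {S : Scheme.{u}}

/-- The coproduct in `Over S` of a finite family of schemes over `S`. -/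
noncomputable def ovSigma {ι : Type} [Finite ι] (W : ι → Over S) : Over S :=
  Over.mk (Sigma.desc (fun j => (W j).hom) : (∐ fun j => (W j).left) ⟶ S)

/-- The inclusions into the coproduct. -/
noncomputable def ovSigmaι {ι : Type} [Finite ι] (W : ι → Over S) (j : ι) : W j ⟶ ovSigma W :=
  Over.homMk (Sigma.ι (fun j => (W j).left) j) (by simp [ovSigma])

/-- The morphism out of the coproduct induced by a family. -/
noncomputable def ovSigmaDesc {ι : Type} [Finite ι] (W : ι → Over S) {Z : Over S} (c : ∀ j, W j ⟶ Z) :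
    ovSigma W ⟶ Z :=
  Over.homMk (Sigma.desc (fun j => (c j).left)) (by
    apply Sigma.hom_ext
    intro j
    simp [ovSigma])

@[simp] theorem ovSigmaι_left {ι : Type} [Finite ι] (W : ι → Over S) (j : ι) :
    (ovSigmaι W j).left = Sigma.ι (fun j => (W j).left) j := rfl

@[simp] theorem ovSigmaDesc_left {ι : Type} [Finite ι] (W : ι → Over S) {Z : Over S} (c : ∀ j, W j ⟶ Z) :
    (ovSigmaDesc W c).left = Sigma.desc (fun j => (c j).left) := rfl

@[reassoc (attr := simp)]
theorem ovSigmaι_desc {ι : Type} [Finite ι] (W : ι → Over S) {Z : Over S} (c : ∀ j, W j ⟶ Z) (j : ι) :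
    ovSigmaι W j ≫ ovSigmaDesc W c = c j := by
  ext1
  rw [Over.comp_left, ovSigmaι_left, ovSigmaDesc_left]
  exact Sigma.ι_desc _ _

theorem isColimit_cofan_yon_ovSigma {ι : Type} [Finite ι] (W : ι → Over S) :
    Nonempty (IsColimit (Cofan.mk ((yon S).obj (ovSigma W)) (fun j => (yon S).map (ovSigmaι W j)))) := by
  refine isColimit_cofan_yon_of_disjoint_open_cover W (ovSigmaι W) (fun j => ?_) (fun x => ?_) (fun i j hij => ?_)
  · show IsOpenImmersion (Sigma.ι (fun j => (W j).left) j)
    infer_instance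
  · obtain ⟨j, y, hy⟩ := (sigmaOpenCover (fun j => (W j).left)).exists_eq x
    exact ⟨j, y, hy⟩
  · have := disjoint_opensRange_sigmaι (fun j => (W j).left) i j hij
    rw [← TopologicalSpace.Opens.coe_disjoint] at this
    exact this


/-- Reduction of a finite family of pullback squares over the members of a family `W j ⟶ Z` to a single pullback
square over the coproduct `∐ W j ⟶ Z`. -/
theorem exists_sigma_isPullback {ι : Type} [Finite ι] {Z : Over S} {T : Sp S} (t : T ⟶ (yon S).obj Z)
    (W V : ι → Over S) (c : ∀ j, W j ⟶ Z) (π : ∀ j, V j ⟶ W j) (a : ∀ j, (yon S).obj (V j) ⟶ T)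
    (sq : ∀ j, IsPullback (a j) ((yon S).map (π j)) t ((yon S).map (c j))) :
    ∃ a' : (yon S).obj (ovSigma V) ⟶ T,
      IsPullback a' ((yon S).map (ovSigmaDesc V (fun j => π j ≫ ovSigmaι W j))) t
        ((yon S).map (ovSigmaDesc W c)) := by
  obtain ⟨hW⟩ := isColimit_cofan_yon_ovSigma W
  obtain ⟨hV⟩ := isColimit_cofan_yon_ovSigma V
  have hl : ∀ j, a j ≫ t = (yon S).map (π j ≫ ovSigmaι W j) ≫ (yon S).map (ovSigmaDesc W c) := fun j => by
    rw [← Functor.map_comp, Category.assoc, ovSigmaι_desc, Functor.map_comp, (sq j).w]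
  let lift : ∀ j, (yon S).obj (V j) ⟶ pullback t ((yon S).map (ovSigmaDesc W c)) := fun j =>
    pullback.lift (a j) ((yon S).map (π j ≫ ovSigmaι W j)) (hl j)
  have hsq : ∀ j, IsPullback (lift j) ((yon S).map (π j)) (pullback.snd t ((yon S).map (ovSigmaDesc W c)))
      ((yon S).map (ovSigmaι W j)) := by
    intro j
    refine IsPullback.of_right ?_ ?_ (IsPullback.of_hasPullback t ((yon S).map (ovSigmaDesc W c)))
    · rw [pullback.lift_fst, ← Functor.map_comp, ovSigmaι_desc]
      exact sq j
    · rw [pullback.lift_snd, Functor.map_comp]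
  have huniv := FinitaryPreExtensive.isUniversal_finiteCoproducts hW
  obtain ⟨hP⟩ := huniv (Cofan.mk (pullback t ((yon S).map (ovSigmaDesc W c))) lift)
    (Discrete.natTrans (fun j => (yon S).map (π j.as))) (pullback.snd _ _)
    (by
      apply NatTrans.ext
      funext ⟨j⟩
      simp only [NatTrans.comp_app, Discrete.natTrans_app, Cofan.mk_ι_app, Functor.const_map_app]
      exact ((hsq j).w).symm)
    (NatTrans.Equifibered.of_discrete _)
    (fun ⟨j⟩ => hsq j)
  let e : (yon S).obj (ovSigma V) ≅ pullback t ((yon S).map (ovSigmaDesc W c)) :=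
    hV.coconePointUniqueUpToIso hP
  have he : ∀ j, (yon S).map (ovSigmaι V j) ≫ e.hom = lift j := fun j =>
    hV.comp_coconePointUniqueUpToIso_hom hP ⟨j⟩
  have hsnd : e.hom ≫ pullback.snd _ _ = (yon S).map (ovSigmaDesc V (fun j => π j ≫ ovSigmaι W j)) := by
    apply Cofan.IsColimit.hom_ext hV
    intro j
    simp only [Cofan.inj, Cofan.mk_ι_app]
    rw [← Category.assoc, he, pullback.lift_snd, ← Functor.map_comp, ovSigmaι_desc]
  refine ⟨e.hom ≫ pullback.fst _ _, ?_⟩
  refine IsPullback.of_iso (IsPullback.of_hasPullback t ((yon S).map (ovSigmaDesc W c))) e.symm (Iso.refl _)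
    (Iso.refl _) (Iso.refl _) ?_ ?_ ?_ ?_
  · simp
  · rw [Iso.symm_hom, Iso.refl_hom, Category.comp_id, ← hsnd, Iso.inv_hom_id_assoc]
  · simp
  · simp

end Groth.Agent.Lib.Helper16
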