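import Groth.Agent.Lib.Helper16.DenseFin2
import Groth.Agent.Lib.Helper16.Descent
import Groth.Agent.Lib.Helper16.Diagonal
import Groth.Agent.Lib.Helper16.DiagProps
import Groth.Agent.Lib.Helper16.YonSigma
import Groth.Agent.Lib.Helper15.QcDescent

/-!
# Helper library (helper16): generic finiteness over a dense open, tools for the quasi-compact case

Descent of properties of a base change of a morphism along a chart, restricted to an open; quasi-separatedness over
an open of the base from quasi-compactness of the restricted kernel pair; affine charts of quasi-compact spaces;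
restriction of charts; extraction of an affine open with quasi-compact preimage.
-/

set_option autoImplicit false
universe u
open CategoryTheory CategoryTheory.Limits AlgebraicGeometry Opposite Topology

namespace Groth.Agent.Lib.Helper16.DenseFin

open AlgSp Groth.Agent.Lib.Helper15 Groth.Agent.Lib.Helper16 Groth.Agent.Lib.Helper16.Strata
  Groth.Agent.Lib.Helper16.SchLocus Groth.Agent.Lib.Helper16.Codim0Qf Groth.Agent.Lib.Helper16.QfAt
  Groth.Agent.Lib.Helper16.GenFinSp Groth.Agent.Lib.Helper16.QcOpen Groth.Agent.Lib.Helper16.ZmtSp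
  Groth.Agent.Lib.Helper16.QuotOpen Groth.Agent.Lib.Helper17

variable {S : Scheme.{u}}

/-- A variant of `repWith_of_chart_of_descends` for a base change `f'` of `f` along `μ`, where only the part of the
chart of `f` over an open `O` (through which all charts of the base of `f'` factor) is known to have `P`. -/
theorem repWith_of_chart_of_descends_restrict {X Y X' Y' : Sp S} (f : Y ⟶ X) {U V : Over S}
    (q : (yon S).obj U ⟶ X) (hqe : RepWith @Etale q) (hqs : RepWith @Surjective q)
    (fst : (yon S).obj V ⟶ Y) (g : V ⟶ U) (sq : IsPullback fst ((yon S).map g) f q)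
    (μ : X' ⟶ X) (f' : Y' ⟶ X') (p : Y' ⟶ Y) (sq' : IsPullback p f' f μ) (hf' : Representable f')
    (O : U.left.Opens)
    (hO : ∀ (T' : Over S) (u : T' ⟶ U) (t' : (yon S).obj T' ⟶ X'), (yon S).map u ≫ q = t' ≫ μ →
      ∀ x : ↥T'.left, u.left x ∈ O)
    (P : MorphismProperty Scheme.{u}) [P.IsStableUnderBaseChange]
    [P.DescendsAlong (@Surjective ⊓ @Flat ⊓ @LocallyOfFinitePresentation)] (h : P (g.left ∣_ O)) :
    RepWith P f' := by
  refine ⟨hf', fun T W t fstW w sqW => ?_⟩
  have sqB : IsPullback (fstW ≫ p) ((yon S).map w) f (t ≫ μ) := sqW.paste_horiz sq'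
  obtain ⟨T', c, u₀, sqq⟩ := hqe.rep (t ≫ μ)
  obtain ⟨u, rfl⟩ := (yon S).map_surjective u₀
  have hce : Etale c.left := hqe.property _ _ _ sqq
  have hcs : Surjective c.left := hqs.property _ _ _ sqq
  refine P_of_fppf_cover w c hcs inferInstance inferInstance ?_
  have sq1 : IsPullback ((yon S).map (pullback.fst w c) ≫ fstW ≫ p) ((yon S).map (pullback.snd w c)) f
      ((yon S).map u ≫ q) := by
    rw [sqq.w]
    exact ((IsPullback.of_hasPullback w c).map (yon S)).paste_horiz sqB
  obtain ⟨l, hl⟩ := (yon S).map_surjective (sq.lift ((yon S).map (pullback.fst w c) ≫ fstW ≫ p)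
    ((yon S).map (pullback.snd w c) ≫ (yon S).map u) (by rw [Category.assoc]; exact sq1.w))
  have sq2 : IsPullback ((yon S).map l) ((yon S).map (pullback.snd w c)) ((yon S).map g) ((yon S).map u) := by
    rw [hl]
    refine IsPullback.of_right ?_ (sq.lift_snd _ _ _) sq
    rw [sq.lift_fst]
    exact sq1
  have sqS : IsPullback l.left (pullback.snd w c).left g.left u.left := isPullback_left_of_yon sq2
  obtain ⟨u₁, hu₁⟩ := exists_lift_overOpen O u
    (hO T' u ((yon S).map c ≫ t) (by rw [sqq.w, Category.assoc]))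
  have hu₁' : u.left = u₁.left ≫ O.ι := by rw [← hu₁]; rfl
  have sqM := isPullback_morphismRestrict g.left O
  have hwl : ((pullback.snd w c).left ≫ u₁.left) ≫ O.ι = l.left ≫ g.left := by
    rw [Category.assoc, ← hu₁']
    exact sqS.w.symm
  have sqL : IsPullback (sqM.lift ((pullback.snd w c).left ≫ u₁.left) l.left hwl) (pullback.snd w c).left
      (g.left ∣_ O) u₁.left := by
    refine IsPullback.of_right ?_ (sqM.lift_fst _ _ _) sqM.flip
    rw [sqM.lift_snd, ← hu₁']
    exact sqS
  exact P.of_isPullback sqL h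

/-- Quasi-separatedness over an open of an affine base, from a chart of the fibre square whose kernel pair is
quasi-compact over this open. -/
theorem isQuasiSeparatedMor_restrict_of_chart {X : Sp S} (hX : IsAlgSpace X) {A : Over S}
    (f : X ⟶ (yon S).obj A) {B R : Over S} (r : (yon S).obj B ⟶ pullback f f) (hre : RepWith @Etale r)
    (hrs : RepWith @Surjective r) (k : (yon S).obj R ⟶ X) (ρ : R ⟶ B)
    (sqΔ : IsPullback k ((yon S).map ρ) (pullback.diagonal f) r) (β : B ⟶ A)
    (hβ : (yon S).map β = r ≫ pullback.fst f f ≫ f) (O : A.left.Opens)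
    (hqc : QuasiCompact (ρ.left ∣_ (β.left ⁻¹ᵁ O))) :
    IsQuasiSeparatedMor (pullback.snd f ((yon S).map (overOpenι A O))) := by
  obtain ⟨ι, hι⟩ : ∃ ι : (yon S).obj (overOpen A O) ⟶ (yon S).obj A, ι = (yon S).map (overOpenι A O) := ⟨_, rfl⟩
  rw [← hι]
  have sq₀ := IsPullback.of_hasPullback f ι
  have sqD := isPullback_diagonal_of_isPullback sq₀
  have hXO : IsAlgSpace (pullback f ι) :=
    isAlgSpace_of_isPullback hX (IsAlgSpace.yon_obj A).diag (IsAlgSpace.yon_obj _) sq₀
  have hrep : Representable (pullback.diagonal (pullback.snd f ι)) :=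
    (repWith_diagonal_of_repWith_diag (pullback.snd f ι) (repWith_lft_diag hXO)).rep
  refine repWith_of_chart_of_descends_restrict (pullback.diagonal f) r hre hrs k ρ sqΔ _ _ _ sqD hrep
    (β.left ⁻¹ᵁ O) ?_ @QuasiCompact hqc
  intro T' u t' hut x
  have hμ1 : pullback.map (pullback.snd f ι) (pullback.snd f ι) f f (pullback.fst f ι) (pullback.fst f ι) ι
      sq₀.w.symm sq₀.w.symm ≫ pullback.fst f f =
      pullback.fst (pullback.snd f ι) (pullback.snd f ι) ≫ pullback.fst f ι := pullback.lift_fst _ _ _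
  obtain ⟨τ, hτ⟩ := (yon S).map_surjective
    (t' ≫ pullback.fst (pullback.snd f ι) (pullback.snd f ι) ≫ pullback.snd f ι ≫ 𝟙 _)
  have h1 : (yon S).map (u ≫ β) = (yon S).map (τ ≫ overOpenι A O) := by
    rw [Functor.map_comp, Functor.map_comp, hβ, hτ, ← hι]
    calc (yon S).map u ≫ r ≫ pullback.fst f f ≫ f
        = ((yon S).map u ≫ r) ≫ pullback.fst f f ≫ f := by simp only [Category.assoc]
      _ = (t' ≫ pullback.map (pullback.snd f ι) (pullback.snd f ι) f f (pullback.fst f ι) (pullback.fst f ι) ι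
            sq₀.w.symm sq₀.w.symm) ≫ pullback.fst f f ≫ f := by rw [hut]
      _ = t' ≫ (pullback.map (pullback.snd f ι) (pullback.snd f ι) f f (pullback.fst f ι) (pullback.fst f ι) ι
            sq₀.w.symm sq₀.w.symm ≫ pullback.fst f f) ≫ f := by simp only [Category.assoc]
      _ = t' ≫ (pullback.fst (pullback.snd f ι) (pullback.snd f ι) ≫ pullback.fst f ι) ≫ f := by rw [hμ1]
      _ = t' ≫ pullback.fst (pullback.snd f ι) (pullback.snd f ι) ≫ (pullback.fst f ι ≫ f) := by
        simp only [Category.assoc]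
      _ = (t' ≫ pullback.fst (pullback.snd f ι) (pullback.snd f ι) ≫ pullback.snd f ι ≫ 𝟙 _) ≫ ι := by
        rw [sq₀.w]; simp only [Category.assoc, Category.id_comp]
  have h2 : u ≫ β = τ ≫ overOpenι A O := (yon S).map_injective h1
  have h3 : β.left (u.left x) = O.ι (τ.left x) := by
    have := congrArg (fun m => m.left x) h2
    simp only [Over.comp_left, Scheme.Hom.comp_apply] at this
    exact this
  show β.left (u.left x) ∈ O
  rw [h3]
  exact (τ.left x).2

/-- A quasi-compact algebraic space has an etale surjective chart from an affine scheme. -/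
theorem exists_affine_chart_of_isQuasiCompactSp {X : Sp S} (hXq : IsQuasiCompactSp X) :
    ∃ (U : Over S) (a : (yon S).obj U ⟶ X), IsAffine U.left ∧ RepWith @Etale a ∧ RepWith @Surjective a := by
  classical
  obtain ⟨U₀, p₀, hpe, hps, hU₀⟩ := hXq
  have : CompactSpace ↥U₀.left := hU₀
  obtain ⟨t, ht⟩ := exists_finite_affine_cover U₀.left
  obtain ⟨e⟩ : Nonempty (↥t ≃ Fin t.card) := ⟨t.equivFin⟩
  obtain ⟨W, hWdef⟩ : ∃ W : Fin t.card → Over S, W = fun j => overOpen U₀ (e.symm j).1.1 := ⟨_, rfl⟩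
  obtain ⟨c, hcdef⟩ : ∃ c : ∀ j, W j ⟶ U₀, ∀ j, HEq (c j) (overOpenι U₀ (e.symm j).1.1) := by
    subst hWdef
    exact ⟨fun j => overOpenι U₀ (e.symm j).1.1, fun j => HEq.rfl⟩
  subst hWdef
  have hc : ∀ j, c j = overOpenι U₀ (e.symm j).1.1 := fun j => eq_of_heq (hcdef j)
  have hWa : ∀ j, IsAffine (overOpen U₀ (e.symm j).1.1).left := fun j => (e.symm j).1.2
  have hU : IsAffine (ovSigma fun j => overOpen U₀ (e.symm j).1.1).left := by
    show IsAffine (∐ fun j => (overOpen U₀ (e.symm j).1.1).left)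
    infer_instance
  have het : Etale (ovSigmaDesc (fun j => overOpen U₀ (e.symm j).1.1) c).left := by
    show Etale (Sigma.desc fun j => (c j).left)
    rw [IsZariskiLocalAtSource.iff_of_openCover (P := @Etale)
      (sigmaOpenCover fun j => (overOpen U₀ (e.symm j).1.1).left)]
    intro (j : Fin t.card)
    have h1 : Sigma.ι (fun j => (overOpen U₀ (e.symm j).1.1).left) j ≫ (Sigma.desc fun j => (c j).left) =
        (c j).left := Sigma.ι_desc _ _
    show Etale (Sigma.ι (fun j => (overOpen U₀ (e.symm j).1.1).left) j ≫ (Sigma.desc fun j => (c j).left))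
    rw [h1, hc j]
    show Etale (e.symm j).1.1.ι
    infer_instance
  have hsu : Surjective (ovSigmaDesc (fun j => overOpen U₀ (e.symm j).1.1) c).left := by
    show Surjective (Sigma.desc fun j => (c j).left)
    refine ⟨fun z => ?_⟩
    obtain ⟨i, hit, hzi⟩ := ht z
    have hz' : z ∈ (e.symm (e ⟨i, hit⟩)).1.1 := by rw [Equiv.symm_apply_apply]; exact hzi
    refine ⟨(Sigma.ι (fun j => (overOpen U₀ (e.symm j).1.1).left) (e ⟨i, hit⟩)) ⟨z, hz'⟩, ?_⟩
    have h1 : Sigma.ι (fun j => (overOpen U₀ (e.symm j).1.1).left) (e ⟨i, hit⟩) ≫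
        (Sigma.desc fun j => (c j).left) = (c (e ⟨i, hit⟩)).left := Sigma.ι_desc _ _
    have h2 : (c (e ⟨i, hit⟩)).left ⟨z, hz'⟩ = z := by rw [hc]; rfl
    have h3 := congrArg (fun m : (overOpen U₀ (e.symm (e ⟨i, hit⟩)).1.1).left ⟶ U₀.left => m ⟨z, hz'⟩) h1
    exact h3.trans h2
  refine ⟨ovSigma fun j => overOpen U₀ (e.symm j).1.1,
    (yon S).map (ovSigmaDesc (fun j => overOpen U₀ (e.symm j).1.1) c) ≫ p₀, hU, ?_, ?_⟩
  · exact (RepWith @Etale).comp_mem _ _ ((repWith_yon_map_iff _ _).2 het) hpe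
  · exact (RepWith @Surjective).comp_mem _ _ ((repWith_yon_map_iff _ _).2 hsu) hps

/-- Restriction of a chart of a space over `A` to an open of `A`. -/
theorem exists_chart_restrict {X : Sp S} {A U : Over S} (f : X ⟶ (yon S).obj A) (a : (yon S).obj U ⟶ X)
    (h : U ⟶ A) (hh : a ≫ f = (yon S).map h) (V : A.left.Opens) :
    ∃ a₁ : (yon S).obj (overOpen U (h.left ⁻¹ᵁ V)) ⟶ pullback f ((yon S).map (overOpenι A V)),
      a₁ ≫ pullback.snd f ((yon S).map (overOpenι A V)) = (yon S).map (overRestrict h V) ∧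
      IsPullback a₁ ((yon S).map (overOpenι U (h.left ⁻¹ᵁ V)))
        (pullback.fst f ((yon S).map (overOpenι A V))) a := by
  have sqO := (isPullback_overRestrict h V).map (yon S)
  have w : ((yon S).map (overOpenι U (h.left ⁻¹ᵁ V)) ≫ a) ≫ f =
      (yon S).map (overRestrict h V) ≫ (yon S).map (overOpenι A V) := by
    rw [Category.assoc, hh]
    exact sqO.w.symm
  refine ⟨pullback.lift _ _ w, pullback.lift_snd _ _ _, ?_⟩
  refine IsPullback.of_right ?_ (pullback.lift_fst _ _ _) (IsPullback.of_hasPullback f _).flip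
  rw [pullback.lift_snd, hh]
  exact sqO

/-- From the local goal for a morphism of schemes to an affine scheme: an affine open neighbourhood with
quasi-compact preimage. -/
theorem exists_affineOpen_compact_of_lg {R A : Over S} (g : R ⟶ A) (t : ↥A.left)
    (h : LG ((yon S).map g) (Points.ofScheme A t)) :
    ∃ O : A.left.Opens, IsAffineOpen O ∧ t ∈ O ∧ CompactSpace ↥(g.left ⁻¹ᵁ O) := by
  obtain ⟨Y', X', j, fst, snd, hY', hj, ⟨y', hy'⟩, sq, hfin⟩ := h
  have sqJ := hj.rep.isPullback (𝟙 ((yon S).obj A))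
  have hopen : IsOpenImmersion (hj.rep.snd (𝟙 ((yon S).obj A))).left := hj.property_snd _
  obtain ⟨e, he⟩ : ∃ e : hj.rep.pullback (𝟙 ((yon S).obj A)) ⟶ A, e = hj.rep.snd (𝟙 ((yon S).obj A)) := ⟨_, rfl⟩
  rw [← he] at sqJ hopen
  obtain ⟨v, hv1, hv2⟩ := exists_point_of_isPullback_yon sqJ y' t hy'
  obtain ⟨O, hO, htO, hOsub⟩ := exists_isAffineOpen_mem_and_subset (x := t) (U := e.left.opensRange) ⟨v, hv2⟩
  have hr : Set.range O.ι ⊆ Set.range e.left := by
    rw [Scheme.Opens.range_ι]
    exact hOsub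
  obtain ⟨lam, hlam⟩ : ∃ lam : overOpen A O ⟶ hj.rep.pullback (𝟙 ((yon S).obj A)), lam ≫ e = overOpenι A O := by
    refine ⟨Over.homMk (IsOpenImmersion.lift e.left O.ι hr) ?_, ?_⟩
    · change IsOpenImmersion.lift e.left O.ι hr ≫ (hj.rep.pullback (𝟙 ((yon S).obj A))).hom = O.ι ≫ A.hom
      rw [← Over.w e, ← Category.assoc, IsOpenImmersion.lift_fac]
    · apply Over.OverMorphism.ext
      exact IsOpenImmersion.lift_fac _ _ _
  obtain ⟨l, hl⟩ : ∃ l : (yon S).obj (overOpen A O) ⟶ Y', l ≫ j = (yon S).map (overOpenι A O) := by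
    refine ⟨(yon S).map lam ≫ hj.rep.fst (𝟙 ((yon S).obj A)), ?_⟩
    rw [Category.assoc, sqJ.w, Category.comp_id, ← Functor.map_comp, hlam]
  have hOaff : IsAffine (overOpen A O).left := hO
  obtain ⟨W₀, i, φ, sqW, hW₀, hi⟩ := hfin hOaff l
  have sqV : IsPullback ((yon S).map i) (φ ≫ snd) (l ≫ j) ((yon S).map g) := sqW.flip.paste_vert sq
  rw [hl] at sqV
  have sqO := (isPullback_overRestrict g O).map (yon S)
  have hiso : IsIso (sqO.lift ((yon S).map i) (φ ≫ snd) sqV.w) :=
    ⟨sqV.lift _ _ sqO.w, sqV.hom_ext (by simp) (by simp), sqO.hom_ext (by simp) (by simp)⟩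
  have hRI1 : (RepWith (S := S) @Etale).RespectsIso := MorphismProperty.IsStableUnderBaseChange.respectsIso
  have hRI2 : (RepWith (S := S) @Surjective).RespectsIso := MorphismProperty.IsStableUnderBaseChange.respectsIso
  have hW₀c : CompactSpace ↥W₀.left := by
    have : IsAffine W₀.left := hW₀
    infer_instance
  refine ⟨O, hO, htO, ?_⟩
  exact compactSpace_of_isQuasiCompactSp_yon (overOpen R (g.left ⁻¹ᵁ O))
    ⟨W₀, sqO.lift ((yon S).map i) (φ ≫ snd) sqV.w, (RepWith (S := S) @Etale).of_isIso _,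
      (RepWith (S := S) @Surjective).of_isIso _, hW₀c⟩

end Groth.Agent.Lib.Helper16.DenseFin
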