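import Groth.Agent.Lib.Helper16.Misc2
import Groth.Agent.Lib.Helper16.DiagProps
import Groth.Agent.Lib.Helper16.Diagonal
import Groth.Agent.Lib.Helper16.QuasiCompactMor

/-!
# Helper library (helper16): the diagonal of a morphism locally of finite type is locally of finite presentation
-/

set_option autoImplicit false
universe u
open CategoryTheory CategoryTheory.Limits AlgebraicGeometry Opposite Topology

namespace Groth.Agent.Lib.Helper16

open AlgSp

variable {S : Scheme.{u}}

/-- `LocP` passes to the base change along a representable etale morphism from a scheme. -/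
theorem locP_of_isPullback_etale {P : MorphismProperty Scheme.{u}} {X Y X' : Sp S} {f : X ⟶ Y} {V : Over S}
    {p : (yon S).obj V ⟶ Y} (hp : RepWith @Etale p) {fst : X' ⟶ X} {snd : X' ⟶ (yon S).obj V}
    (sq : IsPullback fst snd f p) (hf : LocP P f) : LocP P snd := by
  intro U W a b m ha hb hcomm
  have hfst : RepWith @Etale fst := (RepWith (S := S) @Etale).of_isPullback sq.flip hp
  refine hf (a ≫ fst) (b ≫ p) m ((RepWith @Etale).comp_mem _ _ ha hfst)
    ((RepWith @Etale).comp_mem _ _ hb hp) ?_
  rw [Category.assoc, sq.w, ← Category.assoc, hcomm, Category.assoc]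

set_option backward.isDefEq.respectTransparency false in
/-- The diagonal of a morphism locally of finite type from an algebraic space to a scheme is representable and locally
of finite presentation. -/
theorem repWith_lfp_diagonal_of_yon {X' : Sp S} (hX' : IsAlgSpace X') {V : Over S} (i : X' ⟶ (yon S).obj V)
    (hi : LocP @LocallyOfFiniteType i) : RepWith @LocallyOfFinitePresentation (pullback.diagonal i) := by
  obtain ⟨U, a, hae, has⟩ := hX'.atlas
  obtain ⟨m, hm⟩ := (yon S).map_surjective (a ≫ i)
  have hmlft : LocallyOfFiniteType m.left :=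
    hi a (𝟙 _) m hae (repWith_id @Etale V) (by rw [Category.comp_id, hm])
  have yonW : IsPullback ((yon S).map (pullback.fst m m)) ((yon S).map (pullback.snd m m)) (a ≫ i) (a ≫ i) := by
    rw [← hm]
    exact (IsPullback.of_hasPullback m m).map (yon S)
  have hqcomm : ((yon S).map (pullback.fst m m) ≫ a) ≫ i = ((yon S).map (pullback.snd m m) ≫ a) ≫ i := by
    rw [Category.assoc, Category.assoc]
    exact yonW.w
  obtain ⟨q, hq⟩ : ∃ q : (yon S).obj (pullback m m) ⟶ pullback i i, q = pullback.lift _ _ hqcomm := ⟨_, rfl⟩
  have hq1 : q ≫ pullback.fst i i = (yon S).map (pullback.fst m m) ≫ a := by rw [hq, pullback.lift_fst]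
  have hq2 : q ≫ pullback.snd i i = (yon S).map (pullback.snd m m) ≫ a := by rw [hq, pullback.lift_snd]
  -- `q` is etale and surjective
  have key : q = yonW.isoPullback.hom ≫
      pullback.map (a ≫ i) (a ≫ i) i i a a (𝟙 _) ((Category.comp_id _).trans rfl)
        ((Category.comp_id _).trans rfl) := by
    apply pullback.hom_ext
    · rw [hq1, Category.assoc, pullback.lift_fst, ← Category.assoc, yonW.isoPullback_hom_fst]
    · rw [hq2, Category.assoc, pullback.lift_snd, ← Category.assoc, yonW.isoPullback_hom_snd]
  have hME : RepWith @Etale (pullback.map (a ≫ i) (a ≫ i) i i a a (𝟙 _) ((Category.comp_id _).trans rfl)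
      ((Category.comp_id _).trans rfl)) :=
    MorphismProperty.pullbackMap (P := RepWith (S := S) @Etale) hae hae rfl rfl
  have hMS : RepWith @Surjective (pullback.map (a ≫ i) (a ≫ i) i i a a (𝟙 _) ((Category.comp_id _).trans rfl)
      ((Category.comp_id _).trans rfl)) :=
    MorphismProperty.pullbackMap (P := RepWith (S := S) @Surjective) has has rfl rfl
  have hqe : RepWith @Etale q := by
    rw [key]
    exact (MorphismProperty.cancel_left_of_respectsIso (RepWith (S := S) @Etale) _ _).2 hME
  have hqs : RepWith @Surjective q := by
    rw [key]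
    exact (MorphismProperty.cancel_left_of_respectsIso (RepWith (S := S) @Surjective) _ _).2 hMS
  -- the pullback of the diagonal along `q`
  obtain ⟨R', r₂, ρ₁, sqR⟩ := hae.rep a
  obtain ⟨r₁, rfl⟩ := (yon S).map_surjective ρ₁
  have hr₁ : Etale r₁.left := hae.property _ _ _ sqR.flip
  have hr : r₁ ≫ m = r₂ ≫ m := by
    apply (yon S).map_injective
    rw [Functor.map_comp, Functor.map_comp, hm, ← Category.assoc, ← Category.assoc, sqR.w]
  obtain ⟨g, hg⟩ : ∃ g : R' ⟶ pullback m m, g = pullback.lift r₁ r₂ hr := ⟨_, rfl⟩
  have hg1 : g ≫ pullback.fst m m = r₁ := by rw [hg, pullback.lift_fst]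
  have hg2 : g ≫ pullback.snd m m = r₂ := by rw [hg, pullback.lift_snd]
  have sqD : IsPullback ((yon S).map r₁ ≫ a) ((yon S).map g) (pullback.diagonal i) q := by
    refine isPullback_of_exists_lift ?_ ?_ ?_
    · apply pullback.hom_ext
      · rw [Category.assoc, Category.assoc, pullback.diagonal_fst, Category.comp_id, Category.assoc, hq1,
          ← Category.assoc, ← Functor.map_comp, hg1]
      · rw [Category.assoc, Category.assoc, pullback.diagonal_snd, Category.comp_id, Category.assoc, hq2,
          ← Category.assoc, ← Functor.map_comp, hg2, sqR.w]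
    · intro Z x z h
      have h1 : x = (z ≫ (yon S).map (pullback.fst m m)) ≫ a := by
        have := congrArg (· ≫ pullback.fst i i) h
        simp only [Category.assoc, pullback.diagonal_fst, Category.comp_id, hq1] at this
        rw [this, Category.assoc]
      have h2 : x = (z ≫ (yon S).map (pullback.snd m m)) ≫ a := by
        have := congrArg (· ≫ pullback.snd i i) h
        simp only [Category.assoc, pullback.diagonal_snd, Category.comp_id, hq2] at this
        rw [this, Category.assoc]
      refine ⟨sqR.lift _ _ (h1.symm.trans h2), ?_, ?_⟩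
      · rw [← Category.assoc, sqR.lift_fst, ← h1]
      · apply yonW.hom_ext
        · rw [Category.assoc, ← Functor.map_comp, hg1, sqR.lift_fst]
        · rw [Category.assoc, ← Functor.map_comp, hg2, sqR.lift_snd]
    · intro Z l l' _ h2
      apply sqR.hom_ext
      · have := congrArg (· ≫ (yon S).map (pullback.fst m m)) h2
        simp only [Category.assoc, ← Functor.map_comp, hg1] at this
        exact this
      · have := congrArg (· ≫ (yon S).map (pullback.snd m m)) h2
        simp only [Category.assoc, ← Functor.map_comp, hg2] at this
        exact this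
  have hw1 : LocallyOfFiniteType (pullback.fst m m).left := by
    have sqL : IsPullback (pullback.fst m m).left (pullback.snd m m).left m.left m.left :=
      (IsPullback.of_hasPullback m m).map (Over.forget S)
    exact MorphismProperty.of_isPullback (P := @LocallyOfFiniteType) sqL.flip hmlft
  have hglfp : LocallyOfFinitePresentation g.left := by
    have h3 : LocallyOfFinitePresentation (g.left ≫ (pullback.fst m m).left) := by
      rw [← Over.comp_left, hg1]
      infer_instance
    exact lfp_of_comp_of_lft h3 hw1
  have hrep : Representable (pullback.diagonal i) :=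
    (repWith_diagonal_of_repWith_diag i (repWith_lft_diag hX')).rep
  exact repWith_of_chart_of_descends (pullback.diagonal i) hrep q hqe hqs _ g sqD
    @LocallyOfFinitePresentation hglfp

/-- The diagonal of a morphism locally of finite type of algebraic spaces is representable and locally of finite
presentation. -/
theorem repWith_lfp_diagonal {X Y : Sp S} (hX : IsAlgSpace X) (hY : IsAlgSpace Y) (f : X ⟶ Y)
    (hf : LocP @LocallyOfFiniteType f) : RepWith @LocallyOfFinitePresentation (pullback.diagonal f) := by
  obtain ⟨V, p, hpe, hps⟩ := hY.atlas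
  have sq : IsPullback (pullback.fst f p) (pullback.snd f p) f p := IsPullback.of_hasPullback f p
  have hX' : IsAlgSpace (pullback f p) := isAlgSpace_of_isPullback hX hY.diag (IsAlgSpace.yon_obj V) sq
  have hsnd : LocP @LocallyOfFiniteType (pullback.snd f p) := locP_of_isPullback_etale hpe sq hf
  exact repWith_diagonal_of_etale_cover hX.diag f p hpe hps _ _ sq
    (repWith_lfp_diagonal_of_yon hX' (pullback.snd f p) hsnd)

end Groth.Agent.Lib.Helper16
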