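import Groth.Agent.Lib.Helper16.UnivRep
import Groth.Agent.Lib.Helper16.MonoPt

/-!
# Helper library (helper16): universally injective morphisms of algebraic spaces, field-valued points and the diagonal
-/

set_option autoImplicit false
universe u
open CategoryTheory CategoryTheory.Limits AlgebraicGeometry Opposite Topology

namespace Groth.Agent.Lib.Helper16

open AlgSp

variable {S : Scheme.{u}}

/-- Two `K`-valued points of a sheaf with representable diagonal which agree after restriction to a nonempty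
scheme over `Spec K` are equal. -/
theorem eq_of_yon_map_comp_eq {X : Sp S} (hX : Representable (Limits.diag X)) {K : Type u} [Field K]
    {str : Spec (CommRingCat.of K) ⟶ S} {T' : Over S} [Nonempty ↥T'.left] (ι : T' ⟶ Over.mk str)
    (a b : (yon S).obj (Over.mk str) ⟶ X) (h : (yon S).map ι ≫ a = (yon S).map ι ≫ b) : a = b := by
  obtain ⟨E, e, fstE, sq⟩ := hX (prod.lift a b)
  have hmd : Mono (Limits.diag X) := by
    refine ⟨fun {Z} u v huv => ?_⟩
    have := congrArg (· ≫ prod.fst) huv
    simpa only [Category.assoc, prod.lift_fst, Category.comp_id] using this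
  have hme : Mono ((yon S).map e) :=
    MorphismProperty.of_isPullback (P := MorphismProperty.monomorphisms _) sq hmd
  have hme' : Mono e := (yon S).mono_of_mono_map hme
  have hml : Mono e.left := inferInstance
  have hl : ((yon S).map ι ≫ a) ≫ Limits.diag X = (yon S).map ι ≫ prod.lift a b := by
    apply Limits.prod.hom_ext
    · simp only [Category.assoc, prod.lift_fst, Category.comp_id]
    · simp only [Category.assoc, prod.lift_snd, Category.comp_id]
      exact h
  obtain ⟨l₀, -⟩ := (yon S).map_surjective (sq.lift _ _ hl)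
  have hne : Nonempty ↥E.left := ⟨l₀.left (Classical.arbitrary _)⟩
  have hiso : IsIso ((Over.forget S).map e) := isIso_of_mono_of_nonempty_of_field e.left
  have hiso' : IsIso e := isIso_of_reflects_iso e (Over.forget S)
  have h1 : fstE = (yon S).map e ≫ a := by
    have := congrArg (· ≫ prod.fst) sq.w
    simpa only [Category.assoc, prod.lift_fst, Category.comp_id] using this
  have h2 : fstE = (yon S).map e ≫ b := by
    have := congrArg (· ≫ prod.snd) sq.w
    simpa only [Category.assoc, prod.lift_snd, Category.comp_id] using this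
  exact (cancel_epi ((yon S).map e)).1 (h1.symm.trans h2)

theorem fieldPtOfHom_toHom_self {F : Sp S} (p : FieldPt F) : fieldPtOfHom p.K p.str p.toHom = p := by
  cases p
  simp [fieldPtOfHom, FieldPt.toHom]

/-- Injectivity on field-valued points, for all fields. -/
def InjOnFieldPoints {X Y : Sp S} (f : X ⟶ Y) : Prop :=
  ∀ (K : Type u) [Field K] (str : Spec (CommRingCat.of K) ⟶ S),
    Function.Injective (fun a : (yon S).obj (Over.mk str) ⟶ X => a ≫ f)

theorem isUnivInjectiveMor_of_injOnFieldPoints {X Y : Sp S} (f : X ⟶ Y) (h : InjOnFieldPoints f) :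
    IsUnivInjectiveMor f := by
  intro Z Z' _ g fst snd sq x₁ x₂
  induction x₁ using Points.ind with
  | h p₁ =>
  induction x₂ using Points.ind with
  | h p₂ =>
  intro hx
  rw [Points.map_mk, Points.map_mk, Points.mk_eq_mk_iff, rel_iff_toHom] at hx
  obtain ⟨Ω, _, w, α, β, hαβ⟩ := hx
  rw [FieldPt.toHom_map, FieldPt.toHom_map] at hαβ
  have hαβ' : ((yon S).map (α : Over.mk w ⟶ p₁.pt) ≫ p₁.toHom) ≫ snd =
      ((yon S).map (β : Over.mk w ⟶ p₂.pt) ≫ p₂.toHom) ≫ snd := by
    exact (Category.assoc _ _ _).trans (hαβ.trans (Category.assoc _ _ _).symm)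
  rw [Points.mk_eq_mk_iff, rel_iff_toHom]
  refine ⟨Ω, inferInstance, w, α, β, ?_⟩
  apply sq.hom_ext _ hαβ'
  apply h Ω w
  change (_ ≫ fst) ≫ f = (_ ≫ fst) ≫ f
  rw [Category.assoc, sq.w, ← Category.assoc, hαβ', Category.assoc, ← sq.w, ← Category.assoc]

theorem injOnFieldPoints_of_isUnivInjectiveMor {X Y : Sp S} (hX : Representable (Limits.diag X)) (f : X ⟶ Y)
    (h : IsUnivInjectiveMor f) : InjOnFieldPoints f := by
  intro K _ str a b hab
  change a ≫ f = b ≫ f at hab
  have sq := IsPullback.of_hasPullback f (a ≫ f)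
  have hinj := h (IsAlgSpace.yon_obj (Over.mk str)) (a ≫ f) _ _ sq
  obtain ⟨σa, hσa1, hσa2⟩ : ∃ σ : (yon S).obj (Over.mk str) ⟶ pullback f (a ≫ f),
      σ ≫ pullback.fst _ _ = a ∧ σ ≫ pullback.snd _ _ = 𝟙 _ :=
    ⟨pullback.lift a (𝟙 _) (Category.id_comp _).symm, pullback.lift_fst _ _ _, pullback.lift_snd _ _ _⟩
  obtain ⟨σb, hσb1, hσb2⟩ : ∃ σ : (yon S).obj (Over.mk str) ⟶ pullback f (a ≫ f),
      σ ≫ pullback.fst _ _ = b ∧ σ ≫ pullback.snd _ _ = 𝟙 _ :=
    ⟨pullback.lift b (𝟙 _) (by rw [Category.id_comp, hab]), pullback.lift_fst _ _ _, pullback.lift_snd _ _ _⟩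
  have hx : Points.mk (fieldPtOfHom K str σa) = Points.mk (fieldPtOfHom K str σb) := by
    apply hinj
    rw [Points.map_mk, Points.map_mk, fieldPtOfHom_map, fieldPtOfHom_map, hσa2, hσb2]
  rw [Points.mk_eq_mk_iff, rel_iff_toHom] at hx
  obtain ⟨Ω, _, w, α, β, hαβ⟩ := hx
  rw [fieldPtOfHom_toHom, fieldPtOfHom_toHom] at hαβ
  change Over.mk w ⟶ Over.mk str at α β
  have hαβ' : (yon S).map α ≫ σa = (yon S).map β ≫ σb := hαβ
  have h1 := congrArg (· ≫ pullback.snd f (a ≫ f)) hαβ'
  simp only [Category.assoc, hσa2, hσb2, Category.comp_id] at h1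
  have h2 := congrArg (· ≫ pullback.fst f (a ≫ f)) hαβ'
  simp only [Category.assoc, hσa1, hσb1] at h2
  rw [← h1] at h2
  have : Nonempty ↥(Over.mk w).left := inferInstanceAs (Nonempty ↥(Spec (CommRingCat.of Ω)))
  exact eq_of_yon_map_comp_eq hX α a b h2

theorem isUnivInjectiveMor_iff_injOnFieldPoints {X Y : Sp S} (hX : Representable (Limits.diag X)) (f : X ⟶ Y) :
    InjOnFieldPoints f ↔ IsUnivInjectiveMor f :=
  ⟨isUnivInjectiveMor_of_injOnFieldPoints f, injOnFieldPoints_of_isUnivInjectiveMor hX f⟩

theorem injOnFieldPoints_iff_diagonal_surjective {X Y : Sp S} (hX : Representable (Limits.diag X)) (f : X ⟶ Y) :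
    InjOnFieldPoints f ↔ IsSurjectiveMor (pullback.diagonal f) := by
  constructor
  · intro h x
    induction x using Points.ind with
    | h p =>
    have hab : (p.toHom ≫ pullback.fst f f) ≫ f = (p.toHom ≫ pullback.snd f f) ≫ f := by
      rw [Category.assoc, Category.assoc, pullback.condition]
    have hab' : p.toHom ≫ pullback.fst f f = p.toHom ≫ pullback.snd f f := h p.K p.str hab
    refine ⟨Points.mk (fieldPtOfHom p.K p.str (p.toHom ≫ pullback.fst f f)), ?_⟩
    have hd : (p.toHom ≫ pullback.fst f f) ≫ pullback.diagonal f = p.toHom := by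
      apply pullback.hom_ext
      · simp only [Category.assoc, pullback.diagonal_fst, Category.comp_id]
      · simp only [Category.assoc, pullback.diagonal_snd, Category.comp_id]
        exact hab'
    rw [Points.map_mk, fieldPtOfHom_map, hd, fieldPtOfHom_toHom_self]
  · intro h K _ str a b hab
    change a ≫ f = b ≫ f at hab
    obtain ⟨x, hx⟩ := h (Points.mk (fieldPtOfHom K str (pullback.lift a b hab)))
    induction x using Points.ind with
    | h q =>
    rw [Points.map_mk, Points.mk_eq_mk_iff, rel_iff_toHom] at hx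
    obtain ⟨Ω, _, w, β, α, hαβ⟩ := hx
    rw [fieldPtOfHom_toHom, FieldPt.toHom_map] at hαβ
    have hαβ' : (yon S).map (β : Over.mk w ⟶ q.pt) ≫ q.toHom ≫ pullback.diagonal f =
        (yon S).map (α : Over.mk w ⟶ Over.mk str) ≫ pullback.lift a b hab := hαβ
    have h1 := congrArg (· ≫ pullback.fst f f) hαβ'
    simp only [Category.assoc, pullback.lift_fst, pullback.diagonal_fst, Category.comp_id] at h1
    have h2 := congrArg (· ≫ pullback.snd f f) hαβ'
    simp only [Category.assoc, pullback.lift_snd, pullback.diagonal_snd, Category.comp_id] at h2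
    have : Nonempty ↥(Over.mk w).left := inferInstanceAs (Nonempty ↥(Spec (CommRingCat.of Ω)))
    exact eq_of_yon_map_comp_eq hX (α : Over.mk w ⟶ Over.mk str) a b (h1.symm.trans h2)

end Groth.Agent.Lib.Helper16
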