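import Groth.Agent.Lib.Helper16.QfBaseChange
import Groth.Agent.Lib.Helper16.LocPGen
import Groth.Agent.Lib.Helper16.EtLocal
import Groth.Agent.Lib.Helper16.FppfLocal2
import Groth.Agent.Lib.Helper15.OpenSubspace
import Groth.Prelude.Def_AlgSpDec

/-!
# Helper library (helper16): the quasi-finite locus of a morphism of algebraic spaces, base change of chart diagrams
-/

set_option autoImplicit false
universe u
open CategoryTheory CategoryTheory.Limits AlgebraicGeometry Opposite Topology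

namespace Groth.Agent.Lib.Helper16.QfAt

open AlgSp Groth.Agent.Lib.Helper16 Groth.Agent.Lib.Helper16.DimZero Groth.Agent.Lib.Helper15

variable {S : Scheme.{u}}

/-- Base change of chart diagrams: over a pullback square of algebraic spaces there are compatible chart diagrams
whose underlying square of schemes is a pullback, the chart of the pulled-back source being surjective. -/
theorem exists_chart_diagram_baseChange {X Y X'' Y'' : Sp S} (hX : IsAlgSpace X) (hY : IsAlgSpace Y)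
    (hY'' : IsAlgSpace Y'') {f : X ⟶ Y} {g : Y'' ⟶ Y} {b : X'' ⟶ X} {f'' : X'' ⟶ Y''}
    (sq : IsPullback b f'' f g) :
    ∃ (U V U'' V'' : Over S) (a : (yon S).obj U ⟶ X) (bV : (yon S).obj V ⟶ Y) (h : U ⟶ V)
      (a'' : (yon S).obj U'' ⟶ X'') (b'' : (yon S).obj V'' ⟶ Y'') (h'' : U'' ⟶ V'') (β : U'' ⟶ U) (γ : V'' ⟶ V),
      RepWith @Etale a ∧ RepWith @Etale bV ∧ RepWith @Etale a'' ∧ RepWith @Etale b'' ∧
      RepWith @Surjective a'' ∧
      a ≫ f = (yon S).map h ≫ bV ∧ a'' ≫ f'' = (yon S).map h'' ≫ b'' ∧ a'' ≫ b = (yon S).map β ≫ a ∧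
      IsPullback β.left h''.left h.left γ.left := by
  obtain ⟨V, bV, hbVe, hbVs⟩ := hY.atlas
  obtain ⟨U₀, a₀, ha₀e, ha₀s⟩ := hX.atlas
  obtain ⟨V₀'', b₀'', hb₀e, hb₀s⟩ := hY''.atlas
  obtain ⟨V'', γ, cV, hb''e, hb''c, -, -, hb''s⟩ := exists_chart_diagram g bV hbVe b₀'' hb₀e
  obtain ⟨U, h, cU, hae, hac, -, sqU, -⟩ := exists_chart_diagram f bV hbVe a₀ ha₀e
  have hb''s' := hb''s hbVs hb₀s
  generalize (yon S).map cV ≫ b₀'' = b'' at hb''e hb''c hb''s'
  -- the chart of `X ×_Y V`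
  let l : (yon S).obj U ⟶ pullback f bV := pullback.lift ((yon S).map cU ≫ a₀) ((yon S).map h) hac
  have sql : IsPullback l ((yon S).map cU) (pullback.fst f bV) a₀ := by
    refine IsPullback.of_right ?_ (pullback.lift_fst _ _ _) (IsPullback.of_hasPullback f bV).flip
    rw [pullback.lift_snd]
    exact sqU
  have hle : RepWith @Etale l := (RepWith @Etale).of_isPullback sql.flip ha₀e
  have hls : RepWith @Surjective l := (RepWith @Surjective).of_isPullback sql.flip ha₀s
  -- the base change to `V''`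
  have hfZe : RepWith @Etale (pullback.fst f'' b'') :=
    (RepWith @Etale).of_isPullback (IsPullback.of_hasPullback f'' b'').flip hb''e
  have hfZs : RepWith @Surjective (pullback.fst f'' b'') :=
    (RepWith @Surjective).of_isPullback (IsPullback.of_hasPullback f'' b'').flip hb''s'
  have sqZ : IsPullback (pullback.fst f'' b'' ≫ b) (pullback.snd f'' b'') f ((yon S).map γ ≫ bV) := by
    rw [← hb''c]
    exact (IsPullback.of_hasPullback f'' b'').paste_horiz sq
  have w : (pullback.fst f'' b'' ≫ b) ≫ f = (pullback.snd f'' b'' ≫ (yon S).map γ) ≫ bV := by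
    rw [Category.assoc (pullback.snd f'' b'')]; exact sqZ.w
  let k : pullback f'' b'' ⟶ pullback f bV := pullback.lift _ _ w
  have sq2 : IsPullback k (pullback.snd f'' b'') (pullback.snd f bV) ((yon S).map γ) := by
    refine IsPullback.of_right ?_ (pullback.lift_snd _ _ _) (IsPullback.of_hasPullback f bV)
    rw [pullback.lift_fst]
    exact sqZ
  obtain ⟨a', ha'₁, sqa⟩ := chart_baseChange sq2 l h (pullback.lift_snd _ _ _)
  have ha'e : RepWith @Etale a' := (RepWith @Etale).of_isPullback sqa.flip hle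
  have ha's : RepWith @Surjective a' := (RepWith @Surjective).of_isPullback sqa.flip hls
  refine ⟨U, V, pullback h γ, V'', (yon S).map cU ≫ a₀, bV, h, a' ≫ pullback.fst f'' b'', b'',
    pullback.snd h γ, pullback.fst h γ, γ, hae, hbVe, (RepWith @Etale).comp_mem _ _ ha'e hfZe, hb''e,
    (RepWith @Surjective).comp_mem _ _ ha's hfZs, hac, ?_, ?_, isPullback_left_forget h γ⟩
  · rw [Category.assoc, pullback.condition, ← Category.assoc, ha'₁]
  · have h1 : k ≫ pullback.fst f bV = pullback.fst f'' b'' ≫ b := pullback.lift_fst _ _ _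
    have h2 : l ≫ pullback.fst f bV = (yon S).map cU ≫ a₀ := pullback.lift_fst _ _ _
    rw [Category.assoc, ← h1, ← Category.assoc, sqa.w, Category.assoc, h2]

/-- The quasi-finite locus of a morphism of sheaves: the points at which some chart diagram is quasi-finite. -/
def qfLocus {X Y : Sp S} (f : X ⟶ Y) : Set (Points X) :=
  {x | HasAtMor (fun _ _ h u => h.QuasiFiniteAt u) f x}

theorem mem_qfLocus_iff {X Y : Sp S} (f : X ⟶ Y) (hf : LocP @LocallyOfFiniteType f) {U₁ V₁ : Over S}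
    (a₁ : (yon S).obj U₁ ⟶ X) (b₁ : (yon S).obj V₁ ⟶ Y) (m : U₁ ⟶ V₁) (ha₁ : RepWith @Etale a₁)
    (hb₁ : RepWith @Etale b₁) (hc₁ : a₁ ≫ f = (yon S).map m ≫ b₁) (u₁ : ↥U₁.left) :
    Points.ofPt a₁ u₁ ∈ qfLocus f ↔ m.left.QuasiFiniteAt u₁ := by
  constructor
  · rintro ⟨U, V, a, b, h, u, ha, hb, hc, hu, hq⟩
    have : LocallyOfFiniteType m.left := hf _ _ m ha₁ hb₁ hc₁
    exact quasiFiniteAt_transfer f a b h a₁ b₁ m ha hb ha₁ hb₁ hc hc₁ u u₁ hu hq
  · intro hq
    exact ⟨U₁, V₁, a₁, b₁, m, u₁, ha₁, hb₁, hc₁, rfl, hq⟩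

theorem isOpen_qfLocus {X Y : Sp S} (f : X ⟶ Y) (hf : LocP @LocallyOfFiniteType f) : IsOpen (qfLocus f) := by
  rw [isOpen_iff_forall_mem_open]
  rintro x ⟨U, V, a, b, h, u, ha, hb, hc, hu, hq⟩
  have : LocallyOfFiniteType h.left := hf _ _ h ha hb hc
  refine ⟨Points.ofPt a '' (h.left.quasiFiniteLocus : Set ↥U.left), ?_,
    isOpenMap_ofPt_of_etale a ha _ h.left.quasiFiniteLocus.isOpen, ⟨u, hq, hu⟩⟩
  rintro _ ⟨u', hu', rfl⟩
  exact ⟨U, V, a, b, h, u', ha, hb, hc, rfl, hu'⟩

theorem isOpenImmersion_le_etale : (@IsOpenImmersion : MorphismProperty Scheme.{u}) ≤ @Etale :=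
  fun _ _ f hf => by
    have : IsOpenImmersion f := hf
    exact (inferInstance : Etale f)

/-- On the open subspace defined by the quasi-finite locus the morphism is locally quasi-finite. -/
theorem locP_lqf_openSubι_comp {X Y : Sp S} (f : X ⟶ Y) (hf : LocP @LocallyOfFiniteType f) :
    LocP (@LocallyQuasiFinite ⊓ @LocallyOfFiniteType) (openSubι X (qfLocus f) ≫ f) := by
  intro U' V' a' b' m' ha' hb' hc'
  have hj : RepWith @IsOpenImmersion (openSubι X (qfLocus f)) :=
    repWith_isOpenImmersion_openSubι _ (isOpen_qfLocus f hf)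
  have hje : RepWith @Etale (openSubι X (qfLocus f)) := repWith_mono isOpenImmersion_le_etale _ hj
  have haj : RepWith @Etale (a' ≫ openSubι X (qfLocus f)) := (RepWith @Etale).comp_mem _ _ ha' hje
  have hc : (a' ≫ openSubι X (qfLocus f)) ≫ f = (yon S).map m' ≫ b' := by
    rw [Category.assoc]; exact hc'
  have hm : LocallyOfFiniteType m'.left := hf _ _ m' haj hb' hc
  refine ⟨?_, hm⟩
  rw [← Scheme.Hom.quasiFiniteLocus_eq_top_iff]
  refine top_le_iff.1 fun u' _ => ?_
  rw [Scheme.Hom.mem_quasiFiniteLocus]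
  apply (mem_qfLocus_iff f hf _ b' m' haj hb' hc u').1
  rw [← Points.map_ofPt]
  have h1 : Points.map (openSubι X (qfLocus f)) (Points.ofPt a' u') ∈
      Set.range (Points.map (openSubι X (qfLocus f))) := ⟨_, rfl⟩
  rwa [range_map_openSubι (qfLocus f)] at h1

/-- The quasi-finite locus commutes with base change. -/
theorem qfLocus_baseChange {X Y X'' Y'' : Sp S} (hX : IsAlgSpace X) (hY : IsAlgSpace Y)
    (hY'' : IsAlgSpace Y'') {f : X ⟶ Y} {g : Y'' ⟶ Y} {b : X'' ⟶ X} {f'' : X'' ⟶ Y''}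
    (sq : IsPullback b f'' f g) (hf : LocP @LocallyOfFiniteType f) (x'' : Points X'') :
    x'' ∈ qfLocus f'' ↔ Points.map b x'' ∈ qfLocus f := by
  have hf'' : LocP @LocallyOfFiniteType f'' :=
    locP_of_isPullback etLocalST_locallyOfFiniteType hX hY sq hf
  obtain ⟨U, V, U'', V'', a, bV, h, a'', b'', h'', β, γ, hae, hbVe, ha''e, hb''e, ha''s, hc, hc'', hcb, sqS⟩ :=
    exists_chart_diagram_baseChange hX hY hY'' sq
  obtain ⟨u'', rfl⟩ := ofPt_surjective_of_surjective a'' ha''s x''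
  have hpt : Points.map b (Points.ofPt a'' u'') = Points.ofPt a (β.left u'') := by
    rw [Points.map_ofPt, hcb, ofPt_yon_map_comp]
  have : LocallyOfFiniteType h.left := hf _ _ h hae hbVe hc
  rw [hpt, mem_qfLocus_iff f'' hf'' a'' b'' h'' ha''e hb''e hc'' u'', mem_qfLocus_iff f hf a bV h hae hbVe hc]
  exact ⟨quasiFiniteAt_fst_of_isPullback sqS u'', quasiFiniteAt_snd_of_isPullback sqS u''⟩

/-- Membership in the quasi-finite locus, in the open-neighbourhood form. -/
theorem mem_qfLocus_iff_hasAtMor_open {X Y : Sp S} (f : X ⟶ Y) (hf : LocP @LocallyOfFiniteType f)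
    (x : Points X) :
    x ∈ qfLocus f ↔ HasAtMor (fun U _ h u => ∃ W : U.Opens, u ∈ W ∧ LocallyQuasiFinite (W.ι ≫ h) ∧
      LocallyOfFiniteType (W.ι ≫ h)) f x := by
  constructor
  · rintro ⟨U, V, a, b, h, u, ha, hb, hc, hu, hq⟩
    have : LocallyOfFiniteType h.left := hf _ _ h ha hb hc
    exact ⟨U, V, a, b, h, u, ha, hb, hc, hu, h.left.quasiFiniteLocus, hq, inferInstance, inferInstance⟩
  · rintro ⟨U, V, a, b, h, u, ha, hb, hc, hu, W, huW, hlqf, -⟩
    obtain ⟨u', rfl⟩ := exists_ι_eq W huW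
    exact ⟨U, V, a, b, h, _, ha, hb, hc, hu,
      Scheme.Hom.quasiFiniteAt_comp_iff_of_isOpenImmersion.1 ((W.ι ≫ h.left).quasiFiniteAt u')⟩

theorem fibreDimAt_nonneg {U V : Scheme.{u}} (h : U ⟶ V) (u : U) : 0 ≤ FlatMor.fibreDimAt h u := by
  unfold FlatMor.fibreDimAt FlatMor.localDim
  exact le_iInf fun N => topologicalKrullDim_nonneg_of_mem _ N.2

/-- Outside the quasi-finite locus the relative dimension is at least one. -/
theorem hasAtMor_one_le_of_not_mem_qfLocus {X Y : Sp S} (hX : IsAlgSpace X) (hY : IsAlgSpace Y) (f : X ⟶ Y)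
    (hf : LocP @LocallyOfFiniteType f) (x : Points X) (hx : x ∉ qfLocus f) :
    HasAtMor (fun _ _ h u => 1 ≤ FlatMor.fibreDimAt h u) f x := by
  obtain ⟨U₀, a₀, hae, has⟩ := hX.atlas
  obtain ⟨V, b, hbe, hbs⟩ := hY.atlas
  obtain ⟨U, h, c, h1, h2, -, -, h3⟩ := exists_chart_diagram f b hbe a₀ hae
  obtain ⟨u, hu⟩ := ofPt_surjective_of_surjective _ (h3 hbs has) x
  refine ⟨U, V, _, b, h, u, h1, hbe, h2, hu, ?_⟩
  have : LocallyOfFiniteType h.left := hf _ _ h h1 hbe h2
  have hne : FlatMor.fibreDimAt h.left u ≠ 0 := by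
    intro h0
    apply hx
    rw [← hu]
    exact (mem_qfLocus_iff f hf _ b h h1 hbe h2 u).2 ((fibreDimAt_eq_zero_iff h.left u).1 h0)
  exact one_le_of_pos _ (lt_of_le_of_ne (fibreDimAt_nonneg h.left u) (Ne.symm hne))

/-- A point of a fibre at which the fibre has local dimension zero maps into the quasi-finite locus. -/
theorem mem_qfLocus_of_fibre_localDim_zero {X Y F : Sp S} (hX : IsAlgSpace X) (hY : IsAlgSpace Y)
    (f : X ⟶ Y) (hf : LocP @LocallyOfFiniteType f) (k : Type u) [Field k] (str : Spec (.of k) ⟶ S)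
    (y : (yon S).obj (Over.mk str) ⟶ Y) (p : F ⟶ X) (q : F ⟶ (yon S).obj (Over.mk str))
    (sq : IsPullback p q f y) (z : Points F)
    (hz : HasAt (fun U u => FlatMor.localDim ↥U u = 0) F z) : Points.map p z ∈ qfLocus f := by
  have hq : LocP @LocallyOfFiniteType q := locP_of_isPullback etLocalST_locallyOfFiniteType hX hY sq hf
  rw [← qfLocus_baseChange hX hY (IsAlgSpace.yon_obj _) sq hf z]
  obtain ⟨A, α, α₀, hα, hαz, hd⟩ := hz
  obtain ⟨m, hm⟩ := (yon S).map_surjective (α ≫ q)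
  have hid : RepWith @Etale (𝟙 ((yon S).obj (Over.mk str))) := repWith_id _ _
  have hc : α ≫ q = (yon S).map m ≫ 𝟙 _ := by rw [Category.comp_id, hm]
  have hlft : LocallyOfFiniteType m.left := hq _ _ m hα hid hc
  have hN0 : IsLocallyNoetherian (Over.mk str).left :=
    inferInstanceAs (IsLocallyNoetherian (Spec (.of k)))
  have hN : IsLocallyNoetherian A.left := LocallyOfFiniteType.isLocallyNoetherian m.left
  have hopen : IsOpen ({α₀} : Set ↥A.left) := (localDim_eq_zero_iff_isOpen_singleton A.left α₀).1 hd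
  refine ⟨A, Over.mk str, α, 𝟙 _, m, α₀, hα, hid, hc, hαz, ?_⟩
  show m.left.QuasiFiniteAt α₀
  rw [quasiFiniteAt_iff_exists_open]
  refine ⟨{α₀}, hopen, ?_⟩
  ext t
  constructor
  · rintro ⟨ht, -⟩; exact ht
  · rintro rfl; exact ⟨rfl, rfl⟩

end Groth.Agent.Lib.Helper16.QfAt
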