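import Groth.Agent.Lib.Helper16.QuasiCompactMor2
import Groth.Agent.Lib.Helper16.QfLocus
import Groth.Agent.Lib.Helper16.QsField
import Groth.Agent.Lib.Helper15.OpenSubspace
import Groth.Agent.Lib.Helper15.MonoInj

/-!
# Helper library (helper16): quasi-compact open subspaces containing a finite set of points; quasi-compactness of
morphisms from quasi-compact spaces to quasi-separated spaces; quasi-finite locus of a restriction
-/

set_option autoImplicit false
universe u
open CategoryTheory CategoryTheory.Limits AlgebraicGeometry Opposite Topology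

namespace Groth.Agent.Lib.Helper16.QcOpen

open AlgSp Groth.Agent.Lib.Helper16 Groth.Agent.Lib.Helper15 Groth.Agent.Lib.Helper16.QfAt

variable {S : Scheme.{u}}

/-- A finite set of points of a scheme lies in a quasi-compact open. -/
theorem exists_compact_opens_of_finite (U : Scheme.{u}) (s : Set ↥U) (hs : s.Finite) :
    ∃ O : U.Opens, IsCompact (O : Set ↥U) ∧ s ⊆ O := by
  refine Set.Finite.induction_on (motive := fun s _ => ∃ O : U.Opens, IsCompact (O : Set ↥U) ∧ s ⊆ O) s hs
    ?_ ?_
  · exact ⟨⊥, by simp, by simp⟩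
  · intro x s _ _ ih
    obtain ⟨O, hO, hsO⟩ := ih
    obtain ⟨_, ⟨(A : U.Opens), hA, rfl⟩, hxA, -⟩ :=
      U.isBasis_affineOpens.exists_subset_of_mem_open (Set.mem_univ x) isOpen_univ
    refine ⟨O ⊔ A, ?_, ?_⟩
    · rw [TopologicalSpace.Opens.coe_sup]
      exact hO.union hA.isCompact
    · intro z hz
      rcases hz with rfl | hz
      · exact Or.inr hxA
      · exact Or.inl (hsO hz)

/-- A finite set of points of an algebraic space lies in a quasi-compact open subspace. -/
theorem exists_qc_open_of_finite {X : Sp S} (hX : IsAlgSpace X) (F : Set (Points X)) (hF : F.Finite) :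
    ∃ A : Set (Points X), IsOpen A ∧ F ⊆ A ∧ IsQuasiCompactSp (openSub X A) := by
  obtain ⟨U₀, a₀, hae, has⟩ := hX.atlas
  have hsurj := ofPt_surjective_of_surjective a₀ has
  choose u hu using hsurj
  obtain ⟨O, hO, hsO⟩ := exists_compact_opens_of_finite U₀.left (u '' F) (hF.image u)
  obtain ⟨A, hAdef⟩ : ∃ A : Set (Points X), A = Points.ofPt a₀ '' (O : Set ↥U₀.left) := ⟨_, rfl⟩
  have hA : IsOpen A := by
    rw [hAdef]
    exact isOpenMap_ofPt_of_etale a₀ hae _ O.isOpen
  refine ⟨A, hA, ?_, ?_⟩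
  · intro x hx
    rw [hAdef]
    exact ⟨u x, hsO ⟨x, hx, rfl⟩, hu x⟩
  · have hre : RepWith @Etale ((yon S).map (overOpenι U₀ O) ≫ a₀) := repWith_etale_restrict a₀ hae O
    obtain ⟨q, hq⟩ := (exists_factor_openSub_iff A
      ((yon S).map (overOpenι U₀ O) ≫ a₀)).2 (fun t => by
        rw [hAdef, ofPt_restrict]
        have h1 : O.ι t ∈ Set.range O.ι := ⟨t, rfl⟩
        rw [Scheme.Opens.range_ι] at h1
        exact ⟨_, h1, rfl⟩)
    have hqe : RepWith @Etale q :=
      repWith_of_comp_mono _ q (openSubι X A) (by rw [hq]; exact hre)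
    have hqs : RepWith @Surjective q := by
      rw [repWith_surjective_iff q hqe.1]
      intro x'
      have hmem : Points.map (openSubι X A) x' ∈ A := by
        have h1 : Points.map (openSubι X A) x' ∈ Set.range (Points.map (openSubι X A)) := ⟨x', rfl⟩
        rwa [range_map_openSubι A] at h1
      obtain ⟨o, ho, hox⟩ := (Set.ext_iff.1 hAdef _).1 hmem
      obtain ⟨w, rfl⟩ : o ∈ Set.range O.ι := by rw [Scheme.Opens.range_ι]; exact ho
      refine ⟨Points.ofScheme (overOpen U₀ O) w, ?_⟩
      apply points_map_injective_of_mono (openSubι X A)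
      rw [← Points.map_comp, hq, ← Points.ofPt_eq_map_ofScheme, ofPt_restrict]
      exact hox
    have : CompactSpace ↥(overOpen U₀ O).left := compactSpace_overOpen O hO
    exact ⟨overOpen U₀ O, q, hqe, hqs, this⟩

/-- Over a quasi-separated base, every morphism from a quasi-compact algebraic space to a quasi-separated algebraic space
is quasi-compact. -/
theorem isQuasiCompactMor_of_isQuasiCompactSp [QuasiSeparatedSpace ↥S] {X Y : Sp S} (hX : IsAlgSpace X)
    (hY : IsAlgSpace Y) (hXq : IsQuasiCompactSp X) (hYq : IsQuasiSeparatedSp Y) (g : X ⟶ Y) :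
    IsQuasiCompactMor g := by
  obtain ⟨U, p, hpe, hps, hU⟩ := hXq
  haveI : CompactSpace ↥U.left := hU
  apply isQuasiCompactMor_of_affine hX hY.diag
  intro Z hZ z P fst snd sq
  have hP : IsAlgSpace P := isAlgSpace_of_isPullback hX hY.diag (IsAlgSpace.yon_obj Z) sq
  have hrep : Representable z := hY.representable_from_yon z
  have sqR := hrep.isPullback (p ≫ g)
  obtain ⟨r₁, hr₁⟩ := (yon S).map_surjective (hrep.fst (p ≫ g))
  rw [← hr₁] at sqR
  haveI : IsAffine Z.left := hZ
  have hZq : QuasiCompact Z.hom := inferInstance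
  haveI : CompactSpace ↥(hrep.pullback (p ≫ g)).left :=
    compactSpace_of_isPullback_of_quasiCompact_diag hYq z (p ≫ g) r₁ (hrep.snd (p ≫ g)) sqR hZq
  have hw : ((yon S).map (hrep.snd (p ≫ g)) ≫ p) ≫ g = (yon S).map r₁ ≫ z := by
    rw [Category.assoc, sqR.w]
  have sqm : IsPullback (sq.lift ((yon S).map (hrep.snd (p ≫ g)) ≫ p) ((yon S).map r₁) hw)
      ((yon S).map (hrep.snd (p ≫ g))) fst p := by
    refine IsPullback.of_right ?_ (sq.lift_fst _ _ _) sq.flip
    rw [sq.lift_snd]
    exact sqR
  have hsurj : Function.Surjective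
      (Points.ofPt (sq.lift ((yon S).map (hrep.snd (p ≫ g)) ≫ p) ((yon S).map r₁) hw)) := by
    intro y'
    obtain ⟨u, hu⟩ := ofPt_surjective_of_surjective p hps (Points.map fst y')
    obtain ⟨v, hv, -⟩ := exists_point_of_isPullback_yon sqm y' u hu.symm
    exact ⟨v, hv⟩
  have : CompactSpace (Points P) := by
    constructor
    have h1 := isCompact_range (Points.continuous_ofPt
      (sq.lift ((yon S).map (hrep.snd (p ≫ g)) ≫ p) ((yon S).map r₁) hw))
    rwa [hsurj.range_eq] at h1
  exact isQuasiCompactSp_of_compactSpace hP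

/-- The quasi-finite locus of the restriction of `f` along a representable etale morphism contains the inverse image of
the quasi-finite locus of `f`. -/
theorem mem_qfLocus_comp_of_etale {X' X Y : Sp S} (hX' : IsAlgSpace X') (hY : IsAlgSpace Y) (j : X' ⟶ X)
    (hj : RepWith @Etale j) (f : X ⟶ Y) (hf : LocP @LocallyOfFiniteType f) (x' : Points X')
    (h : Points.map j x' ∈ qfLocus f) : x' ∈ qfLocus (j ≫ f) := by
  obtain ⟨U₀, a₀, hae, has⟩ := hX'.atlas
  obtain ⟨V, b, hbe, hbs⟩ := hY.atlas
  have haje : RepWith @Etale (a₀ ≫ j) := (RepWith @Etale).comp_mem _ _ hae hj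
  obtain ⟨U, m, c, h1, h2, hce, sqc, -⟩ := exists_chart_diagram f b hbe (a₀ ≫ j) haje
  have hcs : Surjective c.left := hbs.property _ _ _ sqc
  obtain ⟨u₀, hu₀⟩ := ofPt_surjective_of_surjective a₀ has x'
  obtain ⟨u, hu⟩ := hcs.surj u₀
  have hx' : Points.ofPt ((yon S).map c ≫ a₀) u = x' := by
    rw [ofPt_yon_map_comp, hu, hu₀]
  have hpt : Points.ofPt ((yon S).map c ≫ a₀ ≫ j) u = Points.map j x' := by
    rw [← hx', Points.map_ofPt, Category.assoc]
  rw [← hpt, mem_qfLocus_iff f hf _ b m h1 hbe h2 u] at h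
  refine ⟨U, V, (yon S).map c ≫ a₀, b, m, u, ?_, hbe, ?_, hx', h⟩
  · exact (RepWith @Etale).comp_mem _ _ ((repWith_yon_map_iff _ _).2 hce) hae
  · rw [← h2]
    simp only [Category.assoc]

end Groth.Agent.Lib.Helper16.QcOpen
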