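import Groth.Agent.Lib.Helper16.AffDescLocal
import Groth.Agent.Lib.Helper16.FpqcCover
import Groth.Agent.Lib.Helper16.QuasiCompactMor

/-!
# Helper library (helper16): Zariski covers satisfy the fpqc refinement clause; affine morphisms via etale covers
-/

set_option autoImplicit false
universe u
open CategoryTheory CategoryTheory.Limits AlgebraicGeometry Opposite

namespace Groth.Agent.Lib.Helper16

open AlgSp

variable {S : Scheme.{u}}

/-- An open cover of a scheme over `S` satisfies the refinement clause of fpqc coverings. -/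
theorem fpqcRefines_of_open_cover (U : Over S) {κ : Type u} (O : κ → U.left.Opens)
    (hO : ∀ x : ↥U.left, ∃ k, x ∈ O k) :
    FpqcRefines (fun k => (yon S).obj (overOpen U (O k))) (fun k => (yon S).map (overOpenι U (O k))) := by
  intro Z hZ t
  obtain ⟨t', rfl⟩ := (yon S).map_surjective t
  have hZc : CompactSpace ↥Z.left := inferInstance
  -- affine opens of `Z` mapping into some member of the cover
  let 𝒜 : Set Z.left.affineOpens := {D | ∃ k, D.1 ≤ t'.left ⁻¹ᵁ (O k)}
  have hcover : (Set.univ : Set ↥Z.left) ⊆ ⋃ D : 𝒜, (D.1.1 : Set ↥Z.left) := by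
    intro z _
    obtain ⟨k, hk⟩ := hO (t'.left z)
    obtain ⟨V, hV, hz, hVk⟩ := (TopologicalSpace.Opens.isBasis_iff_nbhd.mp Z.left.isBasis_affineOpens)
      (show z ∈ t'.left ⁻¹ᵁ (O k) from hk)
    exact Set.mem_iUnion.2 ⟨⟨⟨V, hV⟩, k, hVk⟩, hz⟩
  obtain ⟨s, hs⟩ := isCompact_univ.elim_finite_subcover _ (fun D : 𝒜 => D.1.1.isOpen) hcover
  refine ⟨s.card, fun j => overOpen Z (s.equivFin.symm j).1.1.1, fun j => overOpenι Z _, fun j => ?_, fun j => ?_,
    fun z => ?_, fun j => ?_⟩
  · exact (s.equivFin.symm j).1.1.2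
  · show Flat (Scheme.Opens.ι _)
    infer_instance
  · obtain ⟨D, hD⟩ := Set.mem_iUnion.1 (hs (Set.mem_univ z))
    obtain ⟨hDs, hz⟩ := Set.mem_iUnion.1 hD
    obtain ⟨j, hj⟩ := s.equivFin.symm.surjective ⟨D, hDs⟩
    refine ⟨j, ⟨z, ?_⟩, rfl⟩
    rw [hj]
    exact hz
  · obtain ⟨k, hk⟩ := (s.equivFin.symm j).1.2
    have hrange : Set.range ((s.equivFin.symm j).1.1.1.ι ≫ t'.left) ⊆ Set.range (O k).ι := by
      rintro _ ⟨w, rfl⟩
      rw [Scheme.Opens.range_ι]
      exact hk w.2
    let l₀ : ((s.equivFin.symm j).1.1.1 : Z.left.Opens).toScheme ⟶ (O k).toScheme :=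
      IsOpenImmersion.lift (O k).ι ((s.equivFin.symm j).1.1.1.ι ≫ t'.left) hrange
    have hl₀ : l₀ ≫ (O k).ι = (s.equivFin.symm j).1.1.1.ι ≫ t'.left := IsOpenImmersion.lift_fac _ _ _
    refine ⟨k, (yon S).map (Over.homMk l₀ ?_), ?_⟩
    · simp only [overOpen, Over.mk_hom]
      rw [← Category.assoc, hl₀, Category.assoc, Over.w]
    · rw [← Functor.map_comp, ← Functor.map_comp]
      congr 1
      ext1
      exact hl₀


/-- A morphism from (a sheaf isomorphic to) an affine scheme to an affine scheme is affine. -/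
theorem isAffineMor_of_iso_yon {P : Sp S} {V W : Over S} (hV : IsAffine V.left) (hW : IsAffine W.left)
    (e : (yon S).obj W ≅ P) (snd : P ⟶ (yon S).obj V) : IsAffineMor snd := by
  intro Z hZ z
  obtain ⟨w, hw⟩ := (yon S).map_surjective (e.hom ≫ snd)
  obtain ⟨z', rfl⟩ := (yon S).map_surjective z
  refine ⟨pullback w z', pullback.snd w z', (yon S).map (pullback.fst w z') ≫ e.hom, ?_, ?_⟩
  · have := (IsPullback.of_hasPullback w z').map (yon S)
    rw [hw] at this
    exact IsPullback.of_iso this (Iso.refl _) e (Iso.refl _) (Iso.refl _) (by simp) (by simp) (by simp) (by simp)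
  · have sqW := isPullback_left_forget w z'
    exact IsAffine.of_isIso sqW.isoPullback.hom

/-- If the base changes of `f` to all affine schemes etale over `Y` (in fact: to the affine opens of one atlas) are
affine schemes, then `f` is affine. -/
theorem isAffineMor_of_affine_etale_charts {X Y : Sp S} (hX : IsAlgSpace X) (hY : IsAlgSpace Y) (f : X ⟶ Y)
    (h : ∀ (V : Over S), IsAffine V.left → ∀ (b : (yon S).obj V ⟶ Y), RepWith @Etale b →
      ∀ (P : Sp S) (fst : P ⟶ X) (snd : P ⟶ (yon S).obj V), IsPullback fst snd f b →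
      ∃ (W : Over S), IsAffine W.left ∧ Nonempty ((yon S).obj W ≅ P)) : IsAffineMor f := by
  obtain ⟨U, u, hue, hus⟩ := hY.atlas
  have href := fpqcRefines_comp (fun _ : PUnit.{u + 1} => (yon S).obj U) (fun _ => u)
    (fun _ => U.left.affineOpens) (fun _ k => (yon S).obj (overOpen U k.1))
    (fun _ k => (yon S).map (overOpenι U k.1)) (fpqcRefines_chart hY u hue hus)
    (fun _ => fpqcRefines_of_open_cover U (fun k : U.left.affineOpens => k.1) (fun x => by
      obtain ⟨V, hV, hx, -⟩ := (TopologicalSpace.Opens.isBasis_iff_nbhd.mp U.left.isBasis_affineOpens)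
        (show x ∈ (⊤ : U.left.Opens) from trivial)
      exact ⟨⟨V, hV⟩, hx⟩))
  refine isAffineMor_of_fpqcRefines hY _ _ href hX f (fun r => pullback f ((yon S).map (overOpenι U r.2.1) ≫ u))
    (fun r => pullback.snd _ _) (fun r => pullback.fst _ _) (fun r => IsPullback.of_hasPullback _ _) (fun r => ?_)
  have hV : IsAffine (overOpen U r.2.1).left := r.2.2
  obtain ⟨W, hW, ⟨e⟩⟩ := h (overOpen U r.2.1) hV _ (repWith_etale_restrict u hue _) _ _ _
    (IsPullback.of_hasPullback f ((yon S).map (overOpenι U r.2.1) ≫ u))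
  exact isAffineMor_of_iso_yon hV hW e _

end Groth.Agent.Lib.Helper16
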