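import Groth.Agent.Lib.Helper16.QAffRing
import Mathlib.AlgebraicGeometry.QuasiAffine
import Mathlib.AlgebraicGeometry.Morphisms.Flat
import Mathlib.AlgebraicGeometry.Morphisms.FlatDescent
import Mathlib.AlgebraicGeometry.PullbackCarrier

/-!
# Helper library (helper16): effective fpqc descent of quasi-affine schemes (scheme level)
-/

set_option autoImplicit false
open CategoryTheory CategoryTheory.Limits AlgebraicGeometry

universe u
namespace Groth.Agent.Lib.Helper16.QAff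

variable {A B : CommRingCat.{u}} (f : A ⟶ B)

/-- Flat base change for global sections, in pushout form. -/
theorem isPushout_appTop_of_flat [Flat (Spec.map f)] {X Y : Scheme.{u}} (iX : X ⟶ Spec A) (g : Y ⟶ X)
    (iY : Y ⟶ Spec B) (H : IsPullback g iY iX (Spec.map f)) [CompactSpace X] [QuasiSeparatedSpace X] :
    IsPushout ((Scheme.ΓSpecIso A).inv ≫ iX.appTop) f g.appTop ((Scheme.ΓSpecIso B).inv ≫ iY.appTop) := by
  have h1 := isIso_pushoutSection_of_isQuasiSeparated_of_flat_right H (US := ⊤) (UT := ⊤) (UX := ⊤) (UY := ⊤)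
    le_top le_top (by simp) (isAffineOpen_top _) (isAffineOpen_top _) isCompact_univ isQuasiSeparated_univ
  rw [isIso_pushoutSection_iff] at h1
  refine IsPushout.of_iso h1 (Scheme.ΓSpecIso A) (Iso.refl _) (Scheme.ΓSpecIso B) (Iso.refl _) ?_ ?_ ?_ ?_
  · simp [Scheme.Hom.appLE]
  · simp [Scheme.Hom.appLE]
  · simp [Scheme.Hom.appLE]
  · simp [Scheme.Hom.appLE]


/-- **Effective descent of quasi-affine schemes along a faithfully flat map of affine schemes** (scheme level).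
`V` is a quasi-affine scheme over `Spec B`, `V₂ = V ×_{Spec A} Spec B`, and `σ : V₂ ⟶ V` is a descent datum in
"action" form: `σ` covers the second projection, restricts to the identity on the diagonal `δ`, and satisfies the
cocycle condition on `V₃ = V₂ ×_{Spec A} Spec B`. Then `V` descends to a quasi-affine scheme `T₀` over `Spec A`. -/
theorem exists_descent [Flat (Spec.map f)] [Surjective (Spec.map f)]
    {V V₂ V₃ : Scheme.{u}} [V.IsQuasiAffine] (π : V ⟶ Spec B) (prV : V₂ ⟶ V) (prW : V₂ ⟶ Spec B)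
    (H₂ : IsPullback prV prW (π ≫ Spec.map f) (Spec.map f)) (σ : V₂ ⟶ V) (hσπ : σ ≫ π = prW)
    (δ : V ⟶ V₂) (hδV : δ ≫ prV = 𝟙 V) (hδW : δ ≫ prW = π) (hδσ : δ ≫ σ = 𝟙 V)
    (q₃ : V₃ ⟶ V₂) (r₃ : V₃ ⟶ Spec B) (H₃ : IsPullback q₃ r₃ (prW ≫ Spec.map f) (Spec.map f))
    (σ₃ p₃ : V₃ ⟶ V₂) (hσ₃V : σ₃ ≫ prV = q₃ ≫ σ) (hσ₃W : σ₃ ≫ prW = r₃)
    (hp₃V : p₃ ≫ prV = q₃ ≫ prV) (hp₃W : p₃ ≫ prW = r₃) (hcoc : σ₃ ≫ σ = p₃ ≫ σ) :
    ∃ (T₀ : Scheme.{u}) (p : T₀ ⟶ Spec A) (q : V ⟶ T₀), IsPullback q π p (Spec.map f) ∧ σ ≫ q = prV ≫ q ∧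
      T₀.IsQuasiAffine := by
  have haffV : IsAffineHom prV := MorphismProperty.of_isPullback (P := @IsAffineHom) H₂.flip inferInstance
  have hV₂ : V₂.IsQuasiAffine := Scheme.IsQuasiAffine.of_isAffineHom prV
  -- ring-level data
  have hnat : ∀ {X : Scheme.{u}} (x : X ⟶ Spec B),
      (Scheme.ΓSpecIso A).inv ≫ (x ≫ Spec.map f).appTop = f ≫ (Scheme.ΓSpecIso B).inv ≫ x.appTop := by
    intro X x
    rw [Scheme.Hom.comp_appTop, ← Category.assoc, ← Scheme.ΓSpecIso_inv_naturality, Category.assoc]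
  have h₂ := isPushout_appTop_of_flat f (π ≫ Spec.map f) prV prW H₂
  rw [hnat] at h₂
  have h₃ := isPushout_appTop_of_flat f (prW ≫ Spec.map f) q₃ r₃ H₃
  rw [hnat] at h₃
  have hflat : f.hom.Flat := (Flat.SpecMap_iff).1 inferInstance
  obtain ⟨M, a, m, hm, hPO⟩ := AffDesc.exists_isPushout_of_descent f ((Scheme.ΓSpecIso B).inv ≫ π.appTop)
    prV.appTop σ.appTop ((Scheme.ΓSpecIso B).inv ≫ prW.appTop) δ.appTop q₃.appTop σ₃.appTop p₃.appTop
    ((Scheme.ΓSpecIso B).inv ≫ r₃.appTop) hflat h₂ h₃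
    (by rw [Category.assoc, ← Scheme.Hom.comp_appTop, hσπ])
    (by rw [← Scheme.Hom.comp_appTop, hδV, Scheme.Hom.id_appTop])
    (by rw [Category.assoc, ← Scheme.Hom.comp_appTop, hδW])
    (by rw [← Scheme.Hom.comp_appTop, hδσ, Scheme.Hom.id_appTop])
    (by rw [← Scheme.Hom.comp_appTop, hσ₃V, Scheme.Hom.comp_appTop])
    (by rw [Category.assoc, ← Scheme.Hom.comp_appTop, hσ₃W])
    (by rw [← Scheme.Hom.comp_appTop, hp₃V, Scheme.Hom.comp_appTop])
    (by rw [Category.assoc, ← Scheme.Hom.comp_appTop, hp₃W])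
    (by rw [← Scheme.Hom.comp_appTop, hcoc, Scheme.Hom.comp_appTop])
  -- geometry
  have PB := isPullback_SpecMap_of_isPushout a f m _ hPO
  have hjπ : V.toSpecΓ ≫ Spec.map ((Scheme.ΓSpecIso B).inv ≫ π.appTop) = π := by
    rw [Spec.map_comp, ← Category.assoc, ← Scheme.toSpecΓ_naturality, Category.assoc,
      toSpecΓ_SpecMap_ΓSpecIso_inv, Category.comp_id]
  have hqflat : Flat (Spec.map m) := MorphismProperty.of_isPullback (P := @Flat) PB.flip inferInstance
  have hqsurj : Surjective (Spec.map m) := MorphismProperty.of_isPullback (P := @Surjective) PB.flip inferInstance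
  -- the second pullback square
  have hPO₂ : IsPushout m m prV.appTop σ.appTop := by
    refine IsPushout.of_left ?_ hm.symm hPO
    rw [hPO.w, Category.assoc, ← Scheme.Hom.comp_appTop, hσπ]
    exact h₂
  have PB₂ := isPullback_SpecMap_of_isPushout m m _ _ hPO₂
  have PBj := Scheme.isPullback_toSpecΓ_toSpecΓ prV
  -- saturation
  have hsat : (Spec.map m) ⁻¹' ((Spec.map m) '' (Set.range V.toSpecΓ)) = Set.range V.toSpecΓ := by
    apply Set.Subset.antisymm
    · rintro y ⟨x, ⟨v, rfl⟩, hxy⟩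
      obtain ⟨z, hz1, hz2⟩ := Scheme.exists_preimage_of_isPullback PB₂ (V.toSpecΓ v) y hxy
      obtain ⟨z', hz'1, hz'2⟩ := Scheme.exists_preimage_of_isPullback PBj v z hz1.symm
      refine ⟨σ z', ?_⟩
      rw [← hz2, ← hz'2, ← Scheme.Hom.comp_apply, ← Scheme.Hom.comp_apply, Scheme.toSpecΓ_naturality]
    · exact Set.subset_preimage_image _ _
  have hopen : IsOpen ((Spec.map m) '' (Set.range V.toSpecΓ)) := by
    rw [← (Flat.isQuotientMap_of_surjective (Spec.map m)).isOpen_preimage, hsat]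
    exact V.toSpecΓ.isOpenEmbedding.isOpen_range
  let T₀O : (Spec M).Opens := ⟨_, hopen⟩
  have hrange : Set.range (V.toSpecΓ ≫ Spec.map m) ⊆ Set.range T₀O.ι := by
    rw [Scheme.Opens.range_ι]
    rintro _ ⟨v, rfl⟩
    exact ⟨V.toSpecΓ v, ⟨v, rfl⟩, rfl⟩
  let q : V ⟶ T₀O.toScheme := IsOpenImmersion.lift T₀O.ι (V.toSpecΓ ≫ Spec.map m) hrange
  have hq : q ≫ T₀O.ι = V.toSpecΓ ≫ Spec.map m := IsOpenImmersion.lift_fac _ _ _
  have PB₀ : IsPullback q V.toSpecΓ T₀O.ι (Spec.map m) := by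
    refine IsOpenImmersion.isPullback _ _ _ _ hq.symm ?_
    apply TopologicalSpace.Opens.ext
    rw [Scheme.Opens.opensRange_ι]
    exact hsat
  have PB' := PB₀.paste_vert PB
  rw [hjπ] at PB'
  refine ⟨T₀O.toScheme, T₀O.ι ≫ Spec.map a, q, PB', ?_, ?_⟩
  · rw [← cancel_mono T₀O.ι, Category.assoc, Category.assoc, hq, ← Category.assoc, ← Category.assoc,
      Scheme.toSpecΓ_naturality, Scheme.toSpecΓ_naturality, Category.assoc, Category.assoc, ← Spec.map_comp,
      ← Spec.map_comp, hm]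
  · have hcomp : CompactSpace ↥T₀O.toScheme :=
      isCompact_iff_compactSpace.mp ((isCompact_range V.toSpecΓ.continuous).image (Spec.map m).continuous)
    exact Scheme.IsQuasiAffine.of_isImmersion T₀O.ι

end Groth.Agent.Lib.Helper16.QAff
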