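import Mathlib.RingTheory.Flat.Basic
import Mathlib.RingTheory.TensorProduct.Maps
import Mathlib.RingTheory.IsTensorProduct
import Mathlib.Algebra.Category.Ring.Constructions
import Mathlib.Algebra.Algebra.Subalgebra.Basic

/-!
# Helper library (helper16): effective descent of algebras along a flat ring map (ring level)

For a flat ring map `A → B`, a `B`-algebra `C` and a "coaction" `ρ : C → C ⊗[A] B` (the ring-level shadow of a
descent datum), the subalgebra `M = {c | ρ c = c ⊗ 1}` satisfies `M ⊗[A] B ≃ C`.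
-/

set_option autoImplicit false
open TensorProduct

universe u
namespace Groth.Agent.Lib.Helper16.AffDesc

variable {A B C : Type u} [CommRing A] [CommRing B] [CommRing C] [Algebra A B] [Algebra B C] [Algebra A C]
  [IsScalarTower A B C]

variable (A B C) in
/-- The counit `C ⊗[A] B → C`, `c ⊗ b ↦ c * b`. -/
noncomputable def mu : C ⊗[A] B →ₐ[A] C :=
  Algebra.TensorProduct.productMap (AlgHom.id A C) (IsScalarTower.toAlgHom A B C)

/-- The descended algebra: elements `c` with `ρ c = c ⊗ 1`. -/
def descAlg (ρ : C →ₐ[A] C ⊗[A] B) : Subalgebra A C :=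
  AlgHom.equalizer ρ Algebra.TensorProduct.includeLeft

/-- The comparison map `M ⊗[A] B → C`. -/
noncomputable def theta (ρ : C →ₐ[A] C ⊗[A] B) : (descAlg ρ) ⊗[A] B →ₐ[A] C :=
  Algebra.TensorProduct.productMap (descAlg ρ).val (IsScalarTower.toAlgHom A B C)

/-- Effective descent of algebras: the comparison map `M ⊗[A] B → C` is bijective. -/
theorem theta_bijective [Module.Flat A B] (ρ : C →ₐ[A] C ⊗[A] B)
    (h1 : ∀ b : B, ρ (algebraMap B C b) = (1 : C) ⊗ₜ[A] b)
    (h2 : ∀ c, mu A B C (ρ c) = c)
    (h3 : ∀ c, Algebra.TensorProduct.map ρ (AlgHom.id A B) (ρ c) =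
      Algebra.TensorProduct.map (Algebra.TensorProduct.includeLeft : C →ₐ[A] C ⊗[A] B)
        (AlgHom.id A B) (ρ c)) :
    Function.Bijective (theta ρ) := by
  have hρinj : Function.Injective ρ := Function.LeftInverse.injective h2
  -- the linear map whose kernel is M
  let f : C →ₗ[A] C ⊗[A] B := ρ.toLinearMap - (Algebra.TensorProduct.includeLeft : C →ₐ[A] C ⊗[A] B).toLinearMap
  let j : (descAlg ρ) ⊗[A] B →ₗ[A] C ⊗[A] B := LinearMap.rTensor B (descAlg ρ).val.toLinearMap
  have hj : Function.Injective j :=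
    Module.Flat.rTensor_preserves_injective_linearMap _ Subtype.val_injective
  have hρθ : ∀ x, ρ (theta ρ x) = j x := by
    intro x
    induction x with
    | zero => simp
    | add x y hx hy => simp [hx, hy]
    | tmul m b =>
      have hm : ρ (m : C) = (m : C) ⊗ₜ 1 := m.2
      simp [theta, j, hm, h1]
  refine ⟨fun x y hxy => hj ?_, fun c => ?_⟩
  · rw [← hρθ, ← hρθ, hxy]
  · have hex : Function.Exact (descAlg ρ).val.toLinearMap f := by
      intro c
      constructor
      · intro hc
        exact ⟨⟨c, sub_eq_zero.1 hc⟩, rfl⟩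
      · rintro ⟨m, rfl⟩
        exact sub_eq_zero.2 m.2
    have hex' := Module.Flat.rTensor_exact B hex
    have hker : LinearMap.rTensor B f (ρ c) = 0 := by
      have e0 : ∀ {D : Type u} [CommRing D] [Algebra A D] (g : C →ₐ[A] D) (y : C ⊗[A] B),
          LinearMap.rTensor B g.toLinearMap y = Algebra.TensorProduct.map g (AlgHom.id A B) y := by
        intro D _ _ g y
        induction y with
        | zero => simp
        | add x y hx hy => rw [map_add, map_add, hx, hy]
        | tmul m b => simp
      have e1 := e0 ρ (ρ c)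
      have e2 := e0 (Algebra.TensorProduct.includeLeft : C →ₐ[A] C ⊗[A] B) (ρ c)
      simp only [f, LinearMap.rTensor_sub, LinearMap.sub_apply, e1, e2, h3, sub_self]
    obtain ⟨x, hx⟩ := (hex' (ρ c)).1 hker
    exact ⟨x, hρinj ((hρθ x).trans hx)⟩

open CategoryTheory CategoryTheory.Limits in
/-- Effective descent of algebras, as a pushout square of commutative rings. -/
theorem isPushout_descAlg [Module.Flat A B] (ρ : C →ₐ[A] C ⊗[A] B)
    (h1 : ∀ b : B, ρ (algebraMap B C b) = (1 : C) ⊗ₜ[A] b)
    (h2 : ∀ c, mu A B C (ρ c) = c)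
    (h3 : ∀ c, Algebra.TensorProduct.map ρ (AlgHom.id A B) (ρ c) =
      Algebra.TensorProduct.map (Algebra.TensorProduct.includeLeft : C →ₐ[A] C ⊗[A] B)
        (AlgHom.id A B) (ρ c)) :
    IsPushout (CommRingCat.ofHom (algebraMap A (descAlg ρ))) (CommRingCat.ofHom (algebraMap A B))
      (CommRingCat.ofHom (descAlg ρ).val.toRingHom) (CommRingCat.ofHom (algebraMap B C)) := by
  let e : (descAlg ρ) ⊗[A] B ≃ₐ[A] C := AlgEquiv.ofBijective (theta ρ) (theta_bijective ρ h1 h2 h3)
  refine (CommRingCat.isPushout_tensorProduct A (descAlg ρ) B).of_iso (Iso.refl _) (Iso.refl _) (Iso.refl _)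
    e.toRingEquiv.toCommRingCatIso (by simp) (by simp) ?_ ?_
  · ext m
    simp [e, theta]
  · ext b
    simp [e, theta]

end Groth.Agent.Lib.Helper16.AffDesc
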