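import Groth.Agent.Lib.Helper16.GenFinSp
import Groth.Agent.Lib.Helper16.AffDescLocal
import Groth.Agent.Lib.Helper16.FpqcCover
import Groth.Agent.Lib.Helper16.FppfLocalT

/-!
# Helper library (helper16): generic finiteness for algebraic spaces, descent to an open subspace
-/

set_option autoImplicit false
universe u
open CategoryTheory CategoryTheory.Limits AlgebraicGeometry Opposite Topology

namespace Groth.Agent.Lib.Helper16.GenFinSp

open AlgSp Groth.Agent.Lib.Helper15 Groth.Agent.Lib.Helper16 Groth.Agent.Lib.Helper16.Strata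
  Groth.Agent.Lib.Helper16.SchLocus Groth.Agent.Lib.Helper16.Codim0Qf Groth.Agent.Lib.Helper16.QfAt

variable {S : Scheme.{u}}

/-- A morphism of schemes with a property `P` implying affineness gives an `AffWith P` morphism of sheaves. -/
theorem affWith_yon_map {P : MorphismProperty Scheme.{u}} [P.IsStableUnderBaseChange] (hPaff : P ≤ @IsAffineHom)
    {M V : Over S} (m : M ⟶ V) (hm : P m.left) : AffWith P ((yon S).map m) := by
  intro Z hZ z
  obtain ⟨ζ, rfl⟩ := (yon S).map_surjective z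
  have sq := IsPullback.of_hasPullback m ζ
  have sqS := sq.map (Over.forget S)
  have hsnd : P (pullback.snd m ζ).left := MorphismProperty.of_isPullback sqS hm
  refine ⟨pullback m ζ, pullback.snd m ζ, (yon S).map (pullback.fst m ζ), sq.map (yon S), ?_, hsnd⟩
  have : IsAffineHom (pullback.snd m ζ).left := hPaff _ hsnd
  have : IsAffine Z.left := hZ
  exact isAffine_of_isAffineHom (pullback.snd m ζ).left

/-- **SP7** Descent of finiteness from an etale chart to its open image. -/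
theorem exists_open_finite_sp {X Y : Sp S} (hX : IsAlgSpace X) (hY : IsAlgSpace Y) (f : X ⟶ Y) {V₁ : Over S}
    (b₁ : (yon S).obj V₁ ⟶ Y) (hb₁ : RepWith @Etale b₁) {M₁ : Over S} (m₁ : M₁ ⟶ V₁)
    (a₁ : (yon S).obj M₁ ⟶ X) (sq₁ : IsPullback a₁ ((yon S).map m₁) f b₁) (V₂ : V₁.left.Opens)
    (hfin : IsFinite (m₁.left ∣_ V₂)) :
    ∃ W : Set (Points Y), IsOpen W ∧ (∀ t : ↥V₂, Points.ofPt b₁ t.1 ∈ W) ∧
      IsFiniteMor (pullback.fst (openSubι Y W) f) := by
  have hb₂ : RepWith @Etale ((yon S).map (overOpenι V₁ V₂) ≫ b₁) := repWith_etale_restrict b₁ hb₁ V₂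
  obtain ⟨W, hWdef⟩ : ∃ W : Set (Points Y), W = Set.range (Points.ofPt ((yon S).map (overOpenι V₁ V₂) ≫ b₁)) :=
    ⟨_, rfl⟩
  have hW : IsOpen W := by rw [hWdef]; exact (isOpenMap_ofPt_of_etale _ hb₂).isOpen_range
  have hWmem : ∀ z, z ∈ W ↔ z ∈ Set.range (Points.ofPt ((yon S).map (overOpenι V₁ V₂) ≫ b₁)) := fun z => by
    rw [hWdef]
  refine ⟨W, hW, fun t => ?_, ?_⟩
  · rw [hWmem]
    exact ⟨t, ofPt_restrict b₁ V₂ t⟩
  obtain ⟨b₂', hb₂'⟩ := (exists_factor_openSub_iff W ((yon S).map (overOpenι V₁ V₂) ≫ b₁)).2 (fun t => by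
    rw [hWmem]; exact ⟨t, rfl⟩)
  have hb₂'e : RepWith @Etale b₂' := repWith_of_comp_mono _ b₂' (openSubι Y W) (by rw [hb₂']; exact hb₂)
  have hb₂'s : RepWith @Surjective b₂' := by
    rw [repWith_surjective_iff b₂' hb₂'e.rep]
    intro x'
    have hx : Points.map (openSubι Y W) x' ∈ W := (range_map_openSubι W).subset ⟨x', rfl⟩
    obtain ⟨t, ht⟩ := (hWmem _).1 hx
    refine ⟨Points.ofScheme _ t, ?_⟩
    apply points_map_injective_of_mono (openSubι Y W)
    rw [← Points.ofPt_eq_map_ofScheme, Points.map_ofPt, hb₂']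
    exact ht
  have hY' : IsAlgSpace (openSub Y W) := isAlgSpace_openSub hY W hW
  have sqX' := IsPullback.of_hasPullback (openSubι Y W) f
  have hX' : IsAlgSpace (pullback (openSubι Y W) f) := isAlgSpace_of_isPullback hY' hY.diag hX sqX'
  have sq₂ := isPullback_restrict sq₁ V₂
  have hw : ((yon S).map (overRestrict m₁ V₂) ≫ b₂') ≫ openSubι Y W =
      ((yon S).map (overOpenι M₁ (m₁.left ⁻¹ᵁ V₂)) ≫ a₁) ≫ f := by
    rw [Category.assoc, hb₂']
    exact sq₂.w.symm
  have sqQ : IsPullback (pullback.lift _ _ hw) ((yon S).map (overRestrict m₁ V₂))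
      (pullback.fst (openSubι Y W) f) b₂' := by
    refine IsPullback.of_right ?_ (pullback.lift_fst _ _ _) sqX'.flip
    rw [pullback.lift_snd, hb₂']
    exact sq₂
  have hp : AffWith @IsFinite ((yon S).map (overRestrict m₁ V₂)) :=
    affWith_yon_map (fun _ _ g hg => by have : IsFinite g := hg; infer_instance) _ hfin
  exact affWith_of_fpqcRefines hY' (fun _ : PUnit.{u + 1} => (yon S).obj (overOpen V₁ V₂)) (fun _ => b₂')
    (fpqcRefines_chart hY' b₂' hb₂'e hb₂'s) hX' (pullback.fst (openSubι Y W) f)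
    (fun _ => (yon S).obj (overOpen M₁ (m₁.left ⁻¹ᵁ V₂))) (fun _ => (yon S).map (overRestrict m₁ V₂))
    (fun _ => pullback.lift _ _ hw) (fun _ => sqQ) (fun _ => hp)

end Groth.Agent.Lib.Helper16.GenFinSp
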