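import Groth.Agent.Lib.Helper16.QsDecent
import Groth.Agent.Lib.Helper16.FibreProduct

/-!
# Helper library (helper16): relative version of the compactness lemma; quasi-separated morphisms are decent
-/

set_option autoImplicit false
universe u
open CategoryTheory CategoryTheory.Limits AlgebraicGeometry Opposite Topology MorphismProperty

namespace Groth.Agent.Lib.Helper16

open AlgSp

variable {S : Scheme.{u}}

/-- Relative version of `compactSpace_of_isPullback_of_quasiCompact_diag`: `f : X ⟶ h_T` has quasi-compact diagonal,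
`A ⟶ T` is quasi-compact and `B` is quasi-compact; then a scheme representing `h_A ×_X h_B` is quasi-compact. -/
theorem compactSpace_of_isPullback_of_quasiCompact_relDiag {X : Sp S} {T : Over S}
    (f : X ⟶ (yon S).obj T) (hX : RepWith @QuasiCompact (pullback.diagonal f)) {A B R : Over S}
    (a : (yon S).obj A ⟶ X) (b : (yon S).obj B ⟶ X) (rU : R ⟶ A) (rW : R ⟶ B)
    (sqR : IsPullback ((yon S).map rU) ((yon S).map rW) a b) (A₀ : A ⟶ T)
    (hA₀ : (yon S).map A₀ = a ≫ f) (hAq : QuasiCompact A₀.left)
    [CompactSpace ↥B.left] : CompactSpace ↥R.left := by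
  obtain ⟨B₀, hB₀⟩ := (yon S).map_surjective (b ≫ f)
  have hcomm : rU ≫ A₀ = rW ≫ B₀ := by
    apply (yon S).map_injective
    rw [Functor.map_comp, Functor.map_comp, hA₀, hB₀, ← Category.assoc, ← Category.assoc, sqR.w]
  obtain ⟨m, hm1', hm2'⟩ : ∃ m : R ⟶ pullback A₀ B₀, m ≫ pullback.fst A₀ B₀ = rU ∧
      m ≫ pullback.snd A₀ B₀ = rW :=
    ⟨pullback.lift rU rW hcomm, pullback.lift_fst _ _ _, pullback.lift_snd _ _ _⟩
  have sq₀ := (IsPullback.of_hasPullback A₀ B₀).map (yon S)
  have hm1 : (yon S).map m ≫ (yon S).map (pullback.fst A₀ B₀) = (yon S).map rU := by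
    rw [← Functor.map_comp, hm1']
  have hm2 : (yon S).map m ≫ (yon S).map (pullback.snd A₀ B₀) = (yon S).map rW := by
    rw [← Functor.map_comp, hm2']
  have hw₀ : ((yon S).map (pullback.fst A₀ B₀) ≫ a) ≫ f = ((yon S).map (pullback.snd A₀ B₀) ≫ b) ≫ f := by
    rw [Category.assoc, Category.assoc, ← hA₀, ← hB₀]
    exact sq₀.w
  have sqD : IsPullback ((yon S).map rU ≫ a) ((yon S).map m) (pullback.diagonal f)
      (pullback.lift ((yon S).map (pullback.fst A₀ B₀) ≫ a) ((yon S).map (pullback.snd A₀ B₀) ≫ b) hw₀) := by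
    refine isPullback_of_exists_lift ?_ ?_ ?_
    · apply pullback.hom_ext
      · simp only [Category.assoc, pullback.lift_fst, pullback.diagonal_fst, Category.comp_id]
        rw [← Category.assoc ((yon S).map m), hm1]
      · simp only [Category.assoc, pullback.lift_snd, pullback.diagonal_snd, Category.comp_id]
        rw [← Category.assoc ((yon S).map m), hm2]
        exact sqR.w
    · intro Q c d h
      have hc1 : c = d ≫ (yon S).map (pullback.fst A₀ B₀) ≫ a := by
        have := congrArg (· ≫ pullback.fst f f) h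
        simpa only [Category.assoc, pullback.lift_fst, pullback.diagonal_fst, Category.comp_id] using this
      have hc2 : c = d ≫ (yon S).map (pullback.snd A₀ B₀) ≫ b := by
        have := congrArg (· ≫ pullback.snd f f) h
        simpa only [Category.assoc, pullback.lift_snd, pullback.diagonal_snd, Category.comp_id] using this
      have hw : (d ≫ (yon S).map (pullback.fst A₀ B₀)) ≫ a =
          (d ≫ (yon S).map (pullback.snd A₀ B₀)) ≫ b := by
        rw [Category.assoc, Category.assoc, ← hc1, ← hc2]
      refine ⟨sqR.lift _ _ hw, ?_, ?_⟩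
      · rw [← Category.assoc, sqR.lift_fst, Category.assoc, ← hc1]
      · apply sq₀.hom_ext
        · rw [Category.assoc, hm1, sqR.lift_fst]
        · rw [Category.assoc, hm2, sqR.lift_snd]
    · intro Q l l' _ h2
      apply sqR.hom_ext
      · have := congrArg (· ≫ (yon S).map (pullback.fst A₀ B₀)) h2
        simpa only [Category.assoc, hm1] using this
      · have := congrArg (· ≫ (yon S).map (pullback.snd A₀ B₀)) h2
        simpa only [Category.assoc, hm2] using this
  have hm : QuasiCompact m.left := hX.property _ _ _ sqD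
  have sqS : IsPullback (pullback.fst A₀ B₀).left (pullback.snd A₀ B₀).left A₀.left B₀.left :=
    (IsPullback.of_hasPullback A₀ B₀).map (Over.forget S)
  have h2 : QuasiCompact (pullback.snd A₀ B₀).left := MorphismProperty.of_isPullback sqS hAq
  have : CompactSpace ↥(pullback A₀ B₀).left :=
    QuasiCompact.compactSpace_of_compactSpace (pullback.snd A₀ B₀).left
  exact QuasiCompact.compactSpace_of_compactSpace m.left

/-- An algebraic space with a quasi-separated morphism to a scheme is decent. -/
theorem isDecent_of_quasiSeparatedMor_to_scheme {X : Sp S} (hX : IsAlgSpace X) {T : Over S}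
    (f : X ⟶ (yon S).obj T) (hf : IsQuasiSeparatedMor f) : IsDecent X := by
  refine isDecent_of_compact_affine_etale hX ?_
  intro q W ψ haff hψ R r₁ r₂ sqR
  obtain ⟨A₀, hA₀⟩ := (yon S).map_surjective (q.toHom ≫ f)
  have hAq : QuasiCompact A₀.left := by
    obtain ⟨a₁, ha₁⟩ : ∃ a₁ : Spec (CommRingCat.of q.K) ⟶ T.left, a₁ = A₀.left := ⟨_, rfl⟩
    rw [← ha₁]
    exact quasiCompact_of_field_source a₁
  have hcW : CompactSpace ↥W.left := inferInstance
  exact compactSpace_of_isPullback_of_quasiCompact_relDiag f hf q.toHom ψ r₁ r₂ sqR A₀ hA₀ hAq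

/-- A quasi-separated morphism of algebraic spaces is decent. -/
theorem isDecentMor_of_isQuasiSeparatedMor {X Y : Sp S} (hX : IsAlgSpace X) (hY : IsAlgSpace Y)
    (f : X ⟶ Y) (hf : IsQuasiSeparatedMor f) : IsDecentMor f := by
  intro T F' g fst snd sq
  have hF' : IsAlgSpace F' := isAlgSpace_of_isPullback hX hY.diag (IsAlgSpace.yon_obj T) sq
  have hsnd : IsQuasiSeparatedMor snd := (RepWith (S := S) @QuasiCompact).diagonal.of_isPullback sq hf
  exact isDecent_of_quasiSeparatedMor_to_scheme hF' snd hsnd

end Groth.Agent.Lib.Helper16
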