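import Groth.Agent.Lib.Helper16.QsField
import Groth.Agent.Lib.Helper15.MonoInj

/-!
# Helper library (helper16): compactness of `h_A ×_X h_B` for `X` with quasi-compact diagonal, no hypothesis on the base
-/

set_option autoImplicit false
universe u
open CategoryTheory CategoryTheory.Limits AlgebraicGeometry Topology TopologicalSpace
open AlgSp

namespace Groth.Agent.Lib.Helper16

variable {S : Scheme.{u}}

/-- If `X` has quasi-compact diagonal and `A ×_S B` is quasi-compact, then a scheme representing `h_A ×_X h_B` is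
quasi-compact. -/
theorem compactSpace_of_isPullback_of_quasiCompact_diag' {X : Sp S}
    (hX : RepWith @QuasiCompact (Limits.diag X)) {A B R : Over S} (a : (yon S).obj A ⟶ X)
    (b : (yon S).obj B ⟶ X) (rU : R ⟶ A) (rW : R ⟶ B)
    (sqR : IsPullback ((yon S).map rU) ((yon S).map rW) a b) {P : Scheme.{u}} {p₁ : P ⟶ A.left} {p₂ : P ⟶ B.left}
    (hP : IsPullback p₁ p₂ A.hom B.hom) [CompactSpace ↥P] : CompactSpace ↥R.left := by
  obtain ⟨A₀, hA₀⟩ : ∃ A₀ : A ⟶ Over.mk (𝟙 S), A₀.left = A.hom := ⟨Over.homMk A.hom, rfl⟩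
  obtain ⟨B₀, hB₀⟩ : ∃ B₀ : B ⟶ Over.mk (𝟙 S), B₀.left = B.hom := ⟨Over.homMk B.hom, rfl⟩
  obtain ⟨m, hm1', hm2'⟩ : ∃ m : R ⟶ pullback A₀ B₀, m ≫ pullback.fst A₀ B₀ = rU ∧
      m ≫ pullback.snd A₀ B₀ = rW :=
    ⟨pullback.lift rU rW (Over.mkIdTerminal.hom_ext _ _), pullback.lift_fst _ _ _, pullback.lift_snd _ _ _⟩
  have sq₀ := (IsPullback.of_hasPullback A₀ B₀).map (yon S)
  have hm1 : (yon S).map m ≫ (yon S).map (pullback.fst A₀ B₀) = (yon S).map rU := by
    rw [← Functor.map_comp, hm1']
  have hm2 : (yon S).map m ≫ (yon S).map (pullback.snd A₀ B₀) = (yon S).map rW := by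
    rw [← Functor.map_comp, hm2']
  have sqD : IsPullback ((yon S).map rU ≫ a) ((yon S).map m) (Limits.diag X)
      (prod.lift ((yon S).map (pullback.fst A₀ B₀) ≫ a) ((yon S).map (pullback.snd A₀ B₀) ≫ b)) := by
    refine isPullback_of_exists_lift ?_ ?_ ?_
    · apply Limits.prod.hom_ext
      · simp only [Category.assoc, prod.lift_fst, Category.comp_id]
        rw [← Category.assoc ((yon S).map m), hm1]
      · simp only [Category.assoc, prod.lift_snd, Category.comp_id]
        rw [← Category.assoc ((yon S).map m), hm2]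
        exact sqR.w
    · intro Q c d h
      have hc1 : c = d ≫ (yon S).map (pullback.fst A₀ B₀) ≫ a := by
        have := congrArg (· ≫ prod.fst) h
        simpa only [Category.assoc, prod.lift_fst, Category.comp_id] using this
      have hc2 : c = d ≫ (yon S).map (pullback.snd A₀ B₀) ≫ b := by
        have := congrArg (· ≫ prod.snd) h
        simpa only [Category.assoc, prod.lift_snd, Category.comp_id] using this
      have hw : (d ≫ (yon S).map (pullback.fst A₀ B₀)) ≫ a =
          (d ≫ (yon S).map (pullback.snd A₀ B₀)) ≫ b := by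
        rw [Category.assoc, Category.assoc, ← hc1, ← hc2]
      refine ⟨sqR.lift _ _ hw, ?_, ?_⟩
      · rw [← Category.assoc, sqR.lift_fst, Category.assoc, ← hc1]
      · apply sq₀.hom_ext
        · rw [Category.assoc, hm1, sqR.lift_fst]
        · rw [Category.assoc, hm2, sqR.lift_snd]
    · intro Q l l' _ h2
      apply sqR.hom_ext
      · have := congrArg (· ≫ (yon S).map (pullback.fst A₀ B₀)) h2
        simpa only [Category.assoc, hm1] using this
      · have := congrArg (· ≫ (yon S).map (pullback.snd A₀ B₀)) h2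
        simpa only [Category.assoc, hm2] using this
  have hm : QuasiCompact m.left := hX.property _ _ _ sqD
  have sqS : IsPullback (pullback.fst A₀ B₀).left (pullback.snd A₀ B₀).left A₀.left B₀.left :=
    (IsPullback.of_hasPullback A₀ B₀).map (Over.forget S)
  rw [hA₀, hB₀] at sqS
  let e : P ≅ (pullback A₀ B₀).left := hP.isoIsPullback _ _ sqS
  have : CompactSpace ↥(pullback A₀ B₀).left := e.hom.homeomorph.compactSpace
  exact QuasiCompact.compactSpace_of_compactSpace m.left

/-- The fibre product of affine schemes over a scheme, both mapping into one affine open, is quasi-compact. -/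
theorem exists_compact_isPullback_of_factor {A B T T₀ : Scheme.{u}} (f : A ⟶ T) (g : B ⟶ T) (ι : T₀ ⟶ T) [Mono ι]
    (f₀ : A ⟶ T₀) (g₀ : B ⟶ T₀) (hf : f₀ ≫ ι = f) (hg : g₀ ≫ ι = g) [IsAffine A] [IsAffine B] [IsAffine T₀] :
    ∃ (P : Scheme.{u}) (p₁ : P ⟶ A) (p₂ : P ⟶ B), IsPullback p₁ p₂ f g ∧ CompactSpace ↥P := by
  subst hf hg
  exact ⟨pullback f₀ g₀, pullback.fst f₀ g₀, pullback.snd f₀ g₀,
    Groth.Agent.Lib.Helper15.isPullback_comp_mono ι (IsPullback.of_hasPullback f₀ g₀), inferInstance⟩

end Groth.Agent.Lib.Helper16
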