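import Groth.Agent.Lib.Helper16.SchLocusCodim0b
import Groth.Agent.Lib.Helper16.QsField2
import Groth.Agent.Lib.Helper16.QsNoeth2

/-!
# Helper library (helper16): on a quasi-separated algebraic space the points of codimension 0 lie in the schematic locus
-/

set_option autoImplicit false
universe u
open CategoryTheory CategoryTheory.Limits AlgebraicGeometry Opposite

namespace Groth.Agent.Lib.Helper16.SchLocus

open AlgSp Groth.Agent.Lib.Helper15 Strata

variable {S : Scheme.{u}}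

/-- On an algebraic space quasi-separated over the base, every point of codimension 0 has an open neighbourhood which
is a scheme. -/
theorem mem_schLocus_of_hasAt_of_quasiSeparated {X : Sp S} (hX : IsAlgSpace X)
    (hqs : RepWith @QuasiCompact (Limits.diag X)) {x : Points X}
    (hx : HasAt (fun U u => ringKrullDim ↥(U.presheaf.stalk u) = 0) X x) : x ∈ schLocus X := by
  obtain ⟨V, b, v, hbe, hbv, hdim⟩ := hx
  obtain ⟨S₀, hS₀, hsS₀⟩ := exists_affineOpen_mem (V.hom v)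
  obtain ⟨O, hO, hvO, hOle⟩ : ∃ O : V.left.Opens, IsAffineOpen O ∧ v ∈ O ∧
      (O : Set ↥V.left) ⊆ ((V.hom ⁻¹ᵁ S₀ : V.left.Opens) : Set ↥V.left) := by
    obtain ⟨_, ⟨O, hO, rfl⟩, hvO, hOle⟩ := V.left.isBasis_affineOpens.exists_subset_of_mem_open
      (show v ∈ ((V.hom ⁻¹ᵁ S₀ : V.left.Opens) : Set ↥V.left) from hsS₀) (V.hom ⁻¹ᵁ S₀).isOpen
    exact ⟨O, hO, hvO, hOle⟩
  have hOaff : IsAffine (overOpen V O).left := hO
  have hS₀aff : IsAffine S₀.toScheme := hS₀
  have hrange : Set.range (O.ι ≫ V.hom) ⊆ Set.range S₀.ι := by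
    rintro _ ⟨t, rfl⟩
    rw [Scheme.Opens.range_ι]
    exact hOle t.2
  obtain ⟨g₀, hg₀⟩ : ∃ g₀ : (overOpen V O).left ⟶ S₀.toScheme, g₀ ≫ S₀.ι = (overOpen V O).hom :=
    ⟨IsOpenImmersion.lift S₀.ι (O.ι ≫ V.hom) hrange, IsOpenImmersion.lift_fac _ _ _⟩
  obtain ⟨P, p₁, p₂, hP, hPc⟩ := exists_compact_isPullback_of_factor (overOpen V O).hom (overOpen V O).hom
    S₀.ι g₀ g₀ hg₀ hg₀
  have hae₀ : RepWith @Etale ((yon S).map (overOpenι V O) ≫ b) := repWith_etale_restrict b hbe O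
  have sq := hae₀.rep.isPullback ((yon S).map (overOpenι V O) ≫ b)
  obtain ⟨c, hc⟩ := (yon S).map_surjective (hae₀.rep.fst ((yon S).map (overOpenι V O) ≫ b))
  rw [← hc] at sq
  have hRc : CompactSpace ↥(hae₀.rep.pullback ((yon S).map (overOpenι V O) ≫ b)).left :=
    compactSpace_of_isPullback_of_quasiCompact_diag' hqs _ _ c _ sq hP
  have hmem := mem_schLocus_of_codim_zero hX _ hae₀ sq (⟨v, hvO⟩ : ↥O)
    ((ringKrullDim_stalk_overOpen O v hvO).trans hdim)
  rw [ofPt_restrict] at hmem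
  rw [← hbv]
  exact hmem

end Groth.Agent.Lib.Helper16.SchLocus
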