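import Groth.Agent.Lib.Helper16.GenFinSch2
import Groth.Agent.Lib.Helper16.SchLocusQs
import Groth.Agent.Lib.Helper16.SchLocusField
import Groth.Agent.Lib.Helper16.QsRel
import Groth.Agent.Lib.Helper16.QuasiCompactMor

/-!
# Helper library (helper16): generic finiteness for algebraic spaces, reduction to schemes
-/

set_option autoImplicit false
universe u
open CategoryTheory CategoryTheory.Limits AlgebraicGeometry Opposite Topology

namespace Groth.Agent.Lib.Helper16.GenFinSp

open AlgSp Groth.Agent.Lib.Helper15 Groth.Agent.Lib.Helper16 Groth.Agent.Lib.Helper16.Strata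
  Groth.Agent.Lib.Helper16.SchLocus Groth.Agent.Lib.Helper16.Codim0Qf Groth.Agent.Lib.Helper16.QfAt

variable {S : Scheme.{u}}

/-- **SP1** On an algebraic space with a quasi-separated morphism to an affine scheme, points of codimension 0 lie in the
schematic locus. -/
theorem mem_schLocus_of_hasAt_of_quasiSeparatedMor {X : Sp S} (hX : IsAlgSpace X) {T : Over S} [IsAffine T.left]
    (p : X ⟶ (yon S).obj T) (hp : IsQuasiSeparatedMor p) {x : Points X}
    (hx : HasAt (fun U u => ringKrullDim ↥(U.presheaf.stalk u) = 0) X x) : x ∈ schLocus X := by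
  obtain ⟨V, b, v, hbe, hbv, hdim⟩ := hx
  obtain ⟨O, hO, hvO⟩ := exists_affineOpen_mem v
  have hOaff : IsAffine (overOpen V O).left := hO
  have hae₀ : RepWith @Etale ((yon S).map (overOpenι V O) ≫ b) := repWith_etale_restrict b hbe O
  have sq := hae₀.rep.isPullback ((yon S).map (overOpenι V O) ≫ b)
  obtain ⟨c, hc⟩ := (yon S).map_surjective (hae₀.rep.fst ((yon S).map (overOpenι V O) ≫ b))
  rw [← hc] at sq
  obtain ⟨A₀, hA₀⟩ := (yon S).map_surjective (((yon S).map (overOpenι V O) ≫ b) ≫ p)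
  have hAq : QuasiCompact A₀.left := inferInstance
  have hRc : CompactSpace ↥(hae₀.rep.pullback ((yon S).map (overOpenι V O) ≫ b)).left :=
    compactSpace_of_isPullback_of_quasiCompact_relDiag p hp _ _ c _ sq A₀ hA₀ hAq
  have hmem := mem_schLocus_of_codim_zero hX _ hae₀ sq (⟨v, hvO⟩ : ↥O)
    ((ringKrullDim_stalk_overOpen O v hvO).trans hdim)
  rw [ofPt_restrict] at hmem
  rw [← hbv]
  exact hmem

/-- **SP2** The schematic locus is compatible with open immersions. -/
theorem mem_schLocus_of_map_mem {X' X : Sp S} (j : X' ⟶ X) (hj : RepWith @IsOpenImmersion j) {x' : Points X'}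
    (hx : Points.map j x' ∈ schLocus X) : x' ∈ schLocus X' := by
  obtain ⟨M, m, hm, t, ht⟩ := hx
  have sq := hj.rep.isPullback m
  have hfst : RepWith @IsOpenImmersion (hj.rep.fst m) :=
    (RepWith (S := S) @IsOpenImmersion).of_isPullback sq.flip hm
  obtain ⟨v, hv, -⟩ := exists_point_of_isPullback_yon sq x' t ht.symm
  exact ⟨_, hj.rep.fst m, hfst, v, hv⟩

/-- **SP3** Points of a chart base change lying over a point of codimension 0 at which the morphism is quasi-finite have
codimension 0. -/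
theorem hasAt_codim_zero_of_fibre {X Y : Sp S} (hX : IsAlgSpace X) (hY : IsAlgSpace Y) (f : X ⟶ Y)
    (hf : LocP @LocallyOfFiniteType f) {V : Over S} (b : (yon S).obj V ⟶ Y) (hb : RepWith @Etale b)
    {P : Sp S} (q : P ⟶ X) (p : P ⟶ (yon S).obj V) (sq₀ : IsPullback q p f b) (hP : IsAlgSpace P)
    (y : Points Y) (hy : HasAt (fun U u => ringKrullDim ↥(U.presheaf.stalk u) = 0) Y y)
    (hqf : ∀ x : Points X, Points.map f x = y → x ∈ qfLocus f)
    (x : Points P) (hx : Points.map b (Points.map p x) = y) :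
    HasAt (fun U u => ringKrullDim ↥(U.presheaf.stalk u) = 0) P x := by
  obtain ⟨U, V', a, b', h, u, ha, hb', hc, hu⟩ := exists_chart_at hP (IsAlgSpace.yon_obj V) p x
  have hq : RepWith @Etale q := (RepWith (S := S) @Etale).of_isPullback sq₀.flip hb
  have ha₁ : RepWith @Etale (a ≫ q) := (RepWith @Etale).comp_mem _ _ ha hq
  have hb₁ : RepWith @Etale (b' ≫ b) := (RepWith @Etale).comp_mem _ _ hb' hb
  have hc₁ : (a ≫ q) ≫ f = (yon S).map h ≫ (b' ≫ b) := by
    rw [Category.assoc, sq₀.w, ← Category.assoc, hc, Category.assoc]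
  have hxy : Points.map f (Points.ofPt (a ≫ q) u) = y := by
    rw [← Points.map_ofPt, hu, ← Points.map_comp, sq₀.w, Points.map_comp]
    exact hx
  have hmem : Points.ofPt (a ≫ q) u ∈ qfLocus f := hqf _ hxy
  have hq' : h.left.QuasiFiniteAt u := (mem_qfLocus_iff f hf (a ≫ q) (b' ≫ b) h ha₁ hb₁ hc₁ u).1 hmem
  have hv : Points.ofPt (b' ≫ b) (h.left u) = y := by
    rw [ofPt_base_of_chart f (a ≫ q) (b' ≫ b) h hc₁ u, hxy]
  have hdv := SchLocus.codim_zero_of_hasAt hy (b' ≫ b) hb₁ (h.left u) hv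
  exact ⟨U, a, u, ha, hu, ringKrullDim_stalk_eq_zero_of_quasiFiniteAt h.left u hq' hdv⟩


/-- **SP4** After base change to an affine etale chart through the point `y = b(v)` of codimension 0, all points over
a basic open neighbourhood of `v` lie in the schematic locus. -/
theorem exists_basicOpen_schLocus {X Y : Sp S} (hX : IsAlgSpace X) (hY : IsAlgSpace Y) (f : X ⟶ Y)
    (hqs : IsQuasiSeparatedMor f) (hft : IsFiniteTypeMor f) {V : Over S} [IsAffine V.left]
    (b : (yon S).obj V ⟶ Y) (hb : RepWith @Etale b) (v : ↥V.left)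
    (hv : ringKrullDim ↥(V.left.presheaf.stalk v) = 0)
    (hqf : ∀ x : Points X, Points.map f x = Points.ofPt b v → x ∈ qfLocus f)
    {P : Sp S} (q : P ⟶ X) (p : P ⟶ (yon S).obj V) (sq₀ : IsPullback q p f b) :
    ∃ h : Γ(V.left, ⊤), v ∈ V.left.basicOpen h ∧
      ∀ x : Points P, Points.toScheme V (Points.map p x) ∈ V.left.basicOpen h → x ∈ schLocus P := by
  have hP : IsAlgSpace P := isAlgSpace_of_isPullback hX hY.diag (IsAlgSpace.yon_obj V) sq₀
  have hy : HasAt (fun U u => ringKrullDim ↥(U.presheaf.stalk u) = 0) Y (Points.ofPt b v) :=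
    ⟨V, b, v, hb, rfl, hv⟩
  have hpqs : IsQuasiSeparatedMor p := (RepWith (S := S) @QuasiCompact).diagonal.of_isPullback sq₀ hqs
  have hVqc : IsQuasiCompactSp ((yon S).obj V) := isQuasiCompactSp_yon_of_compactSpace V
  obtain ⟨U, a, hae, has, hUc⟩ := hft.2 (IsAlgSpace.yon_obj V) hVqc b q p sq₀
  obtain ⟨g, hg⟩ := (yon S).map_surjective (a ≫ p)
  have hUc' : CompactSpace ↥U.left := hUc
  have hgq : QuasiCompact g.left := by
    rw [HasAffineProperty.iff_of_isAffine (P := @QuasiCompact)]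
    exact hUc'
  have hover : ∀ x : Points P, Points.toScheme V (Points.map p x) = v → x ∈ schLocus P := by
    intro x hx
    apply mem_schLocus_of_hasAt_of_quasiSeparatedMor hP p hpqs
    apply hasAt_codim_zero_of_fibre hX hY f hft.1 b hb q p sq₀ hP _ hy hqf x
    rw [← Points.ofScheme_toScheme V (Points.map p x), hx, ← Points.ofPt_eq_map_ofScheme]
  have hτ : ∀ u : ↥U.left, Points.toScheme V (Points.map p (Points.ofPt a u)) = g.left u := by
    intro u
    rw [Points.map_ofPt, ← hg, Points.toScheme_ofPt]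
  obtain ⟨C, hCdef⟩ : ∃ C : Set ↥U.left, C = {u | Points.ofPt a u ∉ schLocus P} := ⟨_, rfl⟩
  have hCcl : IsClosed C := by
    rw [hCdef]
    exact ((isOpen_schLocus P).preimage (Points.continuous_ofPt a)).isClosed_compl
  have hvC : v ∉ g.left '' C := by
    rintro ⟨c, hc, hcv⟩
    rw [hCdef] at hc
    exact hc (hover _ (by rw [hτ, hcv]))
  have hcl := GenFinSch.not_mem_closure_image_of_codim_zero g.left C hCcl v hv hvC
  obtain ⟨_, ⟨_, ⟨h, rfl⟩, rfl⟩, h1, h2⟩ := (isBasis_basicOpen V.left).exists_subset_of_mem_open hcl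
    isClosed_closure.isOpen_compl
  refine ⟨h, h1, ?_⟩
  intro x hx
  obtain ⟨u, rfl⟩ := ofPt_surjective_of_surjective a has x
  rw [hτ] at hx
  by_contra hns
  exact h2 hx (subset_closure ⟨u, by rw [hCdef]; exact hns, rfl⟩)


/-- **SP5** In the situation of SP4, the base change of `f` to the basic open `D(h)` of the chart is a scheme. -/
theorem exists_rep_over_basicOpen {X Y : Sp S} (hX : IsAlgSpace X) (hY : IsAlgSpace Y) (f : X ⟶ Y)
    {V : Over S} (b : (yon S).obj V ⟶ Y)
    {P : Sp S} (q : P ⟶ X) (p : P ⟶ (yon S).obj V) (sq₀ : IsPullback q p f b) (O : V.left.Opens)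
    (hO : ∀ x : Points P, Points.toScheme V (Points.map p x) ∈ O → x ∈ schLocus P) :
    ∃ (M₁ : Over S) (m₁ : M₁ ⟶ overOpen V O) (a₁ : (yon S).obj M₁ ⟶ X),
      IsPullback a₁ ((yon S).map m₁) f ((yon S).map (overOpenι V O) ≫ b) := by
  have hP : IsAlgSpace P := isAlgSpace_of_isPullback hX hY.diag (IsAlgSpace.yon_obj V) sq₀
  have sqL := IsPullback.of_hasPullback p ((yon S).map (overOpenι V O))
  have hP₁ : IsAlgSpace (pullback p ((yon S).map (overOpenι V O))) :=
    isAlgSpace_of_isPullback hP (IsAlgSpace.yon_obj V).diag (IsAlgSpace.yon_obj (overOpen V O)) sqL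
  have hι : RepWith @IsOpenImmersion ((yon S).map (overOpenι V O)) :=
    (repWith_yon_map_iff _ _).2 (by change IsOpenImmersion O.ι; infer_instance)
  have hk : RepWith @IsOpenImmersion (pullback.fst p ((yon S).map (overOpenι V O))) :=
    (RepWith (S := S) @IsOpenImmersion).of_isPullback sqL.flip hι
  have hall : ∀ x₁ : Points (pullback p ((yon S).map (overOpenι V O))),
      x₁ ∈ schLocus (pullback p ((yon S).map (overOpenι V O))) := by
    intro x₁
    apply mem_schLocus_of_map_mem _ hk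
    apply hO
    rw [← Points.map_comp, sqL.w, Points.map_comp,
      ← Points.ofScheme_toScheme (overOpen V O) (Points.map (pullback.snd p ((yon S).map (overOpenι V O))) x₁),
      map_yon_map_ofScheme, Points.toScheme_ofScheme]
    exact (Points.toScheme (overOpen V O) (Points.map (pullback.snd p ((yon S).map (overOpenι V O))) x₁)).2
  obtain ⟨M₁, ⟨e₁⟩⟩ := exists_iso_yon_of_isRepresentable (isRepresentable_of_forall_mem_schLocus hP₁ hall)
  obtain ⟨m₁, hm₁⟩ := (yon S).map_surjective (e₁.hom ≫ pullback.snd p ((yon S).map (overOpenι V O)))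
  refine ⟨M₁, m₁, e₁.hom ≫ pullback.fst p ((yon S).map (overOpenι V O)) ≫ q, ?_⟩
  have sqBig := sqL.paste_horiz sq₀
  have sqIso : IsPullback e₁.hom ((yon S).map m₁) (pullback.snd p ((yon S).map (overOpenι V O)))
      (𝟙 ((yon S).obj (overOpen V O))) :=
    IsPullback.of_horiz_isIso ⟨by rw [hm₁, Category.comp_id]⟩
  have := sqIso.paste_horiz sqBig
  rwa [Category.id_comp] at this

/-- **SP6** Generic finiteness for a scheme representing the base change to an affine etale chart. -/
theorem exists_isFinite_restrict_of_rep {X Y : Sp S} (hX : IsAlgSpace X) (hY : IsAlgSpace Y) (f : X ⟶ Y)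
    (hqs : IsQuasiSeparatedMor f) (hft : IsFiniteTypeMor f) {V₁ : Over S} [IsAffine V₁.left]
    (b₁ : (yon S).obj V₁ ⟶ Y) (hb₁ : RepWith @Etale b₁) (v₁ : ↥V₁.left)
    (hv₁ : ringKrullDim ↥(V₁.left.presheaf.stalk v₁) = 0)
    (hqf : ∀ x : Points X, Points.map f x = Points.ofPt b₁ v₁ → x ∈ qfLocus f)
    {M₁ : Over S} (m₁ : M₁ ⟶ V₁) (a₁ : (yon S).obj M₁ ⟶ X) (sq₁ : IsPullback a₁ ((yon S).map m₁) f b₁) :
    ∃ V₂ : V₁.left.Opens, IsAffineOpen V₂ ∧ v₁ ∈ V₂ ∧ IsFinite (m₁.left ∣_ V₂) := by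
  have h1 : LocallyOfFiniteType m₁.left :=
    locP_yon_map (locP_of_isPullback etLocalST_locallyOfFiniteType hX hY sq₁ hft.1)
  have h2 : QuasiCompact m₁.left := by
    have hc : CompactSpace ↥M₁.left := compactSpace_of_isQuasiCompactSp_yon M₁
      (hft.2 (IsAlgSpace.yon_obj V₁) (isQuasiCompactSp_yon_of_compactSpace V₁) b₁ a₁ _ sq₁)
    rw [HasAffineProperty.iff_of_isAffine (P := @QuasiCompact)]
    exact hc
  have h3 : QuasiSeparated m₁.left :=
    (isQuasiSeparatedMor_yon_map_iff m₁).1 ((RepWith (S := S) @QuasiCompact).diagonal.of_isPullback sq₁ hqs)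
  have ha₁ : RepWith @Etale a₁ := (RepWith (S := S) @Etale).of_isPullback sq₁.flip hb₁
  have h4 : ∀ t : ↥M₁.left, m₁.left t = v₁ → m₁.left.QuasiFiniteAt t := by
    intro t ht
    apply (mem_qfLocus_iff f hft.1 a₁ b₁ m₁ ha₁ hb₁ sq₁.w t).1
    apply hqf
    rw [Points.map_ofPt, sq₁.w, ofPt_yon_map_comp, ht]
  exact GenFinSch.exists_isFinite_morphismRestrict_of_isAffine m₁.left v₁ hv₁ h4

end Groth.Agent.Lib.Helper16.GenFinSp
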