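import Groth.Agent.Lib.Helper16.LocPSource
import Groth.Agent.S10567
import Groth.Agent.Lib.Helper28.AlgSt.Descent

/-!
# Flatness is smooth local on source-and-target
-/

set_option autoImplicit false
universe u
open CategoryTheory CategoryTheory.Limits AlgebraicGeometry Opposite Topology MorphismProperty

namespace Groth.Agent.Lib.Helper16

open AlgSp

variable {S : Scheme.{u}}

theorem smooth_le_flat' : (@Smooth : MorphismProperty Scheme.{u}) ≤ @Flat := fun _ _ f hf => by
  haveI : Smooth f := hf
  exact (inferInstance : Flat f)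

theorem smooth_le_lfp' : (@Smooth : MorphismProperty Scheme.{u}) ≤ @LocallyOfFinitePresentation :=
  fun _ _ f hf => by
    haveI : Smooth f := hf
    exact (inferInstance : LocallyOfFinitePresentation f)

/-- Flatness is local on the source for jointly surjective families of flat morphisms. -/
theorem isLocalOnSource_flatCover_locP_flat {ι : Type u} {X : Sp S} (Xi : ι → Sp S)
    (g : ∀ i, Xi i ⟶ X) (hX : IsAlgSpace X) (hXi : ∀ i, IsAlgSpace (Xi i))
    (hfl : ∀ i, LocP @Flat (g i))
    (hsurj : ∀ x : Points X, ∃ i, x ∈ Set.range (Points.map (g i)))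
    {Y : Sp S} (f : X ⟶ Y) (hY : IsAlgSpace Y) :
    LocP @Flat f ↔ ∀ i, LocP @Flat (g i ≫ f) := by
  constructor
  · intro hf i
    exact locP_comp etLocalST_flat (hXi i) hX hY (g i) f (hfl i) hf
  · intro H U V a b h ha hb comm
    apply flat_of_flat_cover
    intro u
    obtain ⟨i, xi, hxi⟩ := hsurj (Points.map a (Points.ofScheme U u))
    have sqQ := IsPullback.of_hasPullback (g i) a
    have hQ : IsAlgSpace (pullback (g i) a) :=
      isAlgSpace_of_isPullback (hXi i) hX.diag (IsAlgSpace.yon_obj U) sqQ
    have hsnd : LocP @Flat (pullback.snd (g i) a) :=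
      locP_of_isPullback etLocalST_flat (hXi i) hX sqQ (hfl i)
    have hfst : RepWith @Etale (pullback.fst (g i) a) := (RepWith @Etale).of_isPullback sqQ.flip ha
    obtain ⟨z, -, hz⟩ := exists_point_of_isPullback sqQ xi (Points.ofScheme U u) hxi
    obtain ⟨U'', a'', ha''e, ha''s⟩ := hQ.atlas
    obtain ⟨u'', hu''⟩ := ofPt_surjective_of_surjective a'' ha''s z
    obtain ⟨e, he⟩ := (yon S).map_surjective (a'' ≫ pullback.snd (g i) a)
    have hefl : Flat e.left :=
      hsnd a'' (𝟙 _) e ha''e (repWith_id _ U) (by rw [Category.comp_id, he])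
    have heu : e.left u'' = u := by
      apply ofScheme_injective U
      rw [← map_yon_map_ofScheme, he, Points.map_comp, ← Points.ofPt_eq_map_ofScheme, hu'', hz]
    have ha''' : RepWith @Etale (a'' ≫ pullback.fst (g i) a) := (RepWith @Etale).comp_mem _ _ ha''e hfst
    have comm' : (a'' ≫ pullback.fst (g i) a) ≫ g i ≫ f = (yon S).map (e ≫ h) ≫ b := by
      calc (a'' ≫ pullback.fst (g i) a) ≫ g i ≫ f
          = (a'' ≫ pullback.fst (g i) a ≫ g i) ≫ f := by simp only [Category.assoc]
        _ = (a'' ≫ pullback.snd (g i) a ≫ a) ≫ f := by rw [pullback.condition]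
        _ = (yon S).map (e ≫ h) ≫ b := by
            rw [← Category.assoc a'', ← he, Category.assoc, comm, Functor.map_comp, Category.assoc]
    exact ⟨U''.left, e.left, hefl, ⟨u'', heu⟩, H i _ b (e ≫ h) ha''' hb comm'⟩

theorem isLocalOnSource_sm_locP_flat : IsLocalOnSource (IsSmCover (S := S)) (LocP @Flat) := by
  intro ι X Xi g hX hXi hcov Y f hY
  exact isLocalOnSource_flatCover_locP_flat Xi g hX hXi
    (fun i => locP_mono smooth_le_flat' (hcov.1 i)) hcov.2 f hY

theorem isLocalOnBase_sm_locP_flat : IsLocalOnBase (IsSmCover (S := S)) (LocP @Flat) := by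
  intro ι Y Yi g hY hYi hcov X f hX Xi p q hXi sq
  exact Groth.Agent.Lib.Helper28.AlgSt.Descent.good_flat.loc Yi g hY hYi
    ⟨fun i => ⟨locP_mono smooth_le_flat' (hcov.1 i), locP_mono smooth_le_lfp' (hcov.1 i)⟩, hcov.2⟩
    f hX Xi p q hXi sq

/-- Flatness is smooth local on source-and-target. -/
theorem isSmoothLocalST_locP_flat : IsSmoothLocalST (S := S) (LocP @Flat) := by
  refine Groth.Agent.S10567.result _ isLocalOnSource_sm_locP_flat isLocalOnBase_sm_locP_flat ?_
  intro X Y Z f g hf hg
  exact locP_comp etLocalST_flat X.property Y.property Z.property f.hom g.hom hf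
    (locP_mono smooth_le_flat' hg)

end Groth.Agent.Lib.Helper16
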