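import Groth.Agent.Lib.Helper16.DecentSober
import Groth.Agent.Lib.Helper16.EtDim
import Groth.Agent.Lib.Helper15.MaxPts
import Groth.Agent.S10343
import Groth.Agent.S10340
import Groth.Agent.S10338
import Groth.Prelude.Def_Flat

/-!
# Helper library (helper16): generic points of irreducible components of decent spaces
-/

set_option autoImplicit false
universe u
open CategoryTheory CategoryTheory.Limits AlgebraicGeometry Opposite Topology TopologicalSpace

namespace Groth.Agent.Lib.Helper16.Strata

open AlgSp Groth.Agent.Lib.Helper15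

variable {S : Scheme.{u}}

theorem ringKrullDim_stalk_eq_zero_iff_isMax (U : Scheme.{u}) (u : ↥U) :
    ringKrullDim (U.presheaf.stalk u) = 0 ↔ ∀ b : ↥U, b ⤳ u → u ⤳ b := by
  rw [ringKrullDim_stalk_eq_coheight]
  have h0 : ((Order.coheight u : ℕ∞) : WithBot ℕ∞) = 0 ↔ Order.coheight u = 0 := WithBot.coe_eq_zero
  rw [h0, Order.coheight_eq_zero]
  exact ⟨fun h b hb => h hb, fun h b hb => h b hb⟩

/-- The dimension of the local ring at a point of an algebraic space does not depend on the etale chart. -/
theorem ringKrullDim_stalk_eq_of_charts {F : Sp S} {U V : Over S} (a : (yon S).obj U ⟶ F)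
    (ha : RepWith @Etale a) (b : (yon S).obj V ⟶ F) (hb : RepWith @Etale b) (u : ↥U.left) (v : ↥V.left)
    (h : Points.ofPt a u = Points.ofPt b v) :
    ringKrullDim (U.left.presheaf.stalk u) = ringKrullDim (V.left.presheaf.stalk v) := by
  have sq := ha.rep.isPullback b
  obtain ⟨c, hc⟩ := (yon S).map_surjective (ha.rep.fst b)
  rw [← hc] at sq
  have het : Etale (ha.rep.snd b).left := ha.property_snd b
  have hcet : Etale c.left := hb.property a _ c sq.flip
  obtain ⟨w, hw1, hw2⟩ := exists_point_of_isPullback_yon_yon sq u v h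
  rw [← hw1, ← hw2, ← EtDim.ringKrullDim_stalk_eq_of_etale c.left w,
    ← EtDim.ringKrullDim_stalk_eq_of_etale (ha.rep.snd b).left w]

/-- Generic points of irreducible components of a decent space are the points of codimension zero. -/
theorem isGenericPoint_component_iff {F : Sp S} (hF : IsAlgSpace F) (hd : IsDecent F) (x : Points F) :
    (∃ T ∈ irreducibleComponents (Points F), IsGenericPoint x T) ↔
      HasAt (fun U u => ringKrullDim ↥(U.presheaf.stalk u) = 0) F x := by
  have : QuasiSober (Points F) := quasiSober_points_of_isDecent hF hd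
  let X : AlgSp.Space S := ⟨F, hF⟩
  constructor
  · rintro ⟨T, hT, hxT⟩
    have hcl : closure {x} ∈ irreducibleComponents (Points F) := hxT.def ▸ hT
    have hmax := (NT.closure_singleton_mem_irreducibleComponents_iff x).1 hcl
    obtain ⟨U, p, hpe, hps⟩ := hF.atlas
    obtain ⟨u, rfl⟩ := ofPt_surjective_of_surjective p hps x
    refine ⟨U, p, u, hpe, rfl, ?_⟩
    show ringKrullDim ↥(U.left.presheaf.stalk u) = 0
    rw [ringKrullDim_stalk_eq_zero_iff_isMax]
    intro b hb
    have h1 : Points.ofPt p b ⤳ Points.ofPt p u := hb.map (Points.continuous_ofPt p)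
    have h2 : Points.ofPt p u ⤳ Points.ofPt p b := hmax _ h1
    obtain ⟨u'', hu''b, hu''⟩ :=
      Groth.Agent.S10343.result X (Points.ofPt p b) (Points.ofPt p u) h2 (hd _) p hpe b rfl
    have : u = u'' := Groth.Agent.S10340.result X hd p hpe u u'' hu''.symm (hu''b.trans hb)
    rw [this]
    exact hu''b
  · rintro ⟨U, a, u, ha, rfl, hdim⟩
    replace hdim : ringKrullDim ↥(U.left.presheaf.stalk u) = 0 := hdim
    rw [ringKrullDim_stalk_eq_zero_iff_isMax] at hdim
    refine ⟨closure {Points.ofPt a u}, ?_, rfl⟩
    rw [NT.closure_singleton_mem_irreducibleComponents_iff]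
    intro t' ht'
    obtain ⟨u', hu'u, rfl⟩ := Groth.Agent.S10343.result X _ t' ht' (hd t') a ha u rfl
    exact (hdim u' hu'u).map (Points.continuous_ofPt a)


section Order

variable {F : Sp S} (hF : IsAlgSpace F) (hd : IsDecent F) {U : Over S} (a : (yon S).obj U ⟶ F)
  (ha : RepWith @Etale a)

include hF hd ha in
/-- An etale chart of a decent space is strictly monotone for the specialization orders. -/
theorem strictMono_ofPt [T0Space (Points F)] :
    letI : PartialOrder (Points F) := specializationOrder (Points F)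
    StrictMono (fun w : ↥U.left => Points.ofPt a w) := by
  letI : PartialOrder (Points F) := specializationOrder (Points F)
  intro u₁ u₂ hab
  have hs : u₂ ⤳ u₁ := hab.1
  refine ⟨hs.map (Points.continuous_ofPt a), fun h3 => ?_⟩
  have h3' : Points.ofPt a u₁ ⤳ Points.ofPt a u₂ := h3
  have he : Points.ofPt a u₁ = Points.ofPt a u₂ :=
    (h3'.antisymm (hs.map (Points.continuous_ofPt a))).eq
  have := Groth.Agent.S10340.result ⟨F, hF⟩ hd a ha u₁ u₂ he hs
  exact hab.2 (this ▸ le_refl _)

include hF hd ha in
theorem exists_lt_lift [T0Space (Points F)] :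
    letI : PartialOrder (Points F) := specializationOrder (Points F)
    ∀ (u₁ : ↥U.left) (b' : Points F), Points.ofPt a u₁ < b' → ∃ u', u₁ < u' ∧ Points.ofPt a u' = b' := by
  letI : PartialOrder (Points F) := specializationOrder (Points F)
  intro u₁ b' hab
  have hs : b' ⤳ Points.ofPt a u₁ := hab.1
  obtain ⟨u', hu', rfl⟩ := Groth.Agent.S10343.result ⟨F, hF⟩ _ b' hs (hd b') a ha u₁ rfl
  refine ⟨u', ⟨hu', fun h3 => ?_⟩, rfl⟩
  have h3' : u₁ ⤳ u' := h3
  exact hab.2 (h3'.map (Points.continuous_ofPt a))

include hF hd ha in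
theorem coheight_ofPt [T0Space (Points F)] (u : ↥U.left) :
    letI : PartialOrder (Points F) := specializationOrder (Points F)
    Order.coheight u = Order.coheight (Points.ofPt a u) := by
  letI : PartialOrder (Points F) := specializationOrder (Points F)
  exact Order.coheight_eq_of_strictMono (fun w : ↥U.left => Points.ofPt a w) (strictMono_ofPt hF hd a ha)
    (exists_lt_lift hF hd a ha) u

end Order

/-- The Krull dimension of the space of points of a decent space is the dimension of the space. -/
theorem topologicalKrullDim_points_eq_dim {F : Sp S} (hF : IsAlgSpace F) (hd : IsDecent F) :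
    topologicalKrullDim (Points F) = AlgSp.dim F := by
  have hq : QuasiSober (Points F) := quasiSober_points_of_isDecent hF hd
  have ht0 : T0Space (Points F) := Groth.Agent.S10338.result ⟨F, hF⟩ hd
  letI : PartialOrder (Points F) := specializationOrder (Points F)
  have hP : topologicalKrullDim (Points F) = Order.krullDim (Points F) :=
    Order.krullDim_eq_of_orderIso (irreducibleSetEquivPoints (α := Points F))
  apply le_antisymm
  · rw [hP, Order.krullDim_eq_iSup_coheight]
    apply iSup_le
    intro x
    obtain ⟨U, p, hpe, hps⟩ := hF.atlas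
    obtain ⟨u, rfl⟩ := ofPt_surjective_of_surjective p hps x
    rw [← coheight_ofPt hF hd p hpe u]
    calc ((Order.coheight u : ℕ∞) : WithBot ℕ∞) ≤ Order.krullDim ↥U.left := Order.coheight_le_krullDim u
      _ = topologicalKrullDim ↥U.left := (EtDim.topologicalKrullDim_eq_krullDim _).symm
      _ ≤ AlgSp.dim F := le_iSup_of_le U (le_iSup_of_le p (le_iSup_of_le hpe le_rfl))
  · unfold AlgSp.dim
    refine iSup_le fun U => iSup_le fun a => iSup_le fun ha => ?_
    rw [hP, EtDim.topologicalKrullDim_eq_krullDim]
    exact Order.krullDim_le_of_strictMono _ (strictMono_ofPt hF hd a ha)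


/-- The image of an etale chart of a decent space has the dimension of the chart. -/
theorem topologicalKrullDim_range_ofPt {F : Sp S} (hF : IsAlgSpace F) (hd : IsDecent F) {U : Over S}
    (a : (yon S).obj U ⟶ F) (ha : RepWith @Etale a) :
    topologicalKrullDim ↥(Set.range (Points.ofPt a)) = topologicalKrullDim ↥U.left := by
  have hq : QuasiSober (Points F) := quasiSober_points_of_isDecent hF hd
  have ht0 : T0Space (Points F) := Groth.Agent.S10338.result ⟨F, hF⟩ hd
  have hOopen : IsOpen (Set.range (Points.ofPt a)) := (isOpenMap_ofPt_of_etale a ha).isOpen_range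
  have hqO : QuasiSober ↥(Set.range (Points.ofPt a)) := hOopen.isOpenEmbedding_subtypeVal.quasiSober
  letI : PartialOrder ↥(Set.range (Points.ofPt a)) := specializationOrder _
  let f : ↥U.left → ↥(Set.range (Points.ofPt a)) := fun w => ⟨Points.ofPt a w, w, rfl⟩
  have hf : StrictMono f := by
    intro u₁ u₂ h
    have h' := strictMono_ofPt hF hd a ha h
    exact lt_iff_le_not_ge.2 ⟨(subtype_specializes_iff _ _).2 h'.1,
      fun h3 => h'.2 ((subtype_specializes_iff _ _).1 h3)⟩
  have hlift : ∀ (u₁ : ↥U.left) (b' : ↥(Set.range (Points.ofPt a))), f u₁ < b' → ∃ u', u₁ < u' ∧ f u' = b' := by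
    intro u₁ b' h
    have h0 := lt_iff_le_not_ge.1 h
    obtain ⟨u', hu', he⟩ := exists_lt_lift hF hd a ha u₁ b'.1
      ⟨(subtype_specializes_iff _ _).1 h0.1, fun h3 => h0.2 ((subtype_specializes_iff _ _).2 h3)⟩
    exact ⟨u', hu', Subtype.ext he⟩
  have hP : topologicalKrullDim ↥(Set.range (Points.ofPt a)) = Order.krullDim ↥(Set.range (Points.ofPt a)) :=
    Order.krullDim_eq_of_orderIso (irreducibleSetEquivPoints (α := ↥(Set.range (Points.ofPt a))))
  rw [hP, EtDim.topologicalKrullDim_eq_krullDim]
  apply le_antisymm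
  · rw [Order.krullDim_eq_iSup_coheight]
    apply iSup_le
    rintro ⟨_, w, rfl⟩
    have h1 := Order.coheight_eq_of_strictMono f hf hlift w
    have h2 : ((Order.coheight (f w) : ℕ∞) : WithBot ℕ∞) ≤ Order.krullDim ↥U.left := by
      rw [← h1]; exact Order.coheight_le_krullDim w
    exact h2
  · exact Order.krullDim_le_of_strictMono f hf

theorem topologicalKrullDim_congr {T : Type*} [TopologicalSpace T] {s t : Set T} (h : s = t) :
    topologicalKrullDim ↥s = topologicalKrullDim ↥t := by subst h; rfl

theorem topologicalKrullDim_mono_set {T : Type*} [TopologicalSpace T] {s t : Set T} (h : s ⊆ t) :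
    topologicalKrullDim ↥s ≤ topologicalKrullDim ↥t :=
  (Topology.IsEmbedding.inclusion h).isInducing.topologicalKrullDim_le

/-- The image of an open of an etale chart of a decent space has the dimension of this open. -/
theorem topologicalKrullDim_image_ofPt {F : Sp S} (hF : IsAlgSpace F) (hd : IsDecent F) {U : Over S}
    (a : (yon S).obj U ⟶ F) (ha : RepWith @Etale a) (W : U.left.Opens) :
    topologicalKrullDim ↥(Points.ofPt a '' (W : Set ↥U.left)) = topologicalKrullDim ↥(W : Set ↥U.left) := by
  have h1 := topologicalKrullDim_range_ofPt hF hd ((yon S).map (overOpenι U W) ≫ a) (repWith_etale_restrict a ha W)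
  have hset : Set.range (Points.ofPt ((yon S).map (overOpenι U W) ≫ a)) = Points.ofPt a '' (W : Set ↥U.left) := by
    ext x
    constructor
    · rintro ⟨w, rfl⟩
      exact ⟨w.1, w.2, (ofPt_restrict a W w).symm⟩
    · rintro ⟨w, hw, rfl⟩
      exact ⟨⟨w, hw⟩, ofPt_restrict a W ⟨w, hw⟩⟩
  rw [← topologicalKrullDim_congr hset, h1]
  rfl

/-- The local dimension of a decent space at a point is the local dimension of any etale chart. -/
theorem localDim_ofPt {F : Sp S} (hF : IsAlgSpace F) (hd : IsDecent F) {U : Over S}
    (a : (yon S).obj U ⟶ F) (ha : RepWith @Etale a) (u : ↥U.left) :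
    FlatMor.localDim ↥U.left u = FlatMor.localDim (Points F) (Points.ofPt a u) := by
  unfold FlatMor.localDim
  apply le_antisymm
  · refine le_iInf fun O => ?_
    have hWopen : IsOpen (Points.ofPt a ⁻¹' (O.1 : Set (Points F))) := O.1.isOpen.preimage (Points.continuous_ofPt a)
    refine (iInf_le _ (⟨⟨_, hWopen⟩, O.2⟩ : {W : TopologicalSpace.Opens ↥U.left // u ∈ W})).trans ?_
    rw [← topologicalKrullDim_image_ofPt hF hd a ha ⟨_, hWopen⟩]
    exact topologicalKrullDim_mono_set (Set.image_preimage_subset _ _)
  · refine le_iInf fun W => ?_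
    have hOopen : IsOpen (Points.ofPt a '' (W.1 : Set ↥U.left)) := isOpenMap_ofPt_of_etale a ha _ W.1.isOpen
    refine (iInf_le _ (⟨⟨_, hOopen⟩, ⟨u, W.2, rfl⟩⟩ :
      {O : TopologicalSpace.Opens (Points F) // Points.ofPt a u ∈ O})).trans ?_
    exact (topologicalKrullDim_image_ofPt hF hd a ha W.1).le

end Groth.Agent.Lib.Helper16.Strata
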