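import Groth.Agent.Lib.Helper16.EtDim
import Groth.Agent.Lib.Helper16.DecentGeneric
import Groth.Agent.Lib.Helper16.QuasiCompact
import Groth.Agent.S9683

/-!
# Helper library (helper16): dimension and integral morphisms of algebraic spaces
-/

set_option autoImplicit false
universe u
open CategoryTheory CategoryTheory.Limits AlgebraicGeometry Opposite Topology TopologicalSpace

namespace Groth.Agent.Lib.Helper16.IntDim

open AlgSp Groth.Agent.Lib.Helper15 Groth.Agent.Lib.Helper16

attribute [local instance] specializationOrder in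
theorem tkd_le_of_forall_stalk (U : Scheme.{u}) (d : WithBot ℕ∞)
    (h : ∀ u : U, ringKrullDim (U.presheaf.stalk u) ≤ d) : topologicalKrullDim U ≤ d := by
  rw [EtDim.topologicalKrullDim_eq_krullDim, Order.krullDim_eq_iSup_coheight]
  refine iSup_le fun u => ?_
  have h1 := h u
  rw [ringKrullDim_stalk_eq_coheight] at h1
  exact_mod_cast h1

attribute [local instance] specializationOrder in
theorem stalk_le_tkd (Z : Scheme.{u}) (z : Z) :
    ringKrullDim (Z.presheaf.stalk z) ≤ topologicalKrullDim Z := by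
  rw [EtDim.topologicalKrullDim_eq_krullDim, ringKrullDim_stalk_eq_coheight]
  exact_mod_cast Order.coheight_le_krullDim z

variable {S : Scheme.{u}}

/-- An affine etale chart of the target through a given point, together with the affine integral base change. -/
theorem exists_affine_chart_integral {X Y : AlgSp.Space S} (f : X ⟶ Y) (hf : IsIntegralMor f.hom)
    {V₀ : Over S} (b₀ : (yon S).obj V₀ ⟶ Y.obj) (hb₀ : RepWith @Etale b₀) (v₀ : ↥V₀.left) :
    ∃ (V Z : Over S) (b : (yon S).obj V ⟶ Y.obj) (i : Z ⟶ V) (fstZ : (yon S).obj Z ⟶ X.obj) (v : ↥V.left),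
      RepWith @Etale b ∧ RepWith @Etale fstZ ∧ IsPullback fstZ ((yon S).map i) f.hom b ∧
      IsIntegralHom i.left ∧ Points.ofPt b v = Points.ofPt b₀ v₀ ∧
      ringKrullDim (V.left.presheaf.stalk v) = ringKrullDim (V₀.left.presheaf.stalk v₀) := by
  obtain ⟨_, ⟨A, hA, rfl⟩, hv₀A, -⟩ := V₀.left.isBasis_affineOpens.exists_subset_of_mem_open
    (Set.mem_univ v₀) isOpen_univ
  have hVaff : IsAffine (overOpen V₀ A).left := hA
  have hbe : RepWith @Etale ((yon S).map (overOpenι V₀ A) ≫ b₀) := repWith_etale_restrict b₀ hb₀ A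
  obtain ⟨Z, i, fstZ, sq, hZaff, hint⟩ := hf hVaff ((yon S).map (overOpenι V₀ A) ≫ b₀)
  have hfst : RepWith @Etale fstZ := (RepWith @Etale).of_isPullback sq.flip hbe
  have hv : Points.ofPt ((yon S).map (overOpenι V₀ A) ≫ b₀) (⟨v₀, hv₀A⟩ : ↥A) = Points.ofPt b₀ v₀ := by
    rw [ofPt_restrict]
    rfl
  exact ⟨overOpen V₀ A, Z, _, i, fstZ, (⟨v₀, hv₀A⟩ : ↥A), hbe, hfst, sq, hint, hv,
    Strata.ringKrullDim_stalk_eq_of_charts _ hbe b₀ hb₀ _ v₀ hv⟩

end Groth.Agent.Lib.Helper16.IntDim
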