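import Groth.Agent.Lib.Helper16.DimF4
import Groth.Agent.Lib.Helper16.IntDim
import Groth.Agent.Lib.Helper12.ClosedSub
import Groth.Agent.Lib.Helper12.WithBotENat
import Groth.Agent.S10343
import Groth.Agent.S10340

/-!
# Helper library (helper16): lifting chains of specializations along closed morphisms of algebraic spaces,
keeping the transcendence degree (towards `dim X = dim Y + r` for proper dominant morphisms)
-/

set_option autoImplicit false
universe u
open CategoryTheory CategoryTheory.Limits AlgebraicGeometry Opposite Topology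

namespace Groth.Agent.Lib.Helper16.DimF

open AlgSp Groth.Agent.Lib.Helper16 Groth.Agent.Lib.Helper16.QfAt
open Groth.Agent.Lib.Helper12 Groth.Agent.Lib.Helper12.SchemeDimIneq Groth.Agent.Lib.Helper12.SchemeDimFT
open Groth.Agent.Lib.Helper12.OrdTools Groth.Agent.Lib.Helper12.ClosedSub

section Ord

theorem exists_lt_of_succ_le_coheight {α : Type*} [Preorder α] (a : α) (n : ℕ)
    (h : ((n + 1 : ℕ) : ℕ∞) ≤ Order.coheight a) : ∃ b, a < b ∧ (n : ℕ∞) ≤ Order.coheight b := by
  by_contra hne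
  push Not at hne
  have h1 : Order.coheight a ≤ (n : ℕ∞) := by
    rw [Order.coheight_eq_iSup_gt_coheight]
    exact iSup₂_le fun y hy => Order.add_one_le_of_lt (hne y hy)
  have h2 : ((n + 1 : ℕ) : ℕ∞) ≤ (n : ℕ∞) := h.trans h1
  have h3 : n + 1 ≤ n := by exact_mod_cast h2
  omega

theorem enat_add_nat_le (c : ℕ∞) (r : ℕ) (D : WithBot ℕ∞)
    (h : ∀ n : ℕ, (n : ℕ∞) ≤ c → (((n + r : ℕ) : ℕ∞) : WithBot ℕ∞) ≤ D) :
    ((c : ℕ∞) : WithBot ℕ∞) + ((r : ℕ) : WithBot ℕ∞) ≤ D := by
  induction c using ENat.recTopCoe with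
  | top =>
    rcases ProductDim.withBot_enat_cases D with hD | hD | ⟨m, hD⟩
    · have := h 0 le_top
      rw [hD] at this
      exact absurd (le_bot_iff.mp this) WithBot.coe_ne_bot
    · rw [hD]; exact le_top
    · have := h (m + 1) le_top
      rw [hD] at this
      have h3 : m + 1 + r ≤ m := by exact_mod_cast this
      omega
  | coe k =>
    have := h k le_rfl
    refine le_trans (le_of_eq ?_) this
    push_cast
    rfl

end Ord

section Sch

theorem tkd_le_krullDim_of_strictMono {T : Type*} [TopologicalSpace T] [QuasiSober T] [T0Space T]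
    {α : Type*} [Preorder α] (φ : T → α) (hφ : ∀ t t' : T, t' ⤳ t → t ≠ t' → φ t < φ t') :
    topologicalKrullDim T ≤ Order.krullDim α := by
  letI : PartialOrder T := specializationOrder T
  have h1 : topologicalKrullDim T = Order.krullDim T :=
    Order.krullDim_eq_of_orderIso (irreducibleSetEquivPoints (α := T))
  rw [h1]
  exact Order.krullDim_le_of_strictMono φ (fun t t' hlt => hφ t t' hlt.le hlt.ne)

theorem coheight_add_krullDim_Iic_le {α : Type*} [Preorder α] (a : α) (D : WithBot ℕ∞)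
    (hD : ∀ w : α, ((Order.coheight w : ℕ∞) : WithBot ℕ∞) ≤ D) :
    ((Order.coheight a : ℕ∞) : WithBot ℕ∞) + Order.krullDim (Set.Iic a) ≤ D := by
  haveI : Nonempty (Set.Iic a) := ⟨⟨a, le_rfl⟩⟩
  rw [Order.krullDim_eq_iSup_length, ← WithBot.coe_add, ENat.add_iSup,
    WithBot.coe_iSup (OrderTop.bddAbove _)]
  refine iSup_le fun l => ?_
  have h7 := coheight_last_add_length_le (l.map Subtype.val (fun _ _ h => h))
  rw [LTSeries.last_map, LTSeries.head_map] at h7
  have h7' : Order.coheight (l.last.1) + (l.length : ℕ∞) ≤ Order.coheight (l.head.1) := h7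
  have h8 : Order.coheight a ≤ Order.coheight l.last.1 := Order.coheight_anti l.last.2
  exact le_trans (WithBot.coe_le_coe.2 (le_trans (add_le_add h8 le_rfl) h7')) (hD _)

/-- Extending a chain inside the fibre: `dim O_{U,u} + trdeg κ(u)/κ(h u) ≤ dim U`. -/
theorem coheight_add_trn_le_tkd {U V : Scheme.{u}} (h : U ⟶ V) [LocallyOfFiniteType h] (u : U) :
    ((Order.coheight u : ℕ∞) : WithBot ℕ∞) + ((trn h u : ℕ∞) : WithBot ℕ∞) ≤ topologicalKrullDim U := by
  letI ovF : (h.fiber (h u)).Over (Spec (CommRingCat.of (V.residueField (h u)))) :=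
    ⟨h.fiberToSpecResidueField (h u)⟩
  haveI : LocallyOfFiniteType ((h.fiber (h u)) ↘ Spec (CommRingCat.of (V.residueField (h u)))) :=
    FibreRes.locallyOfFiniteType_fiberToSpecResidueField h (h u)
  have h1 := topologicalKrullDim_closure_singleton (V.residueField (h u)) (h.fiber (h u)) (h.asFiber u)
  haveI : QuasiSober ↥(closure ({h.asFiber u} : Set ↥(h.fiber (h u)))) :=
    quasiSober_of_isLocallyClosed isClosed_closure.isLocallyClosed
  have hmem : ∀ z : ↥(closure ({h.asFiber u} : Set ↥(h.fiber (h u)))), u ⤳ h.fiberι (h u) z.1 := by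
    intro z
    have h5 : h.asFiber u ⤳ z.1 := specializes_iff_mem_closure.mpr z.2
    have h6 := h5.map (h.fiberι (h u)).continuous
    rwa [h.fiberι_asFiber u] at h6
  have h3 : topologicalKrullDim ↥(closure ({h.asFiber u} : Set ↥(h.fiber (h u)))) ≤
      Order.krullDim (Set.Iic u) := by
    refine tkd_le_krullDim_of_strictMono
      (fun z => (⟨h.fiberι (h u) z.1, hmem z⟩ : Set.Iic u)) ?_
    intro t t' hs hne
    have hs' : h.fiberι (h u) t'.1 ⤳ h.fiberι (h u) t.1 :=
      (hs.map continuous_subtype_val).map (h.fiberι (h u)).continuous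
    have hne' : h.fiberι (h u) t'.1 ≠ h.fiberι (h u) t.1 := fun e =>
      hne (Subtype.ext ((h.fiberι (h u)).isEmbedding.injective e)).symm
    exact Subtype.mk_lt_mk.mpr (lt_of_specializes_of_ne hs' hne')
  have h4 : ((trn h u : ℕ∞) : WithBot ℕ∞) =
      topologicalKrullDim ↥(closure ({h.asFiber u} : Set ↥(h.fiber (h u)))) := by
    rw [trn_eq_tr h u, h1]
    rfl
  rw [h4]
  refine le_trans (add_le_add le_rfl h3) ?_
  refine coheight_add_krullDim_Iic_le u _ (fun w => ?_)
  exact le_of_eq_of_le (ringKrullDim_stalk_eq_coheight w).symm (IntDim.stalk_le_tkd U w)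

/-- Chains of specializations in the target lift to the source, given a base case and a lifting step. -/
theorem exists_lift_chain {U V : Scheme.{u}} (h : U ⟶ V) (r : ℕ∞)
    (hbase : ∀ ξ : V, IsMaxPt ξ → ∃ u₀ : U, h u₀ = ξ ∧ r ≤ trn h u₀)
    (hstep : ∀ (u : U) (v' : V), h u ⤳ v' → ∃ u' : U, h u' = v' ∧ trn h u ≤ trn h u' ∧
      (h u ≠ v' → Order.coheight u + 1 ≤ Order.coheight u')) :
    ∀ (n : ℕ) (v : V), (n : ℕ∞) ≤ Order.coheight v →
      ∃ u : U, h u = v ∧ r ≤ trn h u ∧ (n : ℕ∞) ≤ Order.coheight u := by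
  intro n
  induction n with
  | zero =>
    intro v _
    obtain ⟨ξ, hξmax, hξ⟩ := exists_isMaxPt_specializes v
    obtain ⟨u₀, hu₀, hr₀⟩ := hbase ξ hξmax
    obtain ⟨u', h1, h2, -⟩ := hstep u₀ v (by rw [hu₀]; exact hξ)
    exact ⟨u', h1, hr₀.trans h2, by simp⟩
  | succ n ih =>
    intro v hv
    obtain ⟨v₁, hlt, hv₁⟩ := exists_lt_of_succ_le_coheight v n hv
    obtain ⟨u₁, hu₁, hr₁, hc₁⟩ := ih v₁ hv₁
    have hs : h u₁ ⤳ v := by rw [hu₁]; exact hlt.le
    have hne : h u₁ ≠ v := by rw [hu₁]; exact hlt.ne'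
    obtain ⟨u', h1, h2, h3⟩ := hstep u₁ v hs
    refine ⟨u', h1, hr₁.trans h2, ?_⟩
    calc ((n + 1 : ℕ) : ℕ∞) = (n : ℕ∞) + 1 := by push_cast; rfl
      _ ≤ Order.coheight u₁ + 1 := add_le_add hc₁ le_rfl
      _ ≤ Order.coheight u' := h3 hne

end Sch

section Sp

variable {S : Scheme.{u}}

theorem map_ofPt_chart {X Y : Sp S} (f : X ⟶ Y) {U V : Over S} (a : (yon S).obj U ⟶ X)
    (b : (yon S).obj V ⟶ Y) (h : U ⟶ V) (hc : a ≫ f = (yon S).map h ≫ b) (u : ↥U.left) :
    Points.map f (Points.ofPt a u) = Points.ofPt b (h.left u) := by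
  rw [Points.map_ofPt, hc, ofPt_yon_map_comp]

/-- The lifting step along a closed morphism of decent spaces, on a chart diagram with point lifting. -/
theorem exists_lift_step {X Y : AlgSp.Space S} (f : X ⟶ Y) (hXd : IsDecent X.obj) (hYd : IsDecent Y.obj)
    (hcl : IsClosedMap (Points.map f.hom)) {U V : Over S}
    (a : (yon S).obj U ⟶ X.obj) (b : (yon S).obj V ⟶ Y.obj) (h : U ⟶ V)
    (ha : RepWith @Etale a) (hb : RepWith @Etale b) (hc : a ≫ f.hom = (yon S).map h ≫ b)
    [LocallyOfFiniteType h.left]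
    (hlift : ∀ (v : ↥V.left) (x' : Points X.obj), Points.map f.hom x' = Points.ofPt b v →
      ∃ u : ↥U.left, h.left u = v ∧ Points.ofPt a u = x')
    (u : ↥U.left) (v' : ↥V.left) (hs : h.left u ⤳ v') :
    ∃ u' : ↥U.left, h.left u' = v' ∧ trn h.left u ≤ trn h.left u' ∧
      (h.left u ≠ v' → Order.coheight u + 1 ≤ Order.coheight u') := by
  have hfu : Points.map f.hom (Points.ofPt a u) = Points.ofPt b (h.left u) :=
    map_ofPt_chart f.hom a b h hc u
  have hs' : Points.map f.hom (Points.ofPt a u) ⤳ Points.ofPt b v' := by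
    rw [hfu]; exact hs.map (Points.continuous_ofPt b)
  obtain ⟨x', hx'1, hx'2⟩ := hcl.specializingMap hs'
  have hx'1' : Points.ofPt a u ⤳ x' := hx'1
  obtain ⟨u₁, hu₁v, hu₁x⟩ := hlift v' x' hx'2
  obtain ⟨u₀, hu₀s, hu₀x⟩ :=
    Groth.Agent.S10343.result X x' (Points.ofPt a u) hx'1' (hXd _) a ha u₁ hu₁x
  obtain ⟨u', hu'1, hu'2, hu'3, hu'4⟩ := exists_between_trn_le h.left u₁ u₀ hu₀s
  have htr : trn h.left u₀ = trn h.left u := by
    rw [trn_eq_toENat, trn_eq_toENat,
      resTrdeg_transfer f.hom a b h a b h ha hb ha hb hc hc u₀ u hu₀x]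
  have hco : Order.coheight u₀ = Order.coheight u := by
    have e1 := (hasAt_dim_iff a ha u₀ (ringKrullDim ↥(U.left.presheaf.stalk u₀))).2 rfl
    rw [hu₀x] at e1
    have e2 := (hasAt_dim_iff a ha u _).1 e1
    rw [ringKrullDim_stalk_eq_coheight, ringKrullDim_stalk_eq_coheight] at e2
    exact (WithBot.coe_injective e2).symm
  refine ⟨u', hu'1.trans hu₁v, by rw [← htr]; exact hu'4, fun hne => ?_⟩
  have hne' : u₀ ≠ u' := by
    intro e
    apply hne
    have e1 : h.left u₀ = v' := by rw [e]; exact hu'1.trans hu₁v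
    have e2 : Points.ofPt b v' = Points.ofPt b (h.left u) := by
      rw [← e1, ← map_ofPt_chart f.hom a b h hc u₀, hu₀x, hfu]
    exact (Groth.Agent.S10340.result Y hYd b hb v' (h.left u) e2 hs).symm
  have hlt : u' < u₀ := lt_of_specializes_of_ne hu'2 hne'
  rw [← hco]
  exact Order.coheight_add_one_le hlt

end Sp

end Groth.Agent.Lib.Helper16.DimF
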