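import Mathlib.AlgebraicGeometry.Noetherian
import Mathlib.AlgebraicGeometry.Morphisms.Etale
import Mathlib.AlgebraicGeometry.Morphisms.FlatDescent
import Mathlib.AlgebraicGeometry.Morphisms.Descent
import Mathlib.AlgebraicGeometry.Morphisms.UniversallyOpen
import Mathlib.RingTheory.Flat.FaithfullyFlat.Basic

/-!
# Helper library (helper16): locally Noetherian descends along fppf surjective morphisms
-/

set_option autoImplicit false
universe u
open CategoryTheory CategoryTheory.Limits AlgebraicGeometry Opposite Topology TensorProduct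

namespace Groth.Agent.Lib.Helper16

theorem isNoetherianRing_of_faithfullyFlat {R R' : Type u} [CommRing R] [CommRing R'] (φ : R →+* R')
    (hφ : φ.FaithfullyFlat) [IsNoetherianRing R'] : IsNoetherianRing R := by
  algebraize [φ]
  have : Module.FaithfullyFlat R R' := RingHom.faithfullyFlat_algebraMap_iff.1 hφ
  have h1 : IsNoetherian R' (R' ⊗[R] R) :=
    isNoetherian_of_linearEquiv (AlgebraTensorModule.rid R R' R').symm
  exact Submodule.IsNoetherian.of_isNoetherian_tensorProduct_of_faithfullyFlat (A := R') h1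

set_option backward.isDefEq.respectTransparency.types false in
theorem isLocallyNoetherian_of_fppf_surjective {A B : Scheme.{u}} (f : A ⟶ B) [Flat f]
    [LocallyOfFinitePresentation f] [Surjective f] [IsLocallyNoetherian A] : IsLocallyNoetherian B := by
  refine ⟨fun W => ?_⟩
  have hWa : IsAffine (W.1 : Scheme.{u}) := W.2
  have hflat : Flat (f ∣_ W.1) := IsZariskiLocalAtTarget.restrict ‹Flat f› W.1
  have hlfp : LocallyOfFinitePresentation (f ∣_ W.1) :=
    IsZariskiLocalAtTarget.restrict ‹LocallyOfFinitePresentation f› W.1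
  have hsurj : Surjective (f ∣_ W.1) := IsZariskiLocalAtTarget.restrict ‹Surjective f› W.1
  obtain ⟨V : (f ⁻¹ᵁ W.1).toScheme.Opens, hV, e⟩ :=
    (f ∣_ W.1).isOpenMap.exists_opens_image_eq_of_prespectralSpace
      (f ∣_ W.1).continuous (fun x _ => hsurj.surj x) isOpen_univ isCompact_univ
  have hVc : CompactSpace ↥(V : Scheme.{u}) := isCompact_iff_compactSpace.mp hV
  obtain ⟨Y, p, hps, hpe, hYa⟩ := Scheme.exists_hom_isAffine_of_isZariskiLocalAtSource @Etale (V : Scheme.{u})
  have : Etale p := hpe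
  have hYn : IsLocallyNoetherian Y :=
    LocallyOfFiniteType.isLocallyNoetherian (p ≫ V.ι ≫ (f ⁻¹ᵁ W.1).ι)
  have hYn' : IsNoetherianRing Γ(Y, ⊤) := IsLocallyNoetherian.component_noetherian ⟨⊤, isAffineOpen_top Y⟩
  let g : Y ⟶ (W.1 : Scheme.{u}) := p ≫ V.ι ≫ (f ∣_ W.1)
  have hgflat : Flat g := inferInstance
  have hgsurj : Surjective g := by
    refine ⟨fun y => ?_⟩
    have hy : y ∈ (f ∣_ W.1) '' (V : Set _) := by rw [e]; trivial
    obtain ⟨v, hv, rfl⟩ := hy
    obtain ⟨y', hy'⟩ := hps.surj ⟨v, hv⟩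
    refine ⟨y', ?_⟩
    simp only [g, Scheme.Hom.comp_apply, hy']
    rfl
  have hff : g.appTop.hom.FaithfullyFlat := by
    rw [← flat_and_surjective_SpecMap_iff]
    constructor
    · exact (MorphismProperty.arrow_mk_iso_iff @Flat (arrowIsoSpecΓOfIsAffine g)).1 hgflat
    · exact (MorphismProperty.arrow_mk_iso_iff @Surjective (arrowIsoSpecΓOfIsAffine g)).1 hgsurj
  have h1 : IsNoetherianRing Γ((W.1 : Scheme.{u}), ⊤) := isNoetherianRing_of_faithfullyFlat _ hff
  exact isNoetherianRing_of_ringEquiv _ W.1.topIso.commRingCatIsoToRingEquiv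

end Groth.Agent.Lib.Helper16
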