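import Groth.Agent.Lib.Helper15.OpenSubspace
import Groth.Agent.Lib.Helper15.EpiRefines
import Groth.Agent.Lib.Helper15.ToposQuot
import Groth.Agent.Lib.Helper15.CoprodPts
import Groth.Agent.Lib.Helper16.FpqcOpen
import Groth.Agent.Lib.Helper16.Points
import Groth.Agent.Lib.Helper16.Charts
import Groth.Prelude.Def_QuotSh

set_option autoImplicit false
universe u
open CategoryTheory CategoryTheory.Limits AlgebraicGeometry Opposite
open AlgSp Groth.Agent.Lib.Helper15 Groth.Agent.Lib.Helper16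

namespace Groth.Agent.Lib.Helper16.QuotOpen

variable {S : Scheme.{u}}

/-- A pre-equivalence relation on `T`-points of schemes gives one on the representable sheaves. -/
theorem isPreEqvRelSp_yon {R U : Over S} (s t : R ⟶ U)
    (hE : ∀ T : Over S, _root_.Equivalence (fun a b : T ⟶ U => ∃ r : T ⟶ R, r ≫ t = a ∧ r ≫ s = b)) :
    IsPreEqvRelSp ((yon S).map s) ((yon S).map t) := by
  intro T
  have hE := hE T
  have key : ∀ a b : T ⟶ U, (∃ r : (yon S).obj T ⟶ (yon S).obj R,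
      r ≫ (yon S).map t = (yon S).map a ∧ r ≫ (yon S).map s = (yon S).map b) ↔
      (∃ r : T ⟶ R, r ≫ t = a ∧ r ≫ s = b) := by
    intro a b
    constructor
    · rintro ⟨r, h1, h2⟩
      obtain ⟨ρ, rfl⟩ := (yon S).map_surjective r
      rw [← Functor.map_comp] at h1 h2
      exact ⟨ρ, (yon S).map_injective h1, (yon S).map_injective h2⟩
    · rintro ⟨ρ, rfl, rfl⟩
      exact ⟨(yon S).map ρ, by rw [Functor.map_comp], by rw [Functor.map_comp]⟩
  refine ⟨fun a => ?_, fun {a b} hab => ?_, fun {a b c} hab hbc => ?_⟩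
  · obtain ⟨α, rfl⟩ := (yon S).map_surjective a
    exact (key α α).2 (hE.refl α)
  · obtain ⟨α, rfl⟩ := (yon S).map_surjective a
    obtain ⟨β, rfl⟩ := (yon S).map_surjective b
    exact (key β α).2 (hE.symm ((key α β).1 hab))
  · obtain ⟨α, rfl⟩ := (yon S).map_surjective a
    obtain ⟨β, rfl⟩ := (yon S).map_surjective b
    obtain ⟨γ, rfl⟩ := (yon S).map_surjective c
    exact (key α γ).2 (hE.trans ((key α β).1 hab) ((key β γ).1 hbc))

theorem repIso_naturality {V W : Over S} (g : V ⟶ W) :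
    QuotSh.repMap Scheme.fppfPrecoverage g ≫ (QuotSh.repIsoUliftYoneda Scheme.fppfPrecoverage W).hom =
      (QuotSh.repIsoUliftYoneda Scheme.fppfPrecoverage V).hom ≫ (yon S).map g := by
  have N : (yon S).map g ≫ (QuotSh.repIsoUliftYoneda Scheme.fppfPrecoverage W).inv =
      (QuotSh.repIsoUliftYoneda Scheme.fppfPrecoverage V).inv ≫ QuotSh.repMap Scheme.fppfPrecoverage g :=
    (sheafificationNatIso (J S) (Type (u + 1))).hom.naturality ((yon S).map g)
  rw [← Iso.inv_comp_eq, ← Category.assoc, ← N, Category.assoc, Iso.inv_hom_id, Category.comp_id]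

/-- The quotient sheaf of `QuotSh` (coequalizer of sheafified representables) is the coequalizer of the
representable sheaves. -/
theorem exists_iso_quot_quotSp {R U : Over S} (s t : R ⟶ U) :
    ∃ e : QuotSh.quot Scheme.fppfPrecoverage s t ≅ quotSp ((yon S).map s) ((yon S).map t),
      QuotSh.quotπ Scheme.fppfPrecoverage s t ≫ e.hom =
        (QuotSh.repIsoUliftYoneda Scheme.fppfPrecoverage U).hom ≫ quotSpπ ((yon S).map s) ((yon S).map t) := by
  obtain ⟨p, hp⟩ : ∃ p : (yon S).obj U ⟶ QuotSh.quot Scheme.fppfPrecoverage s t,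
      p = (QuotSh.repIsoUliftYoneda Scheme.fppfPrecoverage U).inv ≫ QuotSh.quotπ Scheme.fppfPrecoverage s t :=
    ⟨_, rfl⟩
  have hp1 : (yon S).map s ≫ p = (yon S).map t ≫ p := by
    rw [hp]
    have h1 : (yon S).map s ≫ (QuotSh.repIsoUliftYoneda Scheme.fppfPrecoverage U).inv =
        (QuotSh.repIsoUliftYoneda Scheme.fppfPrecoverage R).inv ≫ QuotSh.repMap Scheme.fppfPrecoverage s := by
      rw [Iso.comp_inv_eq, Category.assoc, repIso_naturality, Iso.inv_hom_id_assoc]
    have h2 : (yon S).map t ≫ (QuotSh.repIsoUliftYoneda Scheme.fppfPrecoverage U).inv =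
        (QuotSh.repIsoUliftYoneda Scheme.fppfPrecoverage R).inv ≫ QuotSh.repMap Scheme.fppfPrecoverage t := by
      rw [Iso.comp_inv_eq, Category.assoc, repIso_naturality, Iso.inv_hom_id_assoc]
    rw [← Category.assoc, h1, Category.assoc, QuotSh.quot_condition, ← Category.assoc, ← h2, Category.assoc]
  have hcond : QuotSh.repMap Scheme.fppfPrecoverage s ≫ (QuotSh.repIsoUliftYoneda Scheme.fppfPrecoverage U).hom ≫
      quotSpπ ((yon S).map s) ((yon S).map t) =
      QuotSh.repMap Scheme.fppfPrecoverage t ≫ (QuotSh.repIsoUliftYoneda Scheme.fppfPrecoverage U).hom ≫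
      quotSpπ ((yon S).map s) ((yon S).map t) := by
    rw [← Category.assoc, repIso_naturality s, Category.assoc, quotSp_condition, ← Category.assoc,
      ← repIso_naturality t, Category.assoc]
  obtain ⟨θ, hθ⟩ : ∃ θ : QuotSh.quot Scheme.fppfPrecoverage s t ⟶ quotSp ((yon S).map s) ((yon S).map t),
      QuotSh.quotπ Scheme.fppfPrecoverage s t ≫ θ =
        (QuotSh.repIsoUliftYoneda Scheme.fppfPrecoverage U).hom ≫ quotSpπ ((yon S).map s) ((yon S).map t) :=
    ⟨coequalizer.desc _ hcond, coequalizer.π_desc _ _⟩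
  have hθ' : p ≫ θ = quotSpπ ((yon S).map s) ((yon S).map t) := by
    rw [hp, Category.assoc, hθ, Iso.inv_hom_id_assoc]
  have hepi0 : Epi (QuotSh.quotπ Scheme.fppfPrecoverage s t) := by
    show Epi (coequalizer.π (QuotSh.repMap Scheme.fppfPrecoverage s) (QuotSh.repMap Scheme.fppfPrecoverage t))
    infer_instance
  have hepi1 : Epi (quotSpπ ((yon S).map s) ((yon S).map t)) := by
    show Epi (coequalizer.π ((yon S).map s) ((yon S).map t))
    infer_instance
  refine ⟨⟨θ, quotSpDesc p hp1, ?_, ?_⟩, hθ⟩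
  · rw [← cancel_epi (QuotSh.quotπ Scheme.fppfPrecoverage s t), ← Category.assoc, hθ, Category.assoc,
      quotSpπ_desc, hp, Iso.hom_inv_id_assoc, Category.comp_id]
  · rw [← cancel_epi (quotSpπ ((yon S).map s) ((yon S).map t)), ← Category.assoc, quotSpπ_desc, hθ',
      Category.comp_id]

/-- An fppf covering sieve contains an fpqc covering family. -/
theorem exists_fppf_family_of_mem_J {T : Over S} (R : Sieve T) (hR : R ∈ J S T) :
    ∃ (K : Type u) (V : K → Over S) (c : ∀ k, V k ⟶ T), (∀ k, R (c k)) ∧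
      Presieve.ofArrows (fun k => (V k).left) (fun k => (c k).left) ∈ Scheme.fpqcPrecoverage T.left := by
  rw [J_eq, GrothendieckTopology.mem_over_iff] at hR
  obtain ⟨𝒰, hle⟩ := (Scheme.mem_grothendieckTopology_iff
    (P := @Flat ⊓ @LocallyOfFinitePresentation)).1 hR
  refine ⟨𝒰.I₀, fun k => Over.mk (𝒰.f k ≫ T.hom), fun k => Over.homMk (𝒰.f k), fun k => ?_, ?_⟩
  · have h1 := hle _ _ (Presieve.ofArrows.mk k)
    rw [Sieve.overEquiv_iff] at h1
    exact h1
  · have hmem : Presieve.ofArrows 𝒰.X 𝒰.f ∈ Scheme.fppfPrecoverage T.left := by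
      rw [Scheme.fppfPrecoverage, Scheme.ofArrows_mem_precoverage_iff]
      refine ⟨fun x => ?_, fun k => 𝒰.map_prop k⟩
      obtain ⟨i, y, hy⟩ := 𝒰.exists_eq x
      exact ⟨i, y, hy⟩
    exact Scheme.fppfPrecoverage_le_fpqcPrecoverage _ hmem

/-- A morphism whose points all lie in `W` factors through the subsheaf `openSub F W`. -/
theorem exists_factor_openSub_of_range_subset {F G : Sp S} (W : Set (Points F)) (f : G ⟶ F)
    (h : Set.range (Points.map f) ⊆ W) : ∃ f₀ : G ⟶ openSub F W, f₀ ≫ openSubι F W = f := by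
  have hle : Subfunctor.range f.hom ≤ openSubfunctor F W := by
    intro T ξ hξ
    obtain ⟨η, rfl⟩ := hξ
    intro t
    have h1 : ((J S).uliftYonedaEquiv.symm (f.hom.app T η) : (yon S).obj T.unop ⟶ F) =
        ((J S).uliftYonedaEquiv.symm η : (yon S).obj T.unop ⟶ G) ≫ f := by
      apply (J S).uliftYonedaEquiv.injective
      rw [GrothendieckTopology.uliftYonedaEquiv_comp, Equiv.apply_symm_apply, Equiv.apply_symm_apply]
    rw [h1, ← Points.map_ofPt]
    exact h ⟨_, rfl⟩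
  refine ⟨ObjectProperty.homMk (Subfunctor.lift f.hom hle), ?_⟩
  apply ObjectProperty.hom_ext
  rfl

/-- Core statement: the map of quotient sheaves `U'/R' ⟶ U/R` induced by `g : U' ⟶ U`, for `R'` the restriction
of the pre-equivalence relation `R`, is an open immersion as soon as the saturation `W` of `g(U')` is open
and sections of `U` with values in `W` lift locally to `U' ×_U R`. -/
theorem repWith_isOpenImmersion_quotSp_map {R U R' U' : Over S} (s t : R ⟶ U) (g : U' ⟶ U) (s' t' : R' ⟶ U')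
    (hpre : IsPreEqvRelSp ((yon S).map s) ((yon S).map t))
    (hlift : ∀ (T : Over S) (a b : T ⟶ U') (ρ : T ⟶ R), ρ ≫ t = a ≫ g → ρ ≫ s = b ≫ g →
      ∃ ρ' : T ⟶ R', ρ' ≫ t' = a ∧ ρ' ≫ s' = b)
    (W : U.left.Opens)
    (hW : ∀ u : U.left, u ∈ W ↔ ∃ (u' : U'.left) (ρ : R.left), t.left ρ = g.left u' ∧ s.left ρ = u)
    (hloc : ∀ (T : Over S) (b : T ⟶ U), (∀ x : T.left, b.left x ∈ W) → ∃ Rc ∈ J S T,
      ∀ ⦃T' : Over S⦄ (c : T' ⟶ T), Rc c →
        ∃ (u' : T' ⟶ U') (ρ : T' ⟶ R), ρ ≫ t = u' ≫ g ∧ ρ ≫ s = c ≫ b)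
    (ψ : quotSp ((yon S).map s') ((yon S).map t') ⟶ quotSp ((yon S).map s) ((yon S).map t))
    (hψ : quotSpπ ((yon S).map s') ((yon S).map t') ≫ ψ =
      (yon S).map g ≫ quotSpπ ((yon S).map s) ((yon S).map t)) :
    RepWith @IsOpenImmersion ψ := by
  have hmono : Mono ψ := by
    refine mono_quotSp_map hpre ((yon S).map g) ((yon S).map s') ((yon S).map t') ?_ ψ hψ
    intro T a b ρ h1 h2
    obtain ⟨a₀, rfl⟩ := (yon S).map_surjective a
    obtain ⟨b₀, rfl⟩ := (yon S).map_surjective b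
    obtain ⟨ρ₀, rfl⟩ := (yon S).map_surjective ρ
    rw [← Functor.map_comp, ← Functor.map_comp] at h1 h2
    obtain ⟨ρ', h3, h4⟩ := hlift T a₀ b₀ ρ₀ ((yon S).map_injective h1) ((yon S).map_injective h2)
    exact ⟨(yon S).map ρ', by rw [← Functor.map_comp, h3], by rw [← Functor.map_comp, h4]⟩
  obtain ⟨π, hπ⟩ : ∃ π, π = quotSpπ ((yon S).map s) ((yon S).map t) := ⟨_, rfl⟩
  obtain ⟨π', hπ'⟩ : ∃ π', π' = quotSpπ ((yon S).map s') ((yon S).map t') := ⟨_, rfl⟩
  rw [← hπ, ← hπ'] at hψ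
  have hπc : (yon S).map s ≫ π = (yon S).map t ≫ π := by rw [hπ]; exact quotSp_condition _ _
  have hπe : Epi π := by
    rw [hπ]
    show Epi (coequalizer.π ((yon S).map s) ((yon S).map t))
    infer_instance
  have hπ'e : Epi π' := by
    rw [hπ']
    show Epi (coequalizer.π ((yon S).map s') ((yon S).map t'))
    infer_instance
  -- points with the same image in the quotient are related
  have hpts : ∀ u₁ u : U.left, Points.ofPt π u₁ = Points.ofPt π u →
      ∃ ρ : R.left, t.left ρ = u₁ ∧ s.left ρ = u := by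
    intro u₁ u h
    have sq := IsPullback.of_hasPullback π π
    obtain ⟨z, hz1, hz2⟩ := exists_point_of_isPullback sq (Points.ofScheme U u₁) (Points.ofScheme U u)
      (by rw [← Points.ofPt_eq_map_ofScheme, ← Points.ofPt_eq_map_ofScheme]; exact h)
    have w : (yon S).map t ≫ π = (yon S).map s ≫ π := hπc.symm
    have hepi : Epi (pullback.lift ((yon S).map t) ((yon S).map s) w) := by
      subst hπ
      exact epi_lift_of_isPreEqvRelSp hpre
    obtain ⟨r, hr⟩ := Groth.Agent.Lib.Helper15.isSurjectiveMor_of_epi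
      (pullback.lift ((yon S).map t) ((yon S).map s) w) z
    refine ⟨Points.toScheme R r, ?_, ?_⟩
    · apply ofScheme_injective U
      rw [← map_yon_map_ofScheme, Points.ofScheme_toScheme, ← hz1, ← hr, ← Points.map_comp, pullback.lift_fst]
    · apply ofScheme_injective U
      rw [← map_yon_map_ofScheme, Points.ofScheme_toScheme, ← hz2, ← hr, ← Points.map_comp, pullback.lift_snd]
  obtain ⟨WF, hWF⟩ : ∃ WF : Set (Points (quotSp ((yon S).map s) ((yon S).map t))),
      WF = Set.range (Points.map ψ) := ⟨_, rfl⟩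
  have hgpt : ∀ u' : U'.left, Points.map ψ (Points.map π' (Points.ofScheme U' u')) =
      Points.ofPt π (g.left u') := by
    intro u'
    rw [← Points.map_comp, hψ, Points.map_comp, map_yon_map_ofScheme, ← Points.ofPt_eq_map_ofScheme]
  have hkey : ∀ u : U.left, Points.ofPt π u ∈ WF ↔ u ∈ W := by
    intro u
    rw [hWF, hW]
    constructor
    · rintro ⟨x', hx'⟩
      obtain ⟨y', rfl⟩ := Groth.Agent.Lib.Helper15.isSurjectiveMor_of_epi π' x'
      obtain ⟨u', rfl⟩ : ∃ u', y' = Points.ofScheme U' u' := ⟨_, (Points.ofScheme_toScheme U' y').symm⟩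
      rw [hgpt] at hx'
      obtain ⟨ρ, hρ1, hρ2⟩ := hpts _ _ hx'
      exact ⟨u', ρ, hρ1, hρ2⟩
    · rintro ⟨u', ρ, hρ1, hρ2⟩
      refine ⟨Points.map π' (Points.ofScheme U' u'), ?_⟩
      rw [hgpt, ← hρ1, ← ofPt_yon_map_comp, ← hπc, ofPt_yon_map_comp, hρ2]
  have hWFo : IsOpen WF := by
    rw [Points.isOpen_iff]
    intro T a
    obtain ⟨Rc, hRc, hlift'⟩ := (epi_iff_locally_lift π).1 hπe T a
    obtain ⟨K, V, c, hcR, hcov⟩ := exists_fppf_family_of_mem_J Rc hRc
    refine isOpen_of_fpqc_cover (fun k => (c k).left) hcov _ (fun k => ?_)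
    obtain ⟨b, hb⟩ := hlift' (c k) (hcR k)
    obtain ⟨b₀, rfl⟩ := (yon S).map_surjective b
    have hpre' : (c k).left ⁻¹' (Points.ofPt a ⁻¹' WF) = b₀.left ⁻¹' (W : Set U.left) := by
      ext x
      have h1 : Points.ofPt a ((c k).left x) = Points.ofPt π (b₀.left x) := by
        rw [← ofPt_yon_map_comp, ← hb, ofPt_yon_map_comp]
      show Points.ofPt a ((c k).left x) ∈ WF ↔ b₀.left x ∈ W
      rw [h1]
      exact hkey _
    rw [hpre']
    exact W.2.preimage b₀.left.continuous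
  obtain ⟨ψ₀, hψ₀⟩ := exists_factor_openSub_of_range_subset WF ψ (by rw [hWF])
  have hmono₀ : Mono ψ₀ := mono_of_mono_fac hψ₀
  have hepi₀ : Epi ψ₀ := by
    rw [epi_iff_locally_lift]
    intro T y
    obtain ⟨a, ha⟩ : ∃ a, a = y ≫ openSubι _ WF := ⟨_, rfl⟩
    have haW : ∀ x, Points.ofPt a x ∈ WF := (exists_factor_openSub_iff WF a).1 ⟨y, ha.symm⟩
    obtain ⟨Rc, hRc, hl1⟩ := (epi_iff_locally_lift π).1 hπe T a
    obtain ⟨Sg, hSg⟩ : ∃ Sg : Sieve T, ∀ {T' : Over S} (d : T' ⟶ T), Sg d ↔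
        ∃ x : (yon S).obj T' ⟶ quotSp ((yon S).map s') ((yon S).map t'), x ≫ ψ₀ = (yon S).map d ≫ y := by
      refine ⟨{ arrows := fun T' d => ∃ x : (yon S).obj T' ⟶ quotSp ((yon S).map s') ((yon S).map t'),
                  x ≫ ψ₀ = (yon S).map d ≫ y
                downward_closed := ?_ }, fun d => Iff.rfl⟩
      rintro Y Z d ⟨x, hx⟩ e
      exact ⟨(yon S).map e ≫ x, by rw [Category.assoc, hx, ← Category.assoc, ← Functor.map_comp]⟩
    refine ⟨Sg, ?_, fun T' d hd => (hSg d).1 hd⟩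
    refine (J S).transitive hRc Sg ?_
    intro T₁ c hc
    obtain ⟨b, hb⟩ := hl1 c hc
    obtain ⟨b₀, rfl⟩ := (yon S).map_surjective b
    have hbW : ∀ x : T₁.left, b₀.left x ∈ W := by
      intro x
      rw [← hkey, ← ofPt_yon_map_comp, hb, ofPt_yon_map_comp]
      exact haW _
    obtain ⟨Rc', hRc', hl2⟩ := hloc T₁ b₀ hbW
    refine (J S).superset_covering ?_ hRc'
    intro T₂ d hd
    obtain ⟨u', ρ, h1, h2⟩ := hl2 d hd
    refine (hSg (d ≫ c)).2 ⟨(yon S).map u' ≫ π', ?_⟩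
    rw [← cancel_mono (openSubι _ WF)]
    have e1 : (yon S).map u' ≫ (yon S).map g = (yon S).map ρ ≫ (yon S).map t := by
      rw [← Functor.map_comp, ← Functor.map_comp, h1]
    have e2 : (yon S).map ρ ≫ (yon S).map s = (yon S).map d ≫ (yon S).map b₀ := by
      rw [← Functor.map_comp, ← Functor.map_comp, h2]
    calc (((yon S).map u' ≫ π') ≫ ψ₀) ≫ openSubι _ WF
        = (yon S).map u' ≫ π' ≫ ψ := by rw [Category.assoc, Category.assoc, hψ₀]
      _ = ((yon S).map u' ≫ (yon S).map g) ≫ π := by rw [hψ, Category.assoc]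
      _ = (yon S).map ρ ≫ (yon S).map s ≫ π := by rw [e1, Category.assoc, hπc]
      _ = ((yon S).map ρ ≫ (yon S).map s) ≫ π := (Category.assoc _ _ _).symm
      _ = (yon S).map d ≫ (yon S).map c ≫ a := by rw [e2, Category.assoc, hb]
      _ = ((yon S).map (d ≫ c) ≫ y) ≫ openSubι _ WF := by
        rw [Functor.map_comp, Category.assoc, Category.assoc, ← ha]
  have hiso : IsIso ψ₀ := isIso_of_mono_of_epi ψ₀
  have hresp : (RepWith (S := S) @IsOpenImmersion).RespectsIso :=
    MorphismProperty.IsStableUnderBaseChange.respectsIso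
  rw [← hψ₀]
  exact (MorphismProperty.cancel_left_of_respectsIso (RepWith (S := S) @IsOpenImmersion) ψ₀
    (openSubι _ WF)).2 (repWith_isOpenImmersion_openSubι WF hWFo)

/-- `QuotSh` version of `repWith_isOpenImmersion_quotSp_map`. -/
theorem repWith_isOpenImmersion_quot_map {R U R' U' : Over S} (s t : R ⟶ U) (g : U' ⟶ U) (s' t' : R' ⟶ U')
    (hE : ∀ T : Over S, _root_.Equivalence (fun a b : T ⟶ U => ∃ r : T ⟶ R, r ≫ t = a ∧ r ≫ s = b))
    (hlift : ∀ (T : Over S) (a b : T ⟶ U') (ρ : T ⟶ R), ρ ≫ t = a ≫ g → ρ ≫ s = b ≫ g →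
      ∃ ρ' : T ⟶ R', ρ' ≫ t' = a ∧ ρ' ≫ s' = b)
    (W : U.left.Opens)
    (hW : ∀ u : U.left, u ∈ W ↔ ∃ (u' : U'.left) (ρ : R.left), t.left ρ = g.left u' ∧ s.left ρ = u)
    (hloc : ∀ (T : Over S) (b : T ⟶ U), (∀ x : T.left, b.left x ∈ W) → ∃ Rc ∈ J S T,
      ∀ ⦃T' : Over S⦄ (c : T' ⟶ T), Rc c →
        ∃ (u' : T' ⟶ U') (ρ : T' ⟶ R), ρ ≫ t = u' ≫ g ∧ ρ ≫ s = c ≫ b)
    (φ : QuotSh.quot Scheme.fppfPrecoverage s' t' ⟶ QuotSh.quot Scheme.fppfPrecoverage s t)
    (hφ : QuotSh.quotπ Scheme.fppfPrecoverage s' t' ≫ φ =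
      QuotSh.repMap Scheme.fppfPrecoverage g ≫ QuotSh.quotπ Scheme.fppfPrecoverage s t) :
    RepWith @IsOpenImmersion φ := by
  obtain ⟨e, he⟩ := exists_iso_quot_quotSp s t
  obtain ⟨e', he'⟩ := exists_iso_quot_quotSp s' t'
  have hψ : quotSpπ ((yon S).map s') ((yon S).map t') ≫ (e'.inv ≫ φ ≫ e.hom) =
      (yon S).map g ≫ quotSpπ ((yon S).map s) ((yon S).map t) := by
    have h1 : quotSpπ ((yon S).map s') ((yon S).map t') =
        (QuotSh.repIsoUliftYoneda Scheme.fppfPrecoverage U').inv ≫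
          QuotSh.quotπ Scheme.fppfPrecoverage s' t' ≫ e'.hom := by
      rw [he', Iso.inv_hom_id_assoc]
    rw [h1]
    simp only [Category.assoc, Iso.hom_inv_id_assoc]
    rw [reassoc_of% hφ, he, ← Category.assoc (QuotSh.repMap Scheme.fppfPrecoverage g), repIso_naturality,
      Category.assoc, Iso.inv_hom_id_assoc]
  have hrep := repWith_isOpenImmersion_quotSp_map s t g s' t' (isPreEqvRelSp_yon s t hE) hlift W hW hloc _ hψ
  have hresp : (RepWith (S := S) @IsOpenImmersion).RespectsIso :=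
    MorphismProperty.IsStableUnderBaseChange.respectsIso
  have h2 : φ = e'.hom ≫ (e'.inv ≫ φ ≫ e.hom) ≫ e.inv := by simp
  rw [h2]
  exact (MorphismProperty.cancel_left_of_respectsIso _ e'.hom _).2
    ((MorphismProperty.cancel_right_of_respectsIso _ _ e.inv).2 hrep)

end Groth.Agent.Lib.Helper16.QuotOpen
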