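import Groth.Agent.Lib.Helper16.FtPtRing
import Groth.Agent.Lib.Helper16.Charts
import Groth.Agent.Lib.Helper16.LocP
import Groth.Agent.Lib.Helper16.ChartDiagram
import Groth.Agent.Lib.Helper16.SchemeTop

/-!
# Helper library (helper16): finite type points of algebraic spaces
-/

set_option autoImplicit false
universe u
open CategoryTheory CategoryTheory.Limits AlgebraicGeometry Opposite

namespace Groth.Agent.Lib.Helper16.FtPt

open AlgSp Groth.Agent.Lib.Helper16

variable {S : Scheme.{u}}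

/-- `x` is a finite type point of `X`. -/
def IsFtPt (X : Sp S) (x : Points X) : Prop :=
  ∃ (k : Type u) (_ : Field k) (str : Spec (CommRingCat.of k) ⟶ S)
    (ξ : (yon S).obj (Over.mk str) ⟶ X),
    LocP @LocallyOfFiniteType ξ ∧ Points.ofPt ξ (IsLocalRing.closedPoint k) = x

/-- A nonempty locally closed subset of a scheme contains a point that is closed in some open subscheme. -/
theorem exists_open_closedPoint_of_isLocallyClosed (U : Scheme.{u}) (T : Set U) (hT : IsLocallyClosed T)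
    (hne : T.Nonempty) :
    ∃ (V : Scheme.{u}) (j : V ⟶ U) (_ : IsOpenImmersion j) (v : V), j v ∈ T ∧ IsClosed ({v} : Set V) := by
  obtain ⟨O, C, hO, hC, rfl⟩ := hT
  obtain ⟨u, huO, huC⟩ := hne
  obtain ⟨_, ⟨V, hV, rfl⟩, huV, hVO⟩ :=
    U.isBasis_affineOpens.exists_subset_of_mem_open huO hO
  let V : U.Opens := V
  have hVaff : IsAffine V.toScheme := hV
  have hcl : IsClosed (V.ι ⁻¹' C) := hC.preimage V.ι.continuous
  have hr : u ∈ Set.range V.ι := by rw [Scheme.Opens.range_ι]; exact huV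
  obtain ⟨z, hz⟩ := hr
  obtain ⟨v, hv, hvcl⟩ := hcl.exists_closed_singleton ⟨z, by rw [Set.mem_preimage, hz]; exact huC⟩
  refine ⟨V.toScheme, V.ι, inferInstance, v, ⟨hVO ?_, hv⟩, hvcl⟩
  have : V.ι v ∈ Set.range V.ι := ⟨v, rfl⟩
  rwa [Scheme.Opens.range_ι] at this

/-- The image of a closed point of an etale chart is a finite type point. -/
theorem isFtPt_of_isClosed {X : Sp S} {U : Over S} (φ : (yon S).obj U ⟶ X) (hφ : RepWith @Etale φ)
    (u : ↥U.left) (hu : IsClosed ({u} : Set ↥U.left)) : IsFtPt X (Points.ofPt φ u) := by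
  refine ⟨(FieldPt.ofPt φ u).K, (FieldPt.ofPt φ u).field, (FieldPt.ofPt φ u).str,
    (FieldPt.ofPt φ u).toHom, ?_, Points.ofPt_toHom _ _⟩
  rw [FieldPt.toHom_ofPt]
  have hci : IsClosedImmersion (U.left.fromSpecResidueField u) :=
    isClosed_singleton_iff_isClosedImmersion.mp hu
  have h1 : RepWith @LocallyOfFiniteType ((yon S).map
      (Over.homMk (U.left.fromSpecResidueField u) rfl :
        Over.mk (U.left.fromSpecResidueField u ≫ U.hom) ⟶ U)) :=
    (repWith_yon_map_iff _ _).2 (by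
      show LocallyOfFiniteType (U.left.fromSpecResidueField u); infer_instance)
  have h2 : RepWith @LocallyOfFiniteType φ :=
    MorphismProperty.relative_monotone (fun _ _ k hk => by
      have : Etale k.left := hk
      show LocallyOfFiniteType k.left
      infer_instance) _ hφ
  refine locP_of_repWith _ @LocallyOfFiniteType (fun A B C m i hm hi => ?_) _
    ((RepWith @LocallyOfFiniteType).comp_mem _ _ h1 h2)
  have : Etale m := hm
  have : LocallyOfFiniteType i := hi
  infer_instance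

/-- A chart restricted to an open subscheme. -/
theorem isFtPt_of_isClosed_opens {X : Sp S} {U : Over S} (φ : (yon S).obj U ⟶ X) (hφ : RepWith @Etale φ)
    {V : Scheme.{u}} (j : V ⟶ U.left) [IsOpenImmersion j] (v : V) (hv : IsClosed ({v} : Set V)) :
    IsFtPt X (Points.ofPt φ (j v)) := by
  have h1 : RepWith @Etale ((yon S).map (Over.homMk j rfl : Over.mk (j ≫ U.hom) ⟶ U)) :=
    (repWith_yon_map_iff _ _).2 (by show Etale j; infer_instance)
  have h2 := isFtPt_of_isClosed (X := X) (U := Over.mk (j ≫ U.hom))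
    ((yon S).map (Over.homMk j rfl : Over.mk (j ≫ U.hom) ⟶ U) ≫ φ)
    ((RepWith @Etale).comp_mem _ _ h1 hφ) v hv
  rwa [ofPt_yon_map_comp] at h2

/-- A finite type point of an algebraic space is the image of a closed point of an etale chart. -/
theorem exists_isClosed_of_isFtPt {X : Sp S} (hX : IsAlgSpace X) {x : Points X} (h : IsFtPt X x) :
    ∃ (U : Over S) (φ : (yon S).obj U ⟶ X) (u : ↥U.left), RepWith @Etale φ ∧
      IsClosed ({u} : Set ↥U.left) ∧ Points.ofPt φ u = x := by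
  obtain ⟨k, _, str, ξ, hξ, rfl⟩ := h
  obtain ⟨U₀, φ₀, hφ₀e, hφ₀s⟩ := hX.atlas
  obtain ⟨u₀, hu₀⟩ := ofPt_surjective_of_surjective φ₀ hφ₀s (Points.ofPt ξ (IsLocalRing.closedPoint k))
  obtain ⟨W, snd, fst, sq⟩ := hφ₀e.rep ξ
  obtain ⟨c, rfl⟩ := (yon S).map_surjective fst
  have hsnd : Etale snd.left := hφ₀e.property _ _ _ sq
  obtain ⟨w, hw1, hw2⟩ := exists_point_of_isPullback_yon_yon sq u₀ (IsLocalRing.closedPoint k) hu₀
  have hc : LocallyOfFiniteType c.left :=
    hξ ((yon S).map snd) φ₀ c ((repWith_yon_map_iff _ _).2 hsnd) hφ₀e sq.w.symm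
  -- `W` is discrete
  have hlqf : LocallyQuasiFinite snd.left := locallyQuasiFinite_of_etale snd.left
  have hdisc : _root_.IsDiscrete (snd.left ⁻¹' {IsLocalRing.closedPoint k}) :=
    snd.left.isDiscrete_preimage_singleton _
  have huniv : snd.left ⁻¹' {IsLocalRing.closedPoint k} = Set.univ := by
    ext z
    simp only [Set.mem_preimage, Set.mem_singleton_iff, Set.mem_univ, iff_true]
    exact Subsingleton.elim (α := PrimeSpectrum k) _ _
  rw [huniv, isDiscrete_univ_iff] at hdisc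
  have hwcl : IsClosed ({w} : Set ↥W.left) := isClosed_discrete _
  obtain ⟨U', j, hj, u', hu', hcl⟩ := exists_isOpenImmersion_isClosed_singleton c.left w hwcl
  have h1 : RepWith @Etale ((yon S).map (Over.homMk j rfl : Over.mk (j ≫ U₀.hom) ⟶ U₀)) :=
    (repWith_yon_map_iff _ _).2 (by show Etale j; infer_instance)
  refine ⟨Over.mk (j ≫ U₀.hom), (yon S).map (Over.homMk j rfl : Over.mk (j ≫ U₀.hom) ⟶ U₀) ≫ φ₀, u',
    (RepWith @Etale).comp_mem _ _ h1 hφ₀e, hcl, ?_⟩
  rw [ofPt_yon_map_comp]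
  show Points.ofPt φ₀ (j u') = _
  rw [hu', hw1, hu₀]

/-- Every nonempty locally closed subset of the points of an algebraic space contains a finite type point. -/
theorem exists_isFtPt_of_isLocallyClosed {X : Sp S} (hX : IsAlgSpace X) (T : Set (Points X))
    (hT : IsLocallyClosed T) (hne : T.Nonempty) : ∃ x ∈ T, IsFtPt X x := by
  obtain ⟨t, ht⟩ := hne
  obtain ⟨U₀, φ₀, hφ₀e, hφ₀s⟩ := hX.atlas
  obtain ⟨u₀, rfl⟩ := ofPt_surjective_of_surjective φ₀ hφ₀s t
  obtain ⟨V, j, hj, v, hvT, hv⟩ := exists_open_closedPoint_of_isLocallyClosed U₀.left (Points.ofPt φ₀ ⁻¹' T)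
    (hT.preimage (Points.continuous_ofPt φ₀)) ⟨u₀, ht⟩
  exact ⟨_, hvT, isFtPt_of_isClosed_opens φ₀ hφ₀e j v hv⟩

/-- Finite type points are dense in every closed subset. -/
theorem subset_closure_isFtPt {X : Sp S} (hX : IsAlgSpace X) (T : Set (Points X)) (hT : IsClosed T) :
    T ⊆ closure {x | x ∈ T ∧ IsFtPt X x} := by
  intro t ht
  rw [mem_closure_iff]
  intro o ho hto
  obtain ⟨x, ⟨hxo, hxT⟩, hx⟩ := exists_isFtPt_of_isLocallyClosed hX (o ∩ T)
    (ho.isLocallyClosed.inter hT.isLocallyClosed) ⟨t, hto, ht⟩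
  exact ⟨x, hxo, hxT, hx⟩

/-- Finite type points lift along surjective morphisms. -/
theorem exists_isFtPt_map_eq {X Y : Sp S} (hX : IsAlgSpace X) (hY : IsAlgSpace Y) (f : X ⟶ Y)
    (hs : Function.Surjective (Points.map f)) (y : Points Y) (hy : IsFtPt Y y) :
    ∃ x : Points X, Points.map f x = y ∧ IsFtPt X x := by
  obtain ⟨V, b, v, hb, hv, rfl⟩ := exists_isClosed_of_isFtPt hY hy
  obtain ⟨x₀, hx₀⟩ := hs (Points.ofPt b v)
  obtain ⟨U₀, a₀, ha₀e, ha₀s⟩ := hX.atlas
  obtain ⟨u₀, rfl⟩ := ofPt_surjective_of_surjective a₀ ha₀s x₀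
  obtain ⟨U, h, c, h1, h2, -, sq, -⟩ := exists_chart_diagram f b hb a₀ ha₀e
  rw [Points.map_ofPt] at hx₀
  obtain ⟨u, hu1, hu2⟩ := exists_point_of_isPullback_yon_yon sq v u₀ hx₀.symm
  obtain ⟨V', j, hj, v', hv'T, hv'⟩ := exists_open_closedPoint_of_isLocallyClosed U.left (h.left ⁻¹' {v})
    (hv.preimage h.left.continuous).isLocallyClosed ⟨u, hu1⟩
  refine ⟨_, ?_, isFtPt_of_isClosed_opens _ h1 j v' hv'⟩
  rw [Points.map_ofPt, h2, ofPt_yon_map_comp]
  exact congrArg _ hv'T

end Groth.Agent.Lib.Helper16.FtPt
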