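import Groth.Agent.Lib.Helper16.MonoPt
import Groth.Agent.Lib.Helper16.GeomRed
import Groth.Agent.Lib.Helper16.FtPt
import Groth.Agent.Lib.Helper22.SmoothRed

/-!
# Helper library (helper16): monomorphisms from schemes with field stalks; schemes etale over a field
-/

set_option autoImplicit false
universe u
open CategoryTheory CategoryTheory.Limits AlgebraicGeometry Opposite Topology

namespace Groth.Agent.Lib.Helper16.ClosedPt

open AlgSp Groth.Agent.Lib.Helper16

theorem isField_stalk_of_no_specializations (U : Scheme.{u}) [IsReduced U]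
    (h : ∀ u u' : U, u' ⤳ u → u = u') (u : U) : IsField (U.presheaf.stalk u) := by
  apply isField_stalk_of_closure_mem_irreducibleComponents
  refine ⟨isIrreducible_singleton.closure, fun Z hZ hle => ?_⟩
  obtain ⟨η, hη⟩ := QuasiSober.sober hZ.closure isClosed_closure
  have huZ : u ∈ closure Z := subset_closure (hle (subset_closure rfl))
  have hs : η ⤳ u := hη.specializes huZ
  have := h u η hs
  subst this
  exact subset_closure.trans hη.def.ge

/-- A scheme etale over the spectrum of a field is discrete. -/
theorem discreteTopology_of_etale_field {P : Scheme.{u}} (k : Type u) [Field k]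
    (g : P ⟶ Spec (CommRingCat.of k)) [Etale g] : DiscreteTopology ↥P := by
  have hlqf : LocallyQuasiFinite g := locallyQuasiFinite_of_etale g
  have hdisc : _root_.IsDiscrete (g ⁻¹' {IsLocalRing.closedPoint k}) :=
    g.isDiscrete_preimage_singleton _
  have huniv : g ⁻¹' {IsLocalRing.closedPoint k} = Set.univ := by
    ext z
    simp only [Set.mem_preimage, Set.mem_univ, iff_true]
    exact Subsingleton.elim (α := PrimeSpectrum k) _ _
  rw [huniv, isDiscrete_univ_iff] at hdisc
  exact hdisc

/-- The stalks of a scheme etale over the spectrum of a field are fields. -/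
theorem isField_stalk_of_etale_field {P : Scheme.{u}} (k : Type u) [Field k]
    (g : P ⟶ Spec (CommRingCat.of k)) [Etale g] (π : P) : IsField (P.presheaf.stalk π) := by
  have := discreteTopology_of_etale_field k g
  have hPred : IsReduced P := Groth.Agent.Lib.Helper22.SmoothRed.isReduced_of_smooth g
  exact isField_stalk_of_no_specializations P (fun v v' hs => hs.eq.symm) π

/-- A monomorphism of schemes whose source has field stalks is surjective on stalks. -/
theorem surjectiveOnStalks_of_mono_of_isField {T V : Scheme.{u}} (g : T ⟶ V) [Mono g]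
    (hT : ∀ t : T, IsField (T.presheaf.stalk t)) : SurjectiveOnStalks g := by
  refine ⟨fun t => ?_⟩
  have hcomp := Scheme.Hom.SpecMap_residueFieldMap_fromSpecResidueField g t
  have hmono : Mono (Spec.map (g.residueFieldMap t) ≫ V.fromSpecResidueField (g t)) := by
    rw [hcomp]; infer_instance
  have hmono' : Mono (Spec.map (g.residueFieldMap t)) := mono_of_mono _ (V.fromSpecResidueField (g t))
  have hiso : IsIso (Spec.map (g.residueFieldMap t)) :=
    isIso_of_mono_of_nonempty_of_field (K := V.residueField (g t)) (Spec.map (g.residueFieldMap t))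
  have hiso1 : IsIso (Scheme.Spec.map (g.residueFieldMap t).op) := hiso
  have hiso2 : IsIso (g.residueFieldMap t).op := isIso_of_reflects_iso _ Scheme.Spec
  have hiso3 : IsIso (g.residueFieldMap t) := isIso_of_op _
  have hbij : Function.Bijective (g.residueFieldMap t) := ConcreteCategory.bijective_of_isIso _
  have hresT : Function.Injective (T.residue t) := by
    show Function.Injective (IsLocalRing.residue (T.presheaf.stalk t))
    rw [RingHom.injective_iff_ker_eq_bot, IsLocalRing.ker_residue]
    exact IsLocalRing.isField_iff_maximalIdeal_eq.1 (hT t)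
  have hsq := Scheme.residue_residueFieldMap g t
  intro y
  obtain ⟨w, hw⟩ := hbij.2 (T.residue t y)
  obtain ⟨z, hz⟩ := V.residue_surjective (g t) w
  refine ⟨z, hresT ?_⟩
  have h1 : (V.residue (g t) ≫ g.residueFieldMap t) z = (g.stalkMap t ≫ T.residue t) z := by rw [hsq]
  rw [CommRingCat.comp_apply, CommRingCat.comp_apply, hz, hw] at h1
  exact h1.symm

/-- A morphism from an affine scheme is separated. -/
theorem isSeparated_of_isAffine {W S : Scheme.{u}} [IsAffine W] (g : W ⟶ S) : IsSeparated g := by
  have : IsSeparated (g ≫ terminal.from S) := by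
    rw [terminal.comp_from]; infer_instance
  exact IsSeparated.of_comp g (terminal.from S)

/-- If the composition of a field-valued point `m` of `V` with `g : V ⟶ S` is universally closed, then the image point of
`m` is closed in `V`. -/
theorem isClosed_singleton_of_universallyClosed_comp {V S : Scheme.{u}} (K : Type u) [Field K]
    (m : Spec (CommRingCat.of K) ⟶ V) (g : V ⟶ S) [huc : UniversallyClosed (m ≫ g)] :
    IsClosed ({m (IsLocalRing.closedPoint K)} : Set V) := by
  rw [← closure_subset_iff_isClosed]
  intro v' hv'
  have hspec : m (IsLocalRing.closedPoint K) ⤳ v' := specializes_iff_mem_closure.2 hv'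
  obtain ⟨_, ⟨W₀, hW₀, rfl⟩, hv'W, -⟩ :=
    V.isBasis_affineOpens.exists_subset_of_mem_open (Set.mem_univ v') isOpen_univ
  let W : V.Opens := W₀
  have hvW : m (IsLocalRing.closedPoint K) ∈ W := hspec.mem_open W.2 hv'W
  have hWaff : IsAffine W.toScheme := hW₀
  have hrange : Set.range m ⊆ Set.range W.ι := by
    rintro _ ⟨z, rfl⟩
    rw [Scheme.Opens.range_ι, Subsingleton.elim z (IsLocalRing.closedPoint K)]
    exact hvW
  let j := IsOpenImmersion.lift W.ι m hrange
  have hj : j ≫ W.ι = m := IsOpenImmersion.lift_fac _ _ _
  have huc' : UniversallyClosed (j ≫ (W.ι ≫ g)) := by rw [← Category.assoc, hj]; exact huc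
  have hsep : IsSeparated (W.ι ≫ g) := isSeparated_of_isAffine _
  have hucj : UniversallyClosed j := UniversallyClosed.of_comp_of_isSeparated j (W.ι ≫ g)
  have hcl : IsClosed (Set.range j) := j.isClosedMap.isClosed_range
  have hjv : ∀ z, W.ι (j z) = m (IsLocalRing.closedPoint K) := fun z => by
    rw [← Scheme.Hom.comp_apply, hj, Subsingleton.elim z (IsLocalRing.closedPoint K)]
  have hs' : j (IsLocalRing.closedPoint K) ⤳ (⟨v', hv'W⟩ : W.toScheme) := by
    rw [← W.ι.isOpenEmbedding.isInducing.specializes_iff, hjv]
    exact hspec
  obtain ⟨z, hz⟩ := hs'.mem_closed hcl ⟨_, rfl⟩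
  have h1 := hjv z
  rw [hz] at h1
  exact (show v' = m (IsLocalRing.closedPoint K) from h1)

end Groth.Agent.Lib.Helper16.ClosedPt
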