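import Groth.Agent.Lib.Helper16.LocSepAlg

/-!
# Helper library (helper16): the scheme-theoretic core of "locally separated implies decent"
-/

set_option autoImplicit false
universe u v
open CategoryTheory CategoryTheory.Limits AlgebraicGeometry Opposite Topology TopologicalSpace

namespace Groth.Agent.Lib.Helper16.LocSepCore

/-- A section of an etale morphism is an open immersion. -/
theorem isOpenImmersion_of_section {W R : Scheme.{u}} (t : R ⟶ W) [Etale t] (Δ : W ⟶ R)
    (h : Δ ≫ t = 𝟙 W) : IsOpenImmersion Δ := by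
  have h1 : Etale (Δ ≫ t) := by rw [h]; infer_instance
  have h2 : Etale Δ := Etale.of_comp Δ t
  have h3 : Mono (Δ ≫ t) := by rw [h]; infer_instance
  have h4 : Mono Δ := mono_of_mono Δ t
  exact IsOpenImmersion.of_flat_of_mono Δ

/-- The value of a global function at a field-valued point is nonzero iff the point lies in the basic open. -/
theorem mem_basicOpen_iff_of_field {K : Type u} [Field K] {Y : Scheme.{u}}
    (y : Spec (CommRingCat.of K) ⟶ Y) (g : Γ(Y, ⊤)) :
    y (IsLocalRing.closedPoint K) ∈ Y.basicOpen g ↔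
      (Scheme.ΓSpecIso (CommRingCat.of K)).hom.hom (y.appTop.hom g) ≠ 0 := by
  have h1 : y (IsLocalRing.closedPoint K) ∈ Y.basicOpen g ↔
      (IsLocalRing.closedPoint K : ↥(Spec (CommRingCat.of K))) ∈ y ⁻¹ᵁ Y.basicOpen g := Iff.rfl
  rw [h1, Scheme.preimage_basicOpen_top, basicOpen_eq_of_affine']
  have h2 : (IsLocalRing.closedPoint K : PrimeSpectrum K) ∈
      PrimeSpectrum.basicOpen ((Scheme.ΓSpecIso (CommRingCat.of K)).hom.hom (y.appTop.hom g)) ↔
      (Scheme.ΓSpecIso (CommRingCat.of K)).hom.hom (y.appTop.hom g) ∉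
        (IsLocalRing.closedPoint K : PrimeSpectrum K).asIdeal := PrimeSpectrum.mem_basicOpen _ _
  refine h2.trans ?_
  show _ ∉ IsLocalRing.maximalIdeal K ↔ _
  rw [IsLocalRing.notMem_maximalIdeal, isUnit_iff_ne_zero]

/-- The scheme-theoretic core: a family of pairwise distinct field-valued points of an affine scheme `W` which are
pairwise related by an etale relation `RW` immersed in an affine scheme with two coordinates is finite. -/
theorem finite_of_immersion_core {K : Type u} [Field K] {I : Type v} {W RW Y' : Scheme.{u}} [IsAffine W]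
    [IsAffine Y'] (s t : RW ⟶ W) [Etale t] (Δ : W ⟶ RW) (hΔt : Δ ≫ t = 𝟙 W) (hΔs : Δ ≫ s = 𝟙 W)
    (fst' snd' : Y' ⟶ W)
    (hgen : ∀ Q : Subring Γ(Y', ⊤), (∀ x, fst'.appTop.hom x ∈ Q) → (∀ x, snd'.appTop.hom x ∈ Q) → Q = ⊤)
    (j' : RW ⟶ Y') [IsImmersion j'] (hj1 : j' ≫ fst' = t) (hj2 : j' ≫ snd' = s)
    (τ : I → (Spec (CommRingCat.of K) ⟶ W)) (hτ : Function.Injective τ)
    (ρ : I → I → (Spec (CommRingCat.of K) ⟶ RW)) (hρt : ∀ e e', ρ e e' ≫ t = τ e)
    (hρs : ∀ e e', ρ e e' ≫ s = τ e') (hρd : ∀ e, ρ e e = τ e ≫ Δ) : Finite I := by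
  have hΔ : IsOpenImmersion Δ := isOpenImmersion_of_section t Δ hΔt
  obtain ⟨pt, hpt⟩ : ∃ pt : ↥(Spec (CommRingCat.of K)), pt = IsLocalRing.closedPoint K := ⟨_, rfl⟩
  -- a relation point on the diagonal forces equality
  have hdiag : ∀ e e', ρ e e' pt ∈ Set.range Δ → e = e' := by
    intro e e' hmem
    have hrange : Set.range (ρ e e') ⊆ Set.range Δ := by
      rintro _ ⟨z, rfl⟩
      have : z = pt := Subsingleton.elim (α := PrimeSpectrum K) _ _
      rw [this]; exact hmem
    have hl : IsOpenImmersion.lift Δ (ρ e e') hrange ≫ Δ = ρ e e' := IsOpenImmersion.lift_fac _ _ _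
    apply hτ
    rw [← hρt e e', ← hρs e e', ← hl, Category.assoc, Category.assoc, hΔt, hΔs]
  -- the diagonal is cut out by an open of `Y'`
  have hD : IsOpen (Set.range Δ) := Δ.isOpenEmbedding.isOpen_range
  obtain ⟨V, hVo, hV⟩ := (j'.isEmbedding.isInducing.isOpen_iff).1 hD
  have hy : ∀ w : W, j' (Δ w) ∈ V := by
    intro w
    have : Δ w ∈ j' ⁻¹' V := by rw [hV]; exact ⟨w, rfl⟩
    exact this
  have hbasis := isBasis_basicOpen Y'
  have hex : ∀ w : W, ∃ g : Γ(Y', ⊤), j' (Δ w) ∈ Y'.basicOpen g ∧ (Y'.basicOpen g : Set Y') ⊆ V := by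
    intro w
    obtain ⟨_, ⟨_, ⟨g, rfl⟩, rfl⟩, h1, h2⟩ := hbasis.exists_subset_of_mem_open (hy w) hVo
    exact ⟨g, h1, h2⟩
  choose g hg1 hg2 using hex
  let N : W → W.Opens := fun w => (Δ ≫ j') ⁻¹ᵁ (Y'.basicOpen (g w))
  have hwN : ∀ w, w ∈ N w := fun w => by
    show (Δ ≫ j') w ∈ Y'.basicOpen (g w)
    rw [Scheme.Hom.comp_apply]; exact hg1 w
  obtain ⟨T, hT⟩ := isCompact_univ.elim_finite_subcover (fun w => (N w : Set W)) (fun w => (N w).isOpen)
    (fun w _ => Set.mem_iUnion.2 ⟨w, hwN w⟩)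
  -- evaluation
  let iso : Γ(Spec (CommRingCat.of K), ⊤) →+* K := (Scheme.ΓSpecIso (CommRingCat.of K)).hom.hom
  let ev : Γ(Y', ⊤) →+* (I → I → K) :=
    Pi.ringHom fun e => Pi.ringHom fun e' => iso.comp (ρ e e' ≫ j').appTop.hom
  have hev : ∀ gg e e', ev gg e e' = iso ((ρ e e' ≫ j').appTop.hom gg) := fun _ _ _ => rfl
  have hQ : (LocSepAlg.finRankFun I I K).comap ev = ⊤ := by
    apply hgen
    · intro x
      show ev (fst'.appTop.hom x) ∈ LocSepAlg.finRankFun I I K
      have : ev (fst'.appTop.hom x) = fun e _ => iso ((τ e).appTop.hom x) := by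
        funext e e'
        rw [hev]
        have h1 : (ρ e e' ≫ j') ≫ fst' = τ e := by rw [Category.assoc, hj1, hρt]
        rw [← h1, Scheme.Hom.comp_appTop]
        rfl
      rw [this]
      exact LocSepAlg.mem_finRankFun_of_left _
    · intro x
      show ev (snd'.appTop.hom x) ∈ LocSepAlg.finRankFun I I K
      have : ev (snd'.appTop.hom x) = fun _ e' => iso ((τ e').appTop.hom x) := by
        funext e e'
        rw [hev]
        have h1 : (ρ e e' ≫ j') ≫ snd' = τ e' := by rw [Category.assoc, hj2, hρs]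
        rw [← h1, Scheme.Hom.comp_appTop]
        rfl
      rw [this]
      exact LocSepAlg.mem_finRankFun_of_right _
  have hmem : ∀ gg, ev gg ∈ LocSepAlg.finRankFun I I K := by
    intro gg
    have : gg ∈ (LocSepAlg.finRankFun I I K).comap ev := by rw [hQ]; trivial
    exact this
  have hF : ∀ w, {e : I | τ e pt ∈ N w}.Finite := by
    intro w
    refine LocSepAlg.finite_of_diagonal (ev (g w)) (hmem _) _ ?_ ?_
    · intro e he
      rw [hev]
      have h1 := (mem_basicOpen_iff_of_field (ρ e e ≫ j') (g w)).1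
      apply h1
      rw [hρd e, ← hpt]
      have he' : (Δ ≫ j') (τ e pt) ∈ Y'.basicOpen (g w) := he
      rw [Scheme.Hom.comp_apply, Scheme.Hom.comp_apply]
      rw [Scheme.Hom.comp_apply] at he'
      exact he'
    · intro e _ e' _ hne
      by_contra hne0
      rw [hev] at hne0
      have h0 := (mem_basicOpen_iff_of_field (ρ e e' ≫ j') (g w)).2 hne0
      rw [← hpt, Scheme.Hom.comp_apply] at h0
      have h1 : j' (ρ e e' pt) ∈ V := hg2 w h0
      have h2 : ρ e e' pt ∈ Set.range Δ := by rw [← hV]; exact h1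
      exact hne (hdiag e e' h2)
  have huniv : (Set.univ : Set I) ⊆ ⋃ w ∈ T, {e : I | τ e pt ∈ N w} := by
    intro e _
    have := hT (Set.mem_univ (τ e pt))
    simp only [Set.mem_iUnion] at this ⊢
    exact this
  exact Set.finite_univ_iff.1 ((T.finite_toSet.biUnion fun w _ => hF w).subset huniv)

end Groth.Agent.Lib.Helper16.LocSepCore
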