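import Groth.Agent.Lib.Helper16.MonoPt2
import Groth.Agent.Lib.Helper16.LocSepCore

/-!
# Helper library (helper16): elementary etale neighbourhoods
-/

set_option autoImplicit false
universe u
open CategoryTheory CategoryTheory.Limits AlgebraicGeometry Opposite

namespace Groth.Agent.Lib.Helper16.ElemNbhd

open AlgSp Groth.Agent.Lib.Helper16

variable {S : Scheme.{u}}

/-- The canonical morphism `Spec κ(u) ⟶ U` over `S`. -/
noncomputable abbrev kappa (U : Over S) (u : ↥U.left) :
    Over.mk (U.left.fromSpecResidueField u ≫ U.hom) ⟶ U :=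
  Over.homMk (U.left.fromSpecResidueField u) rfl

instance mono_kappa (U : Over S) (u : ↥U.left) : Mono (kappa U u) :=
  Over.mono_of_mono_left _

/-- The morphism of residue field spectra induced by a morphism over `S`. -/
noncomputable def resMap {U' U : Over S} (h : U' ⟶ U) (v : ↥U'.left) :
    Over.mk (U'.left.fromSpecResidueField v ≫ U'.hom) ⟶
      Over.mk (U.left.fromSpecResidueField (h.left v) ≫ U.hom) :=
  Over.homMk (Spec.map (h.left.residueFieldMap v)) (by
    show Spec.map (h.left.residueFieldMap v) ≫ U.left.fromSpecResidueField (h.left v) ≫ U.hom =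
      U'.left.fromSpecResidueField v ≫ U'.hom
    rw [← Category.assoc, Scheme.Hom.SpecMap_residueFieldMap_fromSpecResidueField, Category.assoc,
      Over.w h])

theorem resMap_kappa {U' U : Over S} (h : U' ⟶ U) (v : ↥U'.left) :
    resMap h v ≫ kappa U (h.left v) = kappa U' v ≫ h := by
  ext
  exact Scheme.Hom.SpecMap_residueFieldMap_fromSpecResidueField h.left v

/-- Cancellation through a monomorphic point. -/
theorem cancel_of_mono_ofPt {F : Sp S} {U U' : Over S} (a : (yon S).obj U ⟶ F) (h : U' ⟶ U)
    (v : ↥U'.left) (hm : Mono (FieldPt.ofPt a (h.left v)).toHom) {Z : Sp S}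
    (α β : Z ⟶ (yon S).obj (Over.mk (U'.left.fromSpecResidueField v ≫ U'.hom)))
    (hαβ : α ≫ (yon S).map (kappa U' v) ≫ (yon S).map h ≫ a =
      β ≫ (yon S).map (kappa U' v) ≫ (yon S).map h ≫ a) :
    α ≫ (yon S).map (kappa U' v) ≫ (yon S).map h = β ≫ (yon S).map (kappa U' v) ≫ (yon S).map h := by
  have e : (yon S).map (kappa U' v) ≫ (yon S).map h =
      (yon S).map (resMap h v) ≫ (yon S).map (kappa U (h.left v)) := by
    rw [← Functor.map_comp, ← Functor.map_comp, resMap_kappa]
  have e2 : (FieldPt.ofPt a (h.left v)).toHom = (yon S).map (kappa U (h.left v)) ≫ a :=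
    FieldPt.toHom_ofPt a _
  have h3 : (α ≫ (yon S).map (resMap h v)) ≫ (FieldPt.ofPt a (h.left v)).toHom =
      (β ≫ (yon S).map (resMap h v)) ≫ (FieldPt.ofPt a (h.left v)).toHom := by
    rw [e2, Category.assoc, Category.assoc, ← Category.assoc ((yon S).map (resMap h v)), ← e,
      Category.assoc]
    exact hαβ
  have h4 := hm.right_cancellation _ _ h3
  rw [e, ← Category.assoc, h4, Category.assoc]

/-- Two morphisms through the same monomorphic point which agree after the chart agree. -/
theorem kappa_eq_of_mono {F : Sp S} {U : Over S} (a : (yon S).obj U ⟶ F) {u u' : ↥U.left} (e : u = u')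
    (hm : Mono (FieldPt.ofPt a u).toHom) {T : Over S}
    (σ : T ⟶ Over.mk (U.left.fromSpecResidueField u ≫ U.hom))
    (τ : T ⟶ Over.mk (U.left.fromSpecResidueField u' ≫ U.hom))
    (hστ : (yon S).map σ ≫ (yon S).map (kappa U u) ≫ a = (yon S).map τ ≫ (yon S).map (kappa U u') ≫ a) :
    σ ≫ kappa U u = τ ≫ kappa U u' := by
  subst e
  have e2 : (FieldPt.ofPt a u).toHom = (yon S).map (kappa U u) ≫ a := FieldPt.toHom_ofPt a _
  rw [← e2] at hστ
  have h4 := hm.right_cancellation _ _ hστ
  rw [(yon S).map_injective h4]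

end Groth.Agent.Lib.Helper16.ElemNbhd
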