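import Mathlib.AlgebraicGeometry.AffineScheme
import Mathlib.RingTheory.Spectrum.Prime.Topology
import Mathlib.RingTheory.Ideal.Maximal

/-!
# Helper library (helper16): a Baire-type property of closed subsets of prime spectra
-/

set_option autoImplicit false
universe u
open CategoryTheory AlgebraicGeometry

namespace Groth.Agent.Lib.Helper16.SpecBaire

/-- Countably many opens, each dense in the closed set `C` of a prime spectrum, have a common point in `C`. -/
theorem exists_mem_iInter_of_dense {A : Type*} [CommRing A] (C : Set (PrimeSpectrum A)) (hC : IsClosed C)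
    (hne : C.Nonempty) (O : ℕ → Set (PrimeSpectrum A)) (hO : ∀ n, IsOpen (O n))
    (hdense : ∀ n (V : Set (PrimeSpectrum A)), IsOpen V → (V ∩ C).Nonempty → (V ∩ C ∩ O n).Nonempty) :
    (C ∩ ⋂ n, O n).Nonempty := by
  classical
  let Good : Type _ := {g : A // ((PrimeSpectrum.basicOpen g : Set (PrimeSpectrum A)) ∩ C).Nonempty}
  have step : ∀ (n : ℕ) (g : Good), ∃ f : Good,
      (PrimeSpectrum.basicOpen f.1 : Set (PrimeSpectrum A)) ⊆ PrimeSpectrum.basicOpen g.1 ∩ O n := by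
    intro n g
    obtain ⟨p, ⟨hp1, hp2⟩, hp3⟩ := hdense n _ (PrimeSpectrum.basicOpen g.1).isOpen g.2
    obtain ⟨_, ⟨f, rfl⟩, hpf, hfsub⟩ := PrimeSpectrum.isTopologicalBasis_basic_opens.exists_subset_of_mem_open
      (show p ∈ (PrimeSpectrum.basicOpen g.1 : Set (PrimeSpectrum A)) ∩ O n from ⟨hp1, hp3⟩)
      ((PrimeSpectrum.basicOpen g.1).isOpen.inter (hO n))
    exact ⟨⟨f, p, hpf, hp2⟩, hfsub⟩
  choose F hF using step
  have h1 : ((PrimeSpectrum.basicOpen (1 : A) : Set (PrimeSpectrum A)) ∩ C).Nonempty := by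
    obtain ⟨p, hp⟩ := hne
    exact ⟨p, by simp, hp⟩
  let seq : ℕ → Good := fun n => Nat.rec ⟨1, h1⟩ (fun n g => F n g) n
  have hseq : ∀ n, (PrimeSpectrum.basicOpen (seq (n + 1)).1 : Set (PrimeSpectrum A)) ⊆
      PrimeSpectrum.basicOpen (seq n).1 ∩ O n := fun n => hF n (seq n)
  have hanti : ∀ n m, n ≤ m → (PrimeSpectrum.basicOpen (seq m).1 : Set (PrimeSpectrum A)) ⊆
      PrimeSpectrum.basicOpen (seq n).1 := by
    intro n m hnm
    induction hnm with
    | refl => exact subset_rfl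
    | step _ ih => exact ((hseq _).trans Set.inter_subset_left).trans ih
  let M : Submonoid A := Submonoid.closure (Set.range fun n => (seq n).1)
  have hM : ∀ m ∈ M, ∃ n, (PrimeSpectrum.basicOpen (seq n).1 : Set (PrimeSpectrum A)) ⊆
      PrimeSpectrum.basicOpen m := by
    intro m hm
    induction hm using Submonoid.closure_induction with
    | mem x hx =>
      obtain ⟨k, rfl⟩ := hx
      exact ⟨k, subset_rfl⟩
    | one => exact ⟨0, by simp⟩
    | mul x y _ _ hx hy =>
      obtain ⟨n₁, h₁⟩ := hx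
      obtain ⟨n₂, h₂⟩ := hy
      refine ⟨max n₁ n₂, ?_⟩
      rw [PrimeSpectrum.basicOpen_mul]
      exact Set.subset_inter ((hanti _ _ (le_max_left _ _)).trans h₁) ((hanti _ _ (le_max_right _ _)).trans h₂)
  let I : Ideal A := PrimeSpectrum.vanishingIdeal C
  have hdisj : Disjoint (I : Set A) (M : Set A) := by
    rw [Set.disjoint_left]
    intro m hmI hmM
    obtain ⟨n, hn⟩ := hM m hmM
    obtain ⟨p, hp1, hp2⟩ := (seq n).2
    have : p ∈ (PrimeSpectrum.basicOpen m : Set (PrimeSpectrum A)) := hn hp1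
    exact this ((PrimeSpectrum.mem_vanishingIdeal _ _).1 hmI p hp2)
  obtain ⟨P, hPprime, hIP, hPM⟩ := Ideal.exists_le_prime_disjoint I M hdisj
  refine ⟨⟨P, hPprime⟩, ?_, ?_⟩
  · have : (⟨P, hPprime⟩ : PrimeSpectrum A) ∈ PrimeSpectrum.zeroLocus (I : Set A) := hIP
    rwa [PrimeSpectrum.zeroLocus_vanishingIdeal_eq_closure, hC.closure_eq] at this
  · rw [Set.mem_iInter]
    intro n
    have hmem : (seq (n + 1)).1 ∈ M := Submonoid.subset_closure ⟨n + 1, rfl⟩
    have : (⟨P, hPprime⟩ : PrimeSpectrum A) ∈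
        (PrimeSpectrum.basicOpen (seq (n + 1)).1 : Set (PrimeSpectrum A)) := by
      intro hcon
      exact (Set.disjoint_left.1 hPM) hcon hmem
    exact (hseq n this).2

/-- The same for affine schemes. -/
theorem exists_mem_iInter_of_dense_of_isAffine (X : Scheme.{u}) [IsAffine X] (C : Set ↥X) (hC : IsClosed C)
    (hne : C.Nonempty) (O : ℕ → Set ↥X) (hO : ∀ n, IsOpen (O n))
    (hdense : ∀ n (V : Set ↥X), IsOpen V → (V ∩ C).Nonempty → (V ∩ C ∩ O n).Nonempty) :
    (C ∩ ⋂ n, O n).Nonempty := by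
  let h : ↥X ≃ₜ PrimeSpectrum Γ(X, ⊤) := X.isoSpec.hom.homeomorph
  have key := exists_mem_iInter_of_dense (h.symm ⁻¹' C) (hC.preimage h.symm.continuous)
    (by obtain ⟨x, hx⟩ := hne; exact ⟨h x, by simpa using hx⟩)
    (fun n => h.symm ⁻¹' O n) (fun n => (hO n).preimage h.symm.continuous) ?_
  · obtain ⟨p, hp1, hp2⟩ := key
    refine ⟨h.symm p, hp1, ?_⟩
    rw [Set.mem_iInter] at hp2 ⊢
    exact hp2
  · intro n V' hV' ⟨p, hp1, hp2⟩
    obtain ⟨x, ⟨hx1, hx2⟩, hx3⟩ := hdense n (h ⁻¹' V') (hV'.preimage h.continuous)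
      ⟨h.symm p, by simpa using hp1, hp2⟩
    exact ⟨h x, ⟨hx1, by simpa using hx2⟩, by simpa using hx3⟩

end Groth.Agent.Lib.Helper16.SpecBaire
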