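import Groth.Agent.Lib.Helper16.StrataSp
import Groth.Agent.Lib.Helper16.SchLocus
import Groth.Agent.Lib.Helper16.SpecBaire

/-!
# Helper library (helper16): restricting an etale chart to an open subscheme: kernel pairs, degrees, images
-/

set_option autoImplicit false
universe u
open CategoryTheory CategoryTheory.Limits AlgebraicGeometry Opposite

namespace Groth.Agent.Lib.Helper16.Strata

open AlgSp Groth.Agent.Lib.Helper15

/-- Prime avoidance: a finite set of points of an open subset of an affine scheme lies in a basic open contained in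
the open subset. -/
theorem exists_basicOpen_le_of_finite {U : Scheme.{u}} [IsAffine U] (O : U.Opens) (s : Set ↥U) (hs : s.Finite)
    (hsO : s ⊆ O) : ∃ h : Γ(U, ⊤), U.basicOpen h ≤ O ∧ s ⊆ U.basicOpen h := by
  classical
  rcases s.eq_empty_or_nonempty with rfl | ⟨x₀, hx₀⟩
  · exact ⟨0, by simp, Set.empty_subset _⟩
  let φ : ↥U ≃ₜ PrimeSpectrum Γ(U, ⊤) := U.isoSpec.hom.homeomorph
  have hmem : ∀ (r : Γ(U, ⊤)) (x : ↥U), x ∈ U.basicOpen r ↔ r ∉ (φ x).asIdeal := by
    intro r x
    rw [← U.toSpecΓ_preimage_basicOpen r]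
    rfl
  let C : Set (PrimeSpectrum Γ(U, ⊤)) := φ '' (O : Set ↥U)ᶜ
  have hC : IsClosed C := φ.isClosedMap _ O.isOpen.isClosed_compl
  let I := PrimeSpectrum.vanishingIdeal C
  have hzero : PrimeSpectrum.zeroLocus (I : Set Γ(U, ⊤)) = C := by
    rw [PrimeSpectrum.zeroLocus_vanishingIdeal_eq_closure, hC.closure_eq]
  have hnot : ∀ x, x ∈ (O : Set ↥U) → ¬ I ≤ (φ x).asIdeal := by
    intro x hx hle
    have h1 : φ x ∈ PrimeSpectrum.zeroLocus (I : Set Γ(U, ⊤)) := hle
    rw [hzero] at h1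
    obtain ⟨y, hy, hyx⟩ := h1
    rw [φ.injective hyx] at hy
    exact hy hx
  have hex : ∃ h ∈ I, ∀ x ∈ s, h ∉ (φ x).asIdeal := by
    by_contra hcon
    push Not at hcon
    have hsub : (I : Set Γ(U, ⊤)) ⊆ ⋃ x ∈ (↑hs.toFinset : Set ↥U), ((φ x).asIdeal : Set Γ(U, ⊤)) := by
      intro h hh
      obtain ⟨x, hx, hxh⟩ := hcon h hh
      exact Set.mem_biUnion (by simpa using hx) hxh
    rw [Ideal.subset_union_prime x₀ x₀ (fun i _ _ _ => (φ i).isPrime)] at hsub
    obtain ⟨x, hx, hle⟩ := hsub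
    exact hnot x (hsO (hs.mem_toFinset.1 hx)) hle
  obtain ⟨h, hhI, hh⟩ := hex
  refine ⟨h, ?_, fun x hx => (hmem h x).2 (hh x hx)⟩
  intro x hx
  by_contra hxO
  have h1 : φ x ∈ C := ⟨x, hxO, rfl⟩
  rw [← hzero] at h1
  exact (hmem h x).1 hx (h1 hhI)

variable {S : Scheme.{u}} {F : Sp S} {U R : Over S} {a : (yon S).obj U ⟶ F} {c sn : R ⟶ U}

/-- The projections of `h_U ×_F h_U` are separated when `U` is separated over `S`. -/
theorem isSeparated_sn' (sq : IsPullback ((yon S).map c) ((yon S).map sn) a a) (hU : IsSeparated U.hom) :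
    IsSeparated sn.left := by
  let m : R.left ⟶ pullback U.hom U.hom := pullback.lift c.left sn.left (by rw [Over.w c, Over.w sn])
  have hm : Mono m := by
    constructor
    intro W m₁ m₂ h
    have h1 : m₁ ≫ c.left = m₂ ≫ c.left := by
      have := congrArg (· ≫ pullback.fst U.hom U.hom) h
      simpa only [Category.assoc, pullback.lift_fst, m] using this
    have h2 : m₁ ≫ sn.left = m₂ ≫ sn.left := by
      have := congrArg (· ≫ pullback.snd U.hom U.hom) h
      simpa only [Category.assoc, pullback.lift_snd, m] using this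
    have hw : m₂ ≫ R.hom = m₁ ≫ R.hom := by
      rw [← Over.w sn, ← Category.assoc, ← h2, Category.assoc]
    let m₁' : Over.mk (m₁ ≫ R.hom) ⟶ R := Over.homMk m₁ rfl
    let m₂' : Over.mk (m₁ ≫ R.hom) ⟶ R := Over.homMk m₂ hw
    have := hom_ext_R sq (ρ₁ := m₁') (ρ₂ := m₂') (Over.OverMorphism.ext h1) (Over.OverMorphism.ext h2)
    exact congrArg CommaMorphism.left this
  have : sn.left = m ≫ pullback.snd U.hom U.hom := (pullback.lift_snd _ _ _).symm
  rw [this]
  infer_instance

section Restrict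

variable {U' R' : Over S} {j : U' ⟶ U} {c' sn' : R' ⟶ U'}

/-- Restricting a chart along a monomorphism does not increase the geometric degrees. -/
theorem hasDeg_of_hasDeg_restrict (sq : IsPullback ((yon S).map c) ((yon S).map sn) a a) [Mono j]
    (sq' : IsPullback ((yon S).map c') ((yon S).map sn') ((yon S).map j ≫ a) ((yon S).map j ≫ a))
    {u' : ↥U'.left} {d : ℕ} (h : HasDeg sn'.left u' d) : HasDeg sn.left (j.left u') d := by
  obtain ⟨K, _, x', r', hx', hr', hinj⟩ := h
  obtain ⟨ρ, hρc, hρs⟩ := exists_lift_R sq (c' ≫ j) (sn' ≫ j) (by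
    rw [Functor.map_comp, Functor.map_comp, Category.assoc, Category.assoc, sq'.w])
  refine ⟨K, inferInstance, x' ≫ j.left, fun i => r' i ≫ ρ.left, ?_, fun i => ?_, fun i l hil => ?_⟩
  · rw [Scheme.Hom.comp_apply, hx']
  · rw [Category.assoc, ← Over.comp_left, hρs, Over.comp_left, ← Category.assoc, hr']
  · apply hinj
    let TK : Over S := Over.mk (x' ≫ U'.hom)
    have hw : ∀ i, r' i ≫ R'.hom = x' ≫ U'.hom := fun i => by
      rw [← Over.w sn', ← Category.assoc, hr']
    let ρ' : Fin d → (TK ⟶ R') := fun i => Over.homMk (r' i) (hw i)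
    have h1 : ρ' i ≫ ρ = ρ' l ≫ ρ := by
      ext1
      exact hil
    have h2 : ρ' i ≫ c' = ρ' l ≫ c' := by
      rw [← cancel_mono j, Category.assoc, Category.assoc, ← hρc, ← Category.assoc, ← Category.assoc, h1]
    have h3 : ρ' i ≫ sn' = ρ' l ≫ sn' := by
      ext1
      show r' i ≫ sn'.left = r' l ≫ sn'.left
      rw [hr', hr']
    exact congrArg CommaMorphism.left (hom_ext_R sq' h2 h3)

/-- Restricting a chart to an invariant open subscheme does not decrease the geometric degrees. -/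
theorem hasDeg_restrict_of_hasDeg (sq : IsPullback ((yon S).map c) ((yon S).map sn) a a)
    [IsOpenImmersion j.left]
    (sq' : IsPullback ((yon S).map c') ((yon S).map sn') ((yon S).map j ≫ a) ((yon S).map j ≫ a))
    (hinv : ∀ r : ↥R.left, sn.left r ∈ Set.range j.left → c.left r ∈ Set.range j.left)
    {u' : ↥U'.left} {d : ℕ} (h : HasDeg sn.left (j.left u') d) : HasDeg sn'.left u' d := by
  obtain ⟨K, _, x, r, hx, hr, hinj⟩ := h
  have hpt : ∀ y : ↥(Spec (CommRingCat.of K)), y = IsLocalRing.closedPoint K := fun y => Subsingleton.elim _ _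
  have hxr : Set.range x ⊆ Set.range j.left := by
    rintro _ ⟨y, rfl⟩
    rw [hpt y, hx]
    exact ⟨u', rfl⟩
  let x' := IsOpenImmersion.lift j.left x hxr
  have hx' : x' ≫ j.left = x := IsOpenImmersion.lift_fac _ _ _
  have hx'pt : x' (IsLocalRing.closedPoint K) = u' := by
    apply j.left.injective
    rw [← Scheme.Hom.comp_apply, hx', hx]
  have hyr : ∀ i, Set.range (r i ≫ c.left) ⊆ Set.range j.left := by
    intro i
    rintro _ ⟨y, rfl⟩
    rw [Scheme.Hom.comp_apply]
    apply hinv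
    rw [← Scheme.Hom.comp_apply, hr i]
    exact hxr ⟨y, rfl⟩
  let y' : Fin d → (Spec (CommRingCat.of K) ⟶ U'.left) := fun i => IsOpenImmersion.lift j.left (r i ≫ c.left) (hyr i)
  have hy' : ∀ i, y' i ≫ j.left = r i ≫ c.left := fun i => IsOpenImmersion.lift_fac _ _ _
  let TK : Over S := Over.mk (x' ≫ U'.hom)
  let x'' : TK ⟶ U' := Over.homMk x' rfl
  have hwR : ∀ i, r i ≫ R.hom = x' ≫ U'.hom := fun i => by
    rw [← Over.w sn, ← Category.assoc, hr, ← hx', Category.assoc, Over.w]
  let ρ : Fin d → (TK ⟶ R) := fun i => Over.homMk (r i) (hwR i)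
  have hwy : ∀ i, y' i ≫ U'.hom = x' ≫ U'.hom := fun i => by
    rw [← Over.w j, ← Category.assoc, hy', Category.assoc, Over.w c]
    exact (hwR i).trans (by rw [Over.w j])
  let y'' : Fin d → (TK ⟶ U') := fun i => Over.homMk (y' i) (hwy i)
  have hyj : ∀ i, y'' i ≫ j = ρ i ≫ c := fun i => by
    ext1
    exact hy' i
  have hxj : ∀ i, x'' ≫ j = ρ i ≫ sn := fun i => by
    ext1
    show x' ≫ j.left = r i ≫ sn.left
    rw [hx', hr]
  have hlift : ∀ i, ∃ r'' : TK ⟶ R', r'' ≫ c' = y'' i ∧ r'' ≫ sn' = x'' := fun i =>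
    exists_lift_R sq' (y'' i) x'' (by
      rw [← Category.assoc, ← Category.assoc, ← Functor.map_comp, ← Functor.map_comp, hyj, hxj,
        Functor.map_comp, Functor.map_comp, Category.assoc, Category.assoc, sq.w])
  choose r'' hr''c hr''s using hlift
  refine ⟨K, inferInstance, x', fun i => (r'' i).left, hx'pt, fun i => ?_, fun i l hil => ?_⟩
  · have := congrArg CommaMorphism.left (hr''s i)
    exact this
  · apply hinj
    have h1 : r'' i = r'' l := Over.OverMorphism.ext hil
    have h2 : y'' i = y'' l := by rw [← hr''c, ← hr''c, h1]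
    have h3 : ρ i ≫ c = ρ l ≫ c := by rw [← hyj, ← hyj, h2]
    have h4 : ρ i ≫ sn = ρ l ≫ sn := by rw [← hxj, ← hxj]
    exact congrArg CommaMorphism.left (hom_ext_R sq h3 h4)

end Restrict

/-- The image factorisation of an etale chart. -/
theorem exists_factor_image {X : Sp S} {U : Over S} (a : (yon S).obj U ⟶ X) (hae : RepWith @Etale a) :
    ∃ (V : Set (Points X)) (_ : IsOpen V) (a₁ : (yon S).obj U ⟶ openSub X V), a₁ ≫ openSubι X V = a ∧
      RepWith @Etale a₁ ∧ RepWith @Surjective a₁ ∧ V = Set.range (Points.ofPt a) := by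
  have hV : IsOpen (Set.range (Points.ofPt a)) := (isOpenMap_ofPt_of_etale a hae).isOpen_range
  obtain ⟨a₁, ha₁⟩ := (exists_factor_openSub_iff (Set.range (Points.ofPt a)) a).2 fun t => ⟨t, rfl⟩
  have hae₁ : RepWith @Etale a₁ := repWith_of_comp_mono _ a₁ (openSubι X _) (by rw [ha₁]; exact hae)
  refine ⟨_, hV, a₁, ha₁, hae₁, ?_, rfl⟩
  rw [repWith_surjective_iff a₁ hae₁.rep]
  intro x₁
  have hx : Points.map (openSubι X (Set.range (Points.ofPt a))) x₁ ∈ Set.range (Points.ofPt a) :=
    (range_map_openSubι _).subset ⟨x₁, rfl⟩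
  obtain ⟨u, hu⟩ := hx
  refine ⟨Points.ofScheme U u, ?_⟩
  apply points_map_injective_of_mono (openSubι X (Set.range (Points.ofPt a)))
  rw [← Points.ofPt_eq_map_ofScheme, Points.map_ofPt, ha₁, hu]

end Groth.Agent.Lib.Helper16.Strata
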