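import Groth.Agent.Lib.Helper16.QuotFin1
import Groth.Agent.Lib.Helper16.StrataRestrict
import Groth.Agent.Lib.Helper16.SchemeTop
import Mathlib.AlgebraicGeometry.ZariskisMainTheorem

/-!
# Helper library (helper16): finite sets of points of a scheme etale and separated over an affine scheme lie in
affine opens; invariant affine neighbourhoods of orbits of a finite group action
-/

set_option autoImplicit false
universe u
open CategoryTheory CategoryTheory.Limits AlgebraicGeometry Opposite

namespace Groth.Agent.Lib.Helper16.QuotFin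

open AlgSp

/-- A finite set of points of a scheme that is etale and separated over an affine scheme lies in an affine
open (Zariski's main theorem). -/
theorem exists_isAffineOpen_of_finite {W U : Scheme.{u}} (g : W ⟶ U) [IsAffine U] [IsSeparated g] [Etale g]
    (F : Set W) (hF : F.Finite) : ∃ O : W.Opens, IsAffineOpen O ∧ F ⊆ O := by
  classical
  have hA : ∀ x : W, ∃ A : W.Opens, IsAffineOpen A ∧ x ∈ A := fun x => by
    obtain ⟨_, ⟨A, hA, rfl⟩, hxA, -⟩ :=
      W.isBasis_affineOpens.exists_subset_of_mem_open (Set.mem_univ x) isOpen_univ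
    exact ⟨A, hA, hxA⟩
  choose A hAaff hxA using hA
  obtain ⟨W', hW'⟩ : ∃ W' : W.Opens, W' = ⨆ x : F, A x.1 := ⟨_, rfl⟩
  have hFW' : F ⊆ W' := fun x hx => by
    rw [hW']
    exact TopologicalSpace.Opens.mem_iSup.2 ⟨⟨x, hx⟩, hxA x⟩
  have hW'c : IsCompact (W' : Set W) := by
    rw [hW', TopologicalSpace.Opens.coe_iSup]
    have : Finite F := hF
    exact isCompact_iUnion (fun x => (hAaff x.1).isCompact)
  have hcs : CompactSpace ↥(W' : Scheme.{u}) := isCompact_iff_compactSpace.mp hW'c
  obtain ⟨h, hh⟩ : ∃ h : (W' : Scheme.{u}) ⟶ U, h = W'.ι ≫ g := ⟨_, rfl⟩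
  have h4 : IsSeparated h := by rw [hh]; infer_instance
  have h4' : Etale h := by rw [hh]; infer_instance
  have h5 : LocallyQuasiFinite h := locallyQuasiFinite_of_etale h
  have h7 : QuasiCompact h := inferInstance
  have h8 : IsOpenImmersion h.toNormalization := inferInstance
  have h9 : IsAffine h.normalization := isAffine_of_isAffineHom h.fromNormalization
  obtain ⟨F', hF'⟩ : ∃ F' : Set h.normalization, F' = h.toNormalization '' (W'.ι ⁻¹' F) := ⟨_, rfl⟩
  have hF'fin : F'.Finite := by
    rw [hF']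
    exact (hF.preimage (W'.ι.isOpenEmbedding.injective.injOn)).image _
  have hF'sub : F' ⊆ h.toNormalization.opensRange := by
    rw [hF']
    rintro _ ⟨y, -, rfl⟩
    exact ⟨y, rfl⟩
  obtain ⟨f, hfle, hF'f⟩ := Strata.exists_basicOpen_le_of_finite h.toNormalization.opensRange F' hF'fin hF'sub
  have hDaff : IsAffine ((h.normalization.basicOpen f : h.normalization.Opens) : Scheme.{u}) :=
    (isAffineOpen_top h.normalization).basicOpen f
  have hsub : Set.range (h.normalization.basicOpen f).ι ⊆ Set.range h.toNormalization := by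
    rw [Scheme.Opens.range_ι]
    exact hfle
  obtain ⟨l, hl⟩ : ∃ l : ((h.normalization.basicOpen f : h.normalization.Opens) : Scheme.{u}) ⟶ (W' : Scheme.{u}),
      l ≫ h.toNormalization = (h.normalization.basicOpen f).ι :=
    ⟨IsOpenImmersion.lift h.toNormalization (h.normalization.basicOpen f).ι hsub, IsOpenImmersion.lift_fac _ _ _⟩
  have hlo : IsOpenImmersion l := by
    have : IsOpenImmersion (l ≫ h.toNormalization) := by rw [hl]; infer_instance
    exact IsOpenImmersion.of_comp l h.toNormalization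
  refine ⟨(l ≫ W'.ι).opensRange, isAffineOpen_opensRange (l ≫ W'.ι), ?_⟩
  intro x hx
  have hxW' : x ∈ W' := hFW' hx
  have h1 : h.toNormalization ⟨x, hxW'⟩ ∈ h.normalization.basicOpen f := by
    apply hF'f
    rw [hF']
    exact ⟨⟨x, hxW'⟩, hx, rfl⟩
  have h2 : h.toNormalization (l ⟨_, h1⟩) = h.toNormalization ⟨x, hxW'⟩ := by
    rw [← Scheme.Hom.comp_apply, hl]
    rfl
  have h3 : l ⟨_, h1⟩ = ⟨x, hxW'⟩ := h.toNormalization.isOpenEmbedding.injective h2
  refine ⟨⟨_, h1⟩, ?_⟩
  rw [Scheme.Hom.comp_apply, h3]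
  rfl

variable {S : Scheme.{u}} {G : Type} [Group G] [Finite G] {W : Over S} {φ : G → (W ⟶ W)}

/-- Orbits of a finite group acting on a scheme etale and separated over an affine scheme have invariant affine
open neighbourhoods. -/
theorem exists_invariant_affine_nbhd (hφ : IsFreeAct φ) {U : Scheme.{u}} [IsAffine U] (g : W.left ⟶ U)
    [IsSeparated g] [Etale g] (w : W.left) :
    ∃ O : W.left.Opens, w ∈ O ∧ IsAffineOpen O ∧ ∀ (σ : G) (w' : W.left), w' ∈ O → (φ σ).left w' ∈ O := by
  have hWsep : W.left.IsSeparated := ⟨by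
    have : terminal.from W.left = g ≫ terminal.from U := terminal.hom_ext _ _
    rw [this]
    infer_instance⟩
  have hcomp : ∀ σ τ : G, (φ σ).left ≫ (φ τ).left = (φ (σ * τ)).left := fun σ τ => by
    rw [← Over.comp_left, ← hφ.mul]
  have hone : (φ 1).left = 𝟙 W.left := by rw [hφ.one]; rfl
  have hiso : ∀ σ : G, IsIso (φ σ).left := fun σ =>
    ⟨(φ σ⁻¹).left, by rw [hcomp, mul_inv_cancel, hone], by rw [hcomp, inv_mul_cancel, hone]⟩
  have happ : ∀ (σ τ : G) (x : W.left), (φ τ).left ((φ σ).left x) = (φ (σ * τ)).left x := fun σ τ x => by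
    rw [← hcomp, Scheme.Hom.comp_apply]
  obtain ⟨O₀, hO₀aff, hFO₀⟩ := exists_isAffineOpen_of_finite g (Set.range fun σ : G => (φ σ).left w)
    (Set.finite_range _)
  have hmem : ∀ x : W.left, x ∈ (⨅ σ : G, (φ σ).left ⁻¹ᵁ O₀) ↔ ∀ σ : G, (φ σ).left x ∈ O₀ := by
    intro x
    rw [← SetLike.mem_coe, TopologicalSpace.Opens.coe_iInf, Set.mem_iInter]
    rfl
  refine ⟨⨅ σ : G, (φ σ).left ⁻¹ᵁ O₀, ?_, ?_, ?_⟩
  · rw [hmem]
    intro σ
    exact hFO₀ ⟨σ, rfl⟩
  · exact IsAffineOpen.iInf (fun σ => hO₀aff.preimage_of_isIso (φ σ).left)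
  · intro σ w' hw'
    rw [hmem] at hw' ⊢
    intro τ
    rw [happ]
    exact hw' (σ * τ)

end Groth.Agent.Lib.Helper16.QuotFin
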