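import Groth.Agent.Lib.Helper16.TupleAct2

/-!
# Helper library (helper16): the image of the first coordinate of the universal tuple is the locus where the chart
has at least that many geometric points
-/

set_option autoImplicit false
universe u
open CategoryTheory CategoryTheory.Limits AlgebraicGeometry Opposite

namespace Groth.Agent.Lib.Helper16.Tuple

open AlgSp Strata

variable {S : Scheme.{u}} {X : Sp S} {U : Over S} {a : (yon S).obj U ⟶ X} {W : Over S} {R : Over S} {c sn : R ⟶ U}

theorem mem_range_π_zero_iff {k : ℕ} {π : Fin (k + 1) → (W ⟶ U)} (hπ : IsUniv a π)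
    (sq : IsPullback ((yon S).map c) ((yon S).map sn) a a) (u : ↥U.left) :
    u ∈ Set.range (π 0).left ↔ HasDeg sn.left u (k + 1) := by
  constructor
  · rintro ⟨w, rfl⟩
    obtain ⟨pt, hpt⟩ : ∃ pt : ptOver W w ⟶ W, pt = ptOverι W w := ⟨_, rfl⟩
    have hr : ∀ i, ∃ ρ : ptOver W w ⟶ R, ρ ≫ c = pt ≫ π i ∧ ρ ≫ sn = pt ≫ π 0 := fun i =>
      exists_lift_R sq _ _ (by
        rw [Functor.map_comp, Functor.map_comp, Category.assoc, Category.assoc, hπ.tuple.eq i 0])
    choose ρ hρc hρs using hr
    refine ⟨W.left.residueField w, inferInstance, (pt ≫ π 0).left, fun i => (ρ i).left, ?_, fun i => ?_,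
      fun i j hij => ?_⟩
    · rw [hpt]
      show ((ptOverι W w).left ≫ (π 0).left) _ = _
      rw [Scheme.Hom.comp_apply]
      exact congrArg _ (W.left.fromSpecResidueField_apply w _)
    · show (ρ i).left ≫ sn.left = (pt ≫ π 0).left
      rw [← Over.comp_left, hρs]
    · by_contra hne
      have h1 : ρ i = ρ j := Over.OverMorphism.ext hij
      have h2 : pt ≫ π i = pt ≫ π j := by rw [← hρc, ← hρc, h1]
      have h3 := hπ.tuple.disj i j hne (ptOver W w) pt h2
      exact h3.false (show ↥(Spec (W.left.residueField w)) from IsLocalRing.closedPoint _)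
  · rintro ⟨K, _, x, r, hx, hr, hinj⟩
    classical
    obtain ⟨e, hec, hes⟩ := exists_lift_R sq (𝟙 U) (𝟙 U) rfl
    obtain ⟨r', hr'0, hr's, hr'inj⟩ : ∃ r' : Fin (k + 1) → (Spec (CommRingCat.of K) ⟶ R.left),
        r' 0 = x ≫ e.left ∧ (∀ i, r' i ≫ sn.left = x) ∧ Function.Injective r' := by
      by_cases hex : ∃ i₁, r i₁ = x ≫ e.left
      · obtain ⟨i₁, hi₁⟩ := hex
        refine ⟨r ∘ Equiv.swap 0 i₁, ?_, fun i => hr _, hinj.comp (Equiv.injective _)⟩
        show r (Equiv.swap 0 i₁ 0) = _
        rw [Equiv.swap_apply_left, hi₁]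
      · push Not at hex
        refine ⟨Fin.cons (x ≫ e.left) (fun i => r i.succ), Fin.cons_zero _ _, fun i => ?_, ?_⟩
        · refine Fin.cases ?_ (fun j => ?_) i
          · rw [Fin.cons_zero, Category.assoc, ← Over.comp_left, hes, Over.id_left, Category.comp_id]
          · rw [Fin.cons_succ]
            exact hr _
        · rw [Fin.cons_injective_iff]
          refine ⟨?_, hinj.comp (Fin.succ_injective _)⟩
          rintro ⟨i, hi⟩
          exact hex _ hi
    let T : Over S := Over.mk (x ≫ U.hom)
    let x' : T ⟶ U := Over.homMk x rfl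
    let ρ : Fin (k + 1) → (T ⟶ R) := fun i => Over.homMk (r' i) (by
      rw [← Over.w sn, ← Category.assoc, hr's i]
      rfl)
    have hρs : ∀ i, ρ i ≫ sn = x' := fun i => by
      ext1
      exact hr's i
    have hρ₀ : ρ 0 = x' ≫ e := by
      ext1
      exact hr'0
    have hρne : ∀ i j, i ≠ j → Disj (ρ i ≫ c) (ρ j ≫ c) := by
      intro i j hij Z z hz
      refine ⟨fun z₀ => hij (hr'inj ?_)⟩
      have h1 : z ≫ ρ i = z ≫ ρ j := by
        apply hom_ext_R sq
        · simpa only [Category.assoc] using hz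
        · rw [Category.assoc, Category.assoc, hρs, hρs]
      have h2 : z.left ≫ r' i = z.left ≫ r' j := congrArg CommaMorphism.left h1
      refine cancel_field_epi (K := K) (K' := Z.left.residueField z₀) (Z.left.fromSpecResidueField z₀ ≫ z.left) ?_
      rw [Category.assoc, Category.assoc, h2]
    have hv : IsTuple a (fun i => ρ i ≫ c) := by
      refine ⟨fun i j => ?_, fun i j hij => hρne _ _ hij⟩
      have key : ∀ i, (yon S).map (ρ i ≫ c) ≫ a = (yon S).map x' ≫ a := fun i => by
        rw [Functor.map_comp, Category.assoc, sq.w, ← Category.assoc, ← Functor.map_comp, hρs]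
      rw [key, key]
    obtain ⟨w, hw⟩ := hπ.lift T _ hv
    have hw₀ : w ≫ π 0 = x' := by
      rw [hw 0, hρ₀, Category.assoc, hec, Category.comp_id]
    refine ⟨w.left (IsLocalRing.closedPoint K), ?_⟩
    rw [← Scheme.Hom.comp_apply, ← Over.comp_left, hw₀]
    exact hx

end Groth.Agent.Lib.Helper16.Tuple
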