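import Groth.Agent.Lib.Helper16.QuotFin3
import Groth.Agent.Lib.Helper16.AffNbhd
import Groth.Agent.Lib.Helper16.TupleImage
import Groth.Agent.Lib.Helper16.LocPGen
import Groth.Agent.Lib.Helper16.EtLocal
import Groth.Agent.Lib.Helper16.ClosedPt

/-!
# Helper library (helper16): the scheme `V_p = W_p / S_p` of unordered `p`-tuples of distinct points in the fibres of
an etale chart from an affine scheme, and its map to the algebraic space
-/

set_option autoImplicit false
universe u
open CategoryTheory CategoryTheory.Limits AlgebraicGeometry Opposite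

namespace Groth.Agent.Lib.Helper16.Filt

open AlgSp Strata Tuple QuotFin Groth.Agent.Lib.Helper15

variable {S : Scheme.{u}} {X : Sp S} {U : Over S} {a : (yon S).obj U ⟶ X} {R : Over S} {c sn : R ⟶ U}

/-- A representable chart from a scheme separated over `S` is representable by separated morphisms. -/
theorem repWith_isSeparated_of_isSeparated_hom (a : (yon S).obj U ⟶ X) (ha : Representable a)
    (hU : IsSeparated U.hom) : RepWith @IsSeparated a := by
  refine (repWith_iff _ _).2 ⟨ha, fun T P t fst snd sq => ?_⟩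
  obtain ⟨p₂, rfl⟩ := (yon S).map_surjective fst
  let m : P.left ⟶ pullback T.hom U.hom := pullback.lift snd.left p₂.left (by rw [Over.w snd, Over.w p₂])
  have hm : Mono m := by
    constructor
    intro Z m₁ m₂ h
    have h1 : m₁ ≫ snd.left = m₂ ≫ snd.left := by
      have := congrArg (· ≫ pullback.fst T.hom U.hom) h
      simpa only [Category.assoc, pullback.lift_fst, m] using this
    have h2 : m₁ ≫ p₂.left = m₂ ≫ p₂.left := by
      have := congrArg (· ≫ pullback.snd T.hom U.hom) h
      simpa only [Category.assoc, pullback.lift_snd, m] using this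
    have hw : m₂ ≫ P.hom = m₁ ≫ P.hom := by
      rw [← Over.w snd, ← Category.assoc, ← h1, Category.assoc]
    let m₁' : Over.mk (m₁ ≫ P.hom) ⟶ P := Over.homMk m₁ rfl
    let m₂' : Over.mk (m₁ ≫ P.hom) ⟶ P := Over.homMk m₂ hw
    have h3 : (yon S).map m₁' = (yon S).map m₂' := by
      apply sq.hom_ext
      · rw [← Functor.map_comp, ← Functor.map_comp]
        congr 1
        exact Over.OverMorphism.ext h2
      · rw [← Functor.map_comp, ← Functor.map_comp]
        congr 1
        exact Over.OverMorphism.ext h1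
    exact congrArg CommaMorphism.left ((yon S).map_injective h3)
  have : snd.left = m ≫ pullback.fst T.hom U.hom := (pullback.lift_fst _ _ _).symm
  rw [this]
  infer_instance

/-- The locus of points of `X` over which the chart has at least `d` geometric points. -/
def degGE (a : (yon S).obj U ⟶ X) (sn : R ⟶ U) (d : ℕ) : Set (Points X) :=
  {x | ∃ u : U.left, Points.ofPt a u = x ∧ HasDeg sn.left u d}

theorem degGE_eq_image (d : ℕ) : degGE a sn d = Points.ofPt a '' {u | HasDeg sn.left u d} := by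
  ext x
  constructor
  · rintro ⟨u, rfl, hu⟩
    exact ⟨u, hu, rfl⟩
  · rintro ⟨u, hu, rfl⟩
    exact ⟨u, rfl, hu⟩

theorem isOpen_degGE (hae : RepWith @Etale a) [Etale sn.left] [IsSeparated sn.left] (d : ℕ) :
    IsOpen (degGE a sn d) := by
  rw [degGE_eq_image]
  exact isOpenMap_ofPt_of_etale a hae _ (isOpen_setOf_hasDeg d sn.left)

theorem degGE_anti {d d' : ℕ} (h : d ≤ d') : degGE a sn d' ⊆ degGE a sn d := by
  rintro x ⟨u, rfl, hu⟩
  exact ⟨u, rfl, HasDeg.of_le sn.left hu h⟩

theorem ofPt_mem_degGE_iff (sq : IsPullback ((yon S).map c) ((yon S).map sn) a a) (u : U.left) (d : ℕ) :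
    Points.ofPt a u ∈ degGE a sn d ↔ HasDeg sn.left u d := by
  constructor
  · rintro ⟨u', h, hu'⟩
    exact hasDeg_of_ofPt_eq sq h.symm hu'
  · intro hu
    exact ⟨u, rfl, hu⟩

theorem degGE_one (has : RepWith @Surjective a) (sq : IsPullback ((yon S).map c) ((yon S).map sn) a a) :
    degGE a sn 1 = Set.univ := by
  apply Set.eq_univ_of_forall
  intro x
  obtain ⟨u, rfl⟩ := ofPt_surjective_of_surjective a has x
  refine ⟨u, rfl, (hasDeg_one_iff sn.left u).2 ?_⟩
  obtain ⟨e, -, hes⟩ := exists_lift_R sq (𝟙 U) (𝟙 U) rfl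
  refine ⟨e.left u, ?_⟩
  have h1 : e.left ≫ sn.left = 𝟙 U.left := by
    rw [← Over.comp_left, hes]
    rfl
  exact congrArg (fun f : U.left ⟶ U.left => f u) h1

/-- **The scheme of unordered `(k+1)`-tuples.** -/
theorem exists_quotient_tuple (hX : IsAlgSpace X) [IsAffine U.left] (hae : RepWith @Etale a)
    (sq : IsPullback ((yon S).map c) ((yon S).map sn) a a) (k : ℕ) :
    ∃ (V : Over S) (f' : (yon S).obj V ⟶ X), V.left.IsSeparated ∧ RepWith @Etale f' ∧
      Set.range (Points.map f') = degGE a sn (k + 1) ∧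
      (∀ (T : Over S) (v v' : T ⟶ V), (yon S).map v ≫ f' = (yon S).map v' ≫ f' →
        (∀ t : T.left, Points.ofPt ((yon S).map v ≫ f') t ∉ degGE a sn (k + 1 + 1)) → v = v') ∧
      (RepWith @QuasiCompact a → CompactSpace ↥V.left) := by
  have hUsep : IsSeparated U.hom := ClosedPt.isSeparated_of_isAffine U.hom
  have has : RepWith @IsSeparated a :=
    repWith_isSeparated_of_isSeparated_hom a (hX.representable_from_yon a) hUsep
  obtain ⟨W, π, hπ, hsep, het, hcpt⟩ := exists_univ_sep hae has k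
  have hφ : IsFreeAct (act hπ) := ⟨act_one hπ, act_mul hπ, fun σ hσ K _ x => act_free hπ σ hσ K x⟩
  obtain ⟨V, qV, e, he, hqet, hqsurj⟩ := exists_scheme_quotient hφ
    (fun w => exists_invariant_affine_nbhd hφ (π 0).left w)
  have hWsep : W.left.IsSeparated := ⟨by
    have : terminal.from W.left = (π 0).left ≫ terminal.from U.left := terminal.hom_ext _ _
    rw [this]
    infer_instance⟩
  have hVsep : V.left.IsSeparated := isSeparated_quotient hφ he hqet hqsurj
  obtain ⟨b, hb⟩ : ∃ b : (yon S).obj W ⟶ X, b = (yon S).map (π 0) ≫ a := ⟨_, rfl⟩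
  have hbi : ∀ i, (yon S).map (π i) ≫ a = b := fun i => by rw [hb]; exact hπ.tuple.eq i 0
  have hbinv : ∀ σ, (yon S).map (act hπ σ) ≫ b = b := fun σ => by
    rw [hb, ← Category.assoc, ← Functor.map_comp, act_π]
    exact hπ.tuple.eq _ _
  obtain ⟨f', hf'⟩ := exists_desc he b hbinv
  have hofPt : ∀ w : W.left, Points.ofPt f' (qV.left w) = Points.ofPt a ((π 0).left w) := fun w => by
    rw [← ofPt_yon_map_comp, hf', hb, ofPt_yon_map_comp]
  refine ⟨V, f', hVsep, ?_, ?_, ?_, ?_⟩
  · have hloc : LocP @Etale f' := locP_of_chart etLocalST_etale f' ((yon S).map qV) a (π 0)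
      ((repWith_yon_map_iff _ _).2 hqet) ((repWith_yon_map_iff _ _).2 hqsurj) hae (by rw [hf', hb]) het
    exact (locP_iff_repWith etLocalST_etale (IsAlgSpace.yon_obj V) hX f' (hX.representable_from_yon f')).1 hloc
  · ext x
    constructor
    · rintro ⟨y, rfl⟩
      obtain ⟨v, hv⟩ : ∃ v, v = Points.toScheme V y := ⟨_, rfl⟩
      have hy : y = Points.ofScheme V v := by rw [hv, Points.ofScheme_toScheme]
      obtain ⟨w, rfl⟩ := hqsurj.surj v
      refine ⟨(π 0).left w, ?_, (mem_range_π_zero_iff hπ sq _).1 ⟨w, rfl⟩⟩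
      rw [hy, ← Points.ofPt_eq_map_ofScheme, hofPt]
    · rintro ⟨u, rfl, hu⟩
      obtain ⟨w, rfl⟩ := (mem_range_π_zero_iff hπ sq u).2 hu
      refine ⟨Points.ofScheme V (qV.left w), ?_⟩
      rw [← Points.ofPt_eq_map_ofScheme, hofPt]
  · intro T v v' hvv hdeg
    -- lift `v` and `v'` to `W` etale locally
    obtain ⟨P₁, c₁, w₁, sq₁⟩ : ∃ (P₁ : Over S) (c₁ : P₁ ⟶ T) (w₁ : P₁ ⟶ W), IsPullback c₁ w₁ v qV :=
      ⟨_, _, _, IsPullback.of_hasPullback v qV⟩
    obtain ⟨P₂, c₂, w₂, sq₂⟩ : ∃ (P₂ : Over S) (c₂ : P₂ ⟶ P₁) (w₂ : P₂ ⟶ W), IsPullback c₂ w₂ (c₁ ≫ v') qV :=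
      ⟨_, _, _, IsPullback.of_hasPullback (c₁ ≫ v') qV⟩
    have hc₁e : Etale c₁.left := MorphismProperty.of_isPullback (sq₁.flip.map (Over.forget S)) hqet
    have hc₁s : Surjective c₁.left := MorphismProperty.of_isPullback (sq₁.flip.map (Over.forget S)) hqsurj
    have hc₂e : Etale c₂.left := MorphismProperty.of_isPullback (sq₂.flip.map (Over.forget S)) hqet
    have hc₂s : Surjective c₂.left := MorphismProperty.of_isPullback (sq₂.flip.map (Over.forget S)) hqsurj
    obtain ⟨cc, hcc⟩ : ∃ cc : P₂ ⟶ T, cc = c₂ ≫ c₁ := ⟨_, rfl⟩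
    have hccepi : Epi cc := by
      have h1 : Epi cc.left := by
        rw [hcc, Over.comp_left]
        exact Flat.epi_of_flat_of_surjective _
      have : Epi ((Over.forget S).map cc) := h1
      exact (Over.forget S).epi_of_epi_map this
    have hw : (c₂ ≫ w₁) ≫ qV = cc ≫ v := by rw [Category.assoc, ← sq₁.w, hcc, Category.assoc]
    have hw' : w₂ ≫ qV = cc ≫ v' := by rw [← sq₂.w, hcc, Category.assoc]
    have hyb : ∀ w : P₂ ⟶ W, (yon S).map w ≫ b = (yon S).map (w ≫ qV) ≫ f' := fun w => by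
      rw [Functor.map_comp, Category.assoc, hf']
    have h : (yon S).map ((c₂ ≫ w₁) ≫ π 0) ≫ a = (yon S).map (w₂ ≫ π 0) ≫ a := by
      rw [Functor.map_comp, Category.assoc, hbi, Functor.map_comp (yon S) w₂, Category.assoc, hbi, hyb, hyb, hw, hw',
        Functor.map_comp, Functor.map_comp, Category.assoc, Category.assoc, hvv]
    have hlc : LocConj (act hπ) (c₂ ≫ w₁) w₂ := by
      intro t
      refine exists_perm_of_eq_at hπ hae sq 0 (c₂ ≫ w₁) w₂ h t (fun i hd => ?_)
      have h1 : Points.ofPt a ((w₂ ≫ π i).left t) ∈ degGE a sn (k + 1 + 1) := ⟨_, rfl, hd⟩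
      have h2 : Points.ofPt a ((w₂ ≫ π i).left t) = Points.ofPt ((yon S).map v ≫ f') (cc.left t) := by
        rw [← ofPt_yon_map_comp, Functor.map_comp, Category.assoc, hbi, hyb, hw', Functor.map_comp, Category.assoc,
          ofPt_yon_map_comp, hvv]
      rw [h2] at h1
      exact hdeg _ h1
    have h3 : (c₂ ≫ w₁) ≫ qV = w₂ ≫ qV := (comp_eq_iff_locConj hφ he _ _).2 hlc
    rw [hw, hw'] at h3
    exact (cancel_epi cc).1 h3
  · intro hqc
    have hWc : CompactSpace ↥W.left := hcpt hqc inferInstance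
    exact Function.Surjective.compactSpace qV.left.continuous hqsurj.surj

end Groth.Agent.Lib.Helper16.Filt
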