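import Groth.Agent.Lib.Helper16.Decent
import Groth.Agent.Lib.Helper16.Charts
import Groth.Agent.S0084
import Mathlib.AlgebraicGeometry.Morphisms.FlatRank
import Groth.Prelude.Def_W4decUnivBdd

/-!
# Helper library (helper16): universally bounded fibres
-/

set_option autoImplicit false
universe u
open CategoryTheory CategoryTheory.Limits AlgebraicGeometry Opposite Topology

namespace Groth.Agent.Lib.Helper16

open AlgSp

/-- The rank of a morphism from the empty scheme to the spectrum of a field is zero. -/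
theorem finrank_eq_zero_of_isEmpty {T : Scheme.{u}} {K : Type u} [Field K]
    (c : T ⟶ Spec (CommRingCat.of K)) [IsEmpty ↥T] [Flat c] [IsFinite c]
    (s : ↥(Spec (CommRingCat.of K))) : c.finrank s = 0 := by
  by_contra h0
  have h1 : 1 ≤ c.finrank := by
    rw [Pi.le_def]
    intro s'
    rw [Subsingleton.elim s' s]
    exact Nat.one_le_iff_ne_zero.2 h0
  have hsurj : Surjective c := (c.one_le_finrank_iff_surjective).1 h1
  obtain ⟨t, -⟩ := hsurj.surj s
  exact IsEmpty.false t

variable {S : Scheme.{u}}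

/-- The condition `DegFibresLE` applied to a field-valued point given as a morphism. -/
theorem degFibresLE_apply_hom {F : Sp S} {U : Over S} {a : (yon S).obj U ⟶ F} {n : ℕ}
    (hn : W4dec.DegFibresLE n a) {K : Type u} [Field K] (str : Spec (CommRingCat.of K) ⟶ S)
    (m : (yon S).obj (Over.mk str) ⟶ F) (T : Over S) (c : T ⟶ Over.mk str)
    (snd : (yon S).obj T ⟶ (yon S).obj U) (sq : IsPullback ((yon S).map c) snd m a) :
    IsFinite c.left ∧ ∀ s, c.left.finrank s ≤ n := by
  have := hn (fieldPtOfHom K str m) T c snd (by rw [fieldPtOfHom_toHom]; exact sq)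
  exact this

/-- Universally bounded fibres descend along a representable base change whose image contains the image of the
morphism. -/
theorem hasUnivBddFibres_of_base_change {X Y : Sp S} (g : Y ⟶ X) {U V : Over S} (f : (yon S).obj U ⟶ X)
    (fst : (yon S).obj V ⟶ (yon S).obj U) (f' : (yon S).obj V ⟶ Y) (h : IsPullback fst f' f g)
    (him : Set.range (Points.ofPt f) ⊆ Set.range (Points.map g)) (hf' : W4dec.HasUnivBddFibres f') :
    W4dec.HasUnivBddFibres f := by
  have : MorphismProperty.DescendsAlong @IsFinite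
      (@Surjective ⊓ @Flat ⊓ @QuasiCompact : MorphismProperty Scheme.{u}) := Groth.Agent.S0084.result
  obtain ⟨n, hn⟩ := hf'
  refine ⟨n, ?_⟩
  intro q T c snd sq
  obtain ⟨c₁, hc₁⟩ : ∃ c₁ : T.left ⟶ Spec (CommRingCat.of q.K), c₁ = c.left := ⟨_, rfl⟩
  rw [← hc₁]
  by_cases hT : IsEmpty ↥T.left
  · have hfin : IsFinite c₁ := inferInstance
    exact ⟨hfin, fun s => by rw [finrank_eq_zero_of_isEmpty c₁ s]; exact Nat.zero_le n⟩
  · rw [not_isEmpty_iff] at hT
    obtain ⟨t⟩ := hT
    obtain ⟨σ, rfl⟩ := (yon S).map_surjective snd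
    have h1 : Points.ofPt f (σ.left t) = Points.mk q := by
      rw [← ofPt_yon_map_comp, ← sq.w, ofPt_yon_map_comp, Points.ofPt_toHom]
    obtain ⟨y, hy⟩ := him ⟨_, h1⟩
    induction y using Points.ind with
    | h r =>
    rw [Points.map_mk, Points.mk_eq_mk_iff, rel_iff_toHom] at hy
    obtain ⟨Ω, _, w, a₀, b, hab₀⟩ := hy
    rw [FieldPt.toHom_map] at hab₀
    obtain ⟨a, ha⟩ : ∃ a : Over.mk w ⟶ r.pt, a = a₀ := ⟨a₀, rfl⟩
    have hab : (yon S).map a ≫ r.toHom ≫ g = (yon S).map b ≫ q.toHom := by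
      rw [ha]; exact hab₀
    have sqY : IsPullback ((yon S).map (pullback.fst c b)) ((yon S).map (pullback.snd c b))
        ((yon S).map c) ((yon S).map b) := (IsPullback.of_hasPullback c b).map (yon S)
    have outer : IsPullback ((yon S).map (pullback.fst c b) ≫ (yon S).map σ)
        ((yon S).map (pullback.snd c b)) f ((yon S).map b ≫ q.toHom) := sqY.paste_horiz sq.flip
    have hbq : (yon S).map b ≫ q.toHom = ((yon S).map a ≫ r.toHom) ≫ g := by
      rw [Category.assoc]
      exact hab.symm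
    rw [hbq] at outer
    have hlcomm := outer.w.trans (Category.assoc _ _ _).symm
    have sqV : IsPullback (h.lift _ _ hlcomm) ((yon S).map (pullback.snd c b)) f'
        ((yon S).map a ≫ r.toHom) := by
      refine IsPullback.of_right ?_ (h.lift_snd _ _ _) h
      rw [h.lift_fst]
      exact outer
    obtain ⟨hfin, hrank⟩ := degFibresLE_apply_hom hn w ((yon S).map a ≫ r.toHom) (pullback c b)
      (pullback.snd c b) _ sqV.flip
    have sqL : IsPullback (pullback.snd c b).left (pullback.fst c b).left b.left c.left :=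
      ((IsPullback.of_hasPullback c b).map (Over.forget S)).flip
    obtain ⟨b₁, hb₁⟩ : ∃ b₁ : Spec (CommRingCat.of Ω) ⟶ Spec (CommRingCat.of q.K), b₁ = b.left :=
      ⟨_, rfl⟩
    obtain ⟨c'₁, hc'₁⟩ : ∃ c'₁ : (pullback c b).left ⟶ Spec (CommRingCat.of Ω),
      c'₁ = (pullback.snd c b).left := ⟨_, rfl⟩
    have sqL' : IsPullback c'₁ (pullback.fst c b).left b₁ c₁ := by
      rw [hc'₁, hb₁, hc₁]; exact sqL
    have hb₁s : Surjective b₁ := ⟨fun s => ⟨IsLocalRing.closedPoint Ω, Subsingleton.elim _ _⟩⟩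
    have hb₁q : QuasiCompact b₁ := quasiCompact_of_field_source b₁
    have hb₁f : Flat b₁ := inferInstance
    have hfin' : IsFinite c'₁ := by rw [hc'₁]; exact hfin
    have hc₁fin : IsFinite c₁ :=
      MorphismProperty.of_isPullback_of_descendsAlong (P := @IsFinite)
        (Q := @Surjective ⊓ @Flat ⊓ @QuasiCompact) sqL' ⟨⟨hb₁s, hb₁f⟩, hb₁q⟩ hfin'
    have hc₁flat : Flat c₁ := inferInstance
    refine ⟨hc₁fin, fun s => ?_⟩
    have hrk := Scheme.Hom.finrank_of_isPullback (pullback.fst c b).left c'₁ c₁ b₁ sqL'.flip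
      (IsLocalRing.closedPoint Ω)
    rw [Subsingleton.elim (α := ↥(Spec (CommRingCat.of q.K))) s (b₁ (IsLocalRing.closedPoint Ω)), ← hrk,
      hc'₁]
    exact hrank _

end Groth.Agent.Lib.Helper16
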