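import Groth.Agent.Lib.Helper16.UBF1
import Groth.Agent.Lib.Helper16.UnivBdd
import Groth.Agent.Lib.Helper16.QuasiCompactMor
import Groth.Agent.Lib.Helper15.MonoInj

/-!
# Helper library (helper16): universally bounded fibres and open covers of the source
-/

set_option autoImplicit false
universe u
open CategoryTheory CategoryTheory.Limits AlgebraicGeometry Opposite TopologicalSpace

namespace Groth.Agent.Lib.Helper16.UBF

open AlgSp Groth.Agent.Lib.Helper16 Groth.Agent.Lib.Helper15

variable {S : Scheme.{u}}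

/-- Universally bounded fibres can be checked on a finite open cover of the source. -/
theorem hasUnivBddFibres_of_openCover {F : Sp S} {U : Over S} (a : (yon S).obj U ⟶ F) {ι : Type*}
    [Fintype ι] (W : ι → U.left.Opens) (hW : ⨆ i, W i = ⊤)
    (h : ∀ i, W4dec.HasUnivBddFibres ((yon S).map (overOpenι U (W i)) ≫ a)) :
    W4dec.HasUnivBddFibres a := by
  choose n hn using h
  refine ⟨∑ i, n i, ?_⟩
  intro q T c snd sq
  obtain ⟨σ, rfl⟩ := (yon S).map_surjective snd
  have key : ∀ i, DegLE ((σ.left ⁻¹ᵁ W i).ι ≫ c.left) (n i) := by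
    intro i
    have sqi := isPullback_restrict sq (W i)
    rw [← Functor.map_comp] at sqi
    exact hn i q _ _ _ sqi
  have hcov : ⨆ i, σ.left ⁻¹ᵁ W i = ⊤ := by
    rw [← Scheme.Hom.preimage_iSup, hW]
    rfl
  exact DegLE.of_openCover c.left (fun i => σ.left ⁻¹ᵁ W i) hcov n key

/-- Universally bounded fibres are preserved by composition with a monomorphism. -/
theorem hasUnivBddFibres_comp_mono {F G : Sp S} {U : Over S} (a : (yon S).obj U ⟶ F) (j : F ⟶ G) [Mono j]
    (h : W4dec.HasUnivBddFibres a) : W4dec.HasUnivBddFibres (a ≫ j) := by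
  refine hasUnivBddFibres_of_base_change j (a ≫ j) (𝟙 _) a ?_ ?_ h
  · have := isPullback_comp_mono j (IsPullback.id_horiz a)
    rwa [Category.id_comp] at this
  · rintro _ ⟨u, rfl⟩
    exact ⟨Points.ofPt a u, rfl⟩

end Groth.Agent.Lib.Helper16.UBF
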