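import Groth.Agent.Lib.Helper16.UBFSch
import Groth.Agent.Lib.Helper16.UBFCover
import Groth.Agent.Lib.Helper16.FppfLocal
import Groth.Agent.Lib.Helper16.EtLocal

/-!
# Helper library (helper16): locally quasi-finite morphisms with quasi-compact source have universally bounded fibres
-/

set_option autoImplicit false
universe u
open CategoryTheory CategoryTheory.Limits AlgebraicGeometry Opposite TopologicalSpace

namespace Groth.Agent.Lib.Helper16.UBF

open AlgSp Groth.Agent.Lib.Helper16

variable {S : Scheme.{u}}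

theorem hasUnivBddFibres_of_affine {W U : Over S} [IsAffine W.left] [IsAffine U.left] (f : W ⟶ U)
    [LocallyQuasiFinite f.left] [LocallyOfFiniteType f.left] :
    W4dec.HasUnivBddFibres ((yon S).map f) := by
  obtain ⟨N, hN⟩ := exists_degLE_of_quasiFinite_affine f.left
  refine ⟨N, ?_⟩
  intro q T c snd sq
  obtain ⟨σ, rfl⟩ := (yon S).map_surjective snd
  obtain ⟨x, hx⟩ := (yon S).map_surjective q.toHom
  rw [← hx] at sq
  have sqL := isPullback_left_of_yon sq
  exact hN q.K x.left T.left c.left σ.left sqL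

/-- A locally quasi-finite morphism locally of finite type with quasi-compact source has universally bounded
fibres. -/
theorem hasUnivBddFibres_yon_map_of_lqf {W U : Over S} (f : W ⟶ U) [CompactSpace ↥W.left]
    [LocallyQuasiFinite f.left] [LocallyOfFiniteType f.left] :
    W4dec.HasUnivBddFibres ((yon S).map f) := by
  have hpt : ∀ w : ↥W.left, ∃ (Ww : W.left.Opens) (Uw : U.left.Opens) (_ : Ww ≤ f.left ⁻¹ᵁ Uw),
      IsAffineOpen Ww ∧ IsAffineOpen Uw ∧ w ∈ Ww := by
    intro w
    obtain ⟨_, ⟨Uw, hUw, rfl⟩, hfw, -⟩ := U.left.isBasis_affineOpens.exists_subset_of_mem_open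
      (Set.mem_univ (f.left w)) isOpen_univ
    obtain ⟨_, ⟨Ww, hWw, rfl⟩, hw, hsub⟩ := W.left.isBasis_affineOpens.exists_subset_of_mem_open
      (show w ∈ ((f.left ⁻¹ᵁ Uw : W.left.Opens) : Set ↥W.left) from hfw) (f.left ⁻¹ᵁ Uw).isOpen
    exact ⟨Ww, Uw, hsub, hWw, hUw, hw⟩
  choose Ww Uw e hWa hUa hw using hpt
  obtain ⟨t, ht⟩ := isCompact_univ.elim_finite_subcover (fun w => (Ww w : Set ↥W.left))
    (fun w => (Ww w).isOpen) (fun w _ => Set.mem_iUnion.2 ⟨w, hw w⟩)
  refine hasUnivBddFibres_of_openCover ((yon S).map f) (fun w : ↥t => Ww w.1) ?_ ?_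
  · rw [eq_top_iff]
    intro x _
    have := ht (Set.mem_univ x)
    simp only [Set.mem_iUnion] at this
    obtain ⟨u, hu, hx⟩ := this
    simp only [Opens.mem_iSup]
    exact ⟨⟨u, hu⟩, hx⟩
  · intro w
    let g : overOpen W (Ww w.1) ⟶ overOpen U (Uw w.1) :=
      Over.homMk (f.left.resLE (Uw w.1) (Ww w.1) (e w.1)) (by
        show f.left.resLE _ _ _ ≫ (Uw w.1).ι ≫ U.hom = (Ww w.1).ι ≫ W.hom
        rw [← Category.assoc, Scheme.Hom.resLE_comp_ι, Category.assoc, Over.w f])
    have hg : g ≫ overOpenι U (Uw w.1) = overOpenι W (Ww w.1) ≫ f := by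
      ext
      exact Scheme.Hom.resLE_comp_ι _ _
    rw [← Functor.map_comp, ← hg, Functor.map_comp]
    have hm : Mono (overOpenι U (Uw w.1)) := Over.mono_of_mono_left _
    have : Mono ((yon S).map (overOpenι U (Uw w.1))) := mono_yon_map _
    apply hasUnivBddFibres_comp_mono
    have : IsAffine (overOpen W (Ww w.1)).left := hWa w.1
    have : IsAffine (overOpen U (Uw w.1)).left := hUa w.1
    have : LocallyQuasiFinite g.left := by
      show LocallyQuasiFinite (f.left.resLE (Uw w.1) (Ww w.1) (e w.1))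
      infer_instance
    have : LocallyOfFiniteType g.left := by
      show LocallyOfFiniteType (f.left.resLE (Uw w.1) (Ww w.1) (e w.1))
      infer_instance
    exact hasUnivBddFibres_of_affine g

/-- An etale morphism with quasi-compact source has universally bounded fibres. -/
theorem hasUnivBddFibres_yon_map_of_etale {W U : Over S} (f : W ⟶ U) [CompactSpace ↥W.left]
    [Etale f.left] : W4dec.HasUnivBddFibres ((yon S).map f) := by
  have : LocallyQuasiFinite f.left := locallyQuasiFinite_of_etale f.left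
  exact hasUnivBddFibres_yon_map_of_lqf f

end Groth.Agent.Lib.Helper16.UBF
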