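import Groth.Agent.Lib.Helper16.Strata
import Groth.Agent.Lib.Helper16.Charts
import Groth.Agent.Lib.Helper16.FiniteFibres
import Groth.Agent.Lib.Helper16.MonoPt
import Groth.Agent.Lib.Helper16.UBFEt
import Groth.Agent.Lib.Helper16.ClosedPt

/-!
# Helper library (helper16): the degree strata of an etale chart of an algebraic space
-/

set_option autoImplicit false
universe u
open CategoryTheory CategoryTheory.Limits AlgebraicGeometry Opposite

namespace Groth.Agent.Lib.Helper16.Strata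

open AlgSp

variable {S : Scheme.{u}} {F : Sp S} {U R : Over S} {a : (yon S).obj U ⟶ F} {c sn : R ⟶ U}

theorem hom_ext_R (sq : IsPullback ((yon S).map c) ((yon S).map sn) a a) {T : Over S} {ρ₁ ρ₂ : T ⟶ R}
    (h1 : ρ₁ ≫ c = ρ₂ ≫ c) (h2 : ρ₁ ≫ sn = ρ₂ ≫ sn) : ρ₁ = ρ₂ := by
  apply (yon S).map_injective
  apply sq.hom_ext
  · rw [← Functor.map_comp, ← Functor.map_comp, h1]
  · rw [← Functor.map_comp, ← Functor.map_comp, h2]

theorem exists_lift_R (sq : IsPullback ((yon S).map c) ((yon S).map sn) a a) {T : Over S} (x y : T ⟶ U)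
    (h : (yon S).map x ≫ a = (yon S).map y ≫ a) : ∃ ρ : T ⟶ R, ρ ≫ c = x ∧ ρ ≫ sn = y := by
  refine ⟨(yon S).preimage (sq.lift _ _ h), ?_, ?_⟩
  · apply (yon S).map_injective
    rw [Functor.map_comp, Functor.map_preimage, sq.lift_fst]
  · apply (yon S).map_injective
    rw [Functor.map_comp, Functor.map_preimage, sq.lift_snd]

/-- The projections of `h_U ×_F h_U` are separated when `U` is affine. -/
theorem isSeparated_sn (sq : IsPullback ((yon S).map c) ((yon S).map sn) a a) [IsAffine U.left] :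
    IsSeparated sn.left := by
  have hU : IsSeparated U.hom := ClosedPt.isSeparated_of_isAffine U.hom
  let m : R.left ⟶ pullback U.hom U.hom := pullback.lift c.left sn.left (by rw [Over.w c, Over.w sn])
  have hm : Mono m := by
    constructor
    intro W m₁ m₂ h
    have h1 : m₁ ≫ c.left = m₂ ≫ c.left := by
      have := congrArg (· ≫ pullback.fst U.hom U.hom) h
      simpa only [Category.assoc, pullback.lift_fst, m] using this
    have h2 : m₁ ≫ sn.left = m₂ ≫ sn.left := by
      have := congrArg (· ≫ pullback.snd U.hom U.hom) h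
      simpa only [Category.assoc, pullback.lift_snd, m] using this
    have hw : m₂ ≫ R.hom = m₁ ≫ R.hom := by
      rw [← Over.w sn, ← Category.assoc, ← h2, Category.assoc]
    let m₁' : Over.mk (m₁ ≫ R.hom) ⟶ R := Over.homMk m₁ rfl
    let m₂' : Over.mk (m₁ ≫ R.hom) ⟶ R := Over.homMk m₂ hw
    have := hom_ext_R sq (ρ₁ := m₁') (ρ₂ := m₂') (Over.OverMorphism.ext h1) (Over.OverMorphism.ext h2)
    exact congrArg CommaMorphism.left this
  have : sn.left = m ≫ pullback.snd U.hom U.hom := (pullback.lift_snd _ _ _).symm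
  rw [this]
  infer_instance

/-- The geometric degree of the fibre only depends on the image point in the algebraic space. -/
theorem hasDeg_of_ofPt_eq (sq : IsPullback ((yon S).map c) ((yon S).map sn) a a) {u u' : ↥U.left}
    (h : Points.ofPt a u' = Points.ofPt a u) {d : ℕ} (hd : HasDeg sn.left u d) : HasDeg sn.left u' d := by
  obtain ⟨K, _, x, ρ, hx, hρ, hinj⟩ := hd
  obtain ⟨v, hv1, hv2⟩ := exists_point_of_isPullback_yon_yon sq u' u h
  obtain ⟨K', _, π, y₀, hy₀, hy₀x⟩ := exists_field_lift sn.left v x (hx.trans hv2.symm)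
  have hR : sn.left ≫ U.hom = R.hom := Over.w sn
  let TK : Over S := Over.mk (x ≫ U.hom)
  let T' : Over S := Over.mk (π ≫ x ≫ U.hom)
  let ρ' : Fin d → (TK ⟶ R) := fun i => Over.homMk (ρ i) (by
    change ρ i ≫ R.hom = x ≫ U.hom
    rw [← hR, ← Category.assoc, hρ])
  let π' : T' ⟶ TK := Over.homMk π rfl
  let y₀' : T' ⟶ R := Over.homMk y₀ (by
    change y₀ ≫ R.hom = π ≫ x ≫ U.hom
    rw [← hR, ← Category.assoc, hy₀x, Category.assoc])
  have hsn : ∀ i, y₀' ≫ sn = π' ≫ ρ' i ≫ sn := fun i => by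
    apply Over.OverMorphism.ext
    change y₀ ≫ sn.left = π ≫ ρ i ≫ sn.left
    rw [hy₀x, hρ]
  have heq : ∀ i, (yon S).map (π' ≫ ρ' i ≫ c) ≫ a = (yon S).map (y₀' ≫ c) ≫ a := fun i => by
    have e1 : (yon S).map (π' ≫ ρ' i ≫ c) ≫ a = (yon S).map (π' ≫ ρ' i ≫ sn) ≫ a := by
      simp only [Functor.map_comp, Category.assoc, sq.w]
    have e2 : (yon S).map (y₀' ≫ c) ≫ a = (yon S).map (y₀' ≫ sn) ≫ a := by
      rw [Functor.map_comp, Functor.map_comp, Category.assoc, Category.assoc, sq.w]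
    rw [e1, e2, hsn i]
  have hσ : ∀ i, ∃ σ : T' ⟶ R, σ ≫ c = π' ≫ ρ' i ≫ c ∧ σ ≫ sn = y₀' ≫ c := fun i =>
    exists_lift_R sq _ _ (heq i)
  choose σ hσ1 hσ2 using hσ
  refine ⟨K', inferInstance, y₀ ≫ c.left, fun i => (σ i).left, ?_, fun i => ?_, fun i j hij => ?_⟩
  · rw [Scheme.Hom.comp_apply, hy₀, hv1]
  · exact congrArg CommaMorphism.left (hσ2 i)
  · have h1 : σ i = σ j := Over.OverMorphism.ext hij
    have h2 : π' ≫ ρ' i ≫ c = π' ≫ ρ' j ≫ c := by rw [← hσ1, ← hσ1, h1]
    have h3 : π ≫ ρ i ≫ c.left = π ≫ ρ j ≫ c.left := congrArg CommaMorphism.left h2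
    have h4 : ρ i ≫ c.left = ρ j ≫ c.left := cancel_field_epi π h3
    have h5 : ρ' i = ρ' j := hom_ext_R sq (Over.OverMorphism.ext h4)
      (Over.OverMorphism.ext (by change ρ i ≫ sn.left = ρ j ≫ sn.left; rw [hρ, hρ]))
    exact hinj (congrArg CommaMorphism.left h5)

theorem mk_fieldPtOfHom_eq_ofPt {K : Type u} [Field K] (str : Spec (CommRingCat.of K) ⟶ S)
    (m : (yon S).obj (Over.mk str) ⟶ F) :
    Points.mk (fieldPtOfHom K str m) = Points.ofPt m (IsLocalRing.closedPoint K) := by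
  have h := Points.ofPt_toHom (fieldPtOfHom K str m) (IsLocalRing.closedPoint K)
  rw [fieldPtOfHom_toHom] at h
  exact h.symm

theorem exists_factor_of_mono_of_mk_eq (p : FieldPt F) (hm : Mono p.toHom) (hrep : Representable p.toHom)
    {K : Type u} [Field K] (str : Spec (CommRingCat.of K) ⟶ S) (m : (yon S).obj (Over.mk str) ⟶ F)
    (h : Points.mk (fieldPtOfHom K str m) = Points.mk p) :
    ∃ φ : Over.mk str ⟶ p.pt, m = (yon S).map φ ≫ p.toHom := by
  obtain ⟨φ, hφ⟩ := exists_factor_of_rel_of_mono p (fieldPtOfHom K str m) hm hrep (Points.mk_eq_mk_iff.1 h)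
  rw [fieldPtOfHom_toHom] at hφ
  exact ⟨φ, hφ⟩

/-- Sections of a finite morphism to the spectrum of a field are bounded by the degree. -/
theorem card_sections_le {T : Scheme.{u}} {K : Type u} [Field K] (c : T ⟶ Spec (CommRingCat.of K)) {n : ℕ}
    (h : UBF.DegLE c n) {d : ℕ} (σ : Fin d → (Spec (CommRingCat.of K) ⟶ T)) (hσ : ∀ i, σ i ≫ c = 𝟙 _)
    (hinj : Function.Injective σ) : d ≤ n := by
  have hfin : IsFinite c := h.1
  have hTaff : IsAffine T := isAffine_of_isAffineHom c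
  letI alg : Algebra K Γ(T, ⊤) := gammaAlgebra c
  obtain ⟨hmf, hrk⟩ := (UBF.degLE_iff c n).1 h
  have hmf' : Module.Finite K Γ(T, ⊤) := hmf
  have hcomm : ∀ i, (Scheme.ΓSpecIso (CommRingCat.of K)).inv ≫ c.appTop ≫ (σ i).appTop ≫
      (Scheme.ΓSpecIso (CommRingCat.of K)).hom = 𝟙 _ := fun i => by
    rw [← Category.assoc c.appTop, ← Scheme.Hom.comp_appTop, hσ i, Scheme.Hom.id_appTop, Category.id_comp,
      Iso.inv_hom_id]
  let ψ : Fin d → (Γ(T, ⊤) →ₐ[K] K) := fun i =>
    { toRingHom := ((σ i).appTop ≫ (Scheme.ΓSpecIso (CommRingCat.of K)).hom).hom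
      commutes' := fun k => by
        have := ConcreteCategory.congr_hom (hcomm i) k
        simpa [RingHom.algebraMap_toAlgebra] using this }
  have hψ : Function.Injective ψ := by
    intro i j hij
    apply hinj
    apply ext_of_isAffine
    have h1 : ((σ i).appTop ≫ (Scheme.ΓSpecIso (CommRingCat.of K)).hom).hom =
        ((σ j).appTop ≫ (Scheme.ΓSpecIso (CommRingCat.of K)).hom).hom := congrArg AlgHom.toRingHom hij
    have h2 := CommRingCat.hom_ext h1
    exact (cancel_mono _).1 h2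
  have h1 : d ≤ Nat.card (Γ(T, ⊤) →ₐ[K] K) := by
    have := Nat.card_le_card_of_injective ψ hψ
    simpa using this
  exact (h1.trans (card_algHom_le_finrank K Γ(T, ⊤) K)).trans hrk

/-- On a decent space the geometric degrees of the fibres of an etale chart from a quasi-compact scheme are finite. -/
theorem exists_bound_hasDeg (sq : IsPullback ((yon S).map c) ((yon S).map sn) a a) (hF : IsDecent F)
    (ha : RepWith @Etale a) [CompactSpace ↥U.left] (u : ↥U.left) :
    ∃ N : ℕ, ∀ d, HasDeg sn.left u d → d ≤ N := by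
  obtain ⟨p, hp, hm, hq⟩ := hF (Points.ofPt a u)
  have sqF := hq.rep.isPullback a
  obtain ⟨c₀, hc₀⟩ := (yon S).map_surjective (hq.rep.fst a)
  rw [← hc₀] at sqF
  have hqc : QuasiCompact (hq.rep.snd a).left := hq.property_snd a
  have hcet : Etale c₀.left := ha.property p.toHom _ c₀ sqF.flip
  have hcpt : CompactSpace ↥(hq.rep.pullback a).left :=
    QuasiCompact.compactSpace_of_compactSpace (hq.rep.snd a).left
  obtain ⟨n, hn⟩ := UBF.hasUnivBddFibres_yon_map_of_etale c₀
  refine ⟨n, ?_⟩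
  rintro d ⟨K, _, x, ρ, hx, hρ, hinj⟩
  have hR : sn.left ≫ U.hom = R.hom := Over.w sn
  let TK : Over S := Over.mk (x ≫ U.hom)
  let x' : TK ⟶ U := Over.homMk x rfl
  let ρ' : Fin d → (TK ⟶ R) := fun i => Over.homMk (ρ i) (by
    change ρ i ≫ R.hom = x ≫ U.hom
    rw [← hR, ← Category.assoc, hρ])
  have hρ'sn : ∀ i, ρ' i ≫ sn = x' := fun i => Over.OverMorphism.ext (hρ i)
  have hqp : Points.mk (fieldPtOfHom K (x ≫ U.hom) ((yon S).map x' ≫ a)) = Points.mk p := by
    rw [mk_fieldPtOfHom_eq_ofPt, hp]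
    exact (ofPt_yon_map_comp x' a _).trans (congrArg _ hx)
  obtain ⟨φ, hφ⟩ := exists_factor_of_mono_of_mk_eq p hm hq.rep (x ≫ U.hom) ((yon S).map x' ≫ a) hqp
  have hy : ∀ i, (yon S).map φ ≫ p.toHom = (yon S).map (ρ' i ≫ c) ≫ a := fun i => by
    rw [← hφ, Functor.map_comp, Category.assoc, sq.w, ← Category.assoc, ← Functor.map_comp, hρ'sn]
  have hz : ∀ i, ∃ z : TK ⟶ hq.rep.pullback a, z ≫ c₀ = φ ∧ z ≫ hq.rep.snd a = ρ' i ≫ c := fun i => by
    refine ⟨(yon S).preimage (sqF.lift _ _ (hy i)), ?_, ?_⟩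
    · apply (yon S).map_injective
      rw [Functor.map_comp, Functor.map_preimage, sqF.lift_fst]
    · apply (yon S).map_injective
      rw [Functor.map_comp, Functor.map_preimage, sqF.lift_snd]
  choose z hz1 hz2 using hz
  have sqP : IsPullback ((yon S).map (pullback.fst φ c₀)) ((yon S).map (pullback.snd φ c₀))
      ((yon S).map φ) ((yon S).map c₀) := (IsPullback.of_hasPullback φ c₀).map (yon S)
  have hdeg := degFibresLE_apply_hom hn (x ≫ U.hom) ((yon S).map φ) (pullback φ c₀) (pullback.fst φ c₀)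
    ((yon S).map (pullback.snd φ c₀)) sqP
  let τ : Fin d → (TK ⟶ pullback φ c₀) := fun i => pullback.lift (𝟙 TK) (z i) (by rw [Category.id_comp, hz1])
  refine card_sections_le (pullback.fst φ c₀).left hdeg (fun i => (τ i).left) (fun i => ?_) (fun i j hij => ?_)
  · have : τ i ≫ pullback.fst φ c₀ = 𝟙 TK := pullback.lift_fst _ _ _
    exact congrArg CommaMorphism.left this
  · have h1 : τ i = τ j := Over.OverMorphism.ext hij
    have h2 : z i = z j := by
      have := congrArg (· ≫ pullback.snd φ c₀) h1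
      simpa only [τ, pullback.lift_snd] using this
    have h3 : ρ' i ≫ c = ρ' j ≫ c := by rw [← hz2, ← hz2, h2]
    have h5 : ρ' i = ρ' j := hom_ext_R sq h3 (by rw [hρ'sn, hρ'sn])
    exact hinj (congrArg CommaMorphism.left h5)

end Groth.Agent.Lib.Helper16.Strata
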