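import Mathlib
import Groth.Agent.Lib.Helper16.FiltCore1
import Groth.Agent.Lib.Helper16.StrataSp
import Groth.Agent.Lib.Helper16.Decent
import Groth.Agent.Lib.Helper16.LocSurj

/-!
# Helper library (helper16): etale neighbourhoods of one-point affine schemes mapping to an algebraic space

Every morphism from a one-point affine scheme `T` to an algebraic space `X` (no separation hypotheses) factors
through a scheme of unordered tuples `W/S_{k+1}` of an affine etale chart, which is a separated scheme etale over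
`X`; hence through an affine scheme etale over `X`.
-/

set_option autoImplicit false
universe u
open CategoryTheory CategoryTheory.Limits AlgebraicGeometry Opposite

namespace Groth.Agent.Lib.Helper16.EtNbhd

open AlgSp Strata Tuple QuotFin Groth.Agent.Lib.Helper15

variable {S : Scheme.{u}} {X : Sp S}

/-- The scheme of unordered `(k+1)`-tuples of an affine etale chart, with its universal ordered cover. -/
theorem exists_tuple_quotient (hX : IsAlgSpace X) {U : Over S} [IsAffine U.left] (a : (yon S).obj U ⟶ X)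
    (hae : RepWith @Etale a) (k : ℕ) :
    ∃ (W V : Over S) (πW : Fin (k + 1) → (W ⟶ U)) (qV : W ⟶ V) (f' : (yon S).obj V ⟶ X),
      IsUniv a πW ∧
      (∀ (σ : Equiv.Perm (Fin (k + 1))) (φσ : W ⟶ W), (∀ i, φσ ≫ πW i = πW (σ i)) → φσ ≫ qV = qV) ∧
      (yon S).map qV ≫ f' = (yon S).map (πW 0) ≫ a ∧ RepWith @Etale f' ∧ V.left.IsSeparated := by
  have hUsep : IsSeparated U.hom := ClosedPt.isSeparated_of_isAffine U.hom
  have has : RepWith @IsSeparated a :=
    Filt.repWith_isSeparated_of_isSeparated_hom a (hX.representable_from_yon a) hUsep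
  obtain ⟨W, π, hπ, hsep, het, -⟩ := exists_univ_sep hae has k
  have hφ : IsFreeAct (act hπ) := ⟨act_one hπ, act_mul hπ, fun σ hσ K _ x => act_free hπ σ hσ K x⟩
  obtain ⟨V, qV, e, he, hqet, hqsurj⟩ := exists_scheme_quotient hφ
    (fun w => exists_invariant_affine_nbhd hφ (π 0).left w)
  have hWsep : W.left.IsSeparated := ⟨by
    have : terminal.from W.left = (π 0).left ≫ terminal.from U.left := terminal.hom_ext _ _
    rw [this]
    infer_instance⟩
  have hVsep : V.left.IsSeparated := isSeparated_quotient hφ he hqet hqsurj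
  obtain ⟨b, hb⟩ : ∃ b : (yon S).obj W ⟶ X, b = (yon S).map (π 0) ≫ a := ⟨_, rfl⟩
  have hbinv : ∀ σ, (yon S).map (act hπ σ) ≫ b = b := fun σ => by
    rw [hb, ← Category.assoc, ← Functor.map_comp, act_π]
    exact hπ.tuple.eq _ _
  obtain ⟨f', hf'⟩ := QuotFin.exists_desc he b hbinv
  refine ⟨W, V, π, qV, f', hπ, ?_, by rw [hf', hb], ?_, hVsep⟩
  · intro σ φσ hφσ
    have : φσ = act hπ σ := hπ.ext _ _ _ (fun i => by rw [hφσ i, act_π])
    rw [this]
    exact act_comp_qV he σ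
  · have hloc : LocP @Etale f' := locP_of_chart etLocalST_etale f' ((yon S).map qV) a (π 0)
      ((repWith_yon_map_iff _ _).2 hqet) ((repWith_yon_map_iff _ _).2 hqsurj) hae (by rw [hf', hb]) het
    exact (locP_iff_repWith etLocalST_etale (IsAlgSpace.yon_obj V) hX f' (hX.representable_from_yon f')).1 hloc

/-- An etale morphism from a nonempty affine scheme to a one-point scheme has constant positive geometric
degree. -/
theorem exists_const_deg {T P : Over S} [Subsingleton ↥T.left] [IsAffine P.left] [Nonempty ↥P.left]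
    (fP : P ⟶ T) [Etale fP.left] {RP : Over S} {cP snP : RP ⟶ P}
    (sqP : IsPullback ((yon S).map cP) ((yon S).map snP) ((yon S).map fP) ((yon S).map fP)) :
    ∃ k : ℕ, ∀ x : ↥P.left, HasDeg snP.left x (k + 1) ∧ ¬ HasDeg snP.left x (k + 1 + 1) := by
  classical
  obtain ⟨p₁⟩ := (inferInstance : Nonempty ↥P.left)
  have haPe : RepWith @Etale ((yon S).map fP) := (repWith_yon_map_iff _ _).2 (inferInstance : Etale fP.left)
  obtain ⟨N, hN⟩ := exists_bound_hasDeg sqP (isDecent_yon T) haPe p₁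
  have hpt : ∀ x x' : ↥P.left, Points.ofPt ((yon S).map fP) x' = Points.ofPt ((yon S).map fP) x := fun x x' => by
    rw [Points.ofPt_eq_map_ofScheme, Points.ofPt_eq_map_ofScheme, map_yon_map_ofScheme, map_yon_map_ofScheme,
      Subsingleton.elim (fP.left x') (fP.left x)]
  have h1 : HasDeg snP.left p₁ 1 := by
    rw [hasDeg_one_iff]
    obtain ⟨e, -, hes⟩ := exists_lift_R sqP (𝟙 P) (𝟙 P) rfl
    refine ⟨e.left p₁, ?_⟩
    have h1 : e.left ≫ snP.left = 𝟙 P.left := by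
      rw [← Over.comp_left, hes]
      rfl
    exact congrArg (fun f : P.left ⟶ P.left => f p₁) h1
  obtain ⟨d, hd⟩ : ∃ d, d = Nat.findGreatest (fun m => HasDeg snP.left p₁ m) N := ⟨_, rfl⟩
  have hd1 : HasDeg snP.left p₁ d := by
    rw [hd]
    exact Nat.findGreatest_spec (P := fun m => HasDeg snP.left p₁ m) (Nat.zero_le N) (hasDeg_zero _ _)
  have hd2 : ¬ HasDeg snP.left p₁ (d + 1) := by
    intro h
    have hle : d + 1 ≤ N := hN _ h
    have := Nat.findGreatest_is_greatest (P := fun m => HasDeg snP.left p₁ m) (n := N) (k := d + 1)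
      (by rw [← hd]; exact Nat.lt_succ_self d) hle
    exact this h
  have hd3 : 1 ≤ d := by
    rw [hd]
    exact Nat.le_findGreatest (hN 1 h1) h1
  obtain ⟨k, rfl⟩ : ∃ k, d = k + 1 := ⟨d - 1, by omega⟩
  exact ⟨k, fun x => ⟨hasDeg_of_ofPt_eq sqP (hpt p₁ x) hd1, fun h => hd2 (hasDeg_of_ofPt_eq sqP (hpt x p₁) h)⟩⟩

/-- A point of a scheme over an algebraic space lifts, on an affine etale piece of the fibre, to an affine open of
an atlas. -/
theorem exists_chart_piece {U₀ : Over S} (a₀ : (yon S).obj U₀ ⟶ X) (ha₀e : RepWith @Etale a₀)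
    (ha₀s : RepWith @Surjective a₀) (T : Over S) [Nonempty ↥T.left] (z₀ : (yon S).obj T ⟶ X) :
    ∃ (U₁ : U₀.left.Opens) (_ : IsAffineOpen U₁) (P : Over S) (fP : P ⟶ T) (u : P ⟶ overOpen U₀ U₁),
      IsAffine P.left ∧ Nonempty ↥P.left ∧ Etale fP.left ∧
      (yon S).map u ≫ (yon S).map (overOpenι U₀ U₁) ≫ a₀ = (yon S).map fP ≫ z₀ ∧
      ∀ (Z' : Over S) (z₁ z₂ : Z' ⟶ P), z₁ ≫ fP = z₂ ≫ fP → z₁ ≫ u = z₂ ≫ u → z₁ = z₂ := by
  obtain ⟨P₀, e₀, ρ₀, sq₀⟩ := ha₀e.rep z₀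
  obtain ⟨r₀, rfl⟩ := (yon S).map_surjective ρ₀
  have he₀e : Etale e₀.left := ha₀e.property _ _ _ sq₀
  have he₀s : Surjective e₀.left := ha₀s.property _ _ _ sq₀
  obtain ⟨t₀⟩ := (inferInstance : Nonempty ↥T.left)
  obtain ⟨p₀, -⟩ := he₀s.surj t₀
  obtain ⟨_, ⟨U₁, hU₁, rfl⟩, hu₀, -⟩ :=
    U₀.left.isBasis_affineOpens.exists_subset_of_mem_open (Set.mem_univ (r₀.left p₀)) isOpen_univ
  obtain ⟨_, ⟨P₁, hP₁, rfl⟩, hp₀, hP₁le⟩ :=
    P₀.left.isBasis_affineOpens.exists_subset_of_mem_open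
      (show p₀ ∈ ((r₀.left ⁻¹ᵁ U₁ : P₀.left.Opens) : Set ↥P₀.left) from hu₀) (r₀.left ⁻¹ᵁ U₁).isOpen
  obtain ⟨u, hu⟩ := exists_lift_overOpen U₁ (overOpenι P₀ P₁ ≫ r₀) (fun y => hP₁le y.2)
  have hιmono : Mono (overOpenι P₀ P₁) := by
    have : Mono ((Over.forget S).map (overOpenι P₀ P₁)) := by
      show Mono (Scheme.Opens.ι P₁)
      infer_instance
    exact (Over.forget S).mono_of_mono_map this
  refine ⟨U₁, hU₁, overOpen P₀ P₁, overOpenι P₀ P₁ ≫ e₀, u, hP₁, ⟨⟨p₀, hp₀⟩⟩, ?_, ?_, ?_⟩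
  · show Etale (Scheme.Opens.ι P₁ ≫ e₀.left)
    infer_instance
  · calc (yon S).map u ≫ (yon S).map (overOpenι U₀ U₁) ≫ a₀
        = (yon S).map (u ≫ overOpenι U₀ U₁) ≫ a₀ := by rw [Functor.map_comp, Category.assoc]
      _ = (yon S).map (overOpenι P₀ P₁) ≫ (yon S).map r₀ ≫ a₀ := by rw [hu, Functor.map_comp, Category.assoc]
      _ = (yon S).map (overOpenι P₀ P₁) ≫ (yon S).map e₀ ≫ z₀ := by rw [sq₀.w]
      _ = (yon S).map (overOpenι P₀ P₁ ≫ e₀) ≫ z₀ := by rw [Functor.map_comp, Category.assoc]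
  · intro Z' z₁ z₂ h1 h2
    rw [← cancel_mono (overOpenι P₀ P₁)]
    apply (yon S).map_injective
    apply sq₀.hom_ext
    · rw [← Functor.map_comp, ← Functor.map_comp]
      congr 1
      calc (z₁ ≫ overOpenι P₀ P₁) ≫ r₀ = (z₁ ≫ u) ≫ overOpenι U₀ U₁ := by simp only [Category.assoc, hu]
        _ = (z₂ ≫ u) ≫ overOpenι U₀ U₁ := by rw [h2]
        _ = (z₂ ≫ overOpenι P₀ P₁) ≫ r₀ := by simp only [Category.assoc, hu]
    · rw [← Functor.map_comp, ← Functor.map_comp, Category.assoc, Category.assoc, h1]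

/-- **Factorisation through the scheme of unordered tuples.** -/
theorem exists_factor_of_tuple_quotient {U : Over S} {a : (yon S).obj U ⟶ X} {k : ℕ} {W V : Over S}
    {πW : Fin (k + 1) → (W ⟶ U)} {qV : W ⟶ V} {f' : (yon S).obj V ⟶ X} (hπW : IsUniv a πW)
    (hinv : ∀ (σ : Equiv.Perm (Fin (k + 1))) (φσ : W ⟶ W), (∀ i, φσ ≫ πW i = πW (σ i)) → φσ ≫ qV = qV)
    (hf' : (yon S).map qV ≫ f' = (yon S).map (πW 0) ≫ a)
    {T P : Over S} [Subsingleton ↥T.left] [IsAffine T.left] [IsAffine P.left] [Nonempty ↥P.left]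
    (z₀ : (yon S).obj T ⟶ X) (fP : P ⟶ T) [Etale fP.left] (u : P ⟶ U)
    (hcomm : (yon S).map u ≫ a = (yon S).map fP ≫ z₀)
    (hmono : ∀ (Z' : Over S) (z₁ z₂ : Z' ⟶ P), z₁ ≫ fP = z₂ ≫ fP → z₁ ≫ u = z₂ ≫ u → z₁ = z₂)
    {RP : Over S} {cP snP : RP ⟶ P}
    (sqP : IsPullback ((yon S).map cP) ((yon S).map snP) ((yon S).map fP) ((yon S).map fP))
    (hdeg : ∀ x : ↥P.left, HasDeg snP.left x (k + 1) ∧ ¬ HasDeg snP.left x (k + 1 + 1)) :
    ∃ g₀ : T ⟶ V, (yon S).map g₀ ≫ f' = z₀ := by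
  have haPe : RepWith @Etale ((yon S).map fP) := (repWith_yon_map_iff _ _).2 (inferInstance : Etale fP.left)
  have haPs : RepWith @IsSeparated ((yon S).map fP) :=
    (repWith_yon_map_iff _ _).2 (ClosedPt.isSeparated_of_isAffine fP.left)
  have haPq : RepWith @QuasiCompact ((yon S).map fP) :=
    (repWith_yon_map_iff _ _).2 ((quasiCompact_iff_compactSpace fP.left).2 inferInstance)
  obtain ⟨I, πI, hπI, -, hIet, hIcpt⟩ := exists_univ_sep haPe haPs k
  have hIc : CompactSpace ↥I.left := hIcpt haPq inferInstance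
  have hIsurj : Surjective (πI 0).left := surjective_π hπI sqP hdeg 0
  have hkey : ∀ i, (yon S).map (πI i ≫ u) ≫ a = (yon S).map (πI i) ≫ (yon S).map fP ≫ z₀ := fun i => by
    rw [Functor.map_comp, Category.assoc, hcomm]
  have htup : IsTuple a (fun i => πI i ≫ u) := by
    refine ⟨fun i j => ?_, fun i j hij Z' z hz => ?_⟩
    · show (yon S).map (πI i ≫ u) ≫ a = (yon S).map (πI j ≫ u) ≫ a
      rw [hkey, hkey, reassoc_of% (hπI.tuple.eq i j)]
    · have hz' : z ≫ πI i ≫ u = z ≫ πI j ≫ u := hz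
      have h1 : (z ≫ πI i) ≫ fP = (z ≫ πI j) ≫ fP := by
        apply (yon S).map_injective
        simp only [Functor.map_comp, Category.assoc]
        rw [hπI.tuple.eq i j]
      have h2 : (z ≫ πI i) ≫ u = (z ≫ πI j) ≫ u := by
        rw [Category.assoc, Category.assoc]
        exact hz'
      exact hπI.tuple.disj i j hij Z' z (hmono _ _ _ h1 h2)
  obtain ⟨ũ, hũ₀⟩ := hπW.lift I _ htup
  have hũ : ∀ i, ũ ≫ πW i = πI i ≫ u := hũ₀
  have hequiv : ∀ σ, act hπI σ ≫ ũ = ũ ≫ act hπW σ := fun σ => hπW.ext _ _ _ fun i => by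
    calc (act hπI σ ≫ ũ) ≫ πW i = (act hπI σ ≫ πI i) ≫ u := by simp only [Category.assoc, hũ]
      _ = πI (σ i) ≫ u := by rw [act_π]
      _ = ũ ≫ πW (σ i) := (hũ _).symm
      _ = (ũ ≫ act hπW σ) ≫ πW i := by rw [Category.assoc, act_π]
  obtain ⟨ν, hν⟩ : ∃ ν : I ⟶ V, ν = ũ ≫ qV := ⟨_, rfl⟩
  have hνinv : ∀ σ, act hπI σ ≫ ν = ν := fun σ => by
    rw [hν, ← Category.assoc, hequiv, Category.assoc, hinv σ (act hπW σ) (fun i => act_π hπW σ i)]
  obtain ⟨ψ', hψ'⟩ : ∃ ψ' : I ⟶ T, ψ' = πI 0 ≫ fP := ⟨_, rfl⟩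
  have hψet : Etale ψ'.left := by
    rw [hψ']
    show Etale ((πI 0).left ≫ fP.left)
    infer_instance
  have hψsurj : Surjective ψ'.left := by
    refine ⟨fun t => ?_⟩
    obtain ⟨p₁⟩ := (inferInstance : Nonempty ↥P.left)
    obtain ⟨i₁, -⟩ := hIsurj.surj p₁
    exact ⟨i₁, Subsingleton.elim _ _⟩
  have hψqc : QuasiCompact ψ'.left := (quasiCompact_iff_compactSpace ψ'.left).2 hIc
  have hψflat : Flat ψ'.left := inferInstance
  have hcompat : ∀ {Z : Scheme.{u}} (g₁ g₂ : Z ⟶ I.left), g₁ ≫ ψ'.left = g₂ ≫ ψ'.left →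
      g₁ ≫ ν.left = g₂ ≫ ν.left := by
    intro Z g₁ g₂ hg
    have hw : g₂ ≫ I.hom = g₁ ≫ I.hom := by
      rw [← Over.w ψ', reassoc_of% hg]
    let g₁' : Over.mk (g₁ ≫ I.hom) ⟶ I := Over.homMk g₁ rfl
    let g₂' : Over.mk (g₁ ≫ I.hom) ⟶ I := Over.homMk g₂ hw
    have hgg : g₁' ≫ ψ' = g₂' ≫ ψ' := Over.OverMorphism.ext hg
    have hlc : LocConj (act hπI) g₁' g₂' := by
      intro t
      refine exists_perm_of_eq hπI haPe sqP (fun x => (hdeg x).2) 0 g₁' g₂' ?_ t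
      rw [← Functor.map_comp, ← Functor.map_comp, Category.assoc, Category.assoc, ← hψ', hgg]
    have h3 := LocConj.comp_eq hlc ν hνinv
    exact congrArg CommaMorphism.left h3
  obtain ⟨g₀', hg₀'⟩ : ∃ g₀' : T.left ⟶ V.left, ψ'.left ≫ g₀' = ν.left :=
    ⟨EffectiveEpi.desc ψ'.left ν.left (fun g₁ g₂ hg => hcompat g₁ g₂ hg), EffectiveEpi.fac _ _ _⟩
  have hepiψ : Epi ψ'.left := Flat.epi_of_flat_of_surjective ψ'.left
  have hw₀ : g₀' ≫ V.hom = T.hom := by
    rw [← cancel_epi ψ'.left, ← Category.assoc, hg₀', Over.w ν, Over.w ψ']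
  obtain ⟨g₀, hg₀⟩ : ∃ g₀ : T ⟶ V, g₀.left = g₀' := ⟨Over.homMk g₀' hw₀, rfl⟩
  have hψg : ψ' ≫ g₀ = ν := Over.OverMorphism.ext (by rw [Over.comp_left, hg₀, hg₀'])
  have hepi : Epi ((yon S).map ψ') := by
    have : Sheaf.IsLocallySurjective ((yon S).map ψ') :=
      isLocallySurjective_of_repWith_fppf _ ((repWith_yon_map_iff _ _).2 (inferInstance : Flat ψ'.left))
        ((repWith_yon_map_iff _ _).2 (inferInstance : LocallyOfFinitePresentation ψ'.left))
        ((repWith_yon_map_iff _ _).2 hψsurj)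
    infer_instance
  refine ⟨g₀, ?_⟩
  rw [← cancel_epi ((yon S).map ψ')]
  calc (yon S).map ψ' ≫ (yon S).map g₀ ≫ f' = (yon S).map ν ≫ f' := by
        rw [← Category.assoc, ← Functor.map_comp, hψg]
    _ = (yon S).map ũ ≫ (yon S).map (πW 0) ≫ a := by
        rw [hν, Functor.map_comp, Category.assoc, hf']
    _ = (yon S).map (πI 0 ≫ u) ≫ a := by
        rw [← Category.assoc, ← Functor.map_comp, hũ]
    _ = (yon S).map ψ' ≫ z₀ := by
        rw [hkey, hψ', Functor.map_comp, Category.assoc]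

/-- **Every point of an algebraic space with values in a one-point affine scheme has an affine etale
neighbourhood.** -/
theorem exists_affine_etale_nbhd (hX : IsAlgSpace X) (T : Over S) [Subsingleton ↥T.left] [Nonempty ↥T.left]
    [IsAffine T.left] (z₀ : (yon S).obj T ⟶ X) :
    ∃ (Z : Over S) (p : (yon S).obj Z ⟶ X) (g : T ⟶ Z), IsAffine Z.left ∧ RepWith @Etale p ∧
      (yon S).map g ≫ p = z₀ := by
  obtain ⟨U₀, a₀, ha₀e, ha₀s⟩ := hX.atlas
  obtain ⟨U₁, hU₁, P, fP, u, hPaff, hPne, hfPet, hcomm, hmono⟩ := exists_chart_piece a₀ ha₀e ha₀s T z₀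
  haveI : IsAffine (overOpen U₀ U₁).left := hU₁
  have hae : RepWith @Etale ((yon S).map (overOpenι U₀ U₁) ≫ a₀) := repWith_etale_restrict a₀ ha₀e U₁
  have sqP := (IsPullback.of_hasPullback fP fP).map (yon S)
  obtain ⟨k, hdeg⟩ := exists_const_deg fP sqP
  obtain ⟨W, V, πW, qV, f', hπW, hinv, hf', hf'e, -⟩ := exists_tuple_quotient hX _ hae k
  obtain ⟨g₀, hg₀⟩ := exists_factor_of_tuple_quotient hπW hinv hf' z₀ fP u hcomm hmono sqP hdeg
  obtain ⟨t₀⟩ := (inferInstance : Nonempty ↥T.left)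
  obtain ⟨_, ⟨OZ, hOZ, rfl⟩, hv₀, -⟩ :=
    V.left.isBasis_affineOpens.exists_subset_of_mem_open (Set.mem_univ (g₀.left t₀)) isOpen_univ
  obtain ⟨g, hg⟩ := exists_lift_overOpen OZ g₀ (fun t => by rw [Subsingleton.elim t t₀]; exact hv₀)
  refine ⟨overOpen V OZ, (yon S).map (overOpenι V OZ) ≫ f', g, hOZ, repWith_etale_restrict f' hf'e OZ, ?_⟩
  rw [← Category.assoc, ← Functor.map_comp, hg, hg₀]

end Groth.Agent.Lib.Helper16.EtNbhd
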