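import Mathlib
import Groth.Agent.Lib.Helper16.EtNbhd1
import Groth.Agent.Lib.Helper16.ElemNbhd
import Groth.Agent.Lib.Helper16.Special
import Groth.Agent.Lib.Helper16.ClosedPt
import Groth.Agent.Lib.Helper16.SchemeTop

/-!
# Helper library (helper16): existence of elementary etale neighbourhoods on decent spaces

* `exists_generization_in_fibre`: a strict specialization inside a fibre of an etale chart produces a strict
  generization of its source inside the same fibre;
* `eq_of_specializes_of_finite_fibre`: finite fibres of etale charts have no specializations;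
* `finite_fibre_of_quasiCompact_point`: fibres of compact etale charts over quasi-compact field points are finite;
* `exists_elem_nbhd`: an affine etale neighbourhood through which a quasi-compact monomorphic field point factors
  can be shrunk to an elementary etale neighbourhood with one point in the fibre.
-/

set_option autoImplicit false
universe u
open CategoryTheory CategoryTheory.Limits AlgebraicGeometry Opposite Topology

namespace Groth.Agent.Lib.Helper16.ElemNbhd

open AlgSp Groth.Agent.Lib.Helper16 Groth.Agent.Lib.Helper15 Groth.Agent.Lib.Helper16.ClosedPt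

variable {S : Scheme.{u}}

theorem exists_generization_in_fibre {X : Sp S} {W R : Over S} (a : (yon S).obj W ⟶ X)
    (ha : RepWith @Etale a) {s t : R ⟶ W} (sq : IsPullback ((yon S).map s) ((yon S).map t) a a)
    {u u' : ↥W.left} (hs : u ⤳ u') (hne : u ≠ u') (hx : Points.ofPt a u = Points.ofPt a u') :
    ∃ u'' : ↥W.left, u'' ⤳ u ∧ u'' ≠ u ∧ Points.ofPt a u'' = Points.ofPt a u := by
  obtain ⟨r, hr1, hr2⟩ := exists_point_of_isPullback_yon_yon sq u u' hx
  haveI hte : Etale t.left := ha.property a ((yon S).map s) t sq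
  haveI hse : Etale s.left := ha.property a ((yon S).map t) s sq.flip
  haveI hflat : Flat t.left := inferInstance
  obtain ⟨r', hr's, hr't⟩ := (Flat.generalizingMap t.left) (a := r) (b := u) (by rw [hr2]; exact hs)
  refine ⟨s.left r', ?_, ?_, ?_⟩
  · have := hr's.map s.left.continuous
    rwa [hr1] at this
  · intro heq
    haveI hlqf : LocallyQuasiFinite s.left := locallyQuasiFinite_of_etale s.left
    have hdisc := s.left.isDiscrete_preimage_singleton u
    obtain ⟨O, hO, hOe⟩ := isDiscrete_iff_forall_mem_exists_isOpen.1 hdisc r hr1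
    have hrO : r ∈ O := by
      have : r ∈ O ∩ s.left ⁻¹' {u} := by rw [hOe]; rfl
      exact this.1
    have hr'O : r' ∈ O := hr's.mem_open hO hrO
    have hmem : r' ∈ O ∩ s.left ⁻¹' {u} := ⟨hr'O, heq⟩
    rw [hOe] at hmem
    have hrr : r' = r := hmem
    apply hne
    rw [← hr't, hrr, hr2]
  · calc Points.ofPt a (s.left r') = Points.ofPt ((yon S).map s ≫ a) r' :=
          (ofPt_yon_map_comp s a r').symm
      _ = Points.ofPt ((yon S).map t ≫ a) r' := by rw [sq.w]
      _ = Points.ofPt a (t.left r') := ofPt_yon_map_comp t a r'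
      _ = Points.ofPt a u := by rw [hr't]

theorem eq_of_specializes_of_finite_fibre {X : Sp S} {W R : Over S} (a : (yon S).obj W ⟶ X)
    (ha : RepWith @Etale a) {s t : R ⟶ W} (sq : IsPullback ((yon S).map s) ((yon S).map t) a a)
    (x : Points X) (hfin : {w : ↥W.left | Points.ofPt a w = x}.Finite)
    {u u' : ↥W.left} (hu : Points.ofPt a u = x) (hu' : Points.ofPt a u' = x) (hs : u ⤳ u') :
    u = u' := by
  by_contra hne
  let G : ↥W.left → Set ↥W.left := fun v => {w | Points.ofPt a w = x ∧ w ⤳ v}
  have hGfin : ∀ v, (G v).Finite := fun v => hfin.subset (fun w hw => hw.1)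
  obtain ⟨v, hvG, hvmin⟩ := Set.exists_min_image (G u) (fun v => (G v).ncard) (hGfin u)
    ⟨u, hu, specializes_rfl⟩
  have hvu' : v ⤳ u' := hvG.2.trans hs
  have hvne : v ≠ u' := by
    rintro rfl
    exact hne (hs.antisymm hvG.2).eq
  obtain ⟨v', hv'v, hv'ne, hv'x⟩ :=
    exists_generization_in_fibre a ha sq hvu' hvne (hvG.1.trans hu'.symm)
  have hv'F : Points.ofPt a v' = x := hv'x.trans hvG.1
  have hv'G : v' ∈ G u := ⟨hv'F, hv'v.trans hvG.2⟩
  have hsub : G v' ⊂ G v := by
    refine ⟨fun w hw => ⟨hw.1, hw.2.trans hv'v⟩, fun hcon => ?_⟩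
    have hvv' : v ∈ G v' := hcon ⟨hvG.1, specializes_rfl⟩
    exact hv'ne (hv'v.antisymm hvv'.2).eq
  have hlt := Set.ncard_lt_ncard hsub (hGfin v)
  exact absurd (hvmin v' hv'G) (not_le.2 hlt)

theorem finite_fibre_of_quasiCompact_point {X : Sp S} (p : FieldPt X)
    (hq : RepWith @QuasiCompact p.toHom) {W : Over S} [CompactSpace ↥W.left]
    (a : (yon S).obj W ⟶ X) (ha : RepWith @Etale a) :
    {w : ↥W.left | Points.ofPt a w = Points.mk p}.Finite := by
  have sq := hq.rep.isPullback a
  obtain ⟨c, hc⟩ := (yon S).map_surjective (hq.rep.fst a)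
  rw [← hc] at sq
  have hqc : QuasiCompact (hq.rep.snd a).left := hq.property_snd a
  haveI hce : Etale c.left := ha.property p.toHom ((yon S).map (hq.rep.snd a)) c sq.flip
  haveI : DiscreteTopology ↥(hq.rep.pullback a).left := discreteTopology_of_etale_field p.K c.left
  haveI : CompactSpace ↥(hq.rep.pullback a).left := ⟨by
    have := hqc.isCompact_preimage Set.univ isOpen_univ isCompact_univ
    simpa using this⟩
  haveI : Finite ↥(hq.rep.pullback a).left := finite_of_compact_of_discrete
  have hset : {w : ↥W.left | Points.ofPt a w = Points.mk p} = Set.range (hq.rep.snd a).left := by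
    ext w
    exact ofPt_eq_mk_iff_mem_range p hq.rep a w
  rw [hset]
  exact Set.finite_range _

theorem exists_elem_nbhd {X : Sp S} (p : FieldPt X) (hm : Mono p.toHom)
    (hq : RepWith @QuasiCompact p.toHom) {W : Over S} [IsAffine W.left] (a : (yon S).obj W ⟶ X)
    (ha : RepWith @Etale a) (g : p.pt ⟶ W) (hg : (yon S).map g ≫ a = p.toHom) :
    ∃ (U : Over S) (a' : (yon S).obj U ⟶ X) (u : ↥U.left), IsAffine U.left ∧
      IsElemEtaleNbhd a' u (Points.mk p) ∧ Points.ofPt a' ⁻¹' {Points.mk p} = {u} := by
  haveI : Subsingleton ↥p.pt.left := inferInstanceAs (Subsingleton (PrimeSpectrum p.K))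
  obtain ⟨t₀, ht₀⟩ : ∃ t₀ : ↥p.pt.left, t₀ = IsLocalRing.closedPoint p.K := ⟨_, rfl⟩
  have hu₀ : Points.ofPt a (g.left t₀) = Points.mk p := by
    rw [← ofPt_yon_map_comp, hg, Points.ofPt_toHom]
  have hrep : Representable a := ha.rep
  have sqR := hrep.isPullback a
  obtain ⟨s, hs⟩ := (yon S).map_surjective (hrep.fst a)
  rw [← hs] at sqR
  have hfin := finite_fibre_of_quasiCompact_point p hq a ha
  obtain ⟨F, hF⟩ : ∃ F : Set ↥W.left, F = {w : ↥W.left | Points.ofPt a w = Points.mk p} := ⟨_, rfl⟩
  rw [← hF] at hfin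
  have hC : g.left t₀ ∉ closure (F \ {g.left t₀}) := by
    intro hmem
    have hfin' : (F \ {g.left t₀}).Finite := hfin.subset Set.diff_subset
    rw [← Set.biUnion_of_singleton (F \ {g.left t₀}), hfin'.closure_biUnion] at hmem
    obtain ⟨w, hw, hmem'⟩ := Set.mem_iUnion₂.1 hmem
    have hsp : w ⤳ g.left t₀ := specializes_iff_mem_closure.2 hmem'
    have hwF : Points.ofPt a w = Points.mk p := by
      have := hw.1
      rw [hF] at this
      exact this
    have := eq_of_specializes_of_finite_fibre a ha sqR (Points.mk p) (hF ▸ hfin) hwF hu₀ hsp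
    exact hw.2 this
  obtain ⟨_, ⟨OZ, hOZ, rfl⟩, hv₀, hsub⟩ :=
    W.left.isBasis_affineOpens.exists_subset_of_mem_open
      (show g.left t₀ ∈ (closure (F \ {g.left t₀}))ᶜ from hC) isClosed_closure.isOpen_compl
  obtain ⟨g', hg'⟩ := exists_lift_overOpen OZ g
    (fun t => by rw [Subsingleton.elim t t₀]; exact hv₀)
  have hιu : (overOpenι W OZ).left (g'.left t₀) = g.left t₀ := by
    rw [← hg']
    rfl
  have ha' : RepWith @Etale ((yon S).map (overOpenι W OZ) ≫ a) := repWith_etale_restrict a ha OZ
  have hpt : Points.ofPt ((yon S).map (overOpenι W OZ) ≫ a) (g'.left t₀) = Points.mk p := by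
    rw [ofPt_yon_map_comp, hιu, hu₀]
  refine ⟨overOpen W OZ, (yon S).map (overOpenι W OZ) ≫ a, g'.left t₀, hOZ, ⟨ha', hpt, ?_⟩, ?_⟩
  · have e2 : (FieldPt.ofPt ((yon S).map (overOpenι W OZ) ≫ a) (g'.left t₀)).toHom =
        (yon S).map (kappa (overOpen W OZ) (g'.left t₀)) ≫ (yon S).map (overOpenι W OZ) ≫ a :=
      FieldPt.toHom_ofPt _ _
    have hc₀ : (yon S).map (resMap g' t₀) ≫
        (FieldPt.ofPt ((yon S).map (overOpenι W OZ) ≫ a) (g'.left t₀)).toHom =
        (yon S).map (kappa p.pt t₀) ≫ p.toHom := by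
      rw [e2]
      calc (yon S).map (resMap g' t₀) ≫ (yon S).map (kappa (overOpen W OZ) (g'.left t₀)) ≫
            (yon S).map (overOpenι W OZ) ≫ a
          = (yon S).map (resMap g' t₀ ≫ kappa (overOpen W OZ) (g'.left t₀)) ≫
            (yon S).map (overOpenι W OZ) ≫ a := by
            rw [Functor.map_comp, Category.assoc]
        _ = (yon S).map (kappa p.pt t₀ ≫ g') ≫ (yon S).map (overOpenι W OZ) ≫ a := by
            rw [resMap_kappa]
        _ = (yon S).map (kappa p.pt t₀) ≫ (yon S).map (g' ≫ overOpenι W OZ) ≫ a := by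
            simp only [Functor.map_comp, Category.assoc]
        _ = (yon S).map (kappa p.pt t₀) ≫ p.toHom := by rw [hg', hg]
    haveI hne1 : Nonempty ↥(Spec (p.pt.left.residueField t₀)) :=
      inferInstanceAs (Nonempty (PrimeSpectrum (p.pt.left.residueField t₀)))
    haveI hκiso : IsIso (kappa p.pt t₀) := by
      haveI : IsIso ((Over.forget S).map (kappa p.pt t₀)) := by
        show IsIso (p.pt.left.fromSpecResidueField t₀)
        have hmk : Mono (p.pt.left.fromSpecResidueField t₀) := inferInstance
        exact @isIso_of_mono_of_nonempty_of_field _ p.K _ (p.pt.left.fromSpecResidueField t₀) hmk hne1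
      exact isIso_of_reflects_iso (kappa p.pt t₀) (Over.forget S)
    haveI hmono1 : Mono ((yon S).map (kappa p.pt t₀) ≫ p.toHom) := by
      haveI := hm
      exact mono_comp _ _
    haveI hmono2 : Mono ((yon S).map (resMap g' t₀)) := by
      haveI : Mono ((yon S).map (resMap g' t₀) ≫
          (FieldPt.ofPt ((yon S).map (overOpenι W OZ) ≫ a) (g'.left t₀)).toHom) := by
        rw [hc₀]; exact hmono1
      exact mono_of_mono ((yon S).map (resMap g' t₀))
        (FieldPt.ofPt ((yon S).map (overOpenι W OZ) ≫ a) (g'.left t₀)).toHom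
    haveI hmono3 : Mono (resMap g' t₀) := (yon S).mono_of_mono_map hmono2
    haveI hmono4 : Mono (resMap g' t₀).left := inferInstance
    haveI hiso1 : IsIso (resMap g' t₀).left :=
      @isIso_of_mono_of_nonempty_of_field _ (↥((overOpen W OZ).left.residueField (g'.left t₀))) _
        (resMap g' t₀).left hmono4 hne1
    haveI hiso2 : IsIso (resMap g' t₀) := by
      haveI : IsIso ((Over.forget S).map (resMap g' t₀)) := hiso1
      exact isIso_of_reflects_iso (resMap g' t₀) (Over.forget S)
    have e3 : (FieldPt.ofPt ((yon S).map (overOpenι W OZ) ≫ a) (g'.left t₀)).toHom =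
        inv ((yon S).map (resMap g' t₀)) ≫ (yon S).map (kappa p.pt t₀) ≫ p.toHom := by
      rw [← hc₀, IsIso.inv_hom_id_assoc]
    rw [e3]
    haveI : IsIso ((yon S).map (resMap g' t₀)) := Functor.map_isIso _ _
    exact @mono_comp _ _ _ _ _ (inv ((yon S).map (resMap g' t₀))) inferInstance
      ((yon S).map (kappa p.pt t₀) ≫ p.toHom) hmono1
  · ext w
    simp only [Set.mem_preimage, Set.mem_singleton_iff]
    constructor
    · intro hw
      have hwF : (overOpenι W OZ).left w ∈ F := by
        rw [hF]
        show Points.ofPt a ((overOpenι W OZ).left w) = Points.mk p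
        rw [← ofPt_yon_map_comp]
        exact hw
      have hweq : (overOpenι W OZ).left w = g.left t₀ := by
        by_contra hne
        have h1 : (overOpenι W OZ).left w ∈ closure (F \ {g.left t₀}) := subset_closure ⟨hwF, hne⟩
        have h2 : (overOpenι W OZ).left w ∈ (OZ : Set ↥W.left) := by
          have : (overOpenι W OZ).left w ∈ Set.range (@Scheme.Opens.ι W.left OZ) := ⟨w, rfl⟩
          rwa [Scheme.Opens.range_ι] at this
        exact hsub h2 h1
      exact (@Scheme.Opens.ι W.left OZ).isOpenEmbedding.injective (hweq.trans hιu.symm)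
    · rintro rfl
      exact hpt

end Groth.Agent.Lib.Helper16.ElemNbhd
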