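import Groth.Agent.Lib.Helper16.ValCrit4

/-!
# Helper library (helper16): valuative criteria for algebraic spaces, part 5

Residue fields of schemes etale over a field are finite separable.
-/

set_option autoImplicit false
set_option linter.style.haveILetI false
universe u
open CategoryTheory CategoryTheory.Limits AlgebraicGeometry Opposite Topology TopologicalSpace IsLocalRing

namespace Groth.Agent.Lib.Helper16.ValCrit

open AlgSp

/-- The residue field extension of a formally unramified morphism locally of finite type is finite. -/
theorem finite_residueFieldMap {X Y : Scheme.{u}} (f : X ⟶ Y) [FormallyUnramified f] [LocallyOfFiniteType f]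
    (x : X) :
    letI : Algebra (Y.residueField (f x)) (X.residueField x) := (f.residueFieldMap x).hom.toAlgebra
    Module.Finite (Y.residueField (f x)) (X.residueField x) := by
  algebraize [(f.stalkMap x).hom]
  have : IsLocalHom (algebraMap (Y.presheaf.stalk (f x)) (X.presheaf.stalk x)) :=
    inferInstanceAs <| IsLocalHom (f.stalkMap x).hom
  suffices h : Module.Finite
      (IsLocalRing.ResidueField (Y.presheaf.stalk (f x)))
      (IsLocalRing.ResidueField (X.presheaf.stalk x)) by
    convert! h
    refine Module.ext' _ _ fun r m => ?_
    obtain ⟨r, rfl⟩ := IsLocalRing.residue_surjective r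
    obtain ⟨m, rfl⟩ := IsLocalRing.residue_surjective m
    rfl
  have : Algebra.EssFiniteType (Y.presheaf.stalk (f x)) (X.presheaf.stalk x) := by
    rw [← RingHom.essFiniteType_algebraMap, RingHom.algebraMap_toAlgebra]
    exact LocallyOfFiniteType.stalkMap f x
  have : Algebra.FormallyUnramified (Y.presheaf.stalk (f x)) (X.presheaf.stalk x) := by
    rw [← RingHom.formallyUnramified_algebraMap, RingHom.algebraMap_toAlgebra]
    exact FormallyUnramified.stalkMap f x
  infer_instance

/-- For a field `K`, the canonical morphism from the spectrum of the residue field of a point of `Spec K` is an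
isomorphism. -/
theorem isIso_fromSpecResidueField_field {K : Type u} [Field K] (y : ↥(Spec (CommRingCat.of K))) :
    IsIso ((Spec (CommRingCat.of K)).fromSpecResidueField y) := by
  haveI : Subsingleton ↥(Spec (CommRingCat.of K)) :=
    (inferInstance : Subsingleton (PrimeSpectrum K))
  haveI : IsClosedImmersion ((Spec (CommRingCat.of K)).fromSpecResidueField y) := by
    refine IsClosedImmersion.of_isPreimmersion _ ?_
    have : Set.range ((Spec (CommRingCat.of K)).fromSpecResidueField y) = Set.univ :=
      Set.eq_univ_of_forall fun z => ⟨closedPoint _, Subsingleton.elim _ _⟩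
    rw [this]
    exact isClosed_univ
  haveI : Surjective ((Spec (CommRingCat.of K)).fromSpecResidueField y) :=
    ⟨fun z => ⟨closedPoint _, Subsingleton.elim _ _⟩⟩
  exact isIso_of_isClosedImmersion_of_surjective _

/-- Residue fields of a scheme etale over a field are finite separable over the field. -/
theorem finite_separable_of_etale {K : Type u} [Field K] {V : Scheme.{u}} (g : V ⟶ Spec (CommRingCat.of K))
    [Etale g] (v : ↥V) :
    letI : Algebra K (V.residueField v) := (Spec.preimage (V.fromSpecResidueField v ≫ g)).hom.toAlgebra
    Module.Finite K (V.residueField v) ∧ Algebra.IsSeparable K (V.residueField v) := by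
  letI : Algebra K (V.residueField v) := (Spec.preimage (V.fromSpecResidueField v ≫ g)).hom.toAlgebra
  letI : Algebra ((Spec (CommRingCat.of K)).residueField (g v)) (V.residueField v) :=
    (g.residueFieldMap v).hom.toAlgebra
  haveI hfin : Module.Finite ((Spec (CommRingCat.of K)).residueField (g v)) (V.residueField v) :=
    finite_residueFieldMap g v
  haveI hsep : Algebra.IsSeparable ((Spec (CommRingCat.of K)).residueField (g v)) (V.residueField v) :=
    inferInstance
  haveI := isIso_fromSpecResidueField_field (g v)
  obtain ⟨ρ, hρ⟩ : ∃ ρ : CommRingCat.of K ⟶ (Spec (CommRingCat.of K)).residueField (g v),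
    ρ = Spec.preimage ((Spec (CommRingCat.of K)).fromSpecResidueField (g v)) := ⟨_, rfl⟩
  have hρmap : Spec.map ρ = (Spec (CommRingCat.of K)).fromSpecResidueField (g v) := by
    rw [hρ, Spec.map_preimage]
  haveI : IsIso (Spec.map ρ) := by rw [hρmap]; infer_instance
  haveI : IsIso ρ := by
    have h1 : IsIso (Scheme.Spec.map ρ.op) := ‹IsIso (Spec.map ρ)›
    have h2 : IsIso ρ.op := Spec.fullyFaithful.isIso_of_isIso_map ρ.op
    exact isIso_of_op ρ
  have hbij : Function.Bijective ρ.hom := ConcreteCategory.bijective_of_isIso ρ
  have hcomp : ρ ≫ g.residueFieldMap v = Spec.preimage (V.fromSpecResidueField v ≫ g) := by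
    apply Spec.map_injective
    rw [Spec.map_comp, hρmap, Scheme.Hom.SpecMap_residueFieldMap_fromSpecResidueField, Spec.map_preimage]
  let e₁ : (Spec (CommRingCat.of K)).residueField (g v) ≃+* K := (RingEquiv.ofBijective ρ.hom hbij).symm
  have he : RingHom.comp (algebraMap K (V.residueField v)) (e₁ : _ →+* K) =
      RingHom.comp ((RingEquiv.refl (V.residueField v) : _ ≃+* _) : _ →+* _)
        (algebraMap ((Spec (CommRingCat.of K)).residueField (g v)) (V.residueField v)) := by
    ext z
    obtain ⟨k, rfl⟩ := hbij.2 z
    have h1 : e₁ (ρ.hom k) = k := (RingEquiv.ofBijective ρ.hom hbij).symm_apply_apply k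
    change (Spec.preimage (V.fromSpecResidueField v ≫ g)).hom (e₁ (ρ.hom k)) =
      (g.residueFieldMap v).hom (ρ.hom k)
    rw [h1, ← hcomp]
    rfl
  exact ⟨Module.Finite.of_equiv_equiv e₁ (RingEquiv.refl _) he,
    Algebra.IsSeparable.of_equiv_equiv e₁ (RingEquiv.refl _) he⟩

end Groth.Agent.Lib.Helper16.ValCrit
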