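import Groth.Agent.Lib.Helper16.JacobsonEt
import Groth.Agent.Lib.Helper16.FiniteFibres
import Groth.Agent.Lib.Helper16.LocPGen

/-!
# Helper library (helper16): Jacobson algebraic spaces, closed points and finite type points
-/

set_option autoImplicit false
universe u
open CategoryTheory CategoryTheory.Limits AlgebraicGeometry Opposite

namespace Groth.Agent.Lib.Helper16.FtPt

open AlgSp Groth.Agent.Lib.Helper16

variable {S : Scheme.{u}}

/-- A representable etale chart is locally of finite type (etale locally on source and target). -/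
theorem locP_lft_of_repWith_etale {X : Sp S} {U : Over S} (a : (yon S).obj U ⟶ X) (ha : RepWith @Etale a) :
    LocP @LocallyOfFiniteType a := by
  refine locP_of_repWith _ @Etale (fun A B C m i hm hi => ?_) _ ha
  have : Etale m := hm
  have : Etale i := hi
  infer_instance

/-- A scheme locally of finite type over a Jacobson sheaf is Jacobson. -/
theorem jacobsonSpace_of_locP_lft {X : Sp S} (hX : EtaleLocally (fun U => JacobsonSpace ↥U) X) {W : Over S}
    (g : (yon S).obj W ⟶ X) (hg : LocP @LocallyOfFiniteType g) : JacobsonSpace ↥W.left := by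
  obtain ⟨V, b, hbe, hbs, hVJ⟩ := hX
  have hVJ' : JacobsonSpace ↥V.left := hVJ
  obtain ⟨U, h, c, h1, h2, hce, sq, -⟩ := exists_chart_diagram g b hbe (𝟙 _) (repWith_id _ W)
  have hh : LocallyOfFiniteType h.left := hg _ _ h h1 hbe h2
  have : JacobsonSpace ↥U.left := LocallyOfFiniteType.jacobsonSpace h.left
  have hcs : Surjective c.left := hbs.property _ _ _ sq
  have : Etale c.left := hce
  have : LocallyQuasiFinite c.left := locallyQuasiFinite_of_etale _
  exact jacobsonSpace_of_flat_lqf_surjective c.left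

/-- A point of a locally quasi-finite fibre over a locally closed point is locally closed. -/
theorem isLocallyClosed_singleton_of_lqf {R U : Scheme.{u}} (p : R ⟶ U) [LocallyQuasiFinite p] (r : R)
    (hu : IsLocallyClosed ({p r} : Set U)) : IsLocallyClosed ({r} : Set R) := by
  obtain ⟨O, hO, hOz⟩ := isOpen_inter_eq_singleton_of_mem_discrete
    (p.isDiscrete_preimage_singleton (p r)) (x := r) rfl
  rw [← hOz]
  exact hO.isLocallyClosed.inter (hu.preimage p.continuous)

/-- On a Jacobson sheaf, two chart points with the same image are simultaneously closed. -/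
theorem isClosed_of_ofPt_eq {X : Sp S} (hX : EtaleLocally (fun U => JacobsonSpace ↥U) X) {U V : Over S}
    (a : (yon S).obj U ⟶ X) (ha : RepWith @Etale a) (b : (yon S).obj V ⟶ X) (hb : RepWith @Etale b)
    (u : ↥U.left) (hu : IsClosed ({u} : Set ↥U.left)) (z : ↥V.left) (h : Points.ofPt a u = Points.ofPt b z) :
    IsClosed ({z} : Set ↥V.left) := by
  have hVJ : JacobsonSpace ↥V.left := jacobsonSpace_of_locP_lft hX b (locP_lft_of_repWith_etale b hb)
  obtain ⟨R, p₂, p₁', sq⟩ := ha.rep b
  obtain ⟨p₁, rfl⟩ := (yon S).map_surjective p₁'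
  have hp₂ : Etale p₂.left := ha.property _ _ _ sq
  have hp₁ : Etale p₁.left := hb.property _ _ _ sq.flip
  obtain ⟨r, hr1, hr2⟩ := exists_point_of_isPullback_yon_yon sq u z h
  have : JacobsonSpace ↥R.left := LocallyOfFiniteType.jacobsonSpace p₂.left
  have : LocallyQuasiFinite p₁.left := locallyQuasiFinite_of_etale _
  have hrlc : IsLocallyClosed ({r} : Set ↥R.left) :=
    isLocallyClosed_singleton_of_lqf p₁.left r (by rw [hr1]; exact hu.isLocallyClosed)
  have hrcl : IsClosed ({r} : Set ↥R.left) := isClosed_singleton_of_isLocallyClosed_singleton hrlc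
  rw [← hr2]
  exact p₂.left.closePoints_subset_preimage_closedPoints hrcl

/-- The map on points induced by an atlas is a quotient map. -/
theorem isQuotientMap_ofPt {X : Sp S} {V : Over S} (b : (yon S).obj V ⟶ X) (hbe : RepWith @Etale b)
    (hbs : RepWith @Surjective b) : Topology.IsQuotientMap (Points.ofPt b) :=
  (isOpenMap_ofPt_of_etale b hbe).isQuotientMap (Points.continuous_ofPt b)
    (ofPt_surjective_of_surjective b hbs)

/-- The fibre of a chart over a point of a decent sheaf meets every affine open in a finite set. -/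
theorem finite_fibre_inter_affine {X : Sp S} (hd : IsDecent X) {V : Over S} (b : (yon S).obj V ⟶ X)
    (hb : RepWith @Etale b) (x : Points X) (V' : V.left.Opens) (hV' : IsAffineOpen V') :
    ((Points.ofPt b ⁻¹' {x}) ∩ (V' : Set ↥V.left)).Finite := by
  obtain ⟨p, rfl, -, hq⟩ := hd x
  have haff : IsAffine V'.toScheme := hV'
  have h1 : RepWith @Etale ((yon S).map (Over.homMk V'.ι rfl : Over.mk (V'.ι ≫ V.hom) ⟶ V)) :=
    (repWith_yon_map_iff _ _).2 (by show Etale V'.ι; infer_instance)
  have hcpt : CompactSpace ↥(Over.mk (V'.ι ≫ V.hom)).left := by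
    show CompactSpace ↥V'.toScheme
    infer_instance
  have hfin := finite_fibre_of_quasiCompact_fieldPt p hq (V := Over.mk (V'.ι ≫ V.hom))
    ((yon S).map (Over.homMk V'.ι rfl : Over.mk (V'.ι ≫ V.hom) ⟶ V) ≫ b)
    ((RepWith @Etale).comp_mem _ _ h1 hb)
  refine (hfin.image V'.ι).subset ?_
  rintro z ⟨hz, hzV'⟩
  have hr : z ∈ Set.range V'.ι := by rw [Scheme.Opens.range_ι]; exact hzV'
  obtain ⟨w, rfl⟩ := hr
  refine ⟨w, ?_, rfl⟩
  rw [Set.mem_preimage, ofPt_yon_map_comp]
  exact hz

/-- In a decent Jacobson algebraic space, the image of a closed point of an etale chart is a closed point. -/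
theorem isClosed_singleton_of_hasAt_isClosed {X : Sp S} (hd : IsDecent X)
    (hX : EtaleLocally (fun U => JacobsonSpace ↥U) X) (x : Points X)
    (hx : HasAt (fun U u => IsClosed ({u} : Set ↥U)) X x) : IsClosed ({x} : Set (Points X)) := by
  obtain ⟨V, b, hbe, hbs, hVJ⟩ := id hX
  obtain ⟨U, a, u, ha, rfl, hu⟩ := hx
  rw [← (isQuotientMap_ofPt b hbe hbs).isClosed_preimage, ← isOpen_compl_iff, isOpen_iff_forall_mem_open]
  intro v hv
  obtain ⟨_, ⟨V', hV', rfl⟩, hvV', -⟩ :=
    V.left.isBasis_affineOpens.exists_subset_of_mem_open (Set.mem_univ v) isOpen_univ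
  have hfin := finite_fibre_inter_affine hd b hbe (Points.ofPt a u) V' hV'
  have hcl : IsClosed ((Points.ofPt b ⁻¹' {Points.ofPt a u}) ∩ (V' : Set ↥V.left)) := by
    rw [← Set.biUnion_of_singleton ((Points.ofPt b ⁻¹' {Points.ofPt a u}) ∩ (V' : Set ↥V.left))]
    refine hfin.isClosed_biUnion fun z hz => ?_
    exact isClosed_of_ofPt_eq hX a ha b hbe u hu z hz.1.symm
  refine ⟨(V' : Set ↥V.left) ∩ ((Points.ofPt b ⁻¹' {Points.ofPt a u}) ∩ (V' : Set ↥V.left))ᶜ, ?_,
    V'.2.inter hcl.isOpen_compl, ⟨hvV', fun h => hv h.1⟩⟩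
  rintro z ⟨hzV', hz⟩ hzZ
  exact hz ⟨hzZ, hzV'⟩

/-- A closed point of the space of points is the image of a closed point of an etale chart. -/
theorem hasAt_isClosed_of_isClosed_singleton {X : Sp S} (hXa : IsAlgSpace X) (x : Points X)
    (hx : IsClosed ({x} : Set (Points X))) : HasAt (fun U u => IsClosed ({u} : Set ↥U)) X x := by
  obtain ⟨V, b, hbe, hbs⟩ := hXa.atlas
  obtain ⟨v₀, hv₀⟩ := ofPt_surjective_of_surjective b hbs x
  obtain ⟨V₀, j, hj, v, hvZ, hv⟩ := exists_open_closedPoint_of_isLocallyClosed V.left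
    (Points.ofPt b ⁻¹' {x}) (hx.preimage (Points.continuous_ofPt b)).isLocallyClosed ⟨v₀, hv₀⟩
  have h1 : RepWith @Etale ((yon S).map (Over.homMk j rfl : Over.mk (j ≫ V.hom) ⟶ V)) :=
    (repWith_yon_map_iff _ _).2 (by show Etale j; infer_instance)
  refine ⟨Over.mk (j ≫ V.hom), (yon S).map (Over.homMk j rfl : Over.mk (j ≫ V.hom) ⟶ V) ≫ b, v,
    (RepWith @Etale).comp_mem _ _ h1 hbe, ?_, hv⟩
  rw [ofPt_yon_map_comp]
  exact hvZ

end Groth.Agent.Lib.Helper16.FtPt
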