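import Groth.Agent.Lib.Helper16.DimZeroTop
import Groth.Agent.Lib.Helper16.JacobsonDecent

/-!
# Helper library (helper16): algebraic spaces locally of finite type over a field — isolated points,
dimension zero
-/

set_option autoImplicit false
universe u
open CategoryTheory CategoryTheory.Limits AlgebraicGeometry Opposite TopologicalSpace

namespace Groth.Agent.Lib.Helper16.DimZero

open AlgSp Groth.Agent.Lib.Helper16

variable {S : Scheme.{u}}

theorem mem_opens_of_ι {U : Scheme.{u}} (O : U.Opens) (z : O.toScheme) : O.ι z ∈ O := by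
  have : O.ι z ∈ Set.range O.ι := ⟨z, rfl⟩
  rwa [Scheme.Opens.range_ι] at this

theorem exists_ι_eq {U : Scheme.{u}} (O : U.Opens) {u : U} (hu : u ∈ O) : ∃ z : O.toScheme, O.ι z = u := by
  have : u ∈ Set.range O.ι := by rw [Scheme.Opens.range_ι]; exact hu
  exact this

/-- If an open subscheme is discrete then its points are open in the ambient scheme. -/
theorem isOpen_singleton_of_discrete_opens {U : Scheme.{u}} (O : U.Opens) [DiscreteTopology O.toScheme]
    {u : U} (hu : u ∈ O) : IsOpen ({u} : Set U) := by
  obtain ⟨u₀, rfl⟩ := exists_ι_eq O hu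
  have := O.ι.isOpenEmbedding.isOpenMap {u₀} (isOpen_discrete _)
  rwa [Set.image_singleton] at this

/-- Chart points over an isolated point are isolated. -/
theorem isOpen_singleton_of_isOpen_singleton_ofPt {X : Sp S} (hN : IsLocNoethSp X) {U : Over S}
    [IsLocallyNoetherian U.left] (a : (yon S).obj U ⟶ X) (ha : RepWith @Etale a) (u : ↥U.left)
    (h : IsOpen ({Points.ofPt a u} : Set (Points X))) : IsOpen ({u} : Set ↥U.left) := by
  let O : U.left.Opens := ⟨Points.ofPt a ⁻¹' {Points.ofPt a u}, h.preimage (Points.continuous_ofPt a)⟩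
  have : IsLocallyNoetherian O.toScheme := isLocallyNoetherian_of_isOpenImmersion O.ι
  have hspec : ∀ z z' : O.toScheme, z' ⤳ z → z' = z := by
    intro z z' hs
    have hs' : O.ι z' ⤳ O.ι z := hs.map O.ι.continuous
    have hz : Points.ofPt a (O.ι z) = Points.ofPt a u := mem_opens_of_ι O z
    have hz' : Points.ofPt a (O.ι z') = Points.ofPt a u := mem_opens_of_ι O z'
    have := eq_of_specializes_of_isLocNoethSp hN a ha (O.ι z) (O.ι z') (hz.trans hz'.symm) hs'
    exact (O.ι.isOpenEmbedding.injective this).symm
  have hD : DiscreteTopology O.toScheme := discreteTopology_of_forall_specializes_eq _ hspec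
  exact isOpen_singleton_of_discrete_opens O (show u ∈ O from rfl)

/-- On a locally Noetherian scheme, the local dimension at a point vanishes iff the point is isolated. -/
theorem localDim_eq_zero_iff_isOpen_singleton (U : Scheme.{u}) [IsLocallyNoetherian U] (u : U) :
    FlatMor.localDim U u = 0 ↔ IsOpen ({u} : Set U) := by
  constructor
  · intro h
    obtain ⟨N₀, huN, hN⟩ := exists_open_dim_le_zero_of_localDim_eq_zero u h
    let N : U.Opens := N₀
    have : IsLocallyNoetherian N.toScheme := isLocallyNoetherian_of_isOpenImmersion N.ι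
    have hN' : topologicalKrullDim N.toScheme ≤ 0 := hN
    have hD : DiscreteTopology N.toScheme := discreteTopology_of_topologicalKrullDim_le_zero _ hN'
    exact isOpen_singleton_of_discrete_opens N huN
  · exact localDim_eq_zero_of_isOpen_singleton u

/-- Affine opens of a locally Noetherian scheme are Noetherian subspaces. -/
theorem noetherianSpace_coe (U : Scheme.{u}) [IsLocallyNoetherian U] (W : U.Opens) (hW : IsAffineOpen W) :
    NoetherianSpace (W : Set U) := by
  have : IsNoetherianRing Γ(U, W) := IsLocallyNoetherian.component_noetherian ⟨W, hW⟩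
  exact noetherianSpace_of_isAffineOpen W hW

theorem quasiSober_coe (U : Scheme.{u}) (W : U.Opens) : QuasiSober (W : Set U) :=
  W.2.isOpenEmbedding_subtypeVal.quasiSober

/-- In a Noetherian subspace, a set of isolated points is finite. -/
theorem finite_inter_of_noetherianSpace {Z : Type*} [TopologicalSpace Z] (W : Set Z) [NoetherianSpace W]
    (O : Set Z) (hpt : ∀ v ∈ O, IsOpen ({v} : Set Z)) : (W ∩ O).Finite := by
  have hcompact : IsCompact (W ∩ O) := by
    have h1 : IsCompact ((Subtype.val : W → Z) ⁻¹' O) := NoetherianSpace.isCompact _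
    have h2 := h1.image continuous_subtype_val
    rwa [Subtype.image_preimage_coe] at h2
  have hdiscr : _root_.IsDiscrete (W ∩ O) := by
    rw [isDiscrete_iff_forall_mem_exists_isOpen]
    intro y hy
    refine ⟨{y}, hpt y hy.2, ?_⟩
    ext z
    simp only [Set.mem_inter_iff, Set.mem_singleton_iff]
    constructor
    · exact fun h => h.1
    · rintro rfl; exact ⟨rfl, hy⟩
  exact hcompact.finite hdiscr

/-- A closed point without proper generizations lying in an open Noetherian quasi-sober subspace is
isolated. -/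
theorem isOpen_singleton_of_mem_noetherian_open {Z : Type*} [TopologicalSpace Z] (W : Set Z)
    (hWo : IsOpen W) [NoetherianSpace W] [QuasiSober W] (v : Z) (hvW : v ∈ W)
    (hcl : IsClosed ({v} : Set Z)) (hmax : ∀ z : Z, z ⤳ v → z = v) : IsOpen ({v} : Set Z) := by
  have hopenW : IsOpen ({(⟨v, hvW⟩ : W)} : Set W) := by
    refine isOpen_singleton_of_isClosed_of_forall_specializes (⟨v, hvW⟩ : W) ?_ ?_
    · have : ({(⟨v, hvW⟩ : W)} : Set W) = Subtype.val ⁻¹' {v} := by
        ext z; simp [Subtype.ext_iff]
      rw [this]; exact hcl.preimage continuous_subtype_val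
    · intro z hz
      have : (z : Z) ⤳ v := (subtype_specializes_iff z (⟨v, hvW⟩ : W)).1 hz
      exact Subtype.ext (hmax z this)
  have h3 := hWo.isOpenEmbedding_subtypeVal.isOpenMap _ hopenW
  rwa [Set.image_singleton] at h3

section Field

variable {k : Type u} [Field k] {X : Sp (Spec (CommRingCat.of k))}
  (p : X ⟶ (yon (Spec (CommRingCat.of k))).obj (Over.mk (𝟙 _))) (hp : LocP @LocallyOfFiniteType p)

include hp in
theorem isLocallyNoetherian_chart {U : Over (Spec (CommRingCat.of k))} (a : (yon _).obj U ⟶ X)
    (ha : RepWith @Etale a) : IsLocallyNoetherian U.left := by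
  have : LocallyOfFiniteType U.hom := prop_of_locP_terminal p hp a ha
  exact LocallyOfFiniteType.isLocallyNoetherian U.hom

include hp in
theorem jacobsonSpace_chart {U : Over (Spec (CommRingCat.of k))} (a : (yon _).obj U ⟶ X)
    (ha : RepWith @Etale a) : JacobsonSpace ↥U.left := by
  have : LocallyOfFiniteType U.hom := prop_of_locP_terminal p hp a ha
  exact LocallyOfFiniteType.jacobsonSpace U.hom

include hp in
theorem isLocNoethSp_of_lft_field (hX : IsAlgSpace X) : IsLocNoethSp X := by
  obtain ⟨V, b, hbe, hbs⟩ := hX.atlas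
  exact ⟨V, b, hbe, hbs, isLocallyNoetherian_chart p hp b hbe⟩

include hp in
/-- A point is isolated iff the dimension of the space at the point is zero. -/
theorem isOpen_singleton_iff_hasAt_localDim (hX : IsAlgSpace X) (x : Points X) :
    IsOpen ({x} : Set (Points X)) ↔ HasAt (fun U u => FlatMor.localDim ↥U u = 0) X x := by
  have hN := isLocNoethSp_of_lft_field p hp hX
  constructor
  · intro h
    obtain ⟨V, b, hbe, hbs⟩ := hX.atlas
    obtain ⟨v, rfl⟩ := ofPt_surjective_of_surjective b hbs x
    have : IsLocallyNoetherian V.left := isLocallyNoetherian_chart p hp b hbe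
    exact ⟨V, b, v, hbe, rfl, (localDim_eq_zero_iff_isOpen_singleton V.left v).2
      (isOpen_singleton_of_isOpen_singleton_ofPt hN b hbe v h)⟩
  · rintro ⟨U, a, u, ha, rfl, hld⟩
    have : IsLocallyNoetherian U.left := isLocallyNoetherian_chart p hp a ha
    have := isOpenMap_ofPt_of_etale a ha {u} ((localDim_eq_zero_iff_isOpen_singleton U.left u).1 hld)
    rwa [Set.image_singleton] at this

include hp in
/-- An isolated point is closed. -/
theorem isClosed_singleton_of_isOpen_singleton (hX : IsAlgSpace X) (x : Points X)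
    (h : IsOpen ({x} : Set (Points X))) : IsClosed ({x} : Set (Points X)) := by
  have hN := isLocNoethSp_of_lft_field p hp hX
  obtain ⟨V, b, hbe, hbs⟩ := hX.atlas
  have hVN : IsLocallyNoetherian V.left := isLocallyNoetherian_chart p hp b hbe
  have hVJ : JacobsonSpace ↥V.left := jacobsonSpace_chart p hp b hbe
  rw [← (FtPt.isQuotientMap_ofPt b hbe hbs).isClosed_preimage]
  have hpt : ∀ v ∈ Points.ofPt b ⁻¹' {x}, IsOpen ({v} : Set ↥V.left) := by
    intro v hv
    have hv' : Points.ofPt b v = x := hv
    exact isOpen_singleton_of_isOpen_singleton_ofPt hN b hbe v (hv' ▸ h)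
  have hptcl : ∀ v ∈ Points.ofPt b ⁻¹' {x}, IsClosed ({v} : Set ↥V.left) := fun v hv =>
    isClosed_singleton_of_isLocallyClosed_singleton (hpt v hv).isLocallyClosed
  rw [← isOpen_compl_iff, isOpen_iff_forall_mem_open]
  intro t ht
  obtain ⟨_, ⟨W, hW, rfl⟩, htW, -⟩ :=
    V.left.isBasis_affineOpens.exists_subset_of_mem_open (Set.mem_univ t) isOpen_univ
  have hWN : NoetherianSpace (W : Set ↥V.left) := noetherianSpace_coe V.left W hW
  have hfin := finite_inter_of_noetherianSpace (W : Set ↥V.left) (Points.ofPt b ⁻¹' {x}) hpt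
  have hcl : IsClosed ((W : Set ↥V.left) ∩ (Points.ofPt b ⁻¹' {x})) := by
    rw [← Set.biUnion_of_singleton ((W : Set ↥V.left) ∩ (Points.ofPt b ⁻¹' {x}))]
    exact hfin.isClosed_biUnion fun v hv => hptcl v hv.2
  refine ⟨(W : Set ↥V.left) ∩ ((W : Set ↥V.left) ∩ (Points.ofPt b ⁻¹' {x}))ᶜ, ?_,
    W.2.inter hcl.isOpen_compl, ⟨htW, fun h => ht h.2⟩⟩
  rintro z ⟨hzW, hz⟩ hzO
  exact hz ⟨hzW, hzO⟩

include hp in
/-- A closed point without proper generizations is isolated. -/
theorem isOpen_singleton_of_isClosed_of_forall_specializes_eq (hX : IsAlgSpace X) (x : Points X)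
    (hcl : IsClosed ({x} : Set (Points X))) (hgen : ∀ x' : Points X, x' ⤳ x → x' = x) :
    IsOpen ({x} : Set (Points X)) := by
  have hN := isLocNoethSp_of_lft_field p hp hX
  obtain ⟨V, b, hbe, hbs⟩ := hX.atlas
  obtain ⟨v, rfl⟩ := ofPt_surjective_of_surjective b hbs x
  have hVN : IsLocallyNoetherian V.left := isLocallyNoetherian_chart p hp b hbe
  have hFcl : IsClosed (Points.ofPt b ⁻¹' {Points.ofPt b v}) := hcl.preimage (Points.continuous_ofPt b)
  have hmaxF : ∀ z ∈ Points.ofPt b ⁻¹' {Points.ofPt b v}, ∀ z' : ↥V.left, z' ⤳ z → z' = z := by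
    intro z hz z' hs
    have h1 : Points.ofPt b z' ⤳ Points.ofPt b z := hs.map (Points.continuous_ofPt b)
    have hz1 : Points.ofPt b z = Points.ofPt b v := hz
    rw [hz1] at h1
    have h2 := hgen _ h1
    exact (eq_of_specializes_of_isLocNoethSp hN b hbe z z' (hz1.trans h2.symm) hs).symm
  have hvcl : IsClosed ({v} : Set ↥V.left) := by
    rw [← closure_subset_iff_isClosed]
    intro t ht
    have htF : t ∈ Points.ofPt b ⁻¹' {Points.ofPt b v} :=
      (hFcl.closure_subset_iff.2 (Set.singleton_subset_iff.2 rfl)) ht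
    have hs : v ⤳ t := specializes_iff_mem_closure.2 ht
    have := hmaxF t htF v hs
    rw [Set.mem_singleton_iff, this]
  obtain ⟨_, ⟨W, hW, rfl⟩, hvW, -⟩ :=
    V.left.isBasis_affineOpens.exists_subset_of_mem_open (Set.mem_univ v) isOpen_univ
  have hWN : NoetherianSpace (W : Set ↥V.left) := noetherianSpace_coe V.left W hW
  have hWQ : QuasiSober (W : Set ↥V.left) := quasiSober_coe V.left W
  have h3 : IsOpen ({v} : Set ↥V.left) :=
    isOpen_singleton_of_mem_noetherian_open (W : Set ↥V.left) W.2 v hvW hvcl (hmaxF v rfl)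
  have h4 := isOpenMap_ofPt_of_etale b hbe _ h3
  rwa [Set.image_singleton] at h4

include hp in
/-- For a `T0` space of points: the local dimension of `|X|` at `x` vanishes iff `x` is isolated. -/
theorem localDim_points_eq_zero_iff (hX : IsAlgSpace X) [T0Space (Points X)] (x : Points X) :
    FlatMor.localDim (Points X) x = 0 ↔ IsOpen ({x} : Set (Points X)) := by
  constructor
  · intro h
    obtain ⟨N, hxN, hN0⟩ := exists_open_dim_le_zero_of_localDim_eq_zero x h
    have hNoeth := isLocNoethSp_of_lft_field p hp hX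
    obtain ⟨V, b, hbe, hbs⟩ := hX.atlas
    obtain ⟨v, rfl⟩ := ofPt_surjective_of_surjective b hbs x
    have hVN : IsLocallyNoetherian V.left := isLocallyNoetherian_chart p hp b hbe
    let O : V.left.Opens := ⟨Points.ofPt b ⁻¹' N, N.2.preimage (Points.continuous_ofPt b)⟩
    have : IsLocallyNoetherian O.toScheme := isLocallyNoetherian_of_isOpenImmersion O.ι
    have hspec : ∀ z z' : O.toScheme, z' ⤳ z → z' = z := by
      intro z z' hs
      have hs' : O.ι z' ⤳ O.ι z := hs.map O.ι.continuous
      have hz : Points.ofPt b (O.ι z) ∈ N := mem_opens_of_ι O z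
      have hz' : Points.ofPt b (O.ι z') ∈ N := mem_opens_of_ι O z'
      have h1 : (⟨Points.ofPt b (O.ι z'), hz'⟩ : (N : Set (Points X))) ⤳ ⟨Points.ofPt b (O.ι z), hz⟩ := by
        rw [subtype_specializes_iff]
        exact hs'.map (Points.continuous_ofPt b)
      have h2 := eq_of_specializes_of_topologicalKrullDim_le_zero hN0 h1
      have he : Points.ofPt b (O.ι z) = Points.ofPt b (O.ι z') := (congrArg Subtype.val h2).symm
      have := eq_of_specializes_of_isLocNoethSp hNoeth b hbe (O.ι z) (O.ι z') he hs'
      exact (O.ι.isOpenEmbedding.injective this).symm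
    have hD : DiscreteTopology O.toScheme := discreteTopology_of_forall_specializes_eq _ hspec
    have h3 : IsOpen ({v} : Set ↥V.left) := isOpen_singleton_of_discrete_opens O (show v ∈ O from hxN)
    have h4 := isOpenMap_ofPt_of_etale b hbe _ h3
    rwa [Set.image_singleton] at h4
  · exact localDim_eq_zero_of_isOpen_singleton x

end Field

end Groth.Agent.Lib.Helper16.DimZero
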