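import Groth.Agent.Lib.Helper16.ChartDiagram
import Groth.Agent.Lib.Helper16.Charts
import Groth.Agent.Lib.Helper16.FieldLft
import Groth.Agent.Lib.Helper16.SchemeTop
import Mathlib.AlgebraicGeometry.ZariskisMainTheorem

/-!
# Helper library (helper16): quasi-finiteness at a point, independence of the chart diagram
-/

set_option autoImplicit false
universe u
open CategoryTheory CategoryTheory.Limits AlgebraicGeometry Opposite Topology

namespace Groth.Agent.Lib.Helper16.QfAt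

open AlgSp Groth.Agent.Lib.Helper16 Groth.Agent.Lib.Helper16.DimZero

/-- Quasi-finite at a point, topologically: the point is isolated in its fibre. -/
theorem quasiFiniteAt_iff_exists_open {X Y : Scheme.{u}} (f : X ⟶ Y) [LocallyOfFiniteType f] (x : X) :
    f.QuasiFiniteAt x ↔ ∃ O : Set X, IsOpen O ∧ O ∩ f ⁻¹' {f x} = {x} := by
  rw [Scheme.Hom.quasiFiniteAt_iff_isOpen_singleton_asFiber, ← (f.fiberHomeo (f x)).isOpen_image]
  simp only [Set.image_singleton, Scheme.Hom.asFiber, Homeomorph.apply_symm_apply]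
  rw [isOpen_induced_iff]
  constructor
  · rintro ⟨O, hO, h⟩
    refine ⟨O, hO, ?_⟩
    ext z
    constructor
    · rintro ⟨hzO, hz⟩
      have h1 : (⟨z, hz⟩ : f ⁻¹' {f x}) ∈ Subtype.val ⁻¹' O := hzO
      rw [h] at h1
      exact congrArg Subtype.val h1
    · rintro rfl
      have h1 : (⟨z, rfl⟩ : f ⁻¹' {f z}) ∈ Subtype.val ⁻¹' O := by rw [h]; rfl
      exact ⟨h1, rfl⟩
  · rintro ⟨O, hO, h⟩
    refine ⟨O, hO, ?_⟩
    ext ⟨z, hz⟩
    constructor
    · intro hzO
      have h1 : z ∈ O ∩ f ⁻¹' {f x} := ⟨hzO, hz⟩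
      rw [h] at h1
      exact Subtype.ext h1
    · intro h1
      have h2 : z = x := congrArg Subtype.val h1
      subst h2
      exact (h.ge rfl).1

/-- Composition of quasi-finite at a point. -/
theorem quasiFiniteAt_comp {X Y Z : Scheme.{u}} (f : X ⟶ Y) (g : Y ⟶ Z) (x : X)
    (hf : f.QuasiFiniteAt x) (hg : g.QuasiFiniteAt (f x)) : (f ≫ g).QuasiFiniteAt x := by
  simp only [Scheme.Hom.QuasiFiniteAt, Scheme.Hom.stalkMap_comp]
  exact hf.comp hg

/-- Descent of quasi-finiteness at a point along an open morphism on the source. -/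
theorem quasiFiniteAt_of_comp_of_isOpenMap {W U V : Scheme.{u}} (q : W ⟶ U) (m : U ⟶ V)
    [LocallyOfFiniteType q] [LocallyOfFiniteType m] (hq : IsOpenMap q) (w : W)
    (h : (q ≫ m).QuasiFiniteAt w) : m.QuasiFiniteAt (q w) := by
  rw [quasiFiniteAt_iff_exists_open] at h ⊢
  obtain ⟨O, hO, hOw⟩ := h
  refine ⟨q '' O, hq _ hO, ?_⟩
  ext z
  constructor
  · rintro ⟨⟨w', hw'O, rfl⟩, hz⟩
    have h1 : w' ∈ O ∩ (q ≫ m) ⁻¹' {(q ≫ m) w} := ⟨hw'O, by simpa using hz⟩
    rw [hOw] at h1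
    rw [h1]
    rfl
  · rintro rfl
    exact ⟨⟨w, (hOw.ge rfl).1, rfl⟩, rfl⟩

/-- Relative dimension zero at a point is quasi-finiteness at the point (for morphisms locally of finite type). -/
theorem fibreDimAt_eq_zero_iff {U V : Scheme.{u}} (h : U ⟶ V) [LocallyOfFiniteType h] (u : U) :
    FlatMor.fibreDimAt h u = 0 ↔ h.QuasiFiniteAt u := by
  have h1 : LocallyOfFiniteType (h.fiberToSpecResidueField (h u)) := by
    unfold Scheme.Hom.fiberToSpecResidueField
    exact MorphismProperty.pullback_snd (P := @LocallyOfFiniteType) _ _ inferInstance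
  have : IsLocallyNoetherian (h.fiber (h u)) :=
    LocallyOfFiniteType.isLocallyNoetherian (h.fiberToSpecResidueField (h u))
  unfold FlatMor.fibreDimAt
  rw [localDim_eq_zero_iff_isOpen_singleton, Scheme.Hom.quasiFiniteAt_iff_isOpen_singleton_asFiber]

end Groth.Agent.Lib.Helper16.QfAt

namespace Groth.Agent.Lib.Helper16.QfAt

open AlgSp Groth.Agent.Lib.Helper16 Groth.Agent.Lib.Helper16.DimZero

variable {S : Scheme.{u}}

/-- Quasi-finiteness at a point does not depend on the chart diagram. -/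
theorem quasiFiniteAt_transfer {X Y : Sp S} (f : X ⟶ Y) {U V U₁ V₁ : Over S}
    (a : (yon S).obj U ⟶ X) (b : (yon S).obj V ⟶ Y) (h : U ⟶ V)
    (a₁ : (yon S).obj U₁ ⟶ X) (b₁ : (yon S).obj V₁ ⟶ Y) (m : U₁ ⟶ V₁)
    (ha : RepWith @Etale a) (hb : RepWith @Etale b) (ha₁ : RepWith @Etale a₁) (hb₁ : RepWith @Etale b₁)
    (hc : a ≫ f = (yon S).map h ≫ b) (hc₁ : a₁ ≫ f = (yon S).map m ≫ b₁)
    [LocallyOfFiniteType m.left]
    (u : ↥U.left) (u₁ : ↥U₁.left) (hu : Points.ofPt a u = Points.ofPt a₁ u₁)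
    (hq : h.left.QuasiFiniteAt u) : m.left.QuasiFiniteAt u₁ := by
  obtain ⟨W, p, q₀, sqW⟩ := ha₁.rep a
  obtain ⟨q, rfl⟩ := (yon S).map_surjective q₀
  have hp : Etale p.left := ha₁.property _ _ _ sqW
  have hq' : Etale q.left := ha.property _ _ _ sqW.flip
  obtain ⟨w, hw1, hw2⟩ := exists_point_of_isPullback_yon_yon sqW u₁ u hu.symm
  obtain ⟨V'', π, π₁₀, sqV⟩ := hb₁.rep b
  obtain ⟨π₁, rfl⟩ := (yon S).map_surjective π₁₀
  have hπ : Etale π.left := hb₁.property _ _ _ sqV
  have hπ₁ : Etale π₁.left := hb.property _ _ _ sqV.flip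
  have hcomm : (yon S).map (q ≫ m) ≫ b₁ = (yon S).map (p ≫ h) ≫ b := by
    rw [Functor.map_comp, Functor.map_comp, Category.assoc, Category.assoc, ← hc₁, ← hc,
      ← Category.assoc, ← Category.assoc, sqW.w]
  obtain ⟨g, hg⟩ := (yon S).map_surjective (sqV.lift _ _ hcomm)
  have hg1 : g ≫ π₁ = q ≫ m := by
    apply (yon S).map_injective
    rw [Functor.map_comp, hg, sqV.lift_fst]
  have hg2 : g ≫ π = p ≫ h := by
    apply (yon S).map_injective
    rw [Functor.map_comp, hg, sqV.lift_snd]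
  have hg1' : g.left ≫ π₁.left = q.left ≫ m.left := by rw [← Over.comp_left, hg1, Over.comp_left]
  have hg2' : g.left ≫ π.left = p.left ≫ h.left := by rw [← Over.comp_left, hg2, Over.comp_left]
  have : LocallyQuasiFinite π.left := locallyQuasiFinite_of_etale _
  have : LocallyQuasiFinite π₁.left := locallyQuasiFinite_of_etale _
  have : LocallyQuasiFinite p.left := locallyQuasiFinite_of_etale _
  subst hw1 hw2
  have s1 : (p.left ≫ h.left).QuasiFiniteAt w := quasiFiniteAt_comp _ _ _ (p.left.quasiFiniteAt w) hq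
  rw [← hg2', Scheme.Hom.quasiFiniteAt_comp_iff] at s1
  have s3 : (g.left ≫ π₁.left).QuasiFiniteAt w := Scheme.Hom.quasiFiniteAt_comp_iff.2 s1
  rw [hg1'] at s3
  exact quasiFiniteAt_of_comp_of_isOpenMap q.left m.left q.left.isOpenMap w s3

end Groth.Agent.Lib.Helper16.QfAt
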