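import Groth.Agent.Lib.Helper16.ChartDiagram
import Groth.Agent.Lib.Helper16.Points
import Mathlib.AlgebraicGeometry.AlgClosed.Basic
import Mathlib.AlgebraicGeometry.PullbackCarrier

/-!
# Helper library (helper16): points with values in algebraically closed fields
-/

set_option autoImplicit false
universe u
open CategoryTheory CategoryTheory.Limits AlgebraicGeometry Opposite Topology

namespace Groth.Agent.Lib.Helper16

open AlgSp

/-- A nonempty scheme locally of finite type over an algebraically closed field has a rational point. -/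
theorem exists_section_of_nonempty {K : Type u} [Field K] [IsAlgClosed K] {Z : Scheme.{u}}
    (g : Z ⟶ Spec (CommRingCat.of K)) [LocallyOfFiniteType g] [Nonempty ↥Z] :
    ∃ s : Spec (CommRingCat.of K) ⟶ Z, s ≫ g = 𝟙 _ := by
  have : JacobsonSpace ↥Z := LocallyOfFiniteType.jacobsonSpace g
  obtain ⟨z, -, hz⟩ := nonempty_inter_closedPoints (X := ↥Z) Set.univ_nonempty isOpen_univ.isLocallyClosed
  exact ⟨pointOfClosedPoint g z hz, pointOfClosedPoint_comp g z hz⟩

/-- Lifting a point with values in an algebraically closed field along a morphism locally of finite type whose image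
contains the image of the point. -/
theorem exists_lift_of_algClosed {K : Type u} [Field K] [IsAlgClosed K] {U V : Scheme.{u}} (h : U ⟶ V)
    [LocallyOfFiniteType h] (v : Spec (CommRingCat.of K) ⟶ V) (w : ↥U)
    (hw : h w = v (IsLocalRing.closedPoint K)) : ∃ x : Spec (CommRingCat.of K) ⟶ U, x ≫ h = v := by
  obtain ⟨z, -, -⟩ := Scheme.Pullback.exists_preimage_pullback (f := h) (g := v) w
    (IsLocalRing.closedPoint K) hw
  have : Nonempty ↥(pullback h v) := ⟨z⟩
  obtain ⟨s, hs⟩ := exists_section_of_nonempty (pullback.snd h v)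
  exact ⟨s ≫ pullback.fst h v, by
    rw [Category.assoc, pullback.condition, ← Category.assoc, hs, Category.id_comp]⟩

variable {S : Scheme.{u}}

/-- Lifting of points with values in algebraically closed fields along a surjective morphism locally of finite type of
algebraic spaces. -/
theorem exists_lift_geometric_point {X Y : Sp S} (hX : IsAlgSpace X) (hY : IsAlgSpace Y) (f : X ⟶ Y)
    (hf : LocP @LocallyOfFiniteType f) (hsurj : Function.Surjective (Points.map f))
    (k : Type u) [Field k] [IsAlgClosed k] (str : Spec (CommRingCat.of k) ⟶ S)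
    (y : (yon S).obj (Over.mk str) ⟶ Y) :
    ∃ x : (yon S).obj (Over.mk str) ⟶ X, x ≫ f = y := by
  obtain ⟨V₀, b, hbe, hbs⟩ := hY.atlas
  -- Step A: lift `y` to the atlas
  obtain ⟨E, e, φ, sq⟩ := hbe.rep y
  have hee : Etale e.left := hbe.property _ _ _ sq
  have hes : Surjective e.left := hbs.property _ _ _ sq
  obtain ⟨e₁, he₁⟩ : ∃ e₁ : E.left ⟶ Spec (CommRingCat.of k), e₁ = e.left := ⟨_, rfl⟩
  have hee₁ : Etale e₁ := he₁ ▸ hee
  have hes₁ : Surjective e₁ := he₁ ▸ hes
  have hne : Nonempty ↥E.left := ⟨(hes₁.surj (IsLocalRing.closedPoint k)).choose⟩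
  obtain ⟨s₀, hs₀⟩ := exists_section_of_nonempty e₁
  have hσw : s₀ ≫ E.hom = str := by
    have h1 : e₁ ≫ str = E.hom := by rw [he₁]; exact Over.w e
    rw [← h1, ← Category.assoc, hs₀]
    exact Category.id_comp _
  obtain ⟨σ, hσl⟩ : ∃ σ : Over.mk str ⟶ E, σ.left = s₀ := ⟨Over.homMk s₀ hσw, rfl⟩
  have hσ : σ ≫ e = 𝟙 (Over.mk str) := by
    apply Over.OverMorphism.ext
    rw [Over.comp_left, hσl, ← he₁, hs₀]
    rfl
  obtain ⟨v₀, hv₀⟩ := (yon S).map_surjective ((yon S).map σ ≫ φ)
  have hv : (yon S).map v₀ ≫ b = y := by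
    rw [hv₀, Category.assoc, sq.w, ← Category.assoc, ← Functor.map_comp, hσ, (yon S).map_id,
      Category.id_comp]
  -- Step B: chart diagram
  obtain ⟨U₀, a₀, hae, has⟩ := hX.atlas
  obtain ⟨U, h, c, h1, h2, hce, sqU, -⟩ := exists_chart_diagram f b hbe a₀ hae
  have hlft : LocallyOfFiniteType h.left := hf _ b h h1 hbe h2
  obtain ⟨v₁, hv₁⟩ : ∃ v₁ : Spec (CommRingCat.of k) ⟶ V₀.left, v₁ = v₀.left := ⟨_, rfl⟩
  -- Step C: a point of `U` over the image of the point
  obtain ⟨ξ, hξ⟩ := hsurj (Points.ofPt b (v₁ (IsLocalRing.closedPoint k)))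
  obtain ⟨u₀, hu₀⟩ := ofPt_surjective_of_surjective a₀ has ξ
  have hpt : Points.ofPt b (v₁ (IsLocalRing.closedPoint k)) = Points.ofPt (a₀ ≫ f) u₀ := by
    rw [← Points.map_ofPt, hu₀, hξ]
  obtain ⟨w, hw1, -⟩ := exists_point_of_isPullback_yon_yon sqU _ u₀ hpt
  obtain ⟨x₀, hx₀⟩ := exists_lift_of_algClosed (K := k) h.left v₁ w hw1
  have hχw : x₀ ≫ U.hom = str := by
    rw [← Over.w h, ← Category.assoc, hx₀, hv₁]
    exact Over.w v₀
  obtain ⟨χ, hχl⟩ : ∃ χ : Over.mk str ⟶ U, χ.left = x₀ := ⟨Over.homMk x₀ hχw, rfl⟩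
  have hχ : χ ≫ h = v₀ := by
    apply Over.OverMorphism.ext
    rw [Over.comp_left, hχl, hx₀, hv₁]
  refine ⟨(yon S).map χ ≫ (yon S).map c ≫ a₀, ?_⟩
  rw [Category.assoc, h2, ← Category.assoc, ← Functor.map_comp, hχ, hv]

end Groth.Agent.Lib.Helper16
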