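import Mathlib.Topology.Sober
import Mathlib.Topology.Irreducible
import Mathlib.Order.Zorn

/-!
# Helper library (helper16): topological lemmas for the existence of generic points
-/

set_option autoImplicit false

namespace Groth.Agent.Lib.Helper16.SoberTop

/-- Relative closedness of an open quotient map with a "groupoid" whose source map is relatively closed. -/
theorem exists_isClosed_image_of_saturated {A B R : Type*} [TopologicalSpace A] [TopologicalSpace B]
    [TopologicalSpace R] (a : A → B) (ha : IsOpenMap a) (s t : R → A) (ht : Continuous t)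
    (hst : ∀ r, a (s r) = a (t r)) (hsurj : ∀ u c, a u = a c → ∃ r, s r = u ∧ t r = c)
    (Z₀ : Set A) (hsat : ∀ u z, z ∈ Z₀ → a u = a z → u ∈ Z₀)
    (hcl : ∀ D : Set R, IsClosed D → ∃ E : Set A, IsClosed E ∧ s '' (D ∩ s ⁻¹' Z₀) = E ∩ Z₀)
    (C : Set A) (hC : IsClosed C) : ∃ F : Set B, IsClosed F ∧ a '' (C ∩ Z₀) = F ∩ a '' Z₀ := by
  obtain ⟨E, hE, hEs⟩ := hcl (t ⁻¹' C) (hC.preimage ht)
  have key : ∀ u, u ∈ E ∩ Z₀ ↔ a u ∈ a '' (C ∩ Z₀) := by
    intro u
    rw [← hEs]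
    constructor
    · rintro ⟨r, ⟨hrC, hrZ⟩, rfl⟩
      have htZ : t r ∈ Z₀ := hsat _ _ hrZ (hst r).symm
      exact ⟨t r, ⟨hrC, htZ⟩, (hst r).symm⟩
    · rintro ⟨c, ⟨hcC, hcZ⟩, hcu⟩
      obtain ⟨r, hr1, hr2⟩ := hsurj u c hcu.symm
      refine ⟨r, ⟨?_, ?_⟩, hr1⟩
      · show t r ∈ C
        rw [hr2]; exact hcC
      · show s r ∈ Z₀
        rw [hr1]; exact hsat _ _ hcZ hcu.symm
  refine ⟨(a '' Eᶜ)ᶜ, (ha _ hE.isOpen_compl).isClosed_compl, ?_⟩
  ext b
  constructor
  · rintro ⟨c, hc, rfl⟩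
    refine ⟨?_, c, hc.2, rfl⟩
    rintro ⟨e', he', hab⟩
    have : e' ∈ E ∩ Z₀ := (key e').2 ⟨c, hc, hab.symm⟩
    exact he' this.1
  · rintro ⟨hbF, z, hz, rfl⟩
    have hzE : z ∈ E := by
      by_contra hzE
      exact hbF ⟨z, hzE, rfl⟩
    exact (key z).1 ⟨hzE, hz⟩

/-- A relatively closed continuous map with finite fibres from a quasi-sober space onto an irreducible set:
the image has a generic point. -/
theorem exists_generic_of_closed_finite_fibres {Z B : Type*} [TopologicalSpace Z] [TopologicalSpace B]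
    [QuasiSober Z] (p : Z → B) (hp : Continuous p)
    (hcl : ∀ C : Set Z, IsClosed C → ∃ F : Set B, IsClosed F ∧ p '' C = F ∩ Set.range p)
    (hfin : ∀ b, (p ⁻¹' {b}).Finite) (hirr : IsIrreducible (Set.range p)) :
    ∃ z, Set.range p ⊆ closure {p z} := by
  classical
  let 𝒮 : Set (Set Z) := {C | IsClosed C ∧ p '' C = Set.range p}
  have huniv : Set.univ ∈ 𝒮 := ⟨isClosed_univ, Set.image_univ⟩
  have hchain : ∀ c ⊆ 𝒮, IsChain (· ⊆ ·) c → c.Nonempty → ∃ lb ∈ 𝒮, ∀ s ∈ c, lb ⊆ s := by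
    intro c hc hchain hne
    refine ⟨⋂₀ c, ⟨isClosed_sInter fun C hC => (hc hC).1, ?_⟩, fun C hC => Set.sInter_subset_of_mem hC⟩
    apply Set.Subset.antisymm
    · obtain ⟨C₀, hC₀⟩ := hne
      rw [← (hc hC₀).2]
      exact Set.image_mono (Set.sInter_subset_of_mem hC₀)
    · intro b hb
      by_contra hcon
      have hall : ∀ φ ∈ p ⁻¹' {b}, ∃ C ∈ c, φ ∉ C := by
        intro φ hφ
        by_contra h'
        push_neg at h'
        exact hcon ⟨φ, Set.mem_sInter.2 h', hφ⟩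
      have key : ∀ Φ' : Finset Z, (∀ φ ∈ Φ', φ ∈ p ⁻¹' {b}) → ∃ C ∈ c, ∀ φ ∈ Φ', φ ∉ C := by
        intro Φ'
        induction Φ' using Finset.induction_on with
        | empty =>
          intro _
          obtain ⟨C₀, hC₀⟩ := hne
          exact ⟨C₀, hC₀, fun φ hφ => absurd hφ (Finset.notMem_empty φ)⟩
        | insert φ Φ' _ ih =>
          intro hsub
          obtain ⟨C₁, hC₁, h₁⟩ := ih (fun x hx => hsub x (Finset.mem_insert_of_mem hx))
          obtain ⟨C₂, hC₂, h₂⟩ := hall φ (hsub φ (Finset.mem_insert_self _ _))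
          rcases hchain.total hC₁ hC₂ with h | h
          · refine ⟨C₁, hC₁, fun x hx => ?_⟩
            rcases Finset.mem_insert.1 hx with rfl | hx
            · exact fun hx' => h₂ (h hx')
            · exact h₁ x hx
          · refine ⟨C₂, hC₂, fun x hx => ?_⟩
            rcases Finset.mem_insert.1 hx with rfl | hx
            · exact h₂
            · exact fun hx' => h₁ x hx (h hx')
      obtain ⟨C, hC, hCavoid⟩ := key (hfin b).toFinset (fun φ hφ => (Set.Finite.mem_toFinset _).1 hφ)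
      rw [← (hc hC).2] at hb
      obtain ⟨φ, hφC, hφb⟩ := hb
      exact hCavoid φ ((Set.Finite.mem_toFinset _).2 hφb) hφC
  obtain ⟨C, -, hCmin⟩ := zorn_superset_nonempty 𝒮 hchain Set.univ huniv
  obtain ⟨hCcl, hCim⟩ := hCmin.prop
  have hCirr : IsIrreducible C := by
    constructor
    · obtain ⟨b, hb⟩ := hirr.nonempty
      rw [← hCim] at hb
      obtain ⟨c, hc, -⟩ := hb
      exact ⟨c, hc⟩
    · rw [isPreirreducible_iff_isClosed_union_isClosed]
      intro z₁ z₂ hz₁ hz₂ hsub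
      obtain ⟨F₁, hF₁, e₁⟩ := hcl (C ∩ z₁) (hCcl.inter hz₁)
      obtain ⟨F₂, hF₂, e₂⟩ := hcl (C ∩ z₂) (hCcl.inter hz₂)
      have hcov : Set.range p ⊆ F₁ ∪ F₂ := by
        intro b hb
        rw [← hCim] at hb
        obtain ⟨c, hc, rfl⟩ := hb
        rcases hsub hc with h | h
        · exact Or.inl (e₁.subset ⟨c, ⟨hc, h⟩, rfl⟩).1
        · exact Or.inr (e₂.subset ⟨c, ⟨hc, h⟩, rfl⟩).1
      rcases (isPreirreducible_iff_isClosed_union_isClosed.1 hirr.isPreirreducible) F₁ F₂ hF₁ hF₂ hcov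
        with h | h
      · left
        have hmem : C ∩ z₁ ∈ 𝒮 := ⟨hCcl.inter hz₁, by rw [e₁, Set.inter_eq_right.2 h]⟩
        have := hCmin.le_of_le hmem Set.inter_subset_left
        exact fun c hc => (this hc).2
      · right
        have hmem : C ∩ z₂ ∈ 𝒮 := ⟨hCcl.inter hz₂, by rw [e₂, Set.inter_eq_right.2 h]⟩
        have := hCmin.le_of_le hmem Set.inter_subset_left
        exact fun c hc => (this hc).2
  obtain ⟨z, hz⟩ := QuasiSober.sober hCirr hCcl
  refine ⟨z, ?_⟩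
  rw [← hCim, ← hz.def]
  refine (image_closure_subset_closure_image hp).trans ?_
  rw [Set.image_singleton]

end Groth.Agent.Lib.Helper16.SoberTop
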