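import Groth.Agent.Lib.Helper16.StrataSp
import Groth.Agent.Lib.Helper16.SoberTop
import Groth.Agent.Lib.Helper16.SpecBaire
import Groth.Agent.Lib.Helper16.QuasiCompact
import Mathlib.AlgebraicGeometry.IdealSheaf.Subscheme

/-!
# Helper library (helper16): the space of points of a decent algebraic space is quasi-sober
-/

set_option autoImplicit false
universe u
open CategoryTheory CategoryTheory.Limits AlgebraicGeometry Opposite Topology TopologicalSpace

namespace Groth.Agent.Lib.Helper16.Strata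

open AlgSp

variable {S : Scheme.{u}}

/-- An irreducible closed subset of the points of a decent space meeting an affine etale chart has a generic point. -/
theorem exists_isGenericPoint_of_chart {F : Sp S} (hd : IsDecent F) {U : Over S} [IsAffine U.left]
    (a : (yon S).obj U ⟶ F) (ha : RepWith @Etale a) (T : Set (Points F)) (hirr : IsIrreducible T)
    (hcl : IsClosed T) (u₀ : ↥U.left) (hu₀ : Points.ofPt a u₀ ∈ T) : ∃ x, IsGenericPoint x T := by
  classical
  have sq0 := ha.rep.isPullback a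
  obtain ⟨c, hc⟩ := (yon S).map_surjective (ha.rep.fst a)
  rw [← hc] at sq0
  obtain ⟨R, hRdef⟩ : ∃ R : Over S, R = ha.rep.pullback a := ⟨_, rfl⟩
  obtain ⟨sn, hsn⟩ : ∃ sn : ha.rep.pullback a ⟶ U, sn = ha.rep.snd a := ⟨_, rfl⟩
  have sq : IsPullback ((yon S).map c) ((yon S).map sn) a a := hsn ▸ sq0
  have het : Etale sn.left := hsn ▸ ha.property_snd a
  have hsep : IsSeparated sn.left := isSeparated_sn sq
  have hAopen : IsOpenMap (Points.ofPt a) := isOpenMap_ofPt_of_etale a ha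
  have hAcont : Continuous (Points.ofPt a) := Points.continuous_ofPt a
  have hTUcl : IsClosed (Points.ofPt a ⁻¹' T) := hcl.preimage hAcont
  have hUdopen : ∀ d, IsOpen {u | HasDeg sn.left u d} := fun d => isOpen_setOf_hasDeg d sn.left
  have hinv : ∀ {u u' : ↥U.left} {d : ℕ}, Points.ofPt a u' = Points.ofPt a u → HasDeg sn.left u d →
      HasDeg sn.left u' d := fun h hu => hasDeg_of_ofPt_eq sq h hu
  have hst : ∀ r, Points.ofPt a (sn.left r) = Points.ofPt a (c.left r) := by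
    intro r
    rw [← ofPt_yon_map_comp, ← ofPt_yon_map_comp, sq.w]
  by_cases hB : ∀ d, ((Points.ofPt a ⁻¹' T) ∩ {u | HasDeg sn.left u d}).Nonempty
  · exfalso
    have hdense : ∀ (n : ℕ) (V : Set ↥U.left), IsOpen V → (V ∩ (Points.ofPt a ⁻¹' T)).Nonempty →
        (V ∩ (Points.ofPt a ⁻¹' T) ∩ {u | HasDeg sn.left u n}).Nonempty := by
      rintro d V hV ⟨v₀, hv₀V, hv₀T⟩
      obtain ⟨ud, hudT, hudd⟩ := hB d
      obtain ⟨b, hbT, ⟨v, hvV, hvb⟩, ⟨u', hu'd, hu'b⟩⟩ := hirr.isPreirreducible (Points.ofPt a '' V)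
        (Points.ofPt a '' {u | HasDeg sn.left u d}) (hAopen _ hV) (hAopen _ (hUdopen d))
        ⟨Points.ofPt a v₀, hv₀T, v₀, hv₀V, rfl⟩ ⟨Points.ofPt a ud, hudT, ud, hudd, rfl⟩
      refine ⟨v, ⟨hvV, ?_⟩, ?_⟩
      · show Points.ofPt a v ∈ T
        rw [hvb]; exact hbT
      · exact hinv (hvb.trans hu'b.symm) hu'd
    obtain ⟨u, -, huO⟩ := SpecBaire.exists_mem_iInter_of_dense_of_isAffine U.left (Points.ofPt a ⁻¹' T) hTUcl
      ⟨u₀, hu₀⟩ (fun d => {u | HasDeg sn.left u d}) hUdopen hdense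
    obtain ⟨N, hN⟩ := exists_bound_hasDeg sq hd ha u
    have := hN (N + 1) (Set.mem_iInter.1 huO (N + 1))
    omega
  · push_neg at hB
    have hd₁ : ¬ ((Points.ofPt a ⁻¹' T) ∩ {u | HasDeg sn.left u (Nat.find hB)}).Nonempty := by
      rw [Set.not_nonempty_iff_eq_empty]
      exact Nat.find_spec hB
    have hd₁pos : Nat.find hB ≠ 0 := by
      intro h0
      apply hd₁
      rw [h0]
      exact ⟨u₀, hu₀, hasDeg_zero _ _⟩
    obtain ⟨d, hdd⟩ : ∃ d, Nat.find hB = d + 1 := Nat.exists_eq_succ_of_ne_zero hd₁pos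
    have hdne : ((Points.ofPt a ⁻¹' T) ∩ {u | HasDeg sn.left u d}).Nonempty := by
      have := Nat.find_min hB (m := d) (by omega)
      exact Set.nonempty_iff_ne_empty.2 this
    have hdsucc : ∀ u ∈ Points.ofPt a ⁻¹' T, ¬ HasDeg sn.left u (d + 1) :=
      fun u hu h => hd₁ (hdd ▸ ⟨u, hu, h⟩)
    -- the locally closed subscheme `Z`
    obtain ⟨Zc, ιc, hιcl, hιc⟩ : ∃ (Zc : Scheme.{u}) (ιc : Zc ⟶ U.left), IsClosedImmersion ιc ∧
        Set.range ιc = Points.ofPt a ⁻¹' T := by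
      refine ⟨_, (Scheme.IdealSheafData.vanishingIdeal ⟨Points.ofPt a ⁻¹' T, hTUcl⟩).subschemeι,
        inferInstance, ?_⟩
      rw [Scheme.IdealSheafData.range_subschemeι]
      simp
    obtain ⟨Od, hOd⟩ : ∃ Od : U.left.Opens, (Od : Set ↥U.left) = {u | HasDeg sn.left u d} :=
      ⟨⟨_, hUdopen d⟩, rfl⟩
    obtain ⟨g, hgdef⟩ : ∃ g : (ιc ⁻¹ᵁ Od).toScheme ⟶ U.left, g = (ιc ⁻¹ᵁ Od).ι ≫ ιc := ⟨_, rfl⟩
    have hgpre : IsPreimmersion g := by rw [hgdef]; infer_instance
    have hg_range : Set.range g = (Points.ofPt a ⁻¹' T) ∩ {u | HasDeg sn.left u d} := by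
      rw [← hιc, ← hOd, hgdef]
      ext u
      constructor
      · rintro ⟨z, rfl⟩
        rw [Scheme.Hom.comp_apply]
        exact ⟨⟨_, rfl⟩, z.2⟩
      · rintro ⟨⟨w, rfl⟩, hw⟩
        exact ⟨⟨w, hw⟩, by rw [Scheme.Hom.comp_apply]; rfl⟩
    have hg_ind : Topology.IsInducing g := g.isEmbedding.isInducing
    have hg_inj : Function.Injective g := g.isEmbedding.injective
    have hfinZ : IsFinite (pullback.snd sn.left g) := by
      refine isFinite_of_forall_hasDeg d _ (fun z => ?_)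
      rw [hasDeg_snd_iff, hasDeg_snd_iff]
      have hz : g z ∈ (Points.ofPt a ⁻¹' T) ∩ {u | HasDeg sn.left u d} := hg_range ▸ Set.mem_range_self z
      exact ⟨hz.2, hdsucc _ hz.1⟩
    have hT1 := SoberTop.exists_isClosed_image_of_saturated (Points.ofPt a) hAopen sn.left c.left
      c.left.continuous hst
      (fun u c' h => by
        obtain ⟨v, hv1, hv2⟩ := exists_point_of_isPullback_yon_yon sq c' u h.symm
        exact ⟨v, hv2, hv1⟩)
      (Set.range g)
      (fun u z hz h => by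
        rw [hg_range] at hz ⊢
        refine ⟨?_, hinv h hz.2⟩
        show Points.ofPt a u ∈ T
        rw [h]; exact hz.1)
      (fun D hD => exists_isClosed_image_inter sn.left g hg_ind D hD)
    -- the map `p`
    have hpcont : Continuous (Points.ofPt a ∘ g) := hAcont.comp g.continuous
    have hprange : Set.range (Points.ofPt a ∘ g) = T ∩ Points.ofPt a '' {u | HasDeg sn.left u d} := by
      rw [Set.range_comp, hg_range, Set.image_preimage_inter]
    have hpcl : ∀ C : Set ↥(ιc ⁻¹ᵁ Od).toScheme, IsClosed C →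
        ∃ F' : Set (Points F), IsClosed F' ∧ (Points.ofPt a ∘ g) '' C = F' ∩ Set.range (Points.ofPt a ∘ g) := by
      intro C hC
      obtain ⟨C', hC', rfl⟩ := hg_ind.isClosed_iff.1 hC
      obtain ⟨F', hF', hF'e⟩ := hT1 C' hC'
      refine ⟨F', hF', ?_⟩
      rw [Set.image_comp, Set.image_preimage_eq_inter_range, hF'e, Set.range_comp]
    have hpfin : ∀ b, ((Points.ofPt a ∘ g) ⁻¹' {b}).Finite := by
      intro b
      obtain ⟨p, hp, -, hq⟩ := hd b
      have h1 : (Points.ofPt a ⁻¹' {b}).Finite := by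
        rw [← hp]
        exact finite_fibre_of_quasiCompact_fieldPt p hq a ha
      rw [Set.preimage_comp]
      exact h1.preimage hg_inj.injOn
    have hXdne : (T ∩ Points.ofPt a '' {u | HasDeg sn.left u d}).Nonempty := by
      obtain ⟨u, huT, hud⟩ := hdne
      exact ⟨Points.ofPt a u, huT, u, hud, rfl⟩
    have hpirr : IsIrreducible (Set.range (Points.ofPt a ∘ g)) := by
      rw [hprange]
      refine ⟨hXdne, ?_⟩
      intro u v hu hv ⟨x, ⟨hxT, hxX⟩, hxu⟩ ⟨y, ⟨hyT, hyX⟩, hyv⟩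
      obtain ⟨w, hwT, hw1, hw2⟩ := hirr.isPreirreducible (Points.ofPt a '' {u | HasDeg sn.left u d} ∩ u)
        (Points.ofPt a '' {u | HasDeg sn.left u d} ∩ v) ((hAopen _ (hUdopen d)).inter hu)
        ((hAopen _ (hUdopen d)).inter hv) ⟨x, hxT, hxX, hxu⟩ ⟨y, hyT, hyX, hyv⟩
      exact ⟨w, ⟨hwT, hw1.1⟩, hw1.2, hw2.2⟩
    obtain ⟨z, hz⟩ := SoberTop.exists_generic_of_closed_finite_fibres (Points.ofPt a ∘ g) hpcont hpcl hpfin hpirr
    refine ⟨Points.ofPt a (g z), ?_⟩
    have hξT : Points.ofPt a (g z) ∈ T := by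
      have : (Points.ofPt a ∘ g) z ∈ Set.range (Points.ofPt a ∘ g) := Set.mem_range_self z
      rw [hprange] at this
      exact this.1
    apply Set.Subset.antisymm
    · exact hcl.closure_subset_iff.2 (Set.singleton_subset_iff.2 hξT)
    · have h1 : T ⊆ closure (T ∩ Points.ofPt a '' {u | HasDeg sn.left u d}) :=
        subset_closure_inter_of_isPreirreducible_of_isOpen hirr.isPreirreducible (hAopen _ (hUdopen d)) hXdne
      refine h1.trans (closure_minimal ?_ isClosed_closure)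
      rw [← hprange]
      exact hz

/-- The space of points of a decent algebraic space is quasi-sober. -/
theorem quasiSober_points_of_isDecent {F : Sp S} (hF : IsAlgSpace F) (hd : IsDecent F) :
    QuasiSober (Points F) := by
  constructor
  intro T hirr hcl
  obtain ⟨x₀, hx₀⟩ := hirr.nonempty
  obtain ⟨U₀, p₀, hp₀e, hp₀s⟩ := hF.atlas
  obtain ⟨u₀, rfl⟩ := ofPt_surjective_of_surjective p₀ hp₀s x₀
  obtain ⟨W, hW, hu₀W⟩ : ∃ W : U₀.left.Opens, IsAffineOpen W ∧ u₀ ∈ W := by
    obtain ⟨_, ⟨W, hW, rfl⟩, h, -⟩ :=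
      U₀.left.isBasis_affineOpens.exists_subset_of_mem_open (Set.mem_univ u₀) isOpen_univ
    exact ⟨W, hW, h⟩
  have hWaff : IsAffine (overOpen U₀ W).left := hW
  exact exists_isGenericPoint_of_chart hd ((yon S).map (overOpenι U₀ W) ≫ p₀)
    (repWith_etale_restrict p₀ hp₀e W) T hirr hcl ⟨u₀, hu₀W⟩ (by rw [ofPt_restrict]; exact hx₀)

end Groth.Agent.Lib.Helper16.Strata
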