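import Groth.Agent.Lib.Helper16.JacobsonDecent
import Groth.Agent.Lib.Helper16.ChartDiagram
import Groth.Agent.Lib.Helper16.MonoPt
import Groth.Agent.Lib.Helper15.MonoInj
import Mathlib.AlgebraicGeometry.Fiber

/-!
# Helper library (helper16): the fibre over a point represented by a quasi-compact monomorphism
-/

set_option autoImplicit false
universe u
open CategoryTheory CategoryTheory.Limits AlgebraicGeometry Opposite Topology

namespace Groth.Agent.Lib.Helper16.FibreEmb

open AlgSp Groth.Agent.Lib.Helper16 Groth.Agent.Lib.Helper15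

variable {S : Scheme.{u}}

/-- The fibre of a chart over a point represented by a quasi-compact field-valued point meets every affine open in a
finite set. -/
theorem finite_fibre_inter_affine_of_qc {X : Sp S} (p : FieldPt X) (hq : RepWith @QuasiCompact p.toHom)
    {V : Over S} (b : (yon S).obj V ⟶ X)
    (hb : RepWith @Etale b) (V' : V.left.Opens) (hV' : IsAffineOpen V') :
    ((Points.ofPt b ⁻¹' {Points.mk p}) ∩ (V' : Set ↥V.left)).Finite := by
  have haff : IsAffine V'.toScheme := hV'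
  have h1 : RepWith @Etale ((yon S).map (Over.homMk V'.ι rfl : Over.mk (V'.ι ≫ V.hom) ⟶ V)) :=
    (repWith_yon_map_iff _ _).2 (by show Etale V'.ι; infer_instance)
  have hcpt : CompactSpace ↥(Over.mk (V'.ι ≫ V.hom)).left := by
    show CompactSpace ↥V'.toScheme
    infer_instance
  have hfin := finite_fibre_of_quasiCompact_fieldPt p hq (V := Over.mk (V'.ι ≫ V.hom))
    ((yon S).map (Over.homMk V'.ι rfl : Over.mk (V'.ι ≫ V.hom) ⟶ V) ≫ b)
    ((RepWith @Etale).comp_mem _ _ h1 hb)
  refine (hfin.image V'.ι).subset ?_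
  rintro z ⟨hz, hzV'⟩
  have hr : z ∈ Set.range V'.ι := by rw [Scheme.Opens.range_ι]; exact hzV'
  obtain ⟨w, rfl⟩ := hr
  refine ⟨w, ?_, rfl⟩
  rw [Set.mem_preimage, ofPt_yon_map_comp]
  exact hz

/-- A point represented by a quasi-compact field-valued point has an etale chart with exactly one point over it. -/
theorem exists_chart_unique_point_over {Y : Sp S} (hY : IsAlgSpace Y) (r : FieldPt Y)
    (hq : RepWith @QuasiCompact r.toHom) :
    ∃ (V : Over S) (b : (yon S).obj V ⟶ Y) (v : ↥V.left), RepWith @Etale b ∧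
      Points.ofPt b v = Points.mk r ∧ ∀ t : ↥V.left, Points.ofPt b t = Points.mk r → t = v := by
  obtain ⟨V, b, hbe, hbs⟩ := hY.atlas
  obtain ⟨v, hv⟩ := ofPt_surjective_of_surjective b hbs (Points.mk r)
  obtain ⟨_, ⟨V', hV', rfl⟩, hvV', -⟩ :=
    V.left.isBasis_affineOpens.exists_subset_of_mem_open (Set.mem_univ v) isOpen_univ
  have hfin := finite_fibre_inter_affine_of_qc r hq b hbe V' hV'
  have hfin' : (((Points.ofPt b ⁻¹' {Points.mk r}) ∩ (V' : Set ↥V.left)) \ {v}).Finite :=
    hfin.subset Set.sdiff_subset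
  have hcl : IsClosed (⋃ e ∈ ((Points.ofPt b ⁻¹' {Points.mk r}) ∩ (V' : Set ↥V.left)) \ {v},
      closure ({e} : Set ↥V.left)) := hfin'.isClosed_biUnion fun e _ => isClosed_closure
  have hnospec : ∀ u u' : ↥V.left, Points.ofPt b u = Points.mk r → Points.ofPt b u' = Points.mk r →
      u' ⤳ u → u = u' := fun u u' hu hu' hs =>
    eq_of_specializes_of_finite_fibres (Points.mk r)
      (fun V₁ b₁ hV₁ hb₁ => by
        have : IsAffine V₁.left := hV₁
        exact finite_fibre_of_quasiCompact_fieldPt r hq b₁ hb₁) b hbe u u' hu hu' hs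
  let O : V.left.Opens := ⟨(V' : Set ↥V.left) ∩
    (⋃ e ∈ ((Points.ofPt b ⁻¹' {Points.mk r}) ∩ (V' : Set ↥V.left)) \ {v}, closure ({e} : Set ↥V.left))ᶜ,
    V'.2.inter hcl.isOpen_compl⟩
  have hvO : v ∈ O := by
    refine ⟨hvV', ?_⟩
    intro hmem
    simp only [Set.mem_iUnion] at hmem
    obtain ⟨e, ⟨⟨he, -⟩, hev⟩, hve⟩ := hmem
    have hs : e ⤳ v := specializes_iff_mem_closure.2 hve
    exact hev (hnospec v e hv he hs).symm
  have hO : ∀ t ∈ O, Points.ofPt b t = Points.mk r → t = v := by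
    rintro t ⟨htV', htc⟩ ht
    by_contra hne
    apply htc
    simp only [Set.mem_iUnion]
    exact ⟨t, ⟨⟨ht, htV'⟩, hne⟩, subset_closure rfl⟩
  have h1 : RepWith @Etale ((yon S).map (Over.homMk O.ι rfl : Over.mk (O.ι ≫ V.hom) ⟶ V)) :=
    (repWith_yon_map_iff _ _).2 (by show Etale O.ι; infer_instance)
  refine ⟨Over.mk (O.ι ≫ V.hom), (yon S).map (Over.homMk O.ι rfl : Over.mk (O.ι ≫ V.hom) ⟶ V) ≫ b,
    (⟨v, hvO⟩ : O), (RepWith @Etale).comp_mem _ _ h1 hbe, ?_, ?_⟩
  · rw [ofPt_yon_map_comp]; exact hv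
  · intro t ht
    rw [ofPt_yon_map_comp] at ht
    exact Subtype.ext (hO _ t.2 ht)

theorem isInducing_of_comp_surjective {A B C : Type*} [TopologicalSpace A] [TopologicalSpace B]
    [TopologicalSpace C] (σ : A → B) (j : B → C) (hσ : Continuous σ) (hσs : Function.Surjective σ)
    (hj : Continuous j) (h : IsInducing (j ∘ σ)) : IsInducing j := by
  refine ⟨le_antisymm hj.le_induced ?_⟩
  intro W hW
  rw [isOpen_induced_iff]
  obtain ⟨O, hO, hOW⟩ := h.isOpen_iff.1 (hW.preimage hσ)
  refine ⟨O, hO, ?_⟩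
  ext z
  obtain ⟨z', rfl⟩ := hσs z
  exact Set.ext_iff.1 hOW z'

theorem isInducing_of_forall_exists_open {B C : Type*} [TopologicalSpace B] [TopologicalSpace C] (j : B → C)
    (hj : Continuous j)
    (H : ∀ W : Set B, IsOpen W → ∀ w ∈ W, ∃ N : Set C, IsOpen N ∧ j w ∈ N ∧ j ⁻¹' N ⊆ W) : IsInducing j := by
  refine ⟨le_antisymm hj.le_induced ?_⟩
  intro W hW
  rw [isOpen_induced_iff]
  refine ⟨⋃₀ {N : Set C | IsOpen N ∧ j ⁻¹' N ⊆ W}, isOpen_sUnion fun N hN => hN.1, ?_⟩
  ext w
  constructor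
  · rintro ⟨N, ⟨-, hNW⟩, hwN⟩
    exact hNW hwN
  · intro hw
    obtain ⟨N, hN, hwN, hNW⟩ := H W hW w hw
    exact ⟨N, ⟨hN, hNW⟩, hwN⟩

/-- Every point of `h_{Spec K}` maps to the class of the field-valued point. -/
theorem points_map_toHom_eq {Y : Sp S} (r : FieldPt Y) (z : Points ((yon S).obj r.pt)) :
    Points.map r.toHom z = Points.mk r := by
  rw [← Points.ofScheme_toScheme r.pt z, ← Points.ofPt_eq_map_ofScheme, Points.ofPt_toHom]

/-- The fibre over a point represented by a quasi-compact monomorphism embeds: `|X_k| → |X|` is a homeomorphism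
onto `f⁻¹(y)`. -/
theorem isEmbedding_map_fst_of_qc_mono_point {X Y Xk : Sp S} (hX : IsAlgSpace X) (hY : IsAlgSpace Y)
    (f : X ⟶ Y) (r : FieldPt Y) (hm : Mono r.toHom) (hq : RepWith @QuasiCompact r.toHom)
    (fst : Xk ⟶ X) (snd : Xk ⟶ (yon S).obj r.pt) (hsq : IsPullback fst snd f r.toHom) :
    IsEmbedding (Points.map fst) ∧ Set.range (Points.map fst) = Points.map f ⁻¹' {Points.mk r} := by
  have hmono : Mono fst :=
    MorphismProperty.of_isPullback (P := MorphismProperty.monomorphisms _) hsq.flip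
      (MorphismProperty.monomorphisms.infer_property _)
  have hinj : Function.Injective (Points.map fst) := points_map_injective_of_mono fst
  have hrange : Set.range (Points.map fst) = Points.map f ⁻¹' {Points.mk r} := by
    ext x
    constructor
    · rintro ⟨w, rfl⟩
      show Points.map f (Points.map fst w) = Points.mk r
      rw [← Points.map_comp, hsq.w, Points.map_comp, points_map_toHom_eq]
    · intro hx
      obtain ⟨w, hw1, -⟩ := exists_point_of_isPullback hsq x
        (Points.ofScheme r.pt (IsLocalRing.closedPoint r.K)) (by rw [points_map_toHom_eq]; exact hx)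
      exact ⟨w, hw1⟩
  refine ⟨⟨?_, hinj⟩, hrange⟩
  apply isInducing_of_forall_exists_open _ (Points.continuous_map fst)
  intro W hW w hwW
  -- charts
  obtain ⟨V, b, v, hbe, hv, hvuniq⟩ := exists_chart_unique_point_over hY r hq
  obtain ⟨U₀, a₀, ha₀e, ha₀s⟩ := hX.atlas
  obtain ⟨U, h, c, hae, hac, -, sqU, -⟩ := exists_chart_diagram f b hbe a₀ ha₀e
  have hfx : Points.map f (Points.map fst w) = Points.mk r := hrange.le ⟨w, rfl⟩
  obtain ⟨u₀, hu₀⟩ := ofPt_surjective_of_surjective a₀ ha₀s (Points.map fst w)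
  obtain ⟨u, hu1, hu2⟩ := exists_point_of_isPullback_yon_yon sqU v u₀
    (by rw [hv, ← Points.map_ofPt, hu₀, hfx])
  have hau : Points.ofPt ((yon S).map c ≫ a₀) u = Points.map fst w := by
    rw [ofPt_yon_map_comp, hu2, hu₀]
  generalize (yon S).map c ≫ a₀ = a at hae hac hau
  -- the scheme `U_k`
  obtain ⟨Uk, j, t₀, sqk⟩ := hq.rep (a ≫ f)
  have hjmono : Mono j.left := by
    have h1 : Mono ((yon S).map j) :=
      MorphismProperty.of_isPullback (P := MorphismProperty.monomorphisms _) sqk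
        (MorphismProperty.monomorphisms.infer_property _)
    have h2 : Mono j := (yon S).mono_of_mono_map h1
    infer_instance
  let ak : (yon S).obj Uk ⟶ Xk := hsq.lift ((yon S).map j ≫ a) t₀ (by rw [Category.assoc]; exact sqk.w.symm)
  have sqa : IsPullback ak ((yon S).map j) fst a := by
    refine IsPullback.of_right ?_ (hsq.lift_fst _ _ _) hsq.flip
    rw [hsq.lift_snd]
    exact sqk
  have hake : RepWith @Etale ak := (RepWith @Etale).of_isPullback sqa.flip hae
  obtain ⟨z, hz1, hz2⟩ := exists_point_of_isPullback_yon sqa w u hau.symm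
  have hjv : ∀ z' : ↥Uk.left, h.left (j.left z') = v := by
    intro z'
    apply hvuniq
    rw [← ofPt_yon_map_comp, ← hac, ← ofPt_yon_map_comp, ← sqk.w, ← Points.map_ofPt, points_map_toHom_eq]
  -- the scheme-theoretic fibre of `h` over `v`
  let Uv : Over S := Over.mk (h.left.fiberι v ≫ U.hom)
  let ιv : Uv ⟶ U := Over.homMk (h.left.fiberι v) rfl
  let toL : Uv ⟶ (FieldPt.ofPt b v).pt := Over.homMk (h.left.fiberToSpecResidueField v) (by
    show h.left.fiberToSpecResidueField v ≫ V.left.fromSpecResidueField v ≫ V.hom =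
      h.left.fiberι v ≫ U.hom
    rw [← Category.assoc, ← Scheme.Hom.fiber_fac, Category.assoc, Over.w h])
  let κv : (FieldPt.ofPt b v).pt ⟶ V := Over.homMk (V.left.fromSpecResidueField v) rfl
  have hιh : ιv ≫ h = toL ≫ κv := by
    ext
    show h.left.fiberι v ≫ h.left = h.left.fiberToSpecResidueField v ≫ V.left.fromSpecResidueField v
    exact h.left.fiber_fac v
  obtain ⟨c', hc'⟩ := exists_factor_of_rel_of_mono r (FieldPt.ofPt b v) hm hq.rep (Points.mk_eq_mk_iff.1 hv)
  have e1 : (yon S).map ιv ≫ (yon S).map h = (yon S).map toL ≫ (yon S).map κv := by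
    rw [← Functor.map_comp, ← Functor.map_comp, hιh]
  have compat : ((yon S).map toL ≫ (yon S).map c') ≫ r.toHom = (yon S).map ιv ≫ (a ≫ f) := by
    rw [Category.assoc, ← hc', FieldPt.toHom_ofPt, hac, ← Category.assoc ((yon S).map ιv), e1,
      Category.assoc]
  obtain ⟨σ, hσ⟩ := (yon S).map_surjective (sqk.lift _ _ compat)
  have hσj : σ ≫ j = ιv := by
    apply (yon S).map_injective
    rw [Functor.map_comp, hσ, sqk.lift_snd]
  have hσj' : σ.left ≫ j.left = h.left.fiberι v := by
    rw [← Over.comp_left, hσj]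
    rfl
  have hσsurj : Function.Surjective σ.left := by
    intro z'
    have h1 : j.left z' ∈ Set.range (h.left.fiberι v) := by
      rw [Scheme.Hom.range_fiberι]; exact hjv z'
    obtain ⟨t, ht⟩ := h1
    refine ⟨t, j.left.injective ?_⟩
    rw [← Scheme.Hom.comp_apply, hσj', ht]
  have hjind : IsInducing j.left := by
    refine isInducing_of_comp_surjective σ.left j.left σ.left.continuous hσsurj j.left.continuous ?_
    have h1 : (j.left : ↥Uk.left → ↥U.left) ∘ σ.left = h.left.fiberι v := by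
      funext t
      rw [Function.comp, ← Scheme.Hom.comp_apply, hσj']
    rw [h1]
    exact (h.left.fiberι v).isEmbedding.isInducing
  -- the neighbourhood
  obtain ⟨O, hO, hOeq⟩ := hjind.isOpen_iff.1 (hW.preimage (Points.continuous_ofPt ak))
  have hzO : j.left z ∈ O := by
    have h1 : z ∈ j.left ⁻¹' O := by rw [hOeq]; show Points.ofPt ak z ∈ W; rw [hz1]; exact hwW
    exact h1
  refine ⟨Points.ofPt a '' O, isOpenMap_ofPt_of_etale a hae O hO, ⟨u, hz2 ▸ hzO, hau⟩, ?_⟩
  rintro w' ⟨u', hu'O, hu'⟩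
  obtain ⟨z', hz'1, hz'2⟩ := exists_point_of_isPullback_yon sqa w' u' hu'.symm
  have h1 : z' ∈ j.left ⁻¹' O := by show j.left z' ∈ O; rw [hz'2]; exact hu'O
  rw [hOeq] at h1
  rw [← hz'1]
  exact h1

end Groth.Agent.Lib.Helper16.FibreEmb
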