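import Groth.Agent.Lib.Helper16.MonoPtEx
import Groth.Agent.Lib.Helper16.QuasiCompactMor2
import Groth.Agent.Lib.Helper16.MonoPt
import Groth.Agent.Lib.Helper16.FibreEmb
import Groth.Agent.Lib.Helper17.AlgSpComp

/-!
# Helper library (helper16): decent points — quasi-compact monomorphic points from quasi-compact points or finite
fibres
-/

set_option autoImplicit false
universe u
open CategoryTheory CategoryTheory.Limits AlgebraicGeometry Opposite Topology

namespace Groth.Agent.Lib.Helper16

open AlgSp

variable {S : Scheme.{u}}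

/-- If a quasi-compact field point factors through another field point, the latter is quasi-compact. -/
theorem repWith_quasiCompact_of_factor {X : Sp S} (hX : IsAlgSpace X) (p q : FieldPt X) (c : q.pt ⟶ p.pt)
    (hc : q.toHom = (yon S).map c ≫ p.toHom) (hq : RepWith @QuasiCompact q.toHom) :
    RepWith @QuasiCompact p.toHom := by
  have hrep : Representable p.toHom := hX.representable_from_yon _
  rw [repWith_quasiCompact_iff_isQuasiCompactMor _ hrep]
  have h1 : IsQuasiCompactMor ((yon S).map c ≫ p.toHom) := by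
    rw [← hc]; exact isQuasiCompactMor_of_repWith_quasiCompact _ hq
  refine isQuasiCompactMor_of_surjective_comp (IsAlgSpace.yon_obj _) hX.diag ((yon S).map c) p.toHom ?_ h1
  have hs : Surjective c.left :=
    ⟨fun x => ⟨(IsLocalRing.closedPoint q.K : ↥(Spec (CommRingCat.of q.K))),
      Subsingleton.elim (α := PrimeSpectrum p.K) _ _⟩⟩
  exact (repWith_surjective_iff _ (representable_yon_map c)).1 ((repWith_yon_map_iff _ _).2 hs)

/-- (5) ⇒ (4): a point represented by a quasi-compact morphism from the spectrum of a field is represented by a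
quasi-compact monomorphism. -/
theorem exists_qc_mono_point_of_qc_point {X : Sp S} (hX : IsAlgSpace X) (q : FieldPt X)
    (hq : RepWith @QuasiCompact q.toHom) :
    ∃ p : FieldPt X, Points.mk p = Points.mk q ∧ Mono p.toHom ∧ RepWith @QuasiCompact p.toHom := by
  obtain ⟨U, φ, hφ, hφs⟩ := hX.atlas
  obtain ⟨u, hu⟩ := ofPt_surjective_of_surjective φ hφs (Points.mk q)
  have hrel : FieldPt.Rel q (FieldPt.ofPt φ u) := Points.mk_eq_mk_iff.1 hu.symm
  obtain ⟨Ω, _, w, a, b, hab⟩ := (rel_iff_toHom _ _).1 hrel
  have hrepu : Representable (FieldPt.ofPt φ u).toHom := hX.representable_from_yon _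
  obtain ⟨F, s, t, hF⟩ : ∃ (F : Over S) (s t : F ⟶ (FieldPt.ofPt φ u).pt),
      IsPullback ((yon S).map s) ((yon S).map t) (FieldPt.ofPt φ u).toHom (FieldPt.ofPt φ u).toHom :=
    ⟨_, _, _, (hrepu.isPullback' _).flip⟩
  have hs_lqf : LocallyQuasiFinite s.left := locallyQuasiFinite_fst_of_isPullback_ofPt φ hφ u _ s t hF
  -- compactness
  have sqE := (IsPullback.of_hasPullback t b).map (yon S)
  have big := sqE.paste_horiz hF
  rw [← hab, ← Functor.map_comp] at big
  have ha_qc : QuasiCompact a.left := by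
    obtain ⟨a₁, ha₁⟩ : ∃ a₁ : Spec (CommRingCat.of Ω) ⟶ q.pt.left, a₁ = a.left := ⟨_, rfl⟩
    rw [← ha₁]
    exact quasiCompact_of_field_source a₁
  have hqΩ : RepWith @QuasiCompact ((yon S).map a ≫ q.toHom) :=
    (RepWith @QuasiCompact).comp_mem _ _ ((repWith_yon_map_iff _ _).2 ha_qc) hq
  have h1 : QuasiCompact (pullback.fst t b ≫ s).left := hqΩ.property _ _ _ big.flip
  have hcu : CompactSpace ↥(FieldPt.ofPt φ u).pt.left :=
    inferInstanceAs (CompactSpace ↥(Spec (CommRingCat.of (FieldPt.ofPt φ u).K)))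
  have hcE : CompactSpace ↥(pullback t b).left :=
    QuasiCompact.compactSpace_of_compactSpace (pullback.fst t b ≫ s).left
  have sqEl : IsPullback (pullback.fst t b).left (pullback.snd t b).left t.left b.left :=
    (IsPullback.of_hasPullback t b).map (Over.forget S)
  have hb_surj : Surjective b.left :=
    ⟨fun x => ⟨(IsLocalRing.closedPoint Ω : ↥(Spec (CommRingCat.of Ω))),
      Subsingleton.elim (α := PrimeSpectrum (FieldPt.ofPt φ u).K) _ _⟩⟩
  have hfst_surj : Surjective (pullback.fst t b).left :=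
    MorphismProperty.of_isPullback (P := @Surjective) sqEl.flip hb_surj
  have hcF : CompactSpace ↥F.left :=
    Function.Surjective.compactSpace (f := (pullback.fst t b).left) (pullback.fst t b).left.continuous
      (pullback.fst t b).left.surjective
  obtain ⟨k, _, str', c, p', hmono, hp', -, -, -⟩ :=
    exists_mono_desc_of_lqf_kernelPair (FieldPt.ofPt φ u).K (FieldPt.ofPt φ u).str _ s t hF hs_lqf hcF
  have hmk : Points.mk (fieldPtOfHom k str' p') = Points.mk q := by
    have h1 : Points.mk (fieldPtOfHom (FieldPt.ofPt φ u).K (FieldPt.ofPt φ u).str ((yon S).map c ≫ p')) =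
        Points.mk (fieldPtOfHom k str' p') := by
      have := mk_fieldPtOfHom_comp (fieldPtOfHom k str' p') (FieldPt.ofPt φ u).K (FieldPt.ofPt φ u).str c
      rwa [fieldPtOfHom_toHom] at this
    have h2 : fieldPtOfHom (FieldPt.ofPt φ u).K (FieldPt.ofPt φ u).str (FieldPt.ofPt φ u).toHom =
        FieldPt.ofPt φ u := fieldPtOfHom_toHom_self _
    rw [← h1, hp', h2]
    exact hu
  have hmono' : Mono (fieldPtOfHom k str' p').toHom := by
    rw [fieldPtOfHom_toHom]; exact hmono
  refine ⟨fieldPtOfHom k str' p', hmk, hmono', ?_⟩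
  obtain ⟨c', hc'⟩ := exists_factor_of_rel_of_mono (fieldPtOfHom k str' p') q hmono'
    (hX.representable_from_yon _) (Points.mk_eq_mk_iff.1 hmk.symm)
  exact repWith_quasiCompact_of_factor hX _ q c' hc' hq

/-- A monomorphic point is quasi-compact as soon as, for some atlas, its fibre in every affine open of the atlas is
finite. -/
theorem repWith_quasiCompact_of_mono_of_finite_fibres {X : Sp S} (hX : IsAlgSpace X) (p : FieldPt X)
    (hm : Mono p.toHom) {U : Over S} (φ : (yon S).obj U ⟶ X) (hφ : RepWith @Etale φ)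
    (hφs : RepWith @Surjective φ)
    (hfin : ∀ W : U.left.Opens, IsAffineOpen W →
      ((Points.ofPt φ ⁻¹' {Points.mk p}) ∩ (W : Set ↥U.left)).Finite) :
    RepWith @QuasiCompact p.toHom := by
  have hrep : Representable p.toHom := hX.representable_from_yon _
  obtain ⟨V, v₁, v₂, sqV⟩ : ∃ (V : Over S) (v₁ : V ⟶ p.pt) (v₂ : V ⟶ U),
      IsPullback ((yon S).map v₁) ((yon S).map v₂) p.toHom φ := ⟨_, _, _, hrep.isPullback' φ⟩
  have hv₂m : Mono ((yon S).map v₂) := sqV.mono_snd_of_mono
  have hv₂m' : Mono v₂ := (yon S).mono_of_mono_map hv₂m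
  have hv₂l : Mono v₂.left := inferInstance
  have hv₂fib : ∀ v : ↥V.left, Points.ofPt φ (v₂.left v) = Points.mk p := by
    intro v
    rw [← ofPt_yon_map_comp, ← sqV.w, ofPt_yon_map_comp, Points.ofPt_toHom]
  have hqc : QuasiCompact v₂.left := by
    rw [quasiCompact_iff_forall_isAffineOpen]
    intro W hW
    apply Set.Finite.isCompact
    refine ((hfin W hW).preimage (v₂.left.injective.injOn)).subset ?_
    intro v hv
    exact ⟨hv₂fib v, hv⟩
  rw [repWith_quasiCompact_iff_isQuasiCompactMor _ hrep]
  refine isQuasiCompactMor_of_etale_surjective_base (IsAlgSpace.yon_obj _) hX.diag (IsAlgSpace.yon_obj U)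
    p.toHom φ ((yon S).map v₁) ((yon S).map v₂) sqV ?_ ?_ ?_
  · intro U' ψ hψ
    exact (RepWith @Etale).comp_mem _ _ hψ hφ
  · exact (repWith_surjective_iff _ hφ.rep).1 hφs
  · exact isQuasiCompactMor_of_repWith_quasiCompact _ ((repWith_yon_map_iff _ _).2 hqc)

end Groth.Agent.Lib.Helper16
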