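import Groth.Agent.Lib.Helper16.QsField
import Groth.Agent.Lib.Helper16.DecentPt
import Groth.Agent.Lib.Helper16.QuasiCompact

/-!
# Helper library (helper16): field-valued points of a quasi-separated algebraic space are quasi-compact
-/

set_option autoImplicit false
universe u
open CategoryTheory CategoryTheory.Limits AlgebraicGeometry Topology TopologicalSpace
open AlgSp

namespace Groth.Agent.Lib.Helper16

variable {S : Scheme.{u}}

theorem ofPt_yon_map_eq_id {A B : Over S} (h : A ⟶ B) (a : ↥A.left) :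
    Points.ofPt ((yon S).map h) a = Points.ofPt (𝟙 ((yon S).obj B)) (h.left a) := by
  rw [← ofPt_yon_map_comp, Category.comp_id]

/-- Every field-valued point of a quasi-separated algebraic space is (representable) quasi-compact. -/
theorem repWith_quasiCompact_fieldPt_of_quasiSeparated {X : Sp S} (hX : IsAlgSpace X)
    (hqs : RepWith @QuasiCompact (Limits.diag X)) (q : FieldPt X) : RepWith @QuasiCompact q.toHom := by
  have hrep : Representable q.toHom := hX.representable_from_yon _
  refine ⟨hrep, ?_⟩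
  intro Z V g fst snd sq
  obtain ⟨fst', rfl⟩ := (yon S).map_surjective fst
  show QuasiCompact snd.left
  rw [quasiCompact_iff_forall_isAffineOpen]
  intro W hW
  obtain ⟨R, r₁, r₂, sqR⟩ : ∃ (R : Over S) (r₁ : R ⟶ q.pt) (r₂ : R ⟶ overOpen Z W),
      IsPullback ((yon S).map r₁) ((yon S).map r₂) q.toHom ((yon S).map (overOpenι Z W) ≫ g) :=
    ⟨_, _, _, hrep.isPullback' _⟩
  have hcW : CompactSpace ↥(overOpen Z W).left := isCompact_iff_compactSpace.mp hW.isCompact
  have hqstr : QuasiCompact q.pt.hom := by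
    obtain ⟨a₁, ha₁⟩ : ∃ a₁ : Spec (CommRingCat.of q.K) ⟶ S, a₁ = q.pt.hom := ⟨_, rfl⟩
    rw [← ha₁]
    exact quasiCompact_of_field_source a₁
  have hcR : CompactSpace ↥R.left :=
    compactSpace_of_isPullback_of_quasiCompact_diag hqs q.toHom _ r₁ r₂ sqR hqstr
  have hcomm : (yon S).map r₁ ≫ q.toHom = (yon S).map (r₂ ≫ overOpenι Z W) ≫ g := by
    rw [Functor.map_comp, Category.assoc]; exact sqR.w
  obtain ⟨l, hl⟩ := (yon S).map_surjective (sq.lift _ _ hcomm)
  have hl1 : l ≫ fst' = r₁ := (yon S).map_injective (by rw [Functor.map_comp, hl, sq.lift_fst])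
  have hl2 : l ≫ snd = r₂ ≫ overOpenι Z W :=
    (yon S).map_injective (by rw [Functor.map_comp, hl, sq.lift_snd])
  have sqL : IsPullback ((yon S).map l) ((yon S).map r₂) ((yon S).map snd)
      ((yon S).map (overOpenι Z W)) := by
    refine IsPullback.of_right ?_ ?_ sq
    · rw [← Functor.map_comp, hl1]; exact sqR
    · rw [← Functor.map_comp, ← Functor.map_comp, hl2]
  have himg : ((snd.left ⁻¹ᵁ W : V.left.Opens) : Set ↥V.left) = Set.range l.left := by
    ext v
    constructor
    · intro hv
      obtain ⟨r, hr, -⟩ := exists_point_of_isPullback_yon_yon sqL v (⟨snd.left v, hv⟩ : ↥W)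
        (by rw [ofPt_yon_map_eq_id, ofPt_yon_map_eq_id]; rfl)
      exact ⟨r, hr⟩
    · rintro ⟨r, rfl⟩
      show snd.left (l.left r) ∈ W
      have h : snd.left (l.left r) = W.ι (r₂.left r) := congrArg (fun m => m.left r) hl2
      rw [h]
      exact (r₂.left r).2
  rw [himg]
  exact isCompact_range l.left.continuous

/-- A quasi-separated algebraic space is decent. -/
theorem isDecent_of_quasiSeparated {X : Sp S} (hX : IsAlgSpace X)
    (hqs : RepWith @QuasiCompact (Limits.diag X)) : IsDecent X := by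
  intro x
  obtain ⟨U, φ, hφ, hφs⟩ := hX.atlas
  obtain ⟨u, hu⟩ := ofPt_surjective_of_surjective φ hφs x
  obtain ⟨p, hp, hm, hq⟩ := exists_qc_mono_point_of_qc_point hX (FieldPt.ofPt φ u)
    (repWith_quasiCompact_fieldPt_of_quasiSeparated hX hqs _)
  exact ⟨p, hp.trans hu, hm, hq⟩

/-- Compactness of the preimage of an open in a represented pullback, from compactness of the pullback over the
open. -/
theorem isCompact_preimage_of_isPullback {X : Sp S} {A Z V : Over S} (f : (yon S).obj A ⟶ X)
    (g : (yon S).obj Z ⟶ X) (fst' : V ⟶ A) (snd : V ⟶ Z)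
    (sq : IsPullback ((yon S).map fst') ((yon S).map snd) f g) (W : Z.left.Opens)
    {R : Over S} (r₁ : R ⟶ A) (r₂ : R ⟶ overOpen Z W)
    (sqR : IsPullback ((yon S).map r₁) ((yon S).map r₂) f ((yon S).map (overOpenι Z W) ≫ g))
    [CompactSpace ↥R.left] : IsCompact ((snd.left ⁻¹ᵁ W : V.left.Opens) : Set ↥V.left) := by
  have hcomm : (yon S).map r₁ ≫ f = (yon S).map (r₂ ≫ overOpenι Z W) ≫ g := by
    rw [Functor.map_comp, Category.assoc]; exact sqR.w
  obtain ⟨l, hl⟩ := (yon S).map_surjective (sq.lift _ _ hcomm)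
  have hl1 : l ≫ fst' = r₁ := (yon S).map_injective (by rw [Functor.map_comp, hl, sq.lift_fst])
  have hl2 : l ≫ snd = r₂ ≫ overOpenι Z W :=
    (yon S).map_injective (by rw [Functor.map_comp, hl, sq.lift_snd])
  have sqL : IsPullback ((yon S).map l) ((yon S).map r₂) ((yon S).map snd)
      ((yon S).map (overOpenι Z W)) := by
    refine IsPullback.of_right ?_ ?_ sq
    · rw [← Functor.map_comp, hl1]; exact sqR
    · rw [← Functor.map_comp, ← Functor.map_comp, hl2]
  have himg : ((snd.left ⁻¹ᵁ W : V.left.Opens) : Set ↥V.left) = Set.range l.left := by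
    ext v
    constructor
    · intro hv
      obtain ⟨r, hr, -⟩ := exists_point_of_isPullback_yon_yon sqL v (⟨snd.left v, hv⟩ : ↥W)
        (by rw [ofPt_yon_map_eq_id, ofPt_yon_map_eq_id]; rfl)
      exact ⟨r, hr⟩
    · rintro ⟨r, rfl⟩
      show snd.left (l.left r) ∈ W
      have h : snd.left (l.left r) = W.ι (r₂.left r) := congrArg (fun m => m.left r) hl2
      rw [h]
      exact (r₂.left r).2
  rw [himg]
  exact isCompact_range l.left.continuous

/-- A field-valued point of an algebraic space is quasi-compact as soon as its base change to every affine etale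
chart is a quasi-compact scheme. -/
theorem repWith_quasiCompact_of_compact_affine_etale {X : Sp S} (hX : IsAlgSpace X) (q : FieldPt X)
    (H : ∀ (W : Over S) (ψ : (yon S).obj W ⟶ X), IsAffine W.left → RepWith @Etale ψ →
      ∀ (R : Over S) (r₁ : R ⟶ q.pt) (r₂ : R ⟶ W),
        IsPullback ((yon S).map r₁) ((yon S).map r₂) q.toHom ψ → CompactSpace ↥R.left) :
    RepWith @QuasiCompact q.toHom := by
  have hrep : Representable q.toHom := hX.representable_from_yon _
  obtain ⟨U, φ, hφ, hφs⟩ := hX.atlas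
  obtain ⟨V, v₁, v₂, sqV⟩ : ∃ (V : Over S) (v₁ : V ⟶ q.pt) (v₂ : V ⟶ U),
      IsPullback ((yon S).map v₁) ((yon S).map v₂) q.toHom φ := ⟨_, _, _, hrep.isPullback' φ⟩
  have hqc : QuasiCompact v₂.left := by
    rw [quasiCompact_iff_forall_isAffineOpen]
    intro W hW
    obtain ⟨R, r₁, r₂, sqR⟩ : ∃ (R : Over S) (r₁ : R ⟶ q.pt) (r₂ : R ⟶ overOpen U W),
        IsPullback ((yon S).map r₁) ((yon S).map r₂) q.toHom ((yon S).map (overOpenι U W) ≫ φ) :=
      ⟨_, _, _, hrep.isPullback' _⟩
    have haff : IsAffine (overOpen U W).left := hW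
    have hcR : CompactSpace ↥R.left := H _ _ haff (repWith_etale_restrict φ hφ W) R r₁ r₂ sqR
    exact isCompact_preimage_of_isPullback q.toHom φ v₁ v₂ sqV W r₁ r₂ sqR
  rw [repWith_quasiCompact_iff_isQuasiCompactMor _ hrep]
  refine isQuasiCompactMor_of_etale_surjective_base (IsAlgSpace.yon_obj _) hX.diag (IsAlgSpace.yon_obj U)
    q.toHom φ ((yon S).map v₁) ((yon S).map v₂) sqV ?_ ?_ ?_
  · intro U' ψ hψ
    exact (RepWith @Etale).comp_mem _ _ hψ hφ
  · exact (repWith_surjective_iff _ hφ.rep).1 hφs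
  · exact isQuasiCompactMor_of_repWith_quasiCompact _ ((repWith_yon_map_iff _ _).2 hqc)

/-- An algebraic space is decent as soon as the base change of every field-valued point to every affine etale chart
is a quasi-compact scheme. -/
theorem isDecent_of_compact_affine_etale {X : Sp S} (hX : IsAlgSpace X)
    (H : ∀ (q : FieldPt X) (W : Over S) (ψ : (yon S).obj W ⟶ X), IsAffine W.left → RepWith @Etale ψ →
      ∀ (R : Over S) (r₁ : R ⟶ q.pt) (r₂ : R ⟶ W),
        IsPullback ((yon S).map r₁) ((yon S).map r₂) q.toHom ψ → CompactSpace ↥R.left) : IsDecent X := by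
  intro x
  obtain ⟨U, φ, hφ, hφs⟩ := hX.atlas
  obtain ⟨u, hu⟩ := ofPt_surjective_of_surjective φ hφs x
  obtain ⟨p, hp, hm, hq⟩ := exists_qc_mono_point_of_qc_point hX (FieldPt.ofPt φ u)
    (repWith_quasiCompact_of_compact_affine_etale hX _ (H _))
  exact ⟨p, hp.trans hu, hm, hq⟩

end Groth.Agent.Lib.Helper16
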