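import Groth.Agent.Lib.Helper16.AffRep

/-!
# Helper library (helper16): `RepWith Pr` can be checked on base changes to affine schemes
-/

set_option autoImplicit false
universe u
open CategoryTheory CategoryTheory.Limits AlgebraicGeometry Opposite

namespace Groth.Agent.Lib.Helper16

open AlgSp

variable {S : Scheme.{u}}

/-- A morphism of algebraic spaces whose base changes to affine schemes are schemes with `Pr` is representable with
`Pr`, for `Pr` Zariski local on the target. -/
theorem repWith_of_affine_local {Pr : MorphismProperty Scheme.{u}} [IsZariskiLocalAtTarget Pr] {X Y : Sp S}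
    (hX : IsAlgSpace X) (hY : IsAlgSpace Y) (f : X ⟶ Y)
    (hf : ∀ ⦃Z : Over S⦄, IsAffine Z.left → ∀ (g : (yon S).obj Z ⟶ Y),
      ∃ (W : Over S) (i : W ⟶ Z) (fst : (yon S).obj W ⟶ X), IsPullback fst ((yon S).map i) f g ∧ Pr i.left) :
    RepWith Pr f := by
  have : Pr.RespectsIso := inferInstance
  refine ⟨representable_of_affine_local hX hY f (fun Z hZ g => ?_), ?_⟩
  · obtain ⟨W, i, fst, sq, -⟩ := hf hZ g
    exact ⟨W, i, fst, sq⟩
  intro U V t fst g sq
  show Pr g.left
  apply IsZariskiLocalAtTarget.of_forall_exists_morphismRestrict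
  intro v
  obtain ⟨_, ⟨(O : U.left.Opens), hO, rfl⟩, hvO, -⟩ :=
    U.left.isBasis_affineOpens.exists_subset_of_mem_open (Set.mem_univ v) isOpen_univ
  refine ⟨O, hvO, ?_⟩
  have hOa' : IsAffine (overOpen U O).left := hO
  obtain ⟨W, i, fst', sqW, hPi⟩ := hf hOa' ((yon S).map (overOpenι U O) ≫ t)
  have sqR := isPullback_restrict sq O
  let e := sqW.isoIsPullback _ _ sqR
  have he : e.hom ≫ (yon S).map (overRestrict g O) = (yon S).map i := sqW.isoIsPullback_hom_snd _ _ sqR
  have hiso : IsIso ((yon S).preimage e.hom) := by
    have : IsIso ((yon S).map ((yon S).preimage e.hom)) := by rw [Functor.map_preimage]; infer_instance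
    exact isIso_of_fully_faithful (yon S) _
  have hiso' : IsIso ((yon S).preimage e.hom).left :=
    inferInstanceAs (IsIso ((Over.forget S).map ((yon S).preimage e.hom)))
  have h1 : (yon S).preimage e.hom ≫ overRestrict g O = i := by
    apply (yon S).map_injective
    rw [Functor.map_comp, Functor.map_preimage, he]
  have h2 : ((yon S).preimage e.hom).left ≫ (g.left ∣_ O) = i.left := by
    have := congrArg CommaMorphism.left h1
    exact this
  rw [← (Pr.cancel_left_of_respectsIso ((yon S).preimage e.hom).left (g.left ∣_ O)), h2]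
  exact hPi

end Groth.Agent.Lib.Helper16
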