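import Groth.Agent.Lib.Helper16.AffRep
import Groth.Agent.Lib.Helper16.FpqcCover
import Groth.Agent.Lib.Helper16.RepLocal
import Groth.Agent.S10194
import Groth.Agent.S0083

set_option autoImplicit false
universe u
open CategoryTheory CategoryTheory.Limits AlgebraicGeometry Opposite Topology

namespace Groth.Agent.Lib.Helper16.ImmDesc

open AlgSp Groth.Agent.Lib.Helper16

variable {S : Scheme.{u}}

/-- Pasting: cancel monomorphisms on one leg and on the base of a pullback square. -/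
theorem isPullback_of_mono_factor {C : Type*} [Category C] {P X Y Y' Z Z' : C} {fst : P ⟶ X} {snd' : P ⟶ Y'}
    {ιY : Y' ⟶ Y} {f' : X ⟶ Z'} {ιZ : Z' ⟶ Z} {g : Y ⟶ Z} {g' : Y' ⟶ Z'} [Mono ιY] [Mono ιZ]
    (hg : ιY ≫ g = g' ≫ ιZ) (sq : IsPullback fst (snd' ≫ ιY) (f' ≫ ιZ) g) : IsPullback fst snd' f' g' := by
  have w : fst ≫ f' = snd' ≫ g' := by
    rw [← cancel_mono ιZ, Category.assoc, Category.assoc, sq.w, Category.assoc, hg]
  refine ⟨⟨w⟩, ⟨PullbackCone.IsLimit.mk w
    (fun s => sq.lift s.fst (s.snd ≫ ιY) (by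
      rw [← Category.assoc, s.condition, Category.assoc, Category.assoc, hg]))
    (fun s => sq.lift_fst _ _ _) (fun s => ?_) ?_⟩⟩
  · rw [← cancel_mono ιY, Category.assoc, sq.lift_snd]
  · intro s m h1 h2
    exact sq.hom_ext (by rw [h1, sq.lift_fst]) (by rw [← Category.assoc, h2, sq.lift_snd])

/-- Local closedness descends along jointly surjective families of continuous open maps. -/
theorem isOpen_coborder_of_open_cover {Z : Type*} [TopologicalSpace Z] {κ : Type*} {W : κ → Type*}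
    [∀ j, TopologicalSpace (W j)] (c : ∀ j, W j → Z) (hc : ∀ j, Continuous (c j)) (hco : ∀ j, IsOpenMap (c j))
    (hcs : ∀ z, ∃ j, z ∈ Set.range (c j)) (A : Set Z) (hA : ∀ j, IsLocallyClosed (c j ⁻¹' A)) :
    IsOpen (coborder A) := by
  have h1 : ∀ j, IsOpen (c j ⁻¹' coborder A) := fun j => by
    rw [← coborder_preimage (hco j) (hc j)]
    exact (hA j).isOpen_coborder
  have h2 : coborder A = ⋃ j, c j '' (c j ⁻¹' coborder A) := by
    ext z
    constructor
    · intro hz
      obtain ⟨j, w, rfl⟩ := hcs z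
      exact Set.mem_iUnion.2 ⟨j, w, hz, rfl⟩
    · intro hz
      obtain ⟨j, w, hw, rfl⟩ := Set.mem_iUnion.1 hz
      exact hw
  rw [h2]
  exact isOpen_iUnion fun j => hco j _ (h1 j)

/-- The image of the points of `T` in the scheme `Z`. -/
def imageSet {T : Sp S} {Z : Over S} (π : T ⟶ (yon S).obj Z) : Set ↥Z.left :=
  {z | ∃ x : Points T, Points.map π x = Points.ofScheme Z z}

theorem preimage_imageSet {T : Sp S} {Z W V : Over S} (π : T ⟶ (yon S).obj Z) (c : W ⟶ Z) (i : V ⟶ W)
    (fst : (yon S).obj V ⟶ T) (sq : IsPullback fst ((yon S).map i) π ((yon S).map c)) :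
    c.left ⁻¹' imageSet π = Set.range i.left := by
  ext w
  constructor
  · rintro ⟨x, hx⟩
    obtain ⟨v, -, hv⟩ := exists_point_of_isPullback_yon sq x w (by
      rw [hx, Points.ofPt_eq_map_ofScheme, map_yon_map_ofScheme])
    exact ⟨v, hv⟩
  · rintro ⟨v, rfl⟩
    refine ⟨Points.ofPt fst v, ?_⟩
    rw [Points.map_ofPt, sq.w, ← Functor.map_comp, Points.ofPt_eq_map_ofScheme, map_yon_map_ofScheme]
    rfl

end Groth.Agent.Lib.Helper16.ImmDesc
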