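import Groth.Agent.Lib.Helper16.SchDense
import Groth.Agent.Lib.Helper16.ImmDesc1

/-!
# Helper library (helper16): quasi-compact immersions and their scheme theoretic image
-/

set_option autoImplicit false
universe u
open CategoryTheory CategoryTheory.Limits AlgebraicGeometry Opposite Topology TopologicalSpace

namespace Groth.Agent.Lib.Helper16.SchImg

open AlgSp SchImgKer

variable {S : Scheme.{u}}

/-- The chart of the scheme theoretic image of a representable quasi-compact morphism: it is the scheme theoretic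
image of the base change to the atlas, and the morphism to the image is computed by `toImage`. -/
theorem exists_chart_of_isSchImage_of_representable {X Y Z : Sp S} (hX : IsAlgSpace X) (hY : IsAlgSpace Y)
    (hZ : IsAlgSpace Z) (f : X ⟶ Y) (hfr : Representable f) (hf : IsQuasiCompactMor f) (i : Z ⟶ Y)
    (hZi : IsSchImage f i) (f' : X ⟶ Z) (hf' : f' ≫ i = f) :
    ∃ (A XA : Over S) (p : (yon S).obj A ⟶ Y) (fA : XA ⟶ A) (fst : (yon S).obj XA ⟶ X)
      (q : (yon S).obj (Over.mk (fA.left.ker.subschemeι ≫ A.hom)) ⟶ Z)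
      (τ : XA ⟶ Over.mk (fA.left.ker.subschemeι ≫ A.hom)),
      RepWith @Etale p ∧ RepWith @Surjective p ∧ IsPullback fst ((yon S).map fA) f p ∧ QuasiCompact fA.left ∧
      IsPullback q ((yon S).map (Over.homMk fA.left.ker.subschemeι rfl :
        Over.mk (fA.left.ker.subschemeι ≫ A.hom) ⟶ A)) i p ∧
      τ.left = fA.left.toImage ∧ IsPullback fst ((yon S).map τ) f' q := by
  obtain ⟨A, B, p, g₀, ε, hpe, hps, hεe, hεs, hε, hqc⟩ := exists_qc_chart hX hY f hf
  obtain ⟨q₀, sqA₀⟩ := exists_isPullback_of_isSchImage hY hZ f i hZi p hpe hps g₀ ε hεe hεs hε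
  obtain ⟨XA, fA, fst, sqX⟩ := hfr p
  have hfAqc : QuasiCompact fA.left :=
    (repWith_quasiCompact_of_isQuasiCompactMor f hfr hf).property _ _ _ sqX
  -- the two charts of the pullback have the same kernel
  have hiso : IsIso (pullback.lift fst ((yon S).map fA) sqX.w) :=
    inferInstanceAs (IsIso sqX.isoPullback.hom)
  have hε₂e : RepWith @Etale (pullback.lift fst ((yon S).map fA) sqX.w) :=
    Groth.Agent.Lib.Helper17.repWith_of_isIso _ _
  have hε₂s : RepWith @Surjective (pullback.lift fst ((yon S).map fA) sqX.w) :=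
    Groth.Agent.Lib.Helper17.repWith_of_isIso _ _
  have hε₂ : pullback.lift fst ((yon S).map fA) sqX.w ≫ pullback.snd f p = (yon S).map fA :=
    pullback.lift_snd _ _ _
  have hker : g₀.left.ker = fA.left.ker :=
    le_antisymm
      (ker_le_of_etale_surjective (pullback.snd f p) ε hεe hεs g₀ hε
        (pullback.lift fst ((yon S).map fA) sqX.w) fA hε₂)
      (ker_le_of_etale_surjective (pullback.snd f p) (pullback.lift fst ((yon S).map fA) sqX.w) hε₂e hε₂s fA
        hε₂ ε g₀ hε)
  have key : ∀ (J : A.left.IdealSheafData), g₀.left.ker = J →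
      ∃ q : (yon S).obj (Over.mk (J.subschemeι ≫ A.hom)) ⟶ Z,
        IsPullback q ((yon S).map (Over.homMk J.subschemeι rfl : Over.mk (J.subschemeι ≫ A.hom) ⟶ A)) i p := by
    rintro _ rfl
    exact ⟨q₀, sqA₀⟩
  obtain ⟨q, sqA⟩ := key _ hker
  let τ : XA ⟶ Over.mk (fA.left.ker.subschemeι ≫ A.hom) := Over.homMk fA.left.toImage (by
    show fA.left.toImage ≫ fA.left.imageι ≫ A.hom = XA.hom
    rw [← Category.assoc, Scheme.Hom.toImage_imageι, Over.w fA])
  have hτ : τ ≫ (Over.homMk fA.left.ker.subschemeι rfl : Over.mk (fA.left.ker.subschemeι ≫ A.hom) ⟶ A) = fA := by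
    ext1
    exact Scheme.Hom.toImage_imageι _
  have hmono1 : Mono ((yon S).map (Over.homMk fA.left.ker.subschemeι rfl :
      Over.mk (fA.left.ker.subschemeι ≫ A.hom) ⟶ A)) :=
    mono_of_repWith_isClosedImmersion _ ((repWith_yon_map_iff @IsClosedImmersion _).2
      (inferInstanceAs (IsClosedImmersion fA.left.ker.subschemeι)))
  have hmono2 : Mono i := mono_of_repWith_isClosedImmersion i hZi.1
  refine ⟨A, XA, p, fA, fst, q, τ, hpe, hps, sqX, hfAqc, sqA, rfl, ?_⟩
  refine ImmDesc.isPullback_of_mono_factor (ιY := (yon S).map (Over.homMk fA.left.ker.subschemeι rfl :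
      Over.mk (fA.left.ker.subschemeι ≫ A.hom) ⟶ A)) (ιZ := i) (g := p) sqA.w.symm ?_
  rw [← Functor.map_comp, hτ, hf']
  exact sqX

/-- **A quasi-compact immersion is an open immersion into its scheme theoretic image.** -/
theorem repWith_isOpenImmersion_of_isSchImage {X Y Z : Sp S} (hX : IsAlgSpace X) (hY : IsAlgSpace Y)
    (hZ : IsAlgSpace Z) (f : X ⟶ Y) (hfi : RepWith @IsImmersion f) (hf : IsQuasiCompactMor f) (i : Z ⟶ Y)
    (hZi : IsSchImage f i) (f' : X ⟶ Z) (hf' : f' ≫ i = f) : RepWith @IsOpenImmersion f' := by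
  obtain ⟨A, XA, p, fA, fst, q, τ, hpe, hps, sqX, hqc, sqA, hτ, sqτ⟩ :=
    exists_chart_of_isSchImage_of_representable hX hY hZ f hfi.rep hf i hZi f' hf'
  have hfAi : IsImmersion fA.left := hfi.property _ _ _ sqX
  have hτo : IsOpenImmersion τ.left := by
    rw [hτ]
    infer_instance
  have hqe : RepWith @Etale q := (RepWith @Etale).of_isPullback sqA.flip hpe
  have hqs : RepWith @Surjective q := (RepWith @Surjective).of_isPullback sqA.flip hps
  exact Groth.Agent.S9932.result @IsOpenImmersion (Or.inr (Or.inl rfl)) (X := ⟨X, hX⟩) (Y := ⟨Z, hZ⟩)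
    (ObjectProperty.homMk f') _ q hqe hqs fst _ sqτ ((repWith_yon_map_iff @IsOpenImmersion _).2 hτo)

end Groth.Agent.Lib.Helper16.SchImg
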