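import Groth.Agent.Lib.Helper16.SchImgRed
import Groth.Agent.Lib.Helper16.SchImgImm
import Groth.Agent.Lib.Helper15.GeomFibre

/-!
# Helper library (helper16): scheme theoretic images of morphisms with reduced source (or quasi-compact)

The chart results of `SchImgQc2`, with quasi-compactness of the chart replaced by the hypothesis `KerSmoothBC`:
the kernel of the chart commutes with smooth base change (true for quasi-compact charts and for charts with
reduced source).
-/

set_option autoImplicit false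
universe u
open CategoryTheory CategoryTheory.Limits AlgebraicGeometry Opposite Topology TopologicalSpace

namespace Groth.Agent.Lib.Helper16.SchImg

open AlgSp SchImgKer

variable {S : Scheme.{u}}

/-- A scheme etale over a reduced sheaf is reduced. -/
theorem isReduced_of_etale_of_isReducedSp {X : Sp S} (hX : IsReducedSp X) {T : Over S}
    (a : (yon S).obj T ⟶ X) (ha : RepWith @Etale a) : IsReduced T.left := by
  obtain ⟨V, b, hbe, hbs, hV⟩ := hX
  obtain ⟨W, w, fst, sq⟩ := hbe.rep a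
  obtain ⟨v, rfl⟩ := (yon S).map_surjective fst
  haveI : IsReduced V.left := hV
  haveI : Etale v.left := ha.property _ _ _ sq.flip
  haveI : Etale w.left := hbe.property _ _ _ sq
  haveI : Surjective w.left := hbs.property _ _ _ sq
  haveI : IsReduced W.left := Groth.Agent.Lib.Helper22.SmoothRed.isReduced_of_smooth v.left
  exact Groth.Agent.Lib.Helper15.isReduced_of_flat_of_surjective w.left

/-- **Comparison of kernels of charts** (smooth base change version). -/
theorem comap_ker_eq_ker_snd_of_charts' {X Y : Sp S} (f : X ⟶ Y) {V U V₁ U₁ V₂ : Over S}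
    (y : (yon S).obj V ⟶ Y) (g : U ⟶ V) (ε : (yon S).obj U ⟶ pullback f y) (hεe : RepWith @Etale ε)
    (hεs : RepWith @Surjective ε) (hε : ε ≫ pullback.snd f y = (yon S).map g) (hg : KerSmoothBC g.left)
    (y₁ : (yon S).obj V₁ ⟶ Y) (g₁ : U₁ ⟶ V₁) (ε₁ : (yon S).obj U₁ ⟶ pullback f y₁)
    (hε₁e : RepWith @Etale ε₁) (hε₁s : RepWith @Surjective ε₁)
    (hε₁ : ε₁ ≫ pullback.snd f y₁ = (yon S).map g₁) (π₀ : V₂ ⟶ V) (π₁ : V₂ ⟶ V₁)
    (hπ : (yon S).map π₀ ≫ y = (yon S).map π₁ ≫ y₁) [Smooth π₀.left] :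
    g.left.ker.comap π₀.left = (pullback.snd g₁.left π₁.left).ker := by
  rw [← hg π₀.left inferInstance, ← ovPullbackSnd_left g π₀, ← ovPullbackSnd_left g₁ π₁]
  obtain ⟨ε', hε'e, hε's, hε', -⟩ := exists_chart_baseChange f y g ε hεe hεs hε π₀
  have key : ∀ (y₂ : (yon S).obj V₂ ⟶ Y), y₂ = (yon S).map π₁ ≫ y₁ →
      ∃ ε₁' : (yon S).obj (ovPullback g₁ π₁) ⟶ pullback f y₂, RepWith @Etale ε₁' ∧
        RepWith @Surjective ε₁' ∧ ε₁' ≫ pullback.snd f y₂ = (yon S).map (ovPullbackSnd g₁ π₁) := by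
    rintro _ rfl
    obtain ⟨ε₁', h1, h2, h3, -⟩ := exists_chart_baseChange f y₁ g₁ ε₁ hε₁e hε₁s hε₁ π₁
    exact ⟨ε₁', h1, h2, h3⟩
  obtain ⟨ε₁', hε₁'e, hε₁'s, hε₁'⟩ := key _ hπ
  apply le_antisymm
  · exact ker_le_of_etale_surjective (pullback.snd f ((yon S).map π₀ ≫ y)) ε' hε'e hε's (ovPullbackSnd g π₀) hε' ε₁' (ovPullbackSnd g₁ π₁) hε₁'
  · exact ker_le_of_etale_surjective (pullback.snd f ((yon S).map π₀ ≫ y)) ε₁' hε₁'e hε₁'s (ovPullbackSnd g₁ π₁) hε₁' ε' (ovPullbackSnd g π₀) hε'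

/-- The kernel of a chart satisfying `KerSmoothBC` is invariant under the equivalence relation of the atlas. -/
theorem comap_ker_eq_of_chart' {X Y : Sp S} (f : X ⟶ Y) {V U R : Over S}
    (y : (yon S).obj V ⟶ Y) (g : U ⟶ V) (ε : (yon S).obj U ⟶ pullback f y) (hεe : RepWith @Etale ε)
    (hεs : RepWith @Surjective ε) (hε : ε ≫ pullback.snd f y = (yon S).map g) (hg : KerSmoothBC g.left)
    (s t : R ⟶ V) (hst : (yon S).map t ≫ y = (yon S).map s ≫ y) [Smooth s.left] [Smooth t.left] :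
    g.left.ker.comap s.left = g.left.ker.comap t.left := by
  rw [comap_ker_eq_ker_snd_of_charts' f y g ε hεe hεs hε hg y g ε hεe hεs hε t s hst,
    hg s.left inferInstance]

/-- **The scheme theoretic image in a chart satisfying `KerSmoothBC`**: it is cut out by the kernel of the chart. -/
theorem exists_isPullback_of_isSchImage' {X Y Z : Sp S} (hY : IsAlgSpace Y) (hZ : IsAlgSpace Z) (f : X ⟶ Y)
    (i : Z ⟶ Y) (hi : IsSchImage f i) {V U : Over S} (p : (yon S).obj V ⟶ Y) (hpe : RepWith @Etale p)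
    (hps : RepWith @Surjective p) (g : U ⟶ V) (ε : (yon S).obj U ⟶ pullback f p) (hεe : RepWith @Etale ε)
    (hεs : RepWith @Surjective ε) (hε : ε ≫ pullback.snd f p = (yon S).map g) (hg : KerSmoothBC g.left) :
    ∃ q : (yon S).obj (Over.mk (g.left.ker.subschemeι ≫ V.hom)) ⟶ Z,
      IsPullback q ((yon S).map (Over.homMk g.left.ker.subschemeι rfl :
        Over.mk (g.left.ker.subschemeι ≫ V.hom) ⟶ V)) i p := by
  have hrep := hY.representable_from_yon p
  obtain ⟨R, s, fstR, sqR⟩ := hrep p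
  obtain ⟨t, rfl⟩ := (yon S).map_surjective fstR
  haveI hse : Etale s.left := hpe.property _ _ _ sqR
  haveI hte : Etale t.left := hpe.property _ _ _ sqR.flip
  have hfe : RepWith @Etale (pullback.fst f p) :=
    (RepWith @Etale).of_isPullback (IsPullback.of_hasPullback f p).flip hpe
  have hfs : RepWith @Surjective (pullback.fst f p) :=
    (RepWith @Surjective).of_isPullback (IsPullback.of_hasPullback f p).flip hps
  have : Epi ε := epi_of_etale_surjective _ hεe hεs
  have : Epi (pullback.fst f p) := epi_of_etale_surjective _ hfe hfs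
  have : Epi (ε ≫ pullback.fst f p) := epi_comp _ _
  have hw : (ε ≫ pullback.fst f p) ≫ f = (yon S).map g ≫ p := by
    rw [Category.assoc, pullback.condition, ← Category.assoc, hε]
  obtain ⟨Z₀, i₀, q₀, hZ₀, hsch₀, sq₀⟩ := exists_isSchImage_of_chart hY f p hpe hps s t sqR
    (ε ≫ pullback.fst f p) g hw (comap_ker_eq_of_chart' f p g ε hεe hεs hε hg s t sqR.w).le
  obtain ⟨k, hk⟩ := hi.2.2 i₀ hZ₀ hsch₀.1 hsch₀.2.1
  obtain ⟨k', hk'⟩ := hsch₀.2.2 i hZ hi.1 hi.2.1
  have : Mono i := mono_of_repWith_isClosedImmersion i hi.1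
  have : Mono i₀ := mono_of_repWith_isClosedImmersion i₀ hsch₀.1
  have h1 : k ≫ k' = 𝟙 Z := by
    rw [← cancel_mono i, Category.assoc, hk', hk, Category.id_comp]
  have h2 : k' ≫ k = 𝟙 Z₀ := by
    rw [← cancel_mono i₀, Category.assoc, hk, hk', Category.id_comp]
  refine ⟨q₀ ≫ k', ?_⟩
  exact IsPullback.of_iso sq₀ (Iso.refl _) ⟨k', k, h2, h1⟩ (Iso.refl _) (Iso.refl _) (by simp) (by simp)
    (by simpa using hk'.symm) (by simp)

/-- The chart of the scheme theoretic image of a representable morphism that is quasi-compact or has reduced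
source. -/
theorem exists_chart_of_isSchImage_of_representable' {X Y Z : Sp S} (hX : IsAlgSpace X) (hY : IsAlgSpace Y)
    (hZ : IsAlgSpace Z) (f : X ⟶ Y) (hfr : Representable f) (hf : IsQuasiCompactMor f ∨ IsReducedSp X)
    (i : Z ⟶ Y) (hZi : IsSchImage f i) (f' : X ⟶ Z) (hf' : f' ≫ i = f) :
    ∃ (A XA : Over S) (p : (yon S).obj A ⟶ Y) (fA : XA ⟶ A) (fst : (yon S).obj XA ⟶ X)
      (q : (yon S).obj (Over.mk (fA.left.ker.subschemeι ≫ A.hom)) ⟶ Z)
      (τ : XA ⟶ Over.mk (fA.left.ker.subschemeι ≫ A.hom)),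
      RepWith @Etale p ∧ RepWith @Surjective p ∧ IsPullback fst ((yon S).map fA) f p ∧
      (QuasiCompact fA.left ∨ IsReduced XA.left) ∧
      IsPullback q ((yon S).map (Over.homMk fA.left.ker.subschemeι rfl :
        Over.mk (fA.left.ker.subschemeι ≫ A.hom) ⟶ A)) i p ∧
      τ.left = fA.left.toImage ∧ IsPullback fst ((yon S).map τ) f' q := by
  obtain ⟨A, p, hpe, hps⟩ := hY.atlas
  obtain ⟨XA, fA, fst, sqX⟩ := hfr p
  have hfste : RepWith @Etale fst := (RepWith @Etale).of_isPullback sqX.flip hpe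
  have hcase : QuasiCompact fA.left ∨ IsReduced XA.left := by
    rcases hf with hf | hf
    · exact Or.inl ((repWith_quasiCompact_of_isQuasiCompactMor f hfr hf).property _ _ _ sqX)
    · exact Or.inr (isReduced_of_etale_of_isReducedSp hf fst hfste)
  have hg : KerSmoothBC fA.left := by
    rcases hcase with h | h
    · exact kerSmoothBC_of_quasiCompact _
    · exact kerSmoothBC_of_isReduced _
  have hiso : IsIso (pullback.lift fst ((yon S).map fA) sqX.w) :=
    inferInstanceAs (IsIso sqX.isoPullback.hom)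
  have hε₂e : RepWith @Etale (pullback.lift fst ((yon S).map fA) sqX.w) :=
    Groth.Agent.Lib.Helper17.repWith_of_isIso _ _
  have hε₂s : RepWith @Surjective (pullback.lift fst ((yon S).map fA) sqX.w) :=
    Groth.Agent.Lib.Helper17.repWith_of_isIso _ _
  have hε₂ : pullback.lift fst ((yon S).map fA) sqX.w ≫ pullback.snd f p = (yon S).map fA :=
    pullback.lift_snd _ _ _
  obtain ⟨q, sqA⟩ := exists_isPullback_of_isSchImage' hY hZ f i hZi p hpe hps fA _ hε₂e hε₂s hε₂ hg
  let τ : XA ⟶ Over.mk (fA.left.ker.subschemeι ≫ A.hom) := Over.homMk fA.left.toImage (by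
    show fA.left.toImage ≫ fA.left.imageι ≫ A.hom = XA.hom
    rw [← Category.assoc, Scheme.Hom.toImage_imageι, Over.w fA])
  have hτ : τ ≫ (Over.homMk fA.left.ker.subschemeι rfl : Over.mk (fA.left.ker.subschemeι ≫ A.hom) ⟶ A) = fA := by
    ext1
    exact Scheme.Hom.toImage_imageι _
  have hmono1 : Mono ((yon S).map (Over.homMk fA.left.ker.subschemeι rfl :
      Over.mk (fA.left.ker.subschemeι ≫ A.hom) ⟶ A)) :=
    mono_of_repWith_isClosedImmersion _ ((repWith_yon_map_iff @IsClosedImmersion _).2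
      (inferInstanceAs (IsClosedImmersion fA.left.ker.subschemeι)))
  have hmono2 : Mono i := mono_of_repWith_isClosedImmersion i hZi.1
  refine ⟨A, XA, p, fA, fst, q, τ, hpe, hps, sqX, hcase, sqA, rfl, ?_⟩
  refine ImmDesc.isPullback_of_mono_factor (ιY := (yon S).map (Over.homMk fA.left.ker.subschemeι rfl :
      Over.mk (fA.left.ker.subschemeι ≫ A.hom) ⟶ A)) (ιZ := i) (g := p) sqA.w.symm ?_
  rw [← Functor.map_comp, hτ, hf']
  exact sqX

end Groth.Agent.Lib.Helper16.SchImg
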