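import Mathlib
import Groth.Prelude

/-!
# Helper16: adequate functors commute with filtered colimits
-/

set_option autoImplicit false
universe u v w
open CategoryTheory CategoryTheory.Limits Opposite TensorProduct

namespace Groth.Agent.Lib.Helper16.AdeqFiltered

noncomputable section

variable {A : Type u} [CommRing A]

/-! ### the forgetful functor of commutative algebras preserves filtered colimits -/

/-- the forgetful functor factors through commutative rings under `A` -/
def forgetIso : (commAlgCatEquivUnder (CommRingCat.of A)).functor ⋙ Under.forget _ ⋙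
    forget CommRingCat.{u} ≅ forget (CommAlgCat.{u} A) :=
  NatIso.ofComponents (fun _ => Iso.refl _) (by intros; rfl)

instance preservesForget {J : Type u} [SmallCategory J] [IsFiltered J] :
    PreservesColimitsOfShape J (forget (CommAlgCat.{u} A)) := by
  have : IsConnected J := IsFiltered.isConnected J
  have : PreservesColimitsOfShape J (forget CommRingCat.{u}) :=
    PreservesFilteredColimitsOfSize.preserves_filtered_colimits J
  exact preservesColimitsOfShape_of_natIso forgetIso

section LemmaA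

variable {J : Type u} [SmallCategory J] [IsFiltered J] (D : J ⥤ CommAlgCat.{u} A) (c : Cocone D)
  (hc : IsColimit c)

include hc in
lemma exists_rep (b : c.pt) : ∃ (j : J) (x : D.obj j), (c.ι.app j).hom x = b := by
  obtain ⟨j, x, hx⟩ := Concrete.isColimit_exists_rep D hc b
  exact ⟨j, x, hx⟩

include hc in
lemma rep_eq {i j : J} (x : D.obj i) (y : D.obj j)
    (h : (c.ι.app i).hom x = (c.ι.app j).hom y) :
    ∃ (k : J) (f : i ⟶ k) (g : j ⟶ k), (D.map f).hom x = (D.map g).hom y :=
  Concrete.isColimit_exists_of_rep_eq D hc x y h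

omit [IsFiltered J] in
lemma ι_map {j k : J} (f : j ⟶ k) (x : D.obj j) :
    (c.ι.app k).hom ((D.map f).hom x) = (c.ι.app j).hom x :=
  congrArg (fun φ : D.obj j ⟶ c.pt => φ.hom x) (c.w f)

variable {M : Type v} [AddCommGroup M] [Module A M] {G : Type w} [AddCommGroup G]
  (s : ∀ j, (D.obj j ⊗[A] M) →+ G)
  (hs : ∀ (j k : J) (f : j ⟶ k) (z : D.obj j ⊗[A] M),
    s k ((D.map f).hom.toLinearMap.rTensor M z) = s j z)

/-- the value of the bilinear map on a chosen representative -/
def β₀ (b : c.pt) : M →+ G :=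
  (s (exists_rep D c hc b).choose).comp
    (TensorProduct.mk A (D.obj (exists_rep D c hc b).choose) M
      (exists_rep D c hc b).choose_spec.choose).toAddMonoidHom

lemma β₀_def (b : c.pt) (m : M) :
    β₀ D c hc s b m = s (exists_rep D c hc b).choose
      ((exists_rep D c hc b).choose_spec.choose ⊗ₜ[A] m) := rfl

include hs in
lemma β₀_eq (b : c.pt) (j : J) (x : D.obj j) (hx : (c.ι.app j).hom x = b) (m : M) :
    β₀ D c hc s b m = s j (x ⊗ₜ[A] m) := by
  obtain ⟨k, f, g, hfg⟩ := rep_eq D c hc (exists_rep D c hc b).choose_spec.choose x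
    ((exists_rep D c hc b).choose_spec.choose_spec.trans hx.symm)
  have e1 : s (exists_rep D c hc b).choose ((exists_rep D c hc b).choose_spec.choose ⊗ₜ[A] m) =
      s k ((D.map f).hom (exists_rep D c hc b).choose_spec.choose ⊗ₜ[A] m) :=
    (hs _ _ f _).symm
  have e2 : s j (x ⊗ₜ[A] m) = s k ((D.map g).hom x ⊗ₜ[A] m) := (hs _ _ g _).symm
  exact (β₀_def D c hc s b m).trans
    (e1.trans ((congrArg (fun t => s k (t ⊗ₜ[A] m)) hfg).trans e2.symm))

include hs in
lemma β₀_add (b b' : c.pt) (m : M) :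
    β₀ D c hc s (b + b') m = β₀ D c hc s b m + β₀ D c hc s b' m := by
  obtain ⟨j, x, hx⟩ := exists_rep D c hc b
  obtain ⟨j', x', hx'⟩ := exists_rep D c hc b'
  have h1 : (c.ι.app (IsFiltered.max j j')).hom
      ((D.map (IsFiltered.leftToMax j j')).hom x) = b :=
    (ι_map D c (IsFiltered.leftToMax j j') x).trans hx
  have h2 : (c.ι.app (IsFiltered.max j j')).hom
      ((D.map (IsFiltered.rightToMax j j')).hom x') = b' :=
    (ι_map D c (IsFiltered.rightToMax j j') x').trans hx'
  have h3 : (c.ι.app (IsFiltered.max j j')).hom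
      ((D.map (IsFiltered.leftToMax j j')).hom x +
        (D.map (IsFiltered.rightToMax j j')).hom x') = b + b' := by
    rw [map_add, h1, h2]
  rw [β₀_eq D c hc s hs (b + b') _ _ h3 m, β₀_eq D c hc s hs b _ _ h1 m,
    β₀_eq D c hc s hs b' _ _ h2 m, TensorProduct.add_tmul, map_add]

include hs in
lemma β₀_smul (a : A) (b : c.pt) (m : M) :
    β₀ D c hc s (a • b) m = β₀ D c hc s b (a • m) := by
  obtain ⟨j, x, hx⟩ := exists_rep D c hc b
  have h1 : (c.ι.app j).hom (a • x) = a • b := by rw [map_smul, hx]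
  rw [β₀_eq D c hc s hs (a • b) j _ h1 m, β₀_eq D c hc s hs b j x hx (a • m),
    TensorProduct.smul_tmul]

/-- the induced map out of the tensor product with the colimit -/
def σ : c.pt ⊗[A] M →+ G :=
  TensorProduct.liftAddHom
    (AddMonoidHom.mk' (fun b => β₀ D c hc s b)
      (fun b b' => AddMonoidHom.ext (fun m => β₀_add D c hc s hs b b' m)))
    (fun a b m => β₀_smul D c hc s hs a b m)

lemma σ_tmul (b : c.pt) (m : M) : σ D c hc s hs (b ⊗ₜ[A] m) = β₀ D c hc s b m := rfl

lemma σ_fac (j : J) (z : D.obj j ⊗[A] M) :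
    σ D c hc s hs ((c.ι.app j).hom.toLinearMap.rTensor M z) = s j z := by
  induction z using TensorProduct.induction_on with
  | zero => simp only [map_zero]
  | tmul x m =>
    rw [LinearMap.rTensor_tmul, σ_tmul]
    exact β₀_eq D c hc s hs _ j x rfl m
  | add z w hz hw => simp only [map_add, hz, hw]

lemma σ_uniq (σ' : c.pt ⊗[A] M →+ G)
    (h : ∀ (j : J) (z : D.obj j ⊗[A] M),
      σ' ((c.ι.app j).hom.toLinearMap.rTensor M z) = s j z) :
    σ' = σ D c hc s hs := by
  refine AddMonoidHom.ext (fun t => ?_)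
  induction t using TensorProduct.induction_on with
  | zero => simp only [map_zero]
  | tmul b m =>
    obtain ⟨j, x, rfl⟩ := exists_rep D c hc b
    exact (h j (x ⊗ₜ[A] m)).trans (σ_fac D c hc s hs j (x ⊗ₜ[A] m)).symm
  | add z w hz hw => simp only [map_add, hz, hw]

end LemmaA

section Underline

variable {J : Type u} [SmallCategory J] [IsFiltered J] (D : J ⥤ Adeq.Alg A) (c : Cocone D)
  (hc : IsColimit c) (M : ModuleCat.{u + 1} A)

lemma underline_map_apply {B B' : Adeq.Alg A} (f : B ⟶ B') (z : B ⊗[A] M) :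
    ((Adeq.underlineObj A M).toAb.map f).hom z = (f.hom.toLinearMap.rTensor M) z := rfl

/-- the legs of a cocone as additive maps out of the tensor products -/
def sFam (s : Cocone (D ⋙ (Adeq.underlineObj A M).toAb)) (j : J) : (D.obj j ⊗[A] M) →+ s.pt :=
  (s.ι.app j).hom

omit [IsFiltered J] in
lemma sFam_compat (s : Cocone (D ⋙ (Adeq.underlineObj A M).toAb)) (j k : J) (f : j ⟶ k)
    (z : D.obj j ⊗[A] M) :
    sFam D M s k ((D.map f).hom.toLinearMap.rTensor M z) = sFam D M s j z :=
  ConcreteCategory.congr_hom (s.w f) z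

/-- `B ↦ B ⊗ M` commutes with filtered colimits of algebras -/
def isColimitUnderline : IsColimit ((Adeq.underlineObj A M).toAb.mapCocone c) where
  desc s := AddCommGrpCat.ofHom (σ D c hc (sFam D M s) (sFam_compat D M s))
  fac s j := by
    ext z
    exact σ_fac D c hc (sFam D M s) (sFam_compat D M s) j z
  uniq s m hm := by
    apply AddCommGrpCat.hom_ext
    exact σ_uniq D c hc (sFam D M s) (sFam_compat D M s) m.hom
      (fun j z => ConcreteCategory.congr_hom (hm j) z)

end Underline

section Main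

/-- evaluation of a module-valued functor at an algebra, as abelian group -/
abbrev Ev (B : Adeq.Alg A) : Adeq.MVF A ⥤ Ab.{u + 1} :=
  PresheafOfModules.toPresheaf (Adeq.ringOf A) ⋙ (CategoryTheory.evaluation _ _).obj (Adeq.pt B)

/-- the natural transformation of abelian-group-valued functors attached to a morphism -/
abbrev toAbMap {F G : Adeq.MVF A} (α : F ⟶ G) : F.toAb ⟶ G.toAb :=
  Functor.whiskerLeft (opOp (Adeq.Alg A)) ((PresheafOfModules.toPresheaf (Adeq.ringOf A)).map α)

lemma pointwise {F K₁ K₂ : Adeq.MVF A} (ι : F ⟶ K₁) (ψ : K₁ ⟶ K₂) (w : ι ≫ ψ = 0)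
    (hlim : IsLimit (KernelFork.ofι ι w)) (B : Adeq.Alg A) :
    Function.Injective ((toAbMap ι).app B) ∧
      Function.Exact ((toAbMap ι).app B) ((toAbMap ψ).app B) := by
  let S : ShortComplex (Adeq.MVF A) := ShortComplex.mk ι ψ w
  have hS : S.Exact := S.exact_of_f_is_kernel hlim
  have hm : Mono S.f := mono_of_isLimit_fork hlim
  have hE : (S.map (Ev B)).Exact := hS.map_of_mono_of_preservesKernel (Ev B) hm inferInstance
  have hm' : Mono ((Ev B).map S.f) := inferInstance
  exact ⟨(AddCommGrpCat.mono_iff_injective _).1 hm',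
    (ShortComplex.ab_exact_iff_function_exact _).1 hE⟩

theorem main_aux (F : Adeq.MVF A) (M N : ModuleCat.{u + 1} A)
    (ι : F ⟶ Adeq.underlineObj A M) (ψ : Adeq.underlineObj A M ⟶ Adeq.underlineObj A N)
    (w : ι ≫ ψ = 0) (hlim : IsLimit (KernelFork.ofι ι w))
    {J : Type u} [SmallCategory J] [IsFiltered J] (D : J ⥤ Adeq.Alg A)
    (c : Cocone D) (hc : IsColimit c) : Nonempty (IsColimit (F.toAb.mapCocone c)) := by
  have hpt := pointwise ι ψ w hlim
  have hTM := isColimitUnderline D c hc M
  have hTN := isColimitUnderline D c hc N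
  have : PreservesFilteredColimitsOfSize.{u, u} (forget AddCommGrpCat.{u + 1}) :=
    preservesFilteredColimitsOfSize_shrink.{u, u + 1, u, u + 1} _
  have : PreservesColimitsOfShape J (forget AddCommGrpCat.{u + 1}) :=
    PreservesFilteredColimitsOfSize.preserves_filtered_colimits J
  have : ReflectsColimit (D ⋙ F.toAb) (forget AddCommGrpCat.{u + 1}) :=
    reflectsColimit_of_reflectsIsomorphisms _ _
  -- surjectivity
  have hS : ∀ y : F.toAb.obj c.pt, ∃ (k : J) (yk : F.toAb.obj (D.obj k)),
      F.toAb.map (c.ι.app k) yk = y := by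
    intro y
    obtain ⟨i, xi, hxi⟩ := Concrete.isColimit_exists_rep (D ⋙ (Adeq.underlineObj A M).toAb) hTM
      ((toAbMap ι).app c.pt y)
    have n1 : (Adeq.underlineObj A N).toAb.map (c.ι.app i) ((toAbMap ψ).app (D.obj i) xi) =
        (toAbMap ψ).app c.pt ((Adeq.underlineObj A M).toAb.map (c.ι.app i) xi) :=
      (NatTrans.naturality_apply (toAbMap ψ) (c.ι.app i) xi).symm
    have n2 : (toAbMap ψ).app c.pt ((toAbMap ι).app c.pt y) = 0 :=
      ((hpt c.pt).2 _).2 ⟨y, rfl⟩
    have n3 : (Adeq.underlineObj A N).toAb.map (c.ι.app i)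
        (0 : (Adeq.underlineObj A N).toAb.obj (D.obj i)) = 0 :=
      ((Adeq.underlineObj A N).toAb.map (c.ι.app i)).hom.map_zero
    have hz : ((Adeq.underlineObj A N).toAb.mapCocone c).ι.app i
          ((toAbMap ψ).app (D.obj i) xi) =
        ((Adeq.underlineObj A N).toAb.mapCocone c).ι.app i
          (0 : (Adeq.underlineObj A N).toAb.obj (D.obj i)) :=
      n1.trans ((congrArg (fun t => (toAbMap ψ).app c.pt t) hxi).trans (n2.trans n3.symm))
    obtain ⟨k, f, g, hfg⟩ := Concrete.isColimit_exists_of_rep_eq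
      (D ⋙ (Adeq.underlineObj A N).toAb) hTN _ _ hz
    have hk : (toAbMap ψ).app (D.obj k) ((Adeq.underlineObj A M).toAb.map (D.map f) xi) = 0 :=
      (NatTrans.naturality_apply (toAbMap ψ) (D.map f) xi).trans
        (hfg.trans ((Adeq.underlineObj A N).toAb.map (D.map g)).hom.map_zero)
    obtain ⟨yk, hyk⟩ := ((hpt (D.obj k)).2 _).1 hk
    refine ⟨k, yk, (hpt c.pt).1 ?_⟩
    have m1 := NatTrans.naturality_apply (toAbMap ι) (c.ι.app k) yk
    have m2 : (Adeq.underlineObj A M).toAb.map (c.ι.app k)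
        ((Adeq.underlineObj A M).toAb.map (D.map f) xi) =
        (Adeq.underlineObj A M).toAb.map (c.ι.app i) xi :=
      ConcreteCategory.congr_hom
        (((Adeq.underlineObj A M).toAb.map_comp (D.map f) (c.ι.app k)).symm.trans
          (congrArg (fun φ => (Adeq.underlineObj A M).toAb.map φ) (c.w f))) xi
    exact m1.trans ((congrArg
      (fun t => (Adeq.underlineObj A M).toAb.map (c.ι.app k) t) hyk).trans (m2.trans hxi))
  -- injectivity
  have hI : ∀ (i j : J) (yi : F.toAb.obj (D.obj i)) (yj : F.toAb.obj (D.obj j)),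
      F.toAb.map (c.ι.app i) yi = F.toAb.map (c.ι.app j) yj →
        ∃ (k : J) (f : i ⟶ k) (g : j ⟶ k), F.toAb.map (D.map f) yi = F.toAb.map (D.map g) yj := by
    intro i j yi yj h
    have a1 := NatTrans.naturality_apply (toAbMap ι) (c.ι.app i) yi
    have a2 := NatTrans.naturality_apply (toAbMap ι) (c.ι.app j) yj
    have e : ((Adeq.underlineObj A M).toAb.mapCocone c).ι.app i ((toAbMap ι).app (D.obj i) yi) =
        ((Adeq.underlineObj A M).toAb.mapCocone c).ι.app j ((toAbMap ι).app (D.obj j) yj) :=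
      a1.symm.trans ((congrArg (fun t => (toAbMap ι).app c.pt t) h).trans a2)
    obtain ⟨k, f, g, hfg⟩ := Concrete.isColimit_exists_of_rep_eq
      (D ⋙ (Adeq.underlineObj A M).toAb) hTM _ _ e
    refine ⟨k, f, g, (hpt (D.obj k)).1 ?_⟩
    have b1 := NatTrans.naturality_apply (toAbMap ι) (D.map f) yi
    have b2 := NatTrans.naturality_apply (toAbMap ι) (D.map g) yj
    exact b1.trans (hfg.trans b2.symm)
  refine ⟨isColimitOfReflects (forget AddCommGrpCat.{u + 1})
    (Types.FilteredColimit.isColimitOf _ _ ?_ ?_)⟩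
  · intro y
    obtain ⟨k, yk, h⟩ := hS y
    exact ⟨k, yk, h.symm⟩
  · intro i j xi xj h
    exact hI i j xi xj h

theorem main (F : Adeq.MVF A) (hF : Adeq.adequate A F) {J : Type u} [SmallCategory J]
    [IsFiltered J] (D : J ⥤ Adeq.Alg A) (c : Cocone D) (hc : IsColimit c) :
    Nonempty (IsColimit (F.toAb.mapCocone c)) := by
  obtain ⟨M, N, φ, ⟨e⟩⟩ := hF
  have w : (e.hom ≫ kernel.ι ((Adeq.underline A).map φ)) ≫ (Adeq.underline A).map φ = 0 := by
    rw [Category.assoc, kernel.condition, comp_zero]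
  have hlim : IsLimit (KernelFork.ofι _ w) :=
    IsLimit.ofIsoLimit (kernelIsKernel ((Adeq.underline A).map φ))
      (Fork.ext e.symm (by simp))
  exact main_aux F M N _ _ w hlim D c hc

end Main

end

end Groth.Agent.Lib.Helper16.AdeqFiltered
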