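import Groth.Agent.Lib.Helper16.AffDescGeom
import Groth.Agent.Lib.Helper16.YonSigma

/-!
# Helper library (helper16): fpqc descent of affine schemes for algebraic spaces (general form)
-/

set_option autoImplicit false
universe u
open CategoryTheory CategoryTheory.Limits AlgebraicGeometry Opposite TensorProduct

namespace Groth.Agent.Lib.Helper16.AffDesc

open AlgSp

variable {S : Scheme.{u}}

/-- **Affine descent along a single faithfully flat morphism of affine schemes.** -/
theorem exists_iso_of_affine_cover {Z W V : Over S} (hZ : IsAffine Z.left) (hW : IsAffine W.left)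
    (hV : IsAffine V.left) (c : W ⟶ Z) (π : V ⟶ W) [Flat c.left] [Surjective c.left]
    {T : Sp S} (hT : IsAlgSpace T) (t : T ⟶ (yon S).obj Z) (a : (yon S).obj V ⟶ T)
    (sq : IsPullback a ((yon S).map π) t ((yon S).map c)) :
    ∃ (T₀ : Over S) (p : T₀ ⟶ Z) (e : T ≅ (yon S).obj T₀), IsAffine T₀.left ∧ e.hom ≫ (yon S).map p = t := by
  let A : Type u := Γ(Z.left, ⊤)
  let B : Type u := Γ(W.left, ⊤)
  let C : Type u := Γ(V.left, ⊤)
  letI algAB : Algebra A B := (c.left.appTop).hom.toAlgebra
  letI algBC : Algebra B C := (π.left.appTop).hom.toAlgebra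
  letI algAC : Algebra A C := ((π ≫ c).left.appTop).hom.toAlgebra
  haveI : IsScalarTower A B C := IsScalarTower.of_algebraMap_eq' (by
    change ((π ≫ c).left.appTop).hom = (π.left.appTop).hom.comp (c.left.appTop).hom
    rw [Over.comp_left, Scheme.Hom.comp_appTop]
    rfl)
  let sA : Spec (CommRingCat.of A) ⟶ S := Z.left.isoSpec.inv ≫ Z.hom
  have hAA : Spec.map (CommRingCat.ofHom (algebraMap A A)) = 𝟙 _ := Spec.map_id _
  let eZ : Z ≅ ov sA A := Over.isoMk Z.left.isoSpec (by
    simp only [ov, Over.mk_hom, hAA, Category.id_comp, sA, Iso.hom_inv_id_assoc])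
  have hcW : W.left.isoSpec.hom ≫ Spec.map (CommRingCat.ofHom (algebraMap A B)) ≫ Z.left.isoSpec.inv = c.left := by
    have := Scheme.isoSpec_hom_naturality c.left
    rw [← Category.assoc, Iso.comp_inv_eq]
    exact this
  let eW : W ≅ ov sA B := Over.isoMk W.left.isoSpec (by
    simp only [ov, Over.mk_hom, sA]
    rw [← Category.assoc, ← Category.assoc, Category.assoc _ _ Z.left.isoSpec.inv, hcW, Over.w])
  have hπV : V.left.isoSpec.hom ≫ Spec.map (CommRingCat.ofHom (algebraMap A C)) ≫ Z.left.isoSpec.inv =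
      (π ≫ c).left := by
    have := Scheme.isoSpec_hom_naturality (π ≫ c).left
    rw [← Category.assoc, Iso.comp_inv_eq]
    exact this
  let eV : V ≅ ov sA C := Over.isoMk V.left.isoSpec (by
    simp only [ov, Over.mk_hom, sA]
    rw [← Category.assoc, ← Category.assoc, Category.assoc _ _ Z.left.isoSpec.inv, hπV, Over.w])
  have hc : eW.hom ≫ cZ sA B = c ≫ eZ.hom := by
    ext1
    exact Scheme.isoSpec_hom_naturality c.left
  have hπ : eV.hom ≫ piW sA B C = π ≫ eW.hom := by
    ext1
    exact Scheme.isoSpec_hom_naturality π.left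
  have hcZ : cZ sA B = eW.inv ≫ c ≫ eZ.hom := by rw [← hc, Iso.inv_hom_id_assoc]
  have hiW : IsIso eW.inv.left := inferInstanceAs (IsIso ((Over.forget S).map eW.inv))
  have hiZ : IsIso eZ.hom.left := inferInstanceAs (IsIso ((Over.forget S).map eZ.hom))
  have hfl : Flat (cZ sA B).left := by
    rw [hcZ]
    simp only [Over.comp_left]
    infer_instance
  have hsu : Surjective (cZ sA B).left := by
    rw [hcZ]
    simp only [Over.comp_left]
    infer_instance
  have sq' : IsPullback ((yon S).map eV.inv ≫ a) ((yon S).map (piW sA B C)) (t ≫ (yon S).map eZ.hom)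
      ((yon S).map (cZ sA B)) := by
    refine IsPullback.of_iso sq ((yon S).mapIso eV) (Iso.refl _) ((yon S).mapIso eW) ((yon S).mapIso eZ)
      ?_ ?_ ?_ ?_
    · simp only [Functor.mapIso_hom, Iso.refl_hom, Category.comp_id, ← Category.assoc, ← Functor.map_comp,
        Iso.hom_inv_id]
      erw [(yon S).map_id]
      rw [Category.id_comp]
    · simp only [Functor.mapIso_hom, ← Functor.map_comp, hπ]
    · simp only [Iso.refl_hom, Category.id_comp, Functor.mapIso_hom]
    · simp only [Functor.mapIso_hom, ← Functor.map_comp, hc]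
  obtain ⟨T₀, p, e, hT₀, he⟩ := exists_iso_of_spec sA _ _ sq' hT
  refine ⟨T₀, p ≫ eZ.inv, e, hT₀, ?_⟩
  rw [Functor.map_comp, ← Category.assoc, he, Category.assoc, ← Functor.map_comp, Iso.hom_inv_id]
  erw [(yon S).map_id]
  rw [Category.comp_id]


open Groth.Agent.Lib.Helper16 in
/-- **Affine descent along a standard fpqc covering**: an algebraic space `T` over an affine scheme `Z` whose base
changes to the members of a standard fpqc covering of `Z` are affine schemes is itself an affine scheme. -/
theorem exists_iso_of_std_cover {Z : Over S} (hZ : IsAffine Z.left) {T : Sp S} (hT : IsAlgSpace T)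
    (t : T ⟶ (yon S).obj Z) {m : ℕ} (W V : Fin m → Over S) (c : ∀ j, W j ⟶ Z)
    (hWa : ∀ j, IsAffine (W j).left) (hcf : ∀ j, Flat (c j).left)
    (hcs : ∀ z : ↥Z.left, ∃ j, z ∈ Set.range (c j).left) (hVa : ∀ j, IsAffine (V j).left)
    (π : ∀ j, V j ⟶ W j) (a : ∀ j, (yon S).obj (V j) ⟶ T)
    (sq : ∀ j, IsPullback (a j) ((yon S).map (π j)) t ((yon S).map (c j))) :
    ∃ (T₀ : Over S) (p : T₀ ⟶ Z) (e : T ≅ (yon S).obj T₀), IsAffine T₀.left ∧ e.hom ≫ (yon S).map p = t := by
  obtain ⟨a', sq'⟩ := exists_sigma_isPullback t W V c π a sq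
  have hW' : IsAffine (ovSigma W).left := by
    show IsAffine (∐ fun j => (W j).left)
    infer_instance
  have hV' : IsAffine (ovSigma V).left := by
    show IsAffine (∐ fun j => (V j).left)
    infer_instance
  have hfl : Flat (ovSigmaDesc W c).left := by
    show Flat (Sigma.desc fun j => (c j).left)
    rw [IsZariskiLocalAtSource.iff_of_openCover (P := @Flat) (sigmaOpenCover fun j => (W j).left)]
    intro (j : Fin m)
    have h1 : Sigma.ι (fun j => (W j).left) j ≫ (Sigma.desc fun j => (c j).left) = (c j).left :=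
      Sigma.ι_desc _ _
    show Flat (Sigma.ι (fun j => (W j).left) j ≫ (Sigma.desc fun j => (c j).left))
    rw [h1]
    exact hcf j
  have hsu : Surjective (ovSigmaDesc W c).left := by
    show Surjective (Sigma.desc fun j => (c j).left)
    refine ⟨fun z => ?_⟩
    obtain ⟨j, w, hw⟩ := hcs z
    refine ⟨(Sigma.ι (fun j => (W j).left) j) w, ?_⟩
    have h1 : Sigma.ι (fun j => (W j).left) j ≫ (Sigma.desc fun j => (c j).left) = (c j).left :=
      Sigma.ι_desc _ _
    rw [← hw, ← h1]
    rfl
  exact exists_iso_of_affine_cover hZ hW' hV' (ovSigmaDesc W c) _ hT t a' sq'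

end Groth.Agent.Lib.Helper16.AffDesc
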