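import Groth.Agent.Lib.Helper16.AffDescRing
import Groth.Agent.Lib.Helper16.FpqcMono
import Mathlib.CategoryTheory.Sites.RegularEpi

/-!
# Helper library (helper16): fpqc descent of affine schemes for algebraic spaces (`Spec` form)

`exists_iso_of_spec`: an algebraic space `T` over `Spec A` whose base change along a faithfully flat `Spec B ⟶ Spec A`
is an affine scheme `Spec C` is (represented by) an affine scheme.
-/

set_option autoImplicit false
universe u
open CategoryTheory CategoryTheory.Limits AlgebraicGeometry Opposite TensorProduct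

namespace Groth.Agent.Lib.Helper16.AffDesc

open AlgSp

variable {S : Scheme.{u}} {A : Type u} [CommRing A] (sA : Spec (CommRingCat.of A) ⟶ S)

/-- The scheme `Spec X` over `S` for an `A`-algebra `X`. -/
noncomputable def ov (X : Type u) [CommRing X] [Algebra A X] : Over S :=
  Over.mk (Spec.map (CommRingCat.ofHom (algebraMap A X)) ≫ sA)

section
variable {X Y Z : Type u} [CommRing X] [CommRing Y] [CommRing Z] [Algebra A X] [Algebra A Y] [Algebra A Z]

/-- The morphism `Spec Y ⟶ Spec X` over `S` of an `A`-algebra map `X → Y`. -/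
noncomputable def ovMap (g : X →ₐ[A] Y) : ov sA Y ⟶ ov sA X :=
  Over.homMk (Spec.map (CommRingCat.ofHom g.toRingHom)) (by
    simp only [ov, Over.mk_hom]
    rw [← Category.assoc, ← Spec.map_comp, ← CommRingCat.ofHom_comp, AlgHom.toRingHom_eq_coe,
      g.comp_algebraMap])

@[simp] theorem ovMap_left (g : X →ₐ[A] Y) :
    (ovMap sA g).left = Spec.map (CommRingCat.ofHom g.toRingHom) := rfl

theorem ovMap_comp (g : X →ₐ[A] Y) (h : Y →ₐ[A] Z) : ovMap sA (h.comp g) = ovMap sA h ≫ ovMap sA g := by
  ext1
  exact Spec.map_comp (CommRingCat.ofHom g.toRingHom) (CommRingCat.ofHom h.toRingHom)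

theorem ovMap_id : ovMap sA (AlgHom.id A X) = 𝟙 (ov sA X) := by
  ext1
  simp only [ovMap_left, Over.id_left]
  exact Spec.map_id _

theorem ovMap_injective {g g' : X →ₐ[A] Y} (h : ovMap sA g = ovMap sA g') : g = g' := by
  have h1 : Spec.map (CommRingCat.ofHom g.toRingHom) = Spec.map (CommRingCat.ofHom g'.toRingHom) :=
    congrArg CommaMorphism.left h
  have h2 := Spec.map_injective h1
  ext x
  have := congrArg (fun f => f.hom x) h2
  simpa using this

theorem isAffine_ov : IsAffine (ov sA X).left := by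
  dsimp [ov]; infer_instance

/-- A pushout square of `A`-algebras gives a pullback square over `S`. -/
theorem isPullback_ov {P : Type u} [CommRing P] [Algebra A P] (f : X →ₐ[A] P) (g : Y →ₐ[A] P)
    (h : IsPushout (CommRingCat.ofHom (algebraMap A X)) (CommRingCat.ofHom (algebraMap A Y))
      (CommRingCat.ofHom f.toRingHom) (CommRingCat.ofHom g.toRingHom)) :
    IsPullback (ovMap sA f) (ovMap sA g) (ovMap sA (Algebra.ofId A X)) (ovMap sA (Algebra.ofId A Y)) := by
  refine IsPullback.of_map (Over.forget S) ?_ ?_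
  · rw [← ovMap_comp, ← ovMap_comp]
    congr 1
    ext
  · exact isPullback_SpecMap_of_isPushout _ _ _ _ h

end

variable (B C : Type u) [CommRing B] [CommRing C] [Algebra A B] [Algebra B C] [Algebra A C]
  [IsScalarTower A B C]

/-- The covering `Spec B ⟶ Spec A`. -/
noncomputable abbrev cZ : ov sA B ⟶ ov sA A := ovMap sA (Algebra.ofId A B)
/-- `Spec C ⟶ Spec B`. -/
noncomputable abbrev piW : ov sA C ⟶ ov sA B := ovMap sA (IsScalarTower.toAlgHom A B C)
/-- First projection `Spec (C ⊗ B) ⟶ Spec C`. -/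
noncomputable abbrev prV : ov sA (C ⊗[A] B) ⟶ ov sA C :=
  ovMap sA (Algebra.TensorProduct.includeLeft : C →ₐ[A] C ⊗[A] B)
/-- Second projection `Spec (C ⊗ B) ⟶ Spec B`. -/
noncomputable abbrev prW : ov sA (C ⊗[A] B) ⟶ ov sA B :=
  ovMap sA (Algebra.TensorProduct.includeRight : B →ₐ[A] C ⊗[A] B)

theorem piW_cZ : piW sA B C ≫ cZ sA B = ovMap sA (Algebra.ofId A C) := by
  rw [← ovMap_comp]
  congr 1
  ext

theorem isPullback_R : IsPullback (prV sA B C) (prW sA B C) (piW sA B C ≫ cZ sA B) (cZ sA B) := by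
  rw [piW_cZ]
  exact isPullback_ov sA _ _ (CommRingCat.isPushout_tensorProduct A C B)

variable {B C}
variable {T : Sp S} (t : T ⟶ (yon S).obj (ov sA A)) (a : (yon S).obj (ov sA C) ⟶ T)
  (sq : IsPullback a ((yon S).map (piW sA B C)) t ((yon S).map (cZ sA B)))

include sq in
/-- The coaction extracted from the geometric descent situation. -/
theorem exists_coaction : ∃ ρ : C →ₐ[A] C ⊗[A] B,
    (yon S).map (ovMap sA ρ) ≫ a = (yon S).map (prV sA B C) ≫ a ∧
    ρ.comp (IsScalarTower.toAlgHom A B C) = Algebra.TensorProduct.includeRight := by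
  have hcomp : ((yon S).map (prV sA B C) ≫ a) ≫ t = (yon S).map (prW sA B C) ≫ (yon S).map (cZ sA B) := by
    rw [Category.assoc, sq.w, ← Functor.map_comp, ← Functor.map_comp, ← Functor.map_comp,
      (isPullback_R sA B C).w]
  obtain ⟨r₂, hr₂⟩ := (yon S).map_surjective (sq.lift _ _ hcomp)
  have h1 : r₂ ≫ piW sA B C = prW sA B C := by
    apply (yon S).map_injective
    rw [Functor.map_comp, hr₂, sq.lift_snd]
  have h2 : (yon S).map r₂ ≫ a = (yon S).map (prV sA B C) ≫ a := by
    rw [hr₂, sq.lift_fst]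
  let ρ₀ : C →+* C ⊗[A] B := (Spec.preimage r₂.left).hom
  have hρ₀ : Spec.map (CommRingCat.ofHom ρ₀) = r₂.left := Spec.map_preimage _
  have h3 : ρ₀.comp (algebraMap B C) = (Algebra.TensorProduct.includeRight : B →ₐ[A] C ⊗[A] B).toRingHom := by
    have h3' : Spec.map (CommRingCat.ofHom (IsScalarTower.toAlgHom A B C).toRingHom ≫ CommRingCat.ofHom ρ₀) =
        Spec.map (CommRingCat.ofHom (Algebra.TensorProduct.includeRight : B →ₐ[A] C ⊗[A] B).toRingHom) := by
      rw [Spec.map_comp, hρ₀]
      exact congrArg CommaMorphism.left h1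
    have h4 := Spec.map_injective h3'
    ext x
    exact congrArg (fun f => f.hom x) h4
  let ρ : C →ₐ[A] C ⊗[A] B :=
    { ρ₀ with
      commutes' := fun r => by
        have := congrArg (fun f => f (algebraMap A B r)) h3
        simp only [RingHom.comp_apply, ← IsScalarTower.algebraMap_apply] at this
        simpa using this }
  have hρ : ovMap sA ρ = r₂ := by
    ext1
    exact hρ₀
  refine ⟨ρ, by rw [hρ, h2], ?_⟩
  ext b
  exact congrArg (fun f => f b) h3


include sq in
/-- Two algebra maps out of `C` agree if they agree on `B` and induce the same map to `T`. -/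
theorem algHom_ext_of_sq {X : Type u} [CommRing X] [Algebra A X] (g g' : C →ₐ[A] X)
    (h1 : g.comp (IsScalarTower.toAlgHom A B C) = g'.comp (IsScalarTower.toAlgHom A B C))
    (h2 : (yon S).map (ovMap sA g) ≫ a = (yon S).map (ovMap sA g') ≫ a) : g = g' := by
  apply ovMap_injective sA
  apply (yon S).map_injective
  apply sq.hom_ext h2
  rw [← Functor.map_comp, ← Functor.map_comp, ← ovMap_comp, ← ovMap_comp, h1]

/-- Precomposition rule for the maps `h_{Spec X} ⟶ T` induced by algebra maps out of `C`. -/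
theorem aOf_comp {X Y : Type u} [CommRing X] [CommRing Y] [Algebra A X] [Algebra A Y] (g : C →ₐ[A] X)
    (h : X →ₐ[A] Y) : (yon S).map (ovMap sA (h.comp g)) ≫ a = (yon S).map (ovMap sA h) ≫ (yon S).map (ovMap sA g) ≫ a := by
  rw [ovMap_comp, Functor.map_comp, Category.assoc]

include sq in
/-- The counit and coassociativity laws of the coaction. -/
theorem coaction_props (ρ : C →ₐ[A] C ⊗[A] B)
    (hρa : (yon S).map (ovMap sA ρ) ≫ a = (yon S).map (prV sA B C) ≫ a)
    (hρB : ρ.comp (IsScalarTower.toAlgHom A B C) = Algebra.TensorProduct.includeRight) :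
    (∀ c, mu A B C (ρ c) = c) ∧
    (∀ c, Algebra.TensorProduct.map ρ (AlgHom.id A B) (ρ c) =
      Algebra.TensorProduct.map (Algebra.TensorProduct.includeLeft : C →ₐ[A] C ⊗[A] B)
        (AlgHom.id A B) (ρ c)) := by
  constructor
  · have : (mu A B C).comp ρ = AlgHom.id A C := by
      apply algHom_ext_of_sq sA t a sq
      · rw [AlgHom.comp_assoc, hρB]
        ext b
        simp [mu]
      · rw [aOf_comp, hρa, ← aOf_comp]
        have e : (mu A B C).comp (Algebra.TensorProduct.includeLeft : C →ₐ[A] C ⊗[A] B) = AlgHom.id A C := by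
          ext c
          simp [mu]
        rw [e]
    intro c
    exact congrArg (fun f => f c) this
  · have : (Algebra.TensorProduct.map ρ (AlgHom.id A B)).comp ρ =
        (Algebra.TensorProduct.map (Algebra.TensorProduct.includeLeft : C →ₐ[A] C ⊗[A] B)
          (AlgHom.id A B)).comp ρ := by
      apply algHom_ext_of_sq sA t a sq
      · rw [AlgHom.comp_assoc, AlgHom.comp_assoc, hρB]
        ext b
        simp
      · rw [aOf_comp, hρa, ← aOf_comp, aOf_comp (g := ρ), hρa, ← aOf_comp]
        have e1 : (Algebra.TensorProduct.map ρ (AlgHom.id A B)).comp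
            (Algebra.TensorProduct.includeLeft : C →ₐ[A] C ⊗[A] B) =
            (Algebra.TensorProduct.includeLeft : C ⊗[A] B →ₐ[A] (C ⊗[A] B) ⊗[A] B).comp ρ := by
          ext c
          simp
        rw [e1, aOf_comp, hρa, ← aOf_comp]
        congr 2
    intro c
    exact congrArg (fun f => f c) this

include sq in
/-- `(Spec (C ⊗ B), pr₁, ρ)` is the kernel pair of `a` on scheme-valued points. -/
theorem exists_kernelPair_lift (ρ : C →ₐ[A] C ⊗[A] B)
    (hρa : (yon S).map (ovMap sA ρ) ≫ a = (yon S).map (prV sA B C) ≫ a)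
    (hρB : ρ.comp (IsScalarTower.toAlgHom A B C) = Algebra.TensorProduct.includeRight)
    {X' : Over S} (x y : X' ⟶ ov sA C) (hxy : (yon S).map x ≫ a = (yon S).map y ≫ a) :
    ∃ k : X' ⟶ ov sA (C ⊗[A] B), k ≫ prV sA B C = x ∧ k ≫ ovMap sA ρ = y := by
  have hc : x ≫ piW sA B C ≫ cZ sA B = (y ≫ piW sA B C) ≫ cZ sA B := by
    apply (yon S).map_injective
    simp only [Functor.map_comp, Category.assoc]
    rw [← sq.w, ← Category.assoc, ← Category.assoc, hxy]
  refine ⟨(isPullback_R sA B C).lift x (y ≫ piW sA B C) hc, (isPullback_R sA B C).lift_fst _ _ _, ?_⟩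
  apply (yon S).map_injective
  apply sq.hom_ext
  · rw [Functor.map_comp, Category.assoc, hρa, ← Category.assoc, ← Functor.map_comp,
      (isPullback_R sA B C).lift_fst, hxy]
  · have e : ovMap sA ρ ≫ piW sA B C = prW sA B C := by rw [← ovMap_comp, hρB]
    rw [← Functor.map_comp, ← Functor.map_comp, Category.assoc, e]
    exact congrArg _ ((isPullback_R sA B C).lift_snd _ _ _)


/-- A flat, surjective, quasi-compact morphism over `S` is an epimorphism in `Over S`. -/
theorem epi_of_fpqc {X' Y' : Over S} (f : X' ⟶ Y') [Flat f.left] [Surjective f.left] [QuasiCompact f.left] :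
    Epi f := by
  have : Epi ((Over.forget S).map f) := by
    change Epi f.left
    infer_instance
  exact (Over.forget S).epi_of_epi_map this

/-- A flat, surjective, locally finitely presented morphism over `S` is an epimorphism in `Over S`. -/
theorem epi_of_fppf {X' Y' : Over S} (f : X' ⟶ Y') [Flat f.left] [Surjective f.left]
    [LocallyOfFinitePresentation f.left] : Epi f := by
  have : Epi ((Over.forget S).map f) := by
    change Epi f.left
    infer_instance
  exact (Over.forget S).epi_of_epi_map this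

include sq in
/-- Descending the morphism `Spec C ⟶ Spec M` to a morphism `T ⟶ h_{Spec M}`. -/
theorem exists_desc (hT : IsAlgSpace T) [Flat (cZ sA B).left] [Surjective (cZ sA B).left]
    (ρ : C →ₐ[A] C ⊗[A] B)
    (hρa : (yon S).map (ovMap sA ρ) ≫ a = (yon S).map (prV sA B C) ≫ a)
    (hρB : ρ.comp (IsScalarTower.toAlgHom A B C) = Algebra.TensorProduct.includeRight) :
    ∃ τ : T ⟶ (yon S).obj (ov sA (descAlg ρ)), a ≫ τ = (yon S).map (ovMap sA (descAlg ρ).val) ∧
      τ ≫ (yon S).map (ovMap sA (Algebra.ofId A (descAlg ρ))) = t := by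
  obtain ⟨U, u, hue, hus⟩ := hT.atlas
  obtain ⟨uZ, huZ⟩ := (yon S).map_surjective (u ≫ t)
  have hv0 : ((yon S).map (pullback.fst uZ (cZ sA B)) ≫ u) ≫ t =
      (yon S).map (pullback.snd uZ (cZ sA B)) ≫ (yon S).map (cZ sA B) := by
    rw [Category.assoc, ← huZ, ← Functor.map_comp, ← Functor.map_comp, pullback.condition]
  obtain ⟨v, hv⟩ := (yon S).map_surjective (sq.lift _ _ hv0)
  have hva : (yon S).map v ≫ a = (yon S).map (pullback.fst uZ (cZ sA B)) ≫ u := by rw [hv, sq.lift_fst]
  have hvπ : v ≫ piW sA B C = pullback.snd uZ (cZ sA B) := by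
    apply (yon S).map_injective
    rw [Functor.map_comp, hv, sq.lift_snd]
  -- `q`
  have hq : prV sA B C ≫ ovMap sA (descAlg ρ).val = ovMap sA ρ ≫ ovMap sA (descAlg ρ).val := by
    rw [← ovMap_comp, ← ovMap_comp]
    congr 1
    ext m
    exact m.2.symm
  have hqp : ovMap sA (descAlg ρ).val ≫ ovMap sA (Algebra.ofId A (descAlg ρ)) = piW sA B C ≫ cZ sA B := by
    rw [piW_cZ, ← ovMap_comp]
    congr 1
  -- fpqc property of the projections
  have fpqc_fst : ∀ {X' : Over S} (x : X' ⟶ ov sA A), Flat (pullback.fst x (cZ sA B)).left ∧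
      Surjective (pullback.fst x (cZ sA B)).left ∧ QuasiCompact (pullback.fst x (cZ sA B)).left := by
    intro X' x
    have sqU := isPullback_left_forget x (cZ sA B)
    have hqc : QuasiCompact (cZ sA B).left := by
      show QuasiCompact (Spec.map (CommRingCat.ofHom (Algebra.ofId A B).toRingHom))
      infer_instance
    exact ⟨MorphismProperty.of_isPullback sqU.flip inferInstance,
      MorphismProperty.of_isPullback sqU.flip inferInstance,
      MorphismProperty.of_isPullback sqU.flip hqc⟩
  obtain ⟨i1, i2, i3⟩ := fpqc_fst uZ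
  have hepiU : Epi (pullback.fst uZ (cZ sA B)) := epi_of_fpqc _
  -- descend along `prU`
  have hdesc : ∀ {X' : Scheme.{u}} (g₁ g₂ : X' ⟶ (pullback uZ (cZ sA B)).left),
      g₁ ≫ (pullback.fst uZ (cZ sA B)).left = g₂ ≫ (pullback.fst uZ (cZ sA B)).left →
      g₁ ≫ (v ≫ ovMap sA (descAlg ρ).val).left = g₂ ≫ (v ≫ ovMap sA (descAlg ρ).val).left := by
    intro X' g₁ g₂ h12
    have hw : g₂ ≫ (pullback uZ (cZ sA B)).hom = g₁ ≫ (pullback uZ (cZ sA B)).hom := by
      rw [← Over.w (pullback.fst uZ (cZ sA B)), ← Category.assoc, ← h12, Category.assoc]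
    let G₁ : Over.mk (g₁ ≫ (pullback uZ (cZ sA B)).hom) ⟶ pullback uZ (cZ sA B) := Over.homMk g₁ rfl
    let G₂ : Over.mk (g₁ ≫ (pullback uZ (cZ sA B)).hom) ⟶ pullback uZ (cZ sA B) := Over.homMk g₂ hw
    have hG : G₁ ≫ pullback.fst uZ (cZ sA B) = G₂ ≫ pullback.fst uZ (cZ sA B) := by
      ext1; exact h12
    obtain ⟨k, hk1, hk2⟩ := exists_kernelPair_lift sA t a sq ρ hρa hρB (G₁ ≫ v) (G₂ ≫ v) (by
      rw [Functor.map_comp, Functor.map_comp, Category.assoc, Category.assoc, hva, ← Category.assoc,
        ← Category.assoc, ← Functor.map_comp, ← Functor.map_comp, hG])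
    have : (G₁ ≫ v) ≫ ovMap sA (descAlg ρ).val = (G₂ ≫ v) ≫ ovMap sA (descAlg ρ).val := by
      rw [← hk1, ← hk2, Category.assoc, Category.assoc, hq]
    have := congrArg CommaMorphism.left this
    simpa [G₁, G₂] using this
  let ū := EffectiveEpi.desc (pullback.fst uZ (cZ sA B)).left (v ≫ ovMap sA (descAlg ρ).val).left hdesc
  have hū : (pullback.fst uZ (cZ sA B)).left ≫ ū = (v ≫ ovMap sA (descAlg ρ).val).left :=
    EffectiveEpi.fac _ _ _
  have hūS : ū ≫ (ov sA (descAlg ρ)).hom = U.hom := by
    have : Epi (pullback.fst uZ (cZ sA B)).left := inferInstance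
    rw [← cancel_epi (pullback.fst uZ (cZ sA B)).left, ← Category.assoc, hū, Over.w, Over.w]
  let ūO : U ⟶ ov sA (descAlg ρ) := Over.homMk ū hūS
  have hūO : pullback.fst uZ (cZ sA B) ≫ ūO = v ≫ ovMap sA (descAlg ρ).val := by
    ext1; exact hū
  -- descend along `u`
  have hepiu : Epi u := epi_of_etale_surjective u hue hus
  have := IsRegularEpiCategory.regularEpiOfEpi u
  have hdesc2 : ∀ {F : Sp S} (g₁ g₂ : F ⟶ (yon S).obj U), g₁ ≫ u = g₂ ≫ u →
      g₁ ≫ (yon S).map ūO = g₂ ≫ (yon S).map ūO := by
    intro F g₁ g₂ h12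
    apply sp_hom_ext
    intro X' z
    obtain ⟨x', hx'⟩ := (yon S).map_surjective (z ≫ g₁)
    obtain ⟨y', hy'⟩ := (yon S).map_surjective (z ≫ g₂)
    have hxy : (yon S).map x' ≫ u = (yon S).map y' ≫ u := by
      rw [hx', hy', Category.assoc, Category.assoc, h12]
    rw [← Category.assoc, ← Category.assoc, ← hx', ← hy', ← Functor.map_comp, ← Functor.map_comp]
    congr 1
    have hxyZ : y' ≫ uZ = x' ≫ uZ := by
      apply (yon S).map_injective
      rw [Functor.map_comp, Functor.map_comp, huZ, ← Category.assoc, ← Category.assoc, hxy]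
    obtain ⟨j1, j2, j3⟩ := fpqc_fst (x' ≫ uZ)
    have hepiX : Epi (pullback.fst (x' ≫ uZ) (cZ sA B)) := epi_of_fpqc _
    rw [← cancel_epi (pullback.fst (x' ≫ uZ) (cZ sA B))]
    let xW : pullback (x' ≫ uZ) (cZ sA B) ⟶ pullback uZ (cZ sA B) :=
      pullback.lift (pullback.fst _ _ ≫ x') (pullback.snd _ _) (by rw [Category.assoc, pullback.condition])
    let yW : pullback (x' ≫ uZ) (cZ sA B) ⟶ pullback uZ (cZ sA B) :=
      pullback.lift (pullback.fst _ _ ≫ y') (pullback.snd _ _)
        (by rw [Category.assoc, hxyZ, pullback.condition])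
    have hxW : xW ≫ pullback.fst uZ (cZ sA B) = pullback.fst _ _ ≫ x' := pullback.lift_fst _ _ _
    have hyW : yW ≫ pullback.fst uZ (cZ sA B) = pullback.fst _ _ ≫ y' := pullback.lift_fst _ _ _
    have hxyv : xW ≫ v = yW ≫ v := by
      apply (yon S).map_injective
      apply sq.hom_ext
      · rw [Functor.map_comp, Functor.map_comp, Category.assoc, Category.assoc, hva, ← Category.assoc,
          ← Category.assoc, ← Functor.map_comp, ← Functor.map_comp, hxW, hyW, Functor.map_comp,
          Functor.map_comp, Category.assoc, Category.assoc, hxy]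
      · rw [← Functor.map_comp, ← Functor.map_comp, Category.assoc, Category.assoc, hvπ]
        congr 1
        exact (pullback.lift_snd _ _ _).trans (pullback.lift_snd _ _ _).symm
    rw [← Category.assoc, ← hxW, Category.assoc, hūO, ← Category.assoc, hxyv, Category.assoc, ← hūO,
      ← Category.assoc, hyW, Category.assoc]
  let τ : T ⟶ (yon S).obj (ov sA (descAlg ρ)) := EffectiveEpi.desc u ((yon S).map ūO) hdesc2
  have hτ : u ≫ τ = (yon S).map ūO := EffectiveEpi.fac _ _ _
  refine ⟨τ, ?_, ?_⟩
  · -- `a ≫ τ = h_q`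
    obtain ⟨q', hq'⟩ := (yon S).map_surjective (a ≫ τ)
    rw [← hq']
    congr 1
    -- `v` is etale surjective
    have sqv : IsPullback ((yon S).map v) ((yon S).map (pullback.fst uZ (cZ sA B))) a u := by
      refine IsPullback.of_right ?_ hva sq.flip
      rw [← Functor.map_comp, hvπ, ← huZ]
      exact ((IsPullback.of_hasPullback uZ (cZ sA B)).map (yon S)).flip
    have hve : Etale v.left := hue.property _ _ _ sqv.flip
    have hvs : Surjective v.left := hus.property _ _ _ sqv.flip
    have hepiv : Epi v := epi_of_fppf v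
    rw [← cancel_epi v]
    apply (yon S).map_injective
    rw [Functor.map_comp, hq', ← Category.assoc, hva, Category.assoc, hτ, ← Functor.map_comp, hūO]
  · rw [← cancel_epi u, ← Category.assoc, hτ, ← huZ, ← Functor.map_comp]
    congr 1
    rw [← cancel_epi (pullback.fst uZ (cZ sA B)), ← Category.assoc, hūO, Category.assoc, hqp,
      ← Category.assoc, hvπ, pullback.condition]


include sq in
/-- **Affine descent, `Spec` form**: an algebraic space `T` over `Spec A` whose base change along a faithfully flat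
`Spec B ⟶ Spec A` is the affine scheme `Spec C` is itself an affine scheme. -/
theorem exists_iso_of_spec (hT : IsAlgSpace T) [Flat (cZ sA B).left] [Surjective (cZ sA B).left] :
    ∃ (T₀ : Over S) (p : T₀ ⟶ ov sA A) (e : T ≅ (yon S).obj T₀), IsAffine T₀.left ∧
      e.hom ≫ (yon S).map p = t := by
  obtain ⟨ρ, hρa, hρB⟩ := exists_coaction sA t a sq
  obtain ⟨hcounit, hcoassoc⟩ := coaction_props sA t a sq ρ hρa hρB
  obtain ⟨τ, hτa, hτt⟩ := exists_desc sA t a sq hT ρ hρa hρB
  have hflat : Module.Flat A B := by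
    have h : Flat (Spec.map (CommRingCat.ofHom (algebraMap A B))) := ‹Flat (cZ sA B).left›
    rw [Flat.SpecMap_iff] at h
    exact (RingHom.flat_algebraMap_iff).1 h
  have hρ1 : ∀ b : B, ρ (algebraMap B C b) = (1 : C) ⊗ₜ[A] b := fun b =>
    congrArg (fun f => f b) hρB
  -- the second pullback square
  have PB2 : IsPullback (ovMap sA (descAlg ρ).val) (piW sA B C) (ovMap sA (Algebra.ofId A (descAlg ρ)))
      (cZ sA B) := by
    have := isPullback_ov sA (descAlg ρ).val (IsScalarTower.toAlgHom A B C)
      (isPushout_descAlg ρ hρ1 hcounit hcoassoc)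
    exact this
  -- `τ` is an isomorphism
  have sqτ : IsPullback a (𝟙 _) τ ((yon S).map (ovMap sA (descAlg ρ).val)) := by
    refine (IsPullback.of_right ?_ (by rw [Category.id_comp, hτa]) (PB2.map (yon S)).flip).flip
    rw [Category.id_comp, hτt]
    exact sq.flip
  have hq_flat : Flat (ovMap sA (descAlg ρ).val).left :=
    MorphismProperty.of_isPullback (PB2.map (Over.forget S)).flip ‹Flat (cZ sA B).left›
  have hq_surj : Surjective (ovMap sA (descAlg ρ).val).left :=
    MorphismProperty.of_isPullback (PB2.map (Over.forget S)).flip ‹Surjective (cZ sA B).left›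
  have href : FpqcRefines (fun _ : PUnit.{u + 1} => (yon S).obj (ov sA C))
      (fun _ => (yon S).map (ovMap sA (descAlg ρ).val)) := by
    intro Z' hZ' h
    obtain ⟨h', rfl⟩ := (yon S).map_surjective h
    have sqW := isPullback_left_forget h' (ovMap sA (descAlg ρ).val)
    refine ⟨1, fun _ => pullback h' (ovMap sA (descAlg ρ).val), fun _ => pullback.fst _ _, fun _ => ?_,
      fun _ => ?_, fun z => ⟨0, ?_⟩, fun _ => ⟨PUnit.unit, (yon S).map (pullback.snd _ _), ?_⟩⟩
    · have h1 : IsAffine (ov sA C).left := isAffine_ov sA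
      have h2 : IsAffine (ov sA (descAlg ρ)).left := isAffine_ov sA
      exact IsAffine.of_isIso sqW.isoPullback.hom
    · exact MorphismProperty.of_isPullback sqW.flip hq_flat
    · have : Surjective (pullback.fst h' (ovMap sA (descAlg ρ).val)).left :=
        MorphismProperty.of_isPullback sqW.flip hq_surj
      exact (pullback.fst h' (ovMap sA (descAlg ρ).val)).left.surjective z
    · rw [← Functor.map_comp, ← Functor.map_comp, pullback.condition]
  have hiso : IsIso τ := isIso_of_fpqcRefines (IsAlgSpace.yon_obj _) _ (fun _ => IsAlgSpace.yon_obj _) _ href hT τ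
    (fun _ => (yon S).obj (ov sA C)) (fun _ => IsAlgSpace.yon_obj _) (fun _ => 𝟙 _) (fun _ => a) (fun _ => sqτ)
    (fun _ => inferInstance)
  exact ⟨ov sA (descAlg ρ), ovMap sA (Algebra.ofId A (descAlg ρ)), asIso τ, isAffine_ov sA, hτt⟩

end Groth.Agent.Lib.Helper16.AffDesc
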