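import Groth.Agent.Lib.Helper16.SchLocus
import Groth.Agent.Lib.Helper16.DecentGeneric
import Groth.Agent.Lib.Helper16.SchImgRed2
import Groth.Agent.Lib.Helper16.QuasiCompact
import Groth.Prelude.Def_W4stk3decentspacesp2Birat
import Groth.Agent.S10338

/-!
# Helper library (helper16): birational morphisms of decent algebraic spaces, scheme models
-/

set_option autoImplicit false
universe u
open CategoryTheory CategoryTheory.Limits AlgebraicGeometry Opposite Topology TopologicalSpace

namespace Groth.Agent.Lib.Helper16.Birat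

open AlgSp Groth.Agent.Lib.Helper15 Groth.Agent.Lib.Helper16 Groth.Agent.Lib.Helper16.SchLocus

section Top

variable {A B : Type*} [TopologicalSpace A] [TopologicalSpace B]

theorem closure_mem_irreducibleComponents_of_isInducing {e : A → B} (he : IsInducing e) (p : A)
    (h : closure {e p} ∈ irreducibleComponents B) : closure {p} ∈ irreducibleComponents A := by
  refine ⟨isIrreducible_singleton.closure, ?_⟩
  intro Z hZ hpZ z hz
  have h1 : IsIrreducible (closure (e '' Z)) := (hZ.image e he.continuous.continuousOn).closure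
  have hp : p ∈ Z := hpZ (subset_closure rfl)
  have h2 : closure {e p} ⊆ closure (e '' Z) :=
    closure_mono (Set.singleton_subset_iff.2 ⟨p, hp, rfl⟩)
  have h3 : closure (e '' Z) ⊆ closure {e p} := h.2 h1 h2
  have h4 : e z ∈ closure {e p} := h3 (subset_closure ⟨z, hz, rfl⟩)
  rw [← specializes_iff_mem_closure] at h4 ⊢
  exact he.specializes_iff.1 h4

theorem closure_mem_irreducibleComponents_of_isOpenEmbedding [QuasiSober B] {e : A → B}
    (he : IsOpenEmbedding e) (p : A) (h : closure {p} ∈ irreducibleComponents A) :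
    closure {e p} ∈ irreducibleComponents B := by
  obtain ⟨Z, hZ, hsub⟩ := exists_mem_irreducibleComponents_subset_of_isIrreducible (closure {e p})
    isIrreducible_singleton.closure
  have hZc : IsClosed Z := isClosed_of_mem_irreducibleComponents Z hZ
  obtain ⟨η, hη⟩ := QuasiSober.sober hZ.1 hZc
  have hep : e p ∈ Z := hsub (subset_closure rfl)
  have h1 : η ⤳ e p := by
    rw [specializes_iff_mem_closure, hη.def]
    exact hep
  have h2 : η ∈ Set.range e := h1.mem_open he.isOpen_range ⟨p, rfl⟩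
  obtain ⟨q, rfl⟩ := h2
  have h3 : q ⤳ p := he.isInducing.specializes_iff.1 h1
  have h4 : closure {p} ⊆ closure {q} := specializes_iff_closure_subset.1 h3
  have h5 : closure {q} ⊆ closure {p} := h.2 isIrreducible_singleton.closure h4
  have h6 : p ⤳ q := specializes_iff_closure_subset.2 h5
  have h7 : e p ⤳ e q := h6.map he.continuous
  have h8 : closure {e p} = Z := by
    apply subset_antisymm hsub
    rw [← hη.def]
    exact specializes_iff_closure_subset.1 h7
  rw [h8]
  exact hZ

theorem mem_genericPoints_iff_of_isOpenEmbedding [QuasiSober B] {e : A → B} (he : IsOpenEmbedding e)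
    (p : A) : closure {p} ∈ irreducibleComponents A ↔ e p ∈ genericPoints B :=
  ⟨closure_mem_irreducibleComponents_of_isOpenEmbedding he p,
   closure_mem_irreducibleComponents_of_isInducing he.isInducing p⟩

theorem finite_irreducibleComponents_of_isOpenEmbedding [QuasiSober B] [T0Space B] [QuasiSober A]
    {e : A → B} (he : IsOpenEmbedding e) (h : (irreducibleComponents B).Finite) :
    (irreducibleComponents A).Finite := by
  have h1 : (genericPoints B).Finite := genericPoints.finite h
  have h2 : (genericPoints A).Finite := by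
    refine (h1.preimage he.injective.injOn).subset ?_
    intro p hp
    exact (mem_genericPoints_iff_of_isOpenEmbedding he p).1 hp
  have h3 : Finite (genericPoints A) := h2
  have h4 : Finite (irreducibleComponents A) :=
    Finite.of_surjective (genericPoints.component (α := A)) genericPoints.component_surjective
  exact Set.finite_coe_iff.1 h4

theorem dense_of_genericPoints_subset_closure [QuasiSober B] {s : Set B}
    (h : genericPoints B ⊆ closure s) : Dense s := by
  have h1 := closure_minimal h isClosed_closure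
  rw [genericPoints.closure] at h1
  exact dense_iff_closure_eq.2 (Set.univ_subset_iff.1 h1)

/-- With finitely many irreducible components, a dense open contains all generic points. -/
theorem mem_of_dense_of_isOpen_of_mem_genericPoints (hfin : (irreducibleComponents B).Finite) {O : Set B}
    (hO : IsOpen O) (hd : Dense O) {y : B} (hy : y ∈ genericPoints B) : y ∈ O := by
  have hZ : closure {y} ∈ irreducibleComponents B := hy
  let W : Set B := ⋃ T ∈ (irreducibleComponents B \ {closure {y}}), T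
  have hWc : IsClosed W := by
    apply Set.Finite.isClosed_biUnion (hfin.subset Set.sdiff_subset)
    intro T hT
    exact isClosed_of_mem_irreducibleComponents T hT.1
  have hyW : y ∈ Wᶜ := by
    intro hyW
    obtain ⟨T, hT⟩ := Set.mem_iUnion.1 hyW
    obtain ⟨⟨hT1, hT2⟩, hyT⟩ := Set.mem_iUnion.1 hT
    apply hT2
    have h1 : closure {y} ⊆ T := (isClosed_of_mem_irreducibleComponents T hT1).closure_subset_iff.2
      (Set.singleton_subset_iff.2 hyT)
    have h2 : T ⊆ closure {y} := hZ.2 hT1.1 h1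
    exact Set.mem_singleton_iff.2 (subset_antisymm h2 h1)
  obtain ⟨p, hpW, hpO⟩ := hd.inter_open_nonempty Wᶜ hWc.isOpen_compl ⟨y, hyW⟩
  have hpZ : p ∈ closure {y} := by
    by_contra hne
    apply hpW
    refine Set.mem_iUnion.2 ⟨irreducibleComponent p, Set.mem_iUnion.2
      ⟨⟨irreducibleComponent_mem_irreducibleComponents p, ?_⟩, mem_irreducibleComponent⟩⟩
    intro heq
    apply hne
    rw [← Set.mem_singleton_iff.1 heq]
    exact mem_irreducibleComponent
  have h3 : y ⤳ p := specializes_iff_mem_closure.2 hpZ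
  exact h3.mem_open hO hpO

end Top

variable {S : Scheme.{u}}

theorem isOpenEmbedding_ofPt {F : Sp S} {U : Over S} (a : (yon S).obj U ⟶ F)
    (ha : RepWith @IsOpenImmersion a) : IsOpenEmbedding (Points.ofPt a) := by
  have hm : Mono a := mono_of_repWith_isOpenImmersion a ha
  refine IsOpenEmbedding.of_continuous_injective_isOpenMap (Points.continuous_ofPt a) ?_
    (isOpenMap_ofPt_of_etale a (repWith_mono isOpenImmersion_le_etale a ha))
  intro u u' h
  rw [Points.ofPt_eq_map_ofScheme, Points.ofPt_eq_map_ofScheme] at h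
  exact ofScheme_injective U (points_map_injective_of_mono a h)

theorem isIso_stalkMap_comp {A B C : Scheme.{u}} (p : A ⟶ B) (q : B ⟶ C) (w : A)
    (h1 : IsIso (q.stalkMap (p w))) (h2 : IsIso (p.stalkMap w)) : IsIso ((p ≫ q).stalkMap w) := by
  have e : (p ≫ q).stalkMap w = q.stalkMap (p w) ≫ p.stalkMap w := Scheme.Hom.stalkMap_comp p q w
  rw [e]
  exact @IsIso.comp_isIso _ _ _ _ _ (q.stalkMap (p w)) (p.stalkMap w) h1 h2

theorem isIso_stalkMap_of_comp_left {A B C : Scheme.{u}} (p : A ⟶ B) (q : B ⟶ C) (w : A)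
    (h1 : IsIso (q.stalkMap (p w))) (h : IsIso ((p ≫ q).stalkMap w)) : IsIso (p.stalkMap w) := by
  have e : (p ≫ q).stalkMap w = q.stalkMap (p w) ≫ p.stalkMap w := Scheme.Hom.stalkMap_comp p q w
  rw [e] at h
  exact @IsIso.of_isIso_comp_left _ _ _ _ _ (q.stalkMap (p w)) (p.stalkMap w) h1 h

theorem isIso_stalkMap_of_comp_right {A B C : Scheme.{u}} (p : A ⟶ B) (q : B ⟶ C) (w : A)
    (h2 : IsIso (p.stalkMap w)) (h : IsIso ((p ≫ q).stalkMap w)) : IsIso (q.stalkMap (p w)) := by
  have e : (p ≫ q).stalkMap w = q.stalkMap (p w) ≫ p.stalkMap w := Scheme.Hom.stalkMap_comp p q w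
  rw [e] at h
  exact @IsIso.of_isIso_comp_right _ _ _ _ _ (q.stalkMap (p w)) (p.stalkMap w) h2 h

/-- Stalk maps of two open-immersion chart diagrams at the same point are simultaneously isomorphisms. -/
theorem isIso_stalkMap_transfer {F G : Sp S} (f : F ⟶ G) {U₁ V₁ U₂ V₂ : Over S}
    (a₁ : (yon S).obj U₁ ⟶ F) (b₁ : (yon S).obj V₁ ⟶ G) (g₁ : U₁ ⟶ V₁)
    (a₂ : (yon S).obj U₂ ⟶ F) (b₂ : (yon S).obj V₂ ⟶ G) (g₂ : U₂ ⟶ V₂)
    (ha₁ : RepWith @IsOpenImmersion a₁) (hb₁ : RepWith @IsOpenImmersion b₁)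
    (ha₂ : RepWith @IsOpenImmersion a₂) (hb₂ : RepWith @IsOpenImmersion b₂)
    (h₁ : a₁ ≫ f = (yon S).map g₁ ≫ b₁) (h₂ : a₂ ≫ f = (yon S).map g₂ ≫ b₂)
    (u₁ : ↥U₁.left) (u₂ : ↥U₂.left) (hu : Points.ofPt a₁ u₁ = Points.ofPt a₂ u₂)
    (hiso : IsIso (g₁.left.stalkMap u₁)) : IsIso (g₂.left.stalkMap u₂) := by
  obtain ⟨W, snd, fst, sq⟩ := ha₁.rep a₂
  obtain ⟨c, rfl⟩ := (yon S).map_surjective fst
  obtain ⟨W', snd', fst', sq'⟩ := hb₁.rep b₂
  obtain ⟨c', rfl⟩ := (yon S).map_surjective fst'
  have hsnd : IsOpenImmersion snd.left := ha₁.property _ _ _ sq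
  have hc : IsOpenImmersion c.left := ha₂.property _ _ _ sq.flip
  have hsnd' : IsOpenImmersion snd'.left := hb₁.property _ _ _ sq'
  have hc' : IsOpenImmersion c'.left := hb₂.property _ _ _ sq'.flip
  obtain ⟨w, rfl, rfl⟩ := exists_point_of_isPullback_yon_yon sq u₁ u₂ hu
  have hk : ((yon S).map c ≫ (yon S).map g₁) ≫ b₁ = ((yon S).map snd ≫ (yon S).map g₂) ≫ b₂ := by
    rw [Category.assoc, ← h₁, ← Category.assoc, sq.w, Category.assoc, h₂, Category.assoc]
  obtain ⟨k, hk'⟩ := (yon S).map_surjective (sq'.lift _ _ hk)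
  have hk1 : k ≫ c' = c ≫ g₁ := by
    apply (yon S).map_injective
    rw [Functor.map_comp, Functor.map_comp, hk', sq'.lift_fst]
  have hk2 : k ≫ snd' = snd ≫ g₂ := by
    apply (yon S).map_injective
    rw [Functor.map_comp, Functor.map_comp, hk', sq'.lift_snd]
  have hk1l : k.left ≫ c'.left = c.left ≫ g₁.left := by
    rw [← Over.comp_left, ← Over.comp_left, hk1]
  have hk2l : k.left ≫ snd'.left = snd.left ≫ g₂.left := by
    rw [← Over.comp_left, ← Over.comp_left, hk2]
  have i1 : IsIso ((c.left ≫ g₁.left).stalkMap w) :=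
    isIso_stalkMap_comp _ _ _ hiso inferInstance
  have i1' : IsIso ((k.left ≫ c'.left).stalkMap w) := by
    rw [hk1l]
    exact i1
  have i2 : IsIso (k.left.stalkMap w) := isIso_stalkMap_of_comp_left _ _ _ inferInstance i1'
  have i3 : IsIso ((k.left ≫ snd'.left).stalkMap w) :=
    isIso_stalkMap_comp _ _ _ inferInstance i2
  have i3' : IsIso ((snd.left ≫ g₂.left).stalkMap w) := by
    rw [← hk2l]
    exact i3
  exact isIso_stalkMap_of_comp_right _ _ _ inferInstance i3'

theorem range_ofPt_iso_comp_openSubι {F : Sp S} (W : Set (Points F)) {T : Over S}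
    (e : (yon S).obj T ≅ openSub F W) :
    Set.range (Points.ofPt (e.hom ≫ openSubι F W)) = W := by
  rw [← range_map_yon]
  ext x
  constructor
  · rintro ⟨y, rfl⟩
    rw [Points.map_comp]
    have : Points.map (openSubι F W) (Points.map e.hom y) ∈ Set.range (Points.map (openSubι F W)) :=
      ⟨_, rfl⟩
    rwa [range_map_openSubι] at this
  · intro hx
    rw [← range_map_openSubι W] at hx
    obtain ⟨z, rfl⟩ := hx
    refine ⟨Points.map e.inv z, ?_⟩
    rw [← Points.map_comp, ← Category.assoc, e.inv_hom_id, Category.id_comp]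

open W4stk3decentspacesp2 in
/-- Properties of a scheme model of a birational morphism containing all generic points. -/
theorem model_props {X Y : AlgSp.Space S} (f : X ⟶ Y) (hX : IsDecent X.obj) (hY : IsDecent Y.obj)
    (hXf : (irreducibleComponents (Points X.obj)).Finite)
    (hYf : (irreducibleComponents (Points Y.obj)).Finite)
    (hf : IsBirational f.hom)
    {U V : Over S} (a : (yon S).obj U ⟶ X.obj) (b : (yon S).obj V ⟶ Y.obj) (g : U ⟶ V)
    (ha : RepWith @IsOpenImmersion a) (hb : RepWith @IsOpenImmersion b)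
    (hc : a ≫ f.hom = (yon S).map g ≫ b)
    (hgX : genericPoints (Points X.obj) ⊆ Set.range (Points.ofPt a)) :
    (irreducibleComponents ↥U.left).Finite ∧ (irreducibleComponents ↥V.left).Finite ∧
    Set.BijOn (fun x : U.left => g.left.base x)
      {x : U.left | closure {x} ∈ irreducibleComponents ↥U.left}
      {y : V.left | closure {y} ∈ irreducibleComponents ↥V.left} ∧
    ∀ x : U.left, closure {x} ∈ irreducibleComponents ↥U.left → IsIso (g.left.stalkMap x) := by
  have hT0X : T0Space (Points X.obj) := Groth.Agent.S10338.result X hX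
  have hT0Y : T0Space (Points Y.obj) := Groth.Agent.S10338.result Y hY
  have hQX : QuasiSober (Points X.obj) := Strata.quasiSober_points_of_isDecent X.property hX
  have hQY : QuasiSober (Points Y.obj) := Strata.quasiSober_points_of_isDecent Y.property hY
  have hea := isOpenEmbedding_ofPt a ha
  have heb := isOpenEmbedding_ofPt b hb
  have hcomm : ∀ x : U.left, Points.map f.hom (Points.ofPt a x) = Points.ofPt b (g.left x) := by
    intro x
    rw [Points.map_ofPt, hc, ofPt_yon_map_comp]
  have iffU := fun x => mem_genericPoints_iff_of_isOpenEmbedding hea x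
  have iffV := fun y => mem_genericPoints_iff_of_isOpenEmbedding heb y
  refine ⟨finite_irreducibleComponents_of_isOpenEmbedding hea hXf,
    finite_irreducibleComponents_of_isOpenEmbedding heb hYf, ⟨?_, ?_, ?_⟩, ?_⟩
  · intro x hx
    have h1 := hf.bijOn.mapsTo ((iffU x).1 hx)
    rw [hcomm] at h1
    exact (iffV _).2 h1
  · intro x hx x' hx' h
    have h' : g.left x = g.left x' := h
    have h1 : Points.map f.hom (Points.ofPt a x) = Points.map f.hom (Points.ofPt a x') := by
      rw [hcomm, hcomm, h']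
    exact hea.injective (hf.bijOn.injOn ((iffU x).1 hx) ((iffU x').1 hx') h1)
  · intro y hy
    obtain ⟨x', hx', hxy⟩ := hf.bijOn.surjOn ((iffV y).1 hy)
    obtain ⟨x, rfl⟩ := hgX hx'
    refine ⟨x, (iffU x).2 hx', ?_⟩
    apply heb.injective
    rw [← hxy, hcomm]
  · intro x hx
    obtain ⟨U₁, V₁, a₁, b₁, g₁, u₁, ha₁, hb₁, hc₁, hu₁, hiso⟩ := hf.stalkIso _ ((iffU x).1 hx)
    exact isIso_stalkMap_transfer f.hom a₁ b₁ g₁ a b g ha₁ hb₁ ha hb hc₁ hc u₁ x hu₁ hiso

open W4stk3decentspacesp2 in
/-- A birational morphism has a scheme model through all generic points. -/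
theorem exists_scheme_model {X Y : AlgSp.Space S} (f : X ⟶ Y) (hf : IsBirational f.hom) :
    ∃ (U V : Over S) (a : (yon S).obj U ⟶ X.obj) (b : (yon S).obj V ⟶ Y.obj) (g : U ⟶ V),
      RepWith @IsOpenImmersion a ∧ RepWith @IsOpenImmersion b ∧ a ≫ f.hom = (yon S).map g ≫ b ∧
      genericPoints (Points X.obj) ⊆ Set.range (Points.ofPt a) ∧
      genericPoints (Points Y.obj) ⊆ Set.range (Points.ofPt b) := by
  obtain ⟨U₀, ⟨eX⟩⟩ := exists_iso_yon_openSub_schLocus X.property
  obtain ⟨V₀, ⟨eY⟩⟩ := exists_iso_yon_openSub_schLocus Y.property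
  have ha₀ : RepWith @IsOpenImmersion (eX.hom ≫ openSubι X.obj (schLocus X.obj)) :=
    (MorphismProperty.cancel_left_of_respectsIso (RepWith @IsOpenImmersion) eX.hom _).2
      (repWith_isOpenImmersion_openSubι _ (isOpen_schLocus X.obj))
  have hb₀ : RepWith @IsOpenImmersion (eY.hom ≫ openSubι Y.obj (schLocus Y.obj)) :=
    (MorphismProperty.cancel_left_of_respectsIso (RepWith @IsOpenImmersion) eY.hom _).2
      (repWith_isOpenImmersion_openSubι _ (isOpen_schLocus Y.obj))
  have hra₀ := range_ofPt_iso_comp_openSubι (schLocus X.obj) eX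
  have hrb₀ := range_ofPt_iso_comp_openSubι (schLocus Y.obj) eY
  generalize eX.hom ≫ openSubι X.obj (schLocus X.obj) = a₀ at ha₀ hra₀
  let O : U₀.left.Opens := ⟨Points.ofPt a₀ ⁻¹' (Points.map f.hom ⁻¹' schLocus Y.obj),
    ((isOpen_schLocus Y.obj).preimage (Points.continuous_map f.hom)).preimage
      (Points.continuous_ofPt a₀)⟩
  have ha : RepWith @IsOpenImmersion ((yon S).map (overOpenι U₀ O) ≫ a₀) :=
    (RepWith @IsOpenImmersion).comp_mem _ _
      ((repWith_yon_map_iff _ _).2 (by change IsOpenImmersion O.ι; infer_instance)) ha₀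
  have hpt : ∀ t : ↥(overOpen U₀ O).left,
      Points.ofPt (((yon S).map (overOpenι U₀ O) ≫ a₀) ≫ f.hom) t ∈ schLocus Y.obj := by
    intro t
    have h1 : Points.ofPt (((yon S).map (overOpenι U₀ O) ≫ a₀) ≫ f.hom) t =
        Points.map f.hom (Points.ofPt a₀ ((overOpenι U₀ O).left t)) := by
      rw [← ofPt_yon_map_comp]
      rfl
    rw [h1]
    exact t.2
  obtain ⟨a', ha'⟩ := (exists_factor_openSub_iff (schLocus Y.obj) _).2 hpt
  obtain ⟨g, hg⟩ := (yon S).map_surjective (a' ≫ eY.inv)
  have hc : ((yon S).map (overOpenι U₀ O) ≫ a₀) ≫ f.hom =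
      (yon S).map g ≫ eY.hom ≫ openSubι Y.obj (schLocus Y.obj) := by
    rw [hg, ← ha', Category.assoc, Iso.inv_hom_id_assoc]
  have hgen : ∀ x ∈ genericPoints (Points X.obj), x ∈ schLocus X.obj ∧
      Points.map f.hom x ∈ schLocus Y.obj := by
    intro x hx
    obtain ⟨U₁, V₁, a₁, b₁, g₁, u₁, ha₁, hb₁, hc₁, hu₁, -⟩ := hf.stalkIso x hx
    refine ⟨range_subset_schLocus a₁ ha₁ ⟨u₁, hu₁⟩, ?_⟩
    rw [← hu₁, Points.map_ofPt, hc₁, ofPt_yon_map_comp]
    exact range_subset_schLocus b₁ hb₁ ⟨_, rfl⟩
  refine ⟨overOpen U₀ O, V₀, _, _, g, ha, hb₀, hc, ?_, ?_⟩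
  · intro x hx
    obtain ⟨h1, h2⟩ := hgen x hx
    rw [← hra₀] at h1
    obtain ⟨u₀, rfl⟩ := h1
    refine ⟨(⟨u₀, h2⟩ : ↥O), ?_⟩
    rw [ofPt_yon_map_comp]
    rfl
  · intro y hy
    obtain ⟨x, hx, rfl⟩ := hf.bijOn.surjOn hy
    rw [hrb₀]
    exact (hgen x hx).2

/-- Density of the restriction of a chart through all generic points to a dense open. -/
theorem dense_range_ofPt_restrict {F : Sp S} [QuasiSober (Points F)] {U : Over S}
    (a : (yon S).obj U ⟶ F) (hg : genericPoints (Points F) ⊆ Set.range (Points.ofPt a))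
    (U' : U.left.Opens) (hd : Dense (U' : Set ↥U.left)) :
    Dense (Set.range (Points.ofPt ((yon S).map (overOpenι U U') ≫ a))) := by
  apply dense_of_genericPoints_subset_closure
  intro x hx
  obtain ⟨u, rfl⟩ := hg hx
  have h1 : u ∈ closure (U' : Set ↥U.left) := hd u
  have h2 := image_closure_subset_closure_image (Points.continuous_ofPt a) ⟨u, h1, rfl⟩
  refine closure_mono ?_ h2
  rintro _ ⟨u', hu', rfl⟩
  refine ⟨(⟨u', hu'⟩ : ↥U'), ?_⟩
  rw [ofPt_yon_map_comp]
  rfl

/-- Restricting a scheme model to dense opens on which it is an isomorphism. -/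
theorem exists_of_dense_opens {X Y : AlgSp.Space S} (f : X ⟶ Y)
    [QuasiSober (Points X.obj)] [QuasiSober (Points Y.obj)]
    {U V : Over S} (a : (yon S).obj U ⟶ X.obj) (b : (yon S).obj V ⟶ Y.obj) (g : U ⟶ V)
    (ha : RepWith @IsOpenImmersion a) (hb : RepWith @IsOpenImmersion b)
    (hc : a ≫ f.hom = (yon S).map g ≫ b)
    (hgX : genericPoints (Points X.obj) ⊆ Set.range (Points.ofPt a))
    (hgY : genericPoints (Points Y.obj) ⊆ Set.range (Points.ofPt b))
    (U' : U.left.Opens) (V' : V.left.Opens) (hUV : U' ≤ g.left ⁻¹ᵁ V')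
    (hdU : Dense (U' : Set ↥U.left)) (hdV : Dense (V' : Set ↥V.left))
    (hiso : IsIso (g.left.resLE V' U' hUV)) :
    ∃ (U V : Over S) (a : (yon S).obj U ⟶ X.obj) (b : (yon S).obj V ⟶ Y.obj) (g : U ⟶ V),
      RepWith @IsOpenImmersion a ∧ RepWith @IsOpenImmersion b ∧
        Dense (Set.range (Points.ofPt a)) ∧ Dense (Set.range (Points.ofPt b)) ∧
          a ≫ f.hom = (yon S).map g ≫ b ∧ IsIso g.left := by
  have hw : g.left.resLE V' U' hUV ≫ (overOpen V V').hom = (overOpen U U').hom := by
    show g.left.resLE V' U' hUV ≫ V'.ι ≫ V.hom = U'.ι ≫ U.hom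
    rw [← Category.assoc, Scheme.Hom.resLE_comp_ι, Category.assoc, Over.w g]
  have hsq : overOpenι U U' ≫ g = Over.homMk (g.left.resLE V' U' hUV) hw ≫ overOpenι V V' := by
    ext1
    show U'.ι ≫ g.left = g.left.resLE V' U' hUV ≫ V'.ι
    exact (Scheme.Hom.resLE_comp_ι _ _).symm
  refine ⟨overOpen U U', overOpen V V', (yon S).map (overOpenι U U') ≫ a,
    (yon S).map (overOpenι V V') ≫ b, Over.homMk (g.left.resLE V' U' hUV) hw, ?_, ?_, ?_, ?_, ?_, ?_⟩
  · exact (RepWith @IsOpenImmersion).comp_mem _ _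
      ((repWith_yon_map_iff _ _).2 (by change IsOpenImmersion U'.ι; infer_instance)) ha
  · exact (RepWith @IsOpenImmersion).comp_mem _ _
      ((repWith_yon_map_iff _ _).2 (by change IsOpenImmersion V'.ι; infer_instance)) hb
  · exact dense_range_ofPt_restrict a hgX U' hdU
  · exact dense_range_ofPt_restrict b hgY V' hdV
  · rw [Category.assoc, hc, ← Category.assoc, ← Functor.map_comp, hsq, Functor.map_comp, Category.assoc]
  · show IsIso (g.left.resLE V' U' hUV)
    exact hiso

end Groth.Agent.Lib.Helper16.Birat
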