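import Groth.Agent.Lib.Helper16.Thick
import Groth.Agent.Lib.Helper16.UnivRep
import Groth.Agent.Lib.Helper16.LocPSource
import Groth.Agent.S10194
import Groth.Agent.S10195

/-!
# Helper library (helper16): open subspaces of a thickening
-/

set_option autoImplicit false
universe u
open CategoryTheory CategoryTheory.Limits AlgebraicGeometry Opposite Topology TopologicalSpace

namespace Groth.Agent.Lib.Helper16.Thick

open AlgSp

variable {S : Scheme.{u}}

/-- The image of the first projection of a fibre product is the preimage of the image of the other map. -/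
theorem range_fst_of_isPullback {P X Y Z : Sp S} {fst : P ⟶ X} {snd : P ⟶ Y} {f : X ⟶ Z} {g : Y ⟶ Z}
    (sq : IsPullback fst snd f g) :
    Set.range (Points.map fst) = Points.map f ⁻¹' Set.range (Points.map g) := by
  ext x
  constructor
  · rintro ⟨z, rfl⟩
    exact ⟨Points.map snd z, by rw [← Points.map_comp, ← Points.map_comp, sq.w]⟩
  · rintro ⟨y, hy⟩
    obtain ⟨z, hz, -⟩ := exists_point_of_isPullback sq x y hy.symm
    exact ⟨z, hz⟩

/-- A representable open immersion into an algebraic space is open on points. -/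
theorem isOpenMap_points_of_openImmersion {U X : Sp S} (hX : IsAlgSpace X) (u : U ⟶ X)
    (hu : RepWith @IsOpenImmersion u) : IsOpenMap (Points.map u) := by
  have h1 : RepWith @UniversallyOpen u :=
    repWith_mono (fun _ _ k hk => by
      have : IsOpenImmersion k := hk
      exact (inferInstance : UniversallyOpen k)) u hu
  exact isOpenMor_of_isUnivOpenMor hX ((repWith_universallyOpen_iff u hu.rep).1 h1)

/-- Two open subspaces with the same points are isomorphic. -/
theorem exists_iso_of_range_eq {X U₁ U₂ : AlgSp.Space S} (u₁ : U₁ ⟶ X) (u₂ : U₂ ⟶ X)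
    (h₁ : RepWith @IsOpenImmersion u₁.hom) (h₂ : RepWith @IsOpenImmersion u₂.hom)
    (h : Set.range (Points.map u₁.hom) = Set.range (Points.map u₂.hom)) :
    ∃ e : U₁ ≅ U₂, e.hom ≫ u₂ = u₁ := by
  obtain ⟨a, ha⟩ := (Groth.Agent.S10194.result u₂ h₂ u₁).2 h.le
  obtain ⟨b, hb⟩ := (Groth.Agent.S10194.result u₁ h₁ u₂).2 h.ge
  have hm₁ : Mono u₁.hom := mono_of_repWith (P := @IsOpenImmersion)
    (fun _ _ g hg => by
      have : IsOpenImmersion g := hg
      exact (inferInstance : Mono g)) _ h₁
  have hm₂ : Mono u₂.hom := mono_of_repWith (P := @IsOpenImmersion)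
    (fun _ _ g hg => by
      have : IsOpenImmersion g := hg
      exact (inferInstance : Mono g)) _ h₂
  have hm₁' : Mono u₁ := ⟨fun p q hpq => by
    apply ObjectProperty.hom_ext
    have := congrArg (fun k => k.hom) hpq
    exact (cancel_mono u₁.hom).1 this⟩
  have hm₂' : Mono u₂ := ⟨fun p q hpq => by
    apply ObjectProperty.hom_ext
    have := congrArg (fun k => k.hom) hpq
    exact (cancel_mono u₂.hom).1 this⟩
  refine ⟨⟨a, b, ?_, ?_⟩, ha⟩
  · rw [← cancel_mono u₁, Category.assoc, hb, ha, Category.id_comp]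
  · rw [← cancel_mono u₂, Category.assoc, ha, hb, Category.id_comp]

/-- **Open subspaces of a thickening**: existence and uniqueness of the open subspace of `X'` restricting to a given
open subspace of `X`. -/
theorem openSubspace_existsUnique {X X' U : AlgSp.Space S} (i : X ⟶ X') (hi : IsThickMor i.hom)
    (u : U ⟶ X) (hu : RepWith @IsOpenImmersion u.hom) :
    (∃ (U' : AlgSp.Space S) (u' : U' ⟶ X') (k : U ⟶ U'),
      RepWith @IsOpenImmersion u'.hom ∧ IsPullback u.hom k.hom i.hom u'.hom) ∧
    (∀ (U₁ U₂ : AlgSp.Space S) (u₁ : U₁ ⟶ X') (u₂ : U₂ ⟶ X') (k₁ : U ⟶ U₁) (k₂ : U ⟶ U₂),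
      RepWith @IsOpenImmersion u₁.hom → IsPullback u.hom k₁.hom i.hom u₁.hom →
      RepWith @IsOpenImmersion u₂.hom → IsPullback u.hom k₂.hom i.hom u₂.hom →
      ∃ e : U₁ ≅ U₂, e.hom ≫ u₂ = u₁) := by
  have hh := isHomeomorph_points_of_isThickMor X.property X'.property i.hom hi
  have key : ∀ (U₁ : AlgSp.Space S) (u₁ : U₁ ⟶ X') (k₁ : U ⟶ U₁), IsPullback u.hom k₁.hom i.hom u₁.hom →
      Set.range (Points.map u₁.hom) = Points.map i.hom '' Set.range (Points.map u.hom) := by
    intro U₁ u₁ k₁ sq
    rw [range_fst_of_isPullback sq, Set.image_preimage_eq _ hh.surjective]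
  constructor
  · have hopen : IsOpen (Points.map i.hom '' Set.range (Points.map u.hom)) :=
      hh.isOpenMap _ (isOpenMap_points_of_openImmersion X.property u.hom hu).isOpen_range
    obtain ⟨U', u', hu', hr⟩ := Groth.Agent.S10195.result X' _ hopen
    obtain ⟨k, hk⟩ := (Groth.Agent.S10194.result u' hu' (u ≫ i)).2 (by
      rw [hr]
      rintro _ ⟨x, rfl⟩
      exact ⟨Points.map u.hom x, ⟨x, rfl⟩, (Points.map_comp u.hom i.hom x).symm⟩)
    have hk' : k.hom ≫ u'.hom = u.hom ≫ i.hom := by
      have := congrArg (fun m => m.hom) hk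
      simpa using this
    refine ⟨U', u', k, hu', ?_⟩
    -- the fibre product is an open subspace of `X` with the same points as `U`
    have hPalg : IsAlgSpace (pullback i.hom u'.hom) :=
      isAlgSpace_of_isPullback X.property X'.property.diag U'.property (IsPullback.of_hasPullback _ _)
    have hp₁ : RepWith @IsOpenImmersion (pullback.fst i.hom u'.hom) :=
      (RepWith @IsOpenImmersion).of_isPullback (IsPullback.of_hasPullback i.hom u'.hom).flip hu'
    have hrange : Set.range (Points.map u.hom) = Set.range (Points.map (pullback.fst i.hom u'.hom)) := by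
      rw [range_fst_of_isPullback (IsPullback.of_hasPullback i.hom u'.hom), hr,
        Set.preimage_image_eq _ hh.injective]
    obtain ⟨e, he⟩ := exists_iso_of_range_eq (U₂ := ⟨pullback i.hom u'.hom, hPalg⟩) u
      (ObjectProperty.homMk (pullback.fst i.hom u'.hom)) hu hp₁ hrange
    have hm : Mono (pullback.fst i.hom u'.hom) := mono_of_repWith (P := @IsOpenImmersion)
      (fun _ _ g hg => by
        have : IsOpenImmersion g := hg
        exact (inferInstance : Mono g)) _ hp₁
    have he' : e.hom.hom ≫ pullback.fst i.hom u'.hom = u.hom := by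
      have := congrArg (fun m => m.hom) he
      simpa using this
    have hc : e.hom.hom = pullback.lift u.hom k.hom hk'.symm := by
      rw [← cancel_mono (pullback.fst i.hom u'.hom), he', pullback.lift_fst]
    have hiso : IsIso (pullback.lift u.hom k.hom hk'.symm) := by
      rw [← hc]
      exact ⟨e.inv.hom, by
        have := congrArg (fun m => m.hom) e.hom_inv_id
        simpa using this, by
        have := congrArg (fun m => m.hom) e.inv_hom_id
        simpa using this⟩
    exact IsPullback.of_iso_pullback ⟨hk'.symm⟩ (asIso (pullback.lift u.hom k.hom hk'.symm))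
      (pullback.lift_fst _ _ _) (pullback.lift_snd _ _ _)
  · intro U₁ U₂ u₁ u₂ k₁ k₂ h₁ sq₁ h₂ sq₂
    exact exists_iso_of_range_eq u₁ u₂ h₁ h₂ ((key U₁ u₁ k₁ sq₁).trans (key U₂ u₂ k₂ sq₂).symm)

end Groth.Agent.Lib.Helper16.Thick
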