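import Groth.Agent.Lib.Helper16.SchLocusCodim0

/-!
# Helper library (helper16): codimension 0 points across charts; the dense open subscheme
-/

set_option autoImplicit false
universe u
open CategoryTheory CategoryTheory.Limits AlgebraicGeometry Opposite

namespace Groth.Agent.Lib.Helper16.SchLocus

open AlgSp Groth.Agent.Lib.Helper15 Strata

variable {S : Scheme.{u}}

/-- Codimension 0 can be tested on any etale chart through the point. -/
theorem codim_zero_of_hasAt {X : Sp S} {x : Points X}
    (hx : HasAt (fun U u => ringKrullDim ↥(U.presheaf.stalk u) = 0) X x) {U : Over S}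
    (a : (yon S).obj U ⟶ X) (hae : RepWith @Etale a) (u : ↥U.left) (hu : Points.ofPt a u = x) :
    ringKrullDim ↥(U.left.presheaf.stalk u) = 0 := by
  obtain ⟨V, b, v, hbe, hbv, hdim⟩ := hx
  have sqP := hae.rep.isPullback' b
  have het1 : Etale (hae.rep.fst' b).left := hbe.property _ _ _ sqP.flip
  have het2 : Etale (hae.rep.snd b).left := hae.property _ _ _ sqP
  obtain ⟨p, hp1, hp2⟩ := exists_point_of_isPullback_yon_yon sqP u v (hu.trans hbv.symm)
  rw [← hp1, ← EtDim.ringKrullDim_stalk_eq_of_etale (hae.rep.fst' b).left p,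
    EtDim.ringKrullDim_stalk_eq_of_etale (hae.rep.snd b).left p, hp2]
  exact hdim

/-- Restriction to an open does not change the dimension of the local ring. -/
theorem ringKrullDim_stalk_overOpen {U : Over S} (O : U.left.Opens) (u : ↥U.left) (hu : u ∈ O) :
    ringKrullDim ↥((overOpen U O).left.presheaf.stalk (⟨u, hu⟩ : ↥O)) = ringKrullDim ↥(U.left.presheaf.stalk u) :=
  EtDim.ringKrullDim_stalk_eq_of_etale O.ι ⟨u, hu⟩

/-- The schematic locus of an open subspace maps into the schematic locus. -/
theorem map_mem_schLocus {X' X : Sp S} (j : X' ⟶ X) (hj : RepWith @IsOpenImmersion j) {x' : Points X'}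
    (hx' : x' ∈ schLocus X') : Points.map j x' ∈ schLocus X := by
  obtain ⟨M, m, hm, t, rfl⟩ := hx'
  refine ⟨M, m ≫ j, (RepWith @IsOpenImmersion).comp_mem _ _ hm hj, t, ?_⟩
  rw [Points.map_ofPt]

/-- If all points of codimension 0 lie in the schematic locus, the schematic locus is a dense open subscheme
containing them. -/
theorem exists_dense_open_subscheme (X : AlgSp.Space S)
    (h : ∀ x : Points X.obj, HasAt (fun U u => ringKrullDim ↥(U.presheaf.stalk u) = 0) X.obj x →
      x ∈ schLocus X.obj) :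
    ∃ (X' : AlgSp.Space S) (j : X' ⟶ X), RepWith @IsOpenImmersion j.hom ∧ X'.obj.obj.IsRepresentable ∧
      Dense (Set.range (Points.map j.hom)) ∧
      ∀ x : Points X.obj, HasAt (fun U u => ringKrullDim ↥(U.presheaf.stalk u) = 0) X.obj x →
        x ∈ Set.range (Points.map j.hom) := by
  have hX : IsAlgSpace X.obj := X.property
  have hopen := isOpen_schLocus X.obj
  obtain ⟨Mg, ⟨e⟩⟩ := exists_iso_yon_openSub_schLocus hX
  refine ⟨⟨openSub X.obj (schLocus X.obj), isAlgSpace_openSub hX _ hopen⟩,
    ObjectProperty.homMk (openSubι X.obj (schLocus X.obj)), ?_, ?_, ?_, ?_⟩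
  · exact repWith_isOpenImmersion_openSubι _ hopen
  · exact isRepresentable_of_iso e.symm
  · change Dense (Set.range (Points.map (openSubι X.obj (schLocus X.obj))))
    rw [range_map_openSubι]
    rw [dense_iff_inter_open]
    intro W hW hWne
    obtain ⟨U, a, hae, has⟩ := hX.atlas
    obtain ⟨x, hxW⟩ := hWne
    obtain ⟨u₁, hu₁⟩ := ofPt_surjective_of_surjective a has x
    obtain ⟨O, hOdef⟩ : ∃ O : U.left.Opens, (O : Set ↥U.left) = Points.ofPt a ⁻¹' W :=
      ⟨⟨_, hW.preimage (Points.continuous_ofPt a)⟩, rfl⟩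
    have hmemO : ∀ u, u ∈ O ↔ Points.ofPt a u ∈ W := fun u => by
      rw [← SetLike.mem_coe, hOdef]; rfl
    have hu₁O : u₁ ∈ O := by rw [hmemO, hu₁]; exact hxW
    obtain ⟨u, huO, hdim⟩ := exists_codim_zero_mem O hu₁O
    exact ⟨Points.ofPt a u, (hmemO u).1 huO, h _ ⟨U, a, u, hae, rfl, hdim⟩⟩
  · intro x hx
    change x ∈ Set.range (Points.map (openSubι X.obj (schLocus X.obj)))
    rw [range_map_openSubι]
    exact h x hx

end Groth.Agent.Lib.Helper16.SchLocus
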