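import Groth.Agent.Lib.Helper16.QfLocus
import Groth.Agent.Lib.Helper16.SchLocusCodim0b

/-!
# Helper library (helper16): points of codimension 0 and quasi-finiteness at a point
-/

set_option autoImplicit false
universe u
open CategoryTheory CategoryTheory.Limits AlgebraicGeometry Opposite Topology

namespace Groth.Agent.Lib.Helper16.Codim0Qf

open AlgSp Groth.Agent.Lib.Helper16 Groth.Agent.Lib.Helper16.DimZero

/-- A point whose local ring has dimension 0 has no proper generizations. -/
theorem eq_of_specializes_of_codim_zero {Y : Scheme.{u}} {y y' : ↥Y}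
    (hdim : ringKrullDim ↥(Y.presheaf.stalk y) = 0) (h : y' ⤳ y) : y' = y := by
  have h0 : Order.coheight y = 0 := by
    have := ringKrullDim_stalk_eq_coheight y
    rw [hdim] at this
    exact_mod_cast this.symm
  have hmax : IsMax y := Order.coheight_eq_zero.1 h0
  have hle : y ≤ y' := h
  have h2 : y ⤳ y' := hmax hle
  exact (h.antisymm h2).eq

set_option backward.isDefEq.respectTransparency.types false in
/-- Every point of a scheme is a specialization of a point of codimension 0. -/
theorem exists_specializes_codim_zero {U : Scheme.{u}} (u₁ : ↥U) :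
    ∃ u : ↥U, u ⤳ u₁ ∧ ringKrullDim ↥(U.presheaf.stalk u) = 0 := by
  obtain ⟨R, f, hf, ⟨y₁, hy₁⟩, -⟩ :=
    Scheme.exists_affine_mem_range_and_range_subset (U := (⊤ : U.Opens)) (x := u₁) trivial
  obtain ⟨p, hp, hle⟩ := Ideal.exists_minimalPrimes_le (I := ⊥) (J := y₁.asIdeal) bot_le
  have hpp : p.IsPrime := hp.1.1
  let y : ↥(Spec R) := ⟨p, hpp⟩
  refine ⟨f y, ?_, ?_⟩
  · rw [← hy₁]
    exact ((PrimeSpectrum.le_iff_specializes y y₁).1 hle).map f.continuous
  · rw [← EtDim.ringKrullDim_stalk_eq_of_etale f y]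
    let k : Algebra ↑R ↑((Spec R).presheaf.stalk y) := StructureSheaf.stalkAlgebra (↑R) y
    have : IsLocalization.AtPrime (↑((Spec R).presheaf.stalk y)) y.asIdeal :=
      StructureSheaf.IsLocalization.to_stalk R y
    rw [IsLocalization.AtPrime.ringKrullDim_eq_height y.asIdeal ((Spec R).presheaf.stalk y)]
    have : y.asIdeal.height = 0 := Ideal.height_eq_zero_iff.2 hp
    rw [this]
    rfl

/-- Ring level: a quasi-finite local extension of a zero-dimensional local ring is zero-dimensional. -/
theorem ringKrullDim_eq_zero_of_quasiFinite {A B : Type u} [CommRing A] [CommRing B] [IsLocalRing A]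
    [IsLocalRing B] (φ : A →+* B) (hφ : φ.QuasiFinite) (hA : ringKrullDim A = 0) : ringKrullDim B = 0 := by
  algebraize [φ]
  have hA0 : Ring.KrullDimLE 0 A := (Ring.krullDimLE_iff).2 (le_of_eq hA)
  have hB0 : Ring.KrullDimLE 0 B := by
    rw [Ring.krullDimLE_zero_iff]
    intro P hP
    have hle : P ≤ IsLocalRing.maximalIdeal B := IsLocalRing.le_maximalIdeal hP.ne_top
    have h1 : (P.under A).IsMaximal := Ideal.isMaximal_of_isPrime (P.under A)
    have h2 : ((IsLocalRing.maximalIdeal B).under A).IsMaximal :=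
      Ideal.isMaximal_of_isPrime ((IsLocalRing.maximalIdeal B).under A)
    have h3 : P.under A = (IsLocalRing.maximalIdeal B).under A := by
      rw [IsLocalRing.eq_maximalIdeal h1, IsLocalRing.eq_maximalIdeal h2]
    have := Algebra.QuasiFinite.eq_of_le_of_under_eq (R := A) P (IsLocalRing.maximalIdeal B) hle h3
    rw [this]
    infer_instance
  exact le_antisymm ((Ring.krullDimLE_iff).1 hB0) ringKrullDim_nonneg_of_nontrivial

/-- **C1**: at a point where a morphism is quasi-finite and whose image has codimension 0, the source has codimension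
0. -/
theorem ringKrullDim_stalk_eq_zero_of_quasiFiniteAt {U V : Scheme.{u}} (h : U ⟶ V) (u : ↥U)
    (hq : h.QuasiFiniteAt u) (hv : ringKrullDim ↥(V.presheaf.stalk (h u)) = 0) :
    ringKrullDim ↥(U.presheaf.stalk u) = 0 :=
  ringKrullDim_eq_zero_of_quasiFinite (h.stalkMap u).hom hq hv

/-- **C2**: if all points of the fibre through `u` have codimension 0, then the morphism is quasi-finite at `u`. -/
theorem quasiFiniteAt_of_forall_codim_zero {U V : Scheme.{u}} (h : U ⟶ V) [LocallyOfFiniteType h] (u : ↥U)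
    (hall : ∀ u' : ↥U, h u' = h u → ringKrullDim ↥(U.presheaf.stalk u') = 0) : h.QuasiFiniteAt u := by
  have h1 : LocallyOfFiniteType (h.fiberToSpecResidueField (h u)) := by
    unfold Scheme.Hom.fiberToSpecResidueField
    exact MorphismProperty.pullback_snd (P := @LocallyOfFiniteType) _ _ inferInstance
  have : IsLocallyNoetherian (h.fiber (h u)) :=
    LocallyOfFiniteType.isLocallyNoetherian (h.fiberToSpecResidueField (h u))
  have hD : DiscreteTopology ↥(h.fiber (h u)) := by
    apply DimZero.discreteTopology_of_forall_specializes_eq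
    intro z z' hzz'
    have hs : h.fiberι (h u) z' ⤳ h.fiberι (h u) z := hzz'.map (h.fiberι (h u)).continuous
    have hz : h (h.fiberι (h u) z) = h u := (h.fiberHomeo (h u) z).2
    have := eq_of_specializes_of_codim_zero (hall _ hz) hs
    exact (h.fiberι (h u)).isEmbedding.injective this
  rw [Scheme.Hom.quasiFiniteAt_iff_isOpen_singleton_asFiber]
  exact isOpen_discrete _

/-- **C5**: a point at which the morphism is quasi-finite has no proper specializations inside its fibre. -/
theorem eq_of_specializes_of_quasiFiniteAt {U V : Scheme.{u}} (h : U ⟶ V) [LocallyOfFiniteType h] {u₀ u : ↥U}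
    (hq : h.QuasiFiniteAt u₀) (hs : u₀ ⤳ u) (hv : h u = h u₀) : u = u₀ := by
  have hcl : IsClosed ({h.asFiber u₀} : Set ↥(h.fiber (h u₀))) := hq.isClopen_singleton_asFiber.1
  let z : ↥(h.fiber (h u₀)) := (h.fiberHomeo (h u₀)).symm ⟨u, hv⟩
  have hz : h.fiberι (h u₀) z = u := h.fiberι_fiberHomeo_symm _ _
  have hsz : h.asFiber u₀ ⤳ z := by
    rw [← (h.fiberι (h u₀)).isEmbedding.toIsInducing.specializes_iff, hz, h.fiberι_asFiber]
    exact hs
  have : z ∈ closure ({h.asFiber u₀} : Set ↥(h.fiber (h u₀))) := specializes_iff_mem_closure.1 hsz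
  rw [hcl.closure_eq, Set.mem_singleton_iff] at this
  rw [← hz, this, h.fiberι_asFiber]

variable {S : Scheme.{u}}

/-- Chart diagrams through a given point. -/
theorem exists_chart_at {X Y : Sp S} (hX : IsAlgSpace X) (hY : IsAlgSpace Y) (f : X ⟶ Y) (x : Points X) :
    ∃ (U V : Over S) (a : (yon S).obj U ⟶ X) (b : (yon S).obj V ⟶ Y) (h : U ⟶ V) (u : ↥U.left),
      RepWith @Etale a ∧ RepWith @Etale b ∧ a ≫ f = (yon S).map h ≫ b ∧ Points.ofPt a u = x := by
  obtain ⟨U₀, a₀, hae, has⟩ := hX.atlas
  obtain ⟨V, b, hbe, hbs⟩ := hY.atlas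
  obtain ⟨U, h, c, h1, h2, -, -, h3⟩ := exists_chart_diagram f b hbe a₀ hae
  obtain ⟨u, hu⟩ := ofPt_surjective_of_surjective _ (h3 hbs has) x
  exact ⟨U, V, _, b, h, u, h1, hbe, h2, hu⟩

/-- The image in the base chart of a point of a chart diagram. -/
theorem ofPt_base_of_chart {X Y : Sp S} (f : X ⟶ Y) {U V : Over S} (a : (yon S).obj U ⟶ X)
    (b : (yon S).obj V ⟶ Y) (h : U ⟶ V) (hc : a ≫ f = (yon S).map h ≫ b) (u : ↥U.left) :
    Points.ofPt b (h.left u) = Points.map f (Points.ofPt a u) := by
  rw [Points.map_ofPt, hc, ofPt_yon_map_comp]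

end Groth.Agent.Lib.Helper16.Codim0Qf
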