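import Groth.Agent.Lib.Helper16.Birat1
import Groth.Agent.Lib.Helper16.QfLocus
import Groth.Agent.Lib.Helper16.ThickOpen
import Groth.Agent.Lib.Helper17.AlgSpAff
import Groth.Agent.S10270
import Groth.Agent.S10194
import Groth.Agent.S10399

/-!
# Helper library (helper16): birational morphisms of decent algebraic spaces, isomorphism over a dense open
-/

set_option autoImplicit false
universe u
open CategoryTheory CategoryTheory.Limits AlgebraicGeometry Opposite Topology TopologicalSpace

namespace Groth.Agent.Lib.Helper16.Birat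

open AlgSp Groth.Agent.Lib.Helper15 Groth.Agent.Lib.Helper16 Groth.Agent.Lib.Helper16.SchLocus

variable {S : Scheme.{u}}

theorem hasAt_dim_zero_iff_mem_genericPoints (X : AlgSp.Space S) (hX : IsDecent X.obj) (x : Points X.obj) :
    HasAt (fun U u => ringKrullDim ↥(U.presheaf.stalk u) = 0) X.obj x ↔
      x ∈ genericPoints (Points X.obj) := by
  rw [← Strata.isGenericPoint_component_iff X.property hX x]
  constructor
  · rintro ⟨T, hT, hx⟩
    show closure {x} ∈ irreducibleComponents _
    rw [hx.def]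
    exact hT
  · intro h
    exact ⟨closure {x}, h, isGenericPoint_closure⟩

theorem quasiFiniteAt_of_isIso_stalkMap {A B : Scheme.{u}} (g : A ⟶ B) (u : A)
    (h : IsIso (g.stalkMap u)) : g.QuasiFiniteAt u := by
  have hs : Function.Surjective (g.stalkMap u).hom := by
    intro b
    refine ⟨(inv (g.stalkMap u)).hom b, ?_⟩
    simp
  exact RingHom.QuasiFinite.of_finite (RingHom.Finite.of_surjective _ hs)

open W4stk3decentspacesp2 in
/-- For a birational morphism locally of finite type, only generic points map to generic points. -/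
theorem mem_genericPoints_of_map_mem {X Y : AlgSp.Space S} (f : X ⟶ Y) (hX : IsDecent X.obj)
    (hY : IsDecent Y.obj) (hf : IsBirational f.hom) (hlft : LocP @LocallyOfFiniteType f.hom)
    (x : Points X.obj) (hx : Points.map f.hom x ∈ genericPoints (Points Y.obj)) :
    x ∈ genericPoints (Points X.obj) := by
  rw [← hasAt_dim_zero_iff_mem_genericPoints X hX]
  have hy := (hasAt_dim_zero_iff_mem_genericPoints Y hY _).2 hx
  refine (Groth.Agent.S10399.result f hlft _ hy).2 ?_ x rfl
  intro x' _ hx'
  have hx'g := (hasAt_dim_zero_iff_mem_genericPoints X hX x').1 hx'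
  obtain ⟨U₁, V₁, a₁, b₁, g₁, u₁, ha₁, hb₁, hc₁, hu₁, hiso⟩ := hf.stalkIso x' hx'g
  have hae := repWith_mono SchLocus.isOpenImmersion_le_etale a₁ ha₁
  have hbe := repWith_mono SchLocus.isOpenImmersion_le_etale b₁ hb₁
  rw [← QfAt.mem_qfLocus_iff_hasAtMor_open f.hom hlft, ← hu₁,
    QfAt.mem_qfLocus_iff f.hom hlft a₁ b₁ g₁ hae hbe hc₁ u₁]
  exact quasiFiniteAt_of_isIso_stalkMap _ _ hiso

theorem isClosedMap_of_isFiniteMor {X' V : AlgSp.Space S} (fst : X' ⟶ V) (hfin : IsFiniteMor fst.hom) :
    IsClosedMap (Points.map fst.hom) := by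
  have hint : IsIntegralMor fst.hom :=
    Groth.Agent.Lib.Helper17.affP_mono (Q := @IsFinite) (Q' := @IsIntegralHom)
      (fun _ _ k hk => by
        have : IsFinite k := hk
        exact (inferInstance : IsIntegralHom k)) hfin
  have huc : IsUnivClosedMor fst.hom := ((Groth.Agent.S10270.result fst).1 hint).2
  exact huc V.property (𝟙 V.obj) (𝟙 X'.obj) fst.hom IsPullback.of_id_fst

/-- If an open-immersion chart diagram of `f` is an isomorphism and contains the whole preimage of an open
of its target, then `f` is an isomorphism over that open. -/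
theorem isIso_snd_of_model {X Y : AlgSp.Space S} (f : X ⟶ Y) {U V : Over S}
    (a : (yon S).obj U ⟶ X.obj) (b : (yon S).obj V ⟶ Y.obj) (g : U ⟶ V)
    (ha : RepWith @IsOpenImmersion a) (hb : RepWith @IsOpenImmersion b)
    (hc : a ≫ f.hom = (yon S).map g ≫ b) (hg : IsIso g.left) (O : V.left.Opens)
    (hK : ∀ x : Points X.obj, Points.map f.hom x ∈ Points.ofPt b '' (O : Set ↥V.left) →
      x ∈ Set.range (Points.ofPt a))
    {P : Sp S} (fst : P ⟶ X.obj) (snd : P ⟶ (yon S).obj (overOpen V O))
    (sq : IsPullback fst snd f.hom ((yon S).map (overOpenι V O) ≫ b)) : IsIso snd := by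
  have hgi : IsIso g := by
    have : IsIso ((Over.forget S).map g) := hg
    exact isIso_of_reflects_iso g (Over.forget S)
  have hmb : Mono b := mono_of_repWith_isOpenImmersion b hb
  have hs : ((yon S).map (overOpenι V O ≫ inv g) ≫ a) ≫ f.hom =
      𝟙 _ ≫ (yon S).map (overOpenι V O) ≫ b := by
    rw [Category.assoc, hc, ← Category.assoc, ← Functor.map_comp, Category.assoc, IsIso.inv_hom_id,
      Category.comp_id, Category.id_comp]
  refine ⟨sq.lift _ _ hs, ?_, sq.lift_snd _ _ _⟩
  apply sq.hom_ext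
  · rw [Category.assoc, sq.lift_fst, Category.id_comp]
    apply sp_hom_ext
    intro T ξ
    obtain ⟨ψ, hψ⟩ := (yon S).map_surjective (ξ ≫ snd)
    have hw : (ξ ≫ fst) ≫ f.hom = (yon S).map (ψ ≫ overOpenι V O) ≫ b := by
      rw [Category.assoc, sq.w, ← Category.assoc, ← hψ, Functor.map_comp, Category.assoc]
    have hpts : Set.range (Points.map (ξ ≫ fst)) ⊆ Set.range (Points.map a) := by
      rw [range_map_yon, range_map_yon]
      rintro _ ⟨t, rfl⟩
      apply hK
      rw [Points.map_ofPt, hw, ofPt_yon_map_comp]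
      exact ⟨_, (ψ.left t).2, rfl⟩
    obtain ⟨k, hk⟩ := (Groth.Agent.S10194.result
      (ObjectProperty.homMk a : (⟨(yon S).obj U, IsAlgSpace.yon_obj U⟩ : AlgSp.Space S) ⟶ X) ha
      (ObjectProperty.homMk (ξ ≫ fst) :
        (⟨(yon S).obj T, IsAlgSpace.yon_obj T⟩ : AlgSp.Space S) ⟶ X)).2 hpts
    have hk' : k.hom ≫ a = ξ ≫ fst := congrArg (fun m => m.hom) hk
    obtain ⟨φ, hφ⟩ := (yon S).map_surjective k.hom
    have h1 : (yon S).map (φ ≫ g) ≫ b = (yon S).map (ψ ≫ overOpenι V O) ≫ b := by
      rw [Functor.map_comp, Category.assoc, ← hc, ← Category.assoc, hφ, hk', hw]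
    have h2 : φ ≫ g = ψ ≫ overOpenι V O := (yon S).map_injective ((cancel_mono b).1 h1)
    have h3 : φ = ψ ≫ overOpenι V O ≫ inv g := by
      rw [← Category.assoc, ← h2, Category.assoc, IsIso.hom_inv_id, Category.comp_id]
    rw [← Category.assoc, ← hψ, ← Category.assoc, ← Functor.map_comp, ← h3, hφ, hk']
  · rw [Category.assoc, sq.lift_snd, Category.comp_id, Category.id_comp]

/-- The main construction: a birational morphism which is an isomorphism between dense open subschemes and finite
over a dense open is an isomorphism over a dense open. -/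
theorem exists_dense_open_isIso_pullback {X Y : AlgSp.Space S} (f : X ⟶ Y)
    (hY : IsDecent Y.obj)
    (hXf : (irreducibleComponents (Points X.obj)).Finite)
    (hYf : (irreducibleComponents (Points Y.obj)).Finite)
    (hF : ∀ x : Points X.obj, Points.map f.hom x ∈ genericPoints (Points Y.obj) →
      x ∈ genericPoints (Points X.obj))
    {U V : Over S} (a : (yon S).obj U ⟶ X.obj) (b : (yon S).obj V ⟶ Y.obj) (g : U ⟶ V)
    (ha : RepWith @IsOpenImmersion a) (hb : RepWith @IsOpenImmersion b)
    (hdA : Dense (Set.range (Points.ofPt a))) (hdB : Dense (Set.range (Points.ofPt b)))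
    (hc : a ≫ f.hom = (yon S).map g ≫ b) (hg : IsIso g.left)
    {Vf X' : AlgSp.Space S} (j : Vf ⟶ Y) (fst : X' ⟶ Vf) (snd : X' ⟶ X)
    (hj : RepWith @IsOpenImmersion j.hom) (hdj : Dense (Set.range (Points.map j.hom)))
    (sq : IsPullback fst.hom snd.hom j.hom f.hom) (hfin : IsFiniteMor fst.hom) :
    ∃ (V : Over S) (b : (yon S).obj V ⟶ Y.obj), RepWith @IsOpenImmersion b ∧
      Dense (Set.range (Points.ofPt b)) ∧
        ∀ ⦃P : Sp S⦄ (fst : P ⟶ X.obj) (snd : P ⟶ (yon S).obj V),
          IsPullback fst snd f.hom b → IsIso snd := by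
  have hQY : QuasiSober (Points Y.obj) := Strata.quasiSober_points_of_isDecent Y.property hY
  have hcl := isClosedMap_of_isFiniteMor fst hfin
  have hjo : IsOpenMap (Points.map j.hom) := Thick.isOpenMap_points_of_openImmersion Y.property j.hom hj
  have hAo : IsOpen (Set.range (Points.ofPt a)) := (isOpenEmbedding_ofPt a ha).isOpen_range
  have hBo : IsOpen (Set.range (Points.ofPt b)) := (isOpenEmbedding_ofPt b hb).isOpen_range
  have hC'c : IsClosed (Points.map snd.hom ⁻¹' (Set.range (Points.ofPt a))ᶜ) :=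
    (hAo.isClosed_compl).preimage (Points.continuous_map snd.hom)
  have hDc : IsClosed (Points.map fst.hom '' (Points.map snd.hom ⁻¹' (Set.range (Points.ofPt a))ᶜ)) :=
    hcl _ hC'c
  have hEo : IsOpen (Points.map j.hom ''
      (Points.map fst.hom '' (Points.map snd.hom ⁻¹' (Set.range (Points.ofPt a))ᶜ))ᶜ) :=
    hjo _ hDc.isOpen_compl
  have hB'o : IsOpen (Set.range (Points.ofPt b) ∩ Points.map j.hom ''
      (Points.map fst.hom '' (Points.map snd.hom ⁻¹' (Set.range (Points.ofPt a))ᶜ))ᶜ) :=
    hBo.inter hEo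
  have hK : ∀ x : Points X.obj, Points.map f.hom x ∈ (Set.range (Points.ofPt b) ∩ Points.map j.hom ''
      (Points.map fst.hom '' (Points.map snd.hom ⁻¹' (Set.range (Points.ofPt a))ᶜ))ᶜ) →
      x ∈ Set.range (Points.ofPt a) := by
    rintro x ⟨-, v, hvD, hv⟩
    by_contra hxA
    apply hvD
    obtain ⟨z, hz1, hz2⟩ := exists_point_of_isPullback sq v x hv
    refine ⟨z, ?_, hz1⟩
    show Points.map snd.hom z ∈ (Set.range (Points.ofPt a))ᶜ
    rw [hz2]
    exact hxA
  have hgen : genericPoints (Points Y.obj) ⊆ (Set.range (Points.ofPt b) ∩ Points.map j.hom ''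
      (Points.map fst.hom '' (Points.map snd.hom ⁻¹' (Set.range (Points.ofPt a))ᶜ))ᶜ) := by
    intro y hy
    have hyB : y ∈ Set.range (Points.ofPt b) :=
      mem_of_dense_of_isOpen_of_mem_genericPoints hYf hBo hdB hy
    have hyj : y ∈ Set.range (Points.map j.hom) :=
      mem_of_dense_of_isOpen_of_mem_genericPoints hYf hjo.isOpen_range hdj hy
    obtain ⟨v, rfl⟩ := hyj
    refine ⟨hyB, v, ?_, rfl⟩
    rintro ⟨z, hz, rfl⟩
    apply hz
    have h1 : Points.map f.hom (Points.map snd.hom z) = Points.map j.hom (Points.map fst.hom z) := by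
      rw [← Points.map_comp, ← Points.map_comp, sq.w]
    have h2 : Points.map snd.hom z ∈ genericPoints (Points X.obj) := hF _ (by rw [h1]; exact hy)
    exact mem_of_dense_of_isOpen_of_mem_genericPoints hXf hAo hdA h2
  let O : V.left.Opens := ⟨Points.ofPt b ⁻¹' (Set.range (Points.ofPt b) ∩ Points.map j.hom ''
      (Points.map fst.hom '' (Points.map snd.hom ⁻¹' (Set.range (Points.ofPt a))ᶜ))ᶜ),
    hB'o.preimage (Points.continuous_ofPt b)⟩
  refine ⟨overOpen V O, (yon S).map (overOpenι V O) ≫ b, ?_, ?_, ?_⟩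
  · exact (RepWith @IsOpenImmersion).comp_mem _ _
      ((repWith_yon_map_iff _ _).2 (by change IsOpenImmersion O.ι; infer_instance)) hb
  · apply dense_of_genericPoints_subset_closure
    intro y hy
    apply subset_closure
    have hy' := hgen hy
    obtain ⟨t, rfl⟩ := hy'.1
    refine ⟨(⟨t, hy'⟩ : ↥O), ?_⟩
    rw [ofPt_yon_map_comp]
    rfl
  · intro P fst' snd' sqP
    refine isIso_snd_of_model f a b g ha hb hc hg O ?_ fst' snd' sqP
    rintro x ⟨t, ht, hx⟩
    apply hK x
    rw [← hx]
    exact ht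

end Groth.Agent.Lib.Helper16.Birat
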