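import Groth.Agent.Lib.Helper16.Birat2
import Groth.Agent.Lib.Helper16.Codim0Qf
import Groth.Agent.Lib.Helper11.Birat1
import Groth.Agent.S9677

/-!
# Helper library (helper16): birational morphisms of decent spaces, base change to the local ring at a generic point
-/

set_option autoImplicit false
universe u
open CategoryTheory CategoryTheory.Limits AlgebraicGeometry Opposite Topology TopologicalSpace

namespace Groth.Agent.Lib.Helper16.Birat

open AlgSp Groth.Agent.Lib.Helper15 Groth.Agent.Lib.Helper16 Groth.Agent.Lib.Helper16.SchLocus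

/-- A point whose residue field is algebraic over the residue field of its image has no proper specialization
in its fibre. -/
theorem specializes_of_residueFieldMap_isIntegral {X Y : Scheme.{u}} (f : X ⟶ Y) {x x' : X}
    (h : x ⤳ x') (hf : f x = f x') (halg : (f.residueFieldMap x).hom.IsIntegral) : x' ⤳ x := by
  obtain ⟨_, ⟨U, hU, rfl⟩, hxU', -⟩ :=
    X.isBasis_affineOpens.exists_subset_of_mem_open (Set.mem_univ x') isOpen_univ
  have hxU : x ∈ U := h.mem_open U.2 hxU'
  rw [specializes_iff_forall_open]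
  intro W hW hxW
  obtain ⟨b, hbW, hxb⟩ := hU.exists_basicOpen_le (V := ⟨W, hW⟩) ⟨x, hxW⟩ hxU
  apply hbW
  by_contra hx'b
  have hbu : IsUnit (X.presheaf.germ U x hxU b) := (X.mem_basicOpen b x hxU).1 hxb
  have hb'n : ¬ IsUnit (X.presheaf.germ U x' hxU' b) := fun hu =>
    hx'b ((X.mem_basicOpen b x' hxU').2 hu)
  have hβ : (X.residue x).hom (X.presheaf.germ U x hxU b) ≠ 0 :=
    (IsLocalRing.residue_ne_zero_iff_isUnit _).2 hbu
  obtain ⟨Q, hQm, hQ⟩ := halg ((X.residue x).hom (X.presheaf.germ U x hxU b))⁻¹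
  let _ : Invertible ((X.residue x).hom (X.presheaf.germ U x hxU b))⁻¹ :=
    invertibleOfNonzero (inv_ne_zero hβ)
  have hR : Polynomial.eval₂ (f.residueFieldMap x).hom ((X.residue x).hom (X.presheaf.germ U x hxU b))
      Q.reverse = 0 := by
    have := (Polynomial.eval₂_reverse_eq_zero_iff (f.residueFieldMap x).hom
      ((X.residue x).hom (X.presheaf.germ U x hxU b))⁻¹ Q).2 hQ
    rwa [invOf_eq_inv, inv_inv] at this
  have hR0 : Q.reverse.coeff 0 = 1 := by
    rw [Polynomial.coeff_zero_reverse]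
    exact hQm
  obtain ⟨R₁, hR₁⟩ := Polynomial.map_surjective (Y.residue (f x)).hom
    (Y.residue_surjective (f x)) Q.reverse
  have ha₀ : IsUnit (R₁.coeff 0) := by
    have h1 : (Y.residue (f x)).hom (R₁.coeff 0) = 1 := by
      rw [← Polynomial.coeff_map, hR₁, hR0]
    have h2 : IsLocalRing.residue _ (R₁.coeff 0) ≠ 0 := by
      show (Y.residue (f x)).hom (R₁.coeff 0) ≠ 0
      rw [h1]
      exact one_ne_zero
    exact (IsLocalRing.residue_ne_zero_iff_isUnit _).1 h2
  have hcomp : (X.residue x).hom.comp (f.stalkMap x).hom =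
      (f.residueFieldMap x).hom.comp (Y.residue (f x)).hom := by
    have := congrArg (fun m => m.hom) (Scheme.residue_residueFieldMap f x)
    exact this.symm
  have he : (X.residue x).hom (Polynomial.eval₂ (f.stalkMap x).hom (X.presheaf.germ U x hxU b) R₁) = 0 := by
    rw [Polynomial.hom_eval₂, hcomp, ← Polynomial.eval₂_map, hR₁]
    exact hR
  have hen : ¬ IsUnit (Polynomial.eval₂ (f.stalkMap x).hom (X.presheaf.germ U x hxU b) R₁) := by
    intro hu
    exact (IsLocalRing.residue_ne_zero_iff_isUnit _).2 hu he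
  -- transfer to `x'`
  have hinv : Y.presheaf.stalkSpecializes (specializes_of_eq hf.symm) ≫
      Y.presheaf.stalkSpecializes (f.base.hom.map_specializes h) = 𝟙 _ := by
    rw [TopCat.Presheaf.stalkSpecializes_comp]
    exact TopCat.Presheaf.stalkSpecializes_refl _ _
  have hnat : Y.presheaf.stalkSpecializes (f.base.hom.map_specializes h) ≫ f.stalkMap x =
      f.stalkMap x' ≫ X.presheaf.stalkSpecializes h := Scheme.Hom.stalkSpecializes_stalkMap f x x' h
  have hmap : (R₁.map (Y.presheaf.stalkSpecializes (specializes_of_eq hf.symm)).hom).map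
      (Y.presheaf.stalkSpecializes (f.base.hom.map_specializes h)).hom = R₁ := by
    rw [Polynomial.map_map]
    have h1 : (Y.presheaf.stalkSpecializes (f.base.hom.map_specializes h)).hom.comp
        (Y.presheaf.stalkSpecializes (specializes_of_eq hf.symm)).hom = RingHom.id _ :=
      congrArg (fun m => m.hom) hinv
    rw [h1, Polynomial.map_id]
  have hg : (X.presheaf.stalkSpecializes h).hom (X.presheaf.germ U x' hxU' b) =
      X.presheaf.germ U x hxU b :=
    congrArg (fun m => m.hom b) (TopCat.Presheaf.germ_stalkSpecializes X.presheaf hxU' h)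
  have hnat' : (X.presheaf.stalkSpecializes h).hom.comp (f.stalkMap x').hom =
      (f.stalkMap x).hom.comp (Y.presheaf.stalkSpecializes (f.base.hom.map_specializes h)).hom :=
    (congrArg (fun m => m.hom) hnat).symm
  have hσ : (X.presheaf.stalkSpecializes h).hom
      (Polynomial.eval₂ (f.stalkMap x').hom (X.presheaf.germ U x' hxU' b)
        (R₁.map (Y.presheaf.stalkSpecializes (specializes_of_eq hf.symm)).hom)) =
      Polynomial.eval₂ (f.stalkMap x).hom (X.presheaf.germ U x hxU b) R₁ := by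
    rw [Polynomial.hom_eval₂, hg, hnat', ← Polynomial.eval₂_map, hmap]
  have hE'n : ¬ IsUnit (Polynomial.eval₂ (f.stalkMap x').hom (X.presheaf.germ U x' hxU' b)
      (R₁.map (Y.presheaf.stalkSpecializes (specializes_of_eq hf.symm)).hom)) := by
    intro hu
    apply hen
    rw [← hσ]
    exact hu.map _
  have hdecomp : Polynomial.eval₂ (f.stalkMap x').hom (X.presheaf.germ U x' hxU' b)
      (R₁.map (Y.presheaf.stalkSpecializes (specializes_of_eq hf.symm)).hom) =
      Polynomial.eval₂ (f.stalkMap x').hom (X.presheaf.germ U x' hxU' b)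
        (Polynomial.divX (R₁.map (Y.presheaf.stalkSpecializes (specializes_of_eq hf.symm)).hom)) *
        X.presheaf.germ U x' hxU' b +
      (f.stalkMap x').hom ((Y.presheaf.stalkSpecializes (specializes_of_eq hf.symm)).hom (R₁.coeff 0)) := by
    conv_lhs => rw [← Polynomial.divX_mul_X_add
      (R₁.map (Y.presheaf.stalkSpecializes (specializes_of_eq hf.symm)).hom)]
    rw [Polynomial.eval₂_add, Polynomial.eval₂_mul, Polynomial.eval₂_X, Polynomial.eval₂_C,
      Polynomial.coeff_map]
  have hm1 := (IsLocalRing.mem_maximalIdeal _).2 hE'n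
  have hm2 : X.presheaf.germ U x' hxU' b ∈ IsLocalRing.maximalIdeal (X.presheaf.stalk x') :=
    (IsLocalRing.mem_maximalIdeal _).2 hb'n
  have hm3 : (f.stalkMap x').hom ((Y.presheaf.stalkSpecializes (specializes_of_eq hf.symm)).hom
      (R₁.coeff 0)) ∈ IsLocalRing.maximalIdeal (X.presheaf.stalk x') := by
    have h1 := Ideal.sub_mem _ hm1 (Ideal.mul_mem_left _
      (Polynomial.eval₂ (f.stalkMap x').hom (X.presheaf.germ U x' hxU' b)
        (Polynomial.divX (R₁.map (Y.presheaf.stalkSpecializes (specializes_of_eq hf.symm)).hom))) hm2)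
    rw [hdecomp, add_sub_cancel_left] at h1
    exact h1
  exact (IsLocalRing.mem_maximalIdeal _).1 hm3 ((ha₀.map _).map _)

theorem isIntegral_residueFieldMap_of_isIso_stalkMap {A B : Scheme.{u}} (g : A ⟶ B) (a : A)
    (h : IsIso (g.stalkMap a)) : (g.residueFieldMap a).hom.IsIntegral := by
  apply RingHom.isIntegral_of_surjective
  intro z
  obtain ⟨s, rfl⟩ := A.residue_surjective a z
  have hs : Function.Surjective (g.stalkMap a).hom := by
    intro b
    refine ⟨(inv (g.stalkMap a)).hom b, ?_⟩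
    simp
  obtain ⟨t, rfl⟩ := hs s
  refine ⟨(B.residue (g a)).hom t, ?_⟩
  exact congrArg (fun m => m.hom t) (Scheme.residue_residueFieldMap g a)

theorem isIntegral_residueFieldMap_of_etale {A B : Scheme.{u}} (c : A ⟶ B) [Etale c] (a : A) :
    (c.residueFieldMap a).hom.IsIntegral := by
  let _ : Algebra (B.residueField (c a)) (A.residueField a) := (c.residueFieldMap a).hom.toAlgebra
  have hsep : Algebra.IsSeparable (B.residueField (c a)) (A.residueField a) := inferInstance
  intro z
  exact Algebra.IsSeparable.isIntegral (B.residueField (c a)) z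

theorem isIntegral_of_comp_injective {A B C : Type*} [CommRing A] [CommRing B] [CommRing C]
    (φ₁ : A →+* B) (φ₂ : B →+* C) (h₂ : Function.Injective φ₂) (h : (φ₂.comp φ₁).IsIntegral) :
    φ₁.IsIntegral := by
  intro z
  obtain ⟨p, hp, hpz⟩ := h (φ₂ z)
  refine ⟨p, hp, h₂ ?_⟩
  rw [Polynomial.hom_eval₂, map_zero]
  exact hpz

/-- If the projection of a fibre product onto `T` is an isomorphism, `T ⟶ B` lifts uniquely along `g`. -/
theorem exists_section_of_isIso_snd {A B T : Scheme.{u}} (g : A ⟶ B) (t : T ⟶ B)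
    (h : IsIso (pullback.snd g t)) :
    ∃ s : T ⟶ A, s ≫ g = t ∧ ∀ {Z : Scheme.{u}} (φ : Z ⟶ A) (ψ : Z ⟶ T), φ ≫ g = ψ ≫ t → φ = ψ ≫ s := by
  refine ⟨inv (pullback.snd g t) ≫ pullback.fst g t, ?_, ?_⟩
  · rw [Category.assoc, pullback.condition, ← Category.assoc, IsIso.inv_hom_id, Category.id_comp]
  · intro Z φ ψ hl
    have e1 : pullback.lift φ ψ hl ≫ pullback.fst _ _ = φ := pullback.lift_fst _ _ _
    have e2 : pullback.lift φ ψ hl ≫ pullback.snd _ _ = ψ := pullback.lift_snd _ _ _
    calc φ = pullback.lift φ ψ hl ≫ pullback.fst _ _ := e1.symm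
      _ = pullback.lift φ ψ hl ≫ pullback.snd g t ≫ inv (pullback.snd g t) ≫ pullback.fst g t := by
          rw [IsIso.hom_inv_id_assoc]
      _ = ψ ≫ (inv (pullback.snd g t) ≫ pullback.fst g t) := by rw [← Category.assoc, e2]

variable {S : Scheme.{u}}

/-- Factoring a chart through an open subscheme chart. -/
theorem exists_factor_yon_of_range_subset {Y : AlgSp.Space S} {V W : Over S} (b : (yon S).obj V ⟶ Y.obj)
    (hb : RepWith @IsOpenImmersion b) (q : (yon S).obj W ⟶ Y.obj)
    (h : ∀ t, Points.ofPt q t ∈ Set.range (Points.ofPt b)) :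
    ∃ k : W ⟶ V, (yon S).map k ≫ b = q := by
  have hpts : Set.range (Points.map q) ⊆ Set.range (Points.map b) := by
    rw [range_map_yon, range_map_yon]
    rintro _ ⟨t, rfl⟩
    exact h t
  obtain ⟨k, hk⟩ := (Groth.Agent.S10194.result
    (ObjectProperty.homMk b : (⟨(yon S).obj V, IsAlgSpace.yon_obj V⟩ : AlgSp.Space S) ⟶ Y) hb
    (ObjectProperty.homMk q : (⟨(yon S).obj W, IsAlgSpace.yon_obj W⟩ : AlgSp.Space S) ⟶ Y)).2 hpts
  have hk' : k.hom ≫ b = q := congrArg (fun m => m.hom) hk
  obtain ⟨φ, hφ⟩ := (yon S).map_surjective k.hom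
  exact ⟨φ, by rw [hφ, hk']⟩

open W4stk3decentspacesp2 in
/-- All points over a generic point of the target of a birational morphism are generic. -/
theorem mem_genericPoints_of_map_mem' {X Y : AlgSp.Space S} (f : X ⟶ Y) (hX : IsDecent X.obj)
    (hY : IsDecent Y.obj) (hf : IsBirational f.hom) (x' : Points X.obj)
    (hx' : Points.map f.hom x' ∈ genericPoints (Points Y.obj)) :
    x' ∈ genericPoints (Points X.obj) := by
  have hQY : QuasiSober (Points Y.obj) := Strata.quasiSober_points_of_isDecent Y.property hY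
  obtain ⟨x₀, hx₀, hx₀y⟩ := hf.bijOn.surjOn hx'
  obtain ⟨U₁, V₁, a₁, b₁, g₁, u₁, ha₁, hb₁, hc₁, hu₁, hiso⟩ := hf.stalkIso x₀ hx₀
  have heb := isOpenEmbedding_ofPt b₁ hb₁
  have hy₁ : Points.map f.hom x₀ = Points.ofPt b₁ (g₁.left u₁) := by
    rw [← hu₁, Points.map_ofPt, hc₁, ofPt_yon_map_comp]
  obtain ⟨W₀, p, hpe, hps⟩ := X.property.atlas
  obtain ⟨w₀', hw₀'⟩ := ofPt_surjective_of_surjective p hps x'
  let O : W₀.left.Opens := ⟨Points.ofPt p ⁻¹' (Points.map f.hom ⁻¹' Set.range (Points.ofPt b₁)),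
    (heb.isOpen_range.preimage (Points.continuous_map f.hom)).preimage (Points.continuous_ofPt p)⟩
  have hpWe : RepWith @Etale ((yon S).map (overOpenι W₀ O) ≫ p) := repWith_etale_restrict p hpe O
  obtain ⟨h, hh⟩ := exists_factor_yon_of_range_subset b₁ hb₁
    (((yon S).map (overOpenι W₀ O) ≫ p) ≫ f.hom) (by
      intro t
      have h1 : Points.ofPt (((yon S).map (overOpenι W₀ O) ≫ p) ≫ f.hom) t =
          Points.map f.hom (Points.ofPt p ((overOpenι W₀ O).left t)) := by
        rw [← ofPt_yon_map_comp]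
        rfl
      rw [h1]
      exact t.2)
  have hw₀O : w₀' ∈ O := by
    show Points.map f.hom (Points.ofPt p w₀') ∈ Set.range (Points.ofPt b₁)
    rw [hw₀', ← hx₀y, hy₁]
    exact ⟨_, rfl⟩
  have hcommW : ∀ t : ↥(overOpen W₀ O).left,
      Points.map f.hom (Points.ofPt ((yon S).map (overOpenι W₀ O) ≫ p) t) =
        Points.ofPt b₁ (h.left t) := by
    intro t
    rw [Points.map_ofPt, ← hh, ofPt_yon_map_comp]
  have hw' : Points.ofPt ((yon S).map (overOpenι W₀ O) ≫ p) (⟨w₀', hw₀O⟩ : ↥O) = x' := by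
    rw [ofPt_yon_map_comp]
    exact hw₀'
  have hhw' : h.left (⟨w₀', hw₀O⟩ : ↥O) = g₁.left u₁ := by
    apply heb.injective
    rw [← hcommW, hw', ← hy₁, hx₀y]
  have hv₁ : closure {g₁.left u₁} ∈ irreducibleComponents ↥V₁.left := by
    refine (mem_genericPoints_iff_of_isOpenEmbedding heb _).2 ?_
    rw [← hy₁]
    exact hf.bijOn.mapsTo hx₀
  obtain ⟨w, hws, hwd⟩ := Codim0Qf.exists_specializes_codim_zero (U := (overOpen W₀ O).left) (⟨w₀', hw₀O⟩ : ↥O)
  have hhw : h.left w = g₁.left u₁ := by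
    apply Groth.Agent.Lib.Helper11.Birat.eq_of_specializes_of_mem_irreducibleComponents hv₁
    rw [← hhw']
    exact hws.map h.left.continuous
  have hxw : Points.ofPt ((yon S).map (overOpenι W₀ O) ≫ p) w ∈ genericPoints (Points X.obj) :=
    (hasAt_dim_zero_iff_mem_genericPoints X hX _).1 ⟨_, _, w, hpWe, rfl, hwd⟩
  have hxw₀ : Points.ofPt ((yon S).map (overOpenι W₀ O) ≫ p) w = x₀ := by
    apply hf.bijOn.injOn hxw hx₀
    rw [hcommW, hhw, hy₁]
  obtain ⟨R, j, fstR, sqR⟩ := ha₁.rep ((yon S).map (overOpenι W₀ O) ≫ p)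
  obtain ⟨c, rfl⟩ := (yon S).map_surjective fstR
  have hj : IsOpenImmersion j.left := ha₁.property _ _ _ sqR
  have hce : Etale c.left := hpWe.property _ _ _ sqR.flip
  obtain ⟨r, hr1, hr2⟩ := exists_point_of_isPullback_yon_yon sqR u₁ w (by rw [hu₁, hxw₀])
  have hmb : Mono b₁ := mono_of_repWith_isOpenImmersion b₁ hb₁
  have hjh : j ≫ h = c ≫ g₁ := by
    apply (yon S).map_injective
    have e : (yon S).map j ≫ (((yon S).map (overOpenι W₀ O) ≫ p) ≫ f.hom) =
        (yon S).map c ≫ (a₁ ≫ f.hom) := by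
      rw [← Category.assoc, ← sqR.w, Category.assoc]
    rw [← cancel_mono b₁, Functor.map_comp, Functor.map_comp, Category.assoc, Category.assoc, hh,
      ← hc₁]
    exact e
  have hjhl : j.left ≫ h.left = c.left ≫ g₁.left := by
    rw [← Over.comp_left, ← Over.comp_left, hjh]
  subst hr1
  subst hr2
  have hint : ((j.left ≫ h.left).residueFieldMap r).hom.IsIntegral := by
    rw [hjhl, Scheme.residueFieldMap_comp]
    exact RingHom.IsIntegral.trans _ _ (isIntegral_residueFieldMap_of_isIso_stalkMap _ _ hiso)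
      (isIntegral_residueFieldMap_of_etale _ _)
  rw [Scheme.residueFieldMap_comp] at hint
  have hint' : (h.left.residueFieldMap (j.left r)).hom.IsIntegral :=
    isIntegral_of_comp_injective _ _ (j.left.residueFieldMap r).hom.injective hint
  have hsp := specializes_of_residueFieldMap_isIntegral h.left hws (hhw.trans hhw'.symm) hint'
  have heq : j.left r = (⟨w₀', hw₀O⟩ : ↥(overOpen W₀ O).left) := (hws.antisymm hsp).eq
  rw [← hw', ← heq]
  exact hxw

open W4stk3decentspacesp2 in
/-- Properties of a scheme model of a birational morphism over a given open subscheme of the target. -/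
theorem model_props' {X Y : AlgSp.Space S} (f : X ⟶ Y) (hX : IsDecent X.obj) (hY : IsDecent Y.obj)
    (hXf : (irreducibleComponents (Points X.obj)).Finite)
    (hYf : (irreducibleComponents (Points Y.obj)).Finite)
    (hf : IsBirational f.hom)
    {U V : Over S} (a : (yon S).obj U ⟶ X.obj) (b : (yon S).obj V ⟶ Y.obj) (g : U ⟶ V)
    (ha : RepWith @IsOpenImmersion a) (hb : RepWith @IsOpenImmersion b)
    (hc : a ≫ f.hom = (yon S).map g ≫ b)
    (hgX : ∀ x ∈ genericPoints (Points X.obj), Points.map f.hom x ∈ Set.range (Points.ofPt b) →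
      x ∈ Set.range (Points.ofPt a)) :
    (irreducibleComponents ↥U.left).Finite ∧ (irreducibleComponents ↥V.left).Finite ∧
    Set.BijOn (fun x : U.left => g.left.base x)
      {x : U.left | closure {x} ∈ irreducibleComponents ↥U.left}
      {y : V.left | closure {y} ∈ irreducibleComponents ↥V.left} ∧
    ∀ x : U.left, closure {x} ∈ irreducibleComponents ↥U.left → IsIso (g.left.stalkMap x) := by
  have hT0X : T0Space (Points X.obj) := Groth.Agent.S10338.result X hX
  have hT0Y : T0Space (Points Y.obj) := Groth.Agent.S10338.result Y hY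
  have hQX : QuasiSober (Points X.obj) := Strata.quasiSober_points_of_isDecent X.property hX
  have hQY : QuasiSober (Points Y.obj) := Strata.quasiSober_points_of_isDecent Y.property hY
  have hea := isOpenEmbedding_ofPt a ha
  have heb := isOpenEmbedding_ofPt b hb
  have hcomm : ∀ x : U.left, Points.map f.hom (Points.ofPt a x) = Points.ofPt b (g.left x) := by
    intro x
    rw [Points.map_ofPt, hc, ofPt_yon_map_comp]
  have iffU := fun x => mem_genericPoints_iff_of_isOpenEmbedding hea x
  have iffV := fun y => mem_genericPoints_iff_of_isOpenEmbedding heb y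
  refine ⟨finite_irreducibleComponents_of_isOpenEmbedding hea hXf,
    finite_irreducibleComponents_of_isOpenEmbedding heb hYf, ⟨?_, ?_, ?_⟩, ?_⟩
  · intro x hx
    have h1 := hf.bijOn.mapsTo ((iffU x).1 hx)
    rw [hcomm] at h1
    exact (iffV _).2 h1
  · intro x hx x' hx' h
    have h' : g.left x = g.left x' := h
    have h1 : Points.map f.hom (Points.ofPt a x) = Points.map f.hom (Points.ofPt a x') := by
      rw [hcomm, hcomm, h']
    exact hea.injective (hf.bijOn.injOn ((iffU x).1 hx) ((iffU x').1 hx') h1)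
  · intro y hy
    obtain ⟨x', hx', hxy⟩ := hf.bijOn.surjOn ((iffV y).1 hy)
    obtain ⟨x, rfl⟩ := hgX x' hx' (by rw [hxy]; exact ⟨y, rfl⟩)
    refine ⟨x, (iffU x).2 hx', ?_⟩
    apply heb.injective
    rw [← hxy, hcomm]
  · intro x hx
    obtain ⟨U₁, V₁, a₁, b₁, g₁, u₁, ha₁, hb₁, hc₁, hu₁, hiso⟩ := hf.stalkIso _ ((iffU x).1 hx)
    exact isIso_stalkMap_transfer f.hom a₁ b₁ g₁ a b g ha₁ hb₁ ha hb hc₁ hc u₁ x hu₁ hiso

open W4stk3decentspacesp2 in
/-- A scheme model of a birational morphism over a given open subscheme of the target. -/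
theorem exists_scheme_model_over {X Y : AlgSp.Space S} (f : X ⟶ Y) (hf : IsBirational f.hom)
    {V : Over S} (b : (yon S).obj V ⟶ Y.obj) (hb : RepWith @IsOpenImmersion b) :
    ∃ (U : Over S) (a : (yon S).obj U ⟶ X.obj) (g : U ⟶ V),
      RepWith @IsOpenImmersion a ∧ a ≫ f.hom = (yon S).map g ≫ b ∧
      ∀ x ∈ genericPoints (Points X.obj), Points.map f.hom x ∈ Set.range (Points.ofPt b) →
        x ∈ Set.range (Points.ofPt a) := by
  obtain ⟨U₀, ⟨eX⟩⟩ := exists_iso_yon_openSub_schLocus X.property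
  have ha₀ : RepWith @IsOpenImmersion (eX.hom ≫ openSubι X.obj (schLocus X.obj)) :=
    (MorphismProperty.cancel_left_of_respectsIso (RepWith @IsOpenImmersion) eX.hom _).2
      (repWith_isOpenImmersion_openSubι _ (isOpen_schLocus X.obj))
  have hra₀ := range_ofPt_iso_comp_openSubι (schLocus X.obj) eX
  generalize eX.hom ≫ openSubι X.obj (schLocus X.obj) = a₀ at ha₀ hra₀
  have hbo : IsOpen (Set.range (Points.ofPt b)) := (isOpenEmbedding_ofPt b hb).isOpen_range
  let O : U₀.left.Opens := ⟨Points.ofPt a₀ ⁻¹' (Points.map f.hom ⁻¹' Set.range (Points.ofPt b)),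
    (hbo.preimage (Points.continuous_map f.hom)).preimage (Points.continuous_ofPt a₀)⟩
  have ha : RepWith @IsOpenImmersion ((yon S).map (overOpenι U₀ O) ≫ a₀) :=
    (RepWith @IsOpenImmersion).comp_mem _ _
      ((repWith_yon_map_iff _ _).2 (by change IsOpenImmersion O.ι; infer_instance)) ha₀
  obtain ⟨g, hg⟩ := exists_factor_yon_of_range_subset b hb
    (((yon S).map (overOpenι U₀ O) ≫ a₀) ≫ f.hom) (by
      intro t
      have h1 : Points.ofPt (((yon S).map (overOpenι U₀ O) ≫ a₀) ≫ f.hom) t =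
          Points.map f.hom (Points.ofPt a₀ ((overOpenι U₀ O).left t)) := by
        rw [← ofPt_yon_map_comp]
        rfl
      rw [h1]
      exact t.2)
  refine ⟨overOpen U₀ O, _, g, ha, hg.symm, ?_⟩
  intro x hx hxb
  obtain ⟨U₁, V₁, a₁, b₁, g₁, u₁, ha₁, hb₁, hc₁, hu₁, -⟩ := hf.stalkIso x hx
  have h1 : x ∈ schLocus X.obj := range_subset_schLocus a₁ ha₁ ⟨u₁, hu₁⟩
  rw [← hra₀] at h1
  obtain ⟨u₀, rfl⟩ := h1
  refine ⟨(⟨u₀, hxb⟩ : ↥O), ?_⟩
  rw [ofPt_yon_map_comp]
  rfl

open W4stk3decentspacesp2 in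
/-- The base change of a birational morphism to the local ring at a generic point of the target is an isomorphism. -/
theorem isIso_snd_specStalk {X Y : AlgSp.Space S} (f : X ⟶ Y)
    (hX : IsDecent X.obj) (hY : IsDecent Y.obj)
    (hXf : (irreducibleComponents (Points X.obj)).Finite)
    (hYf : (irreducibleComponents (Points Y.obj)).Finite)
    (hf : IsBirational f.hom) {V : Over S} (b : (yon S).obj V ⟶ Y.obj)
    (hb : RepWith @IsOpenImmersion b) (v : ↥V.left)
    (hv : Points.ofPt b v ∈ genericPoints (Points Y.obj)) {P : Sp S} (fst : P ⟶ X.obj)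
    (snd : P ⟶ (yon S).obj (Over.mk (V.left.fromSpecStalk v ≫ V.hom)))
    (hP : IsPullback fst snd f.hom ((yon S).map (Over.homMk (V.left.fromSpecStalk v) rfl) ≫ b)) :
    IsIso snd := by
  have hQY : QuasiSober (Points Y.obj) := Strata.quasiSober_points_of_isDecent Y.property hY
  obtain ⟨U', a', g', ha', hc', hgen'⟩ := exists_scheme_model_over f hf b hb
  obtain ⟨hUf, hVf, hbij, hiso⟩ := model_props' f hX hY hXf hYf hf a' b g' ha' hb hc' hgen'
  have hv' : closure {v} ∈ irreducibleComponents ↥V.left :=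
    (mem_genericPoints_iff_of_isOpenEmbedding (isOpenEmbedding_ofPt b hb) v).2 hv
  have hS : IsIso (pullback.snd g'.left (V.left.fromSpecStalk v)) :=
    Groth.Agent.S9677.result g'.left hUf hVf hbij hiso v hv'
  have hmb : Mono b := mono_of_repWith_isOpenImmersion b hb
  obtain ⟨s₀, hs₀, huniq⟩ := exists_section_of_isIso_snd g'.left (V.left.fromSpecStalk v) hS
  obtain ⟨τ, hτ⟩ : ∃ τ : Over.mk (V.left.fromSpecStalk v ≫ V.hom) ⟶ V,
      τ = Over.homMk (V.left.fromSpecStalk v) rfl := ⟨_, rfl⟩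
  rw [← hτ] at hP
  have hτl : τ.left = V.left.fromSpecStalk v := by
    rw [hτ]
    rfl
  have hsw : s₀ ≫ U'.hom = (Over.mk (V.left.fromSpecStalk v ≫ V.hom)).hom := by
    rw [← Over.w g', ← Category.assoc, hs₀]
    rfl
  have hsτ : Over.homMk s₀ hsw ≫ g' = τ := by
    ext1
    rw [hτl]
    exact hs₀
  have hρ : ((yon S).map (Over.homMk s₀ hsw) ≫ a') ≫ f.hom = 𝟙 _ ≫ (yon S).map τ ≫ b := by
    rw [Category.assoc, hc', ← Category.assoc, ← Functor.map_comp, hsτ, Category.id_comp]
  refine ⟨hP.lift _ _ hρ, ?_, hP.lift_snd _ _ _⟩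
  apply hP.hom_ext
  · rw [Category.assoc, hP.lift_fst, Category.id_comp]
    apply sp_hom_ext
    intro Z ξ
    obtain ⟨ψ, hψ⟩ := (yon S).map_surjective (ξ ≫ snd)
    have hw : (ξ ≫ fst) ≫ f.hom = (yon S).map (ψ ≫ τ) ≫ b := by
      rw [Category.assoc, hP.w, ← Category.assoc, ← hψ, Functor.map_comp, Category.assoc]
    have hpts : ∀ z, Points.ofPt (ξ ≫ fst) z ∈ Set.range (Points.ofPt a') := by
      intro z
      have hmap : Points.map f.hom (Points.ofPt (ξ ≫ fst) z) = Points.ofPt b v := by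
        rw [Points.map_ofPt, hw, ofPt_yon_map_comp]
        congr 1
        have hsp : (ψ ≫ τ).left z ⤳ v := by
          have h1 : (ψ ≫ τ).left z ∈ Set.range (V.left.fromSpecStalk v) := by
            exact ⟨ψ.left z, (congrArg (fun m => (ψ.left ≫ m) z) hτl).symm⟩
          rwa [Scheme.range_fromSpecStalk] at h1
        exact Groth.Agent.Lib.Helper11.Birat.eq_of_specializes_of_mem_irreducibleComponents hv' hsp
      have hgenx := mem_genericPoints_of_map_mem' f hX hY hf _ (by rw [hmap]; exact hv)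
      exact hgen' _ hgenx (by rw [hmap]; exact ⟨v, rfl⟩)
    obtain ⟨φ, hφ⟩ := exists_factor_yon_of_range_subset
      (Y := X) a' ha' (ξ ≫ fst) hpts
    have h1 : (yon S).map (φ ≫ g') ≫ b = (yon S).map (ψ ≫ τ) ≫ b := by
      rw [Functor.map_comp, Category.assoc, ← hc', ← Category.assoc, hφ, hw]
    have h2 : φ ≫ g' = ψ ≫ τ := (yon S).map_injective ((cancel_mono b).1 h1)
    have hl : φ.left ≫ g'.left = ψ.left ≫ V.left.fromSpecStalk v :=
      (congrArg (fun m => m.left) h2).trans (congrArg (fun m => ψ.left ≫ m) hτl)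
    have h3 : φ = ψ ≫ Over.homMk s₀ hsw := by
      ext1
      exact huniq φ.left ψ.left hl
    rw [← Category.assoc, ← hψ, ← Category.assoc, ← Functor.map_comp, ← h3, hφ]
  · rw [Category.assoc, hP.lift_snd, Category.comp_id, Category.id_comp]

end Groth.Agent.Lib.Helper16.Birat
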