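import Groth.Agent.Lib.Helper16.Birat3
import Groth.Agent.Lib.Helper11.Birat1
import Groth.Agent.Lib.Helper16.FiniteFibres
import Groth.Agent.Lib.Helper16.FibreProduct
import Groth.Agent.Lib.Helper16.Decent
import Groth.Agent.S10383

/-!
# Helper library (helper16): base change of birational morphisms along etale charts
-/

set_option autoImplicit false
universe u
open CategoryTheory CategoryTheory.Limits AlgebraicGeometry Opposite Topology TopologicalSpace

namespace Groth.Agent.Lib.Helper16.Birat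

open AlgSp Groth.Agent.Lib.Helper15 Groth.Agent.Lib.Helper16 Groth.Agent.Lib.Helper16.SchLocus

section Sch

/-- If `g` is an isomorphism over `Spec 𝒪_{B, c v'}`, its base change along `c` has a canonical section over
`Spec 𝒪_{B', v'}`, with a uniqueness property. -/
theorem exists_section_stalk_of_isPullback {A B B' P' : Scheme.{u}} {g : A ⟶ B} {c : B' ⟶ B}
    {pr₁ : P' ⟶ A} {pr₂ : P' ⟶ B'} (sq : IsPullback pr₁ pr₂ g c) (v' : B')
    (h : IsIso (pullback.snd g (B.fromSpecStalk (c v')))) :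
    ∃ s : Spec (B'.presheaf.stalk v') ⟶ P', s ≫ pr₂ = B'.fromSpecStalk v' ∧
      ∀ {Z : Scheme.{u}} (φ : Z ⟶ P') (ψ : Z ⟶ Spec (B'.presheaf.stalk v')),
        φ ≫ pr₂ = ψ ≫ B'.fromSpecStalk v' → φ = ψ ≫ s := by
  obtain ⟨s₀, hs₀, huniq⟩ := exists_section_of_isIso_snd g (B.fromSpecStalk (c v')) h
  have hτ : Spec.map (c.stalkMap v') ≫ B.fromSpecStalk (c v') = B'.fromSpecStalk v' ≫ c :=
    Scheme.SpecMap_stalkMap_fromSpecStalk c (x := v')
  have hw : (Spec.map (c.stalkMap v') ≫ s₀) ≫ g = B'.fromSpecStalk v' ≫ c := by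
    rw [Category.assoc, hs₀, hτ]
  refine ⟨sq.lift _ _ hw, sq.lift_snd _ _ _, ?_⟩
  intro Z φ ψ hφ
  apply sq.hom_ext
  · rw [Category.assoc, sq.lift_fst, ← Category.assoc]
    apply huniq
    calc (φ ≫ pr₁) ≫ g = φ ≫ pr₂ ≫ c := by rw [Category.assoc, sq.w]
      _ = (ψ ≫ B'.fromSpecStalk v') ≫ c := by rw [← Category.assoc, hφ]
      _ = (ψ ≫ Spec.map (c.stalkMap v')) ≫ B.fromSpecStalk (c v') := by
          rw [Category.assoc, ← hτ, Category.assoc]
  · rw [Category.assoc, sq.lift_snd, hφ]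

/-- Base change preserves "isomorphism on local rings" in the form: if `g` is an isomorphism over the local ring
of `B` at the image of `p'`, then the projection to `B'` induces an isomorphism of local rings at `p'`. -/
theorem isIso_stalkMap_of_isPullback {A B B' P' : Scheme.{u}} {g : A ⟶ B} {c : B' ⟶ B}
    {pr₁ : P' ⟶ A} {pr₂ : P' ⟶ B'} (sq : IsPullback pr₁ pr₂ g c) (p' : P')
    (h : IsIso (pullback.snd g (B.fromSpecStalk (c (pr₂ p'))))) : IsIso (pr₂.stalkMap p') := by
  obtain ⟨s, hs, huniq⟩ := exists_section_stalk_of_isPullback sq (pr₂ p') h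
  have hσ : Spec.map (pr₂.stalkMap p') ≫ B'.fromSpecStalk (pr₂ p') = P'.fromSpecStalk p' ≫ pr₂ :=
    Scheme.SpecMap_stalkMap_fromSpecStalk pr₂ (x := p')
  have h1 : P'.fromSpecStalk p' = Spec.map (pr₂.stalkMap p') ≫ s := huniq _ _ hσ.symm
  have hcl : s (IsLocalRing.closedPoint (B'.presheaf.stalk (pr₂ p'))) = p' := by
    have e1 : (Spec.map (pr₂.stalkMap p')) (IsLocalRing.closedPoint (P'.presheaf.stalk p')) =
        IsLocalRing.closedPoint (B'.presheaf.stalk (pr₂ p')) := Spec_closedPoint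
    have e2 : (P'.fromSpecStalk p') (IsLocalRing.closedPoint (P'.presheaf.stalk p')) = p' :=
      Scheme.fromSpecStalk_closedPoint
    rw [← e1, ← Scheme.Hom.comp_apply, ← h1]
    exact e2
  have hgen : ∀ x : Spec (B'.presheaf.stalk (pr₂ p')), s x ⤳ p' := by
    intro x
    have h2 := (IsLocalRing.specializes_closedPoint x).map s.continuous
    rwa [hcl] at h2
  obtain ⟨ρ, hρ⟩ := Groth.Agent.Lib.Helper11.Birat.exists_lift_fromSpecStalk s p' hgen
  have i1 : Spec.map (pr₂.stalkMap p') ≫ ρ = 𝟙 _ := by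
    rw [← cancel_mono (P'.fromSpecStalk p'), Category.assoc, hρ, ← h1, Category.id_comp]
  have i2 : ρ ≫ Spec.map (pr₂.stalkMap p') = 𝟙 _ := by
    rw [← cancel_mono (B'.fromSpecStalk (pr₂ p')), Category.assoc, hσ, ← Category.assoc, hρ, hs,
      Category.id_comp]
  have hiso : IsIso (Spec.map (pr₂.stalkMap p')) := ⟨ρ, i1, i2⟩
  exact (ConcreteCategory.isIso_iff_bijective _).2 (isIso_SpecMap_iff.1 hiso)

/-- Existence of a point of the base change over a point `v'` over whose image `g` is an isomorphism on the local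
ring. -/
theorem exists_point_of_isPullback_of_isIso {A B B' P' : Scheme.{u}} {g : A ⟶ B} {c : B' ⟶ B}
    {pr₁ : P' ⟶ A} {pr₂ : P' ⟶ B'} (sq : IsPullback pr₁ pr₂ g c) (v' : B')
    (h : IsIso (pullback.snd g (B.fromSpecStalk (c v')))) : ∃ p' : P', pr₂ p' = v' := by
  obtain ⟨s, hs, -⟩ := exists_section_stalk_of_isPullback sq v' h
  refine ⟨s (IsLocalRing.closedPoint (B'.presheaf.stalk v')), ?_⟩
  rw [← Scheme.Hom.comp_apply, hs]
  exact Scheme.fromSpecStalk_closedPoint

/-- Uniqueness of the point of the base change over such a point `v'`. -/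
theorem eq_of_isPullback_of_isIso {A B B' P' : Scheme.{u}} {g : A ⟶ B} {c : B' ⟶ B}
    {pr₁ : P' ⟶ A} {pr₂ : P' ⟶ B'} (sq : IsPullback pr₁ pr₂ g c) (v' : B')
    (h : IsIso (pullback.snd g (B.fromSpecStalk (c v')))) (p₁ p₂ : P') (h₁ : pr₂ p₁ = v')
    (h₂ : pr₂ p₂ = v') : p₁ = p₂ := by
  obtain ⟨s, hs, huniq⟩ := exists_section_stalk_of_isPullback sq v' h
  have key : ∀ p'' : P', pr₂ p'' = v' → p'' = s (IsLocalRing.closedPoint (B'.presheaf.stalk v')) := by
    intro p'' h''
    have hgen : ∀ z : Spec (P'.presheaf.stalk p''), (P'.fromSpecStalk p'' ≫ pr₂) z ⤳ v' := by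
      intro z
      have h1 : (P'.fromSpecStalk p'') z ⤳ p'' := by
        have : (P'.fromSpecStalk p'') z ∈ Set.range (P'.fromSpecStalk p'') := ⟨z, rfl⟩
        rwa [Scheme.range_fromSpecStalk] at this
      rw [← h'', Scheme.Hom.comp_apply]
      exact h1.map pr₂.continuous
    obtain ⟨ψ, hψ⟩ := Groth.Agent.Lib.Helper11.Birat.exists_lift_fromSpecStalk
      (P'.fromSpecStalk p'' ≫ pr₂) v' hgen
    have h1 : P'.fromSpecStalk p'' = ψ ≫ s := huniq _ _ hψ.symm
    have h2 : (B'.fromSpecStalk v') (ψ (IsLocalRing.closedPoint (P'.presheaf.stalk p''))) =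
        (B'.fromSpecStalk v') (IsLocalRing.closedPoint (B'.presheaf.stalk v')) := by
      rw [← Scheme.Hom.comp_apply, hψ, Scheme.Hom.comp_apply, Scheme.fromSpecStalk_closedPoint, h'',
        Scheme.fromSpecStalk_closedPoint]
    have h3 : ψ (IsLocalRing.closedPoint (P'.presheaf.stalk p'')) =
        IsLocalRing.closedPoint (B'.presheaf.stalk v') :=
      (B'.fromSpecStalk v').isEmbedding.injective h2
    calc p'' = (P'.fromSpecStalk p'') (IsLocalRing.closedPoint (P'.presheaf.stalk p'')) :=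
          Scheme.fromSpecStalk_closedPoint.symm
      _ = s (ψ (IsLocalRing.closedPoint (P'.presheaf.stalk p''))) := by
          rw [h1, Scheme.Hom.comp_apply]
      _ = s (IsLocalRing.closedPoint (B'.presheaf.stalk v')) := by rw [h3]
  rw [key p₁ h₁, key p₂ h₂]

end Sch

section Top

variable {B : Type*} [TopologicalSpace B]

theorem finite_irreducibleComponents_of_finite_genericPoints [QuasiSober B] (h : (genericPoints B).Finite) :
    (irreducibleComponents B).Finite := by
  have h3 : Finite (genericPoints B) := h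
  have h4 : Finite (irreducibleComponents B) :=
    Finite.of_surjective (genericPoints.component (α := B)) genericPoints.component_surjective
  exact Set.finite_coe_iff.1 h4

end Top

variable {S : Scheme.{u}}

/-- A point of an etale chart of a decent space defines a generic point of an irreducible component iff it is one
on the chart. -/
theorem ofPt_mem_genericPoints_iff (X : AlgSp.Space S) (hX : IsDecent X.obj) {U : Over S}
    (a : (yon S).obj U ⟶ X.obj) (ha : RepWith @Etale a) (u : ↥U.left) :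
    Points.ofPt a u ∈ genericPoints (Points X.obj) ↔ closure {u} ∈ irreducibleComponents ↥U.left := by
  rw [← hasAt_dim_zero_iff_mem_genericPoints X hX, NT.closure_singleton_mem_irreducibleComponents_iff,
    ← Strata.ringKrullDim_stalk_eq_zero_iff_isMax]
  constructor
  · rintro ⟨U', a', u', ha', hu', hdim⟩
    rw [Strata.ringKrullDim_stalk_eq_of_charts a ha a' ha' u u' hu'.symm]
    exact hdim
  · intro hdim
    exact ⟨U, a, u, ha, rfl, hdim⟩

/-- Representable etale morphisms of decent spaces preserve and reflect generic points of irreducible components. -/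
theorem mem_genericPoints_iff_map_of_etale {F G : AlgSp.Space S} (hF : IsDecent F.obj) (hG : IsDecent G.obj)
    (e : F.obj ⟶ G.obj) (he : RepWith @Etale e) (x : Points F.obj) :
    x ∈ genericPoints (Points F.obj) ↔ Points.map e x ∈ genericPoints (Points G.obj) := by
  obtain ⟨W, w, hwe, hws⟩ := F.property.atlas
  obtain ⟨w₀, rfl⟩ := ofPt_surjective_of_surjective w hws x
  rw [Points.map_ofPt, ofPt_mem_genericPoints_iff F hF w hwe,
    ofPt_mem_genericPoints_iff G hG (w ≫ e) ((RepWith @Etale).comp_mem _ _ hwe he)]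

/-- The points of a representable sheaf are the points of the scheme. -/
theorem exists_ofPt_id_eq {V : Over S} (y : Points ((yon S).obj V)) :
    ∃ v : ↥V.left, Points.ofPt (𝟙 ((yon S).obj V)) v = y := by
  refine ⟨Points.toScheme V y, ?_⟩
  rw [Points.ofPt_eq_map_ofScheme, Points.map_id, Points.ofScheme_toScheme]

theorem ofPt_id_injective (V : Over S) : Function.Injective (Points.ofPt (𝟙 ((yon S).obj V))) := by
  intro v v' h
  rw [Points.ofPt_eq_map_ofScheme, Points.ofPt_eq_map_ofScheme, Points.map_id, Points.map_id] at h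
  exact ofScheme_injective V h

theorem ofPt_yon_map_eq {V' V : Over S} (j : V' ⟶ V) (v' : ↥V'.left) :
    Points.ofPt ((yon S).map j) v' = Points.ofPt (𝟙 ((yon S).obj V)) (j.left v') := by
  rw [← ofPt_yon_map_comp, Category.comp_id]

/-- Base change of a scheme model of `f` along an etale chart of the target. -/
theorem exists_model_baseChange {X Y : AlgSp.Space S} (f : X ⟶ Y) {U₀ V₀ : Over S}
    (a₀ : (yon S).obj U₀ ⟶ X.obj) (b₀ : (yon S).obj V₀ ⟶ Y.obj) (g₀ : U₀ ⟶ V₀)
    (ha₀ : RepWith @IsOpenImmersion a₀) (hb₀ : RepWith @IsOpenImmersion b₀)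
    (hc₀ : a₀ ≫ f.hom = (yon S).map g₀ ≫ b₀)
    {V : Over S} (b : (yon S).obj V ⟶ Y.obj) (hb : RepWith @Etale b) {P : Sp S} (fst : P ⟶ X.obj)
    (snd : P ⟶ (yon S).obj V) (hP : IsPullback fst snd f.hom b) :
    ∃ (V' P' : Over S) (j : V' ⟶ V) (c : V' ⟶ V₀) (π₁ : P' ⟶ U₀) (π₂ : P' ⟶ V')
      (a' : (yon S).obj P' ⟶ P),
      IsOpenImmersion j.left ∧ Etale c.left ∧ IsPullback π₁.left π₂.left g₀.left c.left ∧
      IsPullback ((yon S).map c) ((yon S).map j) b₀ b ∧
      IsPullback a' ((yon S).map π₁) fst a₀ ∧ a' ≫ snd = (yon S).map π₂ ≫ (yon S).map j ∧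
      RepWith @IsOpenImmersion a' := by
  obtain ⟨V', j, cfst, sq1⟩ := hb₀.rep b
  obtain ⟨c, rfl⟩ := (yon S).map_surjective cfst
  have hj : IsOpenImmersion j.left := hb₀.property _ _ _ sq1
  have hc : Etale c.left := hb.property _ _ _ sq1.flip
  have sq2 := IsPullback.of_hasPullback g₀ c
  have sq2y := sq2.map (yon S)
  have sq2l := sq2.map (Over.forget S)
  have big : IsPullback ((yon S).map (pullback.snd g₀ c) ≫ (yon S).map j) ((yon S).map (pullback.fst g₀ c)) b
      ((yon S).map g₀ ≫ b₀) := sq2y.flip.paste_horiz sq1.flip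
  rw [← hc₀] at big
  have hw : ((yon S).map (pullback.fst g₀ c) ≫ a₀) ≫ f.hom =
      ((yon S).map (pullback.snd g₀ c) ≫ (yon S).map j) ≫ b := by
    rw [Category.assoc]
    exact big.w.symm
  have h1 : hP.lift _ _ hw ≫ fst = (yon S).map (pullback.fst g₀ c) ≫ a₀ := hP.lift_fst _ _ _
  have h2 : hP.lift _ _ hw ≫ snd = (yon S).map (pullback.snd g₀ c) ≫ (yon S).map j := hP.lift_snd _ _ _
  rw [← h2] at big
  have sqA : IsPullback (hP.lift _ _ hw) ((yon S).map (pullback.fst g₀ c)) fst a₀ :=
    IsPullback.of_right big h1 hP.flip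
  exact ⟨V', pullback g₀ c, j, c, pullback.fst g₀ c, pullback.snd g₀ c, hP.lift _ _ hw, hj, hc, sq2l, sq1, sqA,
    h2, (RepWith @IsOpenImmersion).of_isPullback sqA.flip ha₀⟩

end Groth.Agent.Lib.Helper16.Birat
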