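import Groth.Agent.Lib.Helper16.Birat4
import Groth.Agent.Lib.Helper16.FpqcMono
import Groth.Agent.Lib.Helper16.AffDescEtale
import Groth.Agent.Lib.Helper16.GeomRedSp
import Groth.Agent.S10222
import Groth.Agent.S4808
import Groth.Agent.S10437

/-!
# Helper library (helper16): integral birational morphisms to normal spaces
-/

set_option autoImplicit false
universe u
open CategoryTheory CategoryTheory.Limits AlgebraicGeometry Opposite Topology TopologicalSpace

namespace Groth.Agent.Lib.Helper16.Birat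

open AlgSp Groth.Agent.Lib.Helper15 Groth.Agent.Lib.Helper16 Groth.Agent.Lib.Helper16.SchLocus

section Sch

/-- At a point whose local ring is a domain, there is only one generic point specializing to it. -/
theorem eq_of_generic_specializes_of_isDomain_stalk {X : Scheme.{u}} (x : X) [IsDomain (X.presheaf.stalk x)]
    {ξ₁ ξ₂ : X} (h₁ : closure {ξ₁} ∈ irreducibleComponents ↥X)
    (h₂ : closure {ξ₂} ∈ irreducibleComponents ↥X) (s₁ : ξ₁ ⤳ x) (s₂ : ξ₂ ⤳ x) : ξ₁ = ξ₂ := by
  let η : ↥(Spec (X.presheaf.stalk x)) := (⊥ : PrimeSpectrum (X.presheaf.stalk x))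
  have key : ∀ ξ : X, closure {ξ} ∈ irreducibleComponents ↥X → ξ ⤳ x → ξ = X.fromSpecStalk x η := by
    intro ξ hξ hs
    have hr : ξ ∈ Set.range (X.fromSpecStalk x) := by
      rw [Scheme.range_fromSpecStalk]
      exact hs
    obtain ⟨𝔭, rfl⟩ := hr
    have h1 : η ⤳ 𝔭 := (PrimeSpectrum.le_iff_specializes _ _).1 bot_le
    exact (Groth.Agent.Lib.Helper11.Birat.eq_of_specializes_of_mem_irreducibleComponents hξ
      (h1.map (X.fromSpecStalk x).continuous)).symm
  rw [key ξ₁ h₁ s₁, key ξ₂ h₂ s₂]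

/-- With finitely many irreducible components near a point whose local ring is a domain, the point has an
irreducible affine open neighbourhood. -/
theorem exists_irreducible_affine_nhd {T : Scheme.{u}} (A : T.Opens)
    (hfin : (irreducibleComponents ↥A).Finite) (t : T) (ht : t ∈ A) [IsDomain (T.presheaf.stalk t)] :
    ∃ O : T.Opens, IsAffineOpen O ∧ t ∈ O ∧ O ≤ A ∧ ∃ ξ ∈ O, ∀ o ∈ O, ξ ⤳ o := by
  have hval : IsOpenEmbedding (Subtype.val : ↥A → T) := A.2.isOpenEmbedding_subtypeVal
  have hQA : QuasiSober ↥A := hval.quasiSober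
  let t' : ↥A := ⟨t, ht⟩
  obtain ⟨ξ', hξ', hξt⟩ := NT.exists_maxPt_specializes t'
  let W : Set ↥A := ⋃ Z ∈ (irreducibleComponents ↥A \ {closure {ξ'}}), Z
  have hWc : IsClosed W := by
    apply Set.Finite.isClosed_biUnion (hfin.subset Set.sdiff_subset)
    intro Z hZ
    exact isClosed_of_mem_irreducibleComponents Z hZ.1
  have hgen : ∀ ζ : ↥A, closure {ζ} ∈ irreducibleComponents ↥A →
      closure {ζ.1} ∈ irreducibleComponents ↥T :=
    fun ζ h => closure_mem_irreducibleComponents_of_isOpenEmbedding hval ζ h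
  have ht'W : t' ∉ W := by
    intro h
    obtain ⟨Z, hZ⟩ := Set.mem_iUnion.1 h
    obtain ⟨⟨hZ1, hZ2⟩, htZ⟩ := Set.mem_iUnion.1 hZ
    obtain ⟨ξ'', rfl⟩ := NT.exists_eq_closure_singleton_of_mem_irreducibleComponents hZ1
    apply hZ2
    have hs : ξ'' ⤳ t' := specializes_iff_mem_closure.2 htZ
    have h1 : ξ''.1 = ξ'.1 := eq_of_generic_specializes_of_isDomain_stalk t (hgen ξ'' hZ1) (hgen ξ' hξ')
      (hs.map continuous_subtype_val) (hξt.map continuous_subtype_val)
    rw [Subtype.ext h1]
    exact Set.mem_singleton _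
  have hsp : ∀ o : ↥A, o ∉ W → ξ' ⤳ o := by
    intro o ho
    by_contra hne
    apply ho
    refine Set.mem_iUnion.2 ⟨irreducibleComponent o, Set.mem_iUnion.2
      ⟨⟨irreducibleComponent_mem_irreducibleComponents o, ?_⟩, mem_irreducibleComponent⟩⟩
    intro heq
    apply hne
    rw [specializes_iff_mem_closure, ← Set.mem_singleton_iff.1 heq]
    exact mem_irreducibleComponent
  have hopen : IsOpen (Subtype.val '' Wᶜ) := hval.isOpenMap _ hWc.isOpen_compl
  obtain ⟨_, ⟨O, hO, rfl⟩, htO, hOsub⟩ := T.isBasis_affineOpens.exists_subset_of_mem_open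
    (show t ∈ Subtype.val '' Wᶜ from ⟨t', ht'W, rfl⟩) hopen
  refine ⟨O, hO, htO, ?_, ξ'.1, ?_, ?_⟩
  · intro o ho
    obtain ⟨o', -, rfl⟩ := hOsub ho
    exact o'.2
  · exact (hξt.map continuous_subtype_val).mem_open O.2 htO
  · intro o ho
    obtain ⟨o', ho', rfl⟩ := hOsub ho
    exact (hsp o' ho').map continuous_subtype_val

theorem irreducibleSpace_of_forall_specializes {A : Type*} [TopologicalSpace A] (ξ : A)
    (h : ∀ a : A, ξ ⤳ a) : IrreducibleSpace A := by
  rw [irreducibleSpace_def]
  have h1 : closure ({ξ} : Set A) = Set.univ := by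
    apply Set.eq_univ_of_forall
    intro a
    exact specializes_iff_mem_closure.1 (h a)
  have h2 : IsIrreducible (closure ({ξ} : Set A)) := isIrreducible_singleton.closure
  rw [h1] at h2
  exact h2

/-- Normality of local rings passes to open subschemes. -/
theorem normal_stalk_of_isOpenImmersion {A B : Scheme.{u}} (j : A ⟶ B) [IsOpenImmersion j]
    (hB : ∀ b : B, IsDomain (B.presheaf.stalk b) ∧ IsIntegrallyClosed (B.presheaf.stalk b)) (a : A) :
    IsDomain (A.presheaf.stalk a) ∧ IsIntegrallyClosed (A.presheaf.stalk a) := by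
  let e : B.presheaf.stalk (j a) ≃+* A.presheaf.stalk a :=
    (asIso (j.stalkMap a)).commRingCatIsoToRingEquiv
  obtain ⟨h1, h2⟩ := hB (j a)
  exact ⟨e.symm.toMulEquiv.isDomain _, IsIntegrallyClosed.of_equiv e⟩

open Groth.Agent.Lib.Helper12 in
/-- An integral morphism of integral schemes to a normal one which is an isomorphism on the local ring at a point
over the generic point is an isomorphism. -/
theorem isIso_of_isIntegralHom_of_stalk_iso {Y' Y : Scheme.{u}} [IsIntegral Y'] [IsIntegral Y]
    (hN : ∀ y : Y, IsIntegrallyClosed (Y.presheaf.stalk y)) (u : Y' ⟶ Y) [IsIntegralHom u] (y' : Y')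
    (hgen : u y' = genericPoint Y) (hbir : IsIso (u.stalkMap y')) : IsIso u := by
  apply Groth.Agent.S2347.isIso_of_forall_isIso_app u
  intro V hV
  by_cases hne : (V : Set Y).Nonempty
  · have hξV : genericPoint Y ∈ V := NormAff.genericPoint_mem Y hne
    have hjV : u y' ∈ V := by rw [hgen]; exact hξV
    have hmemV : y' ∈ u ⁻¹ᵁ V := hjV
    haveI : Nonempty V := ⟨⟨_, hξV⟩⟩
    haveI : Nonempty (u ⁻¹ᵁ V : Y'.Opens) := ⟨⟨_, hmemV⟩⟩
    letI algAB : Algebra Γ(Y, V) Γ(Y', u ⁻¹ᵁ V) := (u.app V).hom.toAlgebra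
    haveI : Algebra.IsIntegral Γ(Y, V) Γ(Y', u ⁻¹ᵁ V) :=
      ⟨IsIntegralHom.isIntegral_app u V hV⟩
    haveI : IsIntegrallyClosed Γ(Y, V) :=
      NormChar.isIntegrallyClosed_sections (fun y _ => hN y) hV
    letI algAK : Algebra Γ(Y, V) (Y'.presheaf.stalk y') :=
      (Y.presheaf.germ V (u y') hjV ≫ u.stalkMap y').hom.toAlgebra
    haveI : IsFractionRing Γ(Y, V) (Y'.presheaf.stalk y') :=
      Groth.Agent.S4808.isFractionRing_stalk_of_iso u y' hgen hbir hV hjV
    have hstar : u.app V ≫ Y'.presheaf.germ (u ⁻¹ᵁ V) y' hmemV =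
        Y.presheaf.germ V (u y') hjV ≫ u.stalkMap y' :=
      (Scheme.Hom.germ_stalkMap u V y' hjV).symm
    have hbij := Groth.Agent.S2347.bijective_of_section Γ(Y, V) Γ(Y', u ⁻¹ᵁ V)
      (Y'.presheaf.stalk y')
      (Y'.presheaf.germ (u ⁻¹ᵁ V) y' hmemV).hom
      (fun a => congr($(hstar).hom a))
    exact (ConcreteCategory.isIso_iff_bijective _).2 hbij
  · have h1 : ¬ ((u ⁻¹ᵁ V : Y'.Opens) : Set Y').Nonempty := by
      rintro ⟨y, hy⟩
      exact hne ⟨u y, hy⟩
    haveI := NormChar.subsingleton_sections _ hne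
    haveI := NormChar.subsingleton_sections _ h1
    rw [ConcreteCategory.isIso_iff_bijective]
    exact ⟨Function.injective_of_subsingleton _, fun b => ⟨0, Subsingleton.elim _ _⟩⟩

/-- Scheme-level core: an integral morphism to an integral normal scheme from a reduced scheme, bijective on generic
points and an isomorphism on local rings there, is an isomorphism. -/
theorem isIso_of_isIntegralHom_of_bijOn {W V : Scheme.{u}} (i : W ⟶ V) [IsIntegralHom i] [IsIntegral V]
    [IsReduced W] (hN : ∀ y : V, IsIntegrallyClosed (V.presheaf.stalk y))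
    (hbij : Set.BijOn (fun w : W => i w) {w : W | closure {w} ∈ irreducibleComponents ↥W}
      {v : V | closure {v} ∈ irreducibleComponents ↥V})
    (hiso : ∀ w : W, closure {w} ∈ irreducibleComponents ↥W → IsIso (i.stalkMap w)) : IsIso i := by
  have hη : closure {genericPoint V} ∈ irreducibleComponents ↥V := by
    rw [(genericPoint_spec V).def, irreducibleComponents_eq_singleton]
    exact Set.mem_singleton _
  obtain ⟨ξ, hξ, hξη⟩ := hbij.surjOn hη
  have hξ' : closure {ξ} ∈ irreducibleComponents ↥W := hξ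
  have hξη' : i ξ = genericPoint V := hξη
  have hsp : ∀ w : W, ξ ⤳ w := by
    intro w
    obtain ⟨ξ', hξ'g, hξ'w⟩ := NT.exists_maxPt_specializes w
    have h1 : closure {i ξ'} ∈ irreducibleComponents ↥V := hbij.mapsTo hξ'g
    have h2 : genericPoint V ⤳ i ξ' := (genericPoint_spec V).specializes (Set.mem_univ _)
    have h3 : genericPoint V = i ξ' :=
      Groth.Agent.Lib.Helper11.Birat.eq_of_specializes_of_mem_irreducibleComponents h1 h2
    have h4 : ξ' = ξ := hbij.injOn hξ'g hξ' (h3.symm.trans hξη'.symm)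
    rw [← h4]
    exact hξ'w
  have hirr : IrreducibleSpace ↥W := irreducibleSpace_of_forall_specializes ξ hsp
  have hint : IsIntegral W := isIntegral_of_irreducibleSpace_of_isReduced W
  exact isIso_of_isIntegralHom_of_stalk_iso hN i ξ hξη' (hiso ξ hξ')

end Sch

variable {S : Scheme.{u}}

/-- An affine (or quasi-compact) etale chart of a decent space with finitely many irreducible components has finitely
many irreducible components. -/
theorem finite_irreducibleComponents_of_etale_chart (Y : AlgSp.Space S) (hY : IsDecent Y.obj)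
    (hYf : (irreducibleComponents (Points Y.obj)).Finite) {V : Over S} [CompactSpace ↥V.left]
    (b : (yon S).obj V ⟶ Y.obj) (hb : RepWith @Etale b) : (irreducibleComponents ↥V.left).Finite := by
  have hT0Y : T0Space (Points Y.obj) := Groth.Agent.S10338.result Y hY
  have hgenY : (genericPoints (Points Y.obj)).Finite := genericPoints.finite hYf
  have hfibre : ∀ y ∈ genericPoints (Points Y.obj), (Points.ofPt b ⁻¹' {y}).Finite := by
    intro y _
    obtain ⟨q, hq, -, hqc⟩ := hY y
    rw [← hq]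
    exact finite_fibre_of_quasiCompact_fieldPt q hqc b hb
  have hgenVl : (genericPoints ↥V.left).Finite := by
    refine (hgenY.preimage' hfibre).subset ?_
    intro v hv
    exact (ofPt_mem_genericPoints_iff Y hY b hb v).2 hv
  exact finite_irreducibleComponents_of_finite_genericPoints hgenVl

/-- Every etale chart of a reduced algebraic space is reduced. -/
theorem isReduced_of_etale_chart (X : AlgSp.Space S) (hXr : IsReducedSp X.obj) {W : Over S}
    (w : (yon S).obj W ⟶ X.obj) (hw : RepWith @Etale w) : IsReduced W.left := by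
  have h := (Groth.Agent.S10222.result X).1 hXr
  have hQ : ∀ {U V : Scheme.{u}} (g : V ⟶ U) [Etale g] (v : ↥V),
      _root_.IsReduced ↥(V.presheaf.stalk v) ↔ _root_.IsReduced ↥(U.presheaf.stalk (g v)) :=
    fun g _ v => GeomRed.isReduced_stalk_iff_of_etale g v
  have : ∀ u : ↥W.left, _root_.IsReduced ↥(W.left.presheaf.stalk u) := fun u =>
    (HasAtChart.hasAt_iff_of_chart (fun U u => _root_.IsReduced ↥(U.presheaf.stalk u)) hQ w hw u).1 (h _)
  exact isReduced_of_isReduced_stalk W.left

open W4stk3decentspacesp2 in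
/-- Scheme-level content of birationality of a morphism of representable sheaves. -/
theorem scheme_facts_of_isBirational_yon_map {W V : Over S} (i : W ⟶ V)
    (hbir : IsBirational ((yon S).map i)) :
    Set.BijOn (fun w : W.left => i.left w) {w : W.left | closure {w} ∈ irreducibleComponents ↥W.left}
      {v : V.left | closure {v} ∈ irreducibleComponents ↥V.left} ∧
    ∀ w : W.left, closure {w} ∈ irreducibleComponents ↥W.left → IsIso (i.left.stalkMap w) := by
  let WS : AlgSp.Space S := ⟨(yon S).obj W, IsAlgSpace.yon_obj W⟩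
  let VS : AlgSp.Space S := ⟨(yon S).obj V, IsAlgSpace.yon_obj V⟩
  have hidW : RepWith @Etale (𝟙 ((yon S).obj W)) := (RepWith @Etale).id_mem _
  have hidV : RepWith @Etale (𝟙 ((yon S).obj V)) := (RepWith @Etale).id_mem _
  have FW : ∀ w : ↥W.left, Points.ofPt (𝟙 ((yon S).obj W)) w ∈ genericPoints (Points ((yon S).obj W)) ↔
      closure {w} ∈ irreducibleComponents ↥W.left :=
    fun w => ofPt_mem_genericPoints_iff WS (isDecent_yon W) (𝟙 _) hidW w
  have FV : ∀ v : ↥V.left, Points.ofPt (𝟙 ((yon S).obj V)) v ∈ genericPoints (Points ((yon S).obj V)) ↔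
      closure {v} ∈ irreducibleComponents ↥V.left :=
    fun v => ofPt_mem_genericPoints_iff VS (isDecent_yon V) (𝟙 _) hidV v
  have hmap : ∀ w : ↥W.left, Points.map ((yon S).map i) (Points.ofPt (𝟙 ((yon S).obj W)) w) =
      Points.ofPt (𝟙 ((yon S).obj V)) (i.left w) := by
    intro w
    rw [Points.map_ofPt, Category.id_comp, ofPt_yon_map_eq]
  refine ⟨⟨?_, ?_, ?_⟩, ?_⟩
  · intro w hw
    have h1 := hbir.bijOn.mapsTo ((FW w).2 hw)
    rw [hmap] at h1
    exact (FV _).1 h1
  · intro w hw w' hw' h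
    have h' : i.left w = i.left w' := h
    have h1 : Points.map ((yon S).map i) (Points.ofPt (𝟙 ((yon S).obj W)) w) =
        Points.map ((yon S).map i) (Points.ofPt (𝟙 ((yon S).obj W)) w') := by
      rw [hmap, hmap, h']
    exact ofPt_id_injective W (hbir.bijOn.injOn ((FW w).2 hw) ((FW w').2 hw') h1)
  · intro v hv
    obtain ⟨y, hy, hyv⟩ := hbir.bijOn.surjOn ((FV v).2 hv)
    obtain ⟨w, rfl⟩ := exists_ofPt_id_eq y
    refine ⟨w, (FW w).1 hy, ?_⟩
    rw [hmap] at hyv
    exact ofPt_id_injective V hyv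
  · intro w hw
    obtain ⟨U₁, V₁, a₁, b₁, g₁, u₁, ha₁, hb₁, hc₁, hu₁, hiso⟩ := hbir.stalkIso _ ((FW w).2 hw)
    exact isIso_stalkMap_transfer ((yon S).map i) a₁ b₁ g₁ (𝟙 _) (𝟙 _) i ha₁ hb₁
      ((RepWith @IsOpenImmersion).id_mem _) ((RepWith @IsOpenImmersion).id_mem _) hc₁
      (by rw [Category.id_comp, Category.comp_id]) u₁ w hu₁ hiso

end Groth.Agent.Lib.Helper16.Birat
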