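import Groth.Agent.Lib.Helper16.LocPGen
import Groth.Agent.Lib.Helper16.Charts
import Groth.Prelude.Def_AlgSpCov
import Mathlib.CategoryTheory.Limits.Shapes.WidePullbacks

/-!
# Helper library (helper16): wide pullbacks by induction, Cech descending property for algebraic spaces
-/

set_option autoImplicit false
universe u
open CategoryTheory CategoryTheory.Limits AlgebraicGeometry Opposite

namespace Groth.Agent.Lib.Helper16.CechDesc

open AlgSp Groth.Agent.Lib.Helper16

section WP

universe v' u'
variable {C : Type u'} [Category.{v'} C]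

theorem isIso_base_fin_zero {B : C} (objs : Fin 0 → C) (arrows : ∀ k, objs k ⟶ B)
    [HasWidePullback B objs arrows] : IsIso (WidePullback.base arrows) := by
  refine ⟨WidePullback.lift (𝟙 B) (fun k => k.elim0) (fun k => k.elim0), ?_, ?_⟩
  · apply WidePullback.hom_ext
    · intro k; exact k.elim0
    · rw [Category.assoc, WidePullback.lift_base, Category.comp_id, Category.id_comp]
  · rw [WidePullback.lift_base]

theorem wp_step {B : C} {n : ℕ} (objs : Fin (n + 1) → C) (arrows : ∀ k, objs k ⟶ B)
    [HasWidePullback B objs arrows]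
    [HasWidePullback B (fun k : Fin n => objs k.succ) (fun k : Fin n => arrows k.succ)]
    {Pb : C}
    (fst : Pb ⟶ widePullback B (fun k : Fin n => objs k.succ) (fun k : Fin n => arrows k.succ))
    (snd : Pb ⟶ objs 0)
    (sq : IsPullback fst snd (WidePullback.base (fun k : Fin n => arrows k.succ)) (arrows 0)) :
    ∃ e : Pb ≅ widePullback B objs arrows,
      e.hom ≫ WidePullback.base arrows =
        fst ≫ WidePullback.base (fun k : Fin n => arrows k.succ) := by
  let fs : ∀ k : Fin (n + 1), Pb ⟶ objs k :=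
    fun k => Fin.cases (motive := fun k => Pb ⟶ objs k) snd
      (fun k' => fst ≫ WidePullback.π (fun k : Fin n => arrows k.succ) k') k
  have hfs : ∀ k, fs k ≫ arrows k = fst ≫ WidePullback.base (fun k : Fin n => arrows k.succ) := by
    intro k
    induction k using Fin.cases with
    | zero => simp only [fs, Fin.cases_zero]; exact sq.w.symm
    | succ k' =>
      simp only [fs, Fin.cases_succ, Category.assoc]
      exact congrArg (fst ≫ ·) (WidePullback.π_arrow (fun k : Fin n => arrows k.succ) k')
  let φ : Pb ⟶ widePullback B objs arrows :=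
    WidePullback.lift (fst ≫ WidePullback.base (fun k : Fin n => arrows k.succ)) fs hfs
  let ψ' : widePullback B objs arrows ⟶
      widePullback B (fun k : Fin n => objs k.succ) (fun k : Fin n => arrows k.succ) :=
    WidePullback.lift (WidePullback.base arrows) (fun k' => WidePullback.π arrows k'.succ)
      (fun k' => WidePullback.π_arrow arrows k'.succ)
  have hψ'base : ψ' ≫ WidePullback.base (fun k : Fin n => arrows k.succ) =
      WidePullback.base arrows := WidePullback.lift_base _ _ _ _
  have hψ'π : ∀ k', ψ' ≫ WidePullback.π (fun k : Fin n => arrows k.succ) k' =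
      WidePullback.π arrows k'.succ := fun k' => WidePullback.lift_π _ _ _ _ k'
  let ψ : widePullback B objs arrows ⟶ Pb :=
    sq.lift ψ' (WidePullback.π arrows 0) (by rw [hψ'base, WidePullback.π_arrow])
  have hψ1 : ψ ≫ fst = ψ' := sq.lift_fst _ _ _
  have hψ2 : ψ ≫ snd = WidePullback.π arrows 0 := sq.lift_snd _ _ _
  have hφbase : φ ≫ WidePullback.base arrows =
      fst ≫ WidePullback.base (fun k : Fin n => arrows k.succ) := WidePullback.lift_base _ _ _ _
  have hφ0 : φ ≫ WidePullback.π arrows 0 = snd := by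
    have := WidePullback.lift_π arrows
      (fst ≫ WidePullback.base (fun k : Fin n => arrows k.succ)) fs hfs 0
    simpa only [fs, Fin.cases_zero] using this
  have hφs : ∀ k' : Fin n, φ ≫ WidePullback.π arrows k'.succ =
      fst ≫ WidePullback.π (fun k : Fin n => arrows k.succ) k' := by
    intro k'
    have := WidePullback.lift_π arrows
      (fst ≫ WidePullback.base (fun k : Fin n => arrows k.succ)) fs hfs k'.succ
    simpa only [fs, Fin.cases_succ] using this
  refine ⟨⟨φ, ψ, ?_, ?_⟩, hφbase⟩
  · apply sq.hom_ext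
    · rw [Category.assoc, hψ1, Category.id_comp]
      apply WidePullback.hom_ext
      · intro k'
        rw [Category.assoc, hψ'π, hφs]
      · rw [Category.assoc, hψ'base, hφbase]
    · rw [Category.assoc, hψ2, hφ0, Category.id_comp]
  · apply WidePullback.hom_ext
    · intro k
      induction k using Fin.cases with
      | zero => rw [Category.assoc, hφ0, hψ2, Category.id_comp]
      | succ k' => rw [Category.assoc, hφs, ← Category.assoc, hψ1, hψ'π, Category.id_comp]
    · rw [Category.assoc, hφbase, ← Category.assoc, hψ1, hψ'base, Category.id_comp]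

end WP

variable {S : Scheme.{u}}

theorem repWith_iso_hom {P : MorphismProperty Scheme.{u}} [P.IsStableUnderBaseChange]
    {T : Over S} {U : Sp S} (e : (yon S).obj T ≅ U) (h1 : RepWith P (𝟙 ((yon S).obj T))) :
    RepWith P e.hom := by
  have h2 := MorphismProperty.RespectsIso.postcomp (RepWith (S := S) P) e.hom (𝟙 _) h1
  rwa [Category.id_comp] at h2

theorem repWith_etale_iso {T : Over S} {U : Sp S} (e : (yon S).obj T ≅ U) :
    RepWith @Etale e.hom :=
  repWith_iso_hom e (by
    rw [← (yon S).map_id]; exact (repWith_yon_map_iff _ _).2 (by dsimp; infer_instance))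

theorem repWith_surj_iso {T : Over S} {U : Sp S} (e : (yon S).obj T ≅ U) :
    RepWith @Surjective e.hom :=
  repWith_iso_hom e (by
    rw [← (yon S).map_id]; exact (repWith_yon_map_iff _ _).2 (by dsimp; infer_instance))

theorem locP_chart_iso {Q : MorphismProperty Scheme.{u}} (hQ : EtLocalST Q) {W U : Sp S}
    {T' T : Over S} (f : W ⟶ U) (e' : W ≅ (yon S).obj T') (e : U ≅ (yon S).obj T) (j : T' ⟶ T)
    (comm : e'.inv ≫ f = (yon S).map j ≫ e.inv) (hj : Q j.left) : LocP Q f :=
  locP_of_chart hQ f e'.inv e.inv j (repWith_etale_iso e'.symm) (repWith_surj_iso e'.symm)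
    (repWith_etale_iso e.symm) comm hj

theorem exists_pt_of_iso {U : Sp S} {T : Over S} (e : U ≅ (yon S).obj T) (x : Points U) :
    ∃ t : ↥T.left, x = Points.map e.inv (Points.ofScheme T t) := by
  refine ⟨Points.toScheme T (Points.map e.hom x), ?_⟩
  rw [Points.ofScheme_toScheme, ← Points.map_comp, e.hom_inv_id, Points.map_id]

/-- An open subscheme of a scheme over `S`, as a scheme over `S`. -/
noncomputable def opOver (T : Over S) (O : T.left.Opens) : Over S := Over.mk (O.ι ≫ T.hom)

/-- The inclusion of an open subscheme, over `S`. -/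
noncomputable def opIncl (T : Over S) (O : T.left.Opens) : opOver T O ⟶ T := Over.homMk O.ι rfl

theorem opIncl_left (T : Over S) (O : T.left.Opens) : (opIncl T O).left = O.ι := rfl

theorem wp_opens {U : Sp S} (T : Over S) (e : U ≅ (yon S).obj T) (Qo : T.left.Opens → Prop)
    (hQ1 : ∀ V : T.left.Opens, IsAffineOpen V → Qo V)
    (hQ2 : ∀ O V : T.left.Opens, Qo O → IsAffineOpen V → Qo (O ⊓ V)) :
    ∀ (n : ℕ) (c : Fin (n + 1) → ↥T.left.affineOpens),
      ∃ (O : T.left.Opens) (e' : widePullback U (fun k => (yon S).obj (opOver T (c k).1))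
          (fun k => (yon S).map (opIncl T (c k).1) ≫ e.inv) ≅ (yon S).obj (opOver T O)),
        Qo O ∧ e'.inv ≫ WidePullback.base (fun k => (yon S).map (opIncl T (c k).1) ≫ e.inv) =
          (yon S).map (opIncl T O) ≫ e.inv := by
  intro n
  induction n with
  | zero =>
    intro c
    haveI := isIso_base_fin_zero (B := U)
      (fun k : Fin 0 => (yon S).obj (opOver T (c k.succ).1))
      (fun k : Fin 0 => (yon S).map (opIncl T (c k.succ).1) ≫ e.inv)
    have sq : IsPullback
        (WidePullback.lift ((yon S).map (opIncl T (c 0).1) ≫ e.inv) (fun k => k.elim0)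
          (fun k => k.elim0) : (yon S).obj (opOver T (c 0).1) ⟶
            widePullback U (fun k : Fin 0 => (yon S).obj (opOver T (c k.succ).1))
              (fun k : Fin 0 => (yon S).map (opIncl T (c k.succ).1) ≫ e.inv))
        (𝟙 _)
        (WidePullback.base (fun k : Fin 0 => (yon S).map (opIncl T (c k.succ).1) ≫ e.inv))
        ((yon S).map (opIncl T (c 0).1) ≫ e.inv) :=
      IsPullback.of_vert_isIso ⟨by rw [WidePullback.lift_base, Category.id_comp]⟩
    obtain ⟨ε, hε⟩ := wp_step (fun k => (yon S).obj (opOver T (c k).1))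
      (fun k => (yon S).map (opIncl T (c k).1) ≫ e.inv) _ _ sq
    refine ⟨(c 0).1, ε.symm, hQ1 _ (c 0).2, ?_⟩
    rw [Iso.symm_inv, hε, WidePullback.lift_base]
  | succ n ih =>
    intro c
    obtain ⟨O', e'', hO', hc''⟩ := ih (fun k => c k.succ)
    have sqS : IsPullback (T.left.homOfLE (inf_le_left : O' ⊓ (c 0).1 ≤ O'))
        (T.left.homOfLE (inf_le_right : O' ⊓ (c 0).1 ≤ (c 0).1)) O'.ι (c 0).1.ι :=
      IsOpenImmersion.isPullback _ _ _ _ (by simp) (by ext; simp)
    let f₁ : opOver T (O' ⊓ (c 0).1) ⟶ opOver T O' :=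
      Over.homMk (T.left.homOfLE inf_le_left) (by simp [opOver])
    let f₂ : opOver T (O' ⊓ (c 0).1) ⟶ opOver T (c 0).1 :=
      Over.homMk (T.left.homOfLE inf_le_right) (by simp [opOver])
    have hf₁ : f₁ ≫ opIncl T O' = opIncl T (O' ⊓ (c 0).1) := by
      ext; simp [f₁, opIncl]; exact T.left.homOfLE_ι _
    have hf₂ : f₂ ≫ opIncl T (c 0).1 = opIncl T (O' ⊓ (c 0).1) := by
      ext; simp [f₂, opIncl]; exact T.left.homOfLE_ι _
    have sqO : IsPullback f₁ f₂ (opIncl T O') (opIncl T (c 0).1) :=
      IsPullback.of_map (Over.forget S) (hf₁.trans hf₂.symm) sqS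
    have sqY := sqO.map (yon S)
    have sq : IsPullback ((yon S).map f₁ ≫ e''.inv) ((yon S).map f₂)
        (WidePullback.base (fun k : Fin (n + 1) => (yon S).map (opIncl T (c k.succ).1) ≫ e.inv))
        ((yon S).map (opIncl T (c 0).1) ≫ e.inv) :=
      IsPullback.of_iso sqY (Iso.refl _) e''.symm (Iso.refl _) e.symm
        (Category.id_comp _).symm ((Category.comp_id _).trans (Category.id_comp _).symm)
        hc''.symm (Category.id_comp _).symm
    obtain ⟨ε, hε⟩ := wp_step (fun k => (yon S).obj (opOver T (c k).1))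
      (fun k => (yon S).map (opIncl T (c k).1) ≫ e.inv) _ _ sq
    refine ⟨O' ⊓ (c 0).1, ε.symm, hQ2 _ _ hO' (c 0).2, ?_⟩
    rw [Iso.symm_inv, hε, Category.assoc, hc'', ← Category.assoc, ← Functor.map_comp, hf₁]

theorem wp_atlas {X : Sp S} {V : Over S} (p : (yon S).obj V ⟶ X) (hpe : RepWith @Etale p) :
    ∀ n : ℕ, ∃ (Tn : Over S)
      (en : widePullback X (fun _ : Fin (n + 1) => (yon S).obj V) (fun _ => p) ≅ (yon S).obj Tn)
      (hn : Tn ⟶ V), Etale hn.left ∧
        en.inv ≫ WidePullback.base (fun _ : Fin (n + 1) => p) = (yon S).map hn ≫ p := by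
  intro n
  induction n with
  | zero =>
    haveI := isIso_base_fin_zero (B := X) (fun _ : Fin 0 => (yon S).obj V) (fun _ => p)
    have sq : IsPullback
        (WidePullback.lift p (fun k => k.elim0) (fun k => k.elim0) : (yon S).obj V ⟶
          widePullback X (fun _ : Fin 0 => (yon S).obj V) (fun _ => p))
        (𝟙 _) (WidePullback.base (fun _ : Fin 0 => p)) p :=
      IsPullback.of_vert_isIso ⟨by rw [WidePullback.lift_base, Category.id_comp]⟩
    obtain ⟨ε, hε⟩ := wp_step (fun _ : Fin 1 => (yon S).obj V) (fun _ => p) _ _ sq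
    refine ⟨V, ε.symm, 𝟙 V, by rw [Over.id_left]; infer_instance, ?_⟩
    rw [Iso.symm_inv, hε, WidePullback.lift_base, (yon S).map_id, Category.id_comp]
  | succ n ih =>
    obtain ⟨Tn, en, hn, hne, hcn⟩ := ih
    obtain ⟨W, snd, fst₀, sqW⟩ := hpe.rep ((yon S).map hn ≫ p)
    have hsnd : Etale snd.left := hpe.property _ _ _ sqW
    have sq : IsPullback ((yon S).map snd ≫ en.inv) fst₀
        (WidePullback.base (fun _ : Fin (n + 1) => p)) p :=
      IsPullback.of_iso sqW.flip (Iso.refl _) en.symm (Iso.refl _) (Iso.refl _)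
        (Category.id_comp _).symm ((Category.comp_id _).trans (Category.id_comp _).symm)
        ((Category.comp_id _).trans hcn.symm)
        ((Category.comp_id _).trans (Category.id_comp _).symm)
    obtain ⟨ε, hε⟩ := wp_step (fun _ : Fin (n + 2) => (yon S).obj V) (fun _ => p) _ _ sq
    refine ⟨W, ε.symm, snd ≫ hn, by rw [Over.comp_left]; infer_instance, ?_⟩
    rw [Iso.symm_inv, hε, Category.assoc, hcn, (yon S).map_comp, Category.assoc]

end Groth.Agent.Lib.Helper16.CechDesc
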