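import Mathlib
import Groth.Prelude
import Groth.Agent.Lib.Helper5.SiteColimSections
import Groth.Agent.Lib.Helper5.EtaleQcqs

/-!
# Helper16: étale cohomology on a qcqs scheme commutes with localisation of ℤ

If `φ : F ⟶ G` is a morphism of abelian étale sheaves on a qcqs scheme `X` which is a localisation
at `S ⊆ ℤ` on sections over affine étale `X`-schemes, then `Hⁱ(X, F) ⟶ Hⁱ(X, G)` is a localisation
at `S`.  Proof: `G` is the colimit of a sequence `F ⟶ F ⟶ …` of multiplications by elements of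
`S`, and cohomology commutes with filtered colimits (helper5).
-/

set_option autoImplicit false
universe u
open CategoryTheory CategoryTheory.Limits AlgebraicGeometry Opposite

namespace Groth.Agent.Lib.Helper16.EtLocz

open Groth.Agent.Lib.Helper5

section Cover

variable {X : Scheme.{u}}

set_option backward.isDefEq.respectTransparency.types false in
lemma mem_of_pointwise (V : X.Etale) (R : Sieve V)
    (h : ∀ x : V.left, ∃ (A : X.Etale) (f : A ⟶ V) (y : A.left),
      R.arrows f ∧ f.left.base y = x) :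
    R ∈ X.smallEtaleTopology V := by
  have eX : X.smallEtaleTopology =
      (X.smallPretopology (P := EtCoh.etaleMP) (Q := EtCoh.etaleMP)).toGrothendieck :=
    Scheme.smallGrothendieckTopology_eq_toGrothendieck_smallPretopology X le_rfl
  rw [eX]
  refine (Scheme.mem_toGrothendieck_smallPretopology V R).2 (fun x => ?_)
  obtain ⟨A, f, y, hf, hy⟩ := h x
  exact ⟨A, f, y, hf, inferInstance, hy⟩

set_option backward.isDefEq.respectTransparency.types false in
lemma exists_affine (V : X.Etale) (x : V.left) :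
    ∃ (A : X.Etale) (f : A ⟶ V) (y : A.left), IsAffine A.left ∧ f.left.base y = x := by
  let 𝒰 := V.left.affineCover
  obtain ⟨y, hy⟩ := 𝒰.covers x
  have : Etale V.hom := V.prop
  let A : X.Etale := Scheme.Etale.mk (𝒰.f (𝒰.idx x) ≫ V.hom)
  let a : A ⟶ V := MorphismProperty.Over.homMk (𝒰.f (𝒰.idx x)) rfl trivial
  exact ⟨A, a, y, inferInstanceAs (IsAffine (𝒰.X (𝒰.idx x))), hy⟩

lemma affine_mem_Bq (A : X.Etale) (hA : IsAffine A.left) : A ∈ EtaleQcqs.Bq X :=
  ⟨inferInstance, inferInstance⟩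

lemma eq_of_affine_local (G : EtCoh.Ab X) {V : X.Etale} (x y : G.obj.obj (op V))
    (h : ∀ (A : X.Etale) (f : A ⟶ V), IsAffine A.left →
      (G.obj.map f.op).hom x = (G.obj.map f.op).hom y) : x = y := by
  have hsep : Presieve.IsSeparated X.smallEtaleTopology
      (G.obj ⋙ forget AddCommGrpCat.{u + 1}) := by
    apply Presieve.IsSheaf.isSeparated
    rw [← isSheaf_iff_isSheaf_of_type]
    exact ((sheafCompose X.smallEtaleTopology (forget AddCommGrpCat.{u + 1})).obj G).2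
  let R : Sieve V := Presheaf.equalizerSieve (F := G.obj) (X := op V) x y
  have hR : R ∈ X.smallEtaleTopology V := by
    apply mem_of_pointwise
    intro p
    obtain ⟨A, f, q, hA, hq⟩ := exists_affine V p
    exact ⟨A, f, q, h A f hA, hq⟩
  exact (hsep _ hR).ext (fun Y f hf => hf)

lemma zsmul_app (G : EtCoh.Ab X) (n : ℤ) (W : X.Etaleᵒᵖ) (x : G.obj.obj W) :
    (((n • 𝟙 G : G ⟶ G)).hom.app W).hom x = n • x := by
  have h1 : (n • 𝟙 G : G ⟶ G).hom = n • 𝟙 G.obj :=
    (sheafToPresheaf X.smallEtaleTopology AddCommGrpCat.{u + 1}).map_zsmul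
  rw [h1]
  simp

end Cover

section Colim

variable (X : Scheme.{u}) [CompactSpace X] [QuasiSeparatedSpace X]

set_option backward.isDefEq.respectTransparency false in
theorem et_sections_surj {I : Type (u + 1)} [SmallCategory I] [IsFiltered I]
    (D : I ⥤ EtCoh.Ab X) (d : Cocone D) (hd : IsColimit d) (V : X.Etale)
    (hV : V ∈ EtaleQcqs.Bq X) (s : d.pt.obj.obj (op V)) :
    ∃ (i : I) (t : (D.obj i).obj.obj (op V)), ((d.ι.app i).hom.app (op V)).hom t = s := by
  have hd' : IsColimit ((SmallModelH.Φ X.smallEtaleTopology).functor.mapCocone d) :=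
    isColimitOfPreserves (SmallModelH.Φ X.smallEtaleTopology).functor hd
  exact SiteColimSections.sections_surj (D ⋙ (SmallModelH.Φ X.smallEtaleTopology).functor)
    (SmallModelH.B' (EtaleQcqs.Bq X)) (SmallModelH.Cov' (EtaleQcqs.Cov X))
    (SmallModelH.h1' X.smallEtaleTopology _ _ (fun _ _ e h => EtaleQcqs.Bq_iso e h)
      (EtaleQcqs.h1 X))
    (SmallModelH.h2' X.smallEtaleTopology _ _ (EtaleQcqs.h2 X))
    ((SmallModelH.Φ X.smallEtaleTopology).functor.mapCocone d) hd'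
    (V := ULiftHom.objUp V) hV s

lemma preserves_HF (n : ℕ) (I : Type (u + 1)) [SmallCategory I] [IsFiltered I] :
    PreservesColimitsOfShape I (EtCoh.HF X n) := by
  unfold EtCoh.HF
  exact SmallModelH.preservesColimitsOfShape_functorH X.smallEtaleTopology
    (EtaleQcqs.Bq X) (EtaleQcqs.Cov X) (fun _ _ e h => EtaleQcqs.Bq_iso e h)
    (EtaleQcqs.h1 X) (EtaleQcqs.h2 X) (EtaleQcqs.topIsTerminal X) (EtaleQcqs.top_mem X) n I

end Colim

section HFadd

variable (X : Scheme.{u})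

instance additive_HF (n : ℕ) : (EtCoh.HF X n).Additive := by
  unfold EtCoh.HF
  infer_instance

lemma HF_zsmul (n : ℕ) (K : EtCoh.Ab X) (t : ℤ) (y : (EtCoh.HF X n).obj K) :
    ((EtCoh.HF X n).map (t • 𝟙 K)).hom y = t • y := by
  rw [Functor.map_zsmul, CategoryTheory.Functor.map_id]
  simp

end HFadd

section Seq

/-- products of consecutive multipliers -/
def T (a : ℕ → ℤ) (n m : ℕ) : ℤ := ∏ k ∈ Finset.Ico n m, a k

lemma T_self (a : ℕ → ℤ) (n : ℕ) : T a n n = 1 := by simp [T]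

lemma T_mul (a : ℕ → ℤ) {n m l : ℕ} (h1 : n ≤ m) (h2 : m ≤ l) :
    T a n m * T a m l = T a n l :=
  Finset.prod_Ico_consecutive a h1 h2

lemma T_mem (S : Submonoid ℤ) (a : ℕ → ℤ) (ha : ∀ k, a k ∈ S) (n m : ℕ) : T a n m ∈ S :=
  Submonoid.prod_mem _ (fun k _ => ha k)

lemma exists_seq (S : Submonoid ℤ) :
    ∃ a : ℕ → ℤ, (∀ k, a k ∈ S) ∧ ∀ s ∈ S, ∀ n, ∃ m, n ≤ m ∧ s ∣ T a n m := by
  haveI : Nonempty S := ⟨⟨1, S.one_mem⟩⟩
  obtain ⟨e, he⟩ := exists_surjective_nat S
  refine ⟨fun k => ∏ j ∈ Finset.range (k + 1), (e j : ℤ),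
    fun k => Submonoid.prod_mem _ (fun j _ => (e j).2), ?_⟩
  intro s hs n
  obtain ⟨k0, hk0⟩ := he ⟨s, hs⟩
  refine ⟨max n k0 + 1, (le_max_left n k0).trans (Nat.le_succ _), ?_⟩
  unfold T
  rw [Finset.prod_Ico_succ_top (le_max_left n k0)]
  apply dvd_mul_of_dvd_right
  have hs' : s = (e k0 : ℤ) := by rw [hk0]
  rw [hs']
  exact Finset.dvd_prod_of_mem (fun j => (e j : ℤ))
    (Finset.mem_range.2 (Nat.lt_succ_of_le (le_max_right n k0)))

end Seq

section Main

variable {X : Scheme.{u}}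

lemma smul_id_comp_smul_id (K : EtCoh.Ab X) (a b : ℤ) :
    (a • 𝟙 K) ≫ (b • 𝟙 K) = (a * b) • 𝟙 K := by
  rw [Preadditive.zsmul_comp, Preadditive.comp_zsmul, Category.id_comp, smul_smul]

lemma smul_id_comp {F G : EtCoh.Ab X} (a : ℤ) (φ : F ⟶ G) : (a • 𝟙 F) ≫ φ = a • φ := by
  rw [Preadditive.zsmul_comp, Category.id_comp]

lemma comp_smul_id {F G : EtCoh.Ab X} (a : ℤ) (φ : F ⟶ G) : φ ≫ (a • 𝟙 G) = a • φ := by
  rw [Preadditive.comp_zsmul, Category.comp_id]

/-- the sequence `F ⟶ F ⟶ …` of multiplications -/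
noncomputable def Fseq (F : EtCoh.Ab X) (a : ℕ → ℤ) : ℕ ⥤ EtCoh.Ab X where
  obj _ := F
  map {n m} _ := T a n m • 𝟙 F
  map_id n := by rw [T_self, one_smul]
  map_comp {n m l} f g := by
    rw [smul_id_comp_smul_id, T_mul a (leOfHom f) (leOfHom g)]

/-- the diagram indexed by a small category in the right universe -/
noncomputable abbrev Dg (F : EtCoh.Ab X) (a : ℕ → ℤ) : AsSmall.{u + 1} ℕ ⥤ EtCoh.Ab X :=
  AsSmall.down ⋙ Fseq F a

lemma Dg_map (F : EtCoh.Ab X) (a : ℕ → ℤ) {i j : AsSmall.{u + 1} ℕ} (f : i ⟶ j) :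
    (Dg F a).map f = T a (AsSmall.down.obj i) (AsSmall.down.obj j) • 𝟙 F := rfl

instance : IsFiltered (AsSmall.{u + 1} ℕ) := IsFiltered.of_equivalence AsSmall.equiv

variable (S : Submonoid ℤ) {F G : EtCoh.Ab X} (φ : F ⟶ G)
  (hφ : ∀ U : X.Etale, IsAffine U.left →
    IsLocalizedModule S (φ.hom.app (op U)).hom.toIntLinearMap)

include hφ in
lemma zsmul_bij_aff (s : ℤ) (hs : s ∈ S) (A : X.Etale) (hA : IsAffine A.left) :
    Function.Bijective (fun x : G.obj.obj (op A) => s • x) := by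
  have := hφ A hA
  have h := IsLocalizedModule.map_units (S := S) (φ.hom.app (op A)).hom.toIntLinearMap ⟨s, hs⟩
  have hb := (Module.End.isUnit_iff _).1 h
  refine ⟨fun x y hxy => hb.1 ?_, fun y => ?_⟩
  · rw [Module.algebraMap_end_apply, Module.algebraMap_end_apply]
    exact hxy
  · obtain ⟨x, hx⟩ := hb.2 y
    refine ⟨x, ?_⟩
    rw [Module.algebraMap_end_apply] at hx
    exact hx

include hφ in
lemma zsmul_inj (s : ℤ) (hs : s ∈ S) (V : X.Etale) (x : G.obj.obj (op V)) (hx : s • x = 0) :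
    x = 0 := by
  apply eq_of_affine_local G x 0
  intro A f hA
  rw [map_zero]
  apply (zsmul_bij_aff S φ hφ s hs A hA).1
  show s • (G.obj.map f.op).hom x = s • (0 : G.obj.obj (op A))
  rw [smul_zero, ← map_zsmul, hx, map_zero]

include hφ in
lemma isIso_zsmul (s : ℤ) (hs : s ∈ S) : IsIso (s • 𝟙 G : G ⟶ G) := by
  haveI : X.smallEtaleTopology.HasSheafCompose (forget AddCommGrpCat.{u + 1}) := inferInstance
  refine (Sheaf.isLocallyBijective_iff_isIso (s • 𝟙 G : G ⟶ G)).1 ⟨?_, ?_⟩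
  · apply Presheaf.isLocallyInjective_of_injective
    intro W x y hxy
    have h1 : s • x = s • y := (zsmul_app G s W x).symm.trans (hxy.trans (zsmul_app G s W y))
    have h2 : x - y = 0 :=
      zsmul_inj S φ hφ s hs W.unop (x - y) (by rw [smul_sub, h1, sub_self])
    exact sub_eq_zero.1 h2
  · constructor
    intro V x
    apply mem_of_pointwise
    intro p
    obtain ⟨A, f, q, hA, hq⟩ := exists_affine V p
    refine ⟨A, f, q, ?_, hq⟩
    obtain ⟨t, ht⟩ := (zsmul_bij_aff S φ hφ s hs A hA).2 ((G.obj.map f.op).hom x)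
    exact ⟨t, (zsmul_app G s (op A) t).trans ht⟩

variable (a : ℕ → ℤ) (ha : ∀ k, a k ∈ S)

/-- the maps `F ⟶ G`, `φ` divided by `T a 0 n`. -/
noncomputable def ψ (n : ℕ) : F ⟶ G :=
  haveI := isIso_zsmul S φ hφ (T a 0 n) (T_mem S a ha 0 n)
  φ ≫ inv (T a 0 n • 𝟙 G)

lemma ψ_spec (n : ℕ) : ψ S φ hφ a ha n ≫ (T a 0 n • 𝟙 G) = φ := by
  haveI := isIso_zsmul S φ hφ (T a 0 n) (T_mem S a ha 0 n)
  unfold ψ
  rw [Category.assoc, IsIso.inv_hom_id, Category.comp_id]

lemma ψ_nat {n m : ℕ} (h : n ≤ m) :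
    (T a n m • 𝟙 F) ≫ ψ S φ hφ a ha m = ψ S φ hφ a ha n := by
  haveI := isIso_zsmul S φ hφ (T a 0 m) (T_mem S a ha 0 m)
  rw [← cancel_mono (T a 0 m • 𝟙 G), Category.assoc, ψ_spec S φ hφ a ha m, smul_id_comp]
  have e2 : (T a 0 m • 𝟙 G : G ⟶ G) = (T a 0 n • 𝟙 G) ≫ (T a n m • 𝟙 G) := by
    rw [smul_id_comp_smul_id, T_mul a (Nat.zero_le n) h]
  rw [e2, ← Category.assoc, ψ_spec S φ hφ a ha n, comp_smul_id]

/-- the cocone on `G` -/
noncomputable def cc : Cocone (Dg F a) where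
  pt := G
  ι :=
    { app := fun i => ψ S φ hφ a ha (AsSmall.down.obj i)
      naturality := fun i j f => by
        change (T a (AsSmall.down.obj i) (AsSmall.down.obj j) • 𝟙 F) ≫ ψ S φ hφ a ha (AsSmall.down.obj j) = ψ S φ hφ a ha (AsSmall.down.obj i) ≫ 𝟙 G
        rw [Category.comp_id]
        exact ψ_nat S φ hφ a ha (leOfHom (AsSmall.down.map f)) }

/-- the comparison map from the colimit to `G` -/
noncomputable def Ψ : colimit (Dg F a) ⟶ G := colimit.desc (Dg F a) (cc S φ hφ a ha)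

lemma ι_Ψ (i : AsSmall.{u + 1} ℕ) :
    colimit.ι (Dg F a) i ≫ Ψ S φ hφ a ha = ψ S φ hφ a ha (AsSmall.down.obj i) :=
  colimit.ι_desc _ _

variable (hcof : ∀ s ∈ S, ∀ n, ∃ m, n ≤ m ∧ s ∣ T a n m)

include hcof in
lemma isIso_Ψ [CompactSpace X] [QuasiSeparatedSpace X] : IsIso (Ψ S φ hφ a ha) := by
  haveI : X.smallEtaleTopology.HasSheafCompose (forget AddCommGrpCat.{u + 1}) := inferInstance
  refine (Sheaf.isLocallyBijective_iff_isIso (Ψ S φ hφ a ha)).1 ⟨?_, ?_⟩
  · -- locally injective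
    constructor
    intro W x y hxy
    apply mem_of_pointwise
    intro p
    obtain ⟨A, f, q, hA, hq⟩ := exists_affine W.unop p
    refine ⟨A, f, q, ?_, hq⟩
    show ((colimit (Dg F a)).obj.map f.op).hom x = ((colimit (Dg F a)).obj.map f.op).hom y
    let z : (colimit (Dg F a)).obj.obj (op A) :=
      ((colimit (Dg F a)).obj.map f.op).hom x - ((colimit (Dg F a)).obj.map f.op).hom y
    have hz : ((Ψ S φ hφ a ha).hom.app (op A)).hom z = 0 := by
      show ((Ψ S φ hφ a ha).hom.app (op A)).hom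
        (((colimit (Dg F a)).obj.map f.op).hom x - ((colimit (Dg F a)).obj.map f.op).hom y) = 0
      rw [map_sub, sub_eq_zero]
      have n1 := congrArg (fun k => k.hom x) ((Ψ S φ hφ a ha).hom.naturality f.op)
      have n2 := congrArg (fun k => k.hom y) ((Ψ S φ hφ a ha).hom.naturality f.op)
      refine n1.trans (Eq.trans ?_ n2.symm)
      exact congrArg (G.obj.map f.op).hom hxy
    obtain ⟨i, (t : F.obj.obj (op A)), ht⟩ := et_sections_surj X (Dg F a)
      (colimit.cocone (Dg F a)) (colimit.isColimit (Dg F a)) A (affine_mem_Bq A hA) z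
    have h1 : ((ψ S φ hφ a ha (AsSmall.down.obj i)).hom.app (op A)).hom t = 0 := by
      have := congrArg (fun k : (Dg F a).obj i ⟶ G => (k.hom.app (op A)).hom t)
        (ι_Ψ S φ hφ a ha i)
      refine this.symm.trans ?_
      exact (congrArg (fun w => ((Ψ S φ hφ a ha).hom.app (op A)).hom w) ht).trans hz
    have h2 : (φ.hom.app (op A)).hom t = 0 := by
      have := congrArg (fun k : F ⟶ G => (k.hom.app (op A)).hom t)
        (ψ_spec S φ hφ a ha (AsSmall.down.obj i))
      refine this.symm.trans ?_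
      show ((T a 0 (AsSmall.down.obj i) • 𝟙 G : G ⟶ G).hom.app (op A)).hom
        (((ψ S φ hφ a ha (AsSmall.down.obj i)).hom.app (op A)).hom t) = 0
      rw [h1, map_zero]
    have := hφ A hA
    obtain ⟨c, hc⟩ := IsLocalizedModule.exists_of_eq (S := S)
      (f := (φ.hom.app (op A)).hom.toIntLinearMap) (x₁ := t) (x₂ := 0)
      (by
        show (φ.hom.app (op A)).hom t = (φ.hom.app (op A)).hom 0
        rw [h2, map_zero])
    have hc' : (c : ℤ) • t = 0 := by
      have h' : (c : ℤ) • t = (c : ℤ) • (0 : F.obj.obj (op A)) := hc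
      rw [smul_zero] at h'
      exact h'
    obtain ⟨m, hnm, r, hr⟩ := hcof c c.2 (AsSmall.down.obj i)
    let j : AsSmall.{u + 1} ℕ := AsSmall.up.obj m
    let f' : i ⟶ j := AsSmall.up.map (homOfLE hnm)
    have h3 : (((Dg F a).map f').hom.app (op A)).hom t = 0 := by
      show ((T a (AsSmall.down.obj i) m • 𝟙 F : F ⟶ F).hom.app (op A)).hom t = 0
      rw [zsmul_app, hr, mul_comm, mul_smul, hc', smul_zero]
    have h4 : z = 0 := by
      rw [← ht]
      have := congrArg (fun k : (Dg F a).obj i ⟶ colimit (Dg F a) => (k.hom.app (op A)).hom t)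
        (colimit.w (Dg F a) f')
      refine this.symm.trans ?_
      show ((colimit.ι (Dg F a) j).hom.app (op A)).hom
        ((((Dg F a).map f').hom.app (op A)).hom t) = 0
      rw [h3, map_zero]
    exact sub_eq_zero.1 h4
  · -- locally surjective
    constructor
    intro V g
    apply mem_of_pointwise
    intro p
    obtain ⟨A, f, q, hA, hq⟩ := exists_affine V p
    refine ⟨A, f, q, ?_, hq⟩
    have := hφ A hA
    obtain ⟨⟨a0, s⟩, hs⟩ := IsLocalizedModule.surj S (φ.hom.app (op A)).hom.toIntLinearMap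
      ((G.obj.map f.op).hom g)
    have hs' : (s : ℤ) • (G.obj.map f.op).hom g = (φ.hom.app (op A)).hom a0 := hs
    obtain ⟨m, -, r, hr⟩ := hcof s s.2 0
    let j : AsSmall.{u + 1} ℕ := AsSmall.up.obj m
    let w := ((ψ S φ hφ a ha m).hom.app (op A)).hom (r • a0)
    have h1 : T a 0 m • w = T a 0 m • (G.obj.map f.op).hom g := by
      have := congrArg (fun k : F ⟶ G => (k.hom.app (op A)).hom (r • a0))
        (ψ_spec S φ hφ a ha m)
      have e1 : T a 0 m • w = (φ.hom.app (op A)).hom (r • a0) :=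
        (zsmul_app G (T a 0 m) (op A) w).symm.trans this
      rw [e1, map_zsmul, ← hs', hr, mul_comm, mul_smul]
    have h2 : w = (G.obj.map f.op).hom g :=
      (zsmul_bij_aff S φ hφ (T a 0 m) (T_mem S a ha 0 m) A hA).1 h1
    refine ⟨((colimit.ι (Dg F a) j).hom.app (op A)).hom (r • a0), ?_⟩
    have := congrArg (fun k : (Dg F a).obj j ⟶ G => (k.hom.app (op A)).hom (r • a0))
      (ι_Ψ S φ hφ a ha j)
    exact this.trans h2

end Main

section Final

variable {X : Scheme.{u}} [CompactSpace X] [QuasiSeparatedSpace X]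

theorem main (S : Submonoid ℤ) {F G : EtCoh.Ab X} (φ : F ⟶ G)
    (hφ : ∀ U : X.Etale, IsAffine U.left →
      IsLocalizedModule S (φ.hom.app (op U)).hom.toIntLinearMap) (n : ℕ) :
    IsLocalizedModule S ((EtCoh.HF X n).map φ).hom.toIntLinearMap := by
  obtain ⟨a, ha, hcof⟩ := exists_seq S
  haveI := preserves_HF X n (AsSmall.{u + 1} ℕ)
  have hH : IsColimit ((EtCoh.HF X n).mapCocone (colimit.cocone (Dg F a))) :=
    isColimitOfPreserves (EtCoh.HF X n) (colimit.isColimit _)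
  haveI hΨ := isIso_Ψ S φ hφ a ha hcof
  have f1 : ∀ i : AsSmall.{u + 1} ℕ, (EtCoh.HF X n).map (colimit.ι (Dg F a) i) ≫
      (EtCoh.HF X n).map (Ψ S φ hφ a ha) =
        (EtCoh.HF X n).map (ψ S φ hφ a ha (AsSmall.down.obj i)) := fun i => by
    rw [← (EtCoh.HF X n).map_comp]
    exact congrArg ((EtCoh.HF X n).map) (ι_Ψ S φ hφ a ha i)
  have f2 : ∀ m, (EtCoh.HF X n).map (ψ S φ hφ a ha m) ≫
      (EtCoh.HF X n).map (T a 0 m • 𝟙 G) = (EtCoh.HF X n).map φ := fun m => by
    rw [← (EtCoh.HF X n).map_comp]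
    exact congrArg ((EtCoh.HF X n).map) (ψ_spec S φ hφ a ha m)
  refine ⟨?_, ?_, ?_⟩
  · intro s
    haveI := isIso_zsmul S φ hφ s.1 s.2
    have hb := ConcreteCategory.bijective_of_isIso ((EtCoh.HF X n).map ((s : ℤ) • 𝟙 G))
    rw [Module.End.isUnit_iff]
    refine ⟨fun x y hxy => hb.1 ?_, fun y => ?_⟩
    · rw [Module.algebraMap_end_apply, Module.algebraMap_end_apply] at hxy
      exact (HF_zsmul X n G s x).trans (hxy.trans (HF_zsmul X n G s y).symm)
    · obtain ⟨x, hx⟩ := hb.2 y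
      refine ⟨x, ?_⟩
      rw [Module.algebraMap_end_apply]
      exact (HF_zsmul X n G s x).symm.trans hx
  · intro y
    obtain ⟨j, x, hx⟩ := Concrete.isColimit_exists_rep _ hH
      ((inv ((EtCoh.HF X n).map (Ψ S φ hφ a ha))).hom y)
    refine ⟨(x, ⟨T a 0 (AsSmall.down.obj j), T_mem S a ha 0 _⟩), ?_⟩
    show T a 0 (AsSmall.down.obj j) • y = ((EtCoh.HF X n).map φ).hom x
    have e1 : ((EtCoh.HF X n).map (ψ S φ hφ a ha (AsSmall.down.obj j))).hom x = y := by
      have := congrArg (fun k => k.hom x) (f1 j)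
      refine this.symm.trans ?_
      show ((EtCoh.HF X n).map (Ψ S φ hφ a ha)).hom
        (((EtCoh.HF X n).map (colimit.ι (Dg F a) j)).hom x) = y
      rw [show ((EtCoh.HF X n).map (colimit.ι (Dg F a) j)).hom x =
        (inv ((EtCoh.HF X n).map (Ψ S φ hφ a ha))).hom y from hx]
      exact congrArg (fun k => k.hom y) (IsIso.inv_hom_id ((EtCoh.HF X n).map (Ψ S φ hφ a ha)))
    have := congrArg (fun k => k.hom x) (f2 (AsSmall.down.obj j))
    rw [← this]
    show _ = ((EtCoh.HF X n).map (T a 0 (AsSmall.down.obj j) • 𝟙 G)).hom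
      (((EtCoh.HF X n).map (ψ S φ hφ a ha (AsSmall.down.obj j))).hom x)
    rw [e1, HF_zsmul]
  · intro x₁ x₂ h
    let i0 : AsSmall.{u + 1} ℕ := AsSmall.up.obj 0
    haveI := isIso_zsmul S φ hφ (T a 0 0) (T_mem S a ha 0 0)
    have hinj := (ConcreteCategory.bijective_of_isIso ((EtCoh.HF X n).map (Ψ S φ hφ a ha) ≫
      (EtCoh.HF X n).map (T a 0 0 • 𝟙 G))).1
    have e : ((EtCoh.HF X n).map (colimit.ι (Dg F a) i0)).hom x₁ =
        ((EtCoh.HF X n).map (colimit.ι (Dg F a) i0)).hom x₂ := by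
      apply hinj
      have k : (EtCoh.HF X n).map (colimit.ι (Dg F a) i0) ≫
          ((EtCoh.HF X n).map (Ψ S φ hφ a ha) ≫ (EtCoh.HF X n).map (T a 0 0 • 𝟙 G)) =
            (EtCoh.HF X n).map φ := by
        rw [← Category.assoc, f1 i0]
        exact f2 0
      have k1 := congrArg (fun q => q.hom x₁) k
      have k2 := congrArg (fun q => q.hom x₂) k
      exact k1.trans (h.trans k2.symm)
    obtain ⟨k, f, g, hfg⟩ := (Concrete.isColimit_rep_eq_iff_exists _ hH x₁ x₂).1 e
    refine ⟨⟨T a 0 (AsSmall.down.obj k), T_mem S a ha 0 _⟩, ?_⟩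
    show T a 0 (AsSmall.down.obj k) • x₁ = T a 0 (AsSmall.down.obj k) • x₂
    exact (HF_zsmul X n F _ x₁).symm.trans (hfg.trans (HF_zsmul X n F _ x₂))

end Final

end Groth.Agent.Lib.Helper16.EtLocz
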