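import Mathlib
import Groth.Prelude
import Groth.Agent.Lib.Helper5.FiltFin
import Groth.Agent.Lib.Helper5.OverProdProp
import Groth.Agent.Lib.Helper16.EtLocz

/-!
# Helper16: Čech cohomology of a finite family commutes with filtered colimits (étale, qcqs)

* `HC.isColimit_homology`: homology of complexes of abelian groups commutes with filtered colimits,
  in elementwise form.
* `CechEl`: element API for Mathlib's `cechComplexFunctor` in general universes, with
  `exists_lift` / `exists_kill` (after helper13/helper5, whose versions fix the universes).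
* `et_sections_inj` and `preserves_cechH`.
-/

set_option autoImplicit false
universe w v₁ u₁ u
open CategoryTheory CategoryTheory.Limits Opposite

namespace Groth.Agent.Lib.Helper16.CechFilt

noncomputable section

namespace HC

variable {κ : Type*} {c : ComplexShape κ}

section Single

variable (L : HomologicalComplex AddCommGrpCat.{w} c) (q : κ)

lemma exists_cycle (x : L.X q) (hx : (L.d q (c.next q)).hom x = 0) :
    ∃ z : L.cycles q, (L.iCycles q).hom z = x := by
  have hex : (ShortComplex.mk (L.iCycles q) (L.d q (c.next q))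
      (L.iCycles_d q (c.next q))).Exact :=
    ShortComplex.exact_of_f_is_kernel _ (L.cyclesIsKernel q (c.next q) rfl)
  exact (ShortComplex.ab_exact_iff _).1 hex x hx

lemma iCycles_inj : Function.Injective (L.iCycles q).hom :=
  (AddCommGrpCat.mono_iff_injective _).1 inferInstance

lemma homologyπ_surj : Function.Surjective (L.homologyπ q).hom :=
  (AddCommGrpCat.epi_iff_surjective _).1 inferInstance

lemma exists_of_homologyπ_eq_zero (z : L.cycles q) (hz : (L.homologyπ q).hom z = 0) :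
    ∃ y : L.X (c.prev q), (L.toCycles (c.prev q) q).hom y = z := by
  have hex : (ShortComplex.mk (L.toCycles (c.prev q) q) (L.homologyπ q)
      (L.toCycles_comp_homologyπ (c.prev q) q)).Exact :=
    ShortComplex.exact_of_g_is_cokernel _ (L.homologyIsCokernel (c.prev q) q rfl)
  exact (ShortComplex.ab_exact_iff _).1 hex z hz

lemma iCycles_d_apply (z : L.cycles q) :
    (L.d q (c.next q)).hom ((L.iCycles q).hom z) = 0 :=
  ConcreteCategory.congr_hom (L.iCycles_d q (c.next q)) z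

lemma toCycles_i_apply (y : L.X (c.prev q)) :
    (L.iCycles q).hom ((L.toCycles (c.prev q) q).hom y) = (L.d (c.prev q) q).hom y :=
  ConcreteCategory.congr_hom (L.toCycles_i (c.prev q) q) y

lemma homologyπ_toCycles_apply (y : L.X (c.prev q)) :
    (L.homologyπ q).hom ((L.toCycles (c.prev q) q).hom y) = 0 :=
  ConcreteCategory.congr_hom (L.toCycles_comp_homologyπ (c.prev q) q) y

end Single

section Map

variable {L L' : HomologicalComplex AddCommGrpCat.{w} c} (φ : L ⟶ L') (q : κ)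

lemma comm_apply (i j : κ) (x : L.X i) :
    (L'.d i j).hom ((φ.f i).hom x) = (φ.f j).hom ((L.d i j).hom x) :=
  ConcreteCategory.congr_hom (φ.comm i j) x

lemma cyclesMap_i_apply (z : L.cycles q) :
    (L'.iCycles q).hom ((HomologicalComplex.cyclesMap φ q).hom z) =
      (φ.f q).hom ((L.iCycles q).hom z) :=
  ConcreteCategory.congr_hom (HomologicalComplex.cyclesMap_i φ q) z

lemma homologyπ_naturality_apply (z : L.cycles q) :
    (HomologicalComplex.homologyMap φ q).hom ((L.homologyπ q).hom z) =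
      (L'.homologyπ q).hom ((HomologicalComplex.cyclesMap φ q).hom z) :=
  ConcreteCategory.congr_hom (HomologicalComplex.homologyπ_naturality φ q) z

end Map

variable {I : Type w} [SmallCategory I] [IsFiltered I]
  (K : I ⥤ HomologicalComplex AddCommGrpCat.{w} c) (t : Cocone K)
  (hS : ∀ (n : κ) (x : t.pt.X n), ∃ (i : I) (y : (K.obj i).X n), ((t.ι.app i).f n).hom y = x)
  (hI : ∀ (n : κ) (i : I) (y : (K.obj i).X n), ((t.ι.app i).f n).hom y = 0 →
    ∃ (j : I) (f : i ⟶ j), ((K.map f).f n).hom y = 0)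

omit [IsFiltered I] in
lemma w_apply {i j : I} (f : i ⟶ j) (n : κ) (y : (K.obj i).X n) :
    ((t.ι.app j).f n).hom (((K.map f).f n).hom y) = ((t.ι.app i).f n).hom y :=
  congrArg (fun φ : K.obj i ⟶ t.pt => (φ.f n).hom y) (t.w f)

omit [IsFiltered I] in
lemma map_comp_apply {i j k : I} (f : i ⟶ j) (g : j ⟶ k) (n : κ) (y : (K.obj i).X n) :
    ((K.map (f ≫ g)).f n).hom y = ((K.map g).f n).hom (((K.map f).f n).hom y) := by
  rw [K.map_comp]
  rfl

include hS hI in
lemma homology_surj (q : κ) (h : t.pt.homology q) :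
    ∃ (j : I) (h' : (K.obj j).homology q),
      (HomologicalComplex.homologyMap (t.ι.app j) q).hom h' = h := by
  obtain ⟨z, rfl⟩ := homologyπ_surj t.pt q h
  obtain ⟨i, y, hy⟩ := hS q ((t.pt.iCycles q).hom z)
  have hdy : ((t.ι.app i).f (c.next q)).hom (((K.obj i).d q (c.next q)).hom y) = 0 := by
    rw [← comm_apply, hy]
    exact iCycles_d_apply t.pt q z
  obtain ⟨j, f, hf⟩ := hI (c.next q) i _ hdy
  have hd' : ((K.obj j).d q (c.next q)).hom (((K.map f).f q).hom y) = 0 := by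
    rw [comm_apply]
    exact hf
  obtain ⟨z', hz'⟩ := exists_cycle (K.obj j) q _ hd'
  refine ⟨j, ((K.obj j).homologyπ q).hom z', ?_⟩
  rw [homologyπ_naturality_apply]
  congr 1
  apply iCycles_inj t.pt q
  rw [cyclesMap_i_apply, hz', w_apply, hy]

include hS hI in
lemma homology_inj (q : κ) (j : I) (h : (K.obj j).homology q)
    (hh : (HomologicalComplex.homologyMap (t.ι.app j) q).hom h = 0) :
    ∃ (k : I) (f : j ⟶ k), (HomologicalComplex.homologyMap (K.map f) q).hom h = 0 := by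
  obtain ⟨z, rfl⟩ := homologyπ_surj (K.obj j) q h
  rw [homologyπ_naturality_apply] at hh
  obtain ⟨y, hy⟩ := exists_of_homologyπ_eq_zero t.pt q _ hh
  have hy' : (t.pt.d (c.prev q) q).hom y =
      ((t.ι.app j).f q).hom (((K.obj j).iCycles q).hom z) := by
    rw [← toCycles_i_apply, hy, cyclesMap_i_apply]
  obtain ⟨j', y', rfl⟩ := hS (c.prev q) y
  let k := IsFiltered.max j j'
  let f : j ⟶ k := IsFiltered.leftToMax j j'
  let f' : j' ⟶ k := IsFiltered.rightToMax j j'
  let wk : (K.obj k).X q := ((K.map f).f q).hom (((K.obj j).iCycles q).hom z) -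
    ((K.obj k).d (c.prev q) q).hom (((K.map f').f (c.prev q)).hom y')
  have hw : ((t.ι.app k).f q).hom wk = 0 := by
    show ((t.ι.app k).f q).hom (((K.map f).f q).hom (((K.obj j).iCycles q).hom z) -
      ((K.obj k).d (c.prev q) q).hom (((K.map f').f (c.prev q)).hom y')) = 0
    rw [map_sub, w_apply, ← comm_apply, w_apply]
    exact sub_eq_zero.2 hy'.symm
  obtain ⟨l, g, hg⟩ := hI q k wk hw
  refine ⟨l, f ≫ g, ?_⟩
  rw [homologyπ_naturality_apply]
  have hcyc : (HomologicalComplex.cyclesMap (K.map (f ≫ g)) q).hom z =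
      ((K.obj l).toCycles (c.prev q) q).hom
        (((K.map g).f (c.prev q)).hom (((K.map f').f (c.prev q)).hom y')) := by
    apply iCycles_inj (K.obj l) q
    rw [cyclesMap_i_apply, toCycles_i_apply, map_comp_apply, comm_apply]
    have hg' : ((K.map g).f q).hom (((K.map f).f q).hom (((K.obj j).iCycles q).hom z) -
      ((K.obj k).d (c.prev q) q).hom (((K.map f').f (c.prev q)).hom y')) = 0 := hg
    rw [map_sub, sub_eq_zero] at hg'
    exact hg'
  rw [hcyc, homologyπ_toCycles_apply]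

include hS hI in
/-- homology commutes with a filtered colimit given elementwise -/
def isColimit_homology (q : κ) :
    IsColimit ((HomologicalComplex.homologyFunctor AddCommGrpCat.{w} c q).mapCocone t) := by
  haveI : ReflectsColimit (K ⋙ HomologicalComplex.homologyFunctor AddCommGrpCat.{w} c q)
      (forget AddCommGrpCat.{w}) := reflectsColimit_of_reflectsIsomorphisms _ _
  refine isColimitOfReflects (forget AddCommGrpCat.{w}) ?_
  refine Types.FilteredColimit.isColimitOf' _ _ ?_ ?_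
  · intro (h : t.pt.homology q)
    obtain ⟨j, h', hh'⟩ := homology_surj K t hS hI q h
    exact ⟨j, h', hh'.symm⟩
  · intro j (h : (K.obj j).homology q) (h' : (K.obj j).homology q) heq
    have h0 : (HomologicalComplex.homologyMap (t.ι.app j) q).hom (h - h') = 0 := by
      rw [map_sub, sub_eq_zero]
      exact heq
    obtain ⟨k, f, hf⟩ := homology_inj K t hS hI q j (h - h') h0
    refine ⟨k, f, ?_⟩
    rw [map_sub, sub_eq_zero] at hf
    exact hf

end HC

namespace CechEl

variable {D : Type u₁} [Category.{v₁} D] [HasFiniteProducts D] {ι : Type w} (Y : ι → D)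

section API

variable (P : Dᵒᵖ ⥤ AddCommGrpCat.{w})

/-- The Čech complex of the presheaf `P` with respect to the family `Y`. -/
abbrev cx : CochainComplex AddCommGrpCat.{w} ℕ := (cechComplexFunctor Y).obj P

/-- the projection of the degree `n` term of the Čech complex to the component of index `i`. -/
def proj (n : ℕ) (i : Fin (n + 1) → ι) : (cx Y P).X n ⟶ P.obj (op (∏ᶜ (Y ∘ i))) :=
  Pi.π (fun i : Fin (n + 1) → ι => P.obj (op (∏ᶜ (Y ∘ i)))) i

lemma ext_elem {n : ℕ} {x y : (cx Y P).X n}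
    (h : ∀ i, (proj Y P n i).hom x = (proj Y P n i).hom y) : x = y := by
  apply (Concrete.productEquiv (fun i : Fin (n + 1) → ι => P.obj (op (∏ᶜ (Y ∘ i))))).injective
  funext i
  have hx := Concrete.productEquiv_apply_apply
    (fun i : Fin (n + 1) → ι => P.obj (op (∏ᶜ (Y ∘ i))))
    (x : ToType (∏ᶜ fun i : Fin (n + 1) → ι => P.obj (op (∏ᶜ (Y ∘ i))))) i
  have hy := Concrete.productEquiv_apply_apply
    (fun i : Fin (n + 1) → ι => P.obj (op (∏ᶜ (Y ∘ i))))
    (y : ToType (∏ᶜ fun i : Fin (n + 1) → ι => P.obj (op (∏ᶜ (Y ∘ i))))) i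
  exact hx.trans ((h i).trans hy.symm)

/-- the element of the degree `n` term of the Čech complex with given components. -/
def mk {n : ℕ} (c : ∀ i : Fin (n + 1) → ι, P.obj (op (∏ᶜ (Y ∘ i)))) : (cx Y P).X n :=
  (Concrete.productEquiv (fun i : Fin (n + 1) → ι => P.obj (op (∏ᶜ (Y ∘ i))))).symm c

lemma proj_mk {n : ℕ} (c : ∀ i : Fin (n + 1) → ι, P.obj (op (∏ᶜ (Y ∘ i))))
    (i : Fin (n + 1) → ι) : (proj Y P n i).hom (mk Y P c) = c i :=
  Concrete.productEquiv_symm_apply_π _ _ _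

variable {P} in
lemma map_proj {P' : Dᵒᵖ ⥤ AddCommGrpCat.{w}} (τ : P ⟶ P') (n : ℕ) (i : Fin (n + 1) → ι) :
    ((cechComplexFunctor Y).map τ).f n ≫ proj Y P' n i =
      proj Y P n i ≫ τ.app (op (∏ᶜ (Y ∘ i))) := by
  have : ((cechComplexFunctor Y).map τ).f n =
      Limits.Pi.map (fun i : Fin (n + 1) → ι => τ.app (op (∏ᶜ (Y ∘ i)))) := rfl
  rw [this]
  exact Pi.map_π _ _

end API

section Maps

variable {P P' : Dᵒᵖ ⥤ AddCommGrpCat.{w}} (τ : P ⟶ P')

/-- the induced map on Čech cochains, on elements -/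
def cmap (m : ℕ) : (cx Y P).X m →+ (cx Y P').X m := (((cechComplexFunctor Y).map τ).f m).hom

lemma proj_cmap (m : ℕ) (a : Fin (m + 1) → ι) (x : (cx Y P).X m) :
    (proj Y P' m a).hom (cmap Y τ m x) = (τ.app (op (∏ᶜ (Y ∘ a)))).hom ((proj Y P m a).hom x) :=
  ConcreteCategory.congr_hom (map_proj Y τ m a) x

end Maps

variable [Finite ι] {I : Type*} [Category* I] [IsFiltered I]
  (Q : I ⥤ (Dᵒᵖ ⥤ AddCommGrpCat.{w})) {R : Dᵒᵖ ⥤ AddCommGrpCat.{w}} (τ : ∀ i, Q.obj i ⟶ R)
  (hτ : ∀ {i j : I} (f : i ⟶ j), Q.map f ≫ τ j = τ i)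

include hτ in
lemma exists_lift (m : ℕ)
    (hsurj : ∀ (a : Fin (m + 1) → ι) (s : R.obj (op (∏ᶜ (Y ∘ a)))),
      ∃ (i : I) (t : (Q.obj i).obj (op (∏ᶜ (Y ∘ a)))), ((τ i).app _).hom t = s)
    (x : (cx Y R).X m) : ∃ (i : I) (y : (cx Y (Q.obj i)).X m), cmap Y (τ i) m y = x := by
  choose i0 t0 ht0 using fun a => hsurj a ((proj Y R m a).hom x)
  obtain ⟨l, hl⟩ := Groth.Agent.Lib.Helper5.FiltFin.exists_bound i0
  refine ⟨l, mk Y (Q.obj l) (fun a => ((Q.map (hl a).some).app _).hom (t0 a)), ?_⟩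
  apply ext_elem
  intro a
  rw [proj_cmap, proj_mk, ← ht0 a]
  have := hτ (hl a).some
  exact ConcreteCategory.congr_hom (NatTrans.congr_app this (op (∏ᶜ (Y ∘ a)))) (t0 a)

omit [Finite ι] [IsFiltered I] in
lemma map_comp_apply {i j l : I} (f : i ⟶ j) (g : j ⟶ l) (W : Dᵒᵖ) (t : (Q.obj i).obj W) :
    ((Q.map (f ≫ g)).app W).hom t = ((Q.map g).app W).hom (((Q.map f).app W).hom t) := by
  rw [Q.map_comp]; rfl

lemma exists_kill (m : ℕ)
    (hinj : ∀ (a : Fin (m + 1) → ι) (i : I) (t : (Q.obj i).obj (op (∏ᶜ (Y ∘ a)))),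
      ((τ i).app _).hom t = 0 → ∃ (j : I) (f : i ⟶ j), ((Q.map f).app _).hom t = 0)
    (i : I) (y : (cx Y (Q.obj i)).X m) (hy : cmap Y (τ i) m y = 0) :
    ∃ (j : I) (f : i ⟶ j), cmap Y (Q.map f) m y = 0 := by
  have h : ∀ a : Fin (m + 1) → ι, ∃ (j : I) (f : i ⟶ j),
      ((Q.map f).app (op (∏ᶜ (Y ∘ a)))).hom ((proj Y (Q.obj i) m a).hom y) = 0 := by
    intro a
    apply hinj
    rw [← proj_cmap, hy, map_zero]
  obtain ⟨j, f, hf⟩ := Groth.Agent.Lib.Helper5.FiltFin.exists_common i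
    (fun (a : Fin (m + 1) → ι) j f =>
      ((Q.map f).app (op (∏ᶜ (Y ∘ a)))).hom ((proj Y (Q.obj i) m a).hom y) = 0)
    (fun a j f l g hp => by
      change ((Q.map (f ≫ g)).app (op (∏ᶜ (Y ∘ a)))).hom _ = 0
      rw [map_comp_apply, hp, map_zero]) h
  refine ⟨j, f, ?_⟩
  apply ext_elem
  intro a
  rw [proj_cmap, hf a, map_zero]

end CechEl

end

section Etale

open AlgebraicGeometry Groth.Agent.Lib.Helper5 Groth.Agent.Lib.Helper16.EtLocz

variable (X : Scheme.{u}) [CompactSpace X] [QuasiSeparatedSpace X]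

set_option backward.isDefEq.respectTransparency false in
theorem et_sections_inj {I : Type (u + 1)} [SmallCategory I] [IsFiltered I]
    (D : I ⥤ EtCoh.Ab X) (d : Cocone D) (hd : IsColimit d) (V : X.Etale)
    (hV : V ∈ EtaleQcqs.Bq X) (i : I) (t : (D.obj i).obj.obj (op V))
    (h : ((d.ι.app i).hom.app (op V)).hom t = 0) :
    ∃ (j : I) (f : i ⟶ j), ((D.map f).hom.app (op V)).hom t = 0 := by
  have hd' : IsColimit ((SmallModelH.Φ X.smallEtaleTopology).functor.mapCocone d) :=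
    isColimitOfPreserves (SmallModelH.Φ X.smallEtaleTopology).functor hd
  exact SiteColimSections.sections_inj (D ⋙ (SmallModelH.Φ X.smallEtaleTopology).functor)
    (SmallModelH.B' (EtaleQcqs.Bq X)) (SmallModelH.Cov' (EtaleQcqs.Cov X))
    (SmallModelH.h1' X.smallEtaleTopology _ _ (fun _ _ e h => EtaleQcqs.Bq_iso e h)
      (EtaleQcqs.h1 X))
    (SmallModelH.h2' X.smallEtaleTopology _ _ (EtaleQcqs.h2 X))
    ((SmallModelH.Φ X.smallEtaleTopology).functor.mapCocone d) hd'
    (V := ULiftHom.objUp V) hV i t h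

theorem preserves_cechH (U : X.Etale) (hU : U ∈ EtaleQcqs.Bq X)
    [HasFiniteProducts (Over U)] (ι : Type (u + 1)) [Finite ι] (Uf : ι → Over U)
    (hUf : ∀ i, (Uf i).left ∈ EtaleQcqs.Bq X)
    (q : ℕ) (I : Type (u + 1)) [SmallCategory I] [IsFiltered I] :
    PreservesColimitsOfShape I
      (sheafToPresheaf X.smallEtaleTopology AddCommGrpCat.{u + 1} ⋙ EtCech.cechHFunctor Uf q) := by
  have hprod : ∀ (n : ℕ) (a : Fin (n + 1) → ι), (∏ᶜ (Uf ∘ a)).left ∈ EtaleQcqs.Bq X :=
    fun n a => OverProdProp.prod_left (· ∈ EtaleQcqs.Bq X) EtaleQcqs.Bq_iso EtaleQcqs.Bq_pullback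
      U hU (n + 1) (Uf ∘ a) (fun k => hUf _)
  constructor
  intro D
  constructor
  intro d hd
  refine ⟨?_⟩
  let Φ : EtCoh.Ab X ⥤ CochainComplex AddCommGrpCat.{u + 1} ℕ :=
    sheafToPresheaf X.smallEtaleTopology AddCommGrpCat.{u + 1} ⋙
      (Functor.whiskeringLeft (Over U)ᵒᵖ X.Etaleᵒᵖ AddCommGrpCat.{u + 1}).obj (Over.forget U).op ⋙
        cechComplexFunctor Uf
  let Q : I ⥤ ((Over U)ᵒᵖ ⥤ AddCommGrpCat.{u + 1}) :=
    D ⋙ sheafToPresheaf X.smallEtaleTopology AddCommGrpCat.{u + 1} ⋙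
      (Functor.whiskeringLeft (Over U)ᵒᵖ X.Etaleᵒᵖ AddCommGrpCat.{u + 1}).obj (Over.forget U).op
  let R : (Over U)ᵒᵖ ⥤ AddCommGrpCat.{u + 1} := (Over.forget U).op ⋙ d.pt.obj
  let τ : ∀ i, Q.obj i ⟶ R := fun i => Functor.whiskerLeft (Over.forget U).op (d.ι.app i).hom
  have hτ : ∀ {i j : I} (f : i ⟶ j), Q.map f ≫ τ j = τ i := by
    intro i j f
    refine NatTrans.ext (funext fun W => ?_)
    exact congrArg (fun φ : D.obj i ⟶ d.pt => φ.hom.app ((Over.forget U).op.obj W)) (d.w f)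
  have hsurj : ∀ (m : ℕ) (a : Fin (m + 1) → ι) (s : R.obj (op (∏ᶜ (Uf ∘ a)))),
      ∃ (i : I) (t : (Q.obj i).obj (op (∏ᶜ (Uf ∘ a)))), ((τ i).app _).hom t = s :=
    fun m a s => et_sections_surj X D d hd (∏ᶜ (Uf ∘ a)).left (hprod m a) s
  have hinj : ∀ (m : ℕ) (a : Fin (m + 1) → ι) (i : I) (t : (Q.obj i).obj (op (∏ᶜ (Uf ∘ a)))),
      ((τ i).app _).hom t = 0 → ∃ (j : I) (f : i ⟶ j), ((Q.map f).app _).hom t = 0 :=
    fun m a i t h => et_sections_inj X D d hd (∏ᶜ (Uf ∘ a)).left (hprod m a) i t h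
  exact HC.isColimit_homology (D ⋙ Φ) (Φ.mapCocone d)
    (fun n x => CechEl.exists_lift Uf Q τ hτ n (hsurj n) x)
    (fun n i y hy => CechEl.exists_kill Uf Q τ n (hinj n) i y hy) q

end Etale

end Groth.Agent.Lib.Helper16.CechFilt
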