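import Groth.Agent.Lib.Helper16.ClosedPtSp
import Groth.Agent.Lib.Helper16.JacobsonDecent

/-!
# Helper library (helper16): a quasi-compact monomorphic field-valued point whose structure morphism to the base is
universally closed has closed image
-/

set_option autoImplicit false
universe u
open CategoryTheory CategoryTheory.Limits AlgebraicGeometry Opposite Topology

namespace Groth.Agent.Lib.Helper16.ClosedPt

open AlgSp Groth.Agent.Lib.Helper16

variable {S : Scheme.{u}}

theorem isClosed_mk_of_universallyClosed_str {X : Sp S} (hX : IsAlgSpace X) (p : FieldPt X)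
    (hq : RepWith @QuasiCompact p.toHom) (huc : UniversallyClosed p.str) :
    IsClosed ({Points.mk p} : Set (Points X)) := by
  obtain ⟨V, b, hbe, hbs⟩ := hX.atlas
  obtain ⟨T, snd, fst, sq⟩ := hq.rep b
  obtain ⟨c, rfl⟩ := (yon S).map_surjective fst
  have hce : Etale c.left := hbe.property _ _ _ sq.flip
  have hrange : Set.range snd.left = Points.ofPt b ⁻¹' {Points.mk p} := by
    ext v
    constructor
    · rintro ⟨t, rfl⟩
      show Points.ofPt b (snd.left t) = Points.mk p
      rw [← ofPt_yon_map_comp, ← sq.w, ← Points.map_ofPt]
      exact FibreEmb.points_map_toHom_eq p _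
    · intro hv
      obtain ⟨t, ht, -⟩ := exists_point_of_isPullback_yon_yon sq.flip v (IsLocalRing.closedPoint p.K)
        (hv.trans (Points.ofPt_toHom p _).symm)
      exact ⟨t, ht⟩
  have hptcl : ∀ w : ↥T.left, IsClosed ({snd.left w} : Set ↥V.left) := by
    intro w
    have h1 : T.left.fromSpecResidueField w ≫ c.left =
        Spec.map (c.left.residueFieldMap w) ≫ (p.pt.left).fromSpecResidueField (c.left w) :=
      (Scheme.Hom.SpecMap_residueFieldMap_fromSpecResidueField c.left w).symm
    have hint : IsIntegralHom (Spec.map (c.left.residueFieldMap w)) := by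
      rw [IsIntegralHom.SpecMap_iff]
      let : Algebra (p.pt.left.residueField (c.left w)) (T.left.residueField w) :=
        (c.left.residueFieldMap w).hom.toAlgebra
      have hsep : Algebra.IsSeparable (p.pt.left.residueField (c.left w)) (T.left.residueField w) :=
        inferInstance
      have hint' : Algebra.IsIntegral (p.pt.left.residueField (c.left w)) (T.left.residueField w) :=
        inferInstance
      exact fun y => Algebra.IsIntegral.isIntegral y
    have hci : IsClosedImmersion ((p.pt.left).fromSpecResidueField (c.left w)) := by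
      rw [← isClosed_singleton_iff_isClosedImmersion]
      have hsub : Subsingleton ↥p.pt.left := inferInstanceAs (Subsingleton ↥(Spec (CommRingCat.of p.K)))
      have : ({c.left w} : Set ↥p.pt.left) = Set.univ := by
        ext z
        simp only [Set.mem_singleton_iff, Set.mem_univ, iff_true]
        exact Subsingleton.elim _ _
      rw [this]
      exact isClosed_univ
    have huc1 : UniversallyClosed (T.left.fromSpecResidueField w ≫ c.left) := by
      rw [h1]; infer_instance
    have huc2 : UniversallyClosed ((T.left.fromSpecResidueField w ≫ snd.left) ≫ V.hom) := by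
      have e : (T.left.fromSpecResidueField w ≫ snd.left) ≫ V.hom =
          (T.left.fromSpecResidueField w ≫ c.left) ≫ p.str := by
        rw [Category.assoc, Category.assoc, Over.w snd]
        exact congrArg (fun t => T.left.fromSpecResidueField w ≫ t) (Over.w c).symm
      rw [e]
      infer_instance
    have := isClosed_singleton_of_universallyClosed_comp (T.left.residueField w)
      (T.left.fromSpecResidueField w ≫ snd.left) V.hom
    rwa [Scheme.Hom.comp_apply, Scheme.fromSpecResidueField_apply] at this
  have hT : IsClosed (Points.ofPt b ⁻¹' {Points.mk p}) := by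
    rw [TopologicalSpace.IsOpenCover.isClosed_iff_coe_preimage (iSup_affineOpens_eq_top V.left)]
    intro W
    have hfin := FibreEmb.finite_fibre_inter_affine_of_qc p hq b hbe W.1 W.2
    have hcl : IsClosed ((Points.ofPt b ⁻¹' {Points.mk p}) ∩ (W.1 : Set ↥V.left)) := by
      rw [← Set.biUnion_of_singleton ((Points.ofPt b ⁻¹' {Points.mk p}) ∩ (W.1 : Set ↥V.left))]
      refine hfin.isClosed_biUnion fun v hv => ?_
      obtain ⟨w, rfl⟩ := hrange.ge hv.1
      exact hptcl w
    have e : ((↑) : (W.1 : Set ↥V.left) → ↥V.left) ⁻¹' (Points.ofPt b ⁻¹' {Points.mk p}) =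
        (↑) ⁻¹' ((Points.ofPt b ⁻¹' {Points.mk p}) ∩ (W.1 : Set ↥V.left)) := by
      ext z
      simp only [Set.mem_preimage, Set.mem_inter_iff]
      exact ⟨fun h => ⟨h, z.2⟩, fun h => h.1⟩
    exact e ▸ hcl.preimage continuous_subtype_val
  exact (FtPt.isQuotientMap_ofPt b hbe hbs).isClosed_preimage.1 hT

end Groth.Agent.Lib.Helper16.ClosedPt
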