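import Groth.Agent.Lib.Helper16.ClosedPt
import Groth.Agent.Lib.Helper16.FibreEmb
import Groth.Agent.Lib.Helper16.Descent
import Groth.Agent.Lib.Helper1.FpqcDescent

/-!
# Helper library (helper16): a closed point represented by a quasi-compact monomorphism is a closed immersion
-/

set_option autoImplicit false
universe u
open CategoryTheory CategoryTheory.Limits AlgebraicGeometry Opposite Topology

namespace Groth.Agent.Lib.Helper16.ClosedPt

open AlgSp Groth.Agent.Lib.Helper16

variable {S : Scheme.{u}}

/-- A quasi-compact monomorphic field-valued point whose image is a closed point is a closed immersion. -/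
theorem repWith_isClosedImmersion_of_isClosed {X : Sp S} (hX : IsAlgSpace X) (p : FieldPt X)
    (hm : Mono p.toHom) (hq : RepWith @QuasiCompact p.toHom)
    (hcl : IsClosed ({Points.mk p} : Set (Points X))) : RepWith @IsClosedImmersion p.toHom := by
  obtain ⟨V, b, hbe, hbs⟩ := hX.atlas
  obtain ⟨T, snd, fst, sq⟩ := hq.rep b
  obtain ⟨c, rfl⟩ := (yon S).map_surjective fst
  have hce : Etale c.left := hbe.property _ _ _ sq.flip
  have hmono1 : Mono ((yon S).map snd) :=
    MorphismProperty.of_isPullback (P := MorphismProperty.monomorphisms _) sq
      (MorphismProperty.monomorphisms.infer_property _)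
  have hmono2 : Mono snd := (yon S).mono_of_mono_map hmono1
  have hmono3 : Mono snd.left := inferInstance
  have hfield : ∀ t : ↥T.left, IsField (T.left.presheaf.stalk t) := fun t =>
    isField_stalk_of_etale_field p.K c.left t
  have hsos : SurjectiveOnStalks snd.left := surjectiveOnStalks_of_mono_of_isField snd.left hfield
  have hemb := (FibreEmb.isEmbedding_map_fst_of_qc_mono_point (IsAlgSpace.yon_obj V) hX b p hm hq
    ((yon S).map snd) ((yon S).map c) sq.flip).1
  have hemb' : IsEmbedding snd.left := by
    have h1 : IsEmbedding (Points.ofScheme V ∘ snd.left) := by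
      have e : Points.ofScheme V ∘ snd.left = Points.map ((yon S).map snd) ∘ Points.ofScheme T := by
        funext t; exact (map_yon_map_ofScheme snd t).symm
      rw [e]
      exact hemb.comp (Points.schemeHomeo T).isEmbedding
    exact (IsEmbedding.of_comp_iff (Points.schemeHomeo V).isEmbedding).1 h1
  have hrange : Set.range snd.left = Points.ofPt b ⁻¹' {Points.mk p} := by
    ext v
    constructor
    · rintro ⟨t, rfl⟩
      show Points.ofPt b (snd.left t) = Points.mk p
      rw [← ofPt_yon_map_comp, ← sq.w, ← Points.map_ofPt]
      exact FibreEmb.points_map_toHom_eq p _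
    · intro hv
      obtain ⟨t, ht, -⟩ := exists_point_of_isPullback_yon_yon sq.flip v (IsLocalRing.closedPoint p.K)
        (hv.trans (Points.ofPt_toHom p _).symm)
      exact ⟨t, ht⟩
  have hclosed : IsClosed (Set.range snd.left) := by
    rw [hrange]; exact hcl.preimage (Points.continuous_ofPt b)
  have hpre : IsPreimmersion snd.left := ⟨hemb'⟩
  have hci : IsClosedImmersion snd.left := IsClosedImmersion.of_isPreimmersion snd.left hclosed
  exact repWith_of_chart_of_descends p.toHom hq.rep b hbe hbs ((yon S).map c) snd sq @IsClosedImmersion hci

end Groth.Agent.Lib.Helper16.ClosedPt
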