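import Groth.Agent.Lib.Helper16.StrataSp
import Groth.Agent.Lib.Helper16.EtDim

/-!
# Helper library (helper16): degree strata of quasi-compact etale separated morphisms, and points of codimension 0
-/

set_option autoImplicit false
universe u
open CategoryTheory CategoryTheory.Limits AlgebraicGeometry Opposite

namespace Groth.Agent.Lib.Helper16.Strata

open AlgSp

/-- The geometric degrees of the fibres of an etale morphism with quasi-compact source are bounded. -/
theorem exists_bound_hasDeg_of_compactSpace {R U : Scheme.{u}} (s : R ⟶ U) [Etale s] [CompactSpace ↥R] :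
    ∃ N : ℕ, ∀ (u : ↥U) (d : ℕ), HasDeg s u d → d ≤ N := by
  let W : Over U := Over.mk s
  let U' : Over U := Over.mk (𝟙 U)
  let f : W ⟶ U' := Over.homMk s
  have : CompactSpace ↥W.left := ‹CompactSpace ↥R›
  have : Etale f.left := ‹Etale s›
  obtain ⟨n, hn⟩ := UBF.hasUnivBddFibres_yon_map_of_etale f
  refine ⟨n, ?_⟩
  rintro u d ⟨K, _, x, ρ, hx, hρ, hinj⟩
  let TK : Over U := Over.mk x
  let φ : TK ⟶ U' := Over.homMk x
  let z : Fin d → (TK ⟶ W) := fun i => Over.homMk (ρ i) (hρ i)
  have sqP := (IsPullback.of_hasPullback φ f).map (yon U)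
  have hdeg := degFibresLE_apply_hom hn x ((yon U).map φ) (pullback φ f) (pullback.fst φ f)
    ((yon U).map (pullback.snd φ f)) sqP
  have hz : ∀ i, 𝟙 TK ≫ φ = z i ≫ f := by
    intro i
    apply Over.OverMorphism.ext
    change 𝟙 _ ≫ x = ρ i ≫ s
    rw [Category.id_comp, hρ]
  let τ : Fin d → (TK ⟶ pullback φ f) := fun i => pullback.lift (𝟙 TK) (z i) (hz i)
  refine card_sections_le (pullback.fst φ f).left hdeg (fun i => (τ i).left) (fun i => ?_) (fun i j hij => ?_)
  · have : τ i ≫ pullback.fst φ f = 𝟙 TK := pullback.lift_fst _ _ _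
    exact congrArg CommaMorphism.left this
  · have h1 : τ i = τ j := Over.OverMorphism.ext hij
    have h2 : z i = z j := by
      have := congrArg (· ≫ pullback.snd φ f) h1
      simpa only [τ, pullback.lift_snd] using this
    exact hinj (congrArg CommaMorphism.left h2)

instance quasiCompact_s' {R U : Scheme.{u}} (s : R ⟶ U) [Etale s] [IsSeparated s] [QuasiCompact s] :
    QuasiCompact (s' s) := by
  have hcl : IsClosed ((offDiag s : (pullback s s).Opens) : Set ↥(pullback s s)) := by
    change IsClosed (Set.range (pullback.diagonal s))ᶜ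
    exact (pullback.diagonal s).isOpenEmbedding.isOpen_range.isClosed_compl
  have hιcl : IsClosedImmersion (offDiag s).ι := by
    refine IsClosedImmersion.of_isPreimmersion _ ?_
    rw [Scheme.Opens.range_ι]
    exact hcl
  unfold s'
  infer_instance

/-- For a quasi-compact etale separated morphism to a quasi-compact scheme, the degree strata are quasi-compact. -/
theorem isCompact_setOf_hasDeg (d : ℕ) : ∀ {R U : Scheme.{u}} (s : R ⟶ U) [Etale s] [IsSeparated s]
    [QuasiCompact s] [CompactSpace ↥U], IsCompact {u | HasDeg s u d} := by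
  induction d with
  | zero =>
    intro R U s _ _ _ _
    have : {u | HasDeg s u 0} = Set.univ := by
      ext u
      simp only [Set.mem_ofPred_eq, Set.mem_univ, iff_true]
      exact hasDeg_zero s u
    rw [this]
    exact isCompact_univ
  | succ d ih =>
    intro R U s _ _ _ _
    rw [setOf_hasDeg_succ]
    have : CompactSpace ↥R := QuasiCompact.compactSpace_of_compactSpace s
    exact (ih (s' s)).image s.continuous

/-- Near a point of codimension 0, a function vanishing at the point is nowhere invertible. -/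
theorem exists_open_disjoint_basicOpen {X : Scheme.{u}} (x : ↥X) (hx : ringKrullDim ↥(X.presheaf.stalk x) = 0)
    (W : X.Opens) (hxW : x ∈ W) (f : Γ(X, W)) (hf : x ∉ X.basicOpen f) :
    ∃ V : X.Opens, x ∈ V ∧ Disjoint (V : Set ↥X) (X.basicOpen f : Set ↥X) := by
  have hdim : Ring.KrullDimLE 0 ↥(X.presheaf.stalk x) := Ring.krullDimLE_iff.2 (by rw [hx]; rfl)
  have hnu : ¬ IsUnit (X.presheaf.germ W x hxW f) := fun h => hf ((X.mem_basicOpen f x hxW).2 h)
  have hnil : IsNilpotent (X.presheaf.germ W x hxW f) :=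
    Ring.KrullDimLE.isNilpotent_iff_mem_nonunits.2 hnu
  obtain ⟨n, hn⟩ := hnil
  have h0 : X.presheaf.germ W x hxW (f ^ n) = X.presheaf.germ W x hxW 0 := by
    rw [map_pow, hn, map_zero]
  obtain ⟨V, hxV, iU, iV, hres⟩ := TopCat.Presheaf.germ_eq X.presheaf x hxW hxW _ _ h0
  refine ⟨V, hxV, ?_⟩
  rw [Set.disjoint_left]
  intro v hvV hvf
  have hvW : v ∈ W := iU.le hvV
  have hu : IsUnit (X.presheaf.germ W v hvW f) := (X.mem_basicOpen f v hvW).1 hvf
  have h1 : X.presheaf.germ W v hvW (f ^ n) = 0 := by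
    rw [← X.presheaf.germ_res_apply iU v hvV, hres, map_zero, map_zero]
  rw [map_pow] at h1
  have h2 : IsUnit (0 : ↥(X.presheaf.stalk v)) := h1 ▸ hu.pow n
  exact not_isUnit_zero h2

/-- A point of codimension 0 of an affine scheme is not in the closure of a quasi-compact open not containing it. -/
theorem not_mem_closure_of_codim_zero {X : Scheme.{u}} [IsAffine X] (x : ↥X)
    (hx : ringKrullDim ↥(X.presheaf.stalk x) = 0) (Z : Set ↥X) (hZo : IsOpen Z) (hZc : IsCompact Z)
    (hxZ : x ∉ Z) : x ∉ closure Z := by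
  obtain ⟨s, hs, rfl⟩ := isCompact_and_isOpen_iff_finite_and_eq_biUnion_basicOpen.1 ⟨hZc, hZo⟩
  have h : ∀ f ∈ s, ∃ V : X.Opens, x ∈ V ∧ Disjoint (V : Set ↥X) (X.basicOpen f : Set ↥X) := fun f hf =>
    exists_open_disjoint_basicOpen x hx ⊤ trivial f (fun h' => hxZ (Set.mem_iUnion₂.2 ⟨f, hf, h'⟩))
  choose! V hV1 hV2 using h
  intro hcl
  rw [mem_closure_iff] at hcl
  obtain ⟨y, hyO, hyZ⟩ := hcl (⋂ f ∈ s, (V f : Set ↥X)) (hs.isOpen_biInter fun f _ => (V f).isOpen)
    (Set.mem_iInter₂.2 fun f hf => hV1 f hf)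
  obtain ⟨f, hf, hyf⟩ := Set.mem_iUnion₂.1 hyZ
  exact Set.disjoint_left.1 (hV2 f hf) (Set.mem_iInter₂.1 hyO f hf) hyf

set_option backward.isDefEq.respectTransparency.types false in
/-- Every nonempty open subset of a scheme contains a point of codimension 0. -/
theorem exists_codim_zero_mem {U : Scheme.{u}} (O : U.Opens) {u₁ : ↥U} (hu₁ : u₁ ∈ O) :
    ∃ u ∈ O, ringKrullDim ↥(U.presheaf.stalk u) = 0 := by
  obtain ⟨R, f, hf, ⟨y₁, hy₁⟩, hsub⟩ := Scheme.exists_affine_mem_range_and_range_subset hu₁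
  obtain ⟨p, hp, -⟩ := Ideal.exists_minimalPrimes_le (I := ⊥) (J := y₁.asIdeal) bot_le
  have hpp : p.IsPrime := hp.1.1
  let y : ↥(Spec R) := ⟨p, hpp⟩
  refine ⟨f y, hsub ⟨y, rfl⟩, ?_⟩
  rw [← EtDim.ringKrullDim_stalk_eq_of_etale f y]
  let k : Algebra ↑R ↑((Spec R).presheaf.stalk y) := StructureSheaf.stalkAlgebra (↑R) y
  have : IsLocalization.AtPrime (↑((Spec R).presheaf.stalk y)) y.asIdeal :=
    StructureSheaf.IsLocalization.to_stalk R y
  rw [IsLocalization.AtPrime.ringKrullDim_eq_height y.asIdeal ((Spec R).presheaf.stalk y)]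
  have : y.asIdeal.height = 0 := Ideal.height_eq_zero_iff.2 hp
  rw [this]
  rfl

end Groth.Agent.Lib.Helper16.Strata
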