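import Groth.Prelude.Def_TwC
import Mathlib

/-!
# Twisted constant schemes for the étale topology are separated, étale and satisfy the
valuative criterion (helper16).
-/

set_option autoImplicit false

open CategoryTheory CategoryTheory.Limits AlgebraicGeometry MorphismProperty

universe u

namespace Groth.Helper16.TwConstEtale

section Descent

variable {S : Scheme.{u}}

lemma pullback_snd_of_eq (P : MorphismProperty Scheme.{u}) {X S T : Scheme.{u}}
    (h : X ⟶ S) (g g' : T ⟶ S) (e : g = g') (H : P (pullback.snd h g')) :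
    P (pullback.snd h g) := by
  subst e; exact H

set_option backward.isDefEq.respectTransparency.types false in
/-- Descent of a property along a jointly surjective family of flat lfp morphisms. -/
theorem descend (P : MorphismProperty Scheme.{u}) [IsZariskiLocalAtTarget P]
    [P.DescendsAlong (@Surjective ⊓ @Flat ⊓ @LocallyOfFinitePresentation)]
    {ι : Type u} {S' : ι → Scheme.{u}} (f : ∀ i, S' i ⟶ S)
    {X : Scheme.{u}} (h : X ⟶ S)
    (hf : ∀ i, Flat (f i)) (hf' : ∀ i, LocallyOfFinitePresentation (f i))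
    (hs : ∀ s : S, ∃ i, s ∈ Set.range (f i))
    (H : ∀ i, P (pullback.snd h (f i))) : P h := by
  have hF : (@Surjective ⊓ @Flat ⊓ @LocallyOfFinitePresentation : MorphismProperty Scheme.{u})
      (Sigma.desc f) := by
    refine ⟨⟨?_, ?_⟩, ?_⟩
    · apply Surjective.sigmaDesc_of_union_range_eq_univ
      rw [Set.eq_univ_iff_forall]
      intro s
      obtain ⟨i, hi⟩ := hs s
      exact Set.mem_iUnion.mpr ⟨i, hi⟩
    · exact IsZariskiLocalAtSource.sigmaDesc hf
    · exact IsZariskiLocalAtSource.sigmaDesc hf'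
  refine MorphismProperty.of_pullback_snd_of_descendsAlong (f := h) (g := Sigma.desc f) hF ?_
  rw [IsZariskiLocalAtTarget.iff_of_openCover (P := P) (sigmaOpenCover S')]
  intro i
  change P (pullback.snd (pullback.snd h (Sigma.desc f)) (Sigma.ι S' i))
  rw [← pullbackLeftPullbackSndIso_hom_snd, P.cancel_left_of_respectsIso]
  exact pullback_snd_of_eq P h _ _ (Sigma.ι_desc _ _) (H i)

end Descent

section Const

variable {S' : Scheme.{u}} (I : Type u)

/-- The structure map of the constant scheme. -/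
noncomputable abbrev cst : (∐ fun _ : I => S') ⟶ S' := Sigma.desc fun _ : I => 𝟙 S'

lemma ι_cst (i : I) : Sigma.ι (fun _ : I => S') i ≫ cst (S' := S') I = 𝟙 S' := by
  simp [cst]

set_option backward.isDefEq.respectTransparency.types false in
lemma etale_cst : Etale (cst (S' := S') I) :=
  IsZariskiLocalAtSource.sigmaDesc (P := @Etale) (fun _ => inferInstance)

lemma exists_ι_eq (y : ↥(∐ fun _ : I => S')) :
    ∃ (i : I) (a : S'), Sigma.ι (fun _ : I => S') i a = y := by
  obtain ⟨⟨i, a⟩, rfl⟩ := (sigmaMk (fun _ : I => S')).surjective y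
  exact ⟨i, a, (sigmaMk_mk (fun _ : I => S') i a).symm⟩

lemma mem_range_diagonal_of_mono {U Y T : Scheme.{u}} (j : U ⟶ Y) (c : Y ⟶ T) [Mono (j ≫ c)]
    (z : ↥(pullback c c)) (h₁ : pullback.fst c c z ∈ Set.range j)
    (h₂ : pullback.snd c c z ∈ Set.range j) :
    z ∈ Set.range (pullback.diagonal c) := by
  have hz : z ∈ Set.range (pullback.map (j ≫ c) (j ≫ c) c c j j (𝟙 T) (by simp) (by simp)) := by
    rw [Scheme.Pullback.range_map]; exact ⟨h₁, h₂⟩
  obtain ⟨t, rfl⟩ := hz
  have hfs : pullback.fst (j ≫ c) (j ≫ c) = pullback.snd (j ≫ c) (j ≫ c) :=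
    (cancel_mono (j ≫ c)).mp pullback.condition
  have key : pullback.map (j ≫ c) (j ≫ c) c c j j (𝟙 T) (by simp) (by simp) =
      pullback.fst (j ≫ c) (j ≫ c) ≫ j ≫ pullback.diagonal c := by
    apply pullback.hom_ext
    · refine (pullback.lift_fst _ _ _).trans ?_
      simp
    · refine (pullback.lift_snd _ _ _).trans ?_
      simp [hfs]
  rw [key]
  exact ⟨j ((pullback.fst (j ≫ c) (j ≫ c)) t), by simp⟩

lemma mem_range_diagonal_of_mem (i : I) (z : ↥(pullback (cst (S' := S') I) (cst I)))
    (h₁ : pullback.fst (cst I) (cst I) z ∈ Set.range (Sigma.ι (fun _ : I => S') i))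
    (h₂ : pullback.snd (cst I) (cst I) z ∈ Set.range (Sigma.ι (fun _ : I => S') i)) :
    z ∈ Set.range (pullback.diagonal (cst (S' := S') I)) := by
  have hm : Mono (Sigma.ι (fun _ : I => S') i ≫ cst I) := by rw [ι_cst]; infer_instance
  exact mem_range_diagonal_of_mono (Sigma.ι (fun _ : I => S') i) (cst I) z h₁ h₂

lemma isClosed_range_diagonal :
    IsClosed (Set.range (pullback.diagonal (cst (S' := S') I))) := by
  rw [← isOpen_compl_iff, isOpen_iff_forall_mem_open]
  intro z hz
  obtain ⟨i, a, ha⟩ := exists_ι_eq I (pullback.fst (cst I) (cst I) z)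
  obtain ⟨j, b, hb⟩ := exists_ι_eq I (pullback.snd (cst I) (cst I) z)
  by_cases hij : i = j
  · subst hij
    exact absurd (mem_range_diagonal_of_mem I i z ⟨a, ha⟩ ⟨b, hb⟩) hz
  · refine ⟨pullback.fst (cst I) (cst I) ⁻¹' Set.range (Sigma.ι (fun _ : I => S') i) ∩
        pullback.snd (cst I) (cst I) ⁻¹' Set.range (Sigma.ι (fun _ : I => S') j), ?_, ?_,
        ⟨⟨a, ha⟩, ⟨b, hb⟩⟩⟩
    · rintro w ⟨hw₁, hw₂⟩ ⟨y, rfl⟩
      have e₁ : pullback.fst (cst I) (cst I) (pullback.diagonal (cst I) y) = y := by
        rw [← Scheme.Hom.comp_apply, pullback.diagonal_fst]; rfl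
      have e₂ : pullback.snd (cst I) (cst I) (pullback.diagonal (cst I) y) = y := by
        rw [← Scheme.Hom.comp_apply, pullback.diagonal_snd]; rfl
      rw [Set.mem_preimage, e₁] at hw₁
      rw [Set.mem_preimage, e₂] at hw₂
      obtain ⟨a', ha'⟩ := hw₁
      obtain ⟨b', hb'⟩ := hw₂
      have := (sigmaι_eq_iff (fun _ : I => S') i j a' b').mp (ha'.trans hb'.symm)
      exact hij (congrArg Sigma.fst this)
    · exact ((Sigma.ι (fun _ : I => S') i).opensRange.isOpen.preimage
        (pullback.fst (cst I) (cst I)).continuous).inter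
        ((Sigma.ι (fun _ : I => S') j).opensRange.isOpen.preimage
        (pullback.snd (cst I) (cst I)).continuous)

lemma isSeparated_cst : IsSeparated (cst (S' := S') I) :=
  ⟨IsClosedImmersion.of_isPreimmersion _ (isClosed_range_diagonal I)⟩

lemma existence_cst : ValuativeCriterion.Existence (cst (S' := S') I) := by
  intro Sq
  have hsub : Subsingleton ↥(Spec (CommRingCat.of Sq.K)) :=
    inferInstanceAs (Subsingleton (PrimeSpectrum Sq.K))
  have hne : Nonempty ↥(Spec (CommRingCat.of Sq.K)) :=
    inferInstanceAs (Nonempty (PrimeSpectrum Sq.K))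
  obtain ⟨x₀⟩ := hne
  obtain ⟨i, a, ha⟩ := exists_ι_eq I (Sq.i₁ x₀)
  have hr : Set.range Sq.i₁ ⊆ Set.range (Sigma.ι (fun _ : I => S') i) := by
    rintro _ ⟨x, rfl⟩
    rw [Subsingleton.elim x x₀]
    exact ⟨a, ha⟩
  have hl₀ : IsOpenImmersion.lift (Sigma.ι (fun _ : I => S') i) Sq.i₁ hr ≫
      Sigma.ι (fun _ : I => S') i = Sq.i₁ := IsOpenImmersion.lift_fac _ _ _
  refine ⟨⟨⟨Sq.i₂ ≫ Sigma.ι (fun _ : I => S') i, ?_, ?_⟩⟩⟩
  · rw [← Category.assoc, ← Sq.commSq.w, ← hl₀]
    simp only [Category.assoc]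
    rw [reassoc_of% (ι_cst (S' := S') I i)]
  · rw [Category.assoc, ι_cst, Category.comp_id]

end Const

section Existence

lemma specializingMap_of_flat_local {A B : Scheme.{u}} (h : A ⟶ B)
    (hyp : ∀ b : B, ∃ (B' : Scheme.{u}) (g : B' ⟶ B), Flat g ∧ b ∈ Set.range g ∧
      SpecializingMap (pullback.snd h g)) : SpecializingMap h := by
  intro a b hab
  obtain ⟨B', g, hg, ⟨b', rfl⟩, hsp⟩ := hyp b
  obtain ⟨b'', hb'', hgb''⟩ := (Flat.generalizingMap g) (show h a ⤳ g b' from hab)
  obtain ⟨z, hz₁, hz₂⟩ :=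
    Scheme.Pullback.exists_preimage_pullback (f := h) (g := g) a b'' hgb''.symm
  obtain ⟨z', hz', hz'b⟩ := hsp (a := z) (b := b')
    (show pullback.snd h g z ⤳ b' by rw [hz₂]; exact hb'')
  refine ⟨pullback.fst h g z', ?_, ?_⟩
  · have := Specializes.map (show z ⤳ z' from hz') (pullback.fst h g).continuous
    rw [hz₁] at this
    exact this
  · rw [← Scheme.Hom.comp_apply, pullback.condition, Scheme.Hom.comp_apply, hz'b]

lemma existence_of_flat_local {X S : Scheme.{u}} (h : X ⟶ S)
    (hyp : ∀ s : S, ∃ (S' : Scheme.{u}) (f : S' ⟶ S), Flat f ∧ s ∈ Set.range f ∧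
      ValuativeCriterion.Existence (pullback.snd h f)) : ValuativeCriterion.Existence h := by
  rw [ValuativeCriterion.Existence.eq]
  intro X' Y' i₁ i₂ f' sq
  apply specializingMap_of_flat_local
  intro b
  obtain ⟨S', f, hf, hs, hE⟩ := hyp (i₂ b)
  refine ⟨pullback i₂ f, pullback.fst i₂ f, inferInstance, ?_, ?_⟩
  · rw [Scheme.Pullback.range_fst]; exact hs
  · apply ValuativeCriterion.Existence.specializingMap
    have big : IsPullback (pullback.fst f' (pullback.fst i₂ f) ≫ i₁)
        (pullback.snd f' (pullback.fst i₂ f)) h (pullback.fst i₂ f ≫ i₂) :=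
      (IsPullback.of_hasPullback f' (pullback.fst i₂ f)).paste_horiz sq.flip
    have hw : (pullback.fst f' (pullback.fst i₂ f) ≫ i₁) ≫ h =
        (pullback.snd f' (pullback.fst i₂ f) ≫ pullback.snd i₂ f) ≫ f := by
      rw [big.w, Category.assoc, pullback.condition]
    have hk₁ : pullback.lift _ _ hw ≫ pullback.fst h f =
        pullback.fst f' (pullback.fst i₂ f) ≫ i₁ := pullback.lift_fst _ _ _
    have big' : IsPullback (pullback.lift _ _ hw ≫ pullback.fst h f)
        (pullback.snd f' (pullback.fst i₂ f)) h (pullback.snd i₂ f ≫ f) := by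
      rw [hk₁, ← pullback.condition]; exact big
    have sq' : IsPullback (pullback.lift _ _ hw) (pullback.snd f' (pullback.fst i₂ f))
        (pullback.snd h f) (pullback.snd i₂ f) :=
      IsPullback.of_right big' (pullback.lift_snd _ _ _) (IsPullback.of_hasPullback h f)
    exact MorphismProperty.of_isPullback sq' hE

end Existence

section Main

lemma transport (P : MorphismProperty Scheme.{u}) [P.RespectsIso] {T : Scheme.{u}} (J : Type u)
    (Y : Over T) (e : Y ≅ TwC.const T J) (hc : P (cst (S' := T) J)) : P Y.hom := by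
  have hiso : IsIso e.hom.left := inferInstanceAs (IsIso ((Over.forget T).map e.hom))
  rw [← Over.w e.hom]
  exact (P.cancel_left_of_respectsIso _ _).mpr hc

set_option backward.isDefEq.respectTransparency.types false in
theorem main {S : Scheme.{u}} (X : Over S) (hX : TwC.IsTwConst TwC.Topology.etale X) :
    IsSeparated X.hom ∧ Etale X.hom ∧ ValuativeCriterion X.hom := by
  have hX' : ∀ s : S, ∃ (S' : Scheme.{u}) (f : S' ⟶ S), Etale f ∧ s ∈ Set.range f.base ∧
      ∃ I : Type u, Nonempty (Red.bc f X ≅ TwC.const S' I) := hX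
  choose S' f hf hs I e using hX'
  have key : ∀ (P : MorphismProperty Scheme.{u}) [P.RespectsIso],
      (∀ (T : Scheme.{u}) (J : Type u), P (cst (S' := T) J)) →
      ∀ s, P (pullback.snd X.hom (f s)) := by
    intro P _ hP s
    obtain ⟨e⟩ := e s
    exact transport P (I s) (Red.bc (f s) X) e (hP _ _)
  have hflat : ∀ s, Flat (f s) := fun s => by have := hf s; infer_instance
  have hlfp : ∀ s, LocallyOfFinitePresentation (f s) := fun s => by have := hf s; infer_instance
  have hs' : ∀ s : S, ∃ i, s ∈ Set.range (f i) := fun s => ⟨s, hs s⟩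
  have hEt : Etale X.hom :=
    descend @Etale f X.hom hflat hlfp hs' (key @Etale (fun T J => etale_cst J))
  have hUC : (MorphismProperty.diagonal @UniversallyClosed) X.hom :=
    descend (MorphismProperty.diagonal @UniversallyClosed) f X.hom hflat hlfp hs'
      (key _ (fun T J => by
        have := isSeparated_cst (S' := T) J
        change UniversallyClosed (pullback.diagonal (cst (S' := T) J))
        infer_instance))
  have hSep : IsSeparated X.hom := by
    have h1 : UniversallyClosed (pullback.diagonal X.hom) := hUC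
    exact ⟨IsClosedImmersion.of_isPreimmersion _ (pullback.diagonal X.hom).isClosedMap.isClosed_range⟩
  refine ⟨hSep, hEt, ?_⟩
  rw [ValuativeCriterion.iff]
  refine ⟨?_, IsSeparated.valuativeCriterion X.hom⟩
  apply existence_of_flat_local
  intro s
  exact ⟨S' s, f s, hflat s, hs s, key ValuativeCriterion.Existence (fun T J => existence_cst J) s⟩

end Main

end Groth.Helper16.TwConstEtale
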