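import Groth.Statements.S8716
import Groth.Agent.Lib.Helper16.TwConstEtale

/-!
# Rigidity of extensions of a finite type commutative group by a torsion-free constant group (helper16).
-/

set_option autoImplicit false

open CategoryTheory CategoryTheory.Limits MonoidalCategory CartesianMonoidalCategory MonObj AlgebraicGeometry

universe u

namespace Groth.Helper16.ConstGrpRigid

open Groth.Helper16.TwConstEtale

section Val

variable {S : Scheme.{u}} (Z : Type u)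

/-- the map `f` to `∐_Z S` takes the value `z` at the point `t` -/
def ValAt {T : Scheme.{u}} (f : T ⟶ ∐ fun _ : Z => S) (t : T) (z : Z) : Prop :=
  f t ∈ Set.range (Sigma.ι (fun _ : Z => S) z)

lemma exists_valAt {T : Scheme.{u}} (f : T ⟶ ∐ fun _ : Z => S) (t : T) : ∃ z, ValAt Z f t z := by
  obtain ⟨z, a, ha⟩ := exists_ι_eq Z (f t)
  exact ⟨z, a, ha⟩

lemma valAt_unique {T : Scheme.{u}} (f : T ⟶ ∐ fun _ : Z => S) (t : T) {z z' : Z}
    (h : ValAt Z f t z) (h' : ValAt Z f t z') : z = z' := by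
  obtain ⟨a, ha⟩ := h
  obtain ⟨a', ha'⟩ := h'
  have := (sigmaι_eq_iff (fun _ : Z => S) z z' a a').mp (ha.trans ha'.symm)
  exact congrArg Sigma.fst this

lemma valAt_comp {T T' : Scheme.{u}} (g : T' ⟶ T) (f : T ⟶ ∐ fun _ : Z => S) (t' : T') (z : Z) :
    ValAt Z (g ≫ f) t' z ↔ ValAt Z f (g t') z := by
  unfold ValAt
  rw [Scheme.Hom.comp_apply]

lemma isOpen_valAt {T : Scheme.{u}} (f : T ⟶ ∐ fun _ : Z => S) (z : Z) :
    IsOpen {t : T | ValAt Z f t z} :=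
  (Sigma.ι (fun _ : Z => S) z).isOpenEmbedding.isOpen_range.preimage f.continuous

lemma finite_vals {T : Scheme.{u}} [CompactSpace T] (f : T ⟶ ∐ fun _ : Z => S) :
    {z : Z | ∃ t : T, ValAt Z f t z}.Finite := by
  obtain ⟨F, hF⟩ := isCompact_univ.elim_finite_subcover (fun z : Z => {t : T | ValAt Z f t z})
    (fun z => isOpen_valAt Z f z) (fun t _ => by
      obtain ⟨z, hz⟩ := exists_valAt Z f t
      exact Set.mem_iUnion.mpr ⟨z, hz⟩)
  refine F.finite_toSet.subset ?_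
  rintro z ⟨t, ht⟩
  obtain ⟨z', hz'F, hz'⟩ := Set.mem_iUnion₂.mp (hF (Set.mem_univ t))
  rw [valAt_unique Z f t ht hz']
  exact hz'F

lemma eq_of_forall_valAt {T : Scheme.{u}} (f : T ⟶ ∐ fun _ : Z => S) (z : Z)
    (h : ∀ t, ValAt Z f t z) :
    f = (f ≫ Sigma.desc fun _ : Z => 𝟙 S) ≫ Sigma.ι (fun _ : Z => S) z := by
  have hsub : Set.range f ⊆ Set.range (Sigma.ι (fun _ : Z => S) z) := by
    rintro _ ⟨t, rfl⟩
    exact h t
  have hfac := IsOpenImmersion.lift_fac (Sigma.ι (fun _ : Z => S) z) f hsub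
  have hl : IsOpenImmersion.lift (Sigma.ι (fun _ : Z => S) z) f hsub =
      f ≫ Sigma.desc fun _ : Z => 𝟙 S := by
    conv_rhs => rw [← hfac]
    rw [Category.assoc, Sigma.ι_desc, Category.comp_id]
  rw [← hl, hfac]

end Val

section Grp

variable {S : Scheme.{u}} {Z : Type u} [Group Z]
variable {G : Over S} [GrpObj G] (eG : G ≅ TwC.const S Z)

set_option linter.unusedSectionVars false

/-- the morphism `a : T ⟶ G ≅ Z_S` takes the value `z` at the point `t` -/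
def Val {T : Over S} (a : T ⟶ G) (t : T.left) (z : Z) : Prop :=
  ValAt Z (a ≫ eG.hom).left t z

lemma val_precomp {T' T : Over S} (k : T' ⟶ T) (a : T ⟶ G) (t' : T'.left) (z : Z) :
    Val eG (k ≫ a) t' z ↔ Val eG a (k.left t') z := by
  unfold Val
  rw [Category.assoc, Over.comp_left, valAt_comp]

lemma exists_val {T : Over S} (a : T ⟶ G) (t : T.left) : ∃ z, Val eG a t z :=
  exists_valAt Z _ t

lemma eq_of_forall_val {T : Over S} (a : T ⟶ G) (z : Z) (h : ∀ t, Val eG a t z) :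
    a = toUnit T ≫ (TwC.pt S Z z ≫ eG.inv) := by
  have h1 : a ≫ eG.hom = toUnit T ≫ TwC.pt S Z z := by
    apply Over.OverMorphism.ext
    have h2 := eq_of_forall_valAt Z (a ≫ eG.hom).left z h
    have h3 : (a ≫ eG.hom).left ≫ (Sigma.desc fun _ : Z => 𝟙 S) = T.hom := Over.w (a ≫ eG.hom)
    rw [h3] at h2
    rw [h2]
    rfl
  rw [← Category.assoc, ← h1, Category.assoc, eG.hom_inv_id, Category.comp_id]

lemma val_of_eq {T : Over S} (z : Z) (t : T.left) :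
    Val eG (toUnit T ≫ (TwC.pt S Z z ≫ eG.inv)) t z := by
  have h1 : (toUnit T ≫ (TwC.pt S Z z ≫ eG.inv)) ≫ eG.hom = toUnit T ≫ TwC.pt S Z z := by
    simp only [Category.assoc, eG.inv_hom_id, Category.comp_id]
  unfold Val
  rw [h1]
  exact ⟨T.hom t, rfl⟩

lemma val_mul (hG : TwC.IsConstGrp Z G eG) {T : Over S} (a b : T ⟶ G) (t : T.left) {z1 z2 : Z}
    (h1 : Val eG a t z1) (h2 : Val eG b t z2) : Val eG (a * b) t (z1 * z2) := by
  let U1 : T.left.Opens := ⟨{x | Val eG a x z1}, isOpen_valAt Z _ z1⟩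
  let U2 : T.left.Opens := ⟨{x | Val eG b x z2}, isOpen_valAt Z _ z2⟩
  let U : T.left.Opens := U1 ⊓ U2
  have htU : t ∈ U := ⟨h1, h2⟩
  let T' : Over S := Over.mk (U.ι ≫ T.hom)
  let j : T' ⟶ T := Over.homMk U.ι rfl
  have ha : j ≫ a = toUnit T' ≫ (TwC.pt S Z z1 ≫ eG.inv) := by
    apply eq_of_forall_val
    intro x
    rw [val_precomp]
    exact x.2.1
  have hb : j ≫ b = toUnit T' ≫ (TwC.pt S Z z2 ≫ eG.inv) := by
    apply eq_of_forall_val
    intro x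
    rw [val_precomp]
    exact x.2.2
  have hab : j ≫ (a * b) = toUnit T' ≫ (TwC.pt S Z (z1 * z2) ≫ eG.inv) := by
    rw [MonObj.comp_mul, ha, hb, ← MonObj.comp_mul, hG z1 z2]
  have h3 : Val eG (j ≫ (a * b)) (⟨t, htU⟩ : T'.left) (z1 * z2) := by
    rw [hab]
    exact val_of_eq eG (T := T') (z1 * z2) ⟨t, htU⟩
  exact (val_precomp eG j (a * b) (⟨t, htU⟩ : T'.left) (z1 * z2)).mp h3

lemma val_pow (hG : TwC.IsConstGrp Z G eG) {T : Over S} (a : T ⟶ G) (t : T.left) {z : Z}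
    (h : Val eG a t z) (n : ℕ) : Val eG (a ^ (n + 1)) t (z ^ (n + 1)) := by
  induction n with
  | zero => simpa using h
  | succ n ih =>
    rw [pow_succ a, pow_succ z]
    exact val_mul eG hG _ _ t ih h

lemma pt_one_eq (hG : TwC.IsConstGrp Z G eG) : TwC.pt S Z (1 : Z) ≫ eG.inv = 1 := by
  have h := hG 1 1
  rw [_root_.mul_one] at h
  have h' : (TwC.pt S Z (1 : Z) ≫ eG.inv) * (TwC.pt S Z (1 : Z) ≫ eG.inv) =
      (TwC.pt S Z (1 : Z) ≫ eG.inv) * 1 := by rw [h, _root_.mul_one]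
  exact mul_left_cancel h'

end Grp

section Ext

variable {S : Scheme.{u}} {P E G : Over S} [GrpObj P] [GrpObj E] [GrpObj G] [IsCommMonObj E]
variable (u : G ⟶ E) {v : E ⟶ P}

set_option linter.unusedSectionVars false

lemma act_eq {T : Over S} (e : T ⟶ E) (g : T ⟶ G) :
    lift e g ≫ (E ◁ u) ≫ μ[E] = e * (g ≫ u) := by
  rw [← Category.assoc, lift_whiskerLeft, Hom.mul_def]

lemma act_eq' : (E ◁ u) ≫ μ[E] = fst E G * (snd E G ≫ u) := by
  have := act_eq u (fst E G) (snd E G)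
  rwa [lift_fst_snd, Category.id_comp] at this

variable {u}

lemma mono_u (hpb : IsPullback (fst E G) ((E ◁ u) ≫ μ[E]) v v) : Mono u := by
  constructor
  intro T g1 g2 h
  have e1 : lift (1 : T ⟶ E) g1 = lift 1 g2 := by
    apply hpb.hom_ext
    · rw [lift_fst, lift_fst]
    · rw [act_eq, act_eq, h]
  have := congrArg (· ≫ snd E G) e1
  simpa using this

lemma exists_w (hpb : IsPullback (fst E G) ((E ◁ u) ≫ μ[E]) v v) (φ : E ⟶ E) (hφv : φ ≫ v = v) :
    ∃ w : E ⟶ G, φ = 𝟙 E * (w ≫ u) := by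
  obtain ⟨l, hl1, hl2⟩ : ∃ l : E ⟶ E ⊗ G, l ≫ fst E G = 𝟙 E ∧ l ≫ (E ◁ u) ≫ μ[E] = φ :=
    ⟨hpb.lift (𝟙 E) φ (by rw [Category.id_comp, hφv]), hpb.lift_fst _ _ _, hpb.lift_snd _ _ _⟩
  refine ⟨l ≫ snd E G, ?_⟩
  have h1 : lift (𝟙 E) (l ≫ snd E G) = l := by
    rw [← hl1]
    exact lift_comp_fst_snd l
  have h2 : lift (𝟙 E) (l ≫ snd E G) ≫ (E ◁ u) ≫ μ[E] = φ := by
    rw [h1]
    exact hl2
  rw [act_eq] at h2
  exact h2.symm

variable [IsMonHom u] {φ : E ⟶ E} {w : E ⟶ G}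

lemma comp_phi (hw : φ = 𝟙 E * (w ≫ u)) {T : Over S} (f : T ⟶ E) :
    f ≫ φ = f * ((f ≫ w) ≫ u) := by
  rw [hw, MonObj.comp_mul, Category.comp_id, Category.assoc]

lemma u_w (hu : Mono u) (hw : φ = 𝟙 E * (w ≫ u)) (hφu : u ≫ φ = u) : u ≫ w = 1 := by
  have h1 := comp_phi hw u
  rw [hφu] at h1
  have h2 : u * ((u ≫ w) ≫ u) = u * 1 := by rw [← h1, _root_.mul_one]
  have h3 : (u ≫ w) ≫ u = 1 := mul_left_cancel h2
  exact (cancel_mono u).mp (h3.trans (MonObj.one_comp u).symm)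

lemma w_mul (hu : Mono u) [IsMonHom φ] (hw : φ = 𝟙 E * (w ≫ u)) {T : Over S} (f g : T ⟶ E) :
    (f * g) ≫ w = (f ≫ w) * (g ≫ w) := by
  have h1 := MonObj.mul_comp f g φ
  rw [comp_phi hw (f * g), comp_phi hw f, comp_phi hw g, _root_.mul_mul_mul_comm] at h1
  have h2 := mul_left_cancel h1
  rw [← MonObj.mul_comp] at h2
  exact (cancel_mono u).mp h2

lemma w_inv (hu : Mono u) [IsMonHom φ] (hw : φ = 𝟙 E * (w ≫ u)) (hφu : u ≫ φ = u) :
    ((E ◁ u) ≫ μ[E]) ≫ w = fst E G ≫ w := by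
  rw [act_eq', w_mul hu hw, Category.assoc, u_w hu hw hφu, MonObj.comp_one, _root_.mul_one]

lemma w_pow (hu : Mono u) [IsMonHom φ] (hw : φ = 𝟙 E * (w ≫ u)) {T : Over S} (f : T ⟶ E) (n : ℕ) :
    (f ^ (n + 1)) ≫ w = (f ≫ w) ^ (n + 1) := by
  induction n with
  | zero => simp
  | succ n ih => rw [pow_succ, w_mul hu hw, ih, ← pow_succ]

end Ext

section Fin

theorem fppf_unpack (X : Scheme.{u}) (R : Presieve X) (hR : R ∈ Scheme.fppfPrecoverage X) :
    (∀ x : X, ∃ (Y : Scheme.{u}) (f : Y ⟶ X), R f ∧ x ∈ Set.range f) ∧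
    ∀ (Y : Scheme.{u}) (f : Y ⟶ X), R f → Flat f ∧ LocallyOfFinitePresentation f := by
  obtain ⟨h1, h2⟩ := hR
  refine ⟨fun x => ?_, fun Y f hf => ⟨(h2 hf).1, (h2 hf).2⟩⟩
  rw [Precoverage.mem_comap_iff] at h1
  rw [Types.mem_jointlySurjectivePrecoverage_iff] at h1
  obtain ⟨Z, g, hg, y, hy⟩ := h1 x
  obtain ⟨hf⟩ := hg
  exact ⟨_, _, hf, y, hy⟩

theorem exists_of_isPullback {P X Y Z : Scheme.{u}} {fst' : P ⟶ X} {snd' : P ⟶ Y} {f : X ⟶ Z}
    {g : Y ⟶ Z} (h : IsPullback fst' snd' f g) (x : X) (y : Y) (hxy : f x = g y) :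
    ∃ z : P, fst' z = x ∧ snd' z = y := by
  obtain ⟨z₀, h1, h2⟩ := Scheme.Pullback.exists_preimage_pullback (f := f) (g := g) x y hxy
  refine ⟨h.isoPullback.inv z₀, ?_, ?_⟩
  · rw [← Scheme.Hom.comp_apply, IsPullback.isoPullback_inv_fst, h1]
  · rw [← Scheme.Hom.comp_apply, IsPullback.isoPullback_inv_snd, h2]

variable {S : Scheme.{u}} {Z : Type u} [Group Z] {P E G : Over S} [GrpObj E] [GrpObj G]

lemma finite_vals_w (eG : G ≅ TwC.const S Z) [CompactSpace P.left] (u : G ⟶ E) (v : E ⟶ P)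
    (hpb : IsPullback (fst E G) ((E ◁ u) ≫ μ[E]) v v)
    (hloc : NonAbH1.IsLocallyTrivialFor Scheme.fppfPrecoverage (Over.mk v.left : Over P.left))
    (w : E ⟶ G) (hinv : ((E ◁ u) ≫ μ[E]) ≫ w = fst E G ≫ w) :
    {z : Z | ∃ e : E.left, Val eG w e z}.Finite := by
  obtain ⟨R, hR, hsec⟩ := hloc
  obtain ⟨hsurj, hRp⟩ := fppf_unpack _ R hR
  have hdata : ∀ p : P.left, ∃ (Y : Scheme.{u}) (f : Y ⟶ P.left) (s : Y ⟶ E.left) (V : Y.Opens),
      s ≫ v.left = f ∧ IsOpenMap f ∧ IsAffineOpen V ∧ p ∈ f '' (V : Set Y) := by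
    intro p
    obtain ⟨Y, f, hRf, y, hy⟩ := hsurj p
    obtain ⟨s, hs⟩ := hsec f hRf
    obtain ⟨V, hV, hyV, -⟩ := exists_isAffineOpen_mem_and_subset (x := y) (U := ⊤) trivial
    have : Flat f := (hRp _ _ hRf).1
    have : LocallyOfFinitePresentation f := (hRp _ _ hRf).2
    exact ⟨Y, f, s, V, hs, f.isOpenMap, hV, y, hyV, hy⟩
  choose Y f s V hs hopen hV hp using hdata
  obtain ⟨F, hF⟩ := isCompact_univ.elim_finite_subcover
    (fun p : P.left => f p '' (V p : Set (Y p)))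
    (fun p => hopen p _ (V p).isOpen) (fun p _ => Set.mem_iUnion.mpr ⟨p, hp p⟩)
  have hfin : ∀ p, {z : Z | ∃ y : (V p : Scheme.{u}),
      ValAt Z ((V p).ι ≫ s p ≫ (w ≫ eG.hom).left) y z}.Finite := by
    intro p
    have : CompactSpace (V p : Scheme.{u}) := isCompact_iff_compactSpace.mp (hV p).isCompact
    exact finite_vals Z _
  refine (Set.Finite.biUnion F.finite_toSet (fun p _ => hfin p)).subset ?_
  rintro z ⟨e, he⟩
  obtain ⟨p, hpF, y, hyV, hye⟩ := Set.mem_iUnion₂.mp (hF (Set.mem_univ (v.left e)))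
  have hv2 : v.left (s p y) = v.left e := by
    rw [← Scheme.Hom.comp_apply, hs p, hye]
  obtain ⟨q, hq1, hq2⟩ : ∃ q : (E ⊗ G).left, (fst E G).left q = e ∧
      ((E ◁ u) ≫ μ[E]).left q = s p y :=
    exists_of_isPullback (hpb.map (CategoryTheory.Over.forget S)) e (s p y) hv2.symm
  have he2 : Val eG w (s p y) z := by
    rw [← hq2, ← val_precomp, hinv, val_precomp, hq1]
    exact he
  refine Set.mem_iUnion₂.mpr ⟨p, hpF, ⟨y, hyV⟩, ?_⟩
  exact (valAt_comp Z (V p).ι (s p ≫ (w ≫ eG.hom).left) ⟨y, hyV⟩ z).mpr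
    ((valAt_comp Z (s p) (w ≫ eG.hom).left y z).mpr he2)

end Fin

theorem main {S : Scheme.{u}} {Z : Type u} [CommGroup Z] (hZ : ∀ z : Z, IsOfFinOrder z → z = 1)
    (P E G : Over S) [GrpObj P] [GrpObj E] [GrpObj G] [IsCommMonObj E] [CompactSpace P.left]
    (eG : G ≅ TwC.const S Z) (hG : TwC.IsConstGrp Z G eG)
    (u : G ⟶ E) (v : E ⟶ P) (hex : NonAbH1.IsExactSeq Scheme.fppfPrecoverage u v)
    (φ : E ⟶ E) [IsMonHom φ] (hφu : u ≫ φ = u) (hφv : φ ≫ v = v) : φ = 𝟙 E := by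
  obtain ⟨hu, hv, huv, hpb, hloc⟩ := hex
  have := hu
  have := hv
  have hmono : Mono u := mono_u hpb
  obtain ⟨w, hw⟩ := exists_w hpb φ hφv
  have hinv := w_inv hmono hw hφu
  have hfin := finite_vals_w eG u v hpb hloc w hinv
  have hone : ∀ z : Z, (∃ e : E.left, Val eG w e z) → z = 1 := by
    rintro z ⟨e, he⟩
    apply hZ
    rw [← finite_powers]
    refine (hfin.insert 1).subset ?_
    intro x hx
    obtain ⟨n, rfl⟩ := (Submonoid.mem_powers_iff x z).mp hx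
    cases n with
    | zero => left; simp
    | succ n =>
      right
      refine ⟨((𝟙 E : E ⟶ E) ^ (n + 1)).left e, ?_⟩
      rw [← val_precomp, w_pow hmono hw, Category.id_comp]
      exact val_pow eG hG w e he n
  have hall : ∀ e : E.left, Val eG w e 1 := by
    intro e
    obtain ⟨z, hz⟩ := exists_val eG w e
    have h1 := hone z ⟨e, hz⟩
    subst h1
    exact hz
  have hw1 : w = 1 := by
    rw [eq_of_forall_val eG w 1 hall, pt_one_eq eG hG, MonObj.comp_one]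
  rw [hw, hw1, MonObj.one_comp u, _root_.mul_one]

end Groth.Helper16.ConstGrpRigid
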