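import Groth.Agent.Lib.Helper16.ZarLocal
import Groth.Agent.Lib.Helper16.FpqcCore
import Groth.Agent.Lib.Helper16.QuasiCompactMor
import Groth.Agent.Lib.Helper17.AlgSpComp

/-!
# Helper library (helper16): decent morphisms are etale local on the base
-/

set_option autoImplicit false
universe u
open CategoryTheory CategoryTheory.Limits AlgebraicGeometry Opposite Topology TopologicalSpace

namespace Groth.Agent.Lib.Helper16

open AlgSp Groth.Agent.Lib.Helper15

variable {S : Scheme.{u}}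

/-- Decency descends along quasi-compact surjective morphisms. -/
theorem isDecent_of_qc_surjective {X Y : Sp S} (hX : IsAlgSpace X) (hY : IsAlgSpace Y) (f : X ⟶ Y)
    (hq : IsQuasiCompactMor f) (hs : IsSurjectiveMor f) (hXd : IsDecent X) : IsDecent Y := by
  intro y
  obtain ⟨x, rfl⟩ := hs y
  obtain ⟨px, hpx, hmx, hqx⟩ := hXd x
  have hrep : Representable (px.map f).toHom := hY.representable_from_yon _
  have hqc : RepWith @QuasiCompact (px.map f).toHom := by
    rw [repWith_quasiCompact_iff_isQuasiCompactMor _ hrep, FieldPt.toHom_map]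
    exact Groth.Agent.Lib.Helper17.isQuasiCompactMor_comp hX hY.diag px.toHom f
      (isQuasiCompactMor_of_repWith_quasiCompact _ hqx) hq
  obtain ⟨p, hp, hm, hpq⟩ := exists_qc_mono_point_of_qc_point hY (px.map f) hqc
  refine ⟨p, ?_, hm, hpq⟩
  rw [hp, ← Points.map_mk, hpx]

/-- A quasi-compact open of an etale cover of an affine scheme which still covers. -/
theorem exists_compact_open_surjective_scheme {Z Z' : Scheme.{u}} [CompactSpace ↥Z] (z : Z' ⟶ Z) [Etale z]
    [Surjective z] : ∃ O : Z'.Opens, IsCompact (O : Set ↥Z') ∧ ∀ x : ↥Z, ∃ y ∈ O, z y = x := by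
  have hopen : IsOpenMap z := z.isOpenMap
  have hcov : ∀ x : ↥Z, ∃ W : Z'.Opens, IsAffineOpen W ∧ x ∈ z '' (W : Set ↥Z') := by
    intro x
    obtain ⟨y, rfl⟩ := z.surjective x
    obtain ⟨_, ⟨W, hW, rfl⟩, hyW, -⟩ :=
      Z'.isBasis_affineOpens.exists_subset_of_mem_open (Set.mem_univ y) isOpen_univ
    exact ⟨W, hW, y, hyW, rfl⟩
  choose W hWa hxW using hcov
  obtain ⟨T, hT⟩ := isCompact_univ.elim_finite_subcover (fun x => z '' (W x : Set ↥Z'))
    (fun x => hopen _ (W x).isOpen) (fun x _ => Set.mem_iUnion.2 ⟨x, hxW x⟩)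
  refine ⟨⨆ x ∈ T, W x, ?_, ?_⟩
  · have : ((⨆ x ∈ T, W x : Z'.Opens) : Set ↥Z') = ⋃ x ∈ T, (W x : Set ↥Z') := by
      simp [Opens.coe_iSup]
    rw [this]
    exact T.isCompact_biUnion fun x _ => (hWa x).isCompact
  · intro x
    have := hT (Set.mem_univ x)
    simp only [Set.mem_iUnion] at this
    obtain ⟨x₀, hx₀, y, hy, rfl⟩ := this
    refine ⟨y, ?_, rfl⟩
    simp only [Opens.mem_iSup]
    exact ⟨x₀, hx₀, hy⟩

end Groth.Agent.Lib.Helper16
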