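import Groth.Agent.Lib.Helper16.FibreFlat

/-!
# Helper library (helper16): schemes of bounded degree over a field
-/

set_option autoImplicit false
universe u
open CategoryTheory CategoryTheory.Limits AlgebraicGeometry Opposite TopologicalSpace

namespace Groth.Agent.Lib.Helper16.UBF

open Groth.Agent.Lib.Helper16

variable {K : Type u} [Field K]

/-- `c : T ⟶ Spec K` is finite of degree at most `n`. -/
def DegLE {T : Scheme.{u}} (c : T ⟶ Spec (CommRingCat.of K)) (n : ℕ) : Prop :=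
  IsFinite c ∧ ∀ s, c.finrank s ≤ n

theorem DegLE.mono {T : Scheme.{u}} {c : T ⟶ Spec (CommRingCat.of K)} {n m : ℕ} (h : DegLE c n)
    (hnm : n ≤ m) : DegLE c m :=
  ⟨h.1, fun s => (h.2 s).trans hnm⟩

theorem finite_discrete_of_isFinite {T : Scheme.{u}} (c : T ⟶ Spec (CommRingCat.of K)) [IsFinite c] :
    Finite ↥T ∧ DiscreteTopology ↥T := by
  obtain ⟨hfin, -⟩ := natCard_le_finrank_of_isFinite c (IsLocalRing.closedPoint K)
  have hTaff : IsAffine T := isAffine_of_isAffineHom c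
  let alg : Algebra K Γ(T, ⊤) := gammaAlgebra c
  have hmf : Module.Finite K Γ(T, ⊤) := (isFinite_iff_moduleFinite c).1 inferInstance
  have hart : IsArtinianRing Γ(T, ⊤) := IsArtinianRing.of_finite K Γ(T, ⊤)
  have : DiscreteTopology ↥(Spec Γ(T, ⊤)) :=
    inferInstanceAs (DiscreteTopology (PrimeSpectrum Γ(T, ⊤)))
  exact ⟨hfin, T.isoSpec.hom.homeomorph.symm.discreteTopology⟩

theorem degLE_iff {T : Scheme.{u}} [IsAffine T] (c : T ⟶ Spec (CommRingCat.of K)) (n : ℕ) :
    DegLE c n ↔ @Module.Finite K Γ(T, ⊤) _ _ (gammaAlgebra c).toModule ∧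
      @Module.finrank K Γ(T, ⊤) _ _ (gammaAlgebra c).toModule ≤ n := by
  constructor
  · rintro ⟨hf, hn⟩
    refine ⟨(isFinite_iff_moduleFinite c).1 hf, ?_⟩
    rw [← finrank_eq_finrank_gamma c (IsLocalRing.closedPoint K)]
    exact hn _
  · rintro ⟨hf, hn⟩
    have hfin : IsFinite c := (isFinite_iff_moduleFinite c).2 hf
    exact ⟨hfin, fun s => by rw [finrank_eq_finrank_gamma c s]; exact hn⟩

/-- A scheme over a field covered by finitely many opens of bounded degree has bounded degree. -/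
theorem DegLE.of_openCover {T : Scheme.{u}} (c : T ⟶ Spec (CommRingCat.of K)) {ι : Type*} [Fintype ι]
    (W : ι → T.Opens) (hW : ⨆ i, W i = ⊤) (n : ι → ℕ) (h : ∀ i, DegLE ((W i).ι ≫ c) (n i)) :
    DegLE c (∑ i, n i) := by
  have hfinW : ∀ i, IsFinite ((W i).ι ≫ c) := fun i => (h i).1
  have hfd : ∀ i, Finite ↥(W i).toScheme ∧ DiscreteTopology ↥(W i).toScheme := fun i =>
    finite_discrete_of_isFinite ((W i).ι ≫ c)
  have hmem : ∀ t : ↥T, ∃ i, t ∈ W i := by
    intro t
    have : t ∈ (⨆ i, W i : T.Opens) := by rw [hW]; trivial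
    simpa [Opens.mem_iSup] using this
  have hfinT : Finite ↥T := by
    have : ∀ i, Finite ↥(W i) := fun i => (hfd i).1
    refine Finite.of_surjective (fun p : Σ i, ↥(W i) => (p.2 : ↥T)) ?_
    intro t
    obtain ⟨i, hi⟩ := hmem t
    exact ⟨⟨i, ⟨t, hi⟩⟩, rfl⟩
  have hdiscT : DiscreteTopology ↥T := by
    rw [discreteTopology_iff_isOpen_singleton]
    intro t
    obtain ⟨i, hi⟩ := hmem t
    have hd := (hfd i).2
    have := (W i).ι.isOpenEmbedding.isOpenMap {⟨t, hi⟩} (isOpen_discrete _)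
    rwa [Set.image_singleton] at this
  have hTaff : IsAffine T := inferInstance
  have hWaff : ∀ i, IsAffine (W i).toScheme := fun i => isAffine_of_isAffineHom ((W i).ι ≫ c)
  let algT : Algebra K Γ(T, ⊤) := gammaAlgebra c
  let algW : ∀ i, Algebra K Γ((W i).toScheme, ⊤) := fun i => gammaAlgebra ((W i).ι ≫ c)
  have hmfW : ∀ i, Module.Finite K Γ((W i).toScheme, ⊤) := fun i =>
    ((degLE_iff ((W i).ι ≫ c) (n i)).1 (h i)).1
  have hrkW : ∀ i, Module.finrank K Γ((W i).toScheme, ⊤) ≤ n i := fun i =>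
    ((degLE_iff ((W i).ι ≫ c) (n i)).1 (h i)).2
  let ρ : ∀ i, Γ(T, ⊤) →ₐ[K] Γ((W i).toScheme, ⊤) := fun i =>
    { (W i).ι.appTop.hom with
      commutes' := fun k => rfl }
  let φ : Γ(T, ⊤) →ₗ[K] (∀ i, Γ((W i).toScheme, ⊤)) := LinearMap.pi fun i => (ρ i).toLinearMap
  have hφinj : Function.Injective φ := by
    rw [← LinearMap.ker_eq_bot, LinearMap.ker_eq_bot']
    intro f hf
    have hf' : ∀ i, (W i).ι.appTop.hom f = 0 := fun i => congrFun hf i
    refine TopCat.Sheaf.eq_of_locally_eq' T.sheaf (fun i => (W i).ι ''ᵁ ⊤) ⊤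
      (fun i => homOfLE le_top) ?_ f 0 ?_
    · intro t _
      obtain ⟨i, hi⟩ := hmem t
      simp only [Opens.mem_iSup]
      exact ⟨i, by simpa using hi⟩
    · intro i
      have := hf' i
      rw [map_zero]
      exact this
  have hmfT : Module.Finite K Γ(T, ⊤) := Module.Finite.of_injective φ hφinj
  rw [degLE_iff]
  refine ⟨hmfT, ?_⟩
  calc Module.finrank K Γ(T, ⊤) ≤ Module.finrank K (∀ i, Γ((W i).toScheme, ⊤)) :=
        LinearMap.finrank_le_finrank_of_injective hφinj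
    _ = ∑ i, Module.finrank K Γ((W i).toScheme, ⊤) := Module.finrank_pi_fintype K
    _ ≤ ∑ i, n i := Finset.sum_le_sum fun i _ => hrkW i

end Groth.Agent.Lib.Helper16.UBF
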