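import Groth.Agent.Lib.Helper16.ValCrit2
import Groth.Agent.Lib.Helper16.Special
import Groth.Agent.Lib.Helper16.FibreProduct

/-!
# Helper library (helper16): valuative criteria for algebraic spaces, part 3

A morphism whose base change to the valuation ring of a valuative square is a decent algebraic space and closed on
points admits a dotted arrow after a dominating extension.
-/

set_option autoImplicit false
universe u
open CategoryTheory CategoryTheory.Limits AlgebraicGeometry Opposite Topology TopologicalSpace IsLocalRing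

namespace Groth.Agent.Lib.Helper16.ValCrit

open AlgSp

variable {S : Scheme.{u}}

/-- Two points of schemes defining the same point of a sheaf agree over a common field. -/
theorem exists_common_extension {F : Sp S} {T₁ T₂ : Over S} (g₁ : (yon S).obj T₁ ⟶ F)
    (g₂ : (yon S).obj T₂ ⟶ F) (t₁ : ↥T₁.left) (t₂ : ↥T₂.left)
    (h : Points.ofPt g₁ t₁ = Points.ofPt g₂ t₂) :
    ∃ (Ω : Type u) (_ : Field Ω) (w : Spec (CommRingCat.of Ω) ⟶ S) (α : Over.mk w ⟶ T₁) (β : Over.mk w ⟶ T₂),
      (yon S).map α ≫ g₁ = (yon S).map β ≫ g₂ ∧ α.left (closedPoint Ω) = t₁ ∧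
        β.left (closedPoint Ω) = t₂ := by
  have h' : FieldPt.Rel (FieldPt.ofPt g₁ t₁) (FieldPt.ofPt g₂ t₂) := Points.mk_eq_mk_iff.1 h
  rw [rel_iff_toHom] at h'
  obtain ⟨Ω, _, w, a, b, hab⟩ := h'
  rw [FieldPt.toHom_ofPt, FieldPt.toHom_ofPt, ← Category.assoc, ← Category.assoc, ← Functor.map_comp,
    ← Functor.map_comp] at hab
  refine ⟨Ω, inferInstance, w, a ≫ (Over.homMk (T₁.left.fromSpecResidueField t₁) rfl :
      (FieldPt.ofPt g₁ t₁).pt ⟶ T₁), b ≫ (Over.homMk (T₂.left.fromSpecResidueField t₂) rfl :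
      (FieldPt.ofPt g₂ t₂).pt ⟶ T₂), hab, ?_, ?_⟩
  · change (T₁.left.fromSpecResidueField t₁) (a.left (closedPoint Ω)) = t₁
    exact Scheme.fromSpecResidueField_apply _ _
  · change (T₂.left.fromSpecResidueField t₂) (b.left (closedPoint Ω)) = t₂
    exact Scheme.fromSpecResidueField_apply _ _

/-- A morphism from the spectrum of a field whose image point specializes to `u` extends to the spectrum of a
valuation ring of the field with closed point mapping to `u`. -/
theorem exists_valuationSubring_lift {U : Scheme.{u}} {Ω : Type u} [Field Ω]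
    (α : Spec (CommRingCat.of Ω) ⟶ U) (u : ↥U) (h : α (closedPoint Ω) ⤳ u) :
    ∃ (A' : ValuationSubring Ω) (lU : Spec (CommRingCat.of A') ⟶ U), lU (closedPoint A') = u ∧
      Spec.map (CommRingCat.ofHom (algebraMap A' Ω)) ≫ lU = α := by
  let θ : U.presheaf.stalk u ⟶ CommRingCat.of Ω :=
    U.presheaf.stalkSpecializes h ≫ Scheme.stalkClosedPointTo α
  obtain ⟨A', hA', hloc⟩ := exists_factor_valuationRing θ.hom
  let θ' : U.presheaf.stalk u ⟶ CommRingCat.of A' := CommRingCat.ofHom (θ.hom.codRestrict _ hA')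
  refine ⟨A', Spec.map θ' ≫ U.fromSpecStalk u, ?_, ?_⟩
  · simp only [Scheme.Hom.comp_base, TopCat.coe_comp, Function.comp_apply]
    have : Spec.map θ' (closedPoint A') = closedPoint (U.presheaf.stalk u) :=
      comap_closedPoint (S := A') (θ.hom.codRestrict A'.toSubring hA')
    rw [this, U.fromSpecStalk_closedPoint]
  · have h1 : θ' ≫ CommRingCat.ofHom (algebraMap A' Ω) = θ := rfl
    rw [← Category.assoc, ← Spec.map_comp, h1]
    change Spec.map (U.presheaf.stalkSpecializes h ≫ Scheme.stalkClosedPointTo α) ≫ _ = _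
    rw [Spec.map_comp, Category.assoc, Scheme.SpecMap_stalkSpecializes_fromSpecStalk,
      Scheme.Spec_stalkClosedPointTo_fromSpecStalk]

/-- **Existence of a dotted arrow after extension.**  If the base change of `f` to the valuation ring of a valuative
square is a decent algebraic space whose projection is closed on points, the square has a dotted arrow after a dominating
extension. -/
theorem hasLiftExt_of_isClosedMap {F G : Sp S} {f : F ⟶ G} (sq : ValSq f) {P : Sp S} {fst : P ⟶ F}
    {snd : P ⟶ (yon S).obj sq.ptA} (psq : IsPullback fst snd f sq.bot) (hP : IsAlgSpace P) (hPd : IsDecent P)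
    (hcl : IsClosedMap (Points.map snd)) : sq.HasLiftExt := by
  obtain ⟨x, hxdef⟩ : ∃ x : (yon S).obj sq.ptK ⟶ P, x = psq.lift sq.top ((yon S).map sq.j) sq.comm := ⟨_, rfl⟩
  have hx1 : x ≫ fst = sq.top := by rw [hxdef]; exact psq.lift_fst _ _ _
  have hx2 : x ≫ snd = (yon S).map sq.j := by rw [hxdef]; exact psq.lift_snd _ _ _
  obtain ⟨ξ, hξdef⟩ : ∃ ξ : Points P, ξ = Points.ofPt (T := sq.ptK) x (closedPoint sq.K) := ⟨_, rfl⟩
  -- (1) a specialization of `ξ` over the closed point
  have hξ : Points.map snd ξ = Points.ofScheme sq.ptA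
      (Spec.map (CommRingCat.ofHom (algebraMap sq.A sq.K)) (closedPoint sq.K)) := by
    rw [hξdef, Points.map_ofPt, hx2, ofPt_yon_map_eq_id]
    rfl
  have hmem : Points.ofScheme sq.ptA (closedPoint sq.A) ∈ Points.map snd '' closure {ξ} := by
    have hc : IsClosed (Points.map snd '' closure {ξ}) := hcl _ isClosed_closure
    have hsp : Points.ofScheme sq.ptA
        (Spec.map (CommRingCat.ofHom (algebraMap sq.A sq.K)) (closedPoint sq.K)) ⤳
        Points.ofScheme sq.ptA (closedPoint sq.A) :=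
      (specializes_closedPoint _).map (Points.continuous_ofPt _)
    exact hsp.mem_closed hc ⟨ξ, subset_closure rfl, hξ⟩
  obtain ⟨x', hx'cl, hx'⟩ := hmem
  have hsp : ξ ⤳ x' := specializes_iff_mem_closure.2 hx'cl
  -- (2) lift the specialization to an etale chart
  obtain ⟨U, a, hae, has⟩ := hP.atlas
  obtain ⟨u, rfl⟩ := ofPt_surjective_of_surjective a has x'
  obtain ⟨p, hp, -, hpq⟩ := hPd ξ
  obtain ⟨u', hu'u, hu'⟩ := exists_specializes_lift _ ξ hsp p hp hpq a hae u rfl
  -- (3) the valuation ring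
  obtain ⟨hU, hhU⟩ := (yon S).map_surjective (a ≫ snd)
  have hUu : hU.left u = closedPoint sq.A := by
    apply ofScheme_injective sq.ptA
    rw [← hx', Points.map_ofPt, ← hhU, ofPt_yon_map_eq_id]
  obtain ⟨Ω, _, w, α, β, hαβ, hα, -⟩ := exists_common_extension a x u' (closedPoint sq.K) (hu'.trans hξdef)
  have hcompat : α ≫ hU = β ≫ sq.j := by
    apply (yon S).map_injective
    rw [Functor.map_comp, Functor.map_comp, hhU, ← Category.assoc, hαβ, Category.assoc, hx2]
  obtain ⟨αl, hαl⟩ : ∃ αl : Spec (CommRingCat.of Ω) ⟶ U.left, αl = α.left := ⟨_, rfl⟩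
  obtain ⟨βl, hβl⟩ : ∃ βl : Spec (CommRingCat.of Ω) ⟶ Spec (CommRingCat.of sq.K), βl = β.left := ⟨_, rfl⟩
  obtain ⟨hUl, hhUl⟩ : ∃ hUl : U.left ⟶ Spec (CommRingCat.of sq.A), hUl = hU.left := ⟨_, rfl⟩
  have hcompat' : αl ≫ hUl = βl ≫ Spec.map (CommRingCat.ofHom (algebraMap sq.A sq.K)) := by
    rw [hαl, hβl, hhUl]
    exact congrArg (fun m => m.left) hcompat
  obtain ⟨A', lU, hlU1, hlU2⟩ := exists_valuationSubring_lift αl u (by rw [hαl, hα]; exact hu'u)
  obtain ⟨m, hmdef⟩ : ∃ m : Spec (CommRingCat.of A') ⟶ Spec (CommRingCat.of sq.A), m = lU ≫ hUl := ⟨_, rfl⟩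
  have hm1 : m (closedPoint A') = closedPoint sq.A := by
    rw [hmdef, Scheme.Hom.comp_apply, hlU1, hhUl, hUu]
  have hm2 : Spec.map (CommRingCat.ofHom (algebraMap A' Ω)) ≫ m =
      βl ≫ Spec.map (CommRingCat.ofHom (algebraMap sq.A sq.K)) := by
    rw [hmdef, ← Category.assoc, hlU2, hcompat']
  let e : sq.DomExt :=
    { A' := ↥A'
      K' := Ω
      φ := (Spec.preimage m).hom
      ψ := (Spec.preimage βl).hom
      comm := by
        have h0 : Spec.map (Spec.preimage m ≫ CommRingCat.ofHom (algebraMap A' Ω)) =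
            Spec.map (CommRingCat.ofHom (algebraMap sq.A sq.K) ≫ Spec.preimage βl) := by
          rw [Spec.map_comp, Spec.map_comp, Spec.map_preimage, Spec.map_preimage]
          exact hm2
        exact congrArg CommRingCat.Hom.hom (Spec.map_injective h0)
      isLocalHom := by
        rw [isLocalHom_iff_comap_closedPoint]
        have h0 := hm1
        rw [← Spec.map_preimage m] at h0
        exact h0 }
  have hφ : Spec.map (CommRingCat.ofHom e.φ) = m := by
    change Spec.map (CommRingCat.ofHom (Spec.preimage m).hom) = m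
    rw [CommRingCat.ofHom_hom, Spec.map_preimage]
  have hψ : Spec.map (CommRingCat.ofHom e.ψ) = βl := by
    change Spec.map (CommRingCat.ofHom (Spec.preimage βl).hom) = βl
    rw [CommRingCat.ofHom_hom, Spec.map_preimage]
  have hlw : lU ≫ U.hom = Spec.map (CommRingCat.ofHom e.φ) ≫ sq.str := by
    rw [hφ, hmdef, hhUl, Category.assoc]
    exact congrArg (lU ≫ ·) (Over.w hU).symm
  obtain ⟨lU', hlU'⟩ : ∃ lU' : e.ptA' ⟶ U, lU'.left = lU := ⟨Over.homMk lU hlw, rfl⟩
  refine ⟨e, (yon S).map lU' ≫ a ≫ fst, ?_, ?_⟩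
  · have hι : (𝟙 (Spec (CommRingCat.of Ω))) ≫ (Over.mk w).hom = e.ptK'.hom := by
      rw [Category.id_comp]
      change w = Spec.map (CommRingCat.ofHom (algebraMap A' Ω)) ≫ Spec.map (CommRingCat.ofHom e.φ) ≫ sq.str
      rw [← hlw, ← Category.assoc, hlU2, hαl]
      exact (Over.w α).symm
    obtain ⟨ι, hιdef⟩ : ∃ ι : e.ptK' ⟶ Over.mk w, ι.left = 𝟙 _ := ⟨Over.homMk (𝟙 _) hι, rfl⟩
    have h1 : (Over.homMk (Spec.map (CommRingCat.ofHom (algebraMap e.A' e.K'))) rfl : e.ptK' ⟶ e.ptA') ≫ lU' =
        ι ≫ α := by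
      apply Over.OverMorphism.ext
      simp only [Over.comp_left, Over.homMk_left]
      rw [hιdef, hlU', Category.id_comp, ← hαl]
      exact hlU2
    have h2 : (Over.homMk (Spec.map (CommRingCat.ofHom e.ψ)) (domExt_w e) : e.ptK' ⟶ sq.ptK) = ι ≫ β := by
      apply Over.OverMorphism.ext
      simp only [Over.comp_left, Over.homMk_left]
      rw [hιdef, Category.id_comp, ← hβl]
      exact hψ
    rw [← Category.assoc, ← Functor.map_comp, h1, Functor.map_comp, Category.assoc,
      ← Category.assoc ((yon S).map α), hαβ, Category.assoc, hx1, ← Category.assoc, ← Functor.map_comp, ← h2]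
  · rw [Category.assoc, Category.assoc, psq.w, ← Category.assoc a, ← hhU, ← Category.assoc,
      ← Functor.map_comp]
    congr 2
    apply Over.OverMorphism.ext
    simp only [Over.comp_left, Over.homMk_left]
    rw [hlU', hφ, hmdef, hhUl]

end Groth.Agent.Lib.Helper16.ValCrit
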