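import Groth.Agent.Lib.Helper16.ImmDesc5
import Groth.Agent.Lib.Helper15.Bootstrap
import Groth.Agent.Lib.Helper15.ToposQuot

set_option autoImplicit false
universe u
open CategoryTheory CategoryTheory.Limits AlgebraicGeometry Opposite Topology

namespace Groth.Agent.Lib.Helper16.InvSub

open AlgSp Groth.Agent.Lib.Helper16

variable {S : Scheme.{u}}

/-- The source of a monomorphism into a sheaf with representable diagonal has representable diagonal. -/
theorem representable_diag_of_mono {F G : Sp S} (a : F ⟶ G) [Mono a] (hG : Representable (Limits.diag G)) :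
    Representable (Limits.diag F) := by
  have h1 : Limits.diag F = pullback.diagonal a ≫ prod.lift (pullback.fst a a) (pullback.snd a a) := by
    apply Limits.prod.hom_ext
    · simp only [Category.assoc, prod.lift_fst, pullback.diagonal_fst]
    · simp only [Category.assoc, prod.lift_snd, pullback.diagonal_snd]
  have : IsIso (pullback.diagonal a) := (pullback.isIso_diagonal_iff a).2 inferInstance
  rw [h1]
  exact (Representable (S := S)).comp_mem _ _ (Functor.relativelyRepresentable.of_isIso (yon S) _)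
    ((Representable (S := S)).of_isPullback (Groth.Agent.Lib.Helper15.isPullback_prod_lift_diag a).flip hG)

/-- **Descent of an invariant subscheme of an atlas to a subspace** (chart form). -/
theorem exists_subspace' {X : Sp S} (hX : IsAlgSpace X) {R U Z' : Over S} (s t : R ⟶ U)
    (p : (yon S).obj U ⟶ X) (hpe : RepWith @Etale p) (hps : RepWith @Surjective p)
    (hpb : IsPullback ((yon S).map t) ((yon S).map s) p p) (io : Z' ⟶ U) [Mono io]
    (hinv : ∀ ⦃T : Over S⦄ (r : T ⟶ R) (x : T ⟶ Z'), r ≫ t = x ≫ io → ∃ w : T ⟶ Z', w ≫ io = r ≫ s) :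
    ∃ (Z : Sp S) (i : Z ⟶ X) (q : (yon S).obj Z' ⟶ Z), IsAlgSpace Z ∧ Mono i ∧
      IsPullback q ((yon S).map io) i p := by
  let φ : (yon S).obj Z' ⟶ X := (yon S).map io ≫ p
  let Z : Sp S := Sheaf.image φ
  let q : (yon S).obj Z' ⟶ Z := Sheaf.toImage φ
  let i : Z ⟶ X := Sheaf.imageι φ
  have hqi : q ≫ i = (yon S).map io ≫ p := Sheaf.toImage_ι φ
  have hi : Mono i := inferInstance
  have hq : Epi q := inferInstance
  let ψ : (yon S).obj Z' ⟶ pullback i p := pullback.lift q ((yon S).map io) hqi
  have hψm : Mono ψ := by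
    have h1 : Mono (ψ ≫ pullback.snd i p) := by
      rw [pullback.lift_snd]
      infer_instance
    exact mono_of_mono ψ (pullback.snd i p)
  have hψe : Epi ψ := by
    rw [Groth.Agent.Lib.Helper15.epi_iff_locally_lift]
    intro T y
    obtain ⟨R₀, hR₀, hlift⟩ := (Groth.Agent.Lib.Helper15.epi_iff_locally_lift q).1 hq T (y ≫ pullback.fst i p)
    refine ⟨R₀, hR₀, fun T' g hg => ?_⟩
    obtain ⟨x, hx⟩ := hlift g hg
    obtain ⟨x₀, rfl⟩ := (yon S).map_surjective x
    obtain ⟨u₀, hu₀⟩ := (yon S).map_surjective ((yon S).map g ≫ y ≫ pullback.snd i p)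
    have hcomm : (yon S).map (x₀ ≫ io) ≫ p = (yon S).map u₀ ≫ p := by
      rw [Functor.map_comp, Category.assoc, ← hqi, ← Category.assoc, hx, hu₀]
      simp only [Category.assoc, pullback.condition]
    obtain ⟨r₀, hr₀⟩ := (yon S).map_surjective (hpb.lift _ _ hcomm)
    have hr₀t : r₀ ≫ t = x₀ ≫ io := by
      apply (yon S).map_injective
      rw [Functor.map_comp, hr₀, hpb.lift_fst]
    have hr₀s : r₀ ≫ s = u₀ := by
      apply (yon S).map_injective
      rw [Functor.map_comp, hr₀, hpb.lift_snd]
    obtain ⟨w₀, hw₀⟩ := hinv r₀ x₀ hr₀t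
    refine ⟨(yon S).map w₀, ?_⟩
    apply pullback.hom_ext
    · rw [Category.assoc, pullback.lift_fst, ← cancel_mono i, Category.assoc, hqi, ← Category.assoc,
        ← Functor.map_comp, hw₀, hr₀s, hu₀]
      simp only [Category.assoc, pullback.condition]
    · rw [Category.assoc, pullback.lift_snd, ← Functor.map_comp, hw₀, hr₀s, hu₀]
      simp only [Category.assoc]
  have hψi : IsIso ψ := isIso_of_mono_of_epi ψ
  have sq : IsPullback q ((yon S).map io) i p := by
    refine IsPullback.of_iso (IsPullback.of_hasPullback i p) (asIso ψ).symm (Iso.refl _) (Iso.refl _) (Iso.refl _)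
      ?_ ?_ ?_ ?_
    · rw [Iso.symm_hom, asIso_inv, Iso.refl_hom, Category.comp_id, eq_comm, IsIso.inv_comp_eq, pullback.lift_fst]
    · rw [Iso.symm_hom, asIso_inv, Iso.refl_hom, Category.comp_id, eq_comm, IsIso.inv_comp_eq, pullback.lift_snd]
    · simp
    · simp
  refine ⟨Z, i, q, ⟨representable_diag_of_mono i hX.diag, Z', q, ?_, ?_⟩, hi, sq⟩
  · have := repWith_isStableUnderBaseChange (S := S) @Etale
    exact MorphismProperty.of_isPullback sq.flip hpe
  · have := repWith_isStableUnderBaseChange (S := S) @Surjective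
    exact MorphismProperty.of_isPullback sq.flip hps

/-- **Descent of an invariant subscheme of an atlas to a subspace.** -/
theorem exists_subspace {X : Sp S} (hX : IsAlgSpace X) {R U Z' : Over S} (s t : R ⟶ U)
    (p : (yon S).obj U ⟶ X) (hp : IsPresentation s t p) (io : Z' ⟶ U) [Mono io]
    (hinv : ∀ ⦃T : Over S⦄ (r : T ⟶ R) (x : T ⟶ Z'), r ≫ t = x ≫ io → ∃ w : T ⟶ Z', w ≫ io = r ≫ s) :
    ∃ (Z : Sp S) (i : Z ⟶ X) (q : (yon S).obj Z' ⟶ Z), IsAlgSpace Z ∧ Mono i ∧
      IsPullback q ((yon S).map io) i p :=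
  exists_subspace' hX s t p hp.etale hp.surjective hp.isPullback io hinv

end Groth.Agent.Lib.Helper16.InvSub
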