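import Groth.Agent.Lib.Helper16.ImmDesc4

set_option autoImplicit false
universe u
open CategoryTheory CategoryTheory.Limits AlgebraicGeometry Opposite Topology

namespace Groth.Agent.Lib.Helper16.ImmDesc

open AlgSp Groth.Agent.Lib.Helper16

variable {S : Scheme.{u}}

/-- The refinement clause of fpqc coverings with members of the standard covering moreover locally of finite
presentation. -/
def FppfRefines {ι : Type u} {X : Sp S} (Y : ι → Sp S) (g : ∀ i, Y i ⟶ X) : Prop :=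
  ∀ (Z : Over S), IsAffine Z.left → ∀ (h : (yon S).obj Z ⟶ X),
    ∃ (m : ℕ) (W : Fin m → Over S) (c : ∀ j, W j ⟶ Z),
      (∀ j, IsAffine (W j).left) ∧ (∀ j, Flat (c j).left) ∧ (∀ j, LocallyOfFinitePresentation (c j).left) ∧
      (∀ z : ↥Z.left, ∃ j, z ∈ Set.range (c j).left) ∧
      ∀ j, ∃ (i : ι) (l : (yon S).obj (W j) ⟶ Y i), l ≫ g i = (yon S).map (c j) ≫ h

theorem FppfRefines.fpqcRefines {ι : Type u} {X : Sp S} {Y : ι → Sp S} {g : ∀ i, Y i ⟶ X}
    (h : FppfRefines Y g) : FpqcRefines Y g := by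
  intro Z hZ t
  obtain ⟨m, W, c, hWa, hcf, -, hcs, hl⟩ := h Z hZ t
  exact ⟨m, W, c, hWa, hcf, hcs, hl⟩

theorem fppfRefines_aux_reindex {Z : Over S} {X : Sp S} (t : (yon S).obj Z ⟶ X) {ι : Type u} (Xi : ι → Sp S)
    (g : ∀ i, Xi i ⟶ X) {κ : Type*} [Finite κ] (W : κ → Over S) (c : ∀ k, W k ⟶ Z)
    (hWa : ∀ k, IsAffine (W k).left) (hcf : ∀ k, Flat (c k).left)
    (hcp : ∀ k, LocallyOfFinitePresentation (c k).left)
    (hcs : ∀ z : ↥Z.left, ∃ k, z ∈ Set.range (c k).left)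
    (hl : ∀ k, ∃ (i : ι) (l : (yon S).obj (W k) ⟶ Xi i), l ≫ g i = (yon S).map (c k) ≫ t) :
    ∃ (m : ℕ) (W' : Fin m → Over S) (c' : ∀ j, W' j ⟶ Z), (∀ j, IsAffine (W' j).left) ∧
      (∀ j, Flat (c' j).left) ∧ (∀ j, LocallyOfFinitePresentation (c' j).left) ∧
      (∀ z : ↥Z.left, ∃ j, z ∈ Set.range (c' j).left) ∧
      ∀ j, ∃ (i : ι) (l : (yon S).obj (W' j) ⟶ Xi i), l ≫ g i = (yon S).map (c' j) ≫ t := by
  let e := (Finite.equivFin κ).symm
  refine ⟨Nat.card κ, fun j => W (e j), fun j => c (e j), fun j => hWa _, fun j => hcf _, fun j => hcp _,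
    fun z => ?_, fun j => hl _⟩
  obtain ⟨k, hk⟩ := hcs z
  obtain ⟨j, rfl⟩ := e.surjective k
  exact ⟨j, hk⟩

/-- An fppf covering satisfies the fppf refinement clause. -/
theorem fppfRefines_of_isFppfCover {X : Sp S} (hX : IsAlgSpace X) {ι : Type u} (Xi : ι → Sp S)
    (hXi : ∀ i, IsAlgSpace (Xi i)) (g : ∀ i, Xi i ⟶ X) (h : IsFppfCover Xi g) : FppfRefines Xi g := by
  intro Z hZ t
  obtain ⟨U, k, l, hl, hkf, hkp, hks⟩ := exists_fppf_charts hX Xi hXi g h Z t
  have H : ∀ z : ↥Z.left, ∃ (i : ι) (A : (U i).left.Opens), IsAffineOpen A ∧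
      z ∈ (k i).left '' (A : Set ↥(U i).left) := by
    intro z
    obtain ⟨i, u, rfl⟩ := hks z
    obtain ⟨_, ⟨(A : (U i).left.Opens), hA, rfl⟩, huA, -⟩ :=
      (U i).left.isBasis_affineOpens.exists_subset_of_mem_open (Set.mem_univ u) isOpen_univ
    exact ⟨i, A, hA, u, huA, rfl⟩
  choose i A hA hz using H
  have hopen : ∀ z, IsOpen ((k (i z)).left '' (A z : Set ↥(U (i z)).left)) := fun z => by
    have := hkf (i z)
    have := hkp (i z)
    exact (k (i z)).left.isOpenMap _ (A z).2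
  have : CompactSpace ↥Z.left := inferInstance
  obtain ⟨F, hF⟩ := isCompact_univ.elim_finite_subcover
    (fun z => (k (i z)).left '' (A z : Set ↥(U (i z)).left)) hopen
    (fun z _ => Set.mem_iUnion.2 ⟨z, hz z⟩)
  refine fppfRefines_aux_reindex t _ _ (κ := ↥F)
    (fun z' => Over.mk ((A z'.1).ι ≫ (U (i z'.1)).hom))
    (fun z' => (Over.homMk (A z'.1).ι rfl : Over.mk ((A z'.1).ι ≫ (U (i z'.1)).hom) ⟶ U (i z'.1)) ≫ k (i z'.1))
    (fun z' => hA z'.1) (fun z' => ?_) (fun z' => ?_) (fun z => ?_) (fun z' => ?_)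
  · have := hkf (i z'.1)
    show Flat ((A z'.1).ι ≫ (k (i z'.1)).left)
    infer_instance
  · have := hkp (i z'.1)
    show LocallyOfFinitePresentation ((A z'.1).ι ≫ (k (i z'.1)).left)
    infer_instance
  · obtain ⟨z', hz'F, u, huA, rfl⟩ := Set.mem_iUnion₂.1 (hF (Set.mem_univ z))
    exact ⟨⟨z', hz'F⟩, ⟨u, huA⟩, rfl⟩
  · refine ⟨i z'.1, (yon S).map (Over.homMk (A z'.1).ι rfl :
      Over.mk ((A z'.1).ι ≫ (U (i z'.1)).hom) ⟶ U (i z'.1)) ≫ l (i z'.1), ?_⟩
    rw [Category.assoc, hl, Functor.map_comp, Category.assoc]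

/-- A single etale surjective chart satisfies the fppf refinement clause. -/
theorem fppfRefines_chart {X : Sp S} (hX : IsAlgSpace X) {U : Over S} (p : (yon S).obj U ⟶ X)
    (hp : RepWith @Etale p) (hps : RepWith @Surjective p) :
    FppfRefines (fun _ : PUnit.{u + 1} => (yon S).obj U) (fun _ => p) := by
  refine fppfRefines_of_isFppfCover hX _ (fun _ => IsAlgSpace.yon_obj U) _ ⟨fun _ => ⟨?_, ?_⟩, fun x => ?_⟩
  · exact locP_of_repWith_etale etLocalST_flat (IsAlgSpace.yon_obj U) hX p hp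
  · exact locP_of_repWith_etale etLocalST_locallyOfFinitePresentation (IsAlgSpace.yon_obj U) hX p hp
  · exact ⟨PUnit.unit, (repWith_surjective_iff p hp.rep).1 hps x⟩

/-- **Immersions descend along fppf coverings of algebraic spaces.** -/
theorem repWith_isImmersion_of_fppfRefines {ι : Type u} {Y : Sp S} (hY : IsAlgSpace Y) (Yi : ι → Sp S)
    (g : ∀ i, Yi i ⟶ Y) (href : FppfRefines Yi g) {X : Sp S} (hX : IsAlgSpace X) (f : X ⟶ Y) (Xi : ι → Sp S)
    (p : ∀ i, Xi i ⟶ Yi i) (q : ∀ i, Xi i ⟶ X) (sq : ∀ i, IsPullback (q i) (p i) f (g i))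
    (hp : ∀ i, RepWith @IsImmersion (p i)) : RepWith @IsImmersion f := by
  refine repWith_of_affine_local hX hY f (fun Z hZ z => ?_)
  obtain ⟨m, W, c, hWa, hcf, hcp, hcs, hl⟩ := href Z hZ z
  choose i l hl using hl
  have hV := fun j => (hp (i j)).rep (l j)
  choose V π fstV sqV using hV
  have hπ : ∀ j, IsImmersion (π j).left := fun j => (hp (i j)).property _ _ _ (sqV j)
  have sq' : ∀ j, IsPullback (fstV j ≫ q (i j)) ((yon S).map (π j)) f ((yon S).map (c j) ≫ z) := by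
    intro j
    rw [← hl j]
    exact (sqV j).paste_horiz (sq (i j))
  have hT : IsAlgSpace (pullback f z) :=
    isAlgSpace_of_isPullback hX hY.diag (IsAlgSpace.yon_obj Z) (IsPullback.of_hasPullback f z)
  have hw : ∀ j, (fstV j ≫ q (i j)) ≫ f = ((yon S).map (π j) ≫ (yon S).map (c j)) ≫ z := fun j => by
    rw [(sq' j).w, Category.assoc]
  let a : ∀ j, (yon S).obj (V j) ⟶ pullback f z := fun j =>
    pullback.lift (fstV j ≫ q (i j)) ((yon S).map (π j) ≫ (yon S).map (c j)) (hw j)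
  have sqa : ∀ j, IsPullback (a j) ((yon S).map (π j)) (pullback.snd f z) ((yon S).map (c j)) := by
    intro j
    refine IsPullback.of_right ?_ (pullback.lift_snd _ _ _) (IsPullback.of_hasPullback f z)
    rw [pullback.lift_fst]
    exact sq' j
  obtain ⟨T₀, i₀, e, he, hei, hi₀⟩ := exists_immersion_of_fppf_cover hZ hT (pullback.snd f z) W V c hWa hcf hcp hcs
    π hπ a sqa
  refine ⟨T₀, i₀, e ≫ pullback.fst f z, ?_, hi₀⟩
  have := he
  refine IsPullback.of_iso (IsPullback.of_hasPullback f z) (asIso e).symm (Iso.refl _) (Iso.refl _) (Iso.refl _)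
    ?_ ?_ ?_ ?_
  · simp
  · rw [Iso.refl_hom, Category.comp_id, Iso.symm_hom, asIso_inv, ← hei, IsIso.inv_hom_id_assoc]
  · simp
  · simp

end Groth.Agent.Lib.Helper16.ImmDesc
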