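import Groth.Agent.S1447
import Groth.Agent.S10192
import Groth.Agent.Lib.Helper16.UnivBdd
import Groth.Agent.Lib.Helper16.UBF1
import Groth.Agent.Lib.Helper16.ValCrit3
import Groth.Agent.Lib.Helper16.Rep

/-!
# Helper library (helper16): the degree stratification of an algebraic space defined by a flat, separated,
locally quasi-finite, finitely presented morphism from a scheme with universally bounded fibres
-/

set_option autoImplicit false
universe u
open CategoryTheory CategoryTheory.Limits AlgebraicGeometry Opposite Topology TopologicalSpace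

namespace Groth.Agent.Lib.Helper16.DegStrat

open AlgSp Groth.Agent.Lib.Helper16

variable {S : Scheme.{u}}

/-- The bound on the degrees of the fibres, in the form used for schemes. -/
theorem rank_le_of_degFibresLE {F : Sp S} {W : Over S} (w : (yon S).obj W ⟶ F) (n : ℕ)
    (hn : W4dec.DegFibresLE n w) {T B : Over S} (g : (yon S).obj T ⟶ F)
    (p₁ : (yon S).obj B ⟶ (yon S).obj W) (p₂ : B ⟶ T) (sq : IsPullback p₁ ((yon S).map p₂) w g)
    (K : Type u) [Field K] (g₀ : Spec (CommRingCat.of K) ⟶ T.left) :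
    (letI := ((Scheme.ΓSpecIso (CommRingCat.of K)).inv ≫ (pullback.snd p₂.left g₀).appTop).hom.toAlgebra;
      Module.rank K (Γ(pullback p₂.left g₀, ⊤) : Type u)) ≤ (n : Cardinal.{u}) := by
  let T₀ : Over S := Over.mk (pullback.snd p₂.left g₀ ≫ g₀ ≫ T.hom)
  let c : T₀ ⟶ Over.mk (g₀ ≫ T.hom) := Over.homMk (pullback.snd p₂.left g₀) rfl
  let gT : Over.mk (g₀ ≫ T.hom) ⟶ T := Over.homMk g₀ rfl
  let l₀ : T₀ ⟶ B := Over.homMk (pullback.fst p₂.left g₀) (by
    change pullback.fst p₂.left g₀ ≫ B.hom = pullback.snd p₂.left g₀ ≫ g₀ ≫ T.hom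
    rw [← Over.w p₂, ← Category.assoc, pullback.condition, Category.assoc])
  have sqO : IsPullback l₀ c p₂ gT :=
    IsPullback.of_map (Over.forget S) (Over.OverMorphism.ext pullback.condition)
      (IsPullback.of_hasPullback p₂.left g₀)
  have sqY := (sqO.map (yon S)).paste_horiz sq
  have hdeg := degFibresLE_apply_hom hn (g₀ ≫ T.hom) ((yon S).map gT ≫ g) T₀ c ((yon S).map l₀ ≫ p₁) sqY.flip
  have hdeg' : UBF.DegLE (pullback.snd p₂.left g₀) n := hdeg
  have : IsFinite (pullback.snd p₂.left g₀) := hdeg.1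
  have : IsAffine (pullback p₂.left g₀) := isAffine_of_isAffineHom (pullback.snd p₂.left g₀)
  obtain ⟨hfin, hle⟩ := (UBF.degLE_iff (pullback.snd p₂.left g₀) n).1 hdeg'
  letI := gammaAlgebra (pullback.snd p₂.left g₀)
  change Module.rank K Γ(pullback p₂.left g₀, ⊤) ≤ (n : Cardinal.{u})
  rw [← Module.finrank_eq_rank K]
  exact_mod_cast hle

/-- A property stable under base change can be tested on any representing pullback. -/
theorem prop_iff_of_isPullback_yon {Q : MorphismProperty Scheme.{u}} [Q.IsStableUnderBaseChange]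
    {B T T' B' : Over S} (p₂ : B ⟶ T) (h : T' ⟶ T) (p₂' : B' ⟶ T')
    (l : (yon S).obj B' ⟶ (yon S).obj B)
    (sq : IsPullback l ((yon S).map p₂') ((yon S).map p₂) ((yon S).map h)) :
    Q p₂'.left ↔ Q (pullback.snd p₂.left h.left) := by
  have hQ : Q.RespectsIso := MorphismProperty.IsStableUnderBaseChange.respectsIso
  obtain ⟨l₀, rfl⟩ := (yon S).map_surjective l
  have sqO : IsPullback l₀ p₂' p₂ h :=
    IsPullback.of_map (yon S) ((yon S).map_injective (by
      rw [Functor.map_comp, Functor.map_comp]; exact sq.w)) sq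
  have sqS : IsPullback l₀.left p₂'.left p₂.left h.left := sqO.map (Over.forget S)
  have he : sqS.isoPullback.hom ≫ pullback.snd p₂.left h.left = p₂'.left := sqS.isoPullback_hom_snd
  have := MorphismProperty.cancel_left_of_respectsIso Q sqS.isoPullback.hom (pullback.snd p₂.left h.left)
  rwa [he] at this

/-- The degree function of a chart. -/
theorem exists_chartDeg {X : Sp S} {W : Over S} (w : (yon S).obj W ⟶ X) (hfl : RepWith @Flat w)
    (hfp : RepWith @LocallyOfFinitePresentation w) (hsep : RepWith @IsSeparated w)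
    (hqf : RepWith @LocallyQuasiFinite w) (n : ℕ) (hn : W4dec.DegFibresLE n w)
    {T : Over S} (g : (yon S).obj T ⟶ X) :
    ∃ deg : ↥T.left → ℕ, (∀ t, deg t ≤ n) ∧ (∀ r : ℕ, IsClosed {t | deg t ≤ r}) ∧
      ∀ (T' : Over S) (h : T' ⟶ T) (r : ℕ),
        Mor2.IsFinLocFreeOfDeg r (hfl.rep.snd ((yon S).map h ≫ g)).left ↔
          ∀ t' : ↥T'.left, deg (h.left t') = r := by
  have : Flat (hfl.rep.snd g).left := hfl.property_snd g
  have : LocallyOfFinitePresentation (hfl.rep.snd g).left := hfp.property_snd g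
  have : IsSeparated (hfl.rep.snd g).left := hsep.property_snd g
  have : LocallyQuasiFinite (hfl.rep.snd g).left := hqf.property_snd g
  obtain ⟨deg, hle, hcl, hchar⟩ := Groth.Agent.S1447.result (hfl.rep.snd g).left n
    (fun K _ g₀ => rank_le_of_degFibresLE w n hn g (hfl.rep.fst g) (hfl.rep.snd g)
      (hfl.rep.isPullback g) K g₀)
  refine ⟨deg, hle, hcl, fun T' h r => ?_⟩
  rw [← hchar T'.left h.left r]
  have hbig := hfl.rep.isPullback ((yon S).map h ≫ g)
  have sqL : IsPullback ((hfl.rep.isPullback g).lift (hfl.rep.fst ((yon S).map h ≫ g))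
        ((yon S).map (hfl.rep.snd ((yon S).map h ≫ g)) ≫ (yon S).map h)
        (by rw [Category.assoc]; exact hbig.w))
      ((yon S).map (hfl.rep.snd ((yon S).map h ≫ g))) ((yon S).map (hfl.rep.snd g)) ((yon S).map h) := by
    refine IsPullback.of_right ?_ ((hfl.rep.isPullback g).lift_snd _ _ _) (hfl.rep.isPullback g)
    rw [(hfl.rep.isPullback g).lift_fst]
    exact hbig
  exact prop_iff_of_isPullback_yon (Q := finLocFreeOfDeg r) (hfl.rep.snd g) h _ _ sqL

/-- The degree function on the points of the algebraic space. -/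
theorem exists_degX {X : AlgSp.Space S} {W : Over S} (w : (yon S).obj W ⟶ X.obj) (hfl : RepWith @Flat w)
    (hfp : RepWith @LocallyOfFinitePresentation w) (hsep : RepWith @IsSeparated w)
    (hqf : RepWith @LocallyQuasiFinite w) (n : ℕ) (hn : W4dec.DegFibresLE n w) :
    ∃ degX : Points X.obj → ℕ, (∀ x, degX x ≤ n) ∧ (∀ r : ℕ, IsClosed {x | degX x ≤ r}) ∧
      ∀ (T : Over S) (g : (yon S).obj T ⟶ X.obj) (r : ℕ),
        Mor2.IsFinLocFreeOfDeg r (hfl.rep.snd g).left ↔ ∀ t : ↥T.left, degX (Points.ofPt g t) = r := by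
  choose cdeg hle hcl hchar using fun (T : Over S) (g : (yon S).obj T ⟶ X.obj) =>
    exists_chartDeg w hfl hfp hsep hqf n hn g
  -- compatibility of the chart degree functions
  have hK : ∀ (T₁ T₂ : Over S) (g₁ : (yon S).obj T₁ ⟶ X.obj) (g₂ : (yon S).obj T₂ ⟶ X.obj)
      (t₁ : ↥T₁.left) (t₂ : ↥T₂.left), Points.ofPt g₁ t₁ = Points.ofPt g₂ t₂ →
      cdeg T₁ g₁ t₁ = cdeg T₂ g₂ t₂ := by
    intro T₁ T₂ g₁ g₂ t₁ t₂ h
    obtain ⟨Ω, _, w₀, α, β, hαβ, hα, hβ⟩ := ValCrit.exists_common_extension g₁ g₂ t₁ t₂ h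
    have h1 := hchar T₁ g₁ (Over.mk w₀) α (cdeg T₁ g₁ t₁)
    have h2 := hchar T₂ g₂ (Over.mk w₀) β (cdeg T₁ g₁ t₁)
    rw [hαβ] at h1
    have h3 : ∀ t' : ↥(Over.mk w₀).left, cdeg T₁ g₁ (α.left t') = cdeg T₁ g₁ t₁ := by
      intro t'
      rw [Subsingleton.elim (α := ↥(Spec (CommRingCat.of Ω))) t' (IsLocalRing.closedPoint Ω), hα]
    have h4 := h2.1 (h1.2 h3) (IsLocalRing.closedPoint Ω)
    rw [hβ] at h4
    exact h4.symm
  obtain ⟨U, a, hae, has⟩ := X.property.atlas
  have hsurj : ∀ x : Points X.obj, ∃ u : ↥U.left, Points.ofPt a u = x := by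
    intro x
    obtain ⟨z, hz⟩ := (repWith_surjective_iff a hae.1).1 has x
    exact ⟨Points.toScheme U z, by rw [Points.ofPt_eq_map_ofScheme, Points.ofScheme_toScheme, hz]⟩
  choose sec hsec using hsurj
  have hdeg : ∀ (T : Over S) (g : (yon S).obj T ⟶ X.obj) (t : ↥T.left),
      cdeg U a (sec (Points.ofPt g t)) = cdeg T g t := fun T g t => hK _ _ _ _ _ _ (hsec _)
  refine ⟨fun x => cdeg U a (sec x), fun x => hle U a _, fun r => ?_, fun T g r => ?_⟩
  · rw [← isOpen_compl_iff]
    have h1 : ({x | cdeg U a (sec x) ≤ r} : Set (Points X.obj))ᶜ =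
        Points.ofPt a '' ({u | cdeg U a u ≤ r} : Set ↥U.left)ᶜ := by
      ext x
      constructor
      · intro hx
        refine ⟨sec x, ?_, hsec x⟩
        exact hx
      · rintro ⟨u, hu, rfl⟩
        show ¬ cdeg U a (sec (Points.ofPt a u)) ≤ r
        rw [hdeg U a u]
        exact hu
    rw [h1]
    exact isOpenMap_ofPt_of_etale a hae _ (hcl U a r).isOpen_compl
  · have h1 := hchar T g T (𝟙 T) r
    rw [(yon S).map_id, Category.id_comp] at h1
    rw [h1]
    refine forall_congr' fun t => ?_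
    show cdeg T g t = r ↔ cdeg U a (sec (Points.ofPt g t)) = r
    rw [hdeg T g t]

/-- Testing `RepWith Q` for a base change of `w` on the canonical represented pullbacks of `w`. -/
theorem repWith_snd_iff {Q : MorphismProperty Scheme.{u}} [Q.IsStableUnderBaseChange] {X G P : Sp S}
    {W : Over S} (w : (yon S).obj W ⟶ X) (hrep : Representable w) (g : G ⟶ X)
    (fst : P ⟶ (yon S).obj W) (snd : P ⟶ G) (sq : IsPullback fst snd w g) :
    RepWith Q snd ↔ ∀ (T' : Over S) (g' : (yon S).obj T' ⟶ G), Q (hrep.snd (g' ≫ g)).left := by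
  have hQ : Q.RespectsIso := MorphismProperty.IsStableUnderBaseChange.respectsIso
  have hQ' : (Q.inverseImage (Over.forget S)).RespectsIso := MorphismProperty.RespectsIso.inverseImage Q _
  have hsq : ∀ (T' : Over S) (g' : (yon S).obj T' ⟶ G),
      IsPullback (sq.lift (hrep.fst (g' ≫ g)) ((yon S).map (hrep.snd (g' ≫ g)) ≫ g')
        (by rw [Category.assoc]; exact (hrep.isPullback (g' ≫ g)).w))
        ((yon S).map (hrep.snd (g' ≫ g))) snd g' := by
    intro T' g'
    refine IsPullback.of_right ?_ (sq.lift_snd _ _ _) sq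
    rw [sq.lift_fst]
    exact hrep.isPullback (g' ≫ g)
  constructor
  · intro h T' g'
    exact h.property g' _ _ (hsq T' g')
  · intro h
    refine MorphismProperty.relative.of_exists (fun T' g' => ?_)
    exact ⟨hrep.pullback (g' ≫ g), _, hrep.snd (g' ≫ g), hsq T' g', h T' g'⟩

/-- The degree stratification. -/
theorem main (X : AlgSp.Space S) {W : Over S}
    (w : (yon S).obj W ⟶ X.obj) (hfl : RepWith @Flat w) (hfp : RepWith @LocallyOfFinitePresentation w)
    (hsep : RepWith @IsSeparated w) (hqf : RepWith @LocallyQuasiFinite w) (hb : W4dec.HasUnivBddFibres w) :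
    ∃ (n : ℕ) (Zs : ℕ → AlgSp.Space S) (i : ∀ r, Zs r ⟶ X),
      (∀ r, IsRedInduced (Set.range (Points.map (i r).hom)) (i r).hom) ∧
      IsEmpty (Points (Zs 0).obj) ∧ Set.range (Points.map (i (n + 1)).hom) = Set.univ ∧
      (∀ r, Set.range (Points.map (i r).hom) ⊆ Set.range (Points.map (i (r + 1)).hom)) ∧
      ∀ (r : ℕ) (T : AlgSp.Space S) (g : T ⟶ X) (P : Sp S) (fst : P ⟶ (yon S).obj W) (snd : P ⟶ T.obj),
        IsPullback fst snd w g.hom →
          (IsFinLocFreeOfDegMor r snd ↔
            Set.range (Points.map g.hom) ⊆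
              Set.range (Points.map (i (r + 1)).hom) \ Set.range (Points.map (i r).hom)) := by
  obtain ⟨n, hn⟩ := hb
  obtain ⟨degX, hle, hcl, hchar⟩ := exists_degX w hfl hfp hsep hqf n hn
  have hZcl : ∀ r : ℕ, IsClosed {x : Points X.obj | degX x < r} := by
    intro r
    cases r with
    | zero =>
      have : {x : Points X.obj | degX x < 0} = ∅ := by
        ext x; simp
      rw [this]; exact isClosed_empty
    | succ r =>
      have : {x : Points X.obj | degX x < r + 1} = {x | degX x ≤ r} := by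
        ext x; exact Nat.lt_succ_iff
      rw [this]; exact hcl r
  choose Zs i hi using fun r => Groth.Agent.S10192.result X _ (hZcl r)
  have hrange : ∀ r, Set.range (Points.map (i r).hom) = {x | degX x < r} := fun r => (hi r).2.1
  refine ⟨n, Zs, i, ?_, ?_, ?_, ?_, ?_⟩
  · intro r
    rw [hrange r]
    exact hi r
  · constructor
    intro z
    have h1 : Points.map (i 0).hom z ∈ Set.range (Points.map (i 0).hom) := ⟨z, rfl⟩
    rw [hrange 0] at h1
    exact Nat.not_lt_zero _ h1
  · rw [hrange]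
    ext x
    simp only [Set.mem_setOf_eq, Set.mem_univ, iff_true]
    exact Nat.lt_succ_of_le (hle x)
  · intro r
    rw [hrange, hrange]
    intro x hx
    exact Nat.lt_succ_of_lt hx
  · intro r T g P fst snd sq
    rw [hrange, hrange]
    change RepWith (finLocFreeOfDeg r) snd ↔ _
    rw [repWith_snd_iff w hfl.rep g.hom fst snd sq]
    constructor
    · intro h x hx
      obtain ⟨τ, rfl⟩ := hx
      obtain ⟨V, b, hbe, hbs⟩ := T.property.atlas
      obtain ⟨z, hz⟩ := (repWith_surjective_iff b hbe.1).1 hbs τ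
      have h1 : Points.ofPt b (Points.toScheme V z) = τ := by
        rw [Points.ofPt_eq_map_ofScheme, Points.ofScheme_toScheme, hz]
      have h2 := (hchar V (b ≫ g.hom) r).1 (h V b) (Points.toScheme V z)
      rw [← Points.map_ofPt, h1] at h2
      refine ⟨?_, ?_⟩
      · show degX _ < r + 1
        rw [h2]; exact Nat.lt_succ_self r
      · show ¬ degX _ < r
        rw [h2]; exact Nat.lt_irrefl r
    · intro h T' g'
      refine (hchar T' (g' ≫ g.hom) r).2 (fun t' => ?_)
      have h1 := h ⟨Points.ofPt g' t', rfl⟩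
      rw [Points.map_ofPt] at h1
      obtain ⟨h2, h3⟩ := h1
      have h2' : degX (Points.ofPt (g' ≫ g.hom) t') < r + 1 := h2
      have h3' : ¬ degX (Points.ofPt (g' ≫ g.hom) t') < r := h3
      omega

end Groth.Agent.Lib.Helper16.DegStrat
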