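import Groth.Agent.Lib.Helper16.MonoPt2
import Groth.Agent.Lib.Helper16.SchemeTop
import Groth.Agent.Lib.Helper16.Charts
import Groth.Agent.Lib.Helper16.FibreProduct
import Mathlib.AlgebraicGeometry.PullbackCarrier

/-!
# Helper library (helper16): finiteness of fibres of `|U ×_X U| → |U| × |U|` over a monomorphic point
-/

set_option autoImplicit false
universe u
open CategoryTheory CategoryTheory.Limits AlgebraicGeometry Opposite Topology

namespace Groth.Agent.Lib.Helper16

open AlgSp

/-- Points of a fibre product of schemes over an affine base lying over a given pair of points form a finite set, when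
one of the two morphisms is locally quasi-finite. -/
theorem finite_pullback_over_pair₀ {E E' B : Scheme.{u}} [IsAffine B] (c : E ⟶ B) (c' : E' ⟶ B)
    [LocallyQuasiFinite c] (e : ↥E) (e' : ↥E') :
    {q : ↥(pullback c c') | pullback.fst c c' q = e ∧ pullback.snd c c' q = e'}.Finite := by
  obtain ⟨E₀, hE₀, he, -⟩ := exists_isAffineOpen_mem_and_subset (x := e) (U := ⊤) trivial
  obtain ⟨E₀', hE₀', he', -⟩ := exists_isAffineOpen_mem_and_subset (x := e') (U := ⊤) trivial
  have : IsAffine E₀.toScheme := hE₀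
  have : IsAffine E₀'.toScheme := hE₀'
  obtain ⟨m, hm⟩ : ∃ m : pullback (E₀.ι ≫ c) (E₀'.ι ≫ c') ⟶ pullback c c',
      m = pullback.map (E₀.ι ≫ c) (E₀'.ι ≫ c') c c' E₀.ι E₀'.ι (𝟙 B) (by simp) (by simp) := ⟨_, rfl⟩
  have hmo : IsOpenImmersion m := by rw [hm]; infer_instance
  have hr : Set.range m = pullback.fst c c' ⁻¹' Set.range E₀.ι ∩ pullback.snd c c' ⁻¹' Set.range E₀'.ι := by
    rw [hm]
    exact Scheme.Pullback.range_map _ _ _ _ _ _ _ _ _
  rw [Scheme.Opens.range_ι, Scheme.Opens.range_ι] at hr
  have hW : IsAffineOpen m.opensRange := isAffineOpen_opensRange m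
  have hle : m.opensRange ≤ pullback.snd c c' ⁻¹ᵁ E₀' := by
    intro q hq
    have hq' : q ∈ Set.range m := hq
    rw [hr] at hq'
    exact hq'.2
  have hfin := finite_inter_preimage_singleton (pullback.snd c c') E₀' hE₀' m.opensRange hW hle e'
  refine hfin.subset ?_
  rintro q ⟨hq1, hq2⟩
  refine ⟨?_, hq2⟩
  show q ∈ Set.range m
  rw [hr]
  refine ⟨?_, ?_⟩
  · show pullback.fst c c' q ∈ (E₀ : Set ↥E)
    rw [hq1]
    exact he
  · show pullback.snd c c' q ∈ (E₀' : Set ↥E')
    rw [hq2]
    exact he'

/-- Version of `finite_pullback_over_pair₀` for an arbitrary pullback square. -/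
theorem finite_pullback_over_pair {E E' B Q : Scheme.{u}} [IsAffine B] {c : E ⟶ B} {c' : E' ⟶ B}
    [LocallyQuasiFinite c] {a : Q ⟶ E} {b : Q ⟶ E'} (sq : IsPullback a b c c') (e : ↥E) (e' : ↥E') :
    {q : ↥Q | a q = e ∧ b q = e'}.Finite := by
  have hinj : Function.Injective sq.isoPullback.hom := by
    apply Function.LeftInverse.injective (g := sq.isoPullback.inv)
    intro q
    rw [← Scheme.Hom.comp_apply, Iso.hom_inv_id]
    rfl
  refine ((finite_pullback_over_pair₀ c c' e e').preimage hinj.injOn).subset ?_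
  rintro q ⟨hq1, hq2⟩
  refine ⟨?_, ?_⟩
  · show pullback.fst c c' (sq.isoPullback.hom q) = e
    rw [← Scheme.Hom.comp_apply, sq.isoPullback_hom_fst, hq1]
  · show pullback.snd c c' (sq.isoPullback.hom q) = e'
    rw [← Scheme.Hom.comp_apply, sq.isoPullback_hom_snd, hq2]

variable {S : Scheme.{u}}

/-- If `x` is represented by a monomorphism from the spectrum of a field, then for every etale chart `U` the fibre of
`|U ×_X U| → |U| × |U|` over a pair of points over `x` is finite. -/
theorem finite_fibre_of_mono_point {X : Sp S} (p : FieldPt X) (hm : Mono p.toHom)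
    {U : Over S} (φ : (yon S).obj U ⟶ X) (hφ : RepWith @Etale φ) (u u' : ↥U.left)
    (hu : Points.ofPt φ u = Points.mk p) (hu' : Points.ofPt φ u' = Points.mk p)
    (R : Over S) (s t : R ⟶ U) (sq : IsPullback ((yon S).map t) ((yon S).map s) φ φ) :
    {r : ↥R.left | s.left r = u ∧ t.left r = u'}.Finite := by
  obtain ⟨E, c, ψ, sqE₀⟩ := hφ.rep p.toHom
  obtain ⟨ε, rfl⟩ := (yon S).map_surjective ψ
  have hce : Etale c.left := hφ.property _ _ _ sqE₀
  have hεm : Mono ((yon S).map ε) := sqE₀.mono_fst_of_mono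
  have hεm' : Mono ε := (yon S).mono_of_mono_map hεm
  have hεl : Mono ε.left := inferInstance
  have hεinj : Function.Injective ε.left := ε.left.injective
  have hpt : ∀ w : ↥U.left, Points.ofPt φ w = Points.mk p → ∃ v : ↥E.left, ε.left v = w := by
    intro w hw
    obtain ⟨v, -, hv⟩ := exists_point_of_isPullback_yon_yon sqE₀.flip
      (IsLocalRing.closedPoint p.K : ↥(Spec (CommRingCat.of p.K))) w (by rw [Points.ofPt_toHom, hw])
    exact ⟨v, hv⟩
  obtain ⟨e, he⟩ := hpt u hu
  obtain ⟨e', he'⟩ := hpt u' hu'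
  have hcond : pullback.fst c c ≫ c = pullback.snd c c ≫ c := pullback.condition
  have hcomm : (yon S).map (pullback.snd c c ≫ ε) ≫ φ = (yon S).map (pullback.fst c c ≫ ε) ≫ φ := by
    rw [Functor.map_comp, Functor.map_comp, Category.assoc, Category.assoc, sqE₀.w, ← Category.assoc,
      ← Category.assoc, ← Functor.map_comp, ← Functor.map_comp, hcond]
  obtain ⟨θ, hθ⟩ := (yon S).map_surjective (sq.lift _ _ hcomm)
  have hθt : θ ≫ t = pullback.snd c c ≫ ε :=
    (yon S).map_injective (by rw [Functor.map_comp, hθ, sq.lift_fst])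
  have hθs : θ ≫ s = pullback.fst c c ≫ ε :=
    (yon S).map_injective (by rw [Functor.map_comp, hθ, sq.lift_snd])
  have yonQ : IsPullback ((yon S).map (pullback.fst c c)) ((yon S).map (pullback.snd c c))
      ((yon S).map c) ((yon S).map c) := (IsPullback.of_hasPullback c c).map (yon S)
  have star : IsPullback ((yon S).map θ) ((yon S).map (pullback.fst c c ≫ c))
      ((yon S).map s ≫ φ) p.toHom := by
    refine isPullback_of_exists_lift ?_ ?_ ?_
    · rw [← Category.assoc, ← Functor.map_comp, hθs, Functor.map_comp, Functor.map_comp, Category.assoc,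
        Category.assoc, sqE₀.w]
    · intro Z ρ κ h
      have h1 : (ρ ≫ (yon S).map s) ≫ φ = κ ≫ p.toHom := by rw [Category.assoc]; exact h
      have h2 : (ρ ≫ (yon S).map t) ≫ φ = κ ≫ p.toHom := by
        rw [Category.assoc, sq.w, ← Category.assoc]; exact h1
      have hα : sqE₀.lift _ _ h1 ≫ (yon S).map c = sqE₀.lift _ _ h2 ≫ (yon S).map c := by
        rw [sqE₀.lift_snd, sqE₀.lift_snd]
      refine ⟨yonQ.lift _ _ hα, ?_, ?_⟩
      · apply sq.hom_ext
        · rw [Category.assoc, ← Functor.map_comp, hθt, Functor.map_comp, ← Category.assoc, yonQ.lift_snd,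
            sqE₀.lift_fst]
        · rw [Category.assoc, ← Functor.map_comp, hθs, Functor.map_comp, ← Category.assoc, yonQ.lift_fst,
            sqE₀.lift_fst]
      · rw [Functor.map_comp, ← Category.assoc, yonQ.lift_fst, sqE₀.lift_snd]
    · intro Z l l' hl1 hl2
      have hl2' : (l ≫ (yon S).map (pullback.fst c c)) ≫ (yon S).map c =
          (l' ≫ (yon S).map (pullback.fst c c)) ≫ (yon S).map c := by
        rw [Category.assoc, Category.assoc, ← Functor.map_comp]; exact hl2
      have hs' : (l ≫ (yon S).map (pullback.fst c c)) ≫ (yon S).map ε =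
          (l' ≫ (yon S).map (pullback.fst c c)) ≫ (yon S).map ε := by
        rw [Category.assoc, Category.assoc, ← Functor.map_comp, ← hθs, Functor.map_comp, ← Category.assoc,
          ← Category.assoc, hl1]
      have ht' : (l ≫ (yon S).map (pullback.snd c c)) ≫ (yon S).map ε =
          (l' ≫ (yon S).map (pullback.snd c c)) ≫ (yon S).map ε := by
        rw [Category.assoc, Category.assoc, ← Functor.map_comp, ← hθt, Functor.map_comp, ← Category.assoc,
          ← Category.assoc, hl1]
      apply yonQ.hom_ext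
      · exact sqE₀.hom_ext hs' hl2'
      · apply sqE₀.hom_ext ht'
        rw [Category.assoc, Category.assoc, ← Functor.map_comp, ← hcond]
        exact hl2
  have sqL : IsPullback (pullback.fst c c).left (pullback.snd c c).left c.left c.left :=
    (IsPullback.of_hasPullback c c).map (Over.forget S)
  obtain ⟨c₁, hc₁⟩ : ∃ c₁ : E.left ⟶ Spec (CommRingCat.of p.K), c₁ = c.left := ⟨_, rfl⟩
  have sqL' : IsPullback (pullback.fst c c).left (pullback.snd c c).left c₁ c₁ := by
    rw [hc₁]; exact sqL
  have hlqf : LocallyQuasiFinite c₁ := by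
    rw [hc₁]; exact locallyQuasiFinite_of_etale c.left
  have hB := finite_pullback_over_pair sqL' e e'
  refine (hB.image (fun q => θ.left q)).subset ?_
  rintro r ⟨hr1, hr2⟩
  obtain ⟨v, hv, -⟩ := exists_point_of_isPullback_yon_yon star r
    (IsLocalRing.closedPoint p.K : ↥(Spec (CommRingCat.of p.K))) (by
      rw [ofPt_yon_map_comp, hr1, hu, Points.ofPt_toHom])
  have h3 : s.left (θ.left v) = ε.left ((pullback.fst c c).left v) := by
    rw [← Scheme.Hom.comp_apply, ← Scheme.Hom.comp_apply, ← Over.comp_left, ← Over.comp_left, hθs]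
  have h4 : t.left (θ.left v) = ε.left ((pullback.snd c c).left v) := by
    rw [← Scheme.Hom.comp_apply, ← Scheme.Hom.comp_apply, ← Over.comp_left, ← Over.comp_left, hθt]
  refine ⟨v, ⟨?_, ?_⟩, hv⟩
  · apply hεinj
    rw [← h3, hv, hr1, he]
  · apply hεinj
    rw [← h4, hv, hr2, he']

end Groth.Agent.Lib.Helper16
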