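import Groth.Agent.Lib.Helper16.FieldQuot
import Groth.Agent.Lib.Helper16.FppfLocal
import Groth.Agent.Lib.Helper16.SchemeTop
import Groth.Agent.Lib.Helper16.Decent

/-!
# Helper library (helper16): existence of a monomorphic point from finiteness of the fibre of `R = U ×_X U`
-/

set_option autoImplicit false
universe u
open CategoryTheory CategoryTheory.Limits AlgebraicGeometry Opposite Topology

namespace Groth.Agent.Lib.Helper16

open AlgSp

variable {S : Scheme.{u}}

/-- The projection from `Q ×_X Spec κ(u')` to `Q` is locally quasi-finite, for `u'` a point of an etale chart. -/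
theorem locallyQuasiFinite_fst_of_isPullback_ofPt {X : Sp S} {U : Over S} (φ : (yon S).obj U ⟶ X)
    (hφ : RepWith @Etale φ) (u' : ↥U.left) {Q G : Over S} (y : (yon S).obj Q ⟶ X) (g₁ : G ⟶ Q)
    (g₂ : G ⟶ (FieldPt.ofPt φ u').pt)
    (hG : IsPullback ((yon S).map g₁) ((yon S).map g₂) y (FieldPt.ofPt φ u').toHom) :
    LocallyQuasiFinite g₁.left := by
  obtain ⟨ptu, hptu⟩ : ∃ ptu : (FieldPt.ofPt φ u').pt ⟶ U,
      ptu = Over.homMk (U.left.fromSpecResidueField u') rfl := ⟨_, rfl⟩
  have hq' : (FieldPt.ofPt φ u').toHom = (yon S).map ptu ≫ φ := by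
    rw [hptu]; exact FieldPt.toHom_ofPt φ u'
  obtain ⟨A, a₁, a₂, sqA⟩ := hφ.rep y
  have ha₁ : Etale a₁.left := hφ.property _ _ _ sqA
  obtain ⟨a₂', rfl⟩ := (yon S).map_surjective a₂
  have hcomm : (yon S).map (g₂ ≫ ptu) ≫ φ = (yon S).map g₁ ≫ y := by
    rw [Functor.map_comp, Category.assoc, ← hq']; exact hG.w.symm
  obtain ⟨ℓ, hℓ⟩ := (yon S).map_surjective (sqA.lift _ _ hcomm)
  have hℓ1 : (yon S).map ℓ ≫ (yon S).map a₂' = (yon S).map g₂ ≫ (yon S).map ptu := by
    rw [hℓ, sqA.lift_fst, Functor.map_comp]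
  have hℓ2 : (yon S).map ℓ ≫ (yon S).map a₁ = (yon S).map g₁ := by rw [hℓ, sqA.lift_snd]
  have hleft : IsPullback ((yon S).map ℓ) ((yon S).map g₂) ((yon S).map a₂') ((yon S).map ptu) := by
    refine IsPullback.of_right ?_ hℓ1 sqA.flip
    rw [hℓ2, ← hq']
    exact hG
  have hleft' := isPullback_left_of_yon hleft
  have hptu_lqf : LocallyQuasiFinite ptu.left := by
    rw [hptu]
    show LocallyQuasiFinite (U.left.fromSpecResidueField u')
    infer_instance
  have hℓlqf : LocallyQuasiFinite ℓ.left :=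
    MorphismProperty.of_isPullback (P := @LocallyQuasiFinite) hleft'.flip hptu_lqf
  have h1 : g₁ = ℓ ≫ a₁ := (yon S).map_injective (by rw [Functor.map_comp, hℓ2])
  rw [h1, Over.comp_left]
  have : LocallyQuasiFinite a₁.left := locallyQuasiFinite_of_etale a₁.left
  exact MorphismProperty.comp_mem _ _ _ hℓlqf this


/-- (1) ⇒ (4): a point of an algebraic space such that for some etale chart and two points `u, u'` over it the fibre
of `|U ×_X U| → |U| × |U|` over `(u, u')` is finite is represented by a monomorphism from the spectrum of a field. -/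
theorem exists_mono_point_of_finite_relation_fibre {X : Sp S} (hX : IsAlgSpace X) {U : Over S}
    (φ : (yon S).obj U ⟶ X) (hφ : RepWith @Etale φ) (u u' : ↥U.left)
    (he : Points.ofPt φ u = Points.ofPt φ u')
    {R : Over S} (s t : R ⟶ U) (hR : IsPullback ((yon S).map t) ((yon S).map s) φ φ)
    (hfin : {r : ↥R.left | s.left r = u ∧ t.left r = u'}.Finite) :
    ∃ p : FieldPt X, Points.mk p = Points.ofPt φ u ∧ Mono p.toHom := by
  obtain ⟨ptu, hptu⟩ : ∃ ptu : (FieldPt.ofPt φ u).pt ⟶ U,
      ptu = Over.homMk (U.left.fromSpecResidueField u) rfl := ⟨_, rfl⟩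
  obtain ⟨ptu', hptu'⟩ : ∃ ptu' : (FieldPt.ofPt φ u').pt ⟶ U,
      ptu' = Over.homMk (U.left.fromSpecResidueField u') rfl := ⟨_, rfl⟩
  have hq : (FieldPt.ofPt φ u).toHom = (yon S).map ptu ≫ φ := by
    rw [hptu]; exact FieldPt.toHom_ofPt φ u
  have hq' : (FieldPt.ofPt φ u').toHom = (yon S).map ptu' ≫ φ := by
    rw [hptu']; exact FieldPt.toHom_ofPt φ u'
  have hptu_apply : ∀ z, ptu.left z = u := by
    intro z; rw [hptu]; exact Scheme.fromSpecResidueField_apply _ _
  have hptu'_apply : ∀ z, ptu'.left z = u' := by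
    intro z; rw [hptu']; exact Scheme.fromSpecResidueField_apply _ _
  have hptu_mono : Mono ptu := by
    have : Mono ptu.left := by
      rw [hptu]
      show Mono (U.left.fromSpecResidueField u)
      infer_instance
    exact Over.mono_of_mono_left _
  have hptu'_mono : Mono ptu' := by
    have : Mono ptu'.left := by
      rw [hptu']
      show Mono (U.left.fromSpecResidueField u')
      infer_instance
    exact Over.mono_of_mono_left _
  -- the fibre product of the two points
  have hrep' : Representable (FieldPt.ofPt φ u').toHom := hX.representable_from_yon _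
  obtain ⟨G, g₁, g₂, hG⟩ : ∃ (G : Over S) (g₁ : G ⟶ (FieldPt.ofPt φ u).pt) (g₂ : G ⟶ (FieldPt.ofPt φ u').pt),
      IsPullback ((yon S).map g₁) ((yon S).map g₂) (FieldPt.ofPt φ u).toHom (FieldPt.ofPt φ u').toHom :=
    ⟨_, _, _, (hrep'.isPullback' (FieldPt.ofPt φ u).toHom).flip⟩
  have hg₁ : LocallyQuasiFinite g₁.left := locallyQuasiFinite_fst_of_isPullback_ofPt φ hφ u' _ g₁ g₂ hG
  have hg₂ : LocallyQuasiFinite g₂.left := locallyQuasiFinite_fst_of_isPullback_ofPt φ hφ u _ g₂ g₁ hG.flip
  -- `G` embeds into the fibre of `R`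
  have hcomm : (yon S).map (g₂ ≫ ptu') ≫ φ = (yon S).map (g₁ ≫ ptu) ≫ φ := by
    rw [Functor.map_comp, Functor.map_comp, Category.assoc, Category.assoc, ← hq, ← hq']
    exact hG.w.symm
  obtain ⟨m, hm⟩ := (yon S).map_surjective (hR.lift _ _ hcomm)
  have hmt : m ≫ t = g₂ ≫ ptu' := (yon S).map_injective (by rw [Functor.map_comp, hm, hR.lift_fst])
  have hms : m ≫ s = g₁ ≫ ptu := (yon S).map_injective (by rw [Functor.map_comp, hm, hR.lift_snd])
  have hm_mono : Mono m := by
    constructor
    intro Z a b hab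
    have h1 : a ≫ g₁ = b ≫ g₁ := by
      rw [← cancel_mono ptu, Category.assoc, Category.assoc, ← hms, ← Category.assoc, ← Category.assoc, hab]
    have h2 : a ≫ g₂ = b ≫ g₂ := by
      rw [← cancel_mono ptu', Category.assoc, Category.assoc, ← hmt, ← Category.assoc, ← Category.assoc, hab]
    apply (yon S).map_injective
    apply hG.hom_ext
    · rw [← Functor.map_comp, ← Functor.map_comp, h1]
    · rw [← Functor.map_comp, ← Functor.map_comp, h2]
  have hm_mono' : Mono m.left := inferInstance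
  have hfinG : Finite ↥G.left := by
    have := hfin.to_subtype
    refine Finite.of_injective (fun g => (⟨m.left g, ?_, ?_⟩ :
      {r : ↥R.left | s.left r = u ∧ t.left r = u'})) ?_
    · rw [← Scheme.Hom.comp_apply, ← Over.comp_left, hms, Over.comp_left, Scheme.Hom.comp_apply, hptu_apply]
    · rw [← Scheme.Hom.comp_apply, ← Over.comp_left, hmt, Over.comp_left, Scheme.Hom.comp_apply, hptu'_apply]
    · intro g g' hgg
      exact m.left.injective (congrArg Subtype.val hgg)
  -- a point of `G`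
  obtain ⟨g₀, -, -⟩ := exists_point_of_isPullback_yon_yon hG
    (IsLocalRing.closedPoint _ : ↥(Spec (CommRingCat.of (FieldPt.ofPt φ u).K)))
    (IsLocalRing.closedPoint _ : ↥(Spec (CommRingCat.of (FieldPt.ofPt φ u').K)))
    (by rw [Points.ofPt_toHom, Points.ofPt_toHom]; exact he)
  -- the residue field of that point
  obtain ⟨KL, _, strL, ptg, hptg_lqf⟩ : ∃ (KL : Type u) (_ : Field KL) (strL : Spec (CommRingCat.of KL) ⟶ S)
      (ptg : Over.mk strL ⟶ G), LocallyQuasiFinite ptg.left :=
    ⟨↥(G.left.residueField g₀), inferInstance, G.left.fromSpecResidueField g₀ ≫ G.hom,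
      Over.homMk (G.left.fromSpecResidueField g₀) rfl, by
        show LocallyQuasiFinite (G.left.fromSpecResidueField g₀)
        infer_instance⟩
  obtain ⟨a, ha⟩ : ∃ a : Over.mk strL ⟶ (FieldPt.ofPt φ u).pt, a = ptg ≫ g₁ := ⟨_, rfl⟩
  obtain ⟨b, hb⟩ : ∃ b : Over.mk strL ⟶ (FieldPt.ofPt φ u').pt, b = ptg ≫ g₂ := ⟨_, rfl⟩
  have hab : (yon S).map b ≫ (FieldPt.ofPt φ u').toHom = (yon S).map a ≫ (FieldPt.ofPt φ u).toHom := by
    rw [ha, hb, Functor.map_comp, Functor.map_comp, Category.assoc, Category.assoc, hG.w]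
  -- the kernel pair of the point `Spec L → X`
  have sqD := (IsPullback.of_hasPullback a g₁).map (yon S)
  have sqD2 := sqD.paste_vert hG
  have sqF := (IsPullback.of_hasPullback (pullback.snd a g₁ ≫ g₂) b).map (yon S)
  rw [Functor.map_comp] at sqF
  have big := sqF.paste_horiz sqD2
  rw [hab, ← Functor.map_comp] at big
  -- local quasi-finiteness
  have hb_lqf : LocallyQuasiFinite b.left := by
    rw [hb, Over.comp_left]
    exact MorphismProperty.comp_mem _ _ _ hptg_lqf hg₂
  have sqFl : IsPullback (pullback.fst (pullback.snd a g₁ ≫ g₂) b).left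
      (pullback.snd (pullback.snd a g₁ ≫ g₂) b).left (pullback.snd a g₁ ≫ g₂).left b.left :=
    (IsPullback.of_hasPullback (pullback.snd a g₁ ≫ g₂) b).map (Over.forget S)
  have sqDl : IsPullback (pullback.fst a g₁).left (pullback.snd a g₁).left a.left g₁.left :=
    (IsPullback.of_hasPullback a g₁).map (Over.forget S)
  have hf₁_lqf : LocallyQuasiFinite (pullback.fst (pullback.snd a g₁ ≫ g₂) b).left :=
    MorphismProperty.of_isPullback (P := @LocallyQuasiFinite) sqFl.flip hb_lqf
  have hd₁_lqf : LocallyQuasiFinite (pullback.fst a g₁).left :=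
    MorphismProperty.of_isPullback (P := @LocallyQuasiFinite) sqDl.flip hg₁
  have hlqf : LocallyQuasiFinite (pullback.fst (pullback.snd a g₁ ≫ g₂) b ≫ pullback.fst a g₁).left := by
    rw [Over.comp_left]
    exact MorphismProperty.comp_mem _ _ _ hf₁_lqf hd₁_lqf
  -- compactness
  have hcL : CompactSpace ↥(Over.mk strL).left := inferInstanceAs (CompactSpace ↥(Spec (CommRingCat.of KL)))
  have hb_qc : QuasiCompact b.left := by
    obtain ⟨b₁, hb₁⟩ : ∃ b₁ : Spec (CommRingCat.of KL) ⟶ (FieldPt.ofPt φ u').pt.left, b₁ = b.left := ⟨_, rfl⟩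
    rw [← hb₁]
    exact quasiCompact_of_field_source b₁
  have hg₁_qc : QuasiCompact g₁.left := by
    obtain ⟨g₁', hg₁'⟩ : ∃ g₁' : G.left ⟶ Spec (CommRingCat.of (FieldPt.ofPt φ u).K), g₁' = g₁.left := ⟨_, rfl⟩
    rw [← hg₁']
    exact HasAffineProperty.iff_of_isAffine.mpr (by infer_instance)
  have hf₁_qc : QuasiCompact (pullback.fst (pullback.snd a g₁ ≫ g₂) b).left :=
    MorphismProperty.of_isPullback (P := @QuasiCompact) sqFl.flip hb_qc
  have hd₁_qc : QuasiCompact (pullback.fst a g₁).left :=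
    MorphismProperty.of_isPullback (P := @QuasiCompact) sqDl.flip hg₁_qc
  have hcD : CompactSpace ↥(pullback a g₁).left :=
    QuasiCompact.compactSpace_of_compactSpace (pullback.fst a g₁).left
  have hcF : CompactSpace ↥(pullback (pullback.snd a g₁ ≫ g₂) b).left :=
    QuasiCompact.compactSpace_of_compactSpace (pullback.fst (pullback.snd a g₁ ≫ g₂) b).left
  obtain ⟨k, _, str', c, p', hmono, hp', -, -, -⟩ :=
    exists_mono_desc_of_lqf_kernelPair KL strL _ _ _ big hlqf hcF
  refine ⟨fieldPtOfHom k str' p', ?_, ?_⟩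
  · have h1 : Points.mk (fieldPtOfHom KL strL ((yon S).map c ≫ p')) = Points.mk (fieldPtOfHom k str' p') := by
      have := mk_fieldPtOfHom_comp (fieldPtOfHom k str' p') KL strL c
      rwa [fieldPtOfHom_toHom] at this
    have h2 := mk_fieldPtOfHom_comp (FieldPt.ofPt φ u) KL strL a
    exact h1.symm.trans ((congrArg (fun m => Points.mk (fieldPtOfHom KL strL m)) hp').trans h2)
  · rw [fieldPtOfHom_toHom]
    exact hmono

end Groth.Agent.Lib.Helper16
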