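import Groth.Agent.Lib.Helper16.SchLocusA
import Groth.Agent.Lib.Helper16.QsNoeth2
import Groth.Agent.S10352

/-!
# Helper library (helper16): the schematic locus of a decent algebraic space is dense
-/

set_option autoImplicit false
universe u
open CategoryTheory CategoryTheory.Limits AlgebraicGeometry Opposite

namespace Groth.Agent.Lib.Helper16.SchLocus

open AlgSp Groth.Agent.Lib.Helper15 Strata

variable {S : Scheme.{u}}

/-- A chart from a nonempty affine scheme with bounded geometric degrees gives a nonempty open subscheme. -/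
theorem schLocus_nonempty_of_bounded {X : Sp S} (hX : IsAlgSpace X) {U : Over S} [IsAffine U.left]
    [Nonempty ↥U.left] (a : (yon S).obj U ⟶ X) (hae : RepWith @Etale a) {R : Over S} {c sn : R ⟶ U}
    (sq : IsPullback ((yon S).map c) ((yon S).map sn) a a) (N : ℕ)
    (hN : ∀ (u : ↥U.left) (d : ℕ), HasDeg sn.left u d → d ≤ N) : (schLocus X).Nonempty := by
  classical
  have hsne : Etale sn.left := hae.property _ _ _ sq
  have hsns : IsSeparated sn.left := isSeparated_sn sq
  obtain ⟨u₁⟩ := (inferInstance : Nonempty ↥U.left)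
  have h1 : HasDeg sn.left u₁ 1 := by
    rw [hasDeg_one_iff]
    obtain ⟨e, -, hes⟩ := exists_lift_R sq (𝟙 U) (𝟙 U) rfl
    refine ⟨e.left u₁, ?_⟩
    rw [← Scheme.Hom.comp_apply, ← Over.comp_left, hes]
    rfl
  let P : ℕ → Prop := fun n => ∃ u : ↥U.left, HasDeg sn.left u n
  have hP1 : P 1 := ⟨u₁, h1⟩
  have h1N : 1 ≤ N := hN u₁ 1 h1
  obtain ⟨d, hd⟩ : ∃ d, d = Nat.findGreatest P N := ⟨_, rfl⟩
  have hd1 : 1 ≤ d := by
    rw [hd]
    exact Nat.le_findGreatest h1N hP1
  have hdP : P d := by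
    rw [hd]
    exact Nat.findGreatest_spec (P := P) h1N hP1
  have hdQ : ¬ P (d + 1) := by
    rintro ⟨u, hu⟩
    have hle := hN u _ hu
    exact Nat.findGreatest_is_greatest (P := P) (n := N) (k := d + 1)
      (by rw [← hd]; exact Nat.lt_succ_self d) hle ⟨u, hu⟩
  obtain ⟨k, rfl⟩ : ∃ k, d = k + 1 := ⟨d - 1, by omega⟩
  let O : U.left.Opens := ⟨{u | HasDeg sn.left u (k + 1)}, isOpen_setOf_hasDeg (k + 1) sn.left⟩
  refine schLocus_nonempty_of_const_deg hX a hae sq O hdP k (fun u hu => ⟨hu, fun h => hdQ ⟨u, h⟩⟩) ?_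
  intro r hr
  refine hasDeg_of_ofPt_eq sq ?_ hr
  rw [← ofPt_yon_map_comp, ← ofPt_yon_map_comp, sq.w]

/-- A nonempty decent algebraic space has a nonempty open subscheme. -/
theorem schLocus_nonempty_of_isDecent {X : Sp S} (hX : IsAlgSpace X) (hdec : IsDecent X)
    [Nonempty (Points X)] : (schLocus X).Nonempty := by
  classical
  obtain ⟨U₀, p₀, hp₀e, hp₀s⟩ := hX.atlas
  obtain ⟨x₀⟩ := (inferInstance : Nonempty (Points X))
  obtain ⟨u₀, -⟩ := ofPt_surjective_of_surjective p₀ hp₀s x₀
  obtain ⟨O, hOaff, hu₀O⟩ := exists_affineOpen_mem u₀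
  have hUaff : IsAffine (overOpen U₀ O).left := hOaff
  have hUne : Nonempty ↥(overOpen U₀ O).left := ⟨⟨u₀, hu₀O⟩⟩
  have hae : RepWith @Etale ((yon S).map (overOpenι U₀ O) ≫ p₀) := repWith_etale_restrict p₀ hp₀e O
  obtain ⟨U, hU⟩ : ∃ U : Over S, U = overOpen U₀ O := ⟨_, rfl⟩
  obtain ⟨a, ha⟩ : ∃ a : (yon S).obj U ⟶ X, HEq a ((yon S).map (overOpenι U₀ O) ≫ p₀) := by
    subst hU
    exact ⟨_, HEq.rfl⟩
  have hae : RepWith @Etale a := by
    subst hU
    rw [eq_of_heq ha]
    exact hae
  have hUaff : IsAffine U.left := by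
    subst hU
    exact hUaff
  have hUne : Nonempty ↥U.left := by
    subst hU
    exact hUne
  clear ha
  -- the kernel pair
  have sq := hae.rep.isPullback a
  obtain ⟨c, hc⟩ := (yon S).map_surjective (hae.rep.fst a)
  rw [← hc] at sq
  obtain ⟨sn, hsn⟩ : ∃ sn : hae.rep.pullback a ⟶ U, sn = hae.rep.snd a := ⟨_, rfl⟩
  rw [← hsn] at sq
  have hsne : Etale sn.left := hae.property _ _ _ sq
  have hsns : IsSeparated sn.left := isSeparated_sn sq
  have hopen : ∀ n, IsOpen {u : ↥U.left | HasDeg sn.left u n} := fun n => isOpen_setOf_hasDeg n sn.left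
  by_cases hden : ∀ n, Dense {u : ↥U.left | HasDeg sn.left u n}
  · -- impossible by the Baire property of affine schemes
    exfalso
    obtain ⟨u₁⟩ := hUne
    obtain ⟨u, -, hu⟩ := SpecBaire.exists_mem_iInter_of_dense_of_isAffine U.left Set.univ isClosed_univ
      ⟨u₁, trivial⟩ (fun n => {u : ↥U.left | HasDeg sn.left u n}) hopen (by
        intro n V hV hVne
        rw [Set.inter_univ] at hVne ⊢
        exact (hden n).inter_open_nonempty V hV hVne)
    obtain ⟨N, hN⟩ := exists_bound_hasDeg sq hdec hae u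
    have := hN (N + 1) (Set.mem_iInter.1 hu (N + 1))
    omega
  · push Not at hden
    obtain ⟨n, hn⟩ := hden
    rw [dense_iff_inter_open] at hn
    push Not at hn
    obtain ⟨V', hV', ⟨v, hv⟩, hempty⟩ := hn
    obtain ⟨O', hO'aff, hvO', hO'V'⟩ := exists_isAffineOpen_mem_and_subset (U := ⟨V', hV'⟩) hv
    have hU'aff : IsAffine (overOpen U O').left := hO'aff
    have hU'ne : Nonempty ↥(overOpen U O').left := ⟨⟨v, hvO'⟩⟩
    have hae' : RepWith @Etale ((yon S).map (overOpenι U O') ≫ a) := repWith_etale_restrict a hae O'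
    have sq' := hae'.rep.isPullback ((yon S).map (overOpenι U O') ≫ a)
    obtain ⟨c', hc'⟩ := (yon S).map_surjective (hae'.rep.fst ((yon S).map (overOpenι U O') ≫ a))
    rw [← hc'] at sq'
    have hmono : Mono (overOpenι U O') := by
      have : Mono ((Over.forget S).map (overOpenι U O')) := by
        change Mono O'.ι
        infer_instance
      exact (Over.forget S).mono_of_mono_map this
    refine schLocus_nonempty_of_bounded hX _ hae' sq' n ?_
    intro u' d hd
    by_contra hlt
    push Not at hlt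
    have h1 : HasDeg sn.left ((overOpenι U O').left u') d := hasDeg_of_hasDeg_restrict sq sq' hd
    have h2 : HasDeg sn.left ((overOpenι U O').left u') n := h1.of_le sn.left hlt.le
    have h3 : (overOpenι U O').left u' ∈ V' ∩ {u | HasDeg sn.left u n} := ⟨hO'V' u'.2, h2⟩
    rw [hempty] at h3
    exact h3

/-- The schematic locus of a decent algebraic space is dense. -/
theorem dense_schLocus_of_isDecent {X : Sp S} (hX : IsAlgSpace X) (hdec : IsDecent X) :
    Dense (schLocus X) := by
  rw [dense_iff_inter_open]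
  intro V hV hVne
  have hXV : IsAlgSpace (openSub X V) := isAlgSpace_openSub hX V hV
  have hιo : RepWith @IsOpenImmersion (openSubι X V) := repWith_isOpenImmersion_openSubι V hV
  have hιe : IsEtaleMor (openSubι X V) := fun T φ hφ =>
    (RepWith @Etale).comp_mem _ _ hφ (repWith_mono isOpenImmersion_le_etale _ hιo)
  have hdecV : IsDecent (openSub X V) :=
    Groth.Agent.S10352.result (X := ⟨openSub X V, hXV⟩) (Y := ⟨X, hX⟩) (ObjectProperty.homMk (openSubι X V))
      hιe hdec
  have hne : Nonempty (Points (openSub X V)) := by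
    obtain ⟨x, hx⟩ := hVne
    rw [← range_map_openSubι V] at hx
    obtain ⟨x', -⟩ := hx
    exact ⟨x'⟩
  obtain ⟨x', M, m, hm, hx'⟩ := schLocus_nonempty_of_isDecent hXV hdecV
  refine ⟨Points.map (openSubι X V) x', (range_map_openSubι V).subset ⟨x', rfl⟩, ?_⟩
  obtain ⟨t, rfl⟩ := hx'
  rw [Points.map_ofPt]
  exact range_subset_schLocus _ ((RepWith @IsOpenImmersion).comp_mem _ _ hm hιo) ⟨t, rfl⟩

end Groth.Agent.Lib.Helper16.SchLocus
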