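import Groth.Agent.Lib.Helper16.GenFinSp2
import Groth.Agent.Lib.Helper16.QcOpen
import Groth.Agent.Lib.Helper16.SchLocusDense
import Groth.Agent.Lib.Helper16.SchLocusCodim0b
import Groth.Agent.Lib.Helper16.DecentGeneric
import Groth.Agent.Lib.Helper16.QuotOpen
import Groth.Agent.Lib.Helper16.ZmtSp1
import Groth.Agent.Lib.Helper16.FpqcMono

/-!
# Helper library (helper16): generic finiteness over a dense open, basic tools

Codimension 0 points along etale morphisms; the hypothesis package of the dense-open-finite theorem and its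
restriction to open subspaces; the local goal and its transport; codimension 0 points of a decent space with finitely
many of them lie in the schematic locus; gluing finiteness over a union of open subspaces.
-/

set_option autoImplicit false
universe u
open CategoryTheory CategoryTheory.Limits AlgebraicGeometry Opposite Topology

namespace Groth.Agent.Lib.Helper16.DenseFin

open AlgSp Groth.Agent.Lib.Helper15 Groth.Agent.Lib.Helper16 Groth.Agent.Lib.Helper16.Strata
  Groth.Agent.Lib.Helper16.SchLocus Groth.Agent.Lib.Helper16.Codim0Qf Groth.Agent.Lib.Helper16.QfAt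
  Groth.Agent.Lib.Helper16.GenFinSp Groth.Agent.Lib.Helper16.QcOpen Groth.Agent.Lib.Helper16.ZmtSp
  Groth.Agent.Lib.Helper16.QuotOpen

variable {S : Scheme.{u}}

/-- Codimension 0 points of a sheaf. -/
abbrev C0 (F : Sp S) (x : Points F) : Prop :=
  HasAt (fun U u => ringKrullDim ↥(U.presheaf.stalk u) = 0) F x

theorem c0_map_of_etale {X' X : Sp S} (j : X' ⟶ X) (hj : RepWith @Etale j) {x' : Points X'}
    (h : C0 X' x') : C0 X (Points.map j x') := by
  obtain ⟨V, b, v, hb, hbv, hd⟩ := h
  exact ⟨V, b ≫ j, v, (RepWith @Etale).comp_mem _ _ hb hj, by rw [← hbv, Points.map_ofPt], hd⟩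

theorem c0_of_map_of_etale {X' X : Sp S} (hX' : IsAlgSpace X') (j : X' ⟶ X) (hj : RepWith @Etale j)
    {x' : Points X'} (h : C0 X (Points.map j x')) : C0 X' x' := by
  obtain ⟨V', b', hb'e, hb's⟩ := hX'.atlas
  obtain ⟨v', hv'⟩ := ofPt_surjective_of_surjective b' hb's x'
  exact ⟨V', b', v', hb'e, hv', codim_zero_of_hasAt h (b' ≫ j)
    ((RepWith @Etale).comp_mem _ _ hb'e hj) v' (by rw [← Points.map_ofPt, hv'])⟩

theorem c0_yon_iff (T : Over S) (t : ↥T.left) :
    C0 ((yon S).obj T) (Points.ofScheme T t) ↔ ringKrullDim ↥(T.left.presheaf.stalk t) = 0 :=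
  ⟨fun h => codim_zero_of_hasAt h (𝟙 _) (repWith_id _ T) t rfl,
   fun h => ⟨T, 𝟙 _, t, repWith_id _ T, rfl, h⟩⟩

/-- The hypotheses of the theorem. -/
structure Pkg {X Y : Sp S} (f : X ⟶ Y) : Prop where
  lft : LocP @LocallyOfFiniteType f
  finX : {x : Points X | C0 X x}.Finite
  finY : {y : Points Y | C0 Y y}.Finite
  pre : ∀ x : Points X, C0 X x ↔ C0 Y (Points.map f x)
  qs : IsQuasiCompactMor f ∨ IsSeparatedMor f

theorem isQuasiCompactMor_of_isPullback {X Y X' Y' : Sp S} {f : X ⟶ Y} {g : Y' ⟶ Y} {fst : X' ⟶ X}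
    {snd : X' ⟶ Y'} (sq : IsPullback fst snd f g) (hf : IsQuasiCompactMor f) : IsQuasiCompactMor snd := by
  intro Z Z' hZ hZq g' fst' snd' sq'
  exact hf hZ hZq (g' ≫ g) (fst' ≫ fst) snd' (sq'.paste_horiz sq)

theorem pkg_restrict {X Y Y₁ : Sp S} (hX : IsAlgSpace X) (hY : IsAlgSpace Y) (hY₁ : IsAlgSpace Y₁)
    {f : X ⟶ Y} (pk : Pkg f) (m : Y₁ ⟶ Y) (hm : RepWith @IsOpenImmersion m) :
    Pkg (pullback.snd f m) := by
  have sq₀ := IsPullback.of_hasPullback f m
  have hX₁ : IsAlgSpace (pullback f m) := isAlgSpace_of_isPullback hX hY.diag hY₁ sq₀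
  have hp : RepWith @IsOpenImmersion (pullback.fst f m) :=
    (RepWith (S := S) @IsOpenImmersion).of_isPullback sq₀.flip hm
  have hpe : RepWith @Etale (pullback.fst f m) := repWith_mono SchLocus.isOpenImmersion_le_etale _ hp
  have hme : RepWith @Etale m := repWith_mono SchLocus.isOpenImmersion_le_etale _ hm
  have hpm : Mono (pullback.fst f m) := mono_of_repWith_isOpenImmersion _ hp
  have hmm : Mono m := mono_of_repWith_isOpenImmersion _ hm
  refine ⟨locP_of_isPullback etLocalST_locallyOfFiniteType hX hY sq₀ pk.lft, ?_, ?_, ?_, ?_⟩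
  · exact (pk.finX.preimage (points_map_injective_of_mono (pullback.fst f m)).injOn).subset
      (fun x hx => c0_map_of_etale _ hpe hx)
  · exact (pk.finY.preimage (points_map_injective_of_mono m).injOn).subset
      (fun y hy => c0_map_of_etale _ hme hy)
  · intro x
    have hxy : Points.map f (Points.map (pullback.fst f m) x) =
        Points.map m (Points.map (pullback.snd f m) x) := by
      rw [← Points.map_comp, ← Points.map_comp, sq₀.w]
    constructor
    · intro hx
      have h1 := (pk.pre _).1 (c0_map_of_etale _ hpe hx)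
      rw [hxy] at h1
      exact c0_of_map_of_etale hY₁ m hme h1
    · intro hy
      have h1 := c0_map_of_etale _ hme hy
      rw [← hxy] at h1
      exact c0_of_map_of_etale hX₁ _ hpe ((pk.pre _).2 h1)
  · rcases pk.qs with hqc | hsep
    · exact Or.inl (isQuasiCompactMor_of_isPullback sq₀ hqc)
    · exact Or.inr (isSeparatedMor_of_isPullback sq₀ hsep)

/-- The local goal: an open subspace through `y` over which `f` is finite. -/
def LG {X Y : Sp S} (f : X ⟶ Y) (y : Points Y) : Prop :=
  ∃ (Y' X' : Sp S) (j : Y' ⟶ Y) (fst : X' ⟶ Y') (snd : X' ⟶ X), IsAlgSpace Y' ∧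
    RepWith @IsOpenImmersion j ∧ y ∈ Set.range (Points.map j) ∧ IsPullback fst snd j f ∧ IsFiniteMor fst

theorem lg_of_restrict {X Y Y₁ : Sp S} {f : X ⟶ Y} (m : Y₁ ⟶ Y) (hm : RepWith @IsOpenImmersion m)
    {y₁ : Points Y₁} (h : LG (pullback.snd f m) y₁) : LG f (Points.map m y₁) := by
  obtain ⟨Y', X', j, fst, snd, hY', hj, ⟨y', hy'⟩, sq, hfin⟩ := h
  exact ⟨Y', X', j ≫ m, fst, snd ≫ pullback.fst f m, hY', (RepWith @IsOpenImmersion).comp_mem _ _ hj hm,
    ⟨y', by rw [Points.map_comp, hy']⟩, sq.paste_vert (IsPullback.of_hasPullback f m).flip, hfin⟩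

/-- In a quasi-sober space with finitely many irreducible components, a dense open contains all generic points
of irreducible components. -/
theorem mem_of_dense_open_of_finite_generic {T : Type*} [TopologicalSpace T] [QuasiSober T] (G : Set T)
    (hG : G.Finite) (hGen : ∀ x, x ∈ G ↔ ∃ Z ∈ irreducibleComponents T, IsGenericPoint x Z)
    (W : Set T) (hWo : IsOpen W) (hWd : Dense W) : G ⊆ W := by
  intro g hg
  obtain ⟨Z, hZ, hgZ⟩ := (hGen g).1 hg
  obtain ⟨G', hG'def⟩ : ∃ G' : Set T, G' = {g' ∈ G | g ∉ closure {g'}} := ⟨_, rfl⟩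
  have hG' : G'.Finite := hG.subset (fun x hx => by rw [hG'def] at hx; exact hx.1)
  obtain ⟨C, hCdef⟩ : ∃ C : Set T, C = ⋃ g' ∈ G', closure {g'} := ⟨_, rfl⟩
  have hC : IsClosed C := by
    rw [hCdef]
    exact hG'.isClosed_biUnion (fun _ _ => isClosed_closure)
  have hgC : g ∉ C := by
    intro h
    rw [hCdef] at h
    obtain ⟨g', hg', hmem⟩ := Set.mem_iUnion₂.1 h
    rw [hG'def] at hg'
    exact hg'.2 hmem
  obtain ⟨w, hwC, hwW⟩ := hWd.inter_open_nonempty Cᶜ hC.isOpen_compl ⟨g, hgC⟩
  obtain ⟨g'', hg''⟩ := QuasiSober.sober (isIrreducible_irreducibleComponent (x := w))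
    isClosed_irreducibleComponent
  have hg''G : g'' ∈ G := (hGen g'').2 ⟨_, irreducibleComponent_mem_irreducibleComponents w, hg''⟩
  have hw'' : w ∈ closure {g''} := by
    rw [hg''.def]
    exact mem_irreducibleComponent
  by_cases hcase : g ∈ closure {g''}
  · have h1 : Z ⊆ closure {g''} := by
      rw [← hgZ.def]
      exact closure_minimal (Set.singleton_subset_iff.2 hcase) isClosed_closure
    have h2 : closure {g''} ⊆ Z := hZ.2 isIrreducible_singleton.closure h1
    have h3 : w ∈ closure {g} := by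
      rw [hgZ.def]
      exact h2 hw''
    exact (specializes_iff_mem_closure.2 h3).mem_open hWo hwW
  · exfalso
    apply hwC
    rw [hCdef]
    refine Set.mem_iUnion₂.2 ⟨g'', ?_, hw''⟩
    rw [hG'def]
    exact ⟨hg''G, hcase⟩

/-- Codimension 0 points of a decent space with finitely many of them lie in the schematic locus. -/
theorem mem_schLocus_of_c0_of_isDecent {Y : Sp S} (hY : IsAlgSpace Y) (hdec : IsDecent Y)
    (hfin : {y : Points Y | C0 Y y}.Finite) {y : Points Y} (hy : C0 Y y) : y ∈ schLocus Y := by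
  have : QuasiSober (Points Y) := quasiSober_points_of_isDecent hY hdec
  exact mem_of_dense_open_of_finite_generic {y | C0 Y y} hfin
    (fun x => (isGenericPoint_component_iff hY hdec x).symm) _ (isOpen_schLocus Y)
    (dense_schLocus_of_isDecent hY hdec) hy

/-- An affine open subscheme through a point of the schematic locus. -/
theorem exists_affine_open_chart {Y : Sp S} {y : Points Y} (hy : y ∈ schLocus Y) :
    ∃ (A : Over S) (m : (yon S).obj A ⟶ Y) (t : ↥A.left), IsAffine A.left ∧ RepWith @IsOpenImmersion m ∧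
      Points.ofPt m t = y := by
  obtain ⟨M, m₀, hm₀, t₀, ht₀⟩ := hy
  obtain ⟨O, hO, htO, -⟩ := exists_isAffineOpen_mem_and_subset (x := t₀) (U := ⊤) trivial
  refine ⟨overOpen M O, (yon S).map (overOpenι M O) ≫ m₀, ⟨t₀, htO⟩, hO, ?_, ?_⟩
  · refine (RepWith @IsOpenImmersion).comp_mem _ _ ((repWith_yon_map_iff _ _).2 ?_) hm₀
    change IsOpenImmersion O.ι
    infer_instance
  · exact (ofPt_restrict m₀ O ⟨t₀, htO⟩).trans ht₀

/-- A morphism from a quasi-compact algebraic space to an affine scheme is quasi-compact. -/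
theorem isQuasiCompactMor_to_affine {X : Sp S} (hX : IsAlgSpace X) {A : Over S} (hA : IsAffine A.left)
    (hXq : IsQuasiCompactSp X) (g : X ⟶ (yon S).obj A) : IsQuasiCompactMor g := by
  obtain ⟨U, p, hpe, hps, hU⟩ := hXq
  have : CompactSpace ↥U.left := hU
  have hYA := IsAlgSpace.yon_obj A
  apply isQuasiCompactMor_of_affine hX hYA.diag
  intro Z hZ z P fst snd sq
  obtain ⟨ζ, rfl⟩ := (yon S).map_surjective z
  have hP : IsAlgSpace P := isAlgSpace_of_isPullback hX hYA.diag (IsAlgSpace.yon_obj Z) sq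
  have hrep : Representable ((yon S).map ζ) := hYA.representable_from_yon _
  have sqR := hrep.isPullback (p ≫ g)
  obtain ⟨r₁, hr₁⟩ := (yon S).map_surjective (hrep.fst (p ≫ g))
  rw [← hr₁] at sqR
  have : IsAffine Z.left := hZ
  have : IsAffine A.left := hA
  have : CompactSpace ↥(hrep.pullback (p ≫ g)).left := by
    obtain ⟨γ, hγ⟩ := (yon S).map_surjective (p ≫ g)
    have sqR' : IsPullback ((yon S).map r₁) ((yon S).map (hrep.snd (p ≫ g))) ((yon S).map ζ)
        ((yon S).map γ) := by
      rw [hγ]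
      exact sqR
    have sqS := isPullback_left_of_yon sqR'
    have hq : QuasiCompact (hrep.snd (p ≫ g)).left :=
      MorphismProperty.of_isPullback (P := @QuasiCompact) sqS inferInstance
    exact QuasiCompact.compactSpace_of_compactSpace (hrep.snd (p ≫ g)).left
  have hw : ((yon S).map (hrep.snd (p ≫ g)) ≫ p) ≫ g = (yon S).map r₁ ≫ (yon S).map ζ := by
    rw [Category.assoc, sqR.w]
  have sqm : IsPullback (sq.lift ((yon S).map (hrep.snd (p ≫ g)) ≫ p) ((yon S).map r₁) hw)
      ((yon S).map (hrep.snd (p ≫ g))) fst p := by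
    refine IsPullback.of_right ?_ (sq.lift_fst _ _ _) sq.flip
    rw [sq.lift_snd]
    exact sqR
  have hsurj : Function.Surjective
      (Points.ofPt (sq.lift ((yon S).map (hrep.snd (p ≫ g)) ≫ p) ((yon S).map r₁) hw)) := by
    intro y'
    obtain ⟨u, hu⟩ := ofPt_surjective_of_surjective p hps (Points.map fst y')
    obtain ⟨v, hv, -⟩ := exists_point_of_isPullback_yon sqm y' u hu.symm
    exact ⟨v, hv⟩
  have : CompactSpace (Points P) := by
    constructor
    have h1 := isCompact_range (Points.continuous_ofPt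
      (sq.lift ((yon S).map (hrep.snd (p ≫ g)) ≫ p) ((yon S).map r₁) hw))
    rwa [hsurj.range_eq] at h1
  exact isQuasiCompactSp_of_compactSpace hP

/-- The image of an etale morphism from an algebraic space is open. -/
theorem isOpen_range_map_of_etale {X' X : Sp S} (hX' : IsAlgSpace X') (j : X' ⟶ X) (hj : RepWith @Etale j) :
    IsOpen (Set.range (Points.map j)) := by
  obtain ⟨V, b, hbe, hbs⟩ := hX'.atlas
  have h1 : Set.range (Points.map j) = Set.range (Points.ofPt (b ≫ j)) := by
    ext x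
    constructor
    · rintro ⟨x', rfl⟩
      obtain ⟨v, rfl⟩ := ofPt_surjective_of_surjective b hbs x'
      exact ⟨v, (Points.map_ofPt b j v).symm⟩
    · rintro ⟨v, rfl⟩
      exact ⟨Points.ofPt b v, Points.map_ofPt b j v⟩
  rw [h1]
  exact (isOpenMap_ofPt_of_etale _ ((RepWith @Etale).comp_mem _ _ hbe hj)).isOpen_range

/-- Every nonempty open of the points of an algebraic space contains a point of codimension 0. -/
theorem exists_c0_mem {Y : Sp S} (hY : IsAlgSpace Y) (O : Set (Points Y)) (hO : IsOpen O) (hne : O.Nonempty) :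
    ∃ y ∈ O, C0 Y y := by
  obtain ⟨U, a, hae, has⟩ := hY.atlas
  obtain ⟨x, hx⟩ := hne
  obtain ⟨u₁, hu₁⟩ := ofPt_surjective_of_surjective a has x
  obtain ⟨O', hO'⟩ : ∃ O' : U.left.Opens, (O' : Set ↥U.left) = Points.ofPt a ⁻¹' O :=
    ⟨⟨_, hO.preimage (Points.continuous_ofPt a)⟩, rfl⟩
  have hmem : ∀ u, u ∈ O' ↔ Points.ofPt a u ∈ O := fun u => by
    rw [← SetLike.mem_coe, hO']; rfl
  have hu₁O : u₁ ∈ O' := by rw [hmem, hu₁]; exact hx
  obtain ⟨u, hu, hd⟩ := exists_codim_zero_mem O' hu₁O
  exact ⟨Points.ofPt a u, (hmem u).1 hu, U, a, u, hae, rfl, hd⟩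

/-- Finiteness over a union of open subspaces. -/
theorem isFiniteMor_of_family {X Y : Sp S} (hX : IsAlgSpace X) (hY : IsAlgSpace Y) (f : X ⟶ Y) {ι : Type u}
    (Yi Xi : ι → Sp S) (hYi : ∀ i, IsAlgSpace (Yi i)) (j : ∀ i, Yi i ⟶ Y)
    (hj : ∀ i, RepWith @IsOpenImmersion (j i)) (fst : ∀ i, Xi i ⟶ Yi i) (snd : ∀ i, Xi i ⟶ X)
    (sq : ∀ i, IsPullback (fst i) (snd i) (j i) f) (hfin : ∀ i, IsFiniteMor (fst i))
    (W : Set (Points Y)) (hW : IsOpen W) (hWeq : W = ⋃ i, Set.range (Points.map (j i))) :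
    IsFiniteMor (pullback.fst (openSubι Y W) f) := by
  have hY' : IsAlgSpace (openSub Y W) := isAlgSpace_openSub hY W hW
  have sqX' := IsPullback.of_hasPullback (openSubι Y W) f
  have hX' : IsAlgSpace (pullback (openSubι Y W) f) := isAlgSpace_of_isPullback hY' hY.diag hX sqX'
  have hr : ∀ i, ∃ r : Yi i ⟶ openSub Y W, r ≫ openSubι Y W = j i := fun i =>
    exists_factor_openSub_of_range_subset W (j i) (by rw [hWeq]; exact Set.subset_iUnion (fun i => Set.range (Points.map (j i))) i)
  choose r hr using hr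
  have hro : ∀ i, RepWith @IsOpenImmersion (r i) := fun i =>
    repWith_of_comp_mono _ (r i) (openSubι Y W) (by rw [hr i]; exact hj i)
  have hre : ∀ i, RepWith @Etale (r i) := fun i => repWith_mono SchLocus.isOpenImmersion_le_etale _ (hro i)
  have hw : ∀ i, (fst i ≫ r i) ≫ openSubι Y W = snd i ≫ f := fun i => by
    rw [Category.assoc, hr i]; exact (sq i).w
  have sqQ : ∀ i, IsPullback (pullback.lift _ _ (hw i)) (fst i) (pullback.fst (openSubι Y W) f) (r i) := by
    intro i
    refine IsPullback.of_right ?_ (pullback.lift_fst _ _ _) sqX'.flip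
    rw [pullback.lift_snd, hr i]
    exact (sq i).flip
  refine affWith_of_fpqcRefines hY' Yi r ?_ hX' (pullback.fst (openSubι Y W) f) Xi fst
    (fun i => pullback.lift _ _ (hw i)) sqQ hfin
  refine fpqcRefines_of_isFppfCover hY' Yi hYi r ⟨fun i => ⟨?_, ?_⟩, fun x => ?_⟩
  · exact locP_of_repWith_etale etLocalST_flat (hYi i) hY' (r i) (hre i)
  · exact locP_of_repWith_etale etLocalST_locallyOfFinitePresentation (hYi i) hY' (r i) (hre i)
  · have hx : Points.map (openSubι Y W) x ∈ W := (range_map_openSubι W).subset ⟨x, rfl⟩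
    obtain ⟨i, yi, hyi⟩ := Set.mem_iUnion.1 (hWeq.subset hx)
    refine ⟨i, yi, ?_⟩
    apply points_map_injective_of_mono (openSubι Y W)
    rw [← Points.map_comp, hr i]
    exact hyi

end Groth.Agent.Lib.Helper16.DenseFin
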