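import Groth.Agent.Lib.Helper16.DenseFin1
import Groth.Agent.Lib.Helper17.AlgSpProper
import Groth.Agent.S10398
import Groth.Agent.S10399
import Groth.Agent.S10271

/-!
# Helper library (helper16): generic finiteness over a dense open, the separated case over an affine base
-/

set_option autoImplicit false
universe u
open CategoryTheory CategoryTheory.Limits AlgebraicGeometry Opposite Topology

namespace Groth.Agent.Lib.Helper16.DenseFin

open AlgSp Groth.Agent.Lib.Helper15 Groth.Agent.Lib.Helper16 Groth.Agent.Lib.Helper16.Strata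
  Groth.Agent.Lib.Helper16.SchLocus Groth.Agent.Lib.Helper16.Codim0Qf Groth.Agent.Lib.Helper16.QfAt
  Groth.Agent.Lib.Helper16.GenFinSp Groth.Agent.Lib.Helper16.QcOpen Groth.Agent.Lib.Helper16.ZmtSp
  Groth.Agent.Lib.Helper16.QuotOpen Groth.Agent.Lib.Helper17

variable {S : Scheme.{u}}

/-- **The separated case.** A separated morphism locally of finite type from an algebraic space with finitely many
points of codimension 0 to an affine scheme, all of whose points over the point `t` of codimension 0 have codimension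
0, is finite over an open neighbourhood of `t`. -/
theorem lg_of_separated {X : Sp S} (hX : IsAlgSpace X) {A : Over S} (hA : IsAffine A.left)
    (f : X ⟶ (yon S).obj A) (hf : LocP @LocallyOfFiniteType f) (hsep : IsSeparatedMor f) (t : ↥A.left)
    (ht : ringKrullDim ↥(A.left.presheaf.stalk t) = 0) (hX0 : {x : Points X | C0 X x}.Finite)
    (hfib : ∀ x : Points X, Points.map f x = Points.ofScheme A t → C0 X x) :
    LG f (Points.ofScheme A t) := by
  have hYA := IsAlgSpace.yon_obj A
  obtain ⟨A', hA'o, hA'sub, hA'q⟩ := exists_qc_open_of_finite hX _ hX0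
  have hX' : IsAlgSpace (openSub X A') := isAlgSpace_openSub hX A' hA'o
  have hj₀ : RepWith @IsOpenImmersion (openSubι X A') := repWith_isOpenImmersion_openSubι A' hA'o
  have hj₀e : RepWith @Etale (openSubι X A') := repWith_mono SchLocus.isOpenImmersion_le_etale _ hj₀
  have hf' : LocP @LocallyOfFiniteType (openSubι X A' ≫ f) := by
    intro U V a b h ha hb hc
    exact hf (a ≫ openSubι X A') b h ((RepWith @Etale).comp_mem _ _ ha hj₀e) hb
      (by rw [Category.assoc]; exact hc)
  have hqc' : IsQuasiCompactMor (openSubι X A' ≫ f) := isQuasiCompactMor_to_affine hX' hA hA'q _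
  have hsep' : IsSeparatedMor (openSubι X A' ≫ f) :=
    isSeparatedMor_comp _ _ (isSeparatedMor_of_mono _) hsep
  have hqs' : IsQuasiSeparatedMor (openSubι X A' ≫ f) :=
    repWith_mono (fun _ _ g hg => by
      have : IsClosedImmersion g := hg
      exact (inferInstance : QuasiCompact g)) _ hsep'
  have hy : C0 ((yon S).obj A) (Points.ofScheme A t) := (c0_yon_iff A t).2 ht
  have hfib' : ∀ x : Points (openSub X A'), Points.map (openSubι X A' ≫ f) x = Points.ofScheme A t →
      C0 (openSub X A') x := by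
    intro x hx
    rw [Points.map_comp] at hx
    exact c0_of_map_of_etale hX' _ hj₀e (hfib _ hx)
  have hqf := ((Groth.Agent.S10399.result (X := ⟨openSub X A', hX'⟩) (Y := ⟨(yon S).obj A, hYA⟩)
    (ObjectProperty.homMk (openSubι X A' ≫ f)) hf' _ hy).1).1 hfib'
  obtain ⟨Y', X'', j, fst, snd, hj, hyj, sq, hfin⟩ := Groth.Agent.S10398.result
    (X := ⟨openSub X A', hX'⟩) (Y := ⟨(yon S).obj A, hYA⟩) (ObjectProperty.homMk (openSubι X A' ≫ f))
    hqs' ⟨hf', hqc'⟩ _ hy hqf
  have hY' : IsAlgSpace Y'.obj := Y'.property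
  have hX'' : IsAlgSpace X''.obj := X''.property
  have sq' : IsPullback fst.hom snd.hom j.hom (openSubι X A' ≫ f) := sq
  have sqP := IsPullback.of_hasPullback j.hom f
  have hXP : IsAlgSpace (pullback j.hom f) := isAlgSpace_of_isPullback hY' hYA.diag hX sqP
  have hw : fst.hom ≫ j.hom = (snd.hom ≫ openSubι X A') ≫ f := by
    rw [Category.assoc]; exact sq'.w
  obtain ⟨g₀, hg₀⟩ : ∃ g₀ : X''.obj ⟶ pullback j.hom f, g₀ = pullback.lift fst.hom (snd.hom ≫ openSubι X A') hw :=
    ⟨_, rfl⟩
  have hg₀1 : g₀ ≫ pullback.fst j.hom f = fst.hom := by rw [hg₀]; exact pullback.lift_fst _ _ _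
  have hg₀2 : g₀ ≫ pullback.snd j.hom f = snd.hom ≫ openSubι X A' := by rw [hg₀]; exact pullback.lift_snd _ _ _
  have sqG : IsPullback g₀ snd.hom (pullback.snd j.hom f) (openSubι X A') := by
    refine IsPullback.of_right ?_ hg₀2 sqP
    rw [hg₀1]
    exact sq'
  have hg₀o : RepWith @IsOpenImmersion g₀ := (RepWith (S := S) @IsOpenImmersion).of_isPullback sqG.flip hj₀
  have hg₀e : RepWith @Etale g₀ := repWith_mono SchLocus.isOpenImmersion_le_etale _ hg₀o
  have hg₀m : Mono g₀ := mono_of_repWith_isOpenImmersion _ hg₀o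
  have hqsep : IsSeparatedMor (pullback.fst j.hom f) := isSeparatedMor_of_isPullback sqP.flip hsep
  have hucfst : IsUnivClosedMor fst.hom := ((Groth.Agent.S10271.result fst).1 hfin).2.2.2
  have huc : IsUnivClosedMor g₀ :=
    isUnivClosedMor_of_comp_of_separated hX'' hXP hY'.diag g₀ (pullback.fst j.hom f) hqsep
      (by rw [hg₀1]; exact hucfst)
  have hcl : IsClosedMor g₀ := isClosedMor_of_isUnivClosedMor hXP huc
  have hsndo : RepWith @IsOpenImmersion (pullback.snd j.hom f) :=
    (RepWith (S := S) @IsOpenImmersion).of_isPullback sqP hj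
  have hsnde : RepWith @Etale (pullback.snd j.hom f) := repWith_mono SchLocus.isOpenImmersion_le_etale _ hsndo
  have hsurj : Function.Surjective (Points.map g₀) := by
    have hC : IsClosed (Set.range (Points.map g₀)) := by
      rw [← Set.image_univ]
      exact hcl _ isClosed_univ
    by_contra hns
    have hne : (Set.range (Points.map g₀))ᶜ.Nonempty := by
      by_contra h
      rw [Set.not_nonempty_iff_eq_empty, Set.compl_empty_iff] at h
      exact hns (Set.range_eq_univ.1 h)
    obtain ⟨w₀, hw₀, hc0⟩ := exists_c0_mem hXP _ hC.isOpen_compl hne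
    have h1 : C0 X (Points.map (pullback.snd j.hom f) w₀) := c0_map_of_etale _ hsnde hc0
    have h2 : Points.map (pullback.snd j.hom f) w₀ ∈ A' := hA'sub h1
    rw [← range_map_openSubι A'] at h2
    obtain ⟨x', hx'⟩ := h2
    obtain ⟨z, hz, -⟩ := exists_point_of_isPullback sqG w₀ x' hx'.symm
    exact hw₀ ⟨z, hz⟩
  have hiso : IsIso g₀ := isIso_of_etale_mono_surjective hX'' g₀
    (fun T φ hφ => (RepWith @Etale).comp_mem _ _ hφ hg₀e) hsurj
  refine ⟨Y'.obj, X''.obj, j.hom, fst.hom, snd.hom ≫ openSubι X A', hY', hj, hyj, ?_, hfin⟩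
  exact IsPullback.of_iso_pullback ⟨hw⟩ (asIso g₀) hg₀1 hg₀2

end Groth.Agent.Lib.Helper16.DenseFin
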