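import Groth.Agent.Lib.Helper16.GenFinSch
import Groth.Agent.Lib.Helper3.AffinePoints

/-!
# Helper library (helper16): generic finiteness for schemes, main statement
-/

set_option autoImplicit false
universe u
open CategoryTheory CategoryTheory.Limits AlgebraicGeometry Opposite Topology

namespace Groth.Agent.Lib.Helper16.GenFinSch

open Groth.Agent.Lib.Helper16 Groth.Agent.Lib.Helper16.Strata Groth.Agent.Lib.Helper16.DimZeroSch
  Groth.Agent.Lib.Helper16.Codim0Qf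

variable {X Y : Scheme.{u}}

/-- Integral elements are preserved along commutative squares of ring homomorphisms. -/
theorem isIntegralElem_of_comm {A B A' B' : Type*} [CommRing A] [CommRing B] [CommRing A'] [CommRing B']
    (φ : A →+* B) (ψ : A' →+* B') (ρA : A →+* A') (ρB : B →+* B') (hc : ψ.comp ρA = ρB.comp φ) {x : B}
    (hx : φ.IsIntegralElem x) : ψ.IsIntegralElem (ρB x) := by
  obtain ⟨p, hp, hpx⟩ := hx
  refine ⟨p.map ρA, hp.map _, ?_⟩
  rw [Polynomial.eval₂_map, hc, ← Polynomial.hom_eval₂, hpx, map_zero]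

/-- Dividing by the image of a unit preserves integrality. -/
theorem isIntegralElem_of_mul_unit {A' B' : Type*} [CommRing A'] [CommRing B'] (ψ : A' →+* B') {y : B'} {w : A'}
    (hw : IsUnit w) (h : ψ.IsIntegralElem (ψ w * y)) : ψ.IsIntegralElem y := by
  obtain ⟨u, rfl⟩ := hw
  have := RingHom.IsIntegralElem.mul ψ (ψ.isIntegralElem_map (x := (↑u⁻¹ : A'))) h
  rwa [← mul_assoc, ← map_mul, Units.inv_mul, map_one, one_mul] at this

/-- **Lemma A**: shrinking the base so that the preimage lies in a given open containing the fibre. -/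
theorem exists_basicOpen_preimage_le [IsAffine Y] (f : X ⟶ Y) [QuasiCompact f] (η : ↥Y)
    (hη : ringKrullDim ↥(Y.presheaf.stalk η) = 0) (W : X.Opens) (hW : f ⁻¹' {η} ⊆ (W : Set ↥X)) :
    ∃ s : Γ(Y, ⊤), η ∈ Y.basicOpen s ∧ f ⁻¹ᵁ (Y.basicOpen s) ≤ W := by
  have hcl : η ∉ closure (f '' (W : Set ↥X)ᶜ) :=
    not_mem_closure_image_of_codim_zero f _ W.isOpen.isClosed_compl η hη (by
      rintro ⟨x, hxW, hx⟩
      exact hxW (hW hx))
  obtain ⟨_, ⟨_, ⟨s, rfl⟩, rfl⟩, h1, h2⟩ := (isBasis_basicOpen Y).exists_subset_of_mem_open hcl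
    isClosed_closure.isOpen_compl
  refine ⟨s, h1, ?_⟩
  intro x hx
  by_contra hxW
  exact h2 hx (subset_closure ⟨x, hxW, rfl⟩)

/-- **Lemma B**: integrality after inverting a function not vanishing at `η`. -/
theorem exists_isIntegralElem_of_affine [IsAffine Y] (f : X ⟶ Y) [LocallyOfFiniteType f] (η : ↥Y)
    (hη : ringKrullDim ↥(Y.presheaf.stalk η) = 0) (hfin : (f ⁻¹' {η}).Finite) (W : X.Opens) (hW : IsAffineOpen W) :
    ∃ s' : Γ(Y, ⊤), η ∈ Y.basicOpen s' ∧ ∀ b : Γ(X, W), ∃ n : ℕ,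
      (f.appLE ⊤ W le_top).hom.IsIntegralElem ((f.appLE ⊤ W le_top).hom (s' ^ n) * b) := by
  have hYtop : IsAffineOpen (⊤ : Y.Opens) := isAffineOpen_top Y
  obtain ⟨φ, hφ⟩ : ∃ φ : Γ(Y, ⊤) ⟶ Γ(X, W), φ = f.appLE ⊤ W le_top := ⟨_, rfl⟩
  rw [← hφ]
  have hφft : φ.hom.FiniteType := by rw [hφ]; exact f.finiteType_appLE hYtop hW _
  algebraize [φ.hom]
  obtain ⟨𝔭, h𝔭⟩ : ∃ 𝔭 : PrimeSpectrum Γ(Y, ⊤), 𝔭 = hYtop.primeIdealOf ⟨η, trivial⟩ := ⟨_, rfl⟩
  have hdim : Ring.KrullDimLE 0 (Localization.AtPrime 𝔭.asIdeal) := by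
    let _ := Y.presheaf.algebra_section_stalk (⟨η, trivial⟩ : ↥(⊤ : Y.Opens))
    have hloc : IsLocalization.AtPrime (Y.presheaf.stalk η) 𝔭.asIdeal := by
      rw [h𝔭]; exact hYtop.isLocalization_stalk ⟨η, trivial⟩
    have h1 := IsLocalization.AtPrime.ringKrullDim_eq_height 𝔭.asIdeal (Y.presheaf.stalk η)
    have h2 := IsLocalization.AtPrime.ringKrullDim_eq_height 𝔭.asIdeal (Localization.AtPrime 𝔭.asIdeal)
    refine Ring.krullDimLE_iff.2 ?_
    rw [h2, ← h1, hη]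
    rfl
  have hfromη : hYtop.fromSpec 𝔭 = η := by rw [h𝔭]; exact hYtop.fromSpec_primeIdealOf ⟨η, trivial⟩
  have hnat : Spec.map φ ≫ hYtop.fromSpec = hW.fromSpec ≫ f := by
    rw [hφ]; exact hYtop.SpecMap_appLE_fromSpec f hW le_top
  have hfin' : (PrimeSpectrum.comap (algebraMap Γ(Y, ⊤) Γ(X, W)) ⁻¹'
      {(⟨𝔭.asIdeal, 𝔭.isPrime⟩ : PrimeSpectrum Γ(Y, ⊤))}).Finite := by
    refine Set.Finite.of_injOn (f := fun q => hW.fromSpec q) ?_
      (hW.fromSpec.isOpenEmbedding.injective.injOn) hfin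
    intro q hq
    have hq' : PrimeSpectrum.comap (algebraMap Γ(Y, ⊤) Γ(X, W)) q = 𝔭 := hq
    change f (hW.fromSpec q) = η
    rw [← Scheme.Hom.comp_apply, ← hnat, Scheme.Hom.comp_apply, ← hfromη]
    exact congrArg _ hq'
  obtain ⟨s', hs'𝔭, hint⟩ := GenFinAlg.exists_forall_isIntegral_pow_smul 𝔭.asIdeal (h𝔭 := 𝔭.isPrime) hfin'
  refine ⟨s', ?_, ?_⟩
  · rw [Groth.Agent.Lib.Helper3.mem_basicOpen_iff_notMem_primeIdealOf hYtop η trivial s', ← h𝔭]
    exact hs'𝔭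
  · intro b
    obtain ⟨n, hn⟩ := hint b
    refine ⟨n, ?_⟩
    rw [Algebra.smul_def] at hn
    exact hn


/-- **Lemma C**: finiteness over a basic open from integrality after inverting `s'`, when the preimage of `D(s)` lies in
an affine open. -/
theorem isFinite_morphismRestrict_basicOpen [IsAffine Y] (f : X ⟶ Y) [LocallyOfFiniteType f] (W : X.Opens)
    (hW : IsAffineOpen W) (s s' : Γ(Y, ⊤)) (hsW : f ⁻¹ᵁ (Y.basicOpen s) ≤ W)
    (hint : ∀ b : Γ(X, W), ∃ n : ℕ,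
      (f.appLE ⊤ W le_top).hom.IsIntegralElem ((f.appLE ⊤ W le_top).hom (s' ^ n) * b)) :
    IsFinite (f ∣_ Y.basicOpen (s * s')) := by
  have hYtop : IsAffineOpen (⊤ : Y.Opens) := isAffineOpen_top Y
  obtain ⟨φ, hφ⟩ : ∃ φ : Γ(Y, ⊤) ⟶ Γ(X, W), φ = f.appLE ⊤ W le_top := ⟨_, rfl⟩
  rw [← hφ] at hint
  obtain ⟨r, hr⟩ : ∃ r : Γ(X, W), r = φ.hom (s * s') := ⟨_, rfl⟩
  have hVaff : IsAffineOpen (Y.basicOpen (s * s')) := hYtop.basicOpen _
  have hDaff : IsAffineOpen (X.basicOpen r) := hW.basicOpen _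
  have hDW : X.basicOpen r ≤ W := X.basicOpen_le _
  have hpre : f ⁻¹ᵁ (Y.basicOpen (s * s')) = X.basicOpen r := by
    have h1 : f ⁻¹ᵁ (Y.basicOpen (s * s')) ≤ W := by
      intro x hx
      apply hsW
      have : f x ∈ Y.basicOpen (s * s') := hx
      rw [Scheme.basicOpen_mul] at this
      exact this.1
    rw [hr, hφ]
    refine Eq.trans ?_ (Scheme.basicOpen_appLE f W ⊤ le_top (s * s')).symm
    exact (inf_eq_right.2 h1).symm
  obtain ⟨ψ, hψ⟩ : ∃ ψ : Γ(Y, Y.basicOpen (s * s')) ⟶ Γ(X, X.basicOpen r),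
      ψ = f.appLE (Y.basicOpen (s * s')) (X.basicOpen r) hpre.ge := ⟨_, rfl⟩
  obtain ⟨ρA, hρA⟩ : ∃ ρA : Γ(Y, ⊤) →+* Γ(Y, Y.basicOpen (s * s')),
      ρA = (Y.presheaf.map (homOfLE (le_top : Y.basicOpen (s * s') ≤ ⊤)).op).hom := ⟨_, rfl⟩
  obtain ⟨ρB, hρB⟩ : ∃ ρB : Γ(X, W) →+* Γ(X, X.basicOpen r),
      ρB = (X.presheaf.map (homOfLE hDW).op).hom := ⟨_, rfl⟩
  have hcomm : Y.presheaf.map (homOfLE (le_top : Y.basicOpen (s * s') ≤ ⊤)).op ≫ ψ =
      φ ≫ X.presheaf.map (homOfLE hDW).op := by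
    rw [hψ, hφ, Scheme.Hom.map_appLE, Scheme.Hom.appLE_map]
  have hc : ψ.hom.comp ρA = ρB.comp φ.hom := by
    rw [hρA, hρB, ← CommRingCat.hom_comp, ← CommRingCat.hom_comp, hcomm]
  have hcomm' : ∀ a, ψ.hom (ρA a) = ρB (φ.hom a) := fun a => RingHom.congr_fun hc a
  have hu'' : IsUnit (ρA (s * s')) := by
    rw [hρA]
    exact RingedSpace.isUnit_res_basicOpen Y.toRingedSpace (s * s')
  have hu' : IsUnit (ρA s') := by
    rw [map_mul] at hu''
    exact isUnit_of_mul_isUnit_right hu''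
  have hloc : IsLocalization.Away r Γ(X, X.basicOpen r) := hW.isLocalization_basicOpen _
  have halg : algebraMap Γ(X, W) Γ(X, X.basicOpen r) = ρB := by rw [hρB]; rfl
  have hint' : ψ.hom.IsIntegral := by
    intro t
    obtain ⟨⟨b, ⟨_, k, rfl⟩⟩, hb⟩ := IsLocalization.surj (Submonoid.powers r) t
    rw [halg] at hb
    obtain ⟨n, hn⟩ := hint b
    have h1 : ψ.hom.IsIntegralElem (ρB (φ.hom (s' ^ n) * b)) := isIntegralElem_of_comm φ.hom ψ.hom ρA ρB hc hn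
    rw [map_mul, ← hcomm'] at h1
    have h2 : ψ.hom.IsIntegralElem (ρB b) :=
      isIntegralElem_of_mul_unit ψ.hom (by rw [map_pow]; exact hu'.pow n) h1
    have h3 : ψ.hom (ρA ((s * s') ^ k)) * t = ρB b := by
      rw [hcomm', map_pow, ← hr, mul_comm]
      exact hb
    exact isIntegralElem_of_mul_unit ψ.hom (by rw [map_pow]; exact hu''.pow k) (h3 ▸ h2)
  have hft' : ψ.hom.FiniteType := by rw [hψ]; exact f.finiteType_appLE hVaff hDaff _
  have key : RingHom.Finite ψ.hom := RingHom.IsIntegral.to_finite hint' hft'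
  haveI : IsAffine (Y.basicOpen (s * s')).toScheme := hVaff
  rw [HasAffineProperty.iff_of_isAffine (P := @IsFinite)]
  refine ⟨hpre ▸ hDaff, ?_⟩
  change RingHom.Finite ((f ∣_ Y.basicOpen (s * s')).app ⊤).hom
  rw [morphismRestrict_app']
  refine (Scheme.Hom.appLE_congr f _ (Scheme.Opens.ι_image_top _) ?_ (fun g => RingHom.Finite g.hom)).2 (hψ ▸ key)
  rw [show (f ∣_ Y.basicOpen (s * s')) ⁻¹ᵁ ⊤ = ⊤ from rfl, Scheme.Opens.ι_image_top, hpre]

/-- **Generic finiteness, affine base.** -/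
theorem exists_isFinite_morphismRestrict_of_isAffine [IsAffine Y] (f : X ⟶ Y) [LocallyOfFiniteType f]
    [QuasiCompact f] [QuasiSeparated f] (η : ↥Y) (hη : ringKrullDim ↥(Y.presheaf.stalk η) = 0)
    (hqf : ∀ x, f x = η → f.QuasiFiniteAt x) :
    ∃ V : Y.Opens, IsAffineOpen V ∧ η ∈ V ∧ IsFinite (f ∣_ V) := by
  have hXqs : QuasiSeparatedSpace ↥X := quasiSeparatedSpace_of_quasiSeparated f
  have hFfin := finite_fibre_of_quasiFiniteAt f η hqf
  have hFdim : ∀ x ∈ f ⁻¹' {η}, ringKrullDim ↥(X.presheaf.stalk x) = 0 := by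
    intro x hx
    have hx' : f x = η := hx
    exact ringKrullDim_stalk_eq_zero_of_quasiFiniteAt f x (hqf x hx') (by rw [hx']; exact hη)
  obtain ⟨W, hW, hFW, -⟩ := exists_isAffineOpen_of_finite_codim_zero _ hFfin hFdim ⊤ (Set.subset_univ _)
  obtain ⟨s, hηs, hsW⟩ := exists_basicOpen_preimage_le f η hη W hFW
  obtain ⟨s', hηs', hint⟩ := exists_isIntegralElem_of_affine f η hη hFfin W hW
  refine ⟨Y.basicOpen (s * s'), (isAffineOpen_top Y).basicOpen _, ?_,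
    isFinite_morphismRestrict_basicOpen f W hW s s' hsW hint⟩
  rw [Scheme.basicOpen_mul]
  exact ⟨hηs, hηs'⟩

end Groth.Agent.Lib.Helper16.GenFinSch
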