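import Groth.Agent.Lib.Helper16.DenseFin3
import Groth.Agent.Lib.Helper16.StrataSp
import Groth.Agent.Lib.Helper16.GenFinSch2
import Groth.Agent.Lib.Helper16.EtDim

/-!
# Helper library (helper16): generic finiteness over a dense open, the quasi-compact case and the local theorem
-/

set_option autoImplicit false
universe u
open CategoryTheory CategoryTheory.Limits AlgebraicGeometry Opposite Topology

namespace Groth.Agent.Lib.Helper16.DenseFin

open AlgSp Groth.Agent.Lib.Helper15 Groth.Agent.Lib.Helper16 Groth.Agent.Lib.Helper16.Strata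
  Groth.Agent.Lib.Helper16.SchLocus Groth.Agent.Lib.Helper16.Codim0Qf Groth.Agent.Lib.Helper16.QfAt
  Groth.Agent.Lib.Helper16.GenFinSp Groth.Agent.Lib.Helper16.QcOpen Groth.Agent.Lib.Helper16.ZmtSp
  Groth.Agent.Lib.Helper16.QuotOpen Groth.Agent.Lib.Helper17

variable {S : Scheme.{u}}

/-- **The quasi-compact case, given a finite affine chart.** -/
theorem lg_of_qc_chart {X : Sp S} (hX : IsAlgSpace X) {A : Over S} (hA : IsAffine A.left)
    (f : X ⟶ (yon S).obj A) (pk : Pkg f) (hqc : IsQuasiCompactMor f) (t : ↥A.left)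
    (ht : ringKrullDim ↥(A.left.presheaf.stalk t) = 0)
    {U : Over S} (hU : IsAffine U.left) (a : (yon S).obj U ⟶ X) (hae : RepWith @Etale a)
    (has : RepWith @Surjective a) (h : U ⟶ A) (hh : a ≫ f = (yon S).map h) (hfin : IsFinite h.left) :
    LG f (Points.ofScheme A t) := by
  have hYA := IsAlgSpace.yon_obj A
  -- the kernel pair of the chart
  have sqR := hae.rep.isPullback a
  obtain ⟨c, hc⟩ := (yon S).map_surjective (hae.rep.fst a)
  rw [← hc] at sqR
  obtain ⟨sn, hsn⟩ : ∃ sn : hae.rep.pullback a ⟶ U, sn = hae.rep.snd a := ⟨_, rfl⟩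
  rw [← hsn] at sqR
  have hsne : Etale sn.left := hae.property _ _ _ sqR
  have hsns : IsSeparated sn.left := isSeparated_sn sqR
  -- the chart of the fibre square
  have hUY : Representable (a ≫ f) := hYA.representable_from_yon _
  obtain ⟨B, rU, rW, r, hr1, hr2, sqB, hQ⟩ := exists_chart_of_isPullback (IsPullback.of_hasPullback f f) a a hUY
  have hre : RepWith @Etale r := hQ @Etale hae hae
  have hrs : RepWith @Surjective r := hQ @Surjective has has
  have hwρ : (yon S).map c ≫ a ≫ f = (yon S).map sn ≫ a ≫ f := by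
    rw [← Category.assoc, sqR.w, Category.assoc]
  obtain ⟨ρ, hρ⟩ := (yon S).map_surjective (sqB.lift ((yon S).map c) ((yon S).map sn) hwρ)
  have hρ1 : (yon S).map ρ ≫ (yon S).map rU = (yon S).map c := by rw [hρ]; exact sqB.lift_fst _ _ _
  have hρ2 : (yon S).map ρ ≫ (yon S).map rW = (yon S).map sn := by rw [hρ]; exact sqB.lift_snd _ _ _
  have sqΔ : IsPullback ((yon S).map c ≫ a) ((yon S).map ρ) (pullback.diagonal f) r := by
    refine isPullback_of_exists_lift ?_ ?_ ?_
    · apply pullback.hom_ext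
      · simp only [Category.assoc, pullback.diagonal_fst, Category.comp_id, hr1]
        rw [← Category.assoc, hρ1]
      · simp only [Category.assoc, pullback.diagonal_snd, Category.comp_id, hr2]
        rw [← Category.assoc, hρ2]
        exact sqR.w
    · intro Q x y hxy
      have h1 : x = y ≫ (yon S).map rU ≫ a := by
        have := congrArg (fun m => m ≫ pullback.fst f f) hxy
        simp only [Category.assoc, pullback.diagonal_fst, Category.comp_id, hr1] at this
        exact this
      have h2 : x = y ≫ (yon S).map rW ≫ a := by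
        have := congrArg (fun m => m ≫ pullback.snd f f) hxy
        simp only [Category.assoc, pullback.diagonal_snd, Category.comp_id, hr2] at this
        exact this
      refine ⟨sqR.lift (y ≫ (yon S).map rU) (y ≫ (yon S).map rW)
        (by simp only [Category.assoc]; rw [← h1]; exact h2), ?_, ?_⟩
      · rw [← Category.assoc, sqR.lift_fst, Category.assoc]
        exact h1.symm
      · apply sqB.hom_ext
        · rw [Category.assoc, hρ1, sqR.lift_fst]
        · rw [Category.assoc, hρ2, sqR.lift_snd]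
    · intro Q l l' _ h2
      apply sqR.hom_ext
      · rw [← hρ1, ← Category.assoc, ← Category.assoc, h2]
      · rw [← hρ2, ← Category.assoc, ← Category.assoc, h2]
  have hmρ : Mono ρ.left := by
    have h1 : Mono ((yon S).map ρ) := sqΔ.mono_snd_of_mono
    have h2 : Mono ρ := (yon S).mono_of_mono_map h1
    infer_instance
  -- the map to the base
  obtain ⟨β, hβdef⟩ : ∃ β : B ⟶ A, β = rU ≫ h := ⟨_, rfl⟩
  have hβ : (yon S).map β = r ≫ pullback.fst f f ≫ f := by
    rw [hβdef, Functor.map_comp, ← hh, ← Category.assoc, ← hr1, Category.assoc]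
  have sqB' : IsPullback ((yon S).map rU) ((yon S).map rW) ((yon S).map h) ((yon S).map h) := by
    rw [← hh]; exact sqB
  have sqBS := isPullback_left_of_yon sqB'
  have hrUfin : IsFinite rU.left := MorphismProperty.of_isPullback (P := @IsFinite) sqBS.flip hfin
  have hβfin : IsFinite β.left := by
    rw [hβdef]
    show IsFinite (rU.left ≫ h.left)
    infer_instance
  obtain ⟨g, hgdef⟩ : ∃ g : hae.rep.pullback a ⟶ A, g = ρ ≫ β := ⟨_, rfl⟩
  have hρrW : ρ ≫ rW = sn := (yon S).map_injective (by rw [Functor.map_comp]; exact hρ2)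
  have hrUW : rU ≫ h = rW ≫ h :=
    (yon S).map_injective (by rw [Functor.map_comp, Functor.map_comp]; exact sqB'.w)
  have hg1 : g = sn ≫ h := by rw [hgdef, hβdef, hrUW, ← Category.assoc, hρrW]
  -- codimension 0 on the chart
  have hUc0 : ∀ u : ↥U.left, ringKrullDim ↥(U.left.presheaf.stalk u) = 0 ↔
      ringKrullDim ↥(A.left.presheaf.stalk (h.left u)) = 0 := by
    intro u
    have e1 : Points.map f (Points.ofPt a u) = Points.ofScheme A (h.left u) := by
      rw [Points.map_ofPt, hh, ← Category.comp_id ((yon S).map h), ofPt_yon_map_comp]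
    constructor
    · intro hd
      have h1 : C0 X (Points.ofPt a u) := ⟨U, a, u, hae, rfl, hd⟩
      have h2 := (pk.pre _).1 h1
      rw [e1] at h2
      exact (c0_yon_iff A _).1 h2
    · intro hd
      have h2 : C0 ((yon S).obj A) (Points.map f (Points.ofPt a u)) := by
        rw [e1]; exact (c0_yon_iff A _).2 hd
      exact codim_zero_of_hasAt ((pk.pre _).2 h2) a hae u rfl
  -- finitely many points of codimension 0 on the kernel pair
  have hA0 : {a' : ↥A.left | ringKrullDim ↥(A.left.presheaf.stalk a') = 0}.Finite :=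
    (pk.finY.preimage (ofScheme_injective A).injOn).subset (fun a' ha' => (c0_yon_iff A a').2 ha')
  have hR0 : {x : ↥(hae.rep.pullback a).left |
      ringKrullDim ↥((hae.rep.pullback a).left.presheaf.stalk x) = 0}.Finite := by
    refine (hA0.preimage' (f := fun x => g.left x) ?_).subset ?_
    · intro a' _
      have h1 : ((fun x => β.left x) ⁻¹' {a'}).Finite := β.left.finite_preimage_singleton a'
      have h2 : (fun x => g.left x) ⁻¹' {a'} = (fun x => ρ.left x) ⁻¹' ((fun x => β.left x) ⁻¹' {a'}) := by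
        rw [hgdef]; rfl
      rw [h2]
      exact h1.preimage (ρ.left.injective.injOn)
    · intro x hx
      show ringKrullDim ↥(A.left.presheaf.stalk (g.left x)) = 0
      have h1 : ringKrullDim ↥(U.left.presheaf.stalk (sn.left x)) = 0 :=
        (EtDim.ringKrullDim_stalk_eq_of_etale sn.left x).symm.trans hx
      have h2 := (hUc0 _).1 h1
      rw [hg1]
      exact h2
  have hgsep : IsSeparatedMor ((yon S).map g) := by
    rw [isSeparatedMor_yon_map_iff, hgdef]
    show IsSeparated (ρ.left ≫ β.left)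
    infer_instance
  have hglft : LocP @LocallyOfFiniteType ((yon S).map g) :=
    locP_of_chart etLocalST_locallyOfFiniteType _ (𝟙 _) (𝟙 _) g (repWith_id _ _) (repWith_id _ _)
      (repWith_id _ _) (by rw [Category.id_comp, Category.comp_id]) (by
        rw [hg1]
        show LocallyOfFiniteType (sn.left ≫ h.left)
        infer_instance)
  have hRX0 : {x : Points ((yon S).obj (hae.rep.pullback a)) | C0 _ x}.Finite := by
    refine (hR0.preimage ((Points.schemeEquiv (hae.rep.pullback a)).symm.injective.injOn)).subset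
      (fun x hx => ?_)
    show ringKrullDim _ = 0
    refine (c0_yon_iff _ _).1 ?_
    have e : Points.ofScheme _ ((Points.schemeEquiv (hae.rep.pullback a)).symm x) = x :=
      Points.ofScheme_toScheme _ x
    rw [e]
    exact hx
  have hRfib : ∀ x : Points ((yon S).obj (hae.rep.pullback a)),
      Points.map ((yon S).map g) x = Points.ofScheme A t → C0 _ x := by
    intro x hx
    obtain ⟨x₀, rfl⟩ : ∃ x₀, Points.ofScheme (hae.rep.pullback a) x₀ = x := ⟨_, Points.ofScheme_toScheme _ x⟩
    rw [map_yon_map_ofScheme] at hx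
    have hgx : g.left x₀ = t := ofScheme_injective A hx
    rw [c0_yon_iff]
    have h1 : ringKrullDim ↥(A.left.presheaf.stalk (h.left (sn.left x₀))) = 0 := by
      have e : h.left (sn.left x₀) = g.left x₀ := by rw [hg1]; rfl
      rw [e, hgx]
      exact ht
    exact (EtDim.ringKrullDim_stalk_eq_of_etale sn.left x₀).trans ((hUc0 _).2 h1)
  have hLG := lg_of_separated (IsAlgSpace.yon_obj _) hA ((yon S).map g) hglft hgsep t ht hRX0 hRfib
  obtain ⟨O, hO, htO, hcomp⟩ := exists_affineOpen_compact_of_lg g t hLG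
  -- quasi-compactness of the restricted kernel pair
  have hqcρ : QuasiCompact (ρ.left ∣_ (β.left ⁻¹ᵁ O)) := by
    have haff : IsAffineOpen (β.left ⁻¹ᵁ O) := hO.preimage β.left
    have : IsAffine (β.left ⁻¹ᵁ O).toScheme := haff
    rw [quasiCompact_iff_compactSpace]
    have e : ρ.left ⁻¹ᵁ (β.left ⁻¹ᵁ O) = g.left ⁻¹ᵁ O := by rw [hgdef]; rfl
    rw [e]
    exact hcomp
  have hqsO := isQuasiSeparatedMor_restrict_of_chart hX f r hre hrs ((yon S).map c ≫ a) ρ sqΔ β hβ O hqcρ
  -- the restricted situation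
  obtain ⟨ιO, hιOdef⟩ : ∃ ιO : (yon S).obj (overOpen A O) ⟶ (yon S).obj A, ιO = (yon S).map (overOpenι A O) :=
    ⟨_, rfl⟩
  rw [← hιOdef] at hqsO
  have hιO : RepWith @IsOpenImmersion ιO := by
    rw [hιOdef]
    refine (repWith_yon_map_iff _ _).2 ?_
    change IsOpenImmersion O.ι
    infer_instance
  have hYO := IsAlgSpace.yon_obj (S := S) (overOpen A O)
  have pkO := pkg_restrict hX hYA hYO pk ιO hιO
  have sq₀ := IsPullback.of_hasPullback f ιO
  have hXO : IsAlgSpace (pullback f ιO) := isAlgSpace_of_isPullback hX hYA.diag hYO sq₀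
  have hqcO : IsQuasiCompactMor (pullback.snd f ιO) := isQuasiCompactMor_of_isPullback sq₀ hqc
  have htO' : ringKrullDim ↥((overOpen A O).left.presheaf.stalk (⟨t, htO⟩ : ↥O)) = 0 :=
    (ringKrullDim_stalk_overOpen O t htO).trans ht
  have hyO : C0 ((yon S).obj (overOpen A O)) (Points.ofScheme _ (⟨t, htO⟩ : ↥O)) := (c0_yon_iff _ _).2 htO'
  have hfibO : ∀ x : Points (pullback f ιO), Points.map (pullback.snd f ιO) x =
      Points.ofScheme (overOpen A O) (⟨t, htO⟩ : ↥O) → C0 _ x :=
    fun x hx => (pkO.pre x).2 (hx ▸ hyO)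
  have hqf := ((Groth.Agent.S10399.result (X := ⟨pullback f ιO, hXO⟩) (Y := ⟨(yon S).obj (overOpen A O), hYO⟩)
    (ObjectProperty.homMk (pullback.snd f ιO)) pkO.lft _ hyO).1).1 hfibO
  obtain ⟨Y', X'', j, fst, snd, hj, hyj, sq, hfinj⟩ := Groth.Agent.S10398.result
    (X := ⟨pullback f ιO, hXO⟩) (Y := ⟨(yon S).obj (overOpen A O), hYO⟩)
    (ObjectProperty.homMk (pullback.snd f ιO)) hqsO ⟨pkO.lft, hqcO⟩ _ hyO hqf
  have hLGO : LG (pullback.snd f ιO) (Points.ofScheme (overOpen A O) (⟨t, htO⟩ : ↥O)) :=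
    ⟨Y'.obj, X''.obj, j.hom, fst.hom, snd.hom, Y'.property, hj, hyj, sq, hfinj⟩
  have hfinal := lg_of_restrict ιO hιO hLGO
  have e : Points.map ιO (Points.ofScheme (overOpen A O) (⟨t, htO⟩ : ↥O)) = Points.ofScheme A t := by
    rw [hιOdef]
    exact map_yon_map_ofScheme _ _
  rw [e] at hfinal
  exact hfinal

/-- **The affine base case.** -/
theorem lg_affine {X : Sp S} (hX : IsAlgSpace X) {A : Over S} (hA : IsAffine A.left)
    (f : X ⟶ (yon S).obj A) (pk : Pkg f) (t : ↥A.left)
    (ht : ringKrullDim ↥(A.left.presheaf.stalk t) = 0) : LG f (Points.ofScheme A t) := by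
  have hYA := IsAlgSpace.yon_obj A
  have hy : C0 ((yon S).obj A) (Points.ofScheme A t) := (c0_yon_iff A t).2 ht
  have hfib : ∀ x : Points X, Points.map f x = Points.ofScheme A t → C0 X x :=
    fun x hx => (pk.pre x).2 (hx ▸ hy)
  rcases pk.qs with hqc | hsep
  · have hAc : CompactSpace ↥A.left := by
      have : IsAffine A.left := hA
      infer_instance
    have hXq : IsQuasiCompactSp X := hqc hYA (isQuasiCompactSp_yon_of_compactSpace A) (𝟙 _) (𝟙 X) f
      (IsPullback.of_horiz_isIso ⟨by rw [Category.id_comp, Category.comp_id]⟩)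
    obtain ⟨U, a, hU, hae, has⟩ := exists_affine_chart_of_isQuasiCompactSp hXq
    obtain ⟨h, hh⟩ := (yon S).map_surjective (a ≫ f)
    have : IsAffine A.left := hA
    have : IsAffine U.left := hU
    have hlft : LocallyOfFiniteType h.left :=
      pk.lft a (𝟙 _) h hae (repWith_id _ A) (by rw [Category.comp_id, hh])
    have hqfU : ∀ u : ↥U.left, h.left u = t → h.left.QuasiFiniteAt u := by
      intro u hu
      apply quasiFiniteAt_of_forall_codim_zero
      intro u' hu'
      have e1 : Points.map f (Points.ofPt a u') = Points.ofScheme A t := by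
        rw [Points.map_ofPt, ← hh, ← Category.comp_id ((yon S).map h), ofPt_yon_map_comp, hu', hu]
      exact codim_zero_of_hasAt (hfib _ e1) a hae u' rfl
    obtain ⟨V₁, hV₁, htV₁, hfinV₁⟩ := GenFinSch.exists_isFinite_morphismRestrict_of_isAffine h.left t ht hqfU
    obtain ⟨m, hmdef⟩ : ∃ m : (yon S).obj (overOpen A V₁) ⟶ (yon S).obj A, m = (yon S).map (overOpenι A V₁) :=
      ⟨_, rfl⟩
    have hm : RepWith @IsOpenImmersion m := by
      rw [hmdef]
      refine (repWith_yon_map_iff _ _).2 ?_
      change IsOpenImmersion V₁.ι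
      infer_instance
    have hY₁ := IsAlgSpace.yon_obj (S := S) (overOpen A V₁)
    have pk₁ := pkg_restrict hX hYA hY₁ pk m hm
    have sq₀ := IsPullback.of_hasPullback f m
    have hX₁ : IsAlgSpace (pullback f m) := isAlgSpace_of_isPullback hX hYA.diag hY₁ sq₀
    have hqc₁ : IsQuasiCompactMor (pullback.snd f m) := isQuasiCompactMor_of_isPullback sq₀ hqc
    obtain ⟨a₁, ha₁, sqa₁⟩ : ∃ a₁ : (yon S).obj (overOpen U (h.left ⁻¹ᵁ V₁)) ⟶ pullback f m,
        a₁ ≫ pullback.snd f m = (yon S).map (overRestrict h V₁) ∧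
        IsPullback a₁ ((yon S).map (overOpenι U (h.left ⁻¹ᵁ V₁))) (pullback.fst f m) a := by
      rw [hmdef]
      exact exists_chart_restrict f a h hh.symm V₁
    have ha₁e : RepWith @Etale a₁ := (RepWith (S := S) @Etale).of_isPullback sqa₁.flip hae
    have ha₁s : RepWith @Surjective a₁ := (RepWith (S := S) @Surjective).of_isPullback sqa₁.flip has
    have hU₁ : IsAffine (overOpen U (h.left ⁻¹ᵁ V₁)).left := (hV₁.preimage h.left : IsAffineOpen _)
    have hA₁ : IsAffine (overOpen A V₁).left := hV₁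
    have hfin₁ : IsFinite (overRestrict h V₁).left := hfinV₁
    have ht₁ : ringKrullDim ↥((overOpen A V₁).left.presheaf.stalk (⟨t, htV₁⟩ : ↥V₁)) = 0 :=
      (ringKrullDim_stalk_overOpen V₁ t htV₁).trans ht
    have hLG₁ := lg_of_qc_chart hX₁ hA₁ (pullback.snd f m) pk₁ hqc₁ (⟨t, htV₁⟩ : ↥V₁) ht₁ hU₁ a₁ ha₁e ha₁s
      (overRestrict h V₁) ha₁ hfin₁
    have hfinal := lg_of_restrict m hm hLG₁
    have e : Points.map m (Points.ofScheme (overOpen A V₁) (⟨t, htV₁⟩ : ↥V₁)) = Points.ofScheme A t := by
      rw [hmdef]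
      exact map_yon_map_ofScheme _ _
    rw [e] at hfinal
    exact hfinal
  · exact lg_of_separated hX hA f pk.lft hsep t ht pk.finX hfib

/-- **The local theorem.** -/
theorem lg_of_pkg {X Y : Sp S} (hX : IsAlgSpace X) (hY : IsAlgSpace Y) {f : X ⟶ Y} (pk : Pkg f)
    (hdec : IsDecent Y) (y : Points Y) (hy : C0 Y y) : LG f y := by
  have hsch := mem_schLocus_of_c0_of_isDecent hY hdec pk.finY hy
  obtain ⟨A, m, t, hA, hm, hmt⟩ := exists_affine_open_chart hsch
  have hYA := IsAlgSpace.yon_obj A
  have pkA := pkg_restrict hX hY hYA pk m hm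
  have hXA : IsAlgSpace (pullback f m) :=
    isAlgSpace_of_isPullback hX hY.diag hYA (IsPullback.of_hasPullback f m)
  have hme : RepWith @Etale m := repWith_mono SchLocus.isOpenImmersion_le_etale _ hm
  have ht : ringKrullDim ↥(A.left.presheaf.stalk t) = 0 := codim_zero_of_hasAt hy m hme t hmt
  have hfinal := lg_of_restrict m hm (lg_affine hXA hA (pullback.snd f m) pkA t ht)
  rw [← Points.ofPt_eq_map_ofScheme, hmt] at hfinal
  exact hfinal

end Groth.Agent.Lib.Helper16.DenseFin
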