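import Mathlib.AlgebraicGeometry.Sites.Fpqc
import Mathlib.AlgebraicGeometry.Morphisms.UniversallyOpen
import Mathlib.AlgebraicGeometry.PullbackCarrier

/-!
# Helper library (helper16): topological properties of morphisms of schemes and open coverings (fppf locality)
-/

set_option autoImplicit false
universe u
open CategoryTheory CategoryTheory.Limits AlgebraicGeometry Opposite Topology MorphismProperty

namespace Groth.Agent.Lib.Helper16

/-- The data of an fppf covering. -/
theorem fppf_cover_data {X : Scheme.{u}} {ι : Type*} {U : ι → Scheme.{u}} (g : ∀ i, U i ⟶ X)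
    (h : Presieve.ofArrows U g ∈ Scheme.fppfPrecoverage X) :
    (∀ x : X, ∃ i, x ∈ Set.range (g i)) ∧ ∀ i, Flat (g i) ∧ LocallyOfFinitePresentation (g i) := by
  have h' := (Scheme.ofArrows_mem_precoverage_iff (P := @Flat ⊓ @LocallyOfFinitePresentation)).1 h
  exact ⟨h'.1, fun i => ⟨(h'.2 i).1, (h'.2 i).2⟩⟩

/-- A map is open as soon as its composites with a jointly surjective family of continuous maps are open. -/
theorem isOpenMap_of_jointly_surjective {X Y : Scheme.{u}} (f : X ⟶ Y) {ι : Type*} {U : ι → Scheme.{u}}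
    (g : ∀ i, U i ⟶ X) (hsurj : ∀ x : X, ∃ i, x ∈ Set.range (g i)) (h : ∀ i, IsOpenMap (g i ≫ f)) :
    IsOpenMap f := by
  intro V hV
  have : f '' V = ⋃ i, (g i ≫ f) '' ((g i) ⁻¹' V) := by
    ext y
    simp only [Set.mem_image, Set.mem_iUnion, Set.mem_preimage]
    constructor
    · rintro ⟨x, hx, rfl⟩
      obtain ⟨i, u, rfl⟩ := hsurj x
      exact ⟨i, u, hx, Scheme.Hom.comp_apply _ _ _⟩
    · rintro ⟨i, u, hu, rfl⟩
      exact ⟨g i u, hu, (Scheme.Hom.comp_apply _ _ _).symm⟩
  rw [this]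
  exact isOpen_iUnion fun i => h i _ (hV.preimage (g i).continuous)

/-- Dominance can be checked after base change along a jointly surjective family of open maps. -/
theorem isDominant_iff_of_open_cover {X Y : Scheme.{u}} (f : X ⟶ Y) {ι : Type*} {U : ι → Scheme.{u}}
    (g : ∀ i, U i ⟶ Y) (hopen : ∀ i, IsOpenMap (g i)) (hsurj : ∀ y : Y, ∃ i, y ∈ Set.range (g i)) :
    IsDominant f ↔ ∀ i, IsDominant (pullback.snd f (g i)) := by
  constructor
  · intro hf i
    refine ⟨?_⟩
    rw [DenseRange, dense_iff_inter_open]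
    intro V hV hVne
    obtain ⟨v, hv⟩ := hVne
    have hgV : IsOpen ((g i) '' V) := hopen i V hV
    obtain ⟨y, hy1, hy2⟩ := (dense_iff_inter_open.1 hf.denseRange) _ hgV ⟨g i v, v, hv, rfl⟩
    obtain ⟨v', hv', rfl⟩ := hy1
    obtain ⟨x, hx⟩ := hy2
    obtain ⟨z, hz1, hz2⟩ := Scheme.Pullback.exists_preimage_pullback (f := f) (g := g i) x v' hx
    exact ⟨v', hv', z, hz2⟩
  · intro h
    refine ⟨?_⟩
    rw [DenseRange, dense_iff_inter_open]
    intro V hV hVne
    obtain ⟨y, hy⟩ := hVne
    obtain ⟨i, u, rfl⟩ := hsurj y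
    have hpre : IsOpen ((g i) ⁻¹' V) := hV.preimage (g i).continuous
    obtain ⟨u', hu'1, z, rfl⟩ := (dense_iff_inter_open.1 (h i).denseRange) _ hpre ⟨u, hy⟩
    refine ⟨f (pullback.fst f (g i) z), ?_, _, rfl⟩
    have : f (pullback.fst f (g i) z) = g i (pullback.snd f (g i) z) := by
      rw [← Scheme.Hom.comp_apply, pullback.condition, Scheme.Hom.comp_apply]
    rw [this]
    exact hu'1

/-- The base change of a jointly surjective family is jointly surjective. -/
theorem jointly_surjective_pullback {X X' : Scheme.{u}} (i₁ : X' ⟶ X) {ι : Type*} {U : ι → Scheme.{u}}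
    (g : ∀ i, U i ⟶ X) (hsurj : ∀ x : X, ∃ i, x ∈ Set.range (g i)) :
    ∀ x' : X', ∃ i, x' ∈ Set.range (pullback.snd (g i) i₁) := by
  intro x'
  obtain ⟨i, u, hu⟩ := hsurj (i₁ x')
  obtain ⟨z, -, hz⟩ := Scheme.Pullback.exists_preimage_pullback (f := g i) (g := i₁) u x' hu
  exact ⟨i, z, hz⟩

/-- Universal openness can be checked on a jointly surjective family at the source. -/
theorem universallyOpen_of_jointly_surjective {X Y : Scheme.{u}} (f : X ⟶ Y) {ι : Type*} {U : ι → Scheme.{u}}
    (g : ∀ i, U i ⟶ X) (hsurj : ∀ x : X, ∃ i, x ∈ Set.range (g i)) (h : ∀ i, UniversallyOpen (g i ≫ f)) :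
    UniversallyOpen f := by
  refine ⟨?_⟩
  intro X' Y' i₁ i₂ f' sq
  refine isOpenMap_of_jointly_surjective f' (fun i => pullback.snd (g i) i₁)
    (jointly_surjective_pullback i₁ g hsurj) (fun i => ?_)
  have sq' : IsPullback (pullback.snd (g i) i₁ ≫ f') (pullback.fst (g i) i₁) i₂ (g i ≫ f) :=
    (IsPullback.of_hasPullback (g i) i₁).flip.paste_horiz sq
  exact (h i).universally_isOpenMap _ _ _ sq'

end Groth.Agent.Lib.Helper16
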