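import Groth.Agent.Lib.Helper16.DescPt
import Mathlib.AlgebraicGeometry.Sites.Fpqc
import Groth.Agent.Lib.Helper16.FppfTop

/-!
# Helper library (helper16): pullback of descent data along a refinement is fully faithful (fpqc)
-/

set_option backward.isDefEq.respectTransparency false
set_option backward.isDefEq.respectTransparency.types false
set_option autoImplicit false

universe w' w u

open CategoryTheory CategoryTheory.Limits AlgebraicGeometry

namespace Groth.Agent.Lib.Helper16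

open Desc

/-- A jointly surjective family of flat morphisms is jointly epimorphic. -/
theorem eq_of_flat_jointly_surjective {W W' : Scheme.{u}} {K : Type u} {T : K → Scheme.{u}}
    (c : ∀ k, T k ⟶ W) (hflat : ∀ k, Flat (c k)) (hs : ∀ p : W, ∃ k, p ∈ Set.range (c k))
    {r s : W ⟶ W'} (h : ∀ k, c k ≫ r = c k ≫ s) : r = s := by
  haveI : ∀ k, Flat (c k) := hflat
  haveI : Flat (Sigma.desc c) := inferInstance
  haveI : Surjective (Sigma.desc c) := Surjective.sigmaDesc_of_union_range_eq_univ (by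
    ext p
    simp only [Set.mem_iUnion, Set.mem_univ, iff_true]
    exact hs p)
  haveI := Flat.epi_of_flat_of_surjective (Sigma.desc c)
  rw [← cancel_epi (Sigma.desc c)]
  apply Sigma.hom_ext
  intro k
  rw [Sigma.ι_desc_assoc, Sigma.ι_desc_assoc]
  exact h k

/-- Representable presheaves satisfy the sheaf condition for fpqc coverings: descent of morphisms. -/
theorem exists_desc_of_fpqc {W W' : Scheme.{u}} {K : Type*} {T : K → Scheme.{u}} (c : ∀ k, T k ⟶ W)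
    (hc : Presieve.ofArrows T c ∈ Scheme.fpqcPrecoverage W) (m : ∀ k, T k ⟶ W')
    (hm : ∀ (k₁ k₂ : K) (Z : Scheme.{u}) (g₁ : Z ⟶ T k₁) (g₂ : Z ⟶ T k₂), g₁ ≫ c k₁ = g₂ ≫ c k₂ →
      g₁ ≫ m k₁ = g₂ ≫ m k₂) :
    ∃ t : W ⟶ W', ∀ k, c k ≫ t = m k := by
  have hsh : Presieve.IsSheafFor (yoneda.obj W') (Presieve.ofArrows T c) :=
    (GrothendieckTopology.Subcanonical.isSheaf_of_isRepresentable (J := Scheme.fpqcTopology.{u})
      (yoneda.obj W')).isSheafFor (Presieve.ofArrows T c)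
      (Precoverage.generate_mem_toGrothendieck hc)
  rw [Presieve.isSheafFor_arrows_iff] at hsh
  obtain ⟨t, ht, -⟩ := hsh m (fun k₁ k₂ Z g₁ g₂ hg => hm k₁ k₂ Z g₁ g₂ hg)
  exact ⟨t, ht⟩

section

variable {S : Scheme.{u}} {κ : Type w} {V : κ → Scheme.{u}} {fV : ∀ j, V j ⟶ S}
  {ι : Type w'} {U : ι → Scheme.{u}} {fU : ∀ i, U i ⟶ S}
  {α : ι → κ} {g : ∀ i, U i ⟶ V (α i)} (w : ∀ i, g i ≫ fV (α i) = fU i ≫ 𝟙 S)

include w in
theorem cmp {T : Scheme.{u}} {j : κ} {i : ι} {y : T ⟶ V j} {x : T ⟶ U i} (hyx : y ≫ fV j = x ≫ fU i) :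
    y ≫ fV j = (x ≫ g i) ≫ fV (α i) := by
  rw [Category.assoc, w, Category.comp_id, hyx]

theorem pullLPE_symm_natural (D : SchDDFam fV) (i : ι) {T T' : Scheme.{u}} (t : T' ⟶ T) (x : T ⟶ U i)
    (x' : T' ⟶ U i) (hx' : t ≫ x = x') (q : Lifts (D.obj (α i)) (x ≫ g i))
    (q' : Lifts (D.obj (α i)) (x' ≫ g i)) (hq : q'.1 = t ≫ q.1) :
    ((pullLPE w D i x').symm q').1 = t ≫ ((pullLPE w D i x).symm q).1 := by
  show pullback.lift q'.1 x' q'.2 = t ≫ pullback.lift q.1 x q.2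
  apply pullback.hom_ext
  · rw [pullback.lift_fst, Category.assoc, pullback.lift_fst, hq]
  · rw [pullback.lift_snd, Category.assoc, pullback.lift_snd, hx']

/-- The candidate action on points of a morphism of descent data with given pullback. -/
noncomputable def theta {D D' : SchDDFam fV} (μ : (pullDDFam w).obj D ⟶ (pullDDFam w).obj D')
    {T : Scheme.{u}} {j : κ} {i : ι} (y : T ⟶ V j) (x : T ⟶ U i) (hyx : y ≫ fV j = x ≫ fU i)
    (pt : Lifts (D.obj j) y) : Lifts (D'.obj j) y :=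
  D'.φ (x ≫ g i) y (cmp w hyx).symm
    (pullLPE w D' i x (pushPt μ ((pullLPE w D i x).symm (D.φ y (x ≫ g i) (cmp w hyx) pt))))

theorem theta_natural {D D' : SchDDFam fV} (μ : (pullDDFam w).obj D ⟶ (pullDDFam w).obj D')
    {T T' : Scheme.{u}} (t : T' ⟶ T) {j : κ} {i : ι} (y : T ⟶ V j) (x : T ⟶ U i)
    (hyx : y ≫ fV j = x ≫ fU i) (pt : Lifts (D.obj j) y) (y' : T' ⟶ V j) (x' : T' ⟶ U i)
    (hy' : t ≫ y = y') (hx' : t ≫ x = x') (hyx' : y' ≫ fV j = x' ≫ fU i) (pt' : Lifts (D.obj j) y')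
    (hpt : pt'.1 = t ≫ pt.1) :
    (theta w μ y' x' hyx' pt').1 = t ≫ (theta w μ y x hyx pt).1 := by
  have hxg : t ≫ x ≫ g i = x' ≫ g i := by rw [← hx', Category.assoc]
  unfold theta
  refine D'.φ_natural t (x ≫ g i) y (cmp w hyx).symm (x' ≫ g i) y' hxg hy' (cmp w hyx').symm _ _ ?_
  refine pullLPE_natural w D' i t x x' _ _ ?_
  rw [pushPt_val, pushPt_val, ← Category.assoc]
  congr 1
  refine pullLPE_symm_natural w D i t x x' hx' _ _ ?_
  exact D.φ_natural t y (x ≫ g i) (cmp w hyx) y' (x' ≫ g i) hy' hxg (cmp w hyx') pt pt' hpt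

theorem theta_indep {D D' : SchDDFam fV} (μ : (pullDDFam w).obj D ⟶ (pullDDFam w).obj D')
    {T : Scheme.{u}} {j : κ} (y : T ⟶ V j) {i₁ i₂ : ι} (x₁ : T ⟶ U i₁) (x₂ : T ⟶ U i₂)
    (h₁ : y ≫ fV j = x₁ ≫ fU i₁) (h₂ : y ≫ fV j = x₂ ≫ fU i₂) (pt : Lifts (D.obj j) y) :
    theta w μ y x₁ h₁ pt = theta w μ y x₂ h₂ pt := by
  have h12 : x₁ ≫ fU i₁ = x₂ ≫ fU i₂ := h₁.symm.trans h₂
  have hA : ((pullDDFam w).obj D).φ x₁ x₂ h12
      ((pullLPE w D i₁ x₁).symm (D.φ y (x₁ ≫ g i₁) (cmp w h₁) pt)) =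
      (pullLPE w D i₂ x₂).symm (D.φ y (x₂ ≫ g i₂) (cmp w h₂) pt) := by
    simp only [pull_φ, Equiv.apply_symm_apply, D.φ_comp]
  have hB := comm_pushPt μ x₁ x₂ h12 ((pullLPE w D i₁ x₁).symm (D.φ y (x₁ ≫ g i₁) (cmp w h₁) pt))
  rw [hA, pull_φ] at hB
  unfold theta
  rw [← hB, Equiv.apply_symm_apply, D'.φ_comp]

theorem theta_φ {D D' : SchDDFam fV} (μ : (pullDDFam w).obj D ⟶ (pullDDFam w).obj D')
    {T : Scheme.{u}} {j₀ j₁ : κ} {i : ι} (y₀ : T ⟶ V j₀) (y₁ : T ⟶ V j₁) (h : y₀ ≫ fV j₀ = y₁ ≫ fV j₁)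
    (x : T ⟶ U i) (h₀ : y₀ ≫ fV j₀ = x ≫ fU i) (h₁ : y₁ ≫ fV j₁ = x ≫ fU i) (pt : Lifts (D.obj j₀) y₀) :
    D'.φ y₀ y₁ h (theta w μ y₀ x h₀ pt) = theta w μ y₁ x h₁ (D.φ y₀ y₁ h pt) := by
  simp only [theta, D.φ_comp, D'.φ_comp]

theorem theta_self {D D' : SchDDFam fV} (μ : (pullDDFam w).obj D ⟶ (pullDDFam w).obj D')
    {T : Scheme.{u}} {i : ι} (x : T ⟶ U i) (z : Lifts (((pullDDFam w).obj D).obj i) x) :
    theta w μ (x ≫ g i) x (by rw [Category.assoc, w, Category.comp_id]) (pullLPE w D i x z) =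
      pullLPE w D' i x (pushPt μ z) := by
  unfold theta
  rw [D.φ_self, D'.φ_self, Equiv.symm_apply_apply]

/-- Covering data: a jointly surjective flat family over the scheme `D.obj j` whose members map compatibly to members
of the refining family. -/
structure Charts (fU : ∀ i, U i ⟶ S) (D : SchDDFam fV) (j : κ) where
  /-- index type -/
  K : Type u
  /-- the members -/
  T : K → Scheme.{u}
  /-- the covering maps -/
  c : ∀ k, T k ⟶ (D.obj j).left
  /-- indices in the refining family -/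
  idx : K → ι
  /-- the maps to the refining family -/
  x : ∀ k, T k ⟶ U (idx k)
  compat : ∀ k, (c k ≫ (D.obj j).hom) ≫ fV j = x k ≫ fU (idx k)
  flat : ∀ k, Flat (c k)
  surj : ∀ p : (D.obj j).left, ∃ k, p ∈ Set.range (c k)

theorem pushPt_eq_of_map_eq {D D' : SchDDFam fV} {m n : D ⟶ D'}
    (hmn : (pullDDFam w).map m = (pullDDFam w).map n) {T : Scheme.{u}} {j : κ} {i : ι} (y : T ⟶ V j)
    (x : T ⟶ U i) (hyx : y ≫ fV j = x ≫ fU i) (pt : Lifts (D.obj j) y) : pushPt m pt = pushPt n pt := by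
  have e1 : pushPt ((pullDDFam w).map m) ((pullLPE w D i x).symm (D.φ y (x ≫ g i) (cmp w hyx) pt)) =
      pushPt ((pullDDFam w).map n) ((pullLPE w D i x).symm (D.φ y (x ≫ g i) (cmp w hyx) pt)) := by
    rw [hmn]
  have e2 := congrArg (pullLPE w D' i x) e1
  rw [pullLPE_pushPt, pullLPE_pushPt, Equiv.apply_symm_apply] at e2
  calc pushPt m pt
      = pushPt m (D.φ (x ≫ g i) y (cmp w hyx).symm (D.φ y (x ≫ g i) (cmp w hyx) pt)) := by
        rw [D.φ_comp, D.φ_self]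
    _ = D'.φ (x ≫ g i) y (cmp w hyx).symm (pushPt m (D.φ y (x ≫ g i) (cmp w hyx) pt)) :=
        (comm_pushPt m _ _ _ _).symm
    _ = D'.φ (x ≫ g i) y (cmp w hyx).symm (pushPt n (D.φ y (x ≫ g i) (cmp w hyx) pt)) := by rw [e2]
    _ = pushPt n (D.φ (x ≫ g i) y (cmp w hyx).symm (D.φ y (x ≫ g i) (cmp w hyx) pt)) :=
        comm_pushPt n _ _ _ _
    _ = pushPt n pt := by rw [D.φ_comp, D.φ_self]

/-- Pullback of descent data along a refinement is faithful as soon as every `D.obj j` has a flat covering mapping to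
the refining family. -/
theorem pull_faithful (hch : ∀ (D : SchDDFam fV) (j : κ), Charts fU D j) : (pullDDFam w).Faithful := by
  refine ⟨fun {D D'} m n hmn => ?_⟩
  apply SchDDFam.hom_ext
  funext j
  apply Over.OverMorphism.ext
  refine eq_of_flat_jointly_surjective (hch D j).c (hch D j).flat (hch D j).surj fun k => ?_
  have := congrArg Subtype.val (pushPt_eq_of_map_eq w hmn ((hch D j).c k ≫ (D.obj j).hom) ((hch D j).x k)
    ((hch D j).compat k) ⟨(hch D j).c k, rfl⟩)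
  simpa using this

theorem charts_compat' {D : SchDDFam fV} {j : κ} (C : Charts fU D j) (k : C.K) :
    C.c k ≫ (D.obj j).hom ≫ fV j = C.x k ≫ fU (C.idx k) := by
  rw [← Category.assoc]
  exact C.compat k

/-- Pullback of descent data along a refinement is full as soon as every `D.obj j` has an fpqc covering mapping to
the refining family. -/
theorem pull_full (hch : ∀ (D : SchDDFam fV) (j : κ), Charts fU D j)
    (hmem : ∀ (D : SchDDFam fV) (j : κ),
      Presieve.ofArrows (hch D j).T (hch D j).c ∈ Scheme.fpqcPrecoverage (D.obj j).left) :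
    (pullDDFam w).Full := by
  refine ⟨fun {D D'} μ => ?_⟩
  have H : ∀ j : κ, ∃ mj : (D.obj j).left ⟶ (D'.obj j).left, ∀ k,
      (hch D j).c k ≫ mj = (theta w μ ((hch D j).c k ≫ (D.obj j).hom) ((hch D j).x k)
        ((hch D j).compat k) ⟨(hch D j).c k, rfl⟩).1 := by
    intro j
    refine exists_desc_of_fpqc (hch D j).c (hmem D j) _ ?_
    intro k₁ k₂ Z g₁ g₂ hg
    have hy₂ : g₂ ≫ (hch D j).c k₂ ≫ (D.obj j).hom = (g₁ ≫ (hch D j).c k₁) ≫ (D.obj j).hom := by
      rw [← Category.assoc, hg]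
    have hc₁ : ((g₁ ≫ (hch D j).c k₁) ≫ (D.obj j).hom) ≫ fV j =
        (g₁ ≫ (hch D j).x k₁) ≫ fU ((hch D j).idx k₁) := by
      simp only [Category.assoc]
      rw [charts_compat']
    have hc₂ : ((g₁ ≫ (hch D j).c k₁) ≫ (D.obj j).hom) ≫ fV j =
        (g₂ ≫ (hch D j).x k₂) ≫ fU ((hch D j).idx k₂) := by
      rw [hg]
      simp only [Category.assoc]
      rw [charts_compat']
    have n₁ := theta_natural w μ g₁ ((hch D j).c k₁ ≫ (D.obj j).hom) ((hch D j).x k₁)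
      ((hch D j).compat k₁) ⟨(hch D j).c k₁, rfl⟩ ((g₁ ≫ (hch D j).c k₁) ≫ (D.obj j).hom)
      (g₁ ≫ (hch D j).x k₁) (Category.assoc _ _ _).symm rfl hc₁ ⟨g₁ ≫ (hch D j).c k₁, rfl⟩ rfl
    have n₂ := theta_natural w μ g₂ ((hch D j).c k₂ ≫ (D.obj j).hom) ((hch D j).x k₂)
      ((hch D j).compat k₂) ⟨(hch D j).c k₂, rfl⟩ ((g₁ ≫ (hch D j).c k₁) ≫ (D.obj j).hom)
      (g₂ ≫ (hch D j).x k₂) hy₂ rfl hc₂ ⟨g₁ ≫ (hch D j).c k₁, rfl⟩ hg
    rw [← n₁, ← n₂, theta_indep w μ _ (g₁ ≫ (hch D j).x k₁) (g₂ ≫ (hch D j).x k₂) hc₁ hc₂]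
  choose mm hmm using H
  have hover : ∀ j, mm j ≫ (D'.obj j).hom = (D.obj j).hom := by
    intro j
    refine eq_of_flat_jointly_surjective (hch D j).c (hch D j).flat (hch D j).surj fun k => ?_
    rw [← Category.assoc, hmm]
    exact (theta w μ _ _ _ _).2
  have hP : ∀ (T : Scheme.{u}) (j : κ) (i : ι) (y : T ⟶ V j) (x : T ⟶ U i)
      (hyx : y ≫ fV j = x ≫ fU i) (pt : Lifts (D.obj j) y),
      pt.1 ≫ mm j = (theta w μ y x hyx pt).1 := by
    intro T j i y x hyx pt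
    refine eq_of_flat_jointly_surjective (fun k => pullback.snd ((hch D j).c k) pt.1) (fun k => ?_)
      (jointly_surjective_pullback pt.1 (hch D j).c (hch D j).surj) fun k => ?_
    · haveI := (hch D j).flat k
      infer_instance
    have cond : pullback.fst ((hch D j).c k) pt.1 ≫ (hch D j).c k =
        pullback.snd ((hch D j).c k) pt.1 ≫ pt.1 := pullback.condition
    have hy₁ : pullback.fst ((hch D j).c k) pt.1 ≫ (hch D j).c k ≫ (D.obj j).hom =
        pullback.snd ((hch D j).c k) pt.1 ≫ y := by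
      rw [← Category.assoc, cond, Category.assoc, pt.2]
    have hc₁ : (pullback.snd ((hch D j).c k) pt.1 ≫ y) ≫ fV j =
        (pullback.fst ((hch D j).c k) pt.1 ≫ (hch D j).x k) ≫ fU ((hch D j).idx k) := by
      rw [← hy₁]
      simp only [Category.assoc]
      rw [charts_compat']
    have hc₂ : (pullback.snd ((hch D j).c k) pt.1 ≫ y) ≫ fV j =
        (pullback.snd ((hch D j).c k) pt.1 ≫ x) ≫ fU i := by
      rw [Category.assoc, hyx, Category.assoc]
    have hpt' : (pullback.snd ((hch D j).c k) pt.1 ≫ pt.1) ≫ (D.obj j).hom =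
        pullback.snd ((hch D j).c k) pt.1 ≫ y := by
      rw [Category.assoc, pt.2]
    have n₁ := theta_natural w μ (pullback.fst ((hch D j).c k) pt.1) ((hch D j).c k ≫ (D.obj j).hom)
      ((hch D j).x k) ((hch D j).compat k) ⟨(hch D j).c k, rfl⟩ (pullback.snd ((hch D j).c k) pt.1 ≫ y)
      (pullback.fst ((hch D j).c k) pt.1 ≫ (hch D j).x k) hy₁ rfl hc₁
      ⟨pullback.snd ((hch D j).c k) pt.1 ≫ pt.1, hpt'⟩ cond.symm
    have n₂ := theta_natural w μ (pullback.snd ((hch D j).c k) pt.1) y x hyx pt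
      (pullback.snd ((hch D j).c k) pt.1 ≫ y) (pullback.snd ((hch D j).c k) pt.1 ≫ x) rfl rfl hc₂
      ⟨pullback.snd ((hch D j).c k) pt.1 ≫ pt.1, hpt'⟩ rfl
    calc pullback.snd ((hch D j).c k) pt.1 ≫ pt.1 ≫ mm j
        = (pullback.fst ((hch D j).c k) pt.1 ≫ (hch D j).c k) ≫ mm j := by rw [cond, Category.assoc]
      _ = pullback.fst ((hch D j).c k) pt.1 ≫ (theta w μ ((hch D j).c k ≫ (D.obj j).hom) ((hch D j).x k)
            ((hch D j).compat k) ⟨(hch D j).c k, rfl⟩).1 := by rw [Category.assoc, hmm]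
      _ = (theta w μ (pullback.snd ((hch D j).c k) pt.1 ≫ y)
            (pullback.fst ((hch D j).c k) pt.1 ≫ (hch D j).x k) hc₁
            ⟨pullback.snd ((hch D j).c k) pt.1 ≫ pt.1, hpt'⟩).1 := n₁.symm
      _ = (theta w μ (pullback.snd ((hch D j).c k) pt.1 ≫ y)
            (pullback.snd ((hch D j).c k) pt.1 ≫ x) hc₂
            ⟨pullback.snd ((hch D j).c k) pt.1 ≫ pt.1, hpt'⟩).1 := by
          rw [theta_indep w μ _ _ _ hc₁ hc₂]
      _ = pullback.snd ((hch D j).c k) pt.1 ≫ (theta w μ y x hyx pt).1 := n₂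
  have hcomm : ∀ ⦃T : Scheme.{u}⦄ ⦃j₀ j₁ : κ⦄ (y₀ : T ⟶ V j₀) (y₁ : T ⟶ V j₁) (h : y₀ ≫ fV j₀ = y₁ ≫ fV j₁)
      (pt : Lifts (D.obj j₀) y₀) (q : Lifts (D'.obj j₀) y₀), q.1 = pt.1 ≫ mm j₀ →
      (D'.φ y₀ y₁ h q).1 = (D.φ y₀ y₁ h pt).1 ≫ mm j₁ := by
    intro T j₀ j₁ y₀ y₁ h pt q hq
    refine eq_of_flat_jointly_surjective (fun k => pullback.snd ((hch D j₀).c k) pt.1) (fun k => ?_)
      (jointly_surjective_pullback pt.1 (hch D j₀).c (hch D j₀).surj) fun k => ?_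
    · haveI := (hch D j₀).flat k
      infer_instance
    have cond : pullback.fst ((hch D j₀).c k) pt.1 ≫ (hch D j₀).c k =
        pullback.snd ((hch D j₀).c k) pt.1 ≫ pt.1 := pullback.condition
    have hy₁ : pullback.fst ((hch D j₀).c k) pt.1 ≫ (hch D j₀).c k ≫ (D.obj j₀).hom =
        pullback.snd ((hch D j₀).c k) pt.1 ≫ y₀ := by
      rw [← Category.assoc, cond, Category.assoc, pt.2]
    have h' : (pullback.snd ((hch D j₀).c k) pt.1 ≫ y₀) ≫ fV j₀ =
        (pullback.snd ((hch D j₀).c k) pt.1 ≫ y₁) ≫ fV j₁ := by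
      rw [Category.assoc, h, Category.assoc]
    have hc₀ : (pullback.snd ((hch D j₀).c k) pt.1 ≫ y₀) ≫ fV j₀ =
        (pullback.fst ((hch D j₀).c k) pt.1 ≫ (hch D j₀).x k) ≫ fU ((hch D j₀).idx k) := by
      rw [← hy₁]
      simp only [Category.assoc]
      rw [charts_compat']
    have hc₁ : (pullback.snd ((hch D j₀).c k) pt.1 ≫ y₁) ≫ fV j₁ =
        (pullback.fst ((hch D j₀).c k) pt.1 ≫ (hch D j₀).x k) ≫ fU ((hch D j₀).idx k) :=
      h'.symm.trans hc₀
    have hpt' : (pullback.snd ((hch D j₀).c k) pt.1 ≫ pt.1) ≫ (D.obj j₀).hom =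
        pullback.snd ((hch D j₀).c k) pt.1 ≫ y₀ := by
      rw [Category.assoc, pt.2]
    have hq' : (pullback.snd ((hch D j₀).c k) pt.1 ≫ q.1) ≫ (D'.obj j₀).hom =
        pullback.snd ((hch D j₀).c k) pt.1 ≫ y₀ := by
      rw [Category.assoc, q.2]
    have hqt : (⟨pullback.snd ((hch D j₀).c k) pt.1 ≫ q.1, hq'⟩ : Lifts (D'.obj j₀) _) =
        theta w μ (pullback.snd ((hch D j₀).c k) pt.1 ≫ y₀)
          (pullback.fst ((hch D j₀).c k) pt.1 ≫ (hch D j₀).x k) hc₀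
          ⟨pullback.snd ((hch D j₀).c k) pt.1 ≫ pt.1, hpt'⟩ := by
      apply Subtype.ext
      rw [← hP _ j₀ _ _ _ hc₀ ⟨pullback.snd ((hch D j₀).c k) pt.1 ≫ pt.1, hpt'⟩]
      show pullback.snd ((hch D j₀).c k) pt.1 ≫ q.1 =
        (pullback.snd ((hch D j₀).c k) pt.1 ≫ pt.1) ≫ mm j₀
      rw [hq, Category.assoc]
    have L := D'.φ_natural (pullback.snd ((hch D j₀).c k) pt.1) y₀ y₁ h _ _ rfl rfl h' q
      ⟨pullback.snd ((hch D j₀).c k) pt.1 ≫ q.1, hq'⟩ rfl
    have R := D.φ_natural (pullback.snd ((hch D j₀).c k) pt.1) y₀ y₁ h _ _ rfl rfl h' pt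
      ⟨pullback.snd ((hch D j₀).c k) pt.1 ≫ pt.1, hpt'⟩ rfl
    calc pullback.snd ((hch D j₀).c k) pt.1 ≫ (D'.φ y₀ y₁ h q).1
        = (D'.φ _ _ h' ⟨pullback.snd ((hch D j₀).c k) pt.1 ≫ q.1, hq'⟩).1 := L.symm
      _ = (D'.φ _ _ h' (theta w μ (pullback.snd ((hch D j₀).c k) pt.1 ≫ y₀)
            (pullback.fst ((hch D j₀).c k) pt.1 ≫ (hch D j₀).x k) hc₀
            ⟨pullback.snd ((hch D j₀).c k) pt.1 ≫ pt.1, hpt'⟩)).1 := by rw [hqt]
      _ = (theta w μ (pullback.snd ((hch D j₀).c k) pt.1 ≫ y₁)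
            (pullback.fst ((hch D j₀).c k) pt.1 ≫ (hch D j₀).x k) hc₁
            (D.φ _ _ h' ⟨pullback.snd ((hch D j₀).c k) pt.1 ≫ pt.1, hpt'⟩)).1 := by
          rw [theta_φ w μ _ _ h' _ hc₀ hc₁]
      _ = (D.φ _ _ h' ⟨pullback.snd ((hch D j₀).c k) pt.1 ≫ pt.1, hpt'⟩).1 ≫ mm j₁ :=
          (hP _ j₁ _ _ _ hc₁ _).symm
      _ = (pullback.snd ((hch D j₀).c k) pt.1 ≫ (D.φ y₀ y₁ h pt).1) ≫ mm j₁ := by rw [R]
      _ = pullback.snd ((hch D j₀).c k) pt.1 ≫ (D.φ y₀ y₁ h pt).1 ≫ mm j₁ := Category.assoc _ _ _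
  refine ⟨⟨fun j => Over.homMk (mm j) (hover j), hcomm⟩, ?_⟩
  apply hom_ext_pushPt
  intro i T x z
  apply (pullLPE w D' i x).injective
  rw [pullLPE_pushPt, ← theta_self w μ x z]
  apply Subtype.ext
  exact hP T (α i) i (x ≫ g i) x _ (pullLPE w D i x z)

end

section base

variable {S : Scheme.{u}} {κ : Type w} {V : κ → Scheme.{u}} {fV : ∀ j, V j ⟶ S}
  {ι : Type u} {U : ι → Scheme.{u}} (fU : ∀ i, U i ⟶ S)

/-- The members of an fpqc covering are flat and jointly surjective. -/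
theorem fpqc_flat_surj (hU : Presieve.ofArrows U fU ∈ Scheme.fpqcPrecoverage S) :
    (∀ i, Flat (fU i)) ∧ ∀ s : S, ∃ i, s ∈ Set.range (fU i) :=
  ⟨((Scheme.ofArrows_mem_precoverage_iff (P := @Flat)).1 hU.2).2,
    ((Scheme.ofArrows_mem_precoverage_iff (P := @Flat)).1 hU.2).1⟩

/-- The covering data obtained by base change from a flat covering of the base. -/
noncomputable def chartsOfBase (hflat : ∀ i, Flat (fU i)) (hsurj : ∀ s : S, ∃ i, s ∈ Set.range (fU i))
    (D : SchDDFam fV) (j : κ) : Charts fU D j where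
  K := ι
  T i := pullback ((D.obj j).hom ≫ fV j) (fU i)
  c i := pullback.fst _ _
  idx i := i
  x i := pullback.snd _ _
  compat i := by
    rw [Category.assoc]
    exact pullback.condition
  flat i := by
    haveI := hflat i
    infer_instance
  surj p := by
    obtain ⟨i, t, ht⟩ := hsurj (((D.obj j).hom ≫ fV j) p)
    obtain ⟨z, hz, -⟩ := Scheme.Pullback.exists_preimage_pullback (f := (D.obj j).hom ≫ fV j)
      (g := fU i) p t ht.symm
    exact ⟨i, z, hz⟩

theorem chartsOfBase_mem (hU : Presieve.ofArrows U fU ∈ Scheme.fpqcPrecoverage S)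
    (hflat : ∀ i, Flat (fU i)) (hsurj : ∀ s : S, ∃ i, s ∈ Set.range (fU i)) (D : SchDDFam fV) (j : κ) :
    Presieve.ofArrows (chartsOfBase fU hflat hsurj D j).T (chartsOfBase fU hflat hsurj D j).c ∈
      Scheme.fpqcPrecoverage (D.obj j).left :=
  Precoverage.mem_coverings_of_isPullback fU hU ((D.obj j).hom ≫ fV j) (fun i => pullback.fst _ _)
    (fun i => pullback.snd _ _) (fun i => IsPullback.of_hasPullback _ _)

variable {fU} {α : ι → κ} {g : ∀ i, U i ⟶ V (α i)} (w : ∀ i, g i ≫ fV (α i) = fU i ≫ 𝟙 S)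

/-- Pullback of descent data to a flat covering of the base is faithful. -/
theorem pull_faithful_of_flat_cover (hflat : ∀ i, Flat (fU i)) (hsurj : ∀ s : S, ∃ i, s ∈ Set.range (fU i)) :
    (pullDDFam w).Faithful :=
  pull_faithful w (chartsOfBase fU hflat hsurj)

/-- Pullback of descent data to an fpqc covering of the base is full. -/
theorem pull_full_of_fpqc_cover (hU : Presieve.ofArrows U fU ∈ Scheme.fpqcPrecoverage S) :
    (pullDDFam w).Full :=
  pull_full w (chartsOfBase fU (fpqc_flat_surj fU hU).1 (fpqc_flat_surj fU hU).2)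
    (chartsOfBase_mem fU hU (fpqc_flat_surj fU hU).1 (fpqc_flat_surj fU hU).2)

end base

section refine

variable {S : Scheme.{u}} {ι κ : Type u} {U : ι → Scheme.{u}} {V : κ → Scheme.{u}} {fU : ∀ i, U i ⟶ S}
  {fV : ∀ j, V j ⟶ S} {α : ι → κ} {g : ∀ i, U i ⟶ V (α i)} (w : ∀ i, g i ≫ fV (α i) = fU i ≫ 𝟙 S)
  (hcov : ∀ j, Presieve.ofArrows (fun i : {i // α i = j} => U i.1)
    (fun i => g i.1 ≫ eqToHom (congrArg V i.2)) ∈ Scheme.fpqcPrecoverage (V j))

theorem eqToHom_comp_fV {i : ι} {j : κ} (h : α i = j) : eqToHom (congrArg V h) ≫ fV j = fV (α i) := by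
  subst h
  simp

/-- The covering data obtained from coverings of the members of the refined family. -/
noncomputable def chartsOfRefine (D : SchDDFam fV) (j : κ) : Charts fU D j where
  K := {i // α i = j}
  T k := pullback (D.obj j).hom (g k.1 ≫ eqToHom (congrArg V k.2))
  c k := pullback.fst _ _
  idx k := k.1
  x k := pullback.snd _ _
  compat k := by
    rw [pullback.condition, Category.assoc, Category.assoc, eqToHom_comp_fV k.2, w, Category.comp_id]
  flat k := by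
    haveI : Flat (g k.1 ≫ eqToHom (congrArg V k.2)) := (fpqc_flat_surj _ (hcov j)).1 k
    infer_instance
  surj p := by
    obtain ⟨k, t, ht⟩ := (fpqc_flat_surj _ (hcov j)).2 ((D.obj j).hom p)
    obtain ⟨z, hz, -⟩ := Scheme.Pullback.exists_preimage_pullback (f := (D.obj j).hom)
      (g := g k.1 ≫ eqToHom (congrArg V k.2)) p t ht.symm
    exact ⟨k, z, hz⟩

theorem chartsOfRefine_mem (D : SchDDFam fV) (j : κ) :
    Presieve.ofArrows (chartsOfRefine w hcov D j).T (chartsOfRefine w hcov D j).c ∈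
      Scheme.fpqcPrecoverage (D.obj j).left :=
  Precoverage.mem_coverings_of_isPullback _ (hcov j) (D.obj j).hom (fun k => pullback.fst _ _)
    (fun k => pullback.snd _ _) (fun k => IsPullback.of_hasPullback _ _)

include hcov in
/-- Pullback of descent data along a refinement by fpqc coverings of the members is fully faithful. -/
theorem pull_full_faithful_of_refine : (pullDDFam w).Full ∧ (pullDDFam w).Faithful :=
  ⟨pull_full w (chartsOfRefine w hcov) (chartsOfRefine_mem w hcov), pull_faithful w (chartsOfRefine w hcov)⟩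

end refine

end Groth.Agent.Lib.Helper16
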