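import Groth.Prelude.Def_DescFam

/-!
# Helper library (helper16): descent data for schemes through their points

Morphisms and isomorphisms of descent data relative to a family are determined by their action on points; pullback
along an endomorphism of the family over the base is isomorphic to the identity.
-/

set_option backward.isDefEq.respectTransparency false
set_option backward.isDefEq.respectTransparency.types false
set_option autoImplicit false

universe w' w u

open CategoryTheory CategoryTheory.Limits AlgebraicGeometry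

namespace Groth.Agent.Lib.Helper16

open Desc

section basics

variable {S : Scheme.{u}} {ι : Type w} {X : ι → Scheme.{u}} {f : ∀ i, X i ⟶ S}

/-- The universal point of a scheme over `Y`. -/
def univPt {Y : Scheme.{u}} (V : Over Y) : Lifts V V.hom := ⟨𝟙 V.left, Category.id_comp _⟩

@[simp] theorem univPt_val {Y : Scheme.{u}} (V : Over Y) : (univPt V).1 = 𝟙 V.left := rfl

/-- The action of a morphism of descent data on points. -/
def pushPt {D D' : SchDDFam f} (a : D ⟶ D') {T : Scheme.{u}} {i : ι} {x : T ⟶ X i}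
    (v : Lifts (D.obj i) x) : Lifts (D'.obj i) x :=
  ⟨v.1 ≫ (a.hom i).left, by rw [Category.assoc, Over.w (a.hom i)]; exact v.2⟩

@[simp] theorem pushPt_val {D D' : SchDDFam f} (a : D ⟶ D') {T : Scheme.{u}} {i : ι} {x : T ⟶ X i}
    (v : Lifts (D.obj i) x) : (pushPt a v).1 = v.1 ≫ (a.hom i).left := rfl

theorem pushPt_comp {D D' D'' : SchDDFam f} (a : D ⟶ D') (b : D' ⟶ D'') {T : Scheme.{u}} {i : ι}
    {x : T ⟶ X i} (v : Lifts (D.obj i) x) : pushPt (a ≫ b) v = pushPt b (pushPt a v) :=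
  Subtype.ext (by simp)

theorem pushPt_id (D : SchDDFam f) {T : Scheme.{u}} {i : ι} {x : T ⟶ X i} (v : Lifts (D.obj i) x) :
    pushPt (𝟙 D) v = v := Subtype.ext (by simp)

theorem comm_pushPt {D D' : SchDDFam f} (a : D ⟶ D') {T : Scheme.{u}} {i j : ι} (x₀ : T ⟶ X i)
    (x₁ : T ⟶ X j) (h : x₀ ≫ f i = x₁ ≫ f j) (v : Lifts (D.obj i) x₀) :
    D'.φ x₀ x₁ h (pushPt a v) = pushPt a (D.φ x₀ x₁ h v) :=
  Subtype.ext (a.comm x₀ x₁ h v (pushPt a v) rfl)

theorem hom_ext_pushPt {D D' : SchDDFam f} {a b : D ⟶ D'}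
    (h : ∀ (i : ι) (T : Scheme.{u}) (x : T ⟶ X i) (v : Lifts (D.obj i) x), pushPt a v = pushPt b v) :
    a = b := by
  apply SchDDFam.hom_ext
  funext i
  apply Over.OverMorphism.ext
  have := congrArg Subtype.val (h i _ _ (univPt (D.obj i)))
  simpa using this

/-- A family of bijections on points, natural in the test scheme and compatible with the gluing bijections. -/
structure PtEquiv (D D' : SchDDFam f) where
  /-- the bijections -/
  e : ∀ (i : ι) ⦃T : Scheme.{u}⦄ (x : T ⟶ X i), Lifts (D.obj i) x ≃ Lifts (D'.obj i) x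
  natural : ∀ (i : ι) ⦃T T' : Scheme.{u}⦄ (g : T' ⟶ T) (x : T ⟶ X i) (y : T' ⟶ X i) (_ : g ≫ x = y)
    (v : Lifts (D.obj i) x) (v' : Lifts (D.obj i) y), v'.1 = g ≫ v.1 → (e i y v').1 = g ≫ (e i x v).1
  comm : ∀ ⦃T : Scheme.{u}⦄ ⦃i j : ι⦄ (x₀ : T ⟶ X i) (x₁ : T ⟶ X j) (h : x₀ ≫ f i = x₁ ≫ f j)
    (v : Lifts (D.obj i) x₀), D'.φ x₀ x₁ h (e i x₀ v) = e j x₁ (D.φ x₀ x₁ h v)

namespace PtEquiv

variable {D D' : SchDDFam f} (E : PtEquiv D D')

theorem e_val {T : Scheme.{u}} {i : ι} {x : T ⟶ X i} (v : Lifts (D.obj i) x) :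
    (E.e i x v).1 = v.1 ≫ (E.e i (D.obj i).hom (univPt _)).1 :=
  E.natural i v.1 (D.obj i).hom x v.2 (univPt _) v (by simp)

/-- The inverse family. -/
def symm : PtEquiv D' D where
  e i T x := (E.e i x).symm
  natural i T T' g x y hy v v' hv' := by
    have hu : (g ≫ ((E.e i x).symm v).1) ≫ (D.obj i).hom = y := by
      rw [Category.assoc, ((E.e i x).symm v).2, hy]
    have h1 : E.e i y ⟨g ≫ ((E.e i x).symm v).1, hu⟩ = v' := by
      apply Subtype.ext
      rw [E.natural i g x y hy ((E.e i x).symm v) ⟨_, hu⟩ rfl, Equiv.apply_symm_apply, hv']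
    rw [← h1, Equiv.symm_apply_apply]
  comm T i j x₀ x₁ h v := by
    rw [Equiv.eq_symm_apply, ← E.comm, Equiv.apply_symm_apply]

/-- The morphism of descent data defined by a natural family of bijections. -/
def toHom : D ⟶ D' :=
  ⟨fun i => Over.homMk (E.e i (D.obj i).hom (univPt _)).1 (E.e i (D.obj i).hom (univPt _)).2,
    fun T i j x₀ x₁ h v w hw => by
      have hw' : w = E.e i x₀ v := Subtype.ext (by rw [hw, E.e_val v]; rfl)
      subst hw'
      rw [E.comm, E.e_val]
      rfl⟩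

theorem pushPt_toHom {T : Scheme.{u}} {i : ι} {x : T ⟶ X i} (v : Lifts (D.obj i) x) :
    pushPt E.toHom v = E.e i x v := Subtype.ext (by rw [pushPt_val, E.e_val v]; rfl)

/-- The isomorphism of descent data defined by a natural family of bijections. -/
def toIso : D ≅ D' where
  hom := E.toHom
  inv := E.symm.toHom
  hom_inv_id := hom_ext_pushPt fun i T x v => by
    rw [pushPt_comp, pushPt_toHom, pushPt_toHom, pushPt_id]
    exact (E.e i x).symm_apply_apply v
  inv_hom_id := hom_ext_pushPt fun i T x v => by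
    rw [pushPt_comp, pushPt_toHom, pushPt_toHom, pushPt_id]
    exact (E.e i x).apply_symm_apply v

end PtEquiv

end basics

section pull

variable {S : Scheme.{u}} {ι : Type w} {X : ι → Scheme.{u}} {f : ∀ i, X i ⟶ S}
  {S' : Scheme.{u}} {ι' : Type w'} {X' : ι' → Scheme.{u}} {f' : ∀ j, X' j ⟶ S'}
  {α : ι' → ι} {p : S' ⟶ S} {p' : ∀ j, X' j ⟶ X (α j)} (w : ∀ j, p' j ≫ f (α j) = f' j ≫ p)

/-- The points of a pulled back descent datum. -/
noncomputable def pullLPE (D : SchDDFam f) (j : ι') {T : Scheme.{u}} (x : T ⟶ X' j) :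
    Lifts (((pullDDFam w).obj D).obj j) x ≃ Lifts (D.obj (α j)) (x ≫ p' j) :=
  liftsPullbackEquiv (D.obj (α j)) (p' j) x

theorem pullLPE_natural (D : SchDDFam f) (j : ι') {T T' : Scheme.{u}} (g : T' ⟶ T) (x : T ⟶ X' j)
    (y : T' ⟶ X' j) (v : Lifts (((pullDDFam w).obj D).obj j) x)
    (v' : Lifts (((pullDDFam w).obj D).obj j) y) (hv' : v'.1 = g ≫ v.1) :
    (pullLPE w D j y v').1 = g ≫ (pullLPE w D j x v).1 := by
  show v'.1 ≫ pullback.fst _ _ = g ≫ v.1 ≫ pullback.fst _ _
  rw [hv', Category.assoc]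

theorem pull_φ (D : SchDDFam f) {T : Scheme.{u}} {j₀ j₁ : ι'} (x₀ : T ⟶ X' j₀) (x₁ : T ⟶ X' j₁)
    (h : x₀ ≫ f' j₀ = x₁ ≫ f' j₁) (v : Lifts (((pullDDFam w).obj D).obj j₀) x₀) :
    ((pullDDFam w).obj D).φ x₀ x₁ h v = (pullLPE w D j₁ x₁).symm
      (D.φ (x₀ ≫ p' j₀) (x₁ ≫ p' j₁) (pull_compat w x₀ x₁ h) (pullLPE w D j₀ x₀ v)) := rfl

theorem pullLPE_pushPt {D D' : SchDDFam f} (a : D ⟶ D') {T : Scheme.{u}} {j : ι'} (x : T ⟶ X' j)
    (v : Lifts (((pullDDFam w).obj D).obj j) x) :
    pullLPE w D' j x (pushPt ((pullDDFam w).map a) v) = pushPt a (pullLPE w D j x v) := by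
  apply Subtype.ext
  show (v.1 ≫ pullback.map (D.obj (α j)).hom (p' j) (D'.obj (α j)).hom (p' j) (a.hom (α j)).left (𝟙 _) (𝟙 _)
    (by simp [Over.w]) (by simp)) ≫ pullback.fst (D'.obj (α j)).hom (p' j) =
      (v.1 ≫ pullback.fst (D.obj (α j)).hom (p' j)) ≫ (a.hom (α j)).left
  simp

end pull

section self

variable {S : Scheme.{u}} {ι : Type w} {X : ι → Scheme.{u}} {f : ∀ i, X i ⟶ S}
  {α : ι → ι} {p' : ∀ j, X j ⟶ X (α j)} (w : ∀ j, p' j ≫ f (α j) = f j ≫ 𝟙 S)

include w in
theorem self_compat {T : Scheme.{u}} {j : ι} (x : T ⟶ X j) : (x ≫ p' j) ≫ f (α j) = x ≫ f j := by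
  rw [Category.assoc, w, Category.comp_id]

/-- Pulling back along an endomorphism of the family over the base: the bijections on points. -/
noncomputable def pullSelfPtEquiv (D : SchDDFam f) : PtEquiv ((pullDDFam w).obj D) D where
  e j T x := (pullLPE w D j x).trans (D.φ (x ≫ p' j) x (self_compat w x))
  natural j T T' g x y hy v v' hv' := by
    simp only [Equiv.trans_apply]
    exact D.φ_natural g (x ≫ p' j) x (self_compat w x) (y ≫ p' j) y (by rw [← hy, Category.assoc]) hy
      (self_compat w y) _ _ (pullLPE_natural w D j g x y v v' hv')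
  comm T i j x₀ x₁ h v := by
    simp only [Equiv.trans_apply, pull_φ, Equiv.apply_symm_apply, D.φ_comp]

/-- Pulling back along an endomorphism of the family over the base is isomorphic to the identity. -/
noncomputable def pullSelfIso : pullDDFam w ≅ 𝟭 (SchDDFam f) :=
  NatIso.ofComponents (fun D => (pullSelfPtEquiv w D).toIso) (by
    intro D D' a
    apply hom_ext_pushPt
    intro i T x v
    simp only [Functor.id_obj, Functor.id_map, PtEquiv.toIso]
    rw [pushPt_comp, pushPt_comp, PtEquiv.pushPt_toHom, PtEquiv.pushPt_toHom]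
    show D'.φ (x ≫ p' i) x _ (pullLPE w D' i x (pushPt ((pullDDFam w).map a) v)) =
      pushPt a (D.φ (x ≫ p' i) x _ (pullLPE w D i x v))
    rw [pullLPE_pushPt, comm_pushPt])

end self

section comp

variable {S : Scheme.{u}} {ι : Type w} {X : ι → Scheme.{u}} {f : ∀ i, X i ⟶ S}
  {ι' : Type w'} {X' : ι' → Scheme.{u}} {f' : ∀ j, X' j ⟶ S}
  {α : ι' → ι} {p' : ∀ j, X' j ⟶ X (α j)} (w : ∀ j, p' j ≫ f (α j) = f' j ≫ 𝟙 S)
  {β : ι → ι'} {q' : ∀ i, X i ⟶ X' (β i)} (w' : ∀ i, q' i ≫ f' (β i) = f i ≫ 𝟙 S)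

include w w' in
theorem comp_compat {T : Scheme.{u}} {i : ι} (x : T ⟶ X i) :
    ((x ≫ q' i) ≫ p' (β i)) ≫ f (α (β i)) = x ≫ f i := by
  rw [Category.assoc, w, Category.comp_id, Category.assoc, w', Category.comp_id]

/-- Pulling back along a morphism of families and back: the bijections on points. -/
noncomputable def pullCompPtEquiv (D : SchDDFam f) :
    PtEquiv ((pullDDFam w').obj ((pullDDFam w).obj D)) D where
  e i T x := (pullLPE w' ((pullDDFam w).obj D) i x).trans
    ((pullLPE w D (β i) (x ≫ q' i)).trans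
      (D.φ ((x ≫ q' i) ≫ p' (β i)) x (comp_compat w w' x)))
  natural i T T' g x y hy v v' hv' := by
    simp only [Equiv.trans_apply]
    exact D.φ_natural g ((x ≫ q' i) ≫ p' (β i)) x (comp_compat w w' x) ((y ≫ q' i) ≫ p' (β i)) y
      (by rw [← hy]; simp only [Category.assoc]) hy (comp_compat w w' y) _ _
      (pullLPE_natural w D (β i) g (x ≫ q' i) (y ≫ q' i) _ _
        (pullLPE_natural w' ((pullDDFam w).obj D) i g x y v v' hv'))
  comm T i j x₀ x₁ h v := by
    simp only [Equiv.trans_apply, pull_φ, Equiv.apply_symm_apply, D.φ_comp]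

/-- Pulling back along a morphism of families and back is isomorphic to the identity. -/
noncomputable def pullCompIso : pullDDFam w ⋙ pullDDFam w' ≅ 𝟭 (SchDDFam f) :=
  NatIso.ofComponents (fun D => (pullCompPtEquiv w w' D).toIso) (by
    intro D D' a
    apply hom_ext_pushPt
    intro i T x v
    simp only [Functor.id_obj, Functor.id_map, Functor.comp_obj, Functor.comp_map, PtEquiv.toIso]
    rw [pushPt_comp, pushPt_comp, PtEquiv.pushPt_toHom, PtEquiv.pushPt_toHom]
    show D'.φ _ x _ (pullLPE w D' (β i) (x ≫ q' i) (pullLPE w' ((pullDDFam w).obj D') i x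
        (pushPt ((pullDDFam w').map ((pullDDFam w).map a)) v))) =
      pushPt a (D.φ _ x _ (pullLPE w D (β i) (x ≫ q' i) (pullLPE w' ((pullDDFam w).obj D) i x v)))
    rw [pullLPE_pushPt, pullLPE_pushPt, comm_pushPt])

end comp

end Groth.Agent.Lib.Helper16
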