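import Groth.Agent.Lib.Helper16.UnivClosed
import Groth.Agent.Lib.Helper16.UnivRep
import Groth.Agent.Lib.Helper16.DiagProps
import Groth.Agent.Lib.Helper16.QuasiCompactMor
import Mathlib.AlgebraicGeometry.ZariskisMainTheorem

/-!
# Helper library (helper16): separation properties descend along surjective universally closed morphisms
-/

set_option autoImplicit false
universe u
open CategoryTheory CategoryTheory.Limits AlgebraicGeometry Opposite Topology

namespace Groth.Agent.Lib.Helper16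

open AlgSp

/-- For `f : X ⟶ Y`, `q : Y ⟶ B` and `z : Z ⟶ Y ×_B Y`, the fibre product `W = X ×_Y E` with `E = Y ×_{Y ×_B Y} Z` is a
base change of the diagonal of `f ≫ q` along `Z'' ⟶ X ×_B X`, where `Z'' ⟶ Z' ⟶ Z` are two successive base changes of
`f`. -/
theorem isPullback_diag_factor {C : Type*} [Category C] [HasPullbacks C] {X Y B Z Z' Z'' E W : C} {f : X ⟶ Y}
    {q : Y ⟶ B} {z : Z ⟶ pullback q q} {a' : Z' ⟶ X} {ζ' : Z' ⟶ Z}
    (sq' : IsPullback a' ζ' f (z ≫ pullback.fst q q)) {a'' : Z'' ⟶ X} {ζ'' : Z'' ⟶ Z'}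
    (sq'' : IsPullback a'' ζ'' f (ζ' ≫ z ≫ pullback.snd q q)) {ε : E ⟶ Y} {e : E ⟶ Z}
    (sqE : IsPullback ε e (pullback.diagonal q) z) {w₁ : W ⟶ X} {π : W ⟶ E} (sqW : IsPullback w₁ π f ε)
    (χ : Z'' ⟶ pullback (f ≫ q) (f ≫ q)) (hχ1 : χ ≫ pullback.fst (f ≫ q) (f ≫ q) = ζ'' ≫ a')
    (hχ2 : χ ≫ pullback.snd (f ≫ q) (f ≫ q) = a'') :
    ∃ l : W ⟶ Z'', IsPullback w₁ l (pullback.diagonal (f ≫ q)) χ ∧ l ≫ ζ'' ≫ ζ' = π ≫ e := by
  have hε1 : ε = e ≫ z ≫ pullback.fst q q := by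
    have := congrArg (· ≫ pullback.fst q q) sqE.w
    simp only [Category.assoc, pullback.diagonal_fst, Category.comp_id] at this
    exact this
  have hε2 : ε = e ≫ z ≫ pullback.snd q q := by
    have := congrArg (· ≫ pullback.snd q q) sqE.w
    simp only [Category.assoc, pullback.diagonal_snd, Category.comp_id] at this
    exact this
  have h1 : w₁ ≫ f = (π ≫ e) ≫ z ≫ pullback.fst q q := by
    rw [sqW.w, Category.assoc, ← hε1]
  obtain ⟨l', hl'1, hl'2⟩ : ∃ l' : W ⟶ Z', l' ≫ a' = w₁ ∧ l' ≫ ζ' = π ≫ e :=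
    ⟨sq'.lift _ _ h1, sq'.lift_fst _ _ _, sq'.lift_snd _ _ _⟩
  have h2 : w₁ ≫ f = l' ≫ ζ' ≫ z ≫ pullback.snd q q := by
    rw [← Category.assoc, hl'2, sqW.w, Category.assoc, ← hε2]
  obtain ⟨l, hl1, hl2⟩ : ∃ l : W ⟶ Z'', l ≫ a'' = w₁ ∧ l ≫ ζ'' = l' :=
    ⟨sq''.lift _ _ h2, sq''.lift_fst _ _ _, sq''.lift_snd _ _ _⟩
  have hl3 : l ≫ ζ'' ≫ ζ' = π ≫ e := by rw [← Category.assoc, hl2, hl'2]
  refine ⟨l, ?_, hl3⟩
  refine isPullback_of_exists_lift ?_ ?_ ?_
  · apply pullback.hom_ext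
    · rw [Category.assoc, pullback.diagonal_fst, Category.comp_id, Category.assoc, hχ1, ← Category.assoc, hl2,
        hl'1]
    · rw [Category.assoc, pullback.diagonal_snd, Category.comp_id, Category.assoc, hχ2, hl1]
  · intro Q x y h
    have hx1 : x = y ≫ ζ'' ≫ a' := by
      have := congrArg (· ≫ pullback.fst (f ≫ q) (f ≫ q)) h
      simp only [Category.assoc, pullback.diagonal_fst, Category.comp_id, hχ1] at this
      exact this
    have hx2 : x = y ≫ a'' := by
      have := congrArg (· ≫ pullback.snd (f ≫ q) (f ≫ q)) h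
      simp only [Category.assoc, pullback.diagonal_snd, Category.comp_id, hχ2] at this
      exact this
    have hn : (x ≫ f) ≫ pullback.diagonal q = (y ≫ ζ'' ≫ ζ') ≫ z := by
      apply pullback.hom_ext
      · rw [Category.assoc, pullback.diagonal_fst, Category.comp_id]
        conv_lhs => rw [hx1]
        simp only [Category.assoc]
        rw [sq'.w]
      · rw [Category.assoc, pullback.diagonal_snd, Category.comp_id]
        conv_lhs => rw [hx2]
        simp only [Category.assoc]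
        rw [sq''.w]
    obtain ⟨n, hn1, hn2⟩ : ∃ n : Q ⟶ E, n ≫ ε = x ≫ f ∧ n ≫ e = y ≫ ζ'' ≫ ζ' :=
      ⟨sqE.lift _ _ hn, sqE.lift_fst _ _ _, sqE.lift_snd _ _ _⟩
    obtain ⟨m, hm1, hm2⟩ : ∃ m : Q ⟶ W, m ≫ w₁ = x ∧ m ≫ π = n :=
      ⟨sqW.lift x n hn1.symm, sqW.lift_fst _ _ _, sqW.lift_snd _ _ _⟩
    refine ⟨m, hm1, ?_⟩
    apply sq''.hom_ext
    · rw [Category.assoc, hl1, hm1, hx2]
    · apply sq'.hom_ext
      · simp only [Category.assoc]
        rw [← Category.assoc l, hl2, hl'1, hm1]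
        exact hx1
      · simp only [Category.assoc]
        rw [hl3, ← Category.assoc m, hm2, hn2]
  · intro Q m m' hm hml
    apply sqW.hom_ext hm
    apply sqE.hom_ext
    · rw [Category.assoc, Category.assoc, ← sqW.w, ← Category.assoc m, ← Category.assoc m', hm]
    · rw [Category.assoc, Category.assoc, ← hl3, ← Category.assoc m, ← Category.assoc m', hml]

variable {S : Scheme.{u}}

/-- The data of `isPullback_diag_factor` for sheaves. -/
theorem exists_diag_factor {X Y B Z E : Sp S} (f : X ⟶ Y) (q : Y ⟶ B) (z : Z ⟶ pullback q q) {ε : E ⟶ Y}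
    {e : E ⟶ Z} (sqE : IsPullback ε e (pullback.diagonal q) z) :
    ∃ (Z' Z'' W : Sp S) (a' : Z' ⟶ X) (ζ' : Z' ⟶ Z) (a'' : Z'' ⟶ X) (ζ'' : Z'' ⟶ Z') (w₁ : W ⟶ X)
      (π : W ⟶ E) (l : W ⟶ Z'') (χ : Z'' ⟶ pullback (f ≫ q) (f ≫ q)),
      IsPullback a' ζ' f (z ≫ pullback.fst q q) ∧ IsPullback a'' ζ'' f (ζ' ≫ z ≫ pullback.snd q q) ∧
      IsPullback w₁ π f ε ∧ IsPullback w₁ l (pullback.diagonal (f ≫ q)) χ ∧ l ≫ ζ'' ≫ ζ' = π ≫ e := by
  have sq' := IsPullback.of_hasPullback f (z ≫ pullback.fst q q)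
  have sq'' := IsPullback.of_hasPullback f (pullback.snd f (z ≫ pullback.fst q q) ≫ z ≫ pullback.snd q q)
  have sqW := IsPullback.of_hasPullback f ε
  have hχ : (pullback.snd f (pullback.snd f (z ≫ pullback.fst q q) ≫ z ≫ pullback.snd q q) ≫
      pullback.fst f (z ≫ pullback.fst q q)) ≫ (f ≫ q) =
      pullback.fst f (pullback.snd f (z ≫ pullback.fst q q) ≫ z ≫ pullback.snd q q) ≫ (f ≫ q) := by
    rw [Category.assoc, ← Category.assoc (pullback.fst f (z ≫ pullback.fst q q)), sq'.w,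
      ← Category.assoc (pullback.fst f (pullback.snd f (z ≫ pullback.fst q q) ≫ z ≫ pullback.snd q q)), sq''.w]
    simp only [Category.assoc]
    rw [pullback.condition]
  obtain ⟨l, hl, hl'⟩ := isPullback_diag_factor sq' sq'' sqE sqW (pullback.lift _ _ hχ)
    (pullback.lift_fst _ _ _) (pullback.lift_snd _ _ _)
  exact ⟨_, _, _, _, _, _, _, _, _, l, _, sq', sq'', sqW, hl, hl'⟩

/-- Quasi-compactness of the diagonal descends along surjective universally closed morphisms. -/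
theorem isQuasiCompactMor_diagonal_of_surjective_univClosed {X Y B : Sp S} (hX : IsAlgSpace X)
    (hY : IsAlgSpace Y) (hB : IsAlgSpace B) (f : X ⟶ Y) (q : Y ⟶ B) (hs : IsSurjectiveMor f)
    (hc : IsUnivClosedMor f) (hp : IsQuasiCompactMor (pullback.diagonal (f ≫ q))) :
    IsQuasiCompactMor (pullback.diagonal q) := by
  intro Z E hZ hZq z ε e sqE
  have hfq : IsQuasiCompactMor f := isQuasiCompactMor_of_isUnivClosedMor hX hY f hc
  have hYY : IsAlgSpace (pullback q q) :=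
    isAlgSpace_of_isPullback hY hB.diag hY (IsPullback.of_hasPullback q q)
  have hE : IsAlgSpace E := isAlgSpace_of_isPullback hY hYY.diag hZ sqE
  obtain ⟨Z', Z'', W, a', ζ', a'', ζ'', w₁, π, l, χ, sq', sq'', sqW, sqΔ, hl⟩ := exists_diag_factor f q z sqE
  have hZ' : IsAlgSpace Z' := isAlgSpace_of_isPullback hX hY.diag hZ sq'
  have hZ'q : IsQuasiCompactSp Z' := hfq hZ hZq _ _ _ sq'
  have hZ'' : IsAlgSpace Z'' := isAlgSpace_of_isPullback hX hY.diag hZ' sq''
  have hZ''q : IsQuasiCompactSp Z'' := hfq hZ' hZ'q _ _ _ sq''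
  have hWq : IsQuasiCompactSp W := hp hZ'' hZ''q χ w₁ l sqΔ
  have hWc : CompactSpace (Points W) := compactSpace_points_of_isQuasiCompactSp hWq
  have hπs : Function.Surjective (Points.map π) := by
    intro y'
    obtain ⟨x, hx⟩ := hs (Points.map ε y')
    obtain ⟨w, -, hw⟩ := exists_point_of_isPullback sqW x y' hx
    exact ⟨w, hw⟩
  have hEc : CompactSpace (Points E) := hπs.compactSpace (Points.continuous_map π)
  exact isQuasiCompactSp_of_compactSpace hE

/-- Universal closedness of the diagonal descends along surjective universally closed morphisms. -/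
theorem isUnivClosedMor_diagonal_of_surjective_univClosed {X Y B : Sp S} (hX : IsAlgSpace X)
    (hY : IsAlgSpace Y) (f : X ⟶ Y) (q : Y ⟶ B) (hs : IsSurjectiveMor f)
    (hc : IsUnivClosedMor f) (hp : IsUnivClosedMor (pullback.diagonal (f ≫ q))) :
    IsUnivClosedMor (pullback.diagonal q) := by
  intro Z E hZ z ε e sqE
  obtain ⟨Z', Z'', W, a', ζ', a'', ζ'', w₁, π, l, χ, sq', sq'', sqW, sqΔ, hl⟩ := exists_diag_factor f q z sqE
  have hZ' : IsAlgSpace Z' := isAlgSpace_of_isPullback hX hY.diag hZ sq'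
  have hZ'' : IsAlgSpace Z'' := isAlgSpace_of_isPullback hX hY.diag hZ' sq''
  have hζ' : IsClosedMap (Points.map ζ') := hc hZ _ _ _ sq'
  have hζ'' : IsClosedMap (Points.map ζ'') := hc hZ' _ _ _ sq''
  have hlc : IsClosedMap (Points.map l) := hp hZ'' χ w₁ l sqΔ
  have hπs : Function.Surjective (Points.map π) := by
    intro y'
    obtain ⟨x, hx⟩ := hs (Points.map ε y')
    obtain ⟨w, -, hw⟩ := exists_point_of_isPullback sqW x y' hx
    exact ⟨w, hw⟩
  have hcomp : ∀ w : Points W, Points.map e (Points.map π w) =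
      Points.map ζ' (Points.map ζ'' (Points.map l w)) := by
    intro w
    rw [← Points.map_comp, ← Points.map_comp, ← Points.map_comp, hl]
  show IsClosedMap (Points.map e)
  intro C hC
  have hpre : IsClosed (Points.map π ⁻¹' C) := hC.preimage (Points.continuous_map π)
  have himg : Points.map e '' C = Points.map ζ' '' (Points.map ζ'' '' (Points.map l '' (Points.map π ⁻¹' C))) := by
    ext y
    constructor
    · rintro ⟨c, hcC, rfl⟩
      obtain ⟨w, rfl⟩ := hπs c
      exact ⟨_, ⟨_, ⟨w, hcC, rfl⟩, rfl⟩, (hcomp w).symm⟩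
    · rintro ⟨_, ⟨_, ⟨w, hw, rfl⟩, rfl⟩, rfl⟩
      exact ⟨Points.map π w, hw, hcomp w⟩
  rw [himg]
  exact hζ' _ (hζ'' _ (hlc _ hpre))

end Groth.Agent.Lib.Helper16
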