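import Groth.Agent.Lib.Helper12.SchemeDimIneq2
import Groth.Agent.Lib.Helper16.QfLocus
import Groth.Agent.Lib.Helper16.EtDim
import Groth.Agent.Lib.Helper16.NoethDescent
import Groth.Agent.Lib.Helper16.GeomRedSp
import Groth.Prelude.Def_Dual3

/-!
# Helper library (helper16): transcendence degrees of residue field extensions on chart diagrams, the dimension
inequality on charts
-/

set_option autoImplicit false
universe u
open CategoryTheory CategoryTheory.Limits AlgebraicGeometry Opposite Topology

namespace Groth.Agent.Lib.Helper16.DimF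

open AlgSp Groth.Agent.Lib.Helper16 Groth.Agent.Lib.Helper16.QfAt
open Groth.Agent.Lib.Helper12.SchemeDimIneq Groth.Agent.Lib.Helper12.SchemeDimFT

section Sch

/-- The extended-natural transcendence degree is the image of the cardinal one. -/
theorem trn_eq_toENat {X Y : Scheme.{u}} (f : X ⟶ Y) (x : X) :
    trn f x = Cardinal.toENat (Dual3.resTrdeg f x) := rfl

/-- Transcendence degrees of residue fields add up along a composition. -/
theorem resTrdeg_comp {X Y Z : Scheme.{u}} (f : X ⟶ Y) (q : Y ⟶ Z) (x : X) :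
    Dual3.resTrdeg (f ≫ q) x = Dual3.resTrdeg q (f x) + Dual3.resTrdeg f x := by
  let a1 : Algebra (Z.residueField (q (f x))) (Y.residueField (f x)) :=
    (q.residueFieldMap (f x)).hom.toAlgebra
  let a2 : Algebra (Y.residueField (f x)) (X.residueField x) :=
    (f.residueFieldMap x).hom.toAlgebra
  let a3 : Algebra (Z.residueField (q (f x))) (X.residueField x) :=
    ((f ≫ q).residueFieldMap x).hom.toAlgebra
  have hcomp : (f ≫ q).residueFieldMap x = q.residueFieldMap (f x) ≫ f.residueFieldMap x :=
    Scheme.residueFieldMap_comp f q x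
  have : IsScalarTower (Z.residueField (q (f x))) (Y.residueField (f x)) (X.residueField x) :=
    IsScalarTower.of_algebraMap_eq (fun r => by
      show ((f ≫ q).residueFieldMap x).hom r = _
      rw [hcomp]
      rfl)
  exact (trdeg_add_eq (R := Z.residueField (q (f x))) (S := Y.residueField (f x))
    (A := X.residueField x)).symm

/-- At a point where the morphism is quasi-finite the residue field extension is algebraic. -/
theorem resTrdeg_eq_zero_of_quasiFiniteAt {U V : Scheme.{u}} (h : U ⟶ V) [LocallyOfFiniteType h] (u : U)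
    (hq : h.QuasiFiniteAt u) : Dual3.resTrdeg h u = 0 := by
  have h0 : FlatMor.fibreDimAt h u = 0 := (fibreDimAt_eq_zero_iff h u).2 hq
  rw [fibreDimAt_eq_trn_add] at h0
  have h1 : (0 : WithBot ℕ∞) ≤ ringKrullDim ((h.fiber (h u)).presheaf.stalk (h.asFiber u)) :=
    ringKrullDim_nonneg_of_nontrivial
  have h2 : ((trn h u : ℕ∞) : WithBot ℕ∞) ≤ 0 := by
    rw [← h0]
    exact le_add_of_nonneg_right h1
  have h3 : trn h u ≤ 0 := by exact_mod_cast h2
  have h4 : trn h u = 0 := le_antisymm h3 bot_le
  rw [trn_eq_toENat, Cardinal.toENat_eq_zero] at h4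
  exact h4

theorem resTrdeg_eq_zero_of_locallyQuasiFinite {U V : Scheme.{u}} (h : U ⟶ V) [LocallyOfFiniteType h]
    [LocallyQuasiFinite h] (u : U) : Dual3.resTrdeg h u = 0 :=
  resTrdeg_eq_zero_of_quasiFiniteAt h u (h.quasiFiniteAt u)

theorem resTrdeg_eq_zero_of_etale {U V : Scheme.{u}} (h : U ⟶ V) [Etale h] (u : U) :
    Dual3.resTrdeg h u = 0 := by
  have : LocallyQuasiFinite h := locallyQuasiFinite_of_etale h
  exact resTrdeg_eq_zero_of_locallyQuasiFinite h u

/-- Etale changes of source and target do not change the transcendence degree. -/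
theorem resTrdeg_square {W W' U V : Scheme.{u}} (p : W ⟶ U) (g : W ⟶ W') (π : W' ⟶ V) (h : U ⟶ V)
    [Etale p] [Etale π] (comm : g ≫ π = p ≫ h) (w : W) :
    Dual3.resTrdeg g w = Dual3.resTrdeg h (p w) := by
  have h1 := resTrdeg_comp g π w
  rw [resTrdeg_eq_zero_of_etale π, zero_add] at h1
  have h2 := resTrdeg_comp p h w
  rw [resTrdeg_eq_zero_of_etale p, add_zero] at h2
  rw [← h1, ← h2, comm]

theorem krullDim_Icc_le_coheight {α : Type*} [Preorder α] (a b : α) :
    Order.krullDim (Set.Icc a b) ≤ ((Order.coheight a : ℕ∞) : WithBot ℕ∞) := by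
  rw [Order.coheight_eq_krullDim_Ici]
  exact Order.krullDim_le_of_strictMono (fun z : Set.Icc a b => (⟨z.1, z.2.1⟩ : Set.Ici a))
    (fun x y hxy => hxy)

/-- **The dimension inequality at a point**, with a bound on the transcendence degrees at the maximal points. -/
theorem stalk_add_trn_le {U V : Scheme.{u}} (h : U ⟶ V) [LocallyOfFiniteType h] [IsLocallyNoetherian V]
    (u : U) (E' : ℕ∞) (hE : ∀ ξ : U, ξ ⤳ u → IsMaxPt ξ → trn h ξ ≤ E') :
    ringKrullDim (U.presheaf.stalk u) + ((trn h u : ℕ∞) : WithBot ℕ∞) ≤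
      ringKrullDim (V.presheaf.stalk (h u)) + ((E' : ℕ∞) : WithBot ℕ∞) := by
  rw [ringKrullDim_stalk_eq_coheight, ringKrullDim_stalk_eq_coheight]
  have key : ∀ p : LTSeries U, p.head = u →
      (p.length : ℕ∞) + trn h u ≤ Order.coheight (h u) + E' := by
    intro p hp
    obtain ⟨ξ, hξmax, hξ⟩ := exists_isMaxPt_specializes p.last
    have hul : u ≤ p.last := hp ▸ LTSeries.head_le_last p
    have hξu : ξ ⤳ u := hξ.trans hul
    have h1 := scheme_dimIneq h u ξ hξu
    have h2 : ((p.length : ℕ) : WithBot ℕ∞) ≤ Order.krullDim (Set.Icc u ξ) := by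
      let p' : LTSeries (Set.Icc u ξ) :=
        ⟨p.length, fun i => ⟨p i, hp ▸ LTSeries.head_le p i, le_trans (p.strictMono.monotone (Fin.le_last i)) hξ⟩,
          fun i => p.step i⟩
      exact Order.LTSeries.length_le_krullDim p'
    have h3 := krullDim_Icc_le_coheight (h u) (h ξ)
    have h4 := hE ξ hξu hξmax
    have h5 : (((p.length : ℕ∞) + trn h u : ℕ∞) : WithBot ℕ∞) ≤
        ((Order.coheight (h u) + E' : ℕ∞) : WithBot ℕ∞) := by
      rw [WithBot.coe_add, WithBot.coe_add]
      calc ((p.length : ℕ∞) : WithBot ℕ∞) + ((trn h u : ℕ∞) : WithBot ℕ∞)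
          ≤ Order.krullDim (Set.Icc u ξ) + ((trn h u : ℕ∞) : WithBot ℕ∞) := add_le_add h2 le_rfl
        _ ≤ Order.krullDim (Set.Icc (h u) (h ξ)) + ((trn h ξ : ℕ∞) : WithBot ℕ∞) := h1
        _ ≤ _ := add_le_add h3 (WithBot.coe_le_coe.2 h4)
    exact WithBot.coe_le_coe.1 h5
  have ht : trn h u ≤ Order.coheight (h u) + E' := by
    have := key (RelSeries.singleton _ u) rfl
    simpa using this
  have hc : Order.coheight u ≤ Order.coheight (h u) + E' - trn h u := by
    rw [Order.coheight_le_iff']
    intro p hp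
    exact ENat.le_sub_of_add_le_right (trn_ne_top h u) (key p hp)
  have hfin : Order.coheight u + trn h u ≤ Order.coheight (h u) + E' :=
    calc Order.coheight u + trn h u ≤ (Order.coheight (h u) + E' - trn h u) + trn h u :=
          add_le_add hc le_rfl
      _ = _ := tsub_add_cancel_of_le ht
  rw [← WithBot.coe_add, ← WithBot.coe_add]
  exact WithBot.coe_le_coe.2 hfin

end Sch

end Groth.Agent.Lib.Helper16.DimF
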