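import Groth.Agent.Lib.Helper16.DimF1

/-!
# Helper library (helper16): transcendence degree at a point of an algebraic space (chart independence), the dimension
inequality for algebraic spaces on chart diagrams
-/

set_option autoImplicit false
universe u
open CategoryTheory CategoryTheory.Limits AlgebraicGeometry Opposite Topology

namespace Groth.Agent.Lib.Helper16.DimF

open AlgSp Groth.Agent.Lib.Helper16 Groth.Agent.Lib.Helper16.QfAt
open Groth.Agent.Lib.Helper12.SchemeDimIneq Groth.Agent.Lib.Helper12.SchemeDimFT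

variable {S : Scheme.{u}}

/-- The transcendence degree at a point does not depend on the chart diagram. -/
theorem resTrdeg_transfer {X Y : Sp S} (f : X ⟶ Y) {U V U₁ V₁ : Over S}
    (a : (yon S).obj U ⟶ X) (b : (yon S).obj V ⟶ Y) (h : U ⟶ V)
    (a₁ : (yon S).obj U₁ ⟶ X) (b₁ : (yon S).obj V₁ ⟶ Y) (m : U₁ ⟶ V₁)
    (ha : RepWith @Etale a) (hb : RepWith @Etale b) (ha₁ : RepWith @Etale a₁) (hb₁ : RepWith @Etale b₁)
    (hc : a ≫ f = (yon S).map h ≫ b) (hc₁ : a₁ ≫ f = (yon S).map m ≫ b₁)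
    (u : ↥U.left) (u₁ : ↥U₁.left) (hu : Points.ofPt a u = Points.ofPt a₁ u₁) :
    Dual3.resTrdeg h.left u = Dual3.resTrdeg m.left u₁ := by
  obtain ⟨W, p, q₀, sqW⟩ := ha₁.rep a
  obtain ⟨q, rfl⟩ := (yon S).map_surjective q₀
  have hp : Etale p.left := ha₁.property _ _ _ sqW
  have hq' : Etale q.left := ha.property _ _ _ sqW.flip
  obtain ⟨w, hw1, hw2⟩ := exists_point_of_isPullback_yon_yon sqW u₁ u hu.symm
  obtain ⟨V'', π, π₁₀, sqV⟩ := hb₁.rep b
  obtain ⟨π₁, rfl⟩ := (yon S).map_surjective π₁₀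
  have hπ : Etale π.left := hb₁.property _ _ _ sqV
  have hπ₁ : Etale π₁.left := hb.property _ _ _ sqV.flip
  have hcomm : (yon S).map (q ≫ m) ≫ b₁ = (yon S).map (p ≫ h) ≫ b := by
    rw [Functor.map_comp, Functor.map_comp, Category.assoc, Category.assoc, ← hc₁, ← hc,
      ← Category.assoc, ← Category.assoc, sqW.w]
  obtain ⟨g, hg⟩ := (yon S).map_surjective (sqV.lift _ _ hcomm)
  have hg1 : g ≫ π₁ = q ≫ m := by
    apply (yon S).map_injective
    rw [Functor.map_comp, hg, sqV.lift_fst]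
  have hg2 : g ≫ π = p ≫ h := by
    apply (yon S).map_injective
    rw [Functor.map_comp, hg, sqV.lift_snd]
  have hg1' : g.left ≫ π₁.left = q.left ≫ m.left := by rw [← Over.comp_left, hg1, Over.comp_left]
  have hg2' : g.left ≫ π.left = p.left ≫ h.left := by rw [← Over.comp_left, hg2, Over.comp_left]
  subst hw1 hw2
  rw [← resTrdeg_square p.left g.left π.left h.left hg2' w,
    ← resTrdeg_square q.left g.left π₁.left m.left hg1' w]

/-- `HasAtMor (resTrdeg = r)` can be tested on any chart diagram through the point. -/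
theorem hasAtMor_resTrdeg_iff {X Y : Sp S} (f : X ⟶ Y) {U V : Over S}
    (a : (yon S).obj U ⟶ X) (b : (yon S).obj V ⟶ Y) (h : U ⟶ V)
    (ha : RepWith @Etale a) (hb : RepWith @Etale b) (hc : a ≫ f = (yon S).map h ≫ b)
    (u : ↥U.left) (r : Cardinal.{u}) :
    HasAtMor (fun _ _ h u => Dual3.resTrdeg h u = r) f (Points.ofPt a u) ↔
      Dual3.resTrdeg h.left u = r := by
  constructor
  · rintro ⟨U', V', a', b', h', u', ha', hb', hc', hu', hr⟩
    rw [← hr]
    exact (resTrdeg_transfer f a' b' h' a b h ha' hb' ha hb hc' hc u' u hu').symm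
  · intro hr
    exact ⟨U, V, a, b, h, u, ha, hb, hc, rfl, hr⟩

/-- `HasAt (dim O = c)` can be tested on any chart through the point. -/
theorem hasAt_dim_iff {X : Sp S} {U : Over S} (a : (yon S).obj U ⟶ X) (ha : RepWith @Etale a)
    (u : ↥U.left) (c : WithBot ℕ∞) :
    HasAt (fun U u => ringKrullDim ↥(U.presheaf.stalk u) = c) X (Points.ofPt a u) ↔
      ringKrullDim ↥(U.left.presheaf.stalk u) = c :=
  HasAtChart.hasAt_iff_of_chart (fun U u => ringKrullDim ↥(U.presheaf.stalk u) = c)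
    (fun g _ v => by rw [EtDim.ringKrullDim_stalk_eq_of_etale g v]) a ha u

theorem hasAt_dim_le_iff {X : Sp S} {U : Over S} (a : (yon S).obj U ⟶ X) (ha : RepWith @Etale a)
    (u : ↥U.left) (c : WithBot ℕ∞) :
    HasAt (fun U u => ringKrullDim ↥(U.presheaf.stalk u) ≤ c) X (Points.ofPt a u) ↔
      ringKrullDim ↥(U.left.presheaf.stalk u) ≤ c :=
  HasAtChart.hasAt_iff_of_chart (fun U u => ringKrullDim ↥(U.presheaf.stalk u) ≤ c)
    (fun g _ v => by rw [EtDim.ringKrullDim_stalk_eq_of_etale g v]) a ha u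

/-- Maximal points are the points whose local ring has dimension zero. -/
theorem isMaxPt_iff_dim_zero {U : Scheme.{u}} (u : U) :
    IsMaxPt u ↔ ringKrullDim ↥(U.presheaf.stalk u) = 0 := by
  rw [ringKrullDim_stalk_eq_coheight]
  have h0 : ((Order.coheight u : ℕ∞) : WithBot ℕ∞) = 0 ↔ Order.coheight u = 0 := by
    rw [← WithBot.coe_zero, WithBot.coe_inj]
  rw [h0, Order.coheight_eq_zero]
  constructor
  · intro h b hb
    have : b = u := h b hb
    rw [this]
  · intro h y hy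
    have h1 : y ≤ u := h hy
    exact (hy.antisymm h1).eq

/-- Every etale chart of a locally Noetherian algebraic space is locally Noetherian. -/
theorem isLocallyNoetherian_of_chart {Y : Sp S} (hY : IsLocNoethSp Y) {V : Over S}
    (b : (yon S).obj V ⟶ Y) (hb : RepWith @Etale b) : IsLocallyNoetherian V.left := by
  obtain ⟨V₀, p, hp, hps, hN⟩ := hY
  obtain ⟨W, snd, fst₀, sq⟩ := hp.rep b
  obtain ⟨fst, rfl⟩ := (yon S).map_surjective fst₀
  have h1 : Etale snd.left := hp.property _ _ _ sq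
  have h2 : Surjective snd.left := hps.property _ _ _ sq
  have h3 : Etale fst.left := hb.property _ _ _ sq.flip
  have hN' : IsLocallyNoetherian V₀.left := hN
  have hW : IsLocallyNoetherian W.left := LocallyOfFiniteType.isLocallyNoetherian fst.left
  exact isLocallyNoetherian_of_fppf_surjective snd.left

/-- **The dimension inequality on a chart diagram** of a morphism of algebraic spaces. -/
theorem chart_dimIneq {X Y : Sp S} (f : X ⟶ Y) (hY : IsLocNoethSp Y) (hf : LocP @LocallyOfFiniteType f)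
    {U V : Over S} (a : (yon S).obj U ⟶ X) (b : (yon S).obj V ⟶ Y) (h : U ⟶ V)
    (ha : RepWith @Etale a) (hb : RepWith @Etale b) (hc : a ≫ f = (yon S).map h ≫ b)
    (u : ↥U.left) (E : Cardinal.{u})
    (hE : ∀ ξ : Points X, ξ ⤳ Points.ofPt a u →
      HasAt (fun U u => ringKrullDim ↥(U.presheaf.stalk u) = 0) X ξ →
      ∀ s : Cardinal.{u}, HasAtMor (fun _ _ h u => Dual3.resTrdeg h u = s) f ξ → s ≤ E) :
    ringKrullDim ↥(U.left.presheaf.stalk u) +
        ((Cardinal.toENat (Dual3.resTrdeg h.left u) : ℕ∞) : WithBot ℕ∞) ≤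
      ringKrullDim ↥(V.left.presheaf.stalk (h.left u)) + ((Cardinal.toENat E : ℕ∞) : WithBot ℕ∞) := by
  have : IsLocallyNoetherian V.left := isLocallyNoetherian_of_chart hY b hb
  have : LocallyOfFiniteType h.left := hf _ _ h ha hb hc
  refine stalk_add_trn_le h.left u (Cardinal.toENat E) ?_
  intro ξ hξu hξmax
  have h1 : Points.ofPt a ξ ⤳ Points.ofPt a u := hξu.map (Points.continuous_ofPt a)
  have h2 : HasAt (fun U u => ringKrullDim ↥(U.presheaf.stalk u) = 0) X (Points.ofPt a ξ) :=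
    (hasAt_dim_iff a ha ξ 0).2 ((isMaxPt_iff_dim_zero ξ).1 hξmax)
  have h3 := hE _ h1 h2 _ ((hasAtMor_resTrdeg_iff f a b h ha hb hc ξ _).2 rfl)
  rw [trn_eq_toENat]
  exact Cardinal.toENat.monotone' h3

/-- Chart towers for a composition. -/
theorem exists_chart_tower {X Y Z : Sp S} (hX : IsAlgSpace X) (hY : IsAlgSpace Y) (hZ : IsAlgSpace Z)
    (f : X ⟶ Y) (g : Y ⟶ Z) :
    ∃ (U V W : Over S) (a : (yon S).obj U ⟶ X) (b : (yon S).obj V ⟶ Y) (c : (yon S).obj W ⟶ Z)
      (h : U ⟶ V) (k : V ⟶ W), RepWith @Etale a ∧ RepWith @Etale b ∧ RepWith @Etale c ∧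
      RepWith @Surjective a ∧ a ≫ f = (yon S).map h ≫ b ∧ b ≫ g = (yon S).map k ≫ c := by
  obtain ⟨W, c, hce, hcs⟩ := hZ.atlas
  obtain ⟨V₀, b₀, hb₀e, hb₀s⟩ := hY.atlas
  obtain ⟨U₀, a₀, ha₀e, ha₀s⟩ := hX.atlas
  obtain ⟨V, k, cV, hbe, hbc, -, -, hbs⟩ := exists_chart_diagram g c hce b₀ hb₀e
  obtain ⟨U, h, cU, hae, hac, -, -, has⟩ := exists_chart_diagram f _ hbe a₀ ha₀e
  exact ⟨U, V, W, _, _, c, h, k, hae, hbe, hce, has (hbs hcs hb₀s) ha₀s, hac, hbc⟩

end Groth.Agent.Lib.Helper16.DimF
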