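import Groth.Agent.Lib.Helper16.DimF2

/-!
# Helper library (helper16): quasi-finiteness over points of codimension at most one
-/

set_option autoImplicit false
universe u
open CategoryTheory CategoryTheory.Limits AlgebraicGeometry Opposite Topology

namespace Groth.Agent.Lib.Helper16.DimF

open AlgSp Groth.Agent.Lib.Helper16 Groth.Agent.Lib.Helper16.QfAt
open Groth.Agent.Lib.Helper12.SchemeDimIneq Groth.Agent.Lib.Helper12.SchemeDimFT

theorem krullDim_Icc_self_le {α : Type*} [Preorder α] (a : α) : Order.krullDim (Set.Icc a a) ≤ 0 := by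
  rw [Order.krullDim_nonpos_iff_forall_isMax]
  rintro ⟨x, hx1, hx2⟩ ⟨z, hz1, hz2⟩ _
  exact (show z ≤ x from le_trans hz2 hx1)

theorem one_le_krullDim_Icc {α : Type*} [Preorder α] {a b : α} (h : a < b) :
    (1 : WithBot ℕ∞) ≤ Order.krullDim (Set.Icc a b) :=
  Order.one_le_krullDim_iff.2 ⟨⟨a, le_rfl, h.le⟩, ⟨b, h.le, le_rfl⟩, h⟩

theorem lt_of_specializes_of_ne {U : Scheme.{u}} {x ξ : U} (h : ξ ⤳ x) (hne : ξ ≠ x) : x < ξ :=
  ⟨h, fun h' => hne (h.antisymm h').eq⟩

theorem one_le_dim_of_not_isMaxPt {U : Scheme.{u}} (u : U) (h : ¬ IsMaxPt u) :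
    (1 : WithBot ℕ∞) ≤ ringKrullDim ↥(U.presheaf.stalk u) := by
  have h1 : ringKrullDim ↥(U.presheaf.stalk u) ≠ 0 := fun h0 => h ((isMaxPt_iff_dim_zero u).2 h0)
  rw [ringKrullDim_stalk_eq_coheight] at h1 ⊢
  have h2 : Order.coheight u ≠ 0 := fun h0 => h1 (by rw [h0]; rfl)
  have h3 : (1 : ℕ∞) ≤ Order.coheight u := Order.one_le_iff_ne_zero.2 h2
  exact_mod_cast h3

section

variable {U V : Scheme.{u}} (h : U ⟶ V) [LocallyOfFiniteType h] [IsLocallyNoetherian V]

/-- Over a point of codimension at most one all of whose generic generizations upstairs are algebraic, every point of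
the fibre is algebraic. -/
theorem trn_eq_zero_of_codim_le_one (u : U) (hv : ringKrullDim ↥(V.presheaf.stalk (h u)) ≤ 1)
    (hgen : ∀ ξ : U, IsMaxPt ξ → h ξ ⤳ h u → trn h ξ = 0) : trn h u = 0 := by
  by_cases hmax : IsMaxPt u
  · exact hgen u hmax specializes_rfl
  · have key := stalk_add_trn_le h u 0 (fun ξ hξ hξm => by
      rw [hgen ξ hξm (hξ.map h.continuous)])
    have h1 := one_le_dim_of_not_isMaxPt u hmax
    have h2 : (1 : WithBot ℕ∞) + ((trn h u : ℕ∞) : WithBot ℕ∞) ≤ 1 :=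
      calc (1 : WithBot ℕ∞) + ((trn h u : ℕ∞) : WithBot ℕ∞)
          ≤ ringKrullDim ↥(U.presheaf.stalk u) + ((trn h u : ℕ∞) : WithBot ℕ∞) := add_le_add h1 le_rfl
        _ ≤ _ := key
        _ ≤ 1 + ((0 : ℕ∞) : WithBot ℕ∞) := add_le_add hv le_rfl
        _ = 1 := by simp
    have h3 : (1 : ℕ∞) + trn h u ≤ 1 := by exact_mod_cast h2
    obtain ⟨t, ht⟩ := exists_trn_eq h u
    rw [ht] at h3 ⊢
    have h4 : 1 + t ≤ 1 := by exact_mod_cast h3
    have : t = 0 := by omega
    rw [this]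
    rfl

/-- **Quasi-finiteness over points of codimension at most one.** -/
theorem quasiFiniteAt_of_codim_le_one (u : U) (hv : ringKrullDim ↥(V.presheaf.stalk (h u)) ≤ 1)
    (hgen : ∀ ξ : U, IsMaxPt ξ → h ξ ⤳ h u → trn h ξ = 0) : h.QuasiFiniteAt u := by
  have hA : ∀ u' : U, h u' = h u → trn h u' = 0 := by
    intro u' he
    refine trn_eq_zero_of_codim_le_one h u' (he ▸ hv) (fun ξ hξm hξs => hgen ξ hξm (he ▸ hξs))
  have hB : IsMaxPt (h.asFiber u) := by
    intro t ht
    by_contra hne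
    have e1 : h.fiberι (h u) (h.asFiber u) = u := h.fiberι_asFiber u
    have hs : h.fiberι (h u) t ⤳ u := by
      have := ht.map (h.fiberι (h u)).continuous
      rwa [e1] at this
    have hne' : h.fiberι (h u) t ≠ u := fun he =>
      hne ((h.fiberι (h u)).isEmbedding.injective (he.trans e1.symm))
    have hfib : h (h.fiberι (h u) t) = h u := by
      have h1 : h.fiberι (h u) t ∈ Set.range (h.fiberι (h u)) := ⟨t, rfl⟩
      rw [h.range_fiberι (h u)] at h1
      exact h1
    have d := scheme_dimIneq h u (h.fiberι (h u) t) hs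
    have d1 := one_le_krullDim_Icc (lt_of_specializes_of_ne hs hne')
    have d2 : Order.krullDim (Set.Icc (h u) (h (h.fiberι (h u) t))) ≤ 0 := by
      rw [hfib]
      exact krullDim_Icc_self_le _
    rw [hA u rfl, hA _ hfib] at d
    have d3 : (1 : WithBot ℕ∞) + ((0 : ℕ∞) : WithBot ℕ∞) ≤ 0 + ((0 : ℕ∞) : WithBot ℕ∞) :=
      le_trans (add_le_add d1 le_rfl) (le_trans d (add_le_add d2 le_rfl))
    simp at d3
    exact absurd d3 (not_le.2 zero_lt_one)
  rw [← fibreDimAt_eq_zero_iff, fibreDimAt_eq_trn_add, hA u rfl, (isMaxPt_iff_dim_zero _).1 hB]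
  simp

end

end Groth.Agent.Lib.Helper16.DimF
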