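import Groth.Agent.Lib.Helper16.DimF3
import Groth.Agent.Lib.Helper16.FieldLft
import Groth.Agent.Lib.Helper15.MaxPts
import Groth.Agent.Lib.Helper16.Birat2
import Groth.Agent.S10338

/-!
# Helper library (helper16): maximal points of locally Noetherian schemes lie in every dense open
-/

set_option autoImplicit false
universe u
open CategoryTheory CategoryTheory.Limits AlgebraicGeometry Opposite Topology TopologicalSpace

namespace Groth.Agent.Lib.Helper16.DimF

open AlgSp Groth.Agent.Lib.Helper16 Groth.Agent.Lib.Helper16.QfAt Groth.Agent.Lib.Helper15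
open Groth.Agent.Lib.Helper12.SchemeDimIneq Groth.Agent.Lib.Helper12.SchemeDimFT

/-- A maximal point of a locally Noetherian scheme has an open neighbourhood consisting of specializations of it. -/
theorem exists_open_nhd_of_isMaxPt (U : Scheme.{u}) [IsLocallyNoetherian U] (u : U) (hu : IsMaxPt u) :
    ∃ N : Set U, IsOpen N ∧ u ∈ N ∧ ∀ z ∈ N, u ⤳ z := by
  obtain ⟨_, ⟨A, hA, rfl⟩, huA, -⟩ := U.isBasis_affineOpens.exists_subset_of_mem_open
    (Set.mem_univ u) isOpen_univ
  have hN : NoetherianSpace ↥A := DimZero.noetherianSpace_coe U A hA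
  have hfin : (irreducibleComponents ↥A).Finite := NoetherianSpace.finite_irreducibleComponents
  have hval : IsOpenEmbedding (Subtype.val : ↥A → U) := A.2.isOpenEmbedding_subtypeVal
  have hQA : QuasiSober ↥A := hval.quasiSober
  let t' : ↥A := ⟨u, huA⟩
  have ht'max : ∀ z : ↥A, z ⤳ t' → z = t' := fun z hz =>
    Subtype.ext (hu z.1 (hz.map continuous_subtype_val))
  let W : Set ↥A := ⋃ Z ∈ (irreducibleComponents ↥A \ {closure {t'}}), Z
  have hWc : IsClosed W := by
    apply Set.Finite.isClosed_biUnion (hfin.subset Set.sdiff_subset)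
    intro Z hZ
    exact isClosed_of_mem_irreducibleComponents Z hZ.1
  have ht'W : t' ∉ W := by
    intro h
    obtain ⟨Z, hZ⟩ := Set.mem_iUnion.1 h
    obtain ⟨⟨hZ1, hZ2⟩, htZ⟩ := Set.mem_iUnion.1 hZ
    obtain ⟨ξ'', rfl⟩ := NT.exists_eq_closure_singleton_of_mem_irreducibleComponents hZ1
    apply hZ2
    have hs : ξ'' ⤳ t' := specializes_iff_mem_closure.2 htZ
    rw [ht'max ξ'' hs]
    exact Set.mem_singleton _
  have hsp : ∀ o : ↥A, o ∉ W → t' ⤳ o := by
    intro o ho
    by_contra hne
    apply ho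
    refine Set.mem_iUnion.2 ⟨irreducibleComponent o, Set.mem_iUnion.2
      ⟨⟨irreducibleComponent_mem_irreducibleComponents o, ?_⟩, mem_irreducibleComponent⟩⟩
    intro heq
    apply hne
    rw [specializes_iff_mem_closure, ← Set.mem_singleton_iff.1 heq]
    exact mem_irreducibleComponent
  refine ⟨Subtype.val '' Wᶜ, hval.isOpenMap _ hWc.isOpen_compl, ⟨t', ht'W, rfl⟩, ?_⟩
  rintro _ ⟨z', hz', rfl⟩
  exact (hsp z' hz').map continuous_subtype_val

/-- A maximal point of a locally Noetherian scheme lies in every dense open subset. -/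
theorem mem_of_isMaxPt_of_dense (U : Scheme.{u}) [IsLocallyNoetherian U] (u : U) (hu : IsMaxPt u)
    (O : Set U) (hO : IsOpen O) (hd : Dense O) : u ∈ O := by
  obtain ⟨N, hN, huN, hsp⟩ := exists_open_nhd_of_isMaxPt U u hu
  obtain ⟨z, hz1, hz2⟩ := hd.inter_open_nonempty N hN ⟨u, huN⟩
  exact (hsp z hz1).mem_open hO hz2

variable {S : Scheme.{u}}

/-- On the quasi-finite locus the residue field extensions are algebraic. -/
theorem hasAtMor_resTrdeg_zero_of_mem_qfLocus {X Y : Sp S} (f : X ⟶ Y) (hf : LocP @LocallyOfFiniteType f)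
    (x : Points X) (hx : x ∈ qfLocus f) : HasAtMor (fun _ _ h u => Dual3.resTrdeg h u = 0) f x := by
  obtain ⟨U, V, a, b, h, u, ha, hb, hc, hu, hq⟩ := hx
  have : LocallyOfFiniteType h.left := hf _ _ h ha hb hc
  exact ⟨U, V, a, b, h, u, ha, hb, hc, hu, resTrdeg_eq_zero_of_quasiFiniteAt h.left u hq⟩

/-- If the quasi-finite locus is dense (over a locally Noetherian base), it contains the points of codimension zero. -/
theorem mem_qfLocus_of_codimZero_of_dense {X Y : Sp S} (hX : IsAlgSpace X) (hYa : IsAlgSpace Y) (f : X ⟶ Y)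
    (hft : LocP @LocallyOfFiniteType f) (hY : IsLocNoethSp Y) (hd : Dense (qfLocus f)) (x : Points X)
    (hx0 : HasAt (fun U u => ringKrullDim ↥(U.presheaf.stalk u) = 0) X x) : x ∈ qfLocus f := by
  obtain ⟨V, b, hbe, hbs⟩ := hYa.atlas
  obtain ⟨U₀, a₀, ha₀e, ha₀s⟩ := hX.atlas
  obtain ⟨U, h', c, hae, hac, -, -, has⟩ := exists_chart_diagram f b hbe a₀ ha₀e
  obtain ⟨u, rfl⟩ := ofPt_surjective_of_surjective _ (has hbs ha₀s) x
  have : LocallyOfFiniteType h'.left := hft _ _ h' hae hbe hac
  have : IsLocallyNoetherian V.left := isLocallyNoetherian_of_chart hY b hbe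
  have : IsLocallyNoetherian U.left := LocallyOfFiniteType.isLocallyNoetherian h'.left
  have humax : IsMaxPt u := (isMaxPt_iff_dim_zero u).2 ((hasAt_dim_iff _ hae u 0).1 hx0)
  have hO : IsOpen (Points.ofPt ((yon S).map c ≫ a₀) ⁻¹' qfLocus f) :=
    (isOpen_qfLocus f hft).preimage (Points.continuous_ofPt _)
  have hOd : Dense (Points.ofPt ((yon S).map c ≫ a₀) ⁻¹' qfLocus f) :=
    hd.preimage (isOpenMap_ofPt_of_etale _ hae)
  exact mem_of_isMaxPt_of_dense U.left u humax _ hO hOd

/-- At a maximal point with algebraic residue field extension the morphism is quasi-finite. -/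
theorem quasiFiniteAt_of_isMaxPt {U V : Scheme.{u}} (h : U ⟶ V) [LocallyOfFiniteType h] (u : U)
    (hu : IsMaxPt u) (ht : Dual3.resTrdeg h u = 0) : h.QuasiFiniteAt u := by
  have hB : IsMaxPt (h.asFiber u) := by
    intro t ht'
    have e1 : h.fiberι (h u) (h.asFiber u) = u := h.fiberι_asFiber u
    have hs : h.fiberι (h u) t ⤳ u := by
      have := ht'.map (h.fiberι (h u)).continuous
      rwa [e1] at this
    exact (h.fiberι (h u)).isEmbedding.injective ((hu _ hs).trans e1.symm)
  rw [← fibreDimAt_eq_zero_iff, fibreDimAt_eq_trn_add, trn_eq_toENat, ht,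
    (isMaxPt_iff_dim_zero _).1 hB]
  simp

theorem mem_qfLocus_of_codimZero_of_resTrdeg_zero {X Y : Sp S} (f : X ⟶ Y)
    (hf : LocP @LocallyOfFiniteType f) (x : Points X)
    (hx0 : HasAt (fun U u => ringKrullDim ↥(U.presheaf.stalk u) = 0) X x)
    (hr : HasAtMor (fun _ _ h u => Dual3.resTrdeg h u = 0) f x) : x ∈ qfLocus f := by
  obtain ⟨U, V, a, b, h, u, ha, hb, hc, hu, hr'⟩ := hr
  subst hu
  have : LocallyOfFiniteType h.left := hf _ _ h ha hb hc
  have humax : IsMaxPt u := (isMaxPt_iff_dim_zero u).2 ((hasAt_dim_iff _ ha u 0).1 hx0)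
  exact ⟨U, V, a, b, h, u, ha, hb, hc, rfl, quasiFiniteAt_of_isMaxPt h.left u humax hr'⟩

/-- In an integral algebraic space the generic point is the only point of codimension zero. -/
theorem eq_generic_of_codimZero (X : AlgSp.Space S) (hXi : IsIntegralSp X.obj) (x : Points X.obj)
    (hx : IsGenericPoint x (Set.univ : Set (Points X.obj))) (ξ : Points X.obj)
    (hξ : HasAt (fun U u => ringKrullDim ↥(U.presheaf.stalk u) = 0) X.obj ξ) : ξ = x := by
  have hd := hXi.2.1
  have : IrreducibleSpace (Points X.obj) := hXi.2.2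
  have hT0 : T0Space (Points X.obj) := Groth.Agent.S10338.result X hd
  have h1 : ξ ∈ genericPoints (Points X.obj) := (Birat.hasAt_dim_zero_iff_mem_genericPoints X hd ξ).1 hξ
  have h2 : closure ({ξ} : Set (Points X.obj)) ∈ irreducibleComponents (Points X.obj) := h1
  rw [irreducibleComponents_eq_singleton, Set.mem_singleton_iff] at h2
  have h3 : IsGenericPoint ξ (Set.univ : Set (Points X.obj)) := h2
  exact h3.eq hx

theorem hasAt_dim_zero_of_isGenericPoint (X : AlgSp.Space S) (hXi : IsIntegralSp X.obj) (x : Points X.obj)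
    (hx : IsGenericPoint x (Set.univ : Set (Points X.obj))) :
    HasAt (fun U u => ringKrullDim ↥(U.presheaf.stalk u) = 0) X.obj x := by
  have hd := hXi.2.1
  have : IrreducibleSpace (Points X.obj) := hXi.2.2
  rw [Birat.hasAt_dim_zero_iff_mem_genericPoints X hd x]
  show closure ({x} : Set (Points X.obj)) ∈ irreducibleComponents (Points X.obj)
  rw [irreducibleComponents_eq_singleton, Set.mem_singleton_iff]
  exact hx.def

end Groth.Agent.Lib.Helper16.DimF
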