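import Groth.Agent.Lib.Helper16.DimF4

/-!
# Helper library (helper16): codimension of a point in its fibre, relative dimension at a point: chart independence
-/

set_option autoImplicit false
universe u
open CategoryTheory CategoryTheory.Limits AlgebraicGeometry Opposite Topology TopologicalSpace

namespace Groth.Agent.Lib.Helper16.DimF

open AlgSp Groth.Agent.Lib.Helper16 Groth.Agent.Lib.Helper16.QfAt Groth.Agent.Lib.Helper15
open Groth.Agent.Lib.Helper12.SchemeDimIneq Groth.Agent.Lib.Helper12.SchemeDimFT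

section Sch

/-- The codimension of a point in its (topological) fibre. -/
noncomputable def fibCoht {U V : Scheme.{u}} (h : U ⟶ V) (u : U) : ℕ∞ :=
  Order.coheight (⟨u, rfl⟩ : h ⁻¹' {h u})

/-- The dimension of the local ring of the fibre at a point is the codimension of the point in the fibre. -/
theorem ringKrullDim_fiber_stalk_eq {U V : Scheme.{u}} (h : U ⟶ V) (u : U) :
    ringKrullDim ↥((h.fiber (h u)).presheaf.stalk (h.asFiber u)) = ((fibCoht h u : ℕ∞) : WithBot ℕ∞) := by
  rw [ringKrullDim_stalk_eq_coheight]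
  congr 1
  let e : h.fiber (h u) ≃o (h ⁻¹' {h u}) :=
    { toEquiv := (h.fiberHomeo (h u)).toEquiv
      map_rel_iff' := by
        intro a b
        show (h.fiberHomeo (h u) b).1 ⤳ (h.fiberHomeo (h u) a).1 ↔ b ⤳ a
        rw [← subtype_specializes_iff, (h.fiberHomeo (h u)).isInducing.specializes_iff] }
  have h1 := Order.coheight_orderIso e (h.asFiber u)
  rw [← h1]
  unfold fibCoht
  congr 1
  exact (h.fiberHomeo (h u)).apply_symm_apply _

/-- Etale changes of source and target do not change the codimension in the fibre. -/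
theorem fibCoht_square {W W' U V : Scheme.{u}} (p : W ⟶ U) (g : W ⟶ W') (π : W' ⟶ V) (h : U ⟶ V)
    [Etale p] [Etale π] (comm : g ≫ π = p ≫ h) (w : W) : fibCoht g w = fibCoht h (p w) := by
  have : LocallyQuasiFinite p := locallyQuasiFinite_of_etale p
  have : LocallyQuasiFinite π := locallyQuasiFinite_of_etale π
  have hgen : GeneralizingMap p := Flat.generalizingMap p
  have hcomm : ∀ z : W, π (g z) = h (p z) := fun z => by
    rw [← Scheme.Hom.comp_apply, ← Scheme.Hom.comp_apply, comm]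
  let φ : (g ⁻¹' {g w}) → (h ⁻¹' {h (p w)}) := fun z => ⟨p z.1, by
    show h (p z.1) = h (p w)
    have hz : g z.1 = g w := z.2
    rw [← hcomm, ← hcomm, hz]⟩
  unfold fibCoht
  refine Order.coheight_eq_of_strictMono φ ?_ ?_ ⟨w, rfl⟩
  · intro a b hab
    have hab' : a.1 < b.1 := hab
    have h1 : b.1 ⤳ a.1 := hab'.1
    have h2 : ¬ a.1 ⤳ b.1 := hab'.2
    refine ⟨h1.map p.continuous, fun h3 => ?_⟩
    have h3' : p a.1 ⤳ p b.1 := h3
    have heq : p b.1 = p a.1 := ((h1.map p.continuous).antisymm h3').eq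
    have := eq_of_specializes_of_locallyQuasiFinite p h1 heq
    exact h2 (this ▸ specializes_rfl)
  · intro a b hab
    have hab' : p a.1 < b.1 := hab
    have h1 : b.1 ⤳ p a.1 := hab'.1
    obtain ⟨a', ha', hpa'⟩ := hgen h1
    have ha2 : g a.1 = g w := a.2
    have hb2 : h b.1 = h (p w) := b.2
    have hga' : g a' = g w := by
      have s1 : g a' ⤳ g w := ha2 ▸ ha'.map g.continuous
      have e1 : π (g a') = π (g w) := by rw [hcomm, hcomm, hpa', hb2]
      exact eq_of_specializes_of_locallyQuasiFinite π s1 e1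
    refine ⟨⟨a', hga'⟩, ?_, Subtype.ext hpa'⟩
    have : a.1 < a' := ⟨ha', fun h3 => hab'.2 (hpa' ▸ (show a.1 ⤳ a' from h3).map p.continuous)⟩
    exact this

/-- The relative dimension at a point, in the form `trdeg + codimension in the fibre`. -/
noncomputable def relDimQ {U V : Scheme.{u}} (h : U ⟶ V) (u : U) : WithBot ℕ∞ :=
  ((trn h u : ℕ∞) : WithBot ℕ∞) + ((fibCoht h u : ℕ∞) : WithBot ℕ∞)

theorem fibreDimAt_eq_relDimQ {U V : Scheme.{u}} (h : U ⟶ V) [LocallyOfFiniteType h] (u : U) :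
    FlatMor.fibreDimAt h u = relDimQ h u := by
  rw [fibreDimAt_eq_trn_add, ringKrullDim_fiber_stalk_eq]
  rfl

theorem relDimQ_square {W W' U V : Scheme.{u}} (p : W ⟶ U) (g : W ⟶ W') (π : W' ⟶ V) (h : U ⟶ V)
    [Etale p] [Etale π] (comm : g ≫ π = p ≫ h) (w : W) : relDimQ g w = relDimQ h (p w) := by
  unfold relDimQ
  rw [fibCoht_square p g π h comm w, trn_eq_toENat, trn_eq_toENat, resTrdeg_square p g π h comm w]

end Sch

variable {S : Scheme.{u}}

/-- **Chart independence** for quantities invariant under etale changes of source and target. -/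
theorem quantity_transfer {α : Type*} (Q : ∀ (A B : Scheme.{u}), (A ⟶ B) → ↥A → α)
    (hQ : ∀ {W W' U V : Scheme.{u}} (p : W ⟶ U) (g : W ⟶ W') (π : W' ⟶ V) (h : U ⟶ V) [Etale p] [Etale π],
      g ≫ π = p ≫ h → ∀ w : W, Q _ _ g w = Q _ _ h (p w))
    {X Y : Sp S} (f : X ⟶ Y) {U V U₁ V₁ : Over S}
    (a : (yon S).obj U ⟶ X) (b : (yon S).obj V ⟶ Y) (h : U ⟶ V)
    (a₁ : (yon S).obj U₁ ⟶ X) (b₁ : (yon S).obj V₁ ⟶ Y) (m : U₁ ⟶ V₁)
    (ha : RepWith @Etale a) (hb : RepWith @Etale b) (ha₁ : RepWith @Etale a₁) (hb₁ : RepWith @Etale b₁)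
    (hc : a ≫ f = (yon S).map h ≫ b) (hc₁ : a₁ ≫ f = (yon S).map m ≫ b₁)
    (u : ↥U.left) (u₁ : ↥U₁.left) (hu : Points.ofPt a u = Points.ofPt a₁ u₁) :
    Q _ _ h.left u = Q _ _ m.left u₁ := by
  obtain ⟨W, p, q₀, sqW⟩ := ha₁.rep a
  obtain ⟨q, rfl⟩ := (yon S).map_surjective q₀
  have hp : Etale p.left := ha₁.property _ _ _ sqW
  have hq' : Etale q.left := ha.property _ _ _ sqW.flip
  obtain ⟨w, hw1, hw2⟩ := exists_point_of_isPullback_yon_yon sqW u₁ u hu.symm
  obtain ⟨V'', π, π₁₀, sqV⟩ := hb₁.rep b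
  obtain ⟨π₁, rfl⟩ := (yon S).map_surjective π₁₀
  have hπ : Etale π.left := hb₁.property _ _ _ sqV
  have hπ₁ : Etale π₁.left := hb.property _ _ _ sqV.flip
  have hcomm : (yon S).map (q ≫ m) ≫ b₁ = (yon S).map (p ≫ h) ≫ b := by
    rw [Functor.map_comp, Functor.map_comp, Category.assoc, Category.assoc, ← hc₁, ← hc,
      ← Category.assoc, ← Category.assoc, sqW.w]
  obtain ⟨g, hg⟩ := (yon S).map_surjective (sqV.lift _ _ hcomm)
  have hg1 : g ≫ π₁ = q ≫ m := by
    apply (yon S).map_injective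
    rw [Functor.map_comp, hg, sqV.lift_fst]
  have hg2 : g ≫ π = p ≫ h := by
    apply (yon S).map_injective
    rw [Functor.map_comp, hg, sqV.lift_snd]
  have hg1' : g.left ≫ π₁.left = q.left ≫ m.left := by rw [← Over.comp_left, hg1, Over.comp_left]
  have hg2' : g.left ≫ π.left = p.left ≫ h.left := by rw [← Over.comp_left, hg2, Over.comp_left]
  subst hw1 hw2
  rw [← hQ p.left g.left π.left h.left hg2' w, ← hQ q.left g.left π₁.left m.left hg1' w]

/-- `HasAtMor` for a predicate on an invariant quantity can be tested on any chart diagram through the point. -/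
theorem hasAtMor_quantity_iff {α : Type*} (Q : ∀ (A B : Scheme.{u}), (A ⟶ B) → ↥A → α)
    (hQ : ∀ {W W' U V : Scheme.{u}} (p : W ⟶ U) (g : W ⟶ W') (π : W' ⟶ V) (h : U ⟶ V) [Etale p] [Etale π],
      g ≫ π = p ≫ h → ∀ w : W, Q _ _ g w = Q _ _ h (p w)) (R : α → Prop)
    {X Y : Sp S} (f : X ⟶ Y) {U V : Over S}
    (a : (yon S).obj U ⟶ X) (b : (yon S).obj V ⟶ Y) (h : U ⟶ V)
    (ha : RepWith @Etale a) (hb : RepWith @Etale b) (hc : a ≫ f = (yon S).map h ≫ b) (u : ↥U.left) :
    HasAtMor (fun A B h u => R (Q A B h u)) f (Points.ofPt a u) ↔ R (Q _ _ h.left u) := by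
  constructor
  · rintro ⟨U', V', a', b', h', u', ha', hb', hc', hu', hr⟩
    rw [← quantity_transfer Q hQ f a' b' h' a b h ha' hb' ha hb hc' hc u' u hu']
    exact hr
  · intro hr
    exact ⟨U, V, a, b, h, u, ha, hb, hc, rfl, hr⟩

/-- The dimension of the local ring of the fibre: chart independence. -/
theorem hasAtMor_fibreStalkDim_iff (R : WithBot ℕ∞ → Prop) {X Y : Sp S} (f : X ⟶ Y) {U V : Over S}
    (a : (yon S).obj U ⟶ X) (b : (yon S).obj V ⟶ Y) (h : U ⟶ V)
    (ha : RepWith @Etale a) (hb : RepWith @Etale b) (hc : a ≫ f = (yon S).map h ≫ b) (u : ↥U.left) :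
    HasAtMor (fun _ _ h u => R (ringKrullDim ↥((h.fiber (h u)).presheaf.stalk (h.asFiber u)))) f
        (Points.ofPt a u) ↔
      R (ringKrullDim ↥((h.left.fiber (h.left u)).presheaf.stalk (h.left.asFiber u))) :=
  hasAtMor_quantity_iff
    (fun _ _ h u => ringKrullDim ↥((h.fiber (h u)).presheaf.stalk (h.asFiber u)))
    (fun p g π h _ _ comm w => by
      simp only [ringKrullDim_fiber_stalk_eq]
      rw [fibCoht_square p g π h comm w]) R f a b h ha hb hc u

/-- The relative dimension at a point: chart independence. -/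
theorem hasAtMor_fibreDimAt_iff (R : WithBot ℕ∞ → Prop) {X Y : Sp S} (f : X ⟶ Y)
    (hf : LocP @LocallyOfFiniteType f) {U V : Over S}
    (a : (yon S).obj U ⟶ X) (b : (yon S).obj V ⟶ Y) (h : U ⟶ V)
    (ha : RepWith @Etale a) (hb : RepWith @Etale b) (hc : a ≫ f = (yon S).map h ≫ b) (u : ↥U.left) :
    HasAtMor (fun _ _ h u => R (FlatMor.fibreDimAt h u)) f (Points.ofPt a u) ↔
      R (FlatMor.fibreDimAt h.left u) := by
  have : LocallyOfFiniteType h.left := hf _ _ h ha hb hc
  rw [fibreDimAt_eq_relDimQ, ← hasAtMor_quantity_iff (fun _ _ h u => relDimQ h u)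
    (fun p g π h _ _ comm w => relDimQ_square p g π h comm w) R f a b h ha hb hc u]
  constructor
  · rintro ⟨U', V', a', b', h', u', ha', hb', hc', hu', hr⟩
    have : LocallyOfFiniteType h'.left := hf _ _ h' ha' hb' hc'
    have hr' : R (FlatMor.fibreDimAt h'.left u') := hr
    rw [fibreDimAt_eq_relDimQ] at hr'
    exact ⟨U', V', a', b', h', u', ha', hb', hc', hu', hr'⟩
  · rintro ⟨U', V', a', b', h', u', ha', hb', hc', hu', hr⟩
    have : LocallyOfFiniteType h'.left := hf _ _ h' ha' hb' hc'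
    refine ⟨U', V', a', b', h', u', ha', hb', hc', hu', ?_⟩
    show R (FlatMor.fibreDimAt h'.left u')
    rw [fibreDimAt_eq_relDimQ]
    exact hr

end Groth.Agent.Lib.Helper16.DimF
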