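import Groth.Agent.Lib.Helper16.DimF5
import Groth.Agent.Lib.Helper16.Birat4
import Groth.Agent.Lib.Helper16.DenseFin1
import Groth.Agent.S9358

/-!
# Helper library (helper16): base change of the relative dimension at a point; quasi-compact open immersions are
retrocompact on charts
-/

set_option autoImplicit false
universe u
open CategoryTheory CategoryTheory.Limits AlgebraicGeometry Opposite Topology TopologicalSpace

namespace Groth.Agent.Lib.Helper16.DimF

open AlgSp Groth.Agent.Lib.Helper16 Groth.Agent.Lib.Helper16.QfAt Groth.Agent.Lib.Helper15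
open Groth.Agent.Lib.Helper12.SchemeDimIneq Groth.Agent.Lib.Helper12.SchemeDimFT

variable {S : Scheme.{u}}

/-- The relative dimension at a point is invariant under base change. -/
theorem hasAtMor_fibreDimAt_baseChange (R : WithBot ℕ∞ → Prop) {X Y Y' X' : Sp S} (hX : IsAlgSpace X)
    (hY : IsAlgSpace Y) (hY' : IsAlgSpace Y') {f : X ⟶ Y} {g : Y' ⟶ Y} {g' : X' ⟶ X} {f' : X' ⟶ Y'}
    (sq : IsPullback g' f' f g) (hf : LocP @LocallyOfFiniteType f) (x' : Points X') :
    HasAtMor (fun _ _ h u => R (FlatMor.fibreDimAt h u)) f' x' ↔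
      HasAtMor (fun _ _ h u => R (FlatMor.fibreDimAt h u)) f (Points.map g' x') := by
  obtain ⟨U, V, U'', V'', a, bV, h, a'', b'', h'', β, γ, hae, hbVe, ha''e, hb''e, ha''s, hc, hc'', hcb, sqS⟩ :=
    exists_chart_diagram_baseChange hX hY hY' sq
  obtain ⟨u'', rfl⟩ := ofPt_surjective_of_surjective a'' ha''s x'
  have hpt : Points.map g' (Points.ofPt a'' u'') = Points.ofPt a (β.left u'') := by
    rw [Points.map_ofPt, hcb, ofPt_yon_map_comp]
  have : LocallyOfFiniteType h.left := hf _ _ h hae hbVe hc
  have hf'' : LocP @LocallyOfFiniteType f' :=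
    locP_of_isPullback etLocalST_locallyOfFiniteType hX hY sq hf
  have e2 := (Groth.Agent.S9358.result h.left γ.left β.left h''.left sqS 0).1 u''
  rw [hpt, hasAtMor_fibreDimAt_iff R f hf a bV h hae hbVe hc _,
    hasAtMor_fibreDimAt_iff R f' hf'' a'' b'' h'' ha''e hb''e hc'' u'', e2]

/-- The inverse image on a chart of the image of a quasi-compact open immersion is retrocompact. -/
theorem isRetrocompact_preimage_range_of_isQuasiCompactMor {V Y : Sp S} (hV : IsAlgSpace V) (j : V ⟶ Y)
    (hj : IsQuasiCompactMor j) {B : Over S} (b : (yon S).obj B ⟶ Y) :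
    IsRetrocompact (Points.ofPt b ⁻¹' Set.range (Points.map j)) := by
  intro K hKc hKo
  let Ko : B.left.Opens := ⟨K, hKo⟩
  have hcs : CompactSpace ↥(overOpen B Ko).left := isCompact_iff_compactSpace.1 hKc
  have hZqc : IsQuasiCompactSp ((yon S).obj (overOpen B Ko)) :=
    ⟨overOpen B Ko, 𝟙 _, repWith_id _ _, repWith_id _ _, hcs⟩
  have sq := IsPullback.of_hasPullback j ((yon S).map (overOpenι B Ko) ≫ b)
  obtain ⟨W, w, hwe, hws, hWc⟩ := hj (IsAlgSpace.yon_obj _) hZqc _ _ _ sq
  have hWc' : CompactSpace ↥W.left := hWc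
  obtain ⟨t, ht⟩ := (yon S).map_surjective (w ≫ pullback.snd j ((yon S).map (overOpenι B Ko) ≫ b))
  have hcont : Continuous (fun ω : ↥W.left => (overOpenι B Ko).left (t.left ω)) :=
    (overOpenι B Ko).left.continuous.comp t.left.continuous
  have hrange : Points.ofPt b ⁻¹' Set.range (Points.map j) ∩ K =
      Set.range (fun ω : ↥W.left => (overOpenι B Ko).left (t.left ω)) := by
    ext k
    constructor
    · rintro ⟨⟨v, hv⟩, hkK⟩
      let k' : ↥(overOpen B Ko).left := ⟨k, hkK⟩
      have hk' : (overOpenι B Ko).left k' = k := rfl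
      have hxy : Points.map j v = Points.map ((yon S).map (overOpenι B Ko) ≫ b)
          (Points.ofPt (𝟙 ((yon S).obj (overOpen B Ko))) k') := by
        rw [Points.map_ofPt, Category.id_comp, ofPt_yon_map_comp, hk', hv]
      obtain ⟨z', hz1, hz2⟩ := exists_point_of_isPullback sq v _ hxy
      obtain ⟨ω, rfl⟩ := ofPt_surjective_of_surjective w hws z'
      refine ⟨ω, ?_⟩
      have h1 : Points.ofPt (𝟙 ((yon S).obj (overOpen B Ko))) (t.left ω) =
          Points.ofPt (𝟙 ((yon S).obj (overOpen B Ko))) k' := by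
        rw [← ofPt_yon_map_comp, Category.comp_id, ht, ← Points.map_ofPt, hz2]
      show (overOpenι B Ko).left (t.left ω) = k
      rw [Birat.ofPt_id_injective _ h1]
      exact hk'
    · rintro ⟨ω, rfl⟩
      refine ⟨?_, (t.left ω).2⟩
      refine ⟨Points.ofPt (w ≫ pullback.fst j ((yon S).map (overOpenι B Ko) ≫ b)) ω, ?_⟩
      show _ = Points.ofPt b ((overOpenι B Ko).left (t.left ω))
      rw [Points.map_ofPt, Category.assoc, pullback.condition, ← Category.assoc, ← ht,
        ← Category.assoc, ← Functor.map_comp, ofPt_yon_map_comp]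
      rfl
  rw [hrange]
  exact isCompact_range hcont

end Groth.Agent.Lib.Helper16.DimF
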