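import Groth.Agent.Lib.Helper16.FieldLft2

/-!
# Helper library (helper16): spaces all of whose etale charts are locally Noetherian Jacobson schemes
(generalizes `FieldLft`, `FieldLft2` from the base `Spec k` to an arbitrary base)
-/

set_option autoImplicit false
universe u
open CategoryTheory CategoryTheory.Limits AlgebraicGeometry Opposite TopologicalSpace Topology

namespace Groth.Agent.Lib.Helper16.DimZero.Gen

open AlgSp Groth.Agent.Lib.Helper16 Groth.Agent.Lib.Helper16.DimZero

variable {S : Scheme.{u}}

/-- All etale charts of `X` are locally Noetherian Jacobson schemes. -/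
def ChartsNJ (X : Sp S) : Prop :=
  ∀ ⦃U : Over S⦄ (a : (yon S).obj U ⟶ X), RepWith @Etale a → IsLocallyNoetherian U.left ∧ JacobsonSpace ↥U.left

/-- Spaces locally of finite type over a field-valued point of the base have locally Noetherian Jacobson charts. -/
theorem chartsNJ_of_locP_lft_field {X : Sp S} (k : Type u) [Field k] (str : Spec (CommRingCat.of k) ⟶ S)
    (q : X ⟶ (yon S).obj (Over.mk str)) (hq : LocP @LocallyOfFiniteType q) : ChartsNJ X := by
  intro U a ha
  obtain ⟨m, hm⟩ := (yon S).map_surjective (a ≫ q)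
  have hid : RepWith @Etale (𝟙 ((yon S).obj (Over.mk str))) := repWith_id _ _
  have hc : a ≫ q = (yon S).map m ≫ 𝟙 _ := by rw [Category.comp_id, hm]
  have hlft : LocallyOfFiniteType m.left := hq _ _ m ha hid hc
  have hN0 : IsLocallyNoetherian (Over.mk str).left :=
    inferInstanceAs (IsLocallyNoetherian (Spec (.of k)))
  have hJ0 : JacobsonSpace ↥(Over.mk str).left :=
    inferInstanceAs (JacobsonSpace ↥(Spec (.of k)))
  exact ⟨LocallyOfFiniteType.isLocallyNoetherian m.left, LocallyOfFiniteType.jacobsonSpace m.left⟩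

variable {X : Sp S} (hch : ChartsNJ X)

include hch in
theorem isLocNoethSp_of_chartsNJ (hX : IsAlgSpace X) : IsLocNoethSp X := by
  obtain ⟨V, b, hbe, hbs⟩ := hX.atlas
  exact ⟨V, b, hbe, hbs, (hch b hbe).1⟩

include hch in
/-- A point is isolated iff the dimension of the space at the point is zero. -/
theorem isOpen_singleton_iff_hasAt_localDim (hX : IsAlgSpace X) (x : Points X) :
    IsOpen ({x} : Set (Points X)) ↔ HasAt (fun U u => FlatMor.localDim ↥U u = 0) X x := by
  have hN := isLocNoethSp_of_chartsNJ hch hX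
  constructor
  · intro h
    obtain ⟨V, b, hbe, hbs⟩ := hX.atlas
    obtain ⟨v, rfl⟩ := ofPt_surjective_of_surjective b hbs x
    have : IsLocallyNoetherian V.left := (hch b hbe).1
    exact ⟨V, b, v, hbe, rfl, (localDim_eq_zero_iff_isOpen_singleton V.left v).2
      (isOpen_singleton_of_isOpen_singleton_ofPt hN b hbe v h)⟩
  · rintro ⟨U, a, u, ha, rfl, hld⟩
    have : IsLocallyNoetherian U.left := (hch a ha).1
    have := isOpenMap_ofPt_of_etale a ha {u} ((localDim_eq_zero_iff_isOpen_singleton U.left u).1 hld)
    rwa [Set.image_singleton] at this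

include hch in
/-- An isolated point is closed. -/
theorem isClosed_singleton_of_isOpen_singleton (hX : IsAlgSpace X) (x : Points X)
    (h : IsOpen ({x} : Set (Points X))) : IsClosed ({x} : Set (Points X)) := by
  have hN := isLocNoethSp_of_chartsNJ hch hX
  obtain ⟨V, b, hbe, hbs⟩ := hX.atlas
  have hVN : IsLocallyNoetherian V.left := (hch b hbe).1
  have hVJ : JacobsonSpace ↥V.left := (hch b hbe).2
  rw [← (FtPt.isQuotientMap_ofPt b hbe hbs).isClosed_preimage]
  have hpt : ∀ v ∈ Points.ofPt b ⁻¹' {x}, IsOpen ({v} : Set ↥V.left) := by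
    intro v hv
    have hv' : Points.ofPt b v = x := hv
    exact isOpen_singleton_of_isOpen_singleton_ofPt hN b hbe v (hv' ▸ h)
  have hptcl : ∀ v ∈ Points.ofPt b ⁻¹' {x}, IsClosed ({v} : Set ↥V.left) := fun v hv =>
    isClosed_singleton_of_isLocallyClosed_singleton (hpt v hv).isLocallyClosed
  rw [← isOpen_compl_iff, isOpen_iff_forall_mem_open]
  intro t ht
  obtain ⟨_, ⟨W, hW, rfl⟩, htW, -⟩ :=
    V.left.isBasis_affineOpens.exists_subset_of_mem_open (Set.mem_univ t) isOpen_univ
  have hWN : NoetherianSpace (W : Set ↥V.left) := noetherianSpace_coe V.left W hW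
  have hfin := finite_inter_of_noetherianSpace (W : Set ↥V.left) (Points.ofPt b ⁻¹' {x}) hpt
  have hcl : IsClosed ((W : Set ↥V.left) ∩ (Points.ofPt b ⁻¹' {x})) := by
    rw [← Set.biUnion_of_singleton ((W : Set ↥V.left) ∩ (Points.ofPt b ⁻¹' {x}))]
    exact hfin.isClosed_biUnion fun v hv => hptcl v hv.2
  refine ⟨(W : Set ↥V.left) ∩ ((W : Set ↥V.left) ∩ (Points.ofPt b ⁻¹' {x}))ᶜ, ?_,
    W.2.inter hcl.isOpen_compl, ⟨htW, fun h => ht h.2⟩⟩
  rintro z ⟨hzW, hz⟩ hzO
  exact hz ⟨hzW, hzO⟩

include hch in
/-- A closed point without proper generizations is isolated. -/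
theorem isOpen_singleton_of_isClosed_of_forall_specializes_eq (hX : IsAlgSpace X) (x : Points X)
    (hcl : IsClosed ({x} : Set (Points X))) (hgen : ∀ x' : Points X, x' ⤳ x → x' = x) :
    IsOpen ({x} : Set (Points X)) := by
  have hN := isLocNoethSp_of_chartsNJ hch hX
  obtain ⟨V, b, hbe, hbs⟩ := hX.atlas
  obtain ⟨v, rfl⟩ := ofPt_surjective_of_surjective b hbs x
  have hVN : IsLocallyNoetherian V.left := (hch b hbe).1
  have hFcl : IsClosed (Points.ofPt b ⁻¹' {Points.ofPt b v}) := hcl.preimage (Points.continuous_ofPt b)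
  have hmaxF : ∀ z ∈ Points.ofPt b ⁻¹' {Points.ofPt b v}, ∀ z' : ↥V.left, z' ⤳ z → z' = z := by
    intro z hz z' hs
    have h1 : Points.ofPt b z' ⤳ Points.ofPt b z := hs.map (Points.continuous_ofPt b)
    have hz1 : Points.ofPt b z = Points.ofPt b v := hz
    rw [hz1] at h1
    have h2 := hgen _ h1
    exact (eq_of_specializes_of_isLocNoethSp hN b hbe z z' (hz1.trans h2.symm) hs).symm
  have hvcl : IsClosed ({v} : Set ↥V.left) := by
    rw [← closure_subset_iff_isClosed]
    intro t ht
    have htF : t ∈ Points.ofPt b ⁻¹' {Points.ofPt b v} :=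
      (hFcl.closure_subset_iff.2 (Set.singleton_subset_iff.2 rfl)) ht
    have hs : v ⤳ t := specializes_iff_mem_closure.2 ht
    have := hmaxF t htF v hs
    rw [Set.mem_singleton_iff, this]
  obtain ⟨_, ⟨W, hW, rfl⟩, hvW, -⟩ :=
    V.left.isBasis_affineOpens.exists_subset_of_mem_open (Set.mem_univ v) isOpen_univ
  have hWN : NoetherianSpace (W : Set ↥V.left) := noetherianSpace_coe V.left W hW
  have hWQ : QuasiSober (W : Set ↥V.left) := quasiSober_coe V.left W
  have h3 : IsOpen ({v} : Set ↥V.left) :=
    isOpen_singleton_of_mem_noetherian_open (W : Set ↥V.left) W.2 v hvW hvcl (hmaxF v rfl)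
  have h4 := isOpenMap_ofPt_of_etale b hbe _ h3
  rwa [Set.image_singleton] at h4

include hch in
/-- For a `T0` space of points: the local dimension of `|X|` at `x` vanishes iff `x` is isolated. -/
theorem localDim_points_eq_zero_iff (hX : IsAlgSpace X) [T0Space (Points X)] (x : Points X) :
    FlatMor.localDim (Points X) x = 0 ↔ IsOpen ({x} : Set (Points X)) := by
  constructor
  · intro h
    obtain ⟨N, hxN, hN0⟩ := exists_open_dim_le_zero_of_localDim_eq_zero x h
    have hNoeth := isLocNoethSp_of_chartsNJ hch hX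
    obtain ⟨V, b, hbe, hbs⟩ := hX.atlas
    obtain ⟨v, rfl⟩ := ofPt_surjective_of_surjective b hbs x
    have hVN : IsLocallyNoetherian V.left := (hch b hbe).1
    let O : V.left.Opens := ⟨Points.ofPt b ⁻¹' N, N.2.preimage (Points.continuous_ofPt b)⟩
    have : IsLocallyNoetherian O.toScheme := isLocallyNoetherian_of_isOpenImmersion O.ι
    have hspec : ∀ z z' : O.toScheme, z' ⤳ z → z' = z := by
      intro z z' hs
      have hs' : O.ι z' ⤳ O.ι z := hs.map O.ι.continuous
      have hz : Points.ofPt b (O.ι z) ∈ N := mem_opens_of_ι O z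
      have hz' : Points.ofPt b (O.ι z') ∈ N := mem_opens_of_ι O z'
      have h1 : (⟨Points.ofPt b (O.ι z'), hz'⟩ : (N : Set (Points X))) ⤳ ⟨Points.ofPt b (O.ι z), hz⟩ := by
        rw [subtype_specializes_iff]
        exact hs'.map (Points.continuous_ofPt b)
      have h2 := eq_of_specializes_of_topologicalKrullDim_le_zero hN0 h1
      have he : Points.ofPt b (O.ι z) = Points.ofPt b (O.ι z') := (congrArg Subtype.val h2).symm
      have := eq_of_specializes_of_isLocNoethSp hNoeth b hbe (O.ι z) (O.ι z') he hs'
      exact (O.ι.isOpenEmbedding.injective this).symm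
    have hD : DiscreteTopology O.toScheme := discreteTopology_of_forall_specializes_eq _ hspec
    have h3 : IsOpen ({v} : Set ↥V.left) := isOpen_singleton_of_discrete_opens O (show v ∈ O from hxN)
    have h4 := isOpenMap_ofPt_of_etale b hbe _ h3
    rwa [Set.image_singleton] at h4
  · exact localDim_eq_zero_of_isOpen_singleton x





include hch in
theorem discreteTopology_chart_of_discrete_points (hX : IsAlgSpace X) [DiscreteTopology (Points X)]
    {U : Over S} (a : (yon _).obj U ⟶ X) (ha : RepWith @Etale a) :
    DiscreteTopology ↥U.left := by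
  have hN := isLocNoethSp_of_chartsNJ hch hX
  have : IsLocallyNoetherian U.left := (hch a ha).1
  rw [discreteTopology_iff_isOpen_singleton]
  intro u
  exact isOpen_singleton_of_isOpen_singleton_ofPt hN a ha u (isOpen_discrete _)

include hch in
theorem discreteTopology_iff_dim_eq_zero (hX : IsAlgSpace X) [Nonempty (Points X)] :
    DiscreteTopology (Points X) ↔ dim X = 0 := by
  constructor
  · intro hD
    apply le_antisymm _ (zero_le_dim_of_nonempty hX)
    unfold dim
    refine iSup_le fun U => iSup_le fun a => iSup_le fun ha => ?_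
    have := discreteTopology_chart_of_discrete_points hch hX a ha
    exact topologicalKrullDim_zero_of_discreteTopology _
  · intro h
    obtain ⟨V, b, hbe, hbs⟩ := hX.atlas
    have : IsLocallyNoetherian V.left := (hch b hbe).1
    have hV : topologicalKrullDim ↥V.left ≤ 0 := h ▸ topologicalKrullDim_le_dim b hbe
    have := discreteTopology_of_topologicalKrullDim_le_zero _ hV
    exact discreteTopology_points_of_atlas b hbe hbs

include hch in
theorem discreteTopology_of_topologicalKrullDim_eq_zero (hX : IsAlgSpace X) [T0Space (Points X)]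
    (h : topologicalKrullDim (Points X) = 0) : DiscreteTopology (Points X) := by
  have hN := isLocNoethSp_of_chartsNJ hch hX
  obtain ⟨V, b, hbe, hbs⟩ := hX.atlas
  have : IsLocallyNoetherian V.left := (hch b hbe).1
  have hspec : ∀ z z' : ↥V.left, z' ⤳ z → z' = z := by
    intro z z' hs
    have h1 := eq_of_specializes_of_topologicalKrullDim_le_zero h.le
      (hs.map (Points.continuous_ofPt b))
    exact (eq_of_specializes_of_isLocNoethSp hN b hbe z z' h1.symm hs).symm
  have := discreteTopology_of_forall_specializes_eq _ hspec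
  exact discreteTopology_points_of_atlas b hbe hbs

include hch in
theorem dim_eq_zero_of_finite (hX : IsAlgSpace X) (hd : IsDecent X) [Finite (Points X)]
    [Nonempty (Points X)] : dim X = 0 := by
  apply le_antisymm _ (zero_le_dim_of_nonempty hX)
  unfold dim
  refine iSup_le fun U => iSup_le fun a => iSup_le fun ha => ?_
  have hJ : JacobsonSpace ↥U.left := (hch a ha).2
  have hD : DiscreteTopology ↥U.left := by
    rw [discreteTopology_iff_isOpen_singleton]
    intro u
    obtain ⟨_, ⟨W, hW, rfl⟩, huW, -⟩ :=
      U.left.isBasis_affineOpens.exists_subset_of_mem_open (Set.mem_univ u) isOpen_univ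
    have hfin : (W : Set ↥U.left).Finite := by
      refine (Set.finite_iUnion fun x : Points X =>
        FtPt.finite_fibre_inter_affine hd a ha x W hW).subset ?_
      intro z hz
      exact Set.mem_iUnion.2 ⟨Points.ofPt a z, rfl, hz⟩
    have : Finite (W : Set ↥U.left) := hfin.to_subtype
    have : JacobsonSpace (W : Set ↥U.left) :=
      JacobsonSpace.of_isOpenEmbedding W.2.isOpenEmbedding_subtypeVal
    have h3 := W.2.isOpenEmbedding_subtypeVal.isOpenMap _
      (isOpen_discrete ({(⟨u, huW⟩ : (W : Set ↥U.left))} : Set (W : Set ↥U.left)))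
    rwa [Set.image_singleton] at h3
  exact topologicalKrullDim_zero_of_discreteTopology _


end Groth.Agent.Lib.Helper16.DimZero.Gen
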