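import Groth.Agent.Lib.Helper16.FibreEmb
import Groth.Agent.Lib.Helper16.QfLocus
import Groth.Agent.Lib.Helper16.FieldLftGen

/-!
# Helper library (helper16): points of the fibre of a morphism locally of finite type over a field-valued point
-/

set_option autoImplicit false
universe u
open CategoryTheory CategoryTheory.Limits AlgebraicGeometry Opposite Topology

namespace Groth.Agent.Lib.Helper16.FibrePt

open AlgSp Groth.Agent.Lib.Helper16 Groth.Agent.Lib.Helper16.DimZero Groth.Agent.Lib.Helper16.QfAt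
  Groth.Agent.Lib.Helper16.FibreEmb

variable {S : Scheme.{u}}

/-! ### Homeomorphisms and point conditions -/

theorem isOpen_singleton_homeomorph {A B : Type*} [TopologicalSpace A] [TopologicalSpace B] (φ : A ≃ₜ B) (a : A) :
    IsOpen ({φ a} : Set B) ↔ IsOpen ({a} : Set A) := by
  rw [← Set.image_singleton, φ.isOpen_image]

theorem isClosed_singleton_homeomorph {A B : Type*} [TopologicalSpace A] [TopologicalSpace B] (φ : A ≃ₜ B)
    (a : A) : IsClosed ({φ a} : Set B) ↔ IsClosed ({a} : Set A) := by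
  rw [← Set.image_singleton, φ.isClosed_image]

theorem nogen_homeomorph {A B : Type*} [TopologicalSpace A] [TopologicalSpace B] (φ : A ≃ₜ B) (a : A) :
    (∀ b' : B, b' ⤳ φ a → b' = φ a) ↔ (∀ a' : A, a' ⤳ a → a' = a) := by
  constructor
  · intro H a' hs
    exact φ.injective (H (φ a') (hs.map φ.continuous))
  · intro H b' hs
    have h1 : φ.symm b' ⤳ a := by
      have := hs.map φ.symm.continuous
      simpa using this
    have h2 := H _ h1
    rw [← h2]
    simp

theorem localDim_le_homeomorph {A B : Type*} [TopologicalSpace A] [TopologicalSpace B] (φ : A ≃ₜ B) (a : A) :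
    FlatMor.localDim B (φ a) ≤ FlatMor.localDim A a := by
  unfold FlatMor.localDim
  refine le_iInf fun U => ?_
  refine iInf_le_of_le ⟨⟨φ '' (U.1 : Set A), φ.isOpenMap _ U.1.2⟩, ⟨a, U.2, rfl⟩⟩ ?_
  exact (IsHomeomorph.topologicalKrullDim_eq _ (φ.image (U.1 : Set A)).isHomeomorph).ge

theorem localDim_homeomorph {A B : Type*} [TopologicalSpace A] [TopologicalSpace B] (φ : A ≃ₜ B) (a : A) :
    FlatMor.localDim B (φ a) = FlatMor.localDim A a := by
  apply le_antisymm (localDim_le_homeomorph φ a)
  have := localDim_le_homeomorph φ.symm (φ a)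
  simpa using this

/-! ### The fibre over a field-valued point -/

section Fibre

variable {X Y Xk : Sp S} (hX : IsAlgSpace X) (hY : IsAlgSpace Y) (f : X ⟶ Y)
  (hf : LocP @LocallyOfFiniteType f) (r : FieldPt Y) (fst : Xk ⟶ X) (snd : Xk ⟶ (yon S).obj r.pt)
  (hsq : IsPullback fst snd f r.toHom)

include hX hY hf hsq in
theorem locP_snd : LocP @LocallyOfFiniteType snd :=
  locP_of_isPullback etLocalST_locallyOfFiniteType hX hY hsq hf

include hX hY hf hsq in
theorem chartsNJ_fibre : Gen.ChartsNJ Xk :=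
  Gen.chartsNJ_of_locP_lft_field r.K r.str snd (locP_snd hX hY f hf r fst snd hsq)

include hsq in
theorem range_map_fst : Set.range (Points.map fst) = Points.map f ⁻¹' {Points.mk r} := by
  ext x
  constructor
  · rintro ⟨w, rfl⟩
    show Points.map f (Points.map fst w) = Points.mk r
    rw [← Points.map_comp, hsq.w, Points.map_comp, points_map_toHom_eq]
  · intro hx
    obtain ⟨w, hw1, -⟩ := exists_point_of_isPullback hsq x
      (Points.ofScheme r.pt (IsLocalRing.closedPoint r.K)) (by rw [points_map_toHom_eq]; exact hx)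
    exact ⟨w, hw1⟩

include hX hY hf hsq in
/-- The fibre has dimension zero at a point iff the morphism is quasi-finite at its image. -/
theorem hasAt_localDim_iff_mem_qfLocus (xt : Points Xk) :
    HasAt (fun U u => FlatMor.localDim ↥U u = 0) Xk xt ↔ Points.map fst xt ∈ qfLocus f := by
  constructor
  · intro hz
    exact mem_qfLocus_of_fibre_localDim_zero hX hY f hf r.K r.str r.toHom fst snd hsq xt hz
  · intro hx
    have hxt : xt ∈ qfLocus snd := (qfLocus_baseChange hX hY (IsAlgSpace.yon_obj _) hsq hf xt).2 hx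
    obtain ⟨U, V, a, b, h, u, ha, hb, hc, hu, hq⟩ := hxt
    obtain ⟨m, hm⟩ := (yon S).map_surjective (a ≫ snd)
    have hid : RepWith @Etale (𝟙 ((yon S).obj r.pt)) := repWith_id _ _
    have hc' : a ≫ snd = (yon S).map m ≫ 𝟙 _ := by rw [Category.comp_id, hm]
    have hsnd := locP_snd hX hY f hf r fst snd hsq
    have hlft : LocallyOfFiniteType m.left := hsnd _ _ m ha hid hc'
    have hmem : Points.ofPt a u ∈ qfLocus snd := ⟨U, V, a, b, h, u, ha, hb, hc, rfl, hq⟩
    have hqm : m.left.QuasiFiniteAt u := (mem_qfLocus_iff snd hsnd a (𝟙 _) m ha hid hc' u).1 hmem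
    rw [quasiFiniteAt_iff_exists_open] at hqm
    obtain ⟨O, hO, hOu⟩ := hqm
    have hsub : Subsingleton ↥(r.pt).left := inferInstanceAs (Subsingleton ↥(Spec (.of r.K)))
    have hOeq : O = {u} := by
      rw [← hOu]
      ext t
      constructor
      · intro ht
        exact ⟨ht, Subsingleton.elim _ _⟩
      · intro ht
        exact ht.1
    exact ⟨U, a, u, ha, hu, localDim_eq_zero_of_isOpen_singleton u (hOeq ▸ hO)⟩

include hX hY hf hsq in
/-- A point of the fibre is isolated iff the morphism is quasi-finite at its image. -/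
theorem isOpen_singleton_iff_mem_qfLocus (hXk : IsAlgSpace Xk) (xt : Points Xk) :
    IsOpen ({xt} : Set (Points Xk)) ↔ Points.map fst xt ∈ qfLocus f := by
  rw [Gen.isOpen_singleton_iff_hasAt_localDim (chartsNJ_fibre hX hY f hf r fst snd hsq) hXk xt,
    hasAt_localDim_iff_mem_qfLocus hX hY f hf r fst snd hsq xt]

include hX hY hf hsq in
/-- The fibre is discrete iff the morphism is quasi-finite at all points over the given point. -/
theorem discreteTopology_iff_forall_mem_qfLocus (hXk : IsAlgSpace Xk) :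
    DiscreteTopology (Points Xk) ↔ ∀ x : Points X, Points.map f x = Points.mk r → x ∈ qfLocus f := by
  constructor
  · intro hD x hx
    obtain ⟨xt, rfl⟩ := (range_map_fst f r fst snd hsq).ge hx
    exact (isOpen_singleton_iff_mem_qfLocus hX hY f hf r fst snd hsq hXk xt).1 (isOpen_discrete _)
  · intro H
    rw [discreteTopology_iff_isOpen_singleton]
    intro xt
    exact (isOpen_singleton_iff_mem_qfLocus hX hY f hf r fst snd hsq hXk xt).2
      (H _ ((range_map_fst f r fst snd hsq).le ⟨xt, rfl⟩))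

end Fibre

/-- For a decent target, the fibre of `|f|` over a point is homeomorphic to the space of points of the fibre over a
monomorphic quasi-compact representative. -/
theorem exists_fibre_homeomorph {X Y : Sp S} (hX : IsAlgSpace X) (hY : IsAlgSpace Y) (f : X ⟶ Y)
    (hdY : IsDecent Y) (y : Points Y) :
    ∃ (Xk₀ : Sp S) (_ : IsAlgSpace Xk₀) (r₀ : FieldPt Y) (fst₀ : Xk₀ ⟶ X) (snd₀ : Xk₀ ⟶ (yon S).obj r₀.pt)
      (_ : IsPullback fst₀ snd₀ f r₀.toHom) (_ : Points.mk r₀ = y)
      (φ : Points Xk₀ ≃ₜ ↥(Points.map f ⁻¹' {y})), ∀ t, (φ t).1 = Points.map fst₀ t := by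
  obtain ⟨r₀, hr₀, hm₀, hq₀⟩ := hdY y
  have sq₀ := IsPullback.of_hasPullback f r₀.toHom
  have hXk₀ : IsAlgSpace (pullback f r₀.toHom) :=
    isAlgSpace_of_isPullback hX hY.diag (IsAlgSpace.yon_obj _) sq₀
  have emb := isEmbedding_map_fst_of_qc_mono_point hX hY f r₀ hm₀ hq₀ _ _ sq₀
  have hrange : Set.range (Points.map (pullback.fst f r₀.toHom)) = Points.map f ⁻¹' {y} := by
    rw [emb.2, hr₀]
  exact ⟨_, hXk₀, r₀, _, _, sq₀, hr₀, emb.1.toHomeomorph.trans (Homeomorph.setCongr hrange), fun t => rfl⟩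

/-- A morphism locally of finite type is quasi-finite at a point with finite fibre. -/
theorem quasiFiniteAt_of_finite_fibre {W V : Scheme.{u}} (g : W ⟶ V) [LocallyOfFiniteType g] (w : W)
    (hfin : (g ⁻¹' {g w}).Finite) : g.QuasiFiniteAt w := by
  have h1 : Finite ↥(g ⁻¹' {g w}) := hfin.to_subtype
  have h2 : Finite ↥(g.fiber (g w)) := (g.fiberHomeo (g w)).toEquiv.finite_iff.2 h1
  rw [Scheme.Hom.quasiFiniteAt_iff_isOpen_singleton_asFiber]
  exact isOpen_discrete _

/-- If the source is decent and the fibre of `|f|` over a point is finite, then `f` is quasi-finite at every point of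
the fibre. -/
theorem mem_qfLocus_of_finite_fibre {X Y : Sp S} (hX : IsAlgSpace X) (hY : IsAlgSpace Y) (f : X ⟶ Y)
    (hf : LocP @LocallyOfFiniteType f) (hdX : IsDecent X) (y : Points Y)
    (hfin : (Points.map f ⁻¹' {y}).Finite) (x : Points X) (hx : Points.map f x = y) : x ∈ qfLocus f := by
  obtain ⟨U₀, a₀, hae, has⟩ := hX.atlas
  obtain ⟨V, b, hbe, hbs⟩ := hY.atlas
  obtain ⟨U, h, c, h1, h2, -, -, h3⟩ := exists_chart_diagram f b hbe a₀ hae
  obtain ⟨u, hu⟩ := ofPt_surjective_of_surjective _ (h3 hbs has) x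
  generalize (yon S).map c ≫ a₀ = a at h1 h2 hu
  obtain ⟨_, ⟨W₀, hW₀, rfl⟩, huW, -⟩ :=
    U.left.isBasis_affineOpens.exists_subset_of_mem_open (Set.mem_univ u) isOpen_univ
  let W : U.left.Opens := W₀
  have hW : IsAffineOpen W := hW₀
  let ι' : Over.mk (W.ι ≫ U.hom) ⟶ U := Over.homMk W.ι rfl
  have hι' : RepWith @Etale ((yon S).map ι') := (repWith_yon_map_iff _ _).2 (by show Etale W.ι; infer_instance)
  have ha' : RepWith @Etale ((yon S).map ι' ≫ a) := (RepWith @Etale).comp_mem _ _ hι' h1
  have hc' : ((yon S).map ι' ≫ a) ≫ f = (yon S).map (ι' ≫ h) ≫ b := by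
    rw [Category.assoc, h2, Functor.map_comp, Category.assoc]
  have haff : IsAffine W.toScheme := hW
  have hcpt : CompactSpace ↥(Over.mk (W.ι ≫ U.hom)).left := by
    show CompactSpace ↥W.toScheme
    infer_instance
  have hlft : LocallyOfFiniteType (ι' ≫ h).left := hf _ _ (ι' ≫ h) ha' hbe hc'
  let u' : ↥(Over.mk (W.ι ≫ U.hom)).left := (⟨u, huW⟩ : W)
  have hu' : Points.ofPt ((yon S).map ι' ≫ a) u' = x := by
    rw [ofPt_yon_map_comp]; exact hu
  have hfib : ((ι' ≫ h).left ⁻¹' {(ι' ≫ h).left u'}).Finite := by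
    refine (hfin.biUnion (t := fun x' => Points.ofPt ((yon S).map ι' ≫ a) ⁻¹' {x'}) fun x' _ => ?_).subset ?_
    · obtain ⟨p, rfl, -, hq⟩ := hdX x'
      exact finite_fibre_of_quasiCompact_fieldPt p hq _ ha'
    · intro t ht
      have ht' : (ι' ≫ h).left t = (ι' ≫ h).left u' := ht
      refine Set.mem_biUnion (x := Points.ofPt ((yon S).map ι' ≫ a) t) ?_ rfl
      show Points.map f (Points.ofPt ((yon S).map ι' ≫ a) t) = y
      rw [Points.map_ofPt, hc', ofPt_yon_map_comp, ht', ← ofPt_yon_map_comp, ← hc', ← Points.map_ofPt, hu', hx]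
  rw [← hu']
  exact (mem_qfLocus_iff f hf _ b (ι' ≫ h) ha' hbe hc' u').2 (quasiFiniteAt_of_finite_fibre _ u' hfib)

/-- A Noetherian space has finitely many isolated points. -/
theorem finite_isolated_of_noetherianSpace (T : Type*) [TopologicalSpace T] [TopologicalSpace.NoetherianSpace T] :
    {t : T | IsOpen ({t} : Set T)}.Finite := by
  refine IsCompact.finite (TopologicalSpace.NoetherianSpace.isCompact _) ?_
  rw [isDiscrete_iff_forall_mem_exists_isOpen]
  intro t ht
  refine ⟨{t}, ht, ?_⟩
  ext z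
  constructor
  · rintro ⟨hz, -⟩; exact hz
  · intro hz
    have hz' : z = t := hz
    exact ⟨hz, hz' ▸ ht⟩

/-- A quasi-compact algebraic space with locally Noetherian charts has finitely many isolated points. -/
theorem finite_isolated_of_quasiCompact {Xk : Sp S} (hch : Gen.ChartsNJ Xk) (hXk : IsAlgSpace Xk)
    (hq : IsQuasiCompactSp Xk) : {xt : Points Xk | IsOpen ({xt} : Set (Points Xk))}.Finite := by
  obtain ⟨A, a, hae, has, hcpt⟩ := hq
  have hAN : IsLocallyNoetherian A.left := (hch a hae).1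
  have hAN' : IsNoetherian A.left := { }
  have hN := Gen.isLocNoethSp_of_chartsNJ hch hXk
  refine ((finite_isolated_of_noetherianSpace ↥A.left).image (Points.ofPt a)).subset ?_
  intro xt hxt
  obtain ⟨α, rfl⟩ := ofPt_surjective_of_surjective a has xt
  exact ⟨α, isOpen_singleton_of_isOpen_singleton_ofPt hN a hae α hxt, rfl⟩

end Groth.Agent.Lib.Helper16.FibrePt
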