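import Groth.Agent.Lib.Helper16.DimF6
import Groth.Agent.Lib.Helper16.FibrePt
import Groth.Agent.Lib.Helper9.TopDim

/-!
# Helper library (helper16): dimension of algebraic spaces locally of finite type over a field point
-/

set_option autoImplicit false
universe u
open CategoryTheory CategoryTheory.Limits AlgebraicGeometry Opposite Topology TopologicalSpace

namespace Groth.Agent.Lib.Helper16.DimF

open AlgSp Groth.Agent.Lib.Helper16 Groth.Agent.Lib.Helper16.QfAt Groth.Agent.Lib.Helper15
open Groth.Agent.Lib.Helper12.SchemeDimIneq Groth.Agent.Lib.Helper12.SchemeDimFT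

theorem tkd_eq_bot_iff (T : Type*) [TopologicalSpace T] : topologicalKrullDim T = ⊥ ↔ IsEmpty T := by
  unfold topologicalKrullDim
  rw [Order.krullDim_eq_bot_iff]
  constructor
  · intro h
    exact ⟨fun t => h.false ⟨closure {t}, isIrreducible_singleton.closure, isClosed_closure⟩⟩
  · intro h
    exact ⟨fun Z => by
      obtain ⟨t, _⟩ := Z.isIrreducible.nonempty
      exact h.false t⟩

/-- Over a one-point base the relative dimension at a point is the local dimension. -/
theorem fibreDimAt_eq_localDim_of_subsingleton {W T : Scheme.{u}} [Subsingleton ↥T] (h : W ⟶ T) (w : W) :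
    FlatMor.fibreDimAt h w = FlatMor.localDim ↥W w := by
  unfold FlatMor.fibreDimAt
  have huniv : h ⁻¹' {h w} = Set.univ := by
    ext z
    simp only [Set.mem_preimage, Set.mem_singleton_iff, Set.mem_univ, iff_true]
    exact Subsingleton.elim _ _
  let φ : ↥(h.fiber (h w)) ≃ₜ ↥W :=
    ((h.fiberHomeo (h w)).trans (Homeomorph.setCongr huniv)).trans (Homeomorph.Set.univ ↥W)
  have hφ : φ (h.asFiber w) = w := h.fiberι_asFiber w
  rw [← FibrePt.localDim_homeomorph φ (h.asFiber w), hφ]

variable {S : Scheme.{u}}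

/-- The dimension of an algebraic space locally of finite type over a one-point scheme is the supremum of the
relative dimensions at its points. -/
theorem dim_le_iff_of_subsingleton {Z : Sp S} (hZ : IsAlgSpace Z) (r : Over S) [Subsingleton ↥r.left]
    (snd : Z ⟶ (yon S).obj r) (hsnd : LocP @LocallyOfFiniteType snd) (d : ℕ) :
    AlgSp.dim Z ≤ (d : WithBot ℕ∞) ↔
      ∀ z : Points Z, HasAtMor (fun _ _ h u => FlatMor.fibreDimAt h u ≤ (d : WithBot ℕ∞)) snd z := by
  have hid : RepWith @Etale (𝟙 ((yon S).obj r)) := repWith_id _ _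
  constructor
  · intro hd z
    obtain ⟨W, a, hae, has⟩ := hZ.atlas
    obtain ⟨w, rfl⟩ := ofPt_surjective_of_surjective a has z
    obtain ⟨m, hm⟩ := (yon S).map_surjective (a ≫ snd)
    have hc : a ≫ snd = (yon S).map m ≫ 𝟙 _ := by rw [Category.comp_id, hm]
    refine (hasAtMor_fibreDimAt_iff (fun t => t ≤ (d : WithBot ℕ∞)) snd hsnd a (𝟙 _) m hae hid hc w).2 ?_
    rw [fibreDimAt_eq_localDim_of_subsingleton]
    refine le_trans (Groth.Agent.Lib.Helper9.localDim_le_topologicalKrullDim w) (le_trans ?_ hd)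
    unfold AlgSp.dim
    exact le_iSup_of_le W (le_iSup_of_le a (le_iSup_of_le hae le_rfl))
  · intro H
    unfold AlgSp.dim
    refine iSup_le fun W => iSup_le fun a => iSup_le fun hae => ?_
    obtain ⟨m, hm⟩ := (yon S).map_surjective (a ≫ snd)
    have hc : a ≫ snd = (yon S).map m ≫ 𝟙 _ := by rw [Category.comp_id, hm]
    rw [Groth.Agent.Lib.Helper9.topologicalKrullDim_eq_iSup_localDim]
    refine iSup_le fun w => ?_
    rw [← fibreDimAt_eq_localDim_of_subsingleton m.left w]
    exact (hasAtMor_fibreDimAt_iff (fun t => t ≤ (d : WithBot ℕ∞)) snd hsnd a (𝟙 _) m hae hid hc w).1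
      (H _)

/-- The dimension of an algebraic space is `⊥` iff it has no points. -/
theorem dim_eq_bot_iff {Z : Sp S} (hZ : IsAlgSpace Z) : AlgSp.dim Z = ⊥ ↔ IsEmpty (Points Z) := by
  unfold AlgSp.dim
  simp only [iSup_eq_bot, tkd_eq_bot_iff]
  constructor
  · intro H
    refine ⟨fun z => ?_⟩
    obtain ⟨W, a, hae, has⟩ := hZ.atlas
    obtain ⟨w, -⟩ := ofPt_surjective_of_surjective a has z
    exact (H W a hae).false w
  · intro H W a hae
    exact ⟨fun w => H.false (Points.ofPt a w)⟩

end Groth.Agent.Lib.Helper16.DimF
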