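import Groth.Agent.Lib.Helper16.DimF7
import Groth.Agent.Lib.Helper12.FlatFibreDim2
import Groth.Agent.Lib.Helper12.SecComp

/-!
# Helper library (helper16): semicontinuity of fibre dimensions, chart level
-/

set_option autoImplicit false
universe u
open CategoryTheory CategoryTheory.Limits AlgebraicGeometry Opposite Topology TopologicalSpace

namespace Groth.Agent.Lib.Helper16.DimF

open AlgSp Groth.Agent.Lib.Helper16 Groth.Agent.Lib.Helper16.QfAt Groth.Agent.Lib.Helper15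
open Groth.Agent.Lib.Helper12.SchemeDimIneq Groth.Agent.Lib.Helper12.SchemeDimFT

/-- For a flat morphism locally of finite presentation, the image of the locus where the fibre dimension exceeds `n`
is open (no quasi-compactness needed). -/
theorem isOpen_image_setOf_not_fibreDimAt_le {U V : Scheme.{u}} (h : U ⟶ V) [Flat h]
    [LocallyOfFinitePresentation h] (n : ℕ) :
    IsOpen (h '' {x : U | FlatMor.fibreDimAt h x ≤ (n : WithBot ℕ∞)}ᶜ) := by
  rw [isOpen_iff_forall_mem_open]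
  rintro s ⟨x, hx, rfl⟩
  obtain ⟨_, ⟨V', hV', rfl⟩, hxV', -⟩ := V.isBasis_affineOpens.exists_subset_of_mem_open
    (Set.mem_univ (h x)) isOpen_univ
  obtain ⟨_, ⟨U', hU', rfl⟩, hxU', hUV⟩ := U.isBasis_affineOpens.exists_subset_of_mem_open
    hxV' (h ⁻¹ᵁ V').2
  have e : U' ≤ h ⁻¹ᵁ V' := hUV
  have hfl : Flat (h.resLE V' U' e) := inferInstance
  have hfp : LocallyOfFinitePresentation (h.resLE V' U' e) := inferInstance
  have hUa : IsAffine (U' : Scheme.{u}) := hU'
  have hVa : IsAffine (V' : Scheme.{u}) := hV'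
  have hqc : QuasiCompact (h.resLE V' U' e) := inferInstance
  have hdim : ∀ z : ↥U', FlatMor.fibreDimAt (h.resLE V' U' e) z = FlatMor.fibreDimAt h ((Scheme.Opens.ι U') z) := by
    intro z
    rw [fibreDimAt_eq_relDimQ, fibreDimAt_eq_relDimQ]
    exact relDimQ_square (Scheme.Opens.ι U') (h.resLE V' U' e) (Scheme.Opens.ι V') h (Scheme.Hom.resLE_comp_ι h e) z
  have hopen := Groth.Agent.Lib.Helper12.FlatFibreDim.isOpen_image_setOf_not_fibreDimAt_le
    (h.resLE V' U' e) n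
  refine ⟨(Scheme.Opens.ι V') '' ((h.resLE V' U' e) '' {z : ↥U' | FlatMor.fibreDimAt (h.resLE V' U' e) z ≤
      (n : WithBot ℕ∞)}ᶜ), ?_, (Scheme.Opens.ι V').isOpenEmbedding.isOpenMap _ hopen, ?_⟩
  · rintro _ ⟨_, ⟨z, hz, rfl⟩, rfl⟩
    refine ⟨(Scheme.Opens.ι U') z, ?_, ?_⟩
    · intro hle
      apply hz
      show FlatMor.fibreDimAt (h.resLE V' U' e) z ≤ (n : WithBot ℕ∞)
      rw [hdim z]
      exact hle
    · rw [← Scheme.Hom.comp_apply, ← Scheme.Hom.comp_apply, Scheme.Hom.resLE_comp_ι]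
  · refine ⟨h.resLE V' U' e ⟨x, hxU'⟩, ⟨⟨x, hxU'⟩, ?_, rfl⟩, ?_⟩
    · intro hle
      apply hx
      have h1 : FlatMor.fibreDimAt (h.resLE V' U' e) ⟨x, hxU'⟩ ≤ (n : WithBot ℕ∞) := hle
      rw [hdim ⟨x, hxU'⟩] at h1
      exact h1
    · rw [← Scheme.Hom.comp_apply, Scheme.Hom.resLE_comp_ι]
      rfl

end Groth.Agent.Lib.Helper16.DimF
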