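import Groth.Agent.Lib.Helper16.DimF8
import Groth.Agent.Lib.Helper12.Chevalley

/-!
# Helper library (helper16): finiteness of the dimension of quasi-compact fibres; order lemmas in `WithBot ℕ∞`
-/

set_option autoImplicit false
universe u
open CategoryTheory CategoryTheory.Limits AlgebraicGeometry Opposite Topology TopologicalSpace

namespace Groth.Agent.Lib.Helper16.DimF

open AlgSp Groth.Agent.Lib.Helper16 Groth.Agent.Lib.Helper16.QfAt Groth.Agent.Lib.Helper15
open Groth.Agent.Lib.Helper12.SchemeDimIneq Groth.Agent.Lib.Helper12.SchemeDimFT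

theorem withBot_lt_succ_iff (x : WithBot ℕ∞) (n : ℕ) :
    x < (((n + 1 : ℕ) : ℕ∞) : WithBot ℕ∞) ↔ x ≤ ((n : ℕ) : WithBot ℕ∞) := by
  induction x using WithBot.recBotCoe with
  | bot => simp
  | coe x =>
    induction x using ENat.recTopCoe with
    | top =>
      constructor
      · intro h
        exact absurd (WithBot.coe_lt_coe.1 h) (by simp)
      · intro h
        have h' : ((⊤ : ℕ∞) : WithBot ℕ∞) ≤ (((n : ℕ) : ℕ∞) : WithBot ℕ∞) := h
        exact absurd (WithBot.coe_le_coe.1 h') (by simp)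
    | coe j =>
      constructor
      · intro h
        have h1 : (j : ℕ∞) < ((n + 1 : ℕ) : ℕ∞) := WithBot.coe_lt_coe.1 h
        have h2 : j < n + 1 := by exact_mod_cast h1
        have h3 : j ≤ n := by omega
        exact_mod_cast h3
      · intro h
        have h1 : j ≤ n := by exact_mod_cast h
        have h2 : j < n + 1 := by omega
        exact_mod_cast h2

theorem withBot_lt_zero_iff (x : WithBot ℕ∞) : x < (((0 : ℕ) : ℕ∞) : WithBot ℕ∞) ↔ x = ⊥ := by
  rw [Nat.cast_zero]
  exact WithBot.lt_coe_bot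

variable {S : Scheme.{u}}

/-- A quasi-compact algebraic space locally of finite type over a one-point scheme has finite dimension. -/
theorem dim_lt_top_of_isQuasiCompactSp {Z : Sp S} (hZ : IsAlgSpace Z) (hqc : IsQuasiCompactSp Z)
    (r : Over S) [Subsingleton ↥r.left] (snd : Z ⟶ (yon S).obj r) (hsnd : LocP @LocallyOfFiniteType snd) :
    AlgSp.dim Z < ⊤ := by
  obtain ⟨W, w, hwe, hws, hWc⟩ := hqc
  have hWc' : CompactSpace ↥W.left := hWc
  have hid : RepWith @Etale (𝟙 ((yon S).obj r)) := repWith_id _ _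
  obtain ⟨m, hm⟩ := (yon S).map_surjective (w ≫ snd)
  have hc : w ≫ snd = (yon S).map m ≫ 𝟙 _ := by rw [Category.comp_id, hm]
  have : LocallyOfFiniteType m.left := hsnd _ _ m hwe hid hc
  obtain ⟨t, ht⟩ := isCompact_univ.elim_finite_subcover
    (fun n : ℕ => {w₀ : ↥W.left | FlatMor.fibreDimAt m.left w₀ ≤ (n : WithBot ℕ∞)})
    (fun n => Groth.Agent.Lib.Helper12.Chevalley.isOpen_setOf_fibreDimAt_le m.left n)
    (fun w₀ _ => by
      obtain ⟨n, hn⟩ := Groth.Agent.Lib.Helper12.SecComp.exists_nat_fibreDimAt m.left w₀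
      exact Set.mem_iUnion.2 ⟨n, hn.le⟩)
  have hN : AlgSp.dim Z ≤ ((t.sup id : ℕ) : WithBot ℕ∞) := by
    rw [dim_le_iff_of_subsingleton hZ r snd hsnd]
    intro z
    obtain ⟨w₀, rfl⟩ := ofPt_surjective_of_surjective w hws z
    refine (hasAtMor_fibreDimAt_iff (fun x => x ≤ ((t.sup id : ℕ) : WithBot ℕ∞)) snd hsnd w (𝟙 _) m
      hwe hid hc w₀).2 ?_
    obtain ⟨n, hn⟩ := Set.mem_iUnion.1 (ht (Set.mem_univ w₀))
    obtain ⟨hnt, hn'⟩ := Set.mem_iUnion.1 hn
    have hle : n ≤ t.sup id := Finset.le_sup (f := id) hnt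
    have hn'' : FlatMor.fibreDimAt m.left w₀ ≤ (n : WithBot ℕ∞) := hn'
    exact le_trans hn'' (by exact_mod_cast hle)
  refine lt_of_le_of_lt hN ?_
  exact WithBot.coe_lt_coe.2 (ENat.coe_lt_top _)

end Groth.Agent.Lib.Helper16.DimF
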