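import Mathlib
import Groth.Agent.Lib.Helper6.FibProdTrdeg

/-!
# Helper library (helper16): a point of a fibre product over a given pair with the transcendence degree of the
residue field extension preserved
-/

set_option autoImplicit false
universe u
open CategoryTheory CategoryTheory.Limits AlgebraicGeometry IsLocalRing

namespace Groth.Agent.Lib.Helper16.TrdegBC

open Groth.Agent.Lib.Helper6.TrdegFree Groth.Agent.Lib.Helper6.FibProdTrdeg

/-- A common extension of `K` and `K'` over `k` in which a transcendence basis of `K/k` stays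
algebraically independent over `K'`. -/
theorem exists_free_ext {k K K' : Type u} [Field k] [Field K] [Field K'] [Algebra k K] [Algebra k K']
    {ι : Type u} (t : ι → K) (ht : IsTranscendenceBasis k t) :
    ∃ (Ω : Type u) (_ : Field Ω) (φ₁ : K →+* Ω) (φ₂ : K' →+* Ω),
      φ₁.comp (algebraMap k K) = φ₂.comp (algebraMap k K') ∧
      AlgebraicIndependent φ₂.fieldRange (fun i => φ₁ (t i)) := by
  classical
  obtain ⟨Ω, _, _, _, Y, hY₁⟩ := bigField K' ι
  letI : Algebra k Ω := ((algebraMap K' Ω).comp (algebraMap k K')).toAlgebra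
  haveI : IsScalarTower k K' Ω := .of_algebraMap_eq fun _ => rfl
  have hYk : AlgebraicIndependent k Y := hY₁.restrictScalars (algebraMap k K').injective
  have hginj : Function.Injective (MvPolynomial.aeval Y : MvPolynomial ι k →ₐ[k] Ω) :=
    algebraicIndependent_iff_injective_aeval.mp hYk
  let ghat : FractionRing (MvPolynomial ι k) →ₐ[k] Ω :=
    IsFractionRing.liftAlgHom (K := FractionRing (MvPolynomial ι k)) hginj
  let f₂ : IntermediateField.adjoin k (Set.range t) →ₐ[k] Ω :=
    ghat.comp ht.1.aevalEquivField.symm.toAlgHom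
  haveI : Algebra.IsAlgebraic (IntermediateField.adjoin k (Set.range t)) K := ht.isAlgebraic_field
  obtain ⟨φ, hφ⟩ := IsAlgClosed.surjective_domRestrict_of_isAlgebraic (K := k)
    (L := IntermediateField.adjoin k (Set.range t)) (E := K) (M := Ω) f₂
  have hφt : ∀ j, φ (t j) = Y j := by
    intro j
    have hvj : t j ∈ IntermediateField.adjoin k (Set.range t) :=
      IntermediateField.subset_adjoin k _ ⟨j, rfl⟩
    have h6 : φ (t j) = f₂ ⟨t j, hvj⟩ := by rw [← hφ]; rfl
    rw [h6]
    have h7 : ht.1.aevalEquivField (algebraMap (MvPolynomial ι k)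
        (FractionRing (MvPolynomial ι k)) (MvPolynomial.X j)) = ⟨t j, hvj⟩ := by
      apply Subtype.ext
      rw [ht.1.aevalEquivField_algebraMap_apply_coe]; simp
    have h8 : ht.1.aevalEquivField.symm ⟨t j, hvj⟩ = algebraMap (MvPolynomial ι k)
        (FractionRing (MvPolynomial ι k)) (MvPolynomial.X j) := by
      rw [← h7, AlgEquiv.symm_apply_apply]
    show ghat (ht.1.aevalEquivField.symm ⟨t j, hvj⟩) = Y j
    rw [h8]
    show IsFractionRing.lift hginj (algebraMap (MvPolynomial ι k)
        (FractionRing (MvPolynomial ι k)) (MvPolynomial.X j)) = Y j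
    rw [IsFractionRing.lift_algebraMap]; simp
  refine ⟨Ω, inferInstance, (φ : K →+* Ω), algebraMap K' Ω, ?_, ?_⟩
  · ext r
    show φ (algebraMap k K r) = algebraMap K' Ω (algebraMap k K' r)
    rw [φ.commutes]
    rfl
  · have hfun : (fun i => (φ : K →+* Ω) (t i)) = Y := funext hφt
    rw [hfun]
    have H : AlgebraicIndependent K' (⇑(RingHom.id Ω) ∘ Y) := hY₁
    exact AlgebraicIndependent.of_ringHom_of_comp_eq
      ((algebraMap K' Ω).rangeRestrictFieldEquiv.symm : (algebraMap K' Ω).fieldRange →+* K')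
      (RingHom.id Ω) H (RingEquiv.injective _) (by
        ext a
        exact (algebraMap K' Ω).rangeRestrictFieldEquiv_apply_symm_apply a)

variable {P X Y S : Scheme.{u}} {fst : P ⟶ X} {snd : P ⟶ Y} {f : X ⟶ S} {g : Y ⟶ S}

/-- Over a pair of points with the same image there is a point of the fibre product at which the
transcendence degree of the residue field extension is preserved. -/
theorem exists_point_resTrdeg_eq (h : IsPullback fst snd f g) (x : X) (y : Y)
    (hxy : f.base x = g.base y) :
    ∃ t : P, fst.base t = x ∧ snd.base t = y ∧ Dual3.resTrdeg snd t = Dual3.resTrdeg f x := by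
  classical
  have hy : (Y.fromSpecResidueField y ≫ g).base (closedPoint (Y.residueField y)) = f.base x :=
    (congrArg g.base (Scheme.fromSpecResidueField_apply y _)).trans hxy.symm
  obtain ⟨b, hb⟩ := factor (L := Y.residueField y) (Y.fromSpecResidueField y ≫ g) (f.base x) hy
  letI aK : Algebra (S.residueField (f.base x)) (X.residueField x) :=
    (f.residueFieldMap x).hom.toAlgebra
  letI aK' : Algebra (S.residueField (f.base x)) (Y.residueField y) := b.hom.toAlgebra
  obtain ⟨ι, t, ht⟩ := exists_isTranscendenceBasis' (S.residueField (f.base x)) (X.residueField x)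
  obtain ⟨Ω, _, φ₁, φ₂, hcompat, hind⟩ := exists_free_ext (K' := Y.residueField y) t ht
  let θ₁ : Spec (CommRingCat.of Ω) ⟶ X :=
    Spec.map (CommRingCat.ofHom φ₁) ≫ X.fromSpecResidueField x
  let θ₂ : Spec (CommRingCat.of Ω) ⟶ Y :=
    Spec.map (CommRingCat.ofHom φ₂) ≫ Y.fromSpecResidueField y
  have hcc : f.residueFieldMap x ≫ CommRingCat.ofHom φ₁ = b ≫ CommRingCat.ofHom φ₂ :=
    CommRingCat.hom_ext hcompat
  have hθ : θ₁ ≫ f = θ₂ ≫ g := by
    show (Spec.map (CommRingCat.ofHom φ₁) ≫ X.fromSpecResidueField x) ≫ f =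
      (Spec.map (CommRingCat.ofHom φ₂) ≫ Y.fromSpecResidueField y) ≫ g
    rw [Category.assoc, Category.assoc, ← hb,
      ← Scheme.Hom.SpecMap_residueFieldMap_fromSpecResidueField, ← Category.assoc,
      ← Category.assoc, ← Spec.map_comp, ← Spec.map_comp]
    exact congrArg (fun m => Spec.map m ≫ S.fromSpecResidueField (f.base x)) hcc
  obtain ⟨θ, hθ1, hθ2⟩ : ∃ θ : Spec (CommRingCat.of Ω) ⟶ P, θ ≫ fst = θ₁ ∧ θ ≫ snd = θ₂ :=
    ⟨h.lift θ₁ θ₂ hθ, h.lift_fst _ _ _, h.lift_snd _ _ _⟩
  have hfst : fst.base (θ.base (closedPoint Ω)) = x := by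
    have : (θ ≫ fst).base (closedPoint Ω) = x := by
      rw [hθ1]; exact Scheme.fromSpecResidueField_apply x _
    exact this
  have hsnd : snd.base (θ.base (closedPoint Ω)) = y := by
    have : (θ ≫ snd).base (closedPoint Ω) = y := by
      rw [hθ2]; exact Scheme.fromSpecResidueField_apply y _
    exact this
  refine ⟨θ.base (closedPoint Ω), hfst, hsnd, le_antisymm ?_ ?_⟩
  · have ub := resTrdeg_le_of_isPullback h (θ.base (closedPoint Ω))
    rw [hfst] at ub
    exact ub
  · have hu : ∀ i, φ₁ (t i) ∈ Set.range (ev θ).hom := by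
      intro i
      apply range_ev_comp_subset θ fst
      rw [range_ev_congr hθ1, range_ev_fromSpecResidueField]
      exact ⟨_, rfl⟩
    have hA : Set.range (ev (θ ≫ snd)).hom ⊆ φ₂.fieldRange := by
      rw [range_ev_congr hθ2, range_ev_fromSpecResidueField]
      rintro _ ⟨z, rfl⟩
      exact RingHom.mem_fieldRange.2 ⟨z, rfl⟩
    have lb := le_resTrdeg_of_ev snd θ φ₂.fieldRange _ hu hA hind
    have hcard : Cardinal.mk ι = Dual3.resTrdeg f x := ht.cardinalMk_eq_trdeg
    rw [← hcard]
    exact lb

end Groth.Agent.Lib.Helper16.TrdegBC
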