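import Groth.Agent.Lib.Helper16.DimF6
import Groth.Agent.Lib.Helper16.TrdegBC

/-!
# Helper library (helper16): the dimension of the local ring of the fibre and the transcendence degree under base
change, for algebraic spaces
-/

set_option autoImplicit false
universe u
open CategoryTheory CategoryTheory.Limits AlgebraicGeometry Opposite Topology TopologicalSpace

namespace Groth.Agent.Lib.Helper16.DimF

open AlgSp Groth.Agent.Lib.Helper16 Groth.Agent.Lib.Helper16.QfAt Groth.Agent.Lib.Helper15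
open Groth.Agent.Lib.Helper12.SchemeDimIneq Groth.Agent.Lib.Helper12.SchemeDimFT

theorem arith_le (n n' : ℕ∞) (e e' : WithBot ℕ∞) (hn : n ≠ ⊤) (hle : n' ≤ n)
    (h : ((n' : ℕ∞) : WithBot ℕ∞) + e' = ((n : ℕ∞) : WithBot ℕ∞) + e) : e ≤ e' := by
  induction e using WithBot.recBotCoe with
  | bot => exact bot_le
  | coe e =>
    induction e' using WithBot.recBotCoe with
    | bot =>
      rw [WithBot.add_bot] at h
      exact absurd h.symm (by rw [← WithBot.coe_add]; exact WithBot.coe_ne_bot)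
    | coe e' =>
      rw [← WithBot.coe_add, ← WithBot.coe_add, WithBot.coe_inj] at h
      rw [WithBot.coe_le_coe]
      have hn' : n' ≠ ⊤ := ne_top_of_le_ne_top hn hle
      have h1 : n' + e ≤ n' + e' := by
        rw [h]
        exact add_le_add_left hle e
      exact (ENat.add_le_add_iff_left hn').1 h1

/-- The scheme-level formula: fibre dimension at a point is invariant under base change. -/
theorem fibre_formula {U V U'' V'' : Scheme.{u}} (h : U ⟶ V) [LocallyOfFiniteType h] (γ : V'' ⟶ V)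
    (β : U'' ⟶ U) (h'' : U'' ⟶ V'') (sqS : IsPullback β h'' h γ) (u'' : U'') :
    ((Cardinal.toENat (Dual3.resTrdeg h'' u'') : ℕ∞) : WithBot ℕ∞) +
        ringKrullDim ↥((h''.fiber (h'' u'')).presheaf.stalk (h''.asFiber u'')) =
      ((Cardinal.toENat (Dual3.resTrdeg h (β u'')) : ℕ∞) : WithBot ℕ∞) +
        ringKrullDim ↥((h.fiber (h (β u''))).presheaf.stalk (h.asFiber (β u''))) := by
  haveI : LocallyOfFiniteType h'' :=
    MorphismProperty.of_isPullback (P := @LocallyOfFiniteType) sqS inferInstance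
  have e2 := (Groth.Agent.S9358.result h γ β h'' sqS 0).1 u''
  rw [fibreDimAt_eq_trn_add, fibreDimAt_eq_trn_add, trn_eq_toENat, trn_eq_toENat] at e2
  exact e2

variable {S : Scheme.{u}}

theorem fibreStalkDim_trdeg_baseChange {X Y Y' X' : Sp S} (hX : IsAlgSpace X) (hY : IsAlgSpace Y)
    (hY' : IsAlgSpace Y') {f : X ⟶ Y} {g : Y' ⟶ Y} {g' : X' ⟶ X} {f' : X' ⟶ Y'}
    (sq : IsPullback g' f' f g) (hf : LocP @LocallyOfFiniteType f) (x' : Points X')
    (e e' : WithBot ℕ∞) (r r' : Cardinal.{u})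
    (he : HasAtMor (fun _ _ h u =>
      ringKrullDim ↥((h.fiber (h u)).presheaf.stalk (h.asFiber u)) = e) f (Points.map g' x'))
    (hr : HasAtMor (fun _ _ h u => Dual3.resTrdeg h u = r) f (Points.map g' x'))
    (he' : HasAtMor (fun _ _ h u =>
      ringKrullDim ↥((h.fiber (h u)).presheaf.stalk (h.asFiber u)) = e') f' x')
    (hr' : HasAtMor (fun _ _ h u => Dual3.resTrdeg h u = r') f' x') :
    e' + ((Cardinal.toENat r' : ℕ∞) : WithBot ℕ∞) = e + ((Cardinal.toENat r : ℕ∞) : WithBot ℕ∞) ∧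
      e ≤ e' := by
  obtain ⟨U, V, U'', V'', a, bV, h, a'', b'', h'', β, γ, hae, hbVe, ha''e, hb''e, ha''s, hc, hc'', hcb,
    sqS⟩ := exists_chart_diagram_baseChange hX hY hY' sq
  obtain ⟨u'', rfl⟩ := ofPt_surjective_of_surjective a'' ha''s x'
  have hpt : Points.map g' (Points.ofPt a'' u'') = Points.ofPt a (β.left u'') := by
    rw [Points.map_ofPt, hcb, ofPt_yon_map_comp]
  haveI : LocallyOfFiniteType h.left := hf _ _ h hae hbVe hc
  rw [hpt] at he hr
  have he₀ := (hasAtMor_fibreStalkDim_iff (fun z => z = e) f a bV h hae hbVe hc (β.left u'')).1 he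
  have hr₀ := (hasAtMor_resTrdeg_iff f a bV h hae hbVe hc (β.left u'') r).1 hr
  have he'₀ := (hasAtMor_fibreStalkDim_iff (fun z => z = e') f' a'' b'' h'' ha''e hb''e hc'' u'').1 he'
  have hr'₀ := (hasAtMor_resTrdeg_iff f' a'' b'' h'' ha''e hb''e hc'' u'' r').1 hr'
  have e2 := fibre_formula h.left γ.left β.left h''.left sqS u''
  rw [hr₀, hr'₀, he₀, he'₀] at e2
  have hle : r' ≤ r := by
    have := Groth.Agent.Lib.Helper6.FibProdTrdeg.resTrdeg_le_of_isPullback sqS u''
    rwa [hr'₀, hr₀] at this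
  have hn : Cardinal.toENat r ≠ ⊤ := by
    have := trn_ne_top h.left (β.left u'')
    rwa [trn_eq_toENat, hr₀] at this
  refine ⟨by rw [add_comm e', add_comm e]; exact e2, ?_⟩
  exact arith_le _ _ e e' hn (OrderHomClass.mono Cardinal.toENat hle) e2

theorem exists_point_fibreStalkDim_eq {X Y Y' X' : Sp S} (hX : IsAlgSpace X) (hY : IsAlgSpace Y)
    (hY' : IsAlgSpace Y') {f : X ⟶ Y} {g : Y' ⟶ Y} {g' : X' ⟶ X} {f' : X' ⟶ Y'}
    (sq : IsPullback g' f' f g) (hf : LocP @LocallyOfFiniteType f) (x : Points X) (y' : Points Y')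
    (e : WithBot ℕ∞) (hxy : Points.map f x = Points.map g y')
    (he : HasAtMor (fun _ _ h u =>
      ringKrullDim ↥((h.fiber (h u)).presheaf.stalk (h.asFiber u)) = e) f x) :
    ∃ x' : Points X', Points.map g' x' = x ∧ Points.map f' x' = y' ∧
      HasAtMor (fun _ _ h u =>
        ringKrullDim ↥((h.fiber (h u)).presheaf.stalk (h.asFiber u)) = e) f' x' := by
  obtain ⟨U, V, U'', V'', a, bV, h, a'', b'', h'', β, γ, hae, hbVe, ha''e, hb''e, ha''s, hc, hc'', hcb,
    sqS⟩ := exists_chart_diagram_baseChange hX hY hY' sq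
  obtain ⟨z', hz1, hz2⟩ := exists_point_of_isPullback sq x y' hxy
  obtain ⟨u₀, rfl⟩ := ofPt_surjective_of_surjective a'' ha''s z'
  have hg'_ : ∀ w, Points.map g' (Points.ofPt a'' w) = Points.ofPt a (β.left w) := fun w => by
    rw [Points.map_ofPt, hcb, ofPt_yon_map_comp]
  have hf'_ : ∀ w, Points.map f' (Points.ofPt a'' w) = Points.ofPt b'' (h''.left w) := fun w => by
    rw [Points.map_ofPt, hc'', ofPt_yon_map_comp]
  haveI : LocallyOfFiniteType h.left := hf _ _ h hae hbVe hc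
  have hcomm : h.left (β.left u₀) = γ.left (h''.left u₀) :=
    congrArg (fun φ : U''.left ⟶ V.left => φ u₀) sqS.w
  obtain ⟨t₀, ht1, ht2, ht3⟩ := TrdegBC.exists_point_resTrdeg_eq sqS (β.left u₀) (h''.left u₀) hcomm
  refine ⟨Points.ofPt a'' t₀, ?_, ?_, ?_⟩
  · rw [hg'_ t₀, ht1, ← hg'_ u₀, hz1]
  · rw [hf'_ t₀, ht2, ← hf'_ u₀, hz2]
  · rw [← hz1, hg'_ u₀] at he
    have he₀ := (hasAtMor_fibreStalkDim_iff (fun z => z = e) f a bV h hae hbVe hc (β.left u₀)).1 he
    refine (hasAtMor_fibreStalkDim_iff (fun z => z = e) f' a'' b'' h'' ha''e hb''e hc'' t₀).2 ?_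
    have e2 := fibre_formula h.left γ.left β.left h''.left sqS t₀
    rw [ht3, ht1, he₀] at e2
    have hn : Cardinal.toENat (Dual3.resTrdeg h.left (β.left u₀)) ≠ ⊤ := by
      have := trn_ne_top h.left (β.left u₀)
      rwa [trn_eq_toENat] at this
    exact le_antisymm (arith_le _ _ _ _ hn le_rfl e2.symm) (arith_le _ _ _ _ hn le_rfl e2)

end Groth.Agent.Lib.Helper16.DimF
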