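import Groth.Agent.Lib.Helper16.Codim0
import Mathlib.AlgebraicGeometry.ValuativeCriterion

/-!
# Helper library (helper16): quasi-separated schemes all of whose local rings have dimension 0 are separated, and their
quasi-compact opens are affine
-/

set_option autoImplicit false
universe u
open CategoryTheory CategoryTheory.Limits AlgebraicGeometry Opposite

namespace Groth.Agent.Lib.Helper16.DimZeroSch

open Strata

variable {Y : Scheme.{u}}

theorem exists_affineOpen_mem' (y : ↥Y) : ∃ W : Y.Opens, IsAffineOpen W ∧ y ∈ W := by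
  obtain ⟨_, ⟨W, hW, rfl⟩, h, -⟩ :=
    Y.isBasis_affineOpens.exists_subset_of_mem_open (Set.mem_univ y) isOpen_univ
  exact ⟨W, hW, h⟩

/-- There are no nontrivial specializations. -/
theorem eq_of_specializes (hdim : ∀ y : ↥Y, ringKrullDim ↥(Y.presheaf.stalk y) = 0) {y y' : ↥Y} (h : y' ⤳ y) :
    y' = y := by
  have h0 : Order.coheight y = 0 := by
    have := ringKrullDim_stalk_eq_coheight y
    rw [hdim y] at this
    exact_mod_cast this.symm
  have hmax : IsMax y := Order.coheight_eq_zero.1 h0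
  have hle : y ≤ y' := h
  have h2 : y ⤳ y' := hmax hle
  exact (h.antisymm h2).eq

theorem mem_range_homOfLE {U V : Y.Opens} (h : U ≤ V) (v : ↥V) : v ∈ Set.range (Y.homOfLE h) ↔ v.1 ∈ U := by
  constructor
  · rintro ⟨z, rfl⟩
    have : V.ι (Y.homOfLE h z) = U.ι z := by
      rw [← Scheme.Hom.comp_apply, Scheme.homOfLE_ι]
    change V.ι (Y.homOfLE h z) ∈ U
    rw [this]
    exact z.2
  · intro hv
    refine ⟨⟨v.1, hv⟩, ?_⟩
    apply V.ι.isOpenEmbedding.injective
    rw [← Scheme.Hom.comp_apply, Scheme.homOfLE_ι]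
    rfl

/-- Affine opens are closed. -/
theorem isClosed_of_isAffineOpen [QuasiSeparatedSpace ↥Y] (hdim : ∀ y : ↥Y, ringKrullDim ↥(Y.presheaf.stalk y) = 0)
    (V : Y.Opens) (hV : IsAffineOpen V) : IsClosed (V : Set ↥Y) := by
  rw [← isOpen_compl_iff, isOpen_iff_forall_mem_open]
  intro y hy
  obtain ⟨W, hW, hyW⟩ := exists_affineOpen_mem' y
  have hWaff : IsAffine W.toScheme := hW
  obtain ⟨Z, hZdef⟩ : ∃ Z : Set ↥W.toScheme, Z = W.ι ⁻¹' (V : Set ↥Y) := ⟨_, rfl⟩
  have hZo : IsOpen Z := by rw [hZdef]; exact V.isOpen.preimage W.ι.continuous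
  have hZc : IsCompact Z := by
    rw [W.ι.isEmbedding.isCompact_iff, hZdef, Set.image_preimage_eq_inter_range, Scheme.Opens.range_ι]
    exact QuasiSeparatedSpace.inter_isCompact _ _ V.isOpen hV.isCompact W.isOpen hW.isCompact
  have hyZ : (⟨y, hyW⟩ : ↥W) ∉ Z := by rw [hZdef]; exact hy
  have hd : ringKrullDim ↥(W.toScheme.presheaf.stalk (⟨y, hyW⟩ : ↥W)) = 0 :=
    (EtDim.ringKrullDim_stalk_eq_of_etale W.ι ⟨y, hyW⟩).trans (hdim y)
  have hncl := not_mem_closure_of_codim_zero (⟨y, hyW⟩ : ↥W.toScheme) hd Z hZo hZc hyZ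
  rw [mem_closure_iff] at hncl
  push Not at hncl
  obtain ⟨N, hNo, hyN, hNZ⟩ := hncl
  refine ⟨W.ι '' N, ?_, W.ι.isOpenEmbedding.isOpenMap N hNo, ⟨_, hyN, rfl⟩⟩
  rintro _ ⟨n, hn, rfl⟩ hV'
  apply Set.not_nonempty_iff_eq_empty.2 hNZ
  refine ⟨n, hn, ?_⟩
  rw [hZdef]
  exact hV'

/-- An open subset of an affine open which is closed is affine. -/
theorem isAffineOpen_of_le_of_isClosed (V Z : Y.Opens) (hV : IsAffineOpen V) (hle : Z ≤ V)
    (hZ : IsClosed (Z : Set ↥Y)) : IsAffineOpen Z := by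
  have hVaff : IsAffine V.toScheme := hV
  have hrange : Set.range (Y.homOfLE hle) = V.ι ⁻¹' (Z : Set ↥Y) := by
    ext v
    exact mem_range_homOfLE hle v
  have hcl : IsClosedImmersion (Y.homOfLE hle) := by
    refine IsClosedImmersion.of_isPreimmersion _ ?_
    rw [hrange]
    exact hZ.preimage V.ι.continuous
  exact isAffine_of_isAffineHom (Y.homOfLE hle)

/-- The union of two affine opens is affine. -/
theorem isAffineOpen_sup [QuasiSeparatedSpace ↥Y] (hdim : ∀ y : ↥Y, ringKrullDim ↥(Y.presheaf.stalk y) = 0)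
    (A B : Y.Opens) (hA : IsAffineOpen A) (hB : IsAffineOpen B) : IsAffineOpen (A ⊔ B) := by
  have hAcl := isClosed_of_isAffineOpen hdim A hA
  have hBcl := isClosed_of_isAffineOpen hdim B hB
  obtain ⟨B', hB'def⟩ : ∃ B' : Y.Opens, (B' : Set ↥Y) = (B : Set ↥Y) \ (A : Set ↥Y) :=
    ⟨⟨_, B.isOpen.sdiff hAcl⟩, rfl⟩
  have hmemB' : ∀ y, y ∈ B' ↔ y ∈ B ∧ y ∉ A := fun y => by
    rw [← SetLike.mem_coe, hB'def]; rfl
  have hB'cl : IsClosed (B' : Set ↥Y) := by rw [hB'def]; exact hBcl.sdiff A.isOpen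
  have hB' : IsAffineOpen B' := isAffineOpen_of_le_of_isClosed B B' hB (fun y hy => ((hmemB' y).1 hy).1) hB'cl
  have hAaff : IsAffine A.toScheme := hA
  have hB'aff : IsAffine B'.toScheme := hB'
  have hle1 : A ≤ A ⊔ B := le_sup_left
  have hle2 : B' ≤ A ⊔ B := fun y hy => (le_sup_right : B ≤ A ⊔ B) ((hmemB' y).1 hy).1
  have hcompl : IsCompl (Y.homOfLE hle1).opensRange (Y.homOfLE hle2).opensRange := by
    simp only [isCompl_iff, disjoint_iff, codisjoint_iff, ← TopologicalSpace.Opens.coe_inj]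
    constructor
    · ext t
      simp only [TopologicalSpace.Opens.coe_inf, Scheme.Hom.coe_opensRange, Set.mem_inter_iff,
        TopologicalSpace.Opens.coe_bot, Set.mem_empty_iff_false, iff_false, not_and]
      intro h1 h2
      have h1' := (mem_range_homOfLE hle1 t).1 h1
      have h2' := (mem_range_homOfLE hle2 t).1 h2
      exact ((hmemB' _).1 h2').2 h1'
    · ext t
      simp only [TopologicalSpace.Opens.coe_sup, Scheme.Hom.coe_opensRange, Set.mem_union,
        TopologicalSpace.Opens.coe_top, Set.mem_univ, iff_true]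
      by_cases hA' : t.1 ∈ A
      · exact Or.inl ((mem_range_homOfLE hle1 t).2 hA')
      · right
        refine (mem_range_homOfLE hle2 t).2 ((hmemB' _).2 ⟨?_, hA'⟩)
        have := t.2
        rcases this with h | h
        · exact absurd h hA'
        · exact h
  obtain ⟨H⟩ := nonempty_isColimit_binaryCofanMk_of_isCompl (Y.homOfLE hle1) (Y.homOfLE hle2) hcompl
  let e : A.toScheme ⨿ B'.toScheme ≅ (A ⊔ B).toScheme := (colimit.isColimit _).coconePointUniqueUpToIso H
  exact IsAffine.of_isIso e.inv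

/-- Quasi-compact opens are affine. -/
theorem isAffineOpen_of_isCompact [QuasiSeparatedSpace ↥Y]
    (hdim : ∀ y : ↥Y, ringKrullDim ↥(Y.presheaf.stalk y) = 0) (V : Y.Opens) (hV : IsCompact (V : Set ↥Y)) :
    IsAffineOpen V := by
  obtain ⟨s, hs, rfl⟩ := isCompact_iff_finite_and_eq_biUnion_affineOpens.1 hV
  clear hV
  refine Set.Finite.induction_on (motive := fun (s : Set Y.affineOpens) _ => IsAffineOpen (⨆ i ∈ s, (i : Y.Opens))) s hs ?_ ?_
  · simp only [Set.mem_empty_iff_false, not_false_eq_true, iSup_neg, iSup_bot]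
    exact isAffineOpen_bot Y
  · intro a s _ _ ih
    rw [iSup_insert]
    exact isAffineOpen_sup hdim _ _ a.2 ih

end Groth.Agent.Lib.Helper16.DimZeroSch
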