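import Groth.Agent.Lib.Helper16.DimZeroSch

/-!
# Helper library (helper16): quasi-separated schemes all of whose local rings have dimension 0 are separated
-/

set_option autoImplicit false
universe u
open CategoryTheory CategoryTheory.Limits AlgebraicGeometry Opposite

namespace Groth.Agent.Lib.Helper16.DimZeroSch

variable {Y : Scheme.{u}}

/-- In the spectrum of a domain with fraction field `K`, the image of `Spec K` specializes to every point. -/
theorem specializes_of_isFractionRing (R K : Type u) [CommRing R] [IsDomain R] [Field K] [Algebra R K]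
    [IsFractionRing R K] (q : ↥(Spec (CommRingCat.of K))) (p : ↥(Spec (CommRingCat.of R))) :
    (Spec.map (CommRingCat.ofHom (algebraMap R K))) q ⤳ p := by
  rw [Spec.map_apply]
  change (PrimeSpectrum.comap (algebraMap R K) q : PrimeSpectrum R) ⤳ (p : PrimeSpectrum R)
  rw [← PrimeSpectrum.le_iff_specializes]
  intro x hx
  have hx' : algebraMap R K x ∈ q.asIdeal := hx
  have hq : q.asIdeal = ⊥ := Ideal.eq_bot_of_prime q.asIdeal
  rw [hq, Ideal.mem_bot] at hx'
  have : x = 0 := (IsFractionRing.injective R K) (by rw [hx', map_zero])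
  rw [this]
  exact Ideal.zero_mem _

/-- A quasi-separated scheme all of whose local rings have dimension 0 is separated. -/
theorem isSeparated [QuasiSeparatedSpace ↥Y] (hdim : ∀ y : ↥Y, ringKrullDim ↥(Y.presheaf.stalk y) = 0) :
    Y.IsSeparated := by
  constructor
  have hqs : QuasiSeparated (terminal.from Y) := (quasiSeparatedSpace_iff_quasiSeparated Y).1 inferInstance
  apply IsSeparated.of_valuativeCriterion
  intro S
  constructor
  intro l₁ l₂
  obtain ⟨q⟩ : Nonempty ↥(Spec (CommRingCat.of S.K)) := ⟨IsLocalRing.closedPoint S.K⟩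
  obtain ⟨η, hη⟩ : ∃ η : ↥(Spec (CommRingCat.of S.R)),
      η = (Spec.map (CommRingCat.ofHom (algebraMap S.R S.K))) q := ⟨_, rfl⟩
  have hsp : ∀ p : ↥(Spec (CommRingCat.of S.R)), η ⤳ p := fun p => by
    rw [hη]
    exact specializes_of_isFractionRing S.R S.K q p
  have h1 : ∀ (l : Spec (CommRingCat.of S.R) ⟶ Y) (p : ↥(Spec (CommRingCat.of S.R))), l p = l η :=
    fun l p => (eq_of_specializes hdim ((hsp p).map l.continuous)).symm
  have hη12 : l₁.l η = l₂.l η := by
    rw [hη, ← Scheme.Hom.comp_apply, ← Scheme.Hom.comp_apply, l₁.fac_left, l₂.fac_left]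
  obtain ⟨V, hV, hyV⟩ := exists_affineOpen_mem' (l₁.l η)
  have hr1 : Set.range l₁.l ⊆ Set.range V.ι := by
    rintro _ ⟨p, rfl⟩
    rw [Scheme.Opens.range_ι, h1]
    exact hyV
  have hr2 : Set.range l₂.l ⊆ Set.range V.ι := by
    rintro _ ⟨p, rfl⟩
    rw [Scheme.Opens.range_ι, h1, ← hη12]
    exact hyV
  obtain ⟨l₁', hl₁'⟩ : ∃ l₁' : Spec (CommRingCat.of S.R) ⟶ V.toScheme, l₁' ≫ V.ι = l₁.l :=
    ⟨IsOpenImmersion.lift V.ι l₁.l hr1, IsOpenImmersion.lift_fac _ _ _⟩
  obtain ⟨l₂', hl₂'⟩ : ∃ l₂' : Spec (CommRingCat.of S.R) ⟶ V.toScheme, l₂' ≫ V.ι = l₂.l :=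
    ⟨IsOpenImmersion.lift V.ι l₂.l hr2, IsOpenImmersion.lift_fac _ _ _⟩
  have hVaff : IsAffine V.toScheme := hV
  have huniq := IsSeparated.valuativeCriterion (terminal.from V.toScheme)
  let S' : ValuativeCommSq (terminal.from V.toScheme) :=
    { R := S.R
      K := S.K
      i₁ := Spec.map (CommRingCat.ofHom (algebraMap S.R S.K)) ≫ l₁'
      i₂ := terminal.from _
      commSq := ⟨terminal.hom_ext _ _⟩ }
  have hsub : Subsingleton S'.commSq.LiftStruct := huniq S'
  have h21 : Spec.map (CommRingCat.ofHom (algebraMap S.R S.K)) ≫ l₂' =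
      Spec.map (CommRingCat.ofHom (algebraMap S.R S.K)) ≫ l₁' := by
    rw [← cancel_mono V.ι, Category.assoc, Category.assoc, hl₁', hl₂', l₁.fac_left, l₂.fac_left]
  let L₁ : S'.commSq.LiftStruct := ⟨l₁', rfl, terminal.hom_ext _ _⟩
  let L₂ : S'.commSq.LiftStruct := ⟨l₂', h21, terminal.hom_ext _ _⟩
  have hL : L₁ = L₂ := Subsingleton.elim _ _
  have h12 : l₁' = l₂' := congrArg CommSq.LiftStruct.l hL
  apply CommSq.LiftStruct.ext
  rw [← hl₁', ← hl₂', h12]

end Groth.Agent.Lib.Helper16.DimZeroSch
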