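import Groth.Agent.Lib.Helper16.DimZero
import Groth.Prelude.Def_Flat

/-!
# Helper library (helper16): topological lemmas around dimension zero
-/

set_option autoImplicit false
universe u
open CategoryTheory CategoryTheory.Limits AlgebraicGeometry Opposite TopologicalSpace

namespace Groth.Agent.Lib.Helper16.DimZero

theorem one_le_of_pos (x : WithBot ℕ∞) (h : 0 < x) : 1 ≤ x := by
  induction x with
  | bot => exact absurd h (by simp)
  | coe n =>
    have h0 : (0 : ℕ∞) < n := by exact_mod_cast h
    have h1 : (1 : ℕ∞) ≤ n := Order.one_le_iff_pos.mpr h0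
    exact_mod_cast h1

theorem topologicalKrullDim_nonneg_of_mem {T : Type*} [TopologicalSpace T] (N : Set T) {x : T}
    (hx : x ∈ N) : 0 ≤ topologicalKrullDim N := by
  have : Nonempty (IrreducibleCloseds N) :=
    ⟨⟨closure {⟨x, hx⟩}, isIrreducible_singleton.closure, isClosed_closure⟩⟩
  exact Order.krullDim_nonneg

/-- If the local dimension at `x` vanishes, some open neighbourhood has dimension at most zero. -/
theorem exists_open_dim_le_zero_of_localDim_eq_zero {T : Type*} [TopologicalSpace T] (x : T)
    (h : FlatMor.localDim T x = 0) :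
    ∃ N : Opens T, x ∈ N ∧ topologicalKrullDim (N : Set T) ≤ 0 := by
  by_contra hne
  push Not at hne
  have h1 : (1 : WithBot ℕ∞) ≤ FlatMor.localDim T x := by
    unfold FlatMor.localDim
    exact le_iInf fun N => one_le_of_pos _ (hne N.1 N.2)
  rw [h] at h1
  exact absurd h1 (by simp)

/-- The local dimension vanishes at an isolated point. -/
theorem localDim_eq_zero_of_isOpen_singleton {T : Type*} [TopologicalSpace T] (x : T)
    (h : IsOpen ({x} : Set T)) : FlatMor.localDim T x = 0 := by
  apply le_antisymm
  · unfold FlatMor.localDim
    refine (iInf_le _ ⟨⟨{x}, h⟩, rfl⟩).trans ?_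
    have : DiscreteTopology ↥(({x} : Set T)) := Subsingleton.discreteTopology
    exact topologicalKrullDim_zero_of_discreteTopology _
  · unfold FlatMor.localDim
    exact le_iInf fun N => topologicalKrullDim_nonneg_of_mem _ N.2

/-- In a T0 space of dimension at most zero there are no nontrivial specializations. -/
theorem eq_of_specializes_of_topologicalKrullDim_le_zero {T : Type*} [TopologicalSpace T] [T0Space T]
    (h : topologicalKrullDim T ≤ 0) {y y' : T} (hs : y' ⤳ y) : y' = y := by
  let Z : IrreducibleCloseds T := ⟨closure {y}, isIrreducible_singleton.closure, isClosed_closure⟩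
  let Z' : IrreducibleCloseds T := ⟨closure {y'}, isIrreducible_singleton.closure, isClosed_closure⟩
  have hZZ' : Z ≤ Z' := by
    show closure {y} ⊆ closure {y'}
    exact closure_minimal (Set.singleton_subset_iff.2 (specializes_iff_mem_closure.1 hs)) isClosed_closure
  have hmax : IsMax Z := Order.krullDim_nonpos_iff_forall_isMax.mp h Z
  have hZ'Z : Z' ≤ Z := hmax hZZ'
  have hs' : y ⤳ y' := specializes_iff_mem_closure.2 (hZ'Z (subset_closure rfl))
  exact (hs.antisymm hs').eq

/-- In a Noetherian quasi-sober space, a closed point without proper generizations is isolated. -/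
theorem isOpen_singleton_of_isClosed_of_forall_specializes {Z : Type*} [TopologicalSpace Z]
    [NoetherianSpace Z] [QuasiSober Z] (u : Z) (hcl : IsClosed ({u} : Set Z))
    (hmax : ∀ z : Z, z ⤳ u → z = u) : IsOpen ({u} : Set Z) := by
  have hfin : (irreducibleComponents Z).Finite := NoetherianSpace.finite_irreducibleComponents
  have hC : IsClosed (⋃ T ∈ irreducibleComponents Z \ {{u}}, T) :=
    (hfin.subset Set.sdiff_subset).isClosed_biUnion fun T hT => isClosed_of_mem_irreducibleComponents T hT.1
  have : ({u} : Set Z) = (⋃ T ∈ irreducibleComponents Z \ {{u}}, T)ᶜ := by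
    ext t
    simp only [Set.mem_singleton_iff, Set.mem_compl_iff, Set.mem_iUnion, not_exists]
    constructor
    · rintro rfl T ⟨hT, hTu⟩ htT
      obtain ⟨η, hη⟩ := QuasiSober.sober hT.1 (isClosed_of_mem_irreducibleComponents T hT)
      have h1 : η ⤳ t := by
        rw [specializes_iff_mem_closure, hη.def]; exact htT
      have h2 : η = t := hmax η h1
      apply hTu
      rw [Set.mem_singleton_iff, ← hη.def, h2, hcl.closure_eq]
    · intro ht
      by_contra hne
      have hT := irreducibleComponent_mem_irreducibleComponents t
      refine ht (irreducibleComponent t) ⟨hT, ?_⟩ mem_irreducibleComponent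
      intro h
      rw [Set.mem_singleton_iff] at h
      have : t ∈ ({u} : Set Z) := h ▸ mem_irreducibleComponent
      exact hne this
  rw [this]
  exact hC.isOpen_compl

end Groth.Agent.Lib.Helper16.DimZero
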