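import Groth.Agent.Lib.Helper16.FiniteFibres
import Mathlib.AlgebraicGeometry.Morphisms.UniversallyOpen

/-!
# Helper library (helper16): a scheme over a discrete scheme whose kernel pair is etale over it is discrete
-/

set_option autoImplicit false
universe u
open CategoryTheory CategoryTheory.Limits AlgebraicGeometry Opposite

namespace Groth.Agent.Lib.Helper16.DiscreteKP

open Groth.Agent.Lib.Helper16

/-- If `Y` is a discrete scheme and the first projection `U ×_Y U ⟶ U` is etale, then `U` is discrete. -/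
theorem discreteTopology_of_etale_kernelPair {U Y : Scheme.{u}} [DiscreteTopology ↥Y] (g : U ⟶ Y)
    [Etale (pullback.fst g g)] : DiscreteTopology ↥U := by
  rw [discreteTopology_iff_isOpen_singleton]
  intro u
  obtain ⟨φ, hφ⟩ : ∃ φ : Spec (U.residueField u) ⟶ U, φ = U.fromSpecResidueField u := ⟨_, rfl⟩
  obtain ⟨ρ, hρdef⟩ : ∃ ρ : Spec (U.residueField u) ⟶ Spec (Y.residueField (g u)),
      ρ = Spec.map (g.residueFieldMap u) := ⟨_, rfl⟩
  obtain ⟨ψ', hψ'⟩ : ∃ ψ' : Spec (Y.residueField (g u)) ⟶ Y, ψ' = Y.fromSpecResidueField (g u) := ⟨_, rfl⟩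
  have hψ'pre : IsPreimmersion ψ' := by rw [hψ']; infer_instance
  have hρ : ρ ≫ ψ' = φ ≫ g := by
    rw [hρdef, hψ', hφ]
    exact Scheme.Hom.SpecMap_residueFieldMap_fromSpecResidueField g u
  -- Step 1: the fibre over `κ(u)` is etale over `κ(u)`
  have hcomm : (pullback.fst (φ ≫ g) g ≫ φ) ≫ g = pullback.snd (φ ≫ g) g ≫ g := by
    rw [Category.assoc, pullback.condition]
  have sqleft : IsPullback (pullback.lift (pullback.fst (φ ≫ g) g ≫ φ) (pullback.snd (φ ≫ g) g) hcomm)
      (pullback.fst (φ ≫ g) g) (pullback.fst g g) φ := by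
    refine IsPullback.of_right ?_ (pullback.lift_fst _ _ _) (IsPullback.of_hasPullback g g).flip
    rw [pullback.lift_snd]
    exact (IsPullback.of_hasPullback (φ ≫ g) g).flip
  have het1 : Etale (pullback.fst (φ ≫ g) g) :=
    MorphismProperty.of_isPullback (P := @Etale) sqleft inferInstance
  -- Step 2: it is discrete
  have hFdisc : DiscreteTopology ↥(pullback (φ ≫ g) g) := by
    have : LocallyQuasiFinite (pullback.fst (φ ≫ g) g) := locallyQuasiFinite_of_etale _
    obtain ⟨pt⟩ : Nonempty ↥(Spec (U.residueField u)) := ⟨IsLocalRing.closedPoint _⟩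
    have h1 := (pullback.fst (φ ≫ g) g).isDiscrete_preimage_singleton pt
    have h2 : (pullback.fst (φ ≫ g) g) ⁻¹' {pt} = Set.univ := by
      ext r
      simp only [Set.mem_preimage, Set.mem_singleton_iff, Set.mem_univ, iff_true]
      exact Subsingleton.elim (α := PrimeSpectrum (U.residueField u)) _ _
    rw [h2] at h1
    exact isDiscrete_univ_iff.1 h1
  -- Step 3: the map to the fibre over `κ(y)`
  have hcomm' : (pullback.fst (φ ≫ g) g ≫ ρ) ≫ ψ' = pullback.snd (φ ≫ g) g ≫ g := by
    rw [Category.assoc, hρ, pullback.condition]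
  obtain ⟨q, hq1, hq2⟩ : ∃ q : pullback (φ ≫ g) g ⟶ pullback ψ' g,
      q ≫ pullback.fst ψ' g = pullback.fst (φ ≫ g) g ≫ ρ ∧ q ≫ pullback.snd ψ' g = pullback.snd (φ ≫ g) g :=
    ⟨pullback.lift _ _ hcomm', pullback.lift_fst _ _ _, pullback.lift_snd _ _ _⟩
  have sqq : IsPullback q (pullback.fst (φ ≫ g) g) (pullback.fst ψ' g) ρ := by
    refine IsPullback.of_right ?_ hq1 (IsPullback.of_hasPullback ψ' g).flip
    rw [hq2, hρ]
    exact (IsPullback.of_hasPullback (φ ≫ g) g).flip
  have hsub : Subsingleton ↥(Spec (Y.residueField (g u))) :=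
    inferInstanceAs (Subsingleton (PrimeSpectrum (Y.residueField (g u))))
  have hρo : UniversallyOpen ρ := inferInstance
  have hρs : Surjective ρ :=
    ⟨fun x => ⟨IsLocalRing.closedPoint _, Subsingleton.elim _ _⟩⟩
  have hqo : UniversallyOpen q := MorphismProperty.of_isPullback (P := @UniversallyOpen) sqq.flip hρo
  have hqs : Surjective q := MorphismProperty.of_isPullback (P := @Surjective) sqq.flip hρs
  -- Step 4: the fibre over `κ(y)` is discrete
  have hF'disc : DiscreteTopology ↥(pullback ψ' g) := by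
    rw [discreteTopology_iff_isOpen_singleton]
    intro r'
    obtain ⟨r, rfl⟩ := hqs.surj r'
    have := q.isOpenMap {r} (isOpen_discrete _)
    rwa [Set.image_singleton] at this
  -- Step 5: the fibre over `κ(y)` is an open subspace of `U`
  have hrange : Set.range (pullback.snd ψ' g) = g ⁻¹' {g u} := by
    rw [Scheme.Pullback.range_snd, hψ', Scheme.range_fromSpecResidueField]
  have hopen : IsOpen (Set.range (pullback.snd ψ' g)) := by
    rw [hrange]
    exact (isOpen_discrete _).preimage g.continuous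
  have hoe : Topology.IsOpenEmbedding (pullback.snd ψ' g) :=
    ⟨(pullback.snd ψ' g).isEmbedding, hopen⟩
  obtain ⟨r', hr'⟩ : u ∈ Set.range (pullback.snd ψ' g) := by
    rw [hrange]
    rfl
  have := hoe.isOpenMap {r'} (isOpen_discrete _)
  rwa [Set.image_singleton, hr'] at this

theorem quasiSeparatedSpace_of_discreteTopology (T : Type*) [TopologicalSpace T] [DiscreteTopology T] :
    QuasiSeparatedSpace T :=
  ⟨fun _ _ _ hU _ _ => (hU.finite_of_discrete.subset Set.inter_subset_left).isCompact⟩

/-- In a discrete scheme all local rings have dimension 0. -/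
theorem ringKrullDim_stalk_eq_zero_of_discreteTopology {U : Scheme.{u}} [DiscreteTopology ↥U] (u : ↥U) :
    ringKrullDim ↥(U.presheaf.stalk u) = 0 := by
  rw [ringKrullDim_stalk_eq_coheight]
  have hmax : IsMax u := fun b hb => le_of_eq (Specializes.eq (show b ⤳ u from hb))
  rw [Order.coheight_eq_zero.2 hmax]
  rfl

end Groth.Agent.Lib.Helper16.DiscreteKP
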