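import Mathlib

/-!
# A valuation ring dominating a discrete valuation ring in a finite separable extension is discrete
-/

set_option autoImplicit false
universe u

namespace Groth.Agent.Lib.Helper16.DvrExt

open IsLocalRing

theorem isDiscreteValuationRing_of_finite_separable {A K A' K' : Type u} [CommRing A] [IsDomain A]
    [IsDiscreteValuationRing A] [Field K] [Algebra A K] [IsFractionRing A K]
    [CommRing A'] [IsDomain A'] [ValuationRing A'] [Field K'] [Algebra A' K'] [IsFractionRing A' K']
    (φ : A →+* A') (ψ : K →+* K') (comm : (algebraMap A' K').comp φ = ψ.comp (algebraMap A K))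
    (hloc : IsLocalHom φ)
    (hfs : letI := ψ.toAlgebra; Module.Finite K K' ∧ Algebra.IsSeparable K K') :
    IsDiscreteValuationRing A' := by
  classical
  letI : Algebra K K' := ψ.toAlgebra
  letI : Algebra A A' := φ.toAlgebra
  letI : Algebra A K' := ((algebraMap A' K').comp φ).toAlgebra
  haveI : IsScalarTower A A' K' := IsScalarTower.of_algebraMap_eq fun x => rfl
  haveI : IsScalarTower A K K' := IsScalarTower.of_algebraMap_eq fun x => by
    have := congrArg (fun k => k x) comm
    exact this
  obtain ⟨hfin, hsep⟩ := hfs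
  haveI : Module.Finite K K' := hfin
  haveI : Algebra.IsSeparable K K' := hsep
  have hinj : Function.Injective (algebraMap A' K') := IsFractionRing.injective A' K'
  have hinjA : Function.Injective (algebraMap A K') := by
    have h0 : algebraMap A K' = ψ.comp (algebraMap A K) := comm
    rw [h0]
    exact ψ.injective.comp (IsFractionRing.injective A K)
  -- the integral closure
  haveI hBd : IsDedekindDomain ↥(integralClosure A K') := integralClosure.isDedekindDomain A K K'
  haveI hBf : IsFractionRing ↥(integralClosure A K') K' :=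
    integralClosure.isFractionRing_of_finite_extension K K'
  have hBA' : ∀ b : ↥(integralClosure A K'), ∃ a : A', algebraMap A' K' a = (b : K') := fun b =>
    IsIntegrallyClosed.algebraMap_eq_of_integral (IsIntegral.tower_top (A := A') b.2)
  choose ι₀ hι₀ using hBA'
  let ι : ↥(integralClosure A K') →+* A' :=
    { toFun := ι₀
      map_one' := hinj (by rw [hι₀, map_one]; rfl)
      map_mul' := fun x y => hinj (by rw [hι₀, map_mul, hι₀, hι₀]; rfl)
      map_zero' := hinj (by rw [hι₀, map_zero]; rfl)
      map_add' := fun x y => hinj (by rw [hι₀, map_add, hι₀, hι₀]; rfl) }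
  have hι : ∀ b, algebraMap A' K' (ι b) = (b : K') := hι₀
  have hιinj : Function.Injective ι := fun x y hxy => Subtype.ext (by rw [← hι, ← hι, hxy])
  -- the prime
  obtain ⟨𝔮, h𝔮def⟩ : ∃ 𝔮 : Ideal ↥(integralClosure A K'), 𝔮 = (maximalIdeal A').comap ι := ⟨_, rfl⟩
  haveI h𝔮p : 𝔮.IsPrime := by rw [h𝔮def]; exact Ideal.comap_isPrime ι _
  have hmem𝔮 : ∀ b, b ∈ 𝔮 ↔ ι b ∈ maximalIdeal A' := fun b => by rw [h𝔮def]; rfl
  have h𝔮0 : 𝔮 ≠ ⊥ := by
    obtain ⟨π, hπ⟩ := IsDiscreteValuationRing.exists_irreducible A
    have hπ0 : π ≠ 0 := hπ.ne_zero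
    have hιπ : ι (algebraMap A ↥(integralClosure A K') π) = φ π := hinj (by rw [hι]; rfl)
    have h1 : algebraMap A ↥(integralClosure A K') π ∈ 𝔮 := by
      rw [hmem𝔮, hιπ, mem_maximalIdeal, mem_nonunits_iff]
      intro hu
      exact hπ.not_isUnit (isUnit_of_map_unit φ π hu)
    have h2 : algebraMap A ↥(integralClosure A K') π ≠ 0 := by
      intro h0
      apply hπ0
      apply hinjA
      rw [map_zero]
      have := congrArg (fun b : ↥(integralClosure A K') => (b : K')) h0
      exact this
    intro hbot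
    rw [hbot] at h1
    exact h2 ((Submodule.mem_bot _).1 h1)
  -- the localization
  haveI hBq : IsDiscreteValuationRing (Localization.AtPrime 𝔮) :=
    IsLocalization.AtPrime.isDiscreteValuationRing_of_dedekind_domain ↥(integralClosure A K') h𝔮0 _
  have hunit : ∀ y : 𝔮.primeCompl, IsUnit (ι y) := fun y => by
    have h1 : (y : ↥(integralClosure A K')) ∉ 𝔮 := y.2
    rw [hmem𝔮, mem_maximalIdeal, mem_nonunits_iff, not_not] at h1
    exact h1
  obtain ⟨lam, hlam⟩ : ∃ lam : Localization.AtPrime 𝔮 →+* A', lam = IsLocalization.lift hunit := ⟨_, rfl⟩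
  have hlam_spec : ∀ (x : ↥(integralClosure A K')) (y : 𝔮.primeCompl) (v : A'),
      lam (IsLocalization.mk' (Localization.AtPrime 𝔮) x y) = v ↔ ι x = ι y * v := fun x y v => by
    rw [hlam]; exact IsLocalization.lift_mk'_spec hunit x v y
  have hlam_alg : ∀ x : ↥(integralClosure A K'), lam (algebraMap _ (Localization.AtPrime 𝔮) x) = ι x :=
    fun x => by rw [hlam]; exact IsLocalization.lift_eq hunit x
  have hlam_inj : Function.Injective lam := by
    rw [injective_iff_map_eq_zero]
    intro c hc
    obtain ⟨x, y, rfl⟩ := IsLocalization.exists_mk'_eq 𝔮.primeCompl c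
    rw [hlam_spec, mul_zero] at hc
    have hx0 : x = 0 := hιinj (by rw [hc, map_zero])
    rw [hx0, IsLocalization.mk'_zero]
  have hlam_nonunit : ∀ c : Localization.AtPrime 𝔮, ¬ IsUnit c → ¬ IsUnit (lam c) := by
    intro c hc hu
    obtain ⟨x, y, rfl⟩ := IsLocalization.exists_mk'_eq 𝔮.primeCompl c
    have hx : x ∈ 𝔮 := by
      rw [← IsLocalization.AtPrime.mk'_mem_maximal_iff (Localization.AtPrime 𝔮) 𝔮 x y, mem_maximalIdeal,
        mem_nonunits_iff]
      exact hc
    have h1 : ι x = ι y * lam (IsLocalization.mk' (Localization.AtPrime 𝔮) x y) := (hlam_spec x y _).1 rfl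
    have h2 : IsUnit (ι x) := by rw [h1]; exact (hunit y).mul hu
    rw [hmem𝔮, mem_maximalIdeal, mem_nonunits_iff] at hx
    exact hx h2
  have hlam_surj : Function.Surjective lam := by
    intro a
    obtain ⟨b, s, hs, hbs⟩ := IsFractionRing.div_surjective (↥(integralClosure A K')) (algebraMap A' K' a)
    have hs0 : (s : K') ≠ 0 := by
      intro h0
      exact nonZeroDivisors.ne_zero hs (Subtype.ext h0)
    have hbs' : (b : K') = algebraMap A' K' a * (s : K') := by
      have h1 : (algebraMap ↥(integralClosure A K') K') b / (algebraMap ↥(integralClosure A K') K') s =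
          (b : K') / (s : K') := rfl
      rw [h1] at hbs
      rw [← hbs, div_mul_cancel₀ _ hs0]
    have hιb : ι b = a * ι s := hinj (by rw [map_mul, hι, hι, hbs'])
    rcases ValuationRing.dvd_total (algebraMap _ (Localization.AtPrime 𝔮) b)
      (algebraMap _ (Localization.AtPrime 𝔮) s) with ⟨c, hc⟩ | ⟨c, hc⟩
    · -- `s = b * c`
      have h1 : ι s = ι b * lam c := by rw [← hlam_alg, hc, map_mul, hlam_alg]
      by_cases hcu : IsUnit c
      · obtain ⟨cu, rfl⟩ := hcu
        refine ⟨↑cu⁻¹, ?_⟩
        have h2 : ι s ≠ 0 := fun h0 => hs0 (by rw [← hι, h0, map_zero])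
        have h3 : lam (↑cu⁻¹) * lam ↑cu = 1 := by rw [← map_mul, Units.inv_mul, map_one]
        have h4 : ι s * (a * lam ↑cu) = ι s * 1 := by
          rw [mul_one]
          calc ι s * (a * lam ↑cu) = (a * ι s) * lam ↑cu := by ring
            _ = ι s := by rw [← hιb, ← h1]
        have h5 : a * lam ↑cu = 1 := mul_left_cancel₀ h2 h4
        calc lam ↑cu⁻¹ = lam ↑cu⁻¹ * (a * lam ↑cu) := by rw [h5, mul_one]
          _ = a * (lam ↑cu⁻¹ * lam ↑cu) := by ring
          _ = a := by rw [h3, mul_one]
      · exfalso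
        apply hlam_nonunit c hcu
        have h2 : ι s ≠ 0 := fun h0 => hs0 (by rw [← hι, h0, map_zero])
        have h4 : ι s * (a * lam c) = ι s * 1 := by
          rw [mul_one]
          calc ι s * (a * lam c) = (a * ι s) * lam c := by ring
            _ = ι s := by rw [← hιb, ← h1]
        have h5 : a * lam c = 1 := mul_left_cancel₀ h2 h4
        exact IsUnit.of_mul_eq_one a (by rw [mul_comm]; exact h5)
    · -- `b = s * c`
      refine ⟨c, ?_⟩
      have h1 : ι b = ι s * lam c := by rw [← hlam_alg, hc, map_mul, hlam_alg]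
      have h2 : ι s ≠ 0 := fun h0 => hs0 (by rw [← hι, h0, map_zero])
      have h3 : ι s * lam c = ι s * a := by rw [← h1, hιb, mul_comm]
      exact mul_left_cancel₀ h2 h3
  exact IsDiscreteValuationRing.RingEquivClass.isDiscreteValuationRing
    (RingEquiv.ofBijective lam ⟨hlam_inj, hlam_surj⟩)

end Groth.Agent.Lib.Helper16.DvrExt
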