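import Groth.Agent.Lib.Helper16.SchImgQc2

/-!
# Helper library (helper16): properties etale local on the target, one chart suffices
-/

set_option autoImplicit false
universe u
open CategoryTheory CategoryTheory.Limits AlgebraicGeometry Opposite

namespace Groth.Agent.Lib.Helper16.EtLocT

open AlgSp Groth.Agent.Lib.Helper16 Groth.Agent.Lib.Helper16.SchImg

/-- A property etale local on the target is stable under etale base change. -/
theorem P_of_isPullback_etale (P : MorphismProperty Scheme.{u}) [P.IsLocalAtTarget Scheme.etalePrecoverage]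
    {X Y X' Y' : Scheme.{u}} {f : X ⟶ Y} {g : Y' ⟶ Y} {fst : X' ⟶ X} {snd : X' ⟶ Y'}
    (sq : IsPullback fst snd f g) [Etale g] (hf : P f) : P snd := by
  let R : Presieve Y := Presieve.ofArrows (Sum.elim (fun _ : Unit => Y') (fun _ : Unit => Y))
    (fun i => match i with
      | .inl _ => g
      | .inr _ => 𝟙 Y)
  have hR : R ∈ Scheme.etalePrecoverage Y := by
    rw [Scheme.etalePrecoverage, Scheme.ofArrows_mem_precoverage_iff]
    refine ⟨fun x => ⟨.inr (), x, rfl⟩, ?_⟩
    rintro (_ | _)
    · exact (inferInstance : Etale g)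
    · exact (inferInstance : Etale (𝟙 Y))
  have hg : R g := Presieve.ofArrows.mk (Sum.inl ())
  have h1 : P (pullback.snd f g) := MorphismProperty.IsLocalAtTarget.pullbackSnd hR hg hf
  have h2 : snd = sq.isoPullback.hom ≫ pullback.snd f g := by simp
  rw [h2]
  exact (P.cancel_left_of_respectsIso _ _).2 h1

/-- A property etale local on the target descends along etale surjective base change. -/
theorem P_of_isPullback_etale_surjective (P : MorphismProperty Scheme.{u})
    [P.IsLocalAtTarget Scheme.etalePrecoverage]
    {X Y X' Y' : Scheme.{u}} {f : X ⟶ Y} {g : Y' ⟶ Y} {fst : X' ⟶ X} {snd : X' ⟶ Y'}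
    (sq : IsPullback fst snd f g) [Etale g] [Surjective g] (hsnd : P snd) : P f := by
  have hR : Presieve.singleton g ∈ Scheme.etalePrecoverage Y := by
    rw [Scheme.etalePrecoverage, Scheme.singleton_mem_precoverage_iff]
    exact ⟨g.surjective, inferInstance⟩
  refine MorphismProperty.IsLocalAtTarget.of_forall_pullbackSnd hR ?_
  rintro U g' _ ⟨⟩
  have h2 : snd = sq.isoPullback.hom ≫ pullback.snd f g := by simp
  rw [h2] at hsnd
  exact (P.cancel_left_of_respectsIso _ _).1 hsnd

variable {S : Scheme.{u}}

/-- **One etale surjective chart suffices** for a property etale local on the target. -/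
theorem P_of_chart (P : MorphismProperty Scheme.{u}) [P.IsLocalAtTarget Scheme.etalePrecoverage]
    {X Y : Sp S} (f : X ⟶ Y) {V W V' W' : Over S}
    (b : (yon S).obj V ⟶ Y) (hb1 : RepWith @Etale b) (hb2 : RepWith @Surjective b)
    (fst : (yon S).obj W ⟶ X) (snd : W ⟶ V) (sq : IsPullback fst ((yon S).map snd) f b) (hP : P snd.left)
    (b' : (yon S).obj V' ⟶ Y) (hb' : RepWith @Etale b')
    (fst' : (yon S).obj W' ⟶ X) (snd' : W' ⟶ V') (sq' : IsPullback fst' ((yon S).map snd') f b') :
    P snd'.left := by
  obtain ⟨V'', r, s₀, sqV⟩ := hb1.rep b'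
  obtain ⟨s, rfl⟩ := (yon S).map_surjective s₀
  have : Etale r.left := hb1.property _ _ _ sqV
  have : Surjective r.left := hb2.property _ _ _ sqV
  have : Etale s.left := hb'.property _ _ _ sqV.flip
  -- the two pullbacks to `V''`
  have sq1 : IsPullback ((yon S).map (ovPullbackFst snd s) ≫ fst) ((yon S).map (ovPullbackSnd snd s)) f
      ((yon S).map s ≫ b) := ((isPullback_ovPullback snd s).map (yon S)).paste_horiz sq
  have sq2 : IsPullback ((yon S).map (ovPullbackFst snd' r) ≫ fst') ((yon S).map (ovPullbackSnd snd' r)) f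
      ((yon S).map r ≫ b') := ((isPullback_ovPullback snd' r).map (yon S)).paste_horiz sq'
  rw [← sqV.w] at sq2
  let e := sq1.isoIsPullback _ _ sq2
  have he : e.hom ≫ (yon S).map (ovPullbackSnd snd' r) = (yon S).map (ovPullbackSnd snd s) :=
    IsPullback.isoIsPullback_hom_snd _ _ sq1 sq2
  let ε := (yon S).preimageIso e
  have hε : ε.hom ≫ ovPullbackSnd snd' r = ovPullbackSnd snd s := by
    apply (yon S).map_injective
    rw [Functor.map_comp, Functor.preimageIso_hom, Functor.map_preimage]
    exact he
  have h1 : P (ovPullbackSnd snd s).left := by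
    rw [ovPullbackSnd_left]
    exact P_of_isPullback_etale P (IsPullback.of_hasPullback snd.left s.left) hP
  have h2 : P (ovPullbackSnd snd' r).left := by
    rw [← hε, Over.comp_left] at h1
    have : IsIso ε.hom.left := (Over.forget S).map_isIso ε.hom
    exact (P.cancel_left_of_respectsIso _ _).1 h1
  rw [ovPullbackSnd_left] at h2
  exact P_of_isPullback_etale_surjective P (IsPullback.of_hasPullback snd'.left r.left) h2

end Groth.Agent.Lib.Helper16.EtLocT
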