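import Mathlib
import Groth.Agent.Lib.Helper16.EtNbhd1
import Groth.Agent.Lib.Helper8.SmoothSection

/-!
# Helper library (helper16): lifting points of etale neighbourhoods along henselian local rings
-/

set_option autoImplicit false
universe u
open CategoryTheory CategoryTheory.Limits AlgebraicGeometry Opposite

namespace Groth.Agent.Lib.Helper16.EtNbhd

open AlgSp

variable {S : Scheme.{u}} {X : Sp S}

/-- The closed point of the spectrum of a local ring, as a morphism over `S`. -/
noncomputable abbrev resOver (R : Type u) [CommRing R] [IsLocalRing R] (str : Spec (CommRingCat.of R) ⟶ S) :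
    Over.mk (Spec.map (CommRingCat.ofHom (IsLocalRing.residue R)) ≫ str) ⟶ Over.mk str :=
  Over.homMk (Spec.map (CommRingCat.ofHom (IsLocalRing.residue R))) rfl

/-- A point of an etale neighbourhood over the residue field of a henselian local ring lifts uniquely-in-existence
to the henselian local ring. -/
theorem exists_lift_of_henselian (R : Type u) [CommRing R] [HenselianLocalRing R]
    (str : Spec (CommRingCat.of R) ⟶ S) (z : (yon S).obj (Over.mk str) ⟶ X) {Z : Over S}
    (p : (yon S).obj Z ⟶ X) (hp : RepWith @Etale p)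
    (g₀ : Over.mk (Spec.map (CommRingCat.ofHom (IsLocalRing.residue R)) ≫ str) ⟶ Z)
    (h₀ : (yon S).map g₀ ≫ p = (yon S).map (resOver R str) ≫ z) :
    ∃ g : Over.mk str ⟶ Z, (yon S).map g ≫ p = z ∧ resOver R str ≫ g = g₀ := by
  obtain ⟨κ, hκ⟩ : ∃ κ : Over.mk (Spec.map (CommRingCat.ofHom (IsLocalRing.residue R)) ≫ str) ⟶ Over.mk str,
      κ = resOver R str := ⟨_, rfl⟩
  rw [← hκ] at h₀ ⊢
  have hκl : κ.left = Spec.map (CommRingCat.ofHom (IsLocalRing.residue R)) := by rw [hκ]; rfl
  obtain ⟨Q, e, ρ, sq⟩ := hp.rep z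
  obtain ⟨r, rfl⟩ := (yon S).map_surjective ρ
  have hee : Etale e.left := hp.property _ _ _ sq
  obtain ⟨ℓ, hℓ⟩ := (yon S).map_surjective (sq.lift ((yon S).map g₀) ((yon S).map κ) h₀)
  have hℓr : ℓ ≫ r = g₀ := by
    apply (yon S).map_injective
    rw [Functor.map_comp, hℓ, sq.lift_fst]
  have hℓe : ℓ ≫ e = κ := by
    apply (yon S).map_injective
    rw [Functor.map_comp, hℓ, sq.lift_snd]
  have h1 : ℓ.left ≫ e.left = Spec.map (CommRingCat.ofHom (IsLocalRing.residue R)) := by
    rw [← Over.comp_left, hℓe, hκl]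
  obtain ⟨s, hs1, hs2⟩ := Groth.Agent.Lib.Helper8.SmoothSection.exists_section_of_smooth_scheme R
    (X := Q.left) e.left ℓ.left h1
  have hsw : s ≫ Q.hom = str := by
    rw [← Over.w e, ← Category.assoc, hs1]
    exact Category.id_comp _
  let s' : Over.mk str ⟶ Q := Over.homMk s hsw
  have hs'e : s' ≫ e = 𝟙 _ := Over.OverMorphism.ext hs1
  have hκs : κ ≫ s' = ℓ := Over.OverMorphism.ext (by rw [Over.comp_left, hκl]; exact hs2)
  refine ⟨s' ≫ r, ?_, ?_⟩
  · rw [Functor.map_comp, Category.assoc, sq.w, ← Category.assoc, ← Functor.map_comp, hs'e,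
      CategoryTheory.Functor.map_id, Category.id_comp]
  · rw [← Category.assoc, hκs, hℓr]

/-- **Etale neighbourhoods of henselian points.** Every point of an algebraic space with values in a henselian local
ring factors through an affine scheme etale over the space. -/
theorem exists_affine_etale_nbhd_henselian (hX : IsAlgSpace X) (R : Type u) [CommRing R] [HenselianLocalRing R]
    (str : Spec (CommRingCat.of R) ⟶ S) (z : (yon S).obj (Over.mk str) ⟶ X) :
    ∃ (Z : Over S) (p : (yon S).obj Z ⟶ X) (g : Over.mk str ⟶ Z),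
      IsAffine Z.left ∧ RepWith @Etale p ∧ (yon S).map g ≫ p = z := by
  haveI : Subsingleton ↥(Over.mk (Spec.map (CommRingCat.ofHom (IsLocalRing.residue R)) ≫ str)).left :=
    inferInstanceAs (Subsingleton (PrimeSpectrum (IsLocalRing.ResidueField R)))
  haveI : Nonempty ↥(Over.mk (Spec.map (CommRingCat.ofHom (IsLocalRing.residue R)) ≫ str)).left :=
    inferInstanceAs (Nonempty (PrimeSpectrum (IsLocalRing.ResidueField R)))
  haveI : IsAffine (Over.mk (Spec.map (CommRingCat.ofHom (IsLocalRing.residue R)) ≫ str)).left :=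
    inferInstanceAs (IsAffine (Spec (CommRingCat.of (IsLocalRing.ResidueField R))))
  obtain ⟨Z, p, g₀, hZ, hp, hg₀⟩ := exists_affine_etale_nbhd hX
    (Over.mk (Spec.map (CommRingCat.ofHom (IsLocalRing.residue R)) ≫ str)) ((yon S).map (resOver R str) ≫ z)
  obtain ⟨g, hg, -⟩ := exists_lift_of_henselian R str z p hp g₀ hg₀
  exact ⟨Z, p, g, hZ, hp, hg⟩

end Groth.Agent.Lib.Helper16.EtNbhd
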