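import Mathlib
import Groth.Agent.Lib.Helper16.EtNbhd2
import Groth.Agent.Lib.Helper16.SpCoprod2
import Groth.Agent.Lib.Helper16.FinEtQuot
import Groth.Agent.Lib.Helper8.HenselQuot

/-!
# Helper library (helper16): families of etale neighbourhoods; coproducts of etale charts and of separated schemes
-/

set_option autoImplicit false
universe u w
open CategoryTheory CategoryTheory.Limits AlgebraicGeometry Opposite

namespace Groth.Agent.Lib.Helper16.EtNbhd

open AlgSp Strata Tuple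

variable {S : Scheme.{u}} {X : Sp S}

/-- The map out of a coproduct of schemes induced by a family of representable etale maps to an algebraic space is
representable etale. -/
theorem exists_desc_etale (hX : IsAlgSpace X) {ι : Type w} [Small.{u} ι] (V : ι → Over S)
    (f : ∀ i, (yon S).obj (V i) ⟶ X) (hf : ∀ i, RepWith @Etale (f i)) :
    ∃ p : (yon S).obj (SpCoprod.sig V) ⟶ X, RepWith @Etale p ∧
      ∀ i, (yon S).map (SpCoprod.sigι V i) ≫ p = f i := by
  obtain ⟨hc⟩ := SpCoprod.isColimit_sig V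
  obtain ⟨p, hp⟩ : ∃ p : (yon S).obj (SpCoprod.sig V) ⟶ X, ∀ i, (yon S).map (SpCoprod.sigι V i) ≫ p = f i :=
    ⟨Cofan.IsColimit.desc hc f, fun i => Cofan.IsColimit.fac hc f i⟩
  refine ⟨p, ?_, hp⟩
  obtain ⟨U₀, a₀, ha₀e, ha₀s⟩ := hX.atlas
  have hrep : ∀ i, ∃ (Q : Over S) (e : Q ⟶ U₀) (r : Q ⟶ V i),
      IsPullback ((yon S).map r) ((yon S).map e) (f i) a₀ := fun i => by
    obtain ⟨Q, e, ρ, sq⟩ := (hf i).rep a₀
    obtain ⟨r, rfl⟩ := (yon S).map_surjective ρ
    exact ⟨Q, e, r, sq⟩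
  choose Q e r sq using hrep
  have hee : ∀ i, Etale (e i).left := fun i => (hf i).property _ _ _ (sq i)
  have hre : ∀ i, Etale (r i).left := fun i => ha₀e.property _ _ _ (sq i).flip
  have hrs : ∀ i, Surjective (r i).left := fun i => ha₀s.property _ _ _ (sq i).flip
  obtain ⟨hcQ⟩ := SpCoprod.isColimit_sig Q
  have h1 : Etale (SpCoprod.sigDesc Q fun i => r i ≫ SpCoprod.sigι V i).left :=
    SpCoprod.sigDesc_prop (P := @Etale) Q _ (fun i => by
      haveI := hre i
      show Etale ((r i).left ≫ (SpCoprod.sigι V i).left)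
      infer_instance)
  have h2 : Surjective (SpCoprod.sigDesc Q fun i => r i ≫ SpCoprod.sigι V i).left :=
    SpCoprod.sigDesc_surjective Q _ (fun x => by
      obtain ⟨i, v, rfl⟩ := SpCoprod.sig_cover V x
      obtain ⟨q, rfl⟩ := (hrs i).surj v
      exact ⟨i, q, rfl⟩)
  have h3 : Etale (SpCoprod.sigDesc Q e).left := SpCoprod.sigDesc_prop (P := @Etale) Q e hee
  have hcomm : (yon S).map (SpCoprod.sigDesc Q fun i => r i ≫ SpCoprod.sigι V i) ≫ p =
      (yon S).map (SpCoprod.sigDesc Q e) ≫ a₀ := by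
    refine Cofan.IsColimit.hom_ext hcQ _ _ (fun i => ?_)
    simp only [Cofan.mk_pt, cofan_mk_inj]
    have hL : (yon S).map (SpCoprod.sigι Q i) ≫
        (yon S).map (SpCoprod.sigDesc Q fun i => r i ≫ SpCoprod.sigι V i) ≫ p = (yon S).map (e i) ≫ a₀ := by
      rw [← Category.assoc, ← Functor.map_comp, SpCoprod.sigι_desc, Functor.map_comp, Category.assoc, hp, (sq i).w]
    have hR : (yon S).map (SpCoprod.sigι Q i) ≫ (yon S).map (SpCoprod.sigDesc Q e) ≫ a₀ =
        (yon S).map (e i) ≫ a₀ := by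
      rw [← Category.assoc, ← Functor.map_comp, SpCoprod.sigι_desc]
    rw [hL, hR]
  have hloc : LocP @Etale p := locP_of_chart etLocalST_etale p
    ((yon S).map (SpCoprod.sigDesc Q fun i => r i ≫ SpCoprod.sigι V i)) a₀ (SpCoprod.sigDesc Q e)
    ((repWith_yon_map_iff _ _).2 h1) ((repWith_yon_map_iff _ _).2 h2) ha₀e hcomm h3
  exact (locP_iff_repWith etLocalST_etale (IsAlgSpace.yon_obj _) hX p (hX.representable_from_yon p)).1 hloc

/-- A coproduct of schemes separated over a base is separated over the base. -/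
theorem isSeparated_sigmaDesc {ι : Type w} [Small.{u} ι] {B : Scheme.{u}} (Z : ι → Scheme.{u})
    (f : ∀ i, Z i ⟶ B) [∀ i, IsSeparated (f i)] : IsSeparated (Sigma.desc f) := by
  obtain ⟨F, hF⟩ : ∃ F : (∐ Z) ⟶ B, F = Sigma.desc f := ⟨_, rfl⟩
  rw [← hF]
  have hιF : ∀ i, Sigma.ι Z i ≫ F = f i := fun i => by rw [hF]; exact Sigma.ι_desc _ _
  refine ⟨IsClosedImmersion.of_isPreimmersion _ ?_⟩
  rw [← isOpen_compl_iff, isOpen_iff_forall_mem_open]
  intro x hx
  obtain ⟨i, y₁, hy₁⟩ := (sigmaOpenCover Z).exists_eq (pullback.fst F F x)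
  obtain ⟨j, y₂, hy₂⟩ := (sigmaOpenCover Z).exists_eq (pullback.snd F F x)
  have hy₁' : pullback.fst F F x ∈ Set.range (Sigma.ι Z i) := ⟨y₁, hy₁⟩
  have hy₂' : pullback.snd F F x ∈ Set.range (Sigma.ι Z j) := ⟨y₂, hy₂⟩
  by_cases hij : i = j
  · subst hij
    obtain ⟨m, hm⟩ : ∃ m : pullback (f i) (f i) ⟶ pullback F F,
        m = pullback.map (f i) (f i) F F (Sigma.ι Z i) (Sigma.ι Z i) (𝟙 B)
          (by rw [Category.comp_id, hιF]) (by rw [Category.comp_id, hιF]) := ⟨_, rfl⟩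
    have hmo : IsOpenImmersion m := by rw [hm]; infer_instance
    have hm1 : m ≫ pullback.fst F F = pullback.fst (f i) (f i) ≫ Sigma.ι Z i := by
      rw [hm]; exact pullback.lift_fst _ _ _
    have hm2 : m ≫ pullback.snd F F = pullback.snd (f i) (f i) ≫ Sigma.ι Z i := by
      rw [hm]; exact pullback.lift_snd _ _ _
    have hΔm : pullback.diagonal (f i) ≫ m = Sigma.ι Z i ≫ pullback.diagonal F := by
      apply pullback.hom_ext
      · rw [Category.assoc, hm1, ← Category.assoc, pullback.diagonal_fst, Category.id_comp, Category.assoc,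
          pullback.diagonal_fst, Category.comp_id]
      · rw [Category.assoc, hm2, ← Category.assoc, pullback.diagonal_snd, Category.id_comp, Category.assoc,
          pullback.diagonal_snd, Category.comp_id]
    have hxm : x ∈ Set.range m := by
      rw [hm, Scheme.Pullback.range_map]
      exact ⟨hy₁', hy₂'⟩
    obtain ⟨x', rfl⟩ := hxm
    refine ⟨m '' (Set.range (pullback.diagonal (f i)))ᶜ, ?_,
      m.isOpenEmbedding.isOpenMap _ (pullback.diagonal (f i)).isClosedEmbedding.isClosed_range.isOpen_compl,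
      ⟨x', ?_, rfl⟩⟩
    · rintro _ ⟨x'', hx'', rfl⟩ ⟨y, hy⟩
      apply hx''
      have h0 : (pullback.fst F F) ((pullback.diagonal F) y) = (pullback.fst F F) (m x'') := by rw [hy]
      rw [← Scheme.Hom.comp_apply, pullback.diagonal_fst, ← Scheme.Hom.comp_apply, hm1] at h0
      have h1 : y = Sigma.ι Z i (pullback.fst (f i) (f i) x'') := by simpa using h0
      refine ⟨pullback.fst (f i) (f i) x'', m.isOpenEmbedding.injective ?_⟩
      rw [← Scheme.Hom.comp_apply, hΔm, Scheme.Hom.comp_apply, ← h1, hy]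
    · rintro ⟨z, rfl⟩
      apply hx
      exact ⟨Sigma.ι Z i z, by rw [← Scheme.Hom.comp_apply, ← hΔm, Scheme.Hom.comp_apply]⟩
  · refine ⟨(pullback.fst F F ⁻¹' Set.range (Sigma.ι Z i)) ∩ (pullback.snd F F ⁻¹' Set.range (Sigma.ι Z j)), ?_,
      ((Sigma.ι Z i).opensRange.isOpen.preimage (pullback.fst F F).continuous).inter
        ((Sigma.ι Z j).opensRange.isOpen.preimage (pullback.snd F F).continuous), ⟨hy₁', hy₂'⟩⟩
    rintro _ ⟨hw1, hw2⟩ ⟨y, rfl⟩
    have e1 : (pullback.fst F F) ((pullback.diagonal F) y) = y := by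
      rw [← Scheme.Hom.comp_apply, pullback.diagonal_fst]; rfl
    have e2 : (pullback.snd F F) ((pullback.diagonal F) y) = y := by
      rw [← Scheme.Hom.comp_apply, pullback.diagonal_snd]; rfl
    have hw1' : y ∈ Set.range (Sigma.ι Z i) := by rw [← e1]; exact hw1
    have hw2' : y ∈ Set.range (Sigma.ι Z j) := by rw [← e2]; exact hw2
    have hdis := disjoint_opensRange_sigmaι Z i j hij
    exact (disjoint_iff.1 hdis).le (show y ∈ ((Sigma.ι Z i).opensRange ⊓ (Sigma.ι Z j).opensRange : (∐ Z).Opens)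
      from ⟨hw1', hw2'⟩)

/-- **A family of separated schemes etale over an algebraic space through which every point with values in a one-point
affine scheme factors.** -/
theorem exists_family (hX : IsAlgSpace X) :
    ∃ (ι : Type u) (V : ι → Over S) (f : ∀ i, (yon S).obj (V i) ⟶ X), (∀ i, (V i).left.IsSeparated) ∧
      (∀ i, RepWith @Etale (f i)) ∧
      ∀ (T : Over S) [Subsingleton ↥T.left] [Nonempty ↥T.left] [IsAffine T.left] (z₀ : (yon S).obj T ⟶ X),
        ∃ (i : ι) (g₀ : T ⟶ V i), (yon S).map g₀ ≫ f i = z₀ := by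
  obtain ⟨U₀, a₀, ha₀e, ha₀s⟩ := hX.atlas
  have hdata : ∀ i : ↥U₀.left.affineOpens × ℕ, ∃ (W V : Over S)
      (πW : Fin (i.2 + 1) → (W ⟶ overOpen U₀ i.1.1)) (qV : W ⟶ V) (f' : (yon S).obj V ⟶ X),
      IsUniv ((yon S).map (overOpenι U₀ i.1.1) ≫ a₀) πW ∧
      (∀ (σ : Equiv.Perm (Fin (i.2 + 1))) (φσ : W ⟶ W), (∀ l, φσ ≫ πW l = πW (σ l)) → φσ ≫ qV = qV) ∧
      (yon S).map qV ≫ f' = (yon S).map (πW 0) ≫ (yon S).map (overOpenι U₀ i.1.1) ≫ a₀ ∧
      RepWith @Etale f' ∧ V.left.IsSeparated := fun i => by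
    haveI : IsAffine (overOpen U₀ i.1.1).left := i.1.2
    exact exists_tuple_quotient hX _ (repWith_etale_restrict a₀ ha₀e i.1.1) i.2
  choose W V πW qV f' h1 h2 h3 h4 h5 using hdata
  refine ⟨_, V, f', h5, h4, ?_⟩
  intro T _ _ _ z₀
  obtain ⟨U₁, hU₁, P, fP, u, hPaff, hPne, hfPet, hcomm, hmono⟩ := exists_chart_piece a₀ ha₀e ha₀s T z₀
  have sqP := (IsPullback.of_hasPullback fP fP).map (yon S)
  obtain ⟨k, hdeg⟩ := exists_const_deg fP sqP
  obtain ⟨g₀, hg₀⟩ := exists_factor_of_tuple_quotient (h1 (⟨U₁, hU₁⟩, k)) (h2 (⟨U₁, hU₁⟩, k)) (h3 (⟨U₁, hU₁⟩, k))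
    z₀ fP u hcomm hmono sqP hdeg
  exact ⟨(⟨U₁, hU₁⟩, k), g₀, hg₀⟩

/-- Morphisms out of an empty scheme. -/
theorem exists_hom_of_isEmpty (T Z : Over S) [IsEmpty ↥T.left] (p : (yon S).obj Z ⟶ X) (x : (yon S).obj T ⟶ X) :
    ∃ g : T ⟶ Z, (yon S).map g ≫ p = x := by
  have hinit : IsInitial T.left := isInitialOfIsEmpty
  refine ⟨Over.homMk (hinit.to Z.left) (hinit.hom_ext _ _), ?_⟩
  apply Tuple.yon_hom_ext_of_forall
  intro t
  exact (IsEmpty.false t).elim

/-- The spectrum of the quotient by the unit ideal is empty. -/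
theorem isEmpty_spec_quotient_top (R : Type u) [CommRing R] (a : Ideal R) (ha : a = ⊤) :
    IsEmpty ↥(Spec (CommRingCat.of (R ⧸ a))) := by
  subst ha
  haveI : Subsingleton (R ⧸ (⊤ : Ideal R)) := Ideal.Quotient.subsingleton_iff.2 rfl
  refine ⟨fun q => ?_⟩
  have hq : (q : PrimeSpectrum (R ⧸ (⊤ : Ideal R))).asIdeal ≠ ⊤ := q.isPrime.ne_top
  apply hq
  rw [Ideal.eq_top_iff_one, Subsingleton.elim (1 : R ⧸ (⊤ : Ideal R)) 0]
  exact Ideal.zero_mem _

/-- **Points with values in quotients of a henselian local ring factor through an etale map through which all points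
with values in one-point affine schemes factor.** -/
theorem exists_factor_quotient {Z : Over S} (p : (yon S).obj Z ⟶ X) (hp : RepWith @Etale p)
    (H : ∀ (T : Over S) [Subsingleton ↥T.left] [Nonempty ↥T.left] [IsAffine T.left] (z₀ : (yon S).obj T ⟶ X),
      ∃ g₀ : T ⟶ Z, (yon S).map g₀ ≫ p = z₀)
    (R : Type u) [CommRing R] [HenselianLocalRing R] (str : Spec (CommRingCat.of R) ⟶ S) (a : Ideal R)
    (x : (yon S).obj (Over.mk (Spec.map (CommRingCat.ofHom (Ideal.Quotient.mk a)) ≫ str)) ⟶ X) :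
    ∃ g : Over.mk (Spec.map (CommRingCat.ofHom (Ideal.Quotient.mk a)) ≫ str) ⟶ Z, (yon S).map g ≫ p = x := by
  by_cases ha : a = ⊤
  · haveI : IsEmpty ↥(Over.mk (Spec.map (CommRingCat.ofHom (Ideal.Quotient.mk a)) ≫ str)).left :=
      isEmpty_spec_quotient_top R a ha
    exact exists_hom_of_isEmpty _ Z p x
  · haveI : HenselianLocalRing (R ⧸ a) := Groth.Agent.Lib.Helper8.henselianLocalRing_quotient R a ha
    haveI : Subsingleton ↥(Over.mk (Spec.map (CommRingCat.ofHom (IsLocalRing.residue (R ⧸ a))) ≫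
        (Spec.map (CommRingCat.ofHom (Ideal.Quotient.mk a)) ≫ str))).left :=
      inferInstanceAs (Subsingleton (PrimeSpectrum (IsLocalRing.ResidueField (R ⧸ a))))
    haveI : Nonempty ↥(Over.mk (Spec.map (CommRingCat.ofHom (IsLocalRing.residue (R ⧸ a))) ≫
        (Spec.map (CommRingCat.ofHom (Ideal.Quotient.mk a)) ≫ str))).left :=
      inferInstanceAs (Nonempty (PrimeSpectrum (IsLocalRing.ResidueField (R ⧸ a))))
    haveI : IsAffine (Over.mk (Spec.map (CommRingCat.ofHom (IsLocalRing.residue (R ⧸ a))) ≫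
        (Spec.map (CommRingCat.ofHom (Ideal.Quotient.mk a)) ≫ str))).left :=
      inferInstanceAs (IsAffine (Spec (CommRingCat.of (IsLocalRing.ResidueField (R ⧸ a)))))
    obtain ⟨g₀, hg₀⟩ := H _ ((yon S).map (resOver (R ⧸ a) (Spec.map (CommRingCat.ofHom (Ideal.Quotient.mk a)) ≫ str)) ≫ x)
    obtain ⟨g, hg, -⟩ := exists_lift_of_henselian (R ⧸ a) (Spec.map (CommRingCat.ofHom (Ideal.Quotient.mk a)) ≫ str)
      x p hp g₀ hg₀
    exact ⟨g, hg⟩

end Groth.Agent.Lib.Helper16.EtNbhd
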