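import Mathlib
import Groth.Agent.Lib.Helper16.EtNbhd3

/-!
# Helper library (helper16): the residue field of a quotient of a local ring, as schemes over a base
-/

set_option autoImplicit false
universe u
open CategoryTheory CategoryTheory.Limits AlgebraicGeometry Opposite

namespace Groth.Agent.Lib.Helper16.EtNbhd

open AlgSp

variable {S : Scheme.{u}}

/-- The spectrum of the residue field of a proper quotient of a local ring is the spectrum of the residue field,
over any base. -/
theorem exists_residue_iso (R : Type u) [CommRing R] [IsLocalRing R] (a : Ideal R) (ha : a ≠ ⊤)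
    [IsLocalRing (R ⧸ a)] (str : Spec (CommRingCat.of R) ⟶ S) :
    ∃ τ : Over.mk (Spec.map (CommRingCat.ofHom (IsLocalRing.residue (R ⧸ a))) ≫
        (Spec.map (CommRingCat.ofHom (Ideal.Quotient.mk a)) ≫ str)) ⟶
        Over.mk (Spec.map (CommRingCat.ofHom (IsLocalRing.residue R)) ≫ str), IsIso τ := by
  haveI : IsLocalHom (Ideal.Quotient.mk a) := Groth.Agent.Lib.Helper8.isLocalHom_quotient_mk R a ha
  obtain ⟨θ, hθdef⟩ : ∃ θ : IsLocalRing.ResidueField R →+* IsLocalRing.ResidueField (R ⧸ a),
      θ = IsLocalRing.ResidueField.map (Ideal.Quotient.mk a) := ⟨_, rfl⟩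
  have hθr : ∀ r : R, θ (IsLocalRing.residue R r) = IsLocalRing.residue (R ⧸ a) (Ideal.Quotient.mk a r) := fun r => by
    rw [hθdef]
    exact IsLocalRing.ResidueField.map_residue _ r
  have hθ : CommRingCat.ofHom (IsLocalRing.residue R) ≫ CommRingCat.ofHom θ =
      CommRingCat.ofHom (Ideal.Quotient.mk a) ≫ CommRingCat.ofHom (IsLocalRing.residue (R ⧸ a)) := by
    ext r
    exact hθr r
  have hbij : Function.Bijective θ := by
    refine ⟨θ.injective, fun y => ?_⟩
    obtain ⟨r', rfl⟩ := IsLocalRing.residue_surjective y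
    obtain ⟨r, rfl⟩ := Ideal.Quotient.mk_surjective r'
    exact ⟨IsLocalRing.residue R r, hθr r⟩
  haveI : IsIso (CommRingCat.ofHom θ) := (ConcreteCategory.isIso_iff_bijective _).2 hbij
  have hw : Spec.map (CommRingCat.ofHom θ) ≫ (Spec.map (CommRingCat.ofHom (IsLocalRing.residue R)) ≫ str) =
      Spec.map (CommRingCat.ofHom (IsLocalRing.residue (R ⧸ a))) ≫
        (Spec.map (CommRingCat.ofHom (Ideal.Quotient.mk a)) ≫ str) := by
    rw [← Category.assoc, ← Spec.map_comp, hθ, Spec.map_comp, Category.assoc]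
  refine ⟨Over.homMk (Spec.map (CommRingCat.ofHom θ)) hw, ?_⟩
  haveI : IsIso ((Over.forget S).map (Over.homMk (Spec.map (CommRingCat.ofHom θ)) hw :
      Over.mk (Spec.map (CommRingCat.ofHom (IsLocalRing.residue (R ⧸ a))) ≫
        (Spec.map (CommRingCat.ofHom (Ideal.Quotient.mk a)) ≫ str)) ⟶
        Over.mk (Spec.map (CommRingCat.ofHom (IsLocalRing.residue R)) ≫ str))) := by
    show IsIso (Spec.map (CommRingCat.ofHom θ))
    infer_instance
  exact isIso_of_reflects_iso _ (Over.forget S)

end Groth.Agent.Lib.Helper16.EtNbhd
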