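import Mathlib
import Groth.Agent.Lib.Helper16.EtNbhd2
import Groth.Agent.Lib.Helper16.SmoothEt
import Groth.Agent.Lib.Helper8.SmoothSection
import Groth.Agent.Lib.Helper8.HenselQuot
import Groth.Agent.Lib.Helper8.HenselHom2
import Groth.Agent.Lib.Helper15.HenselSection

/-!
# Helper library (helper16): lifting points of smooth schemes along quotients of henselian local rings
-/

set_option autoImplicit false
universe u
open CategoryTheory CategoryTheory.Limits AlgebraicGeometry Opposite IsLocalRing TensorProduct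

namespace Groth.Agent.Lib.Helper16.EtNbhd

/-- Over a henselian local ring `A`, a point of a smooth algebra with values in a quotient `Q` of `A` lifts to an
`A`-valued point. -/
theorem exists_lift_of_smooth_surjective (A : Type u) [CommRing A] [HenselianLocalRing A] (Q : Type u) [CommRing Q]
    [Algebra A Q] (hsurj : Function.Surjective (algebraMap A Q)) (ρ : Q →+* ResidueField A)
    (hρ : ∀ x : A, ρ (algebraMap A Q x) = residue A x)
    (B : Type u) [CommRing B] [Algebra A B] [Algebra.Smooth A B] (e' : B →ₐ[A] Q) :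
    ∃ σ : B →ₐ[A] A, ∀ b, algebraMap A Q (σ b) = e' b := by
  classical
  have hρalg : ∀ x : A, ρ (algebraMap A Q x) = algebraMap A (ResidueField A) x := fun x => by
    rw [ResidueField.algebraMap_eq]
    exact hρ x
  have hρunit : ∀ y : Q, ρ y ≠ 0 → IsUnit y := fun y hy => by
    obtain ⟨x, rfl⟩ := hsurj y
    have hx : IsUnit x := by
      by_contra hnu
      apply hy
      rw [hρ, residue_eq_zero_iff, mem_maximalIdeal, mem_nonunits_iff]
      exact hnu
    exact hx.map (algebraMap A Q)
  have hρjac : ∀ y : Q, ρ y = 0 → y ∈ Ideal.jacobson (⊥ : Ideal Q) := fun y hy => by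
    rw [Ideal.mem_jacobson_bot]
    intro z
    apply hρunit
    rw [map_add, map_mul, hy, zero_mul, zero_add, map_one]
    exact one_ne_zero
  let e'' : B →ₐ[A] ResidueField A :=
    { toRingHom := ρ.comp e'.toRingHom
      commutes' := fun x => by
        show ρ (e' (algebraMap A B x)) = algebraMap A (ResidueField A) x
        rw [e'.commutes, hρalg] }
  have he'' : ∀ b, e'' b = ρ (e' b) := fun b => rfl
  let q : Ideal B := RingHom.ker e''.toRingHom
  haveI : q.IsPrime := RingHom.ker_isPrime _
  haveI : Algebra.FormallySmooth B (Localization.AtPrime q) :=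
    Algebra.FormallySmooth.of_isLocalization q.primeCompl
  haveI : Algebra.IsSmoothAt A q := Algebra.FormallySmooth.comp A B (Localization.AtPrime q)
  obtain ⟨g, hgq, n, algPB, htower, hstd⟩ :=
    Algebra.IsSmoothAt.exists_isStandardEtale_mvPolynomial (R := A) (p := q)
  have hg : e'' g ≠ 0 := fun h0 => hgq h0
  have hunit : ∀ y : Submonoid.powers g, IsUnit (e' y) := by
    rintro ⟨_, m, rfl⟩
    rw [map_pow]
    exact (hρunit _ (by rw [← he'']; exact hg)).pow m
  let e'g : Localization.Away g →ₐ[A] Q :=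
    IsLocalization.liftAlgHom (M := Submonoid.powers g) hunit
  have he'g : ∀ b, e'g (algebraMap B (Localization.Away g) b) = e' b :=
    fun b => IsLocalization.lift_eq hunit b
  choose c hc using fun i : Fin n => hsurj
    (e'g (algebraMap (MvPolynomial (Fin n) A) (Localization.Away g) (MvPolynomial.X i)))
  let ev : MvPolynomial (Fin n) A →ₐ[A] A := MvPolynomial.aeval c
  letI algPA : Algebra (MvPolynomial (Fin n) A) A := ev.toRingHom.toAlgebra
  haveI : IsScalarTower A (MvPolynomial (Fin n) A) A :=
    IsScalarTower.of_algebraMap_eq (fun x => (ev.commutes x).symm)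
  have hcompat : ∀ p : MvPolynomial (Fin n) A,
      e'g (algebraMap (MvPolynomial (Fin n) A) (Localization.Away g) p) = algebraMap A Q (ev p) := by
    intro p
    have : (e'g.comp (IsScalarTower.toAlgHom A (MvPolynomial (Fin n) A) (Localization.Away g))) =
        (Algebra.ofId A Q).comp ev := by
      apply MvPolynomial.algHom_ext
      intro i
      simp [ev, hc, Algebra.ofId_apply]
    exact DFunLike.congr_fun this p
  letI algPq : Algebra (MvPolynomial (Fin n) A) Q :=
    ((algebraMap A Q).comp (algebraMap (MvPolynomial (Fin n) A) A)).toAlgebra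
  haveI : IsScalarTower (MvPolynomial (Fin n) A) A Q :=
    IsScalarTower.of_algebraMap_eq (fun _ => rfl)
  let e'gP : Localization.Away g →ₐ[MvPolynomial (Fin n) A] Q :=
    { e'g.toRingHom with commutes' := fun p => hcompat p }
  let E : A ⊗[MvPolynomial (Fin n) A] Localization.Away g →ₐ[A] Q :=
    Algebra.TensorProduct.lift (Algebra.ofId A _) e'gP (fun _ _ => Commute.all _ _)
  have hE : ∀ (x : A) (y : Localization.Away g), E (x ⊗ₜ[MvPolynomial (Fin n) A] y) = algebraMap A Q x * e'g y :=
    fun x y => Algebra.TensorProduct.lift_tmul _ _ _ x y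
  let χ : A ⊗[MvPolynomial (Fin n) A] Localization.Away g →ₐ[A] ResidueField A :=
    { toRingHom := ρ.comp E.toRingHom
      commutes' := fun x => by
        show ρ (E (algebraMap A _ x)) = algebraMap A (ResidueField A) x
        rw [E.commutes, hρalg] }
  have hχ : ∀ t, χ t = ρ (E t) := fun t => rfl
  obtain ⟨σC, hσC⟩ := Groth.Agent.Lib.Helper15.HenselSection.exists_section_alg A
    (A ⊗[MvPolynomial (Fin n) A] Localization.Away g) χ
  have huniq : (Algebra.ofId A Q).comp σC = E := by
    apply Groth.Agent.Lib.Helper8.algHom_eq_of_sub_mem_jacobson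
    intro t
    apply hρjac
    rw [map_sub, sub_eq_zero]
    show ρ (algebraMap A Q (σC t)) = ρ (E t)
    rw [hρ, hσC, hχ]
  let ι : B →+* A ⊗[MvPolynomial (Fin n) A] Localization.Away g :=
    (Algebra.TensorProduct.includeRight :
      Localization.Away g →ₐ[MvPolynomial (Fin n) A] _).toRingHom.comp
      (algebraMap B (Localization.Away g))
  have hι : ∀ x : A, ι (algebraMap A B x) =
      algebraMap A (A ⊗[MvPolynomial (Fin n) A] Localization.Away g) x := by
    intro x
    change (1 : A) ⊗ₜ[MvPolynomial (Fin n) A]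
      (algebraMap B (Localization.Away g) (algebraMap A B x)) = _
    rw [← IsScalarTower.algebraMap_apply A B (Localization.Away g),
      IsScalarTower.algebraMap_apply A (MvPolynomial (Fin n) A) (Localization.Away g),
      Algebra.algebraMap_eq_smul_one (algebraMap A (MvPolynomial (Fin n) A) x),
      TensorProduct.tmul_smul, TensorProduct.smul_tmul', Algebra.TensorProduct.algebraMap_apply]
    congr 1
    rw [Algebra.smul_def, mul_one, ← IsScalarTower.algebraMap_apply]
  refine ⟨{ toRingHom := σC.toRingHom.comp ι, commutes' := fun x => ?_ }, fun b => ?_⟩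
  · change σC (ι (algebraMap A B x)) = algebraMap A A x
    rw [hι, σC.commutes]
  · change algebraMap A Q (σC (ι b)) = e' b
    have h1 := DFunLike.congr_fun huniq (ι b)
    change algebraMap A Q (σC (ι b)) = E (ι b) at h1
    rw [h1]
    change E ((1 : A) ⊗ₜ[MvPolynomial (Fin n) A] (algebraMap B (Localization.Away g) b)) = e' b
    rw [hE, map_one, one_mul]
    exact he'g b

/-- Over a henselian local ring `A`, an `A/a`-valued point of a smooth algebra lifts to an `A`-valued point. -/
theorem exists_lift_of_smooth_quotient (A : Type u) [CommRing A] [HenselianLocalRing A] (a : Ideal A)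
    (ha : a ≠ ⊤) (B : Type u) [CommRing B] [Algebra A B] [Algebra.Smooth A B] (e' : B →ₐ[A] A ⧸ a) :
    ∃ σ : B →ₐ[A] A, ∀ b, Ideal.Quotient.mk a (σ b) = e' b := by
  have hak : ∀ x ∈ a, residue A x = 0 := fun x hx => (residue_eq_zero_iff x).2 (le_maximalIdeal ha hx)
  exact exists_lift_of_smooth_surjective A (A ⧸ a) Ideal.Quotient.mk_surjective
    (Ideal.Quotient.lift a (residue A) hak) (fun x => Ideal.Quotient.lift_mk _ _ _) B e'

/-- Scheme version: a point with values in `A/a` of an affine scheme smooth over a henselian local ring `A` extends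
to a section. -/
theorem exists_section_of_smooth_quotient (A : Type u) [CommRing A] [HenselianLocalRing A] (a : Ideal A)
    (ha : a ≠ ⊤) {Y : Scheme.{u}} [IsAffine Y] (f : Y ⟶ Spec (CommRingCat.of A)) [Smooth f]
    (u₀ : Spec (CommRingCat.of (A ⧸ a)) ⟶ Y)
    (h₀ : u₀ ≫ f = Spec.map (CommRingCat.ofHom (Ideal.Quotient.mk a))) :
    ∃ s : Spec (CommRingCat.of A) ⟶ Y, s ≫ f = 𝟙 _ ∧
      Spec.map (CommRingCat.ofHom (Ideal.Quotient.mk a)) ≫ s = u₀ := by
  classical
  have hU : IsAffineOpen (⊤ : Y.Opens) := isAffineOpen_top Y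
  have hrange : Set.range u₀ ⊆ Set.range hU.fromSpec := by
    rw [hU.range_fromSpec]
    exact fun _ _ => trivial
  let v : Spec (CommRingCat.of (A ⧸ a)) ⟶ Spec Γ(Y, ⊤) := IsOpenImmersion.lift hU.fromSpec u₀ hrange
  have hv : v ≫ hU.fromSpec = u₀ := IsOpenImmersion.lift_fac _ _ _
  let φ₀ : Γ(Y, ⊤) ⟶ CommRingCat.of (A ⧸ a) := Spec.preimage v
  have hφ₀ : Spec.map φ₀ = v := Spec.map_preimage v
  have hcompat : Groth.Agent.Lib.Helper8.HenselQFSch.chartMap f ⊤ ≫ φ₀ = CommRingCat.ofHom (Ideal.Quotient.mk a) := by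
    apply Spec.map_injective
    rw [Spec.map_comp, hφ₀, ← Groth.Agent.Lib.Helper8.HenselQFSch.fromSpec_comp f hU, ← Category.assoc, hv, h₀]
  have hsm : (Groth.Agent.Lib.Helper8.HenselQFSch.chartMap f ⊤).hom.Smooth := by
    have h1 : (f.appLE ⊤ ⊤ le_top).hom.Smooth :=
      HasRingHomProperty.appLE @Smooth f inferInstance ⟨⊤, isAffineOpen_top _⟩ ⟨⊤, hU⟩ le_top
    have h2 : ((Scheme.ΓSpecIso (CommRingCat.of A)).inv).hom.Smooth :=
      RingHom.Smooth.of_bijective
        (ConcreteCategory.bijective_of_isIso (Scheme.ΓSpecIso (CommRingCat.of A)).inv)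
    exact h2.comp h1
  letI algAB : Algebra A Γ(Y, ⊤) := (Groth.Agent.Lib.Helper8.HenselQFSch.chartMap f ⊤).hom.toAlgebra
  haveI : Algebra.Smooth A Γ(Y, ⊤) := hsm
  let e' : Γ(Y, ⊤) →ₐ[A] A ⧸ a :=
    { φ₀.hom with
      commutes' := fun x => by
        have := congrArg (fun g => g.hom x) hcompat
        exact this }
  obtain ⟨σ, hσ⟩ := exists_lift_of_smooth_quotient A a ha Γ(Y, ⊤) e'
  have hσ1 : Groth.Agent.Lib.Helper8.HenselQFSch.chartMap f ⊤ ≫ CommRingCat.ofHom σ.toRingHom =
      𝟙 (CommRingCat.of A) := by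
    ext x
    exact σ.commutes x
  have hσ2 : CommRingCat.ofHom σ.toRingHom ≫ CommRingCat.ofHom (Ideal.Quotient.mk a) = φ₀ := by
    ext b
    exact hσ b
  refine ⟨Spec.map (CommRingCat.ofHom σ.toRingHom) ≫ hU.fromSpec, ?_, ?_⟩
  · rw [Category.assoc, Groth.Agent.Lib.Helper8.HenselQFSch.fromSpec_comp f hU, ← Spec.map_comp, hσ1, Spec.map_id]
  · rw [← Category.assoc, ← Spec.map_comp, hσ2, hφ₀, hv]

open AlgSp in
/-- A scheme etale over an algebraic space with a smooth atlas over the base is smooth over the base. -/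
theorem smooth_hom_of_etale {S : Scheme.{u}} {X : Sp S}
    (hX : ∃ (U : Over S) (c : (yon S).obj U ⟶ X), Smooth U.hom ∧ RepWith @Etale c ∧ RepWith @Surjective c)
    {Z : Over S} (p : (yon S).obj Z ⟶ X) (hp : RepWith @Etale p) : Smooth Z.hom := by
  obtain ⟨U, c, hUs, hce, hcs⟩ := hX
  obtain ⟨Q, e, ρ, sq⟩ := hce.rep p
  obtain ⟨r, rfl⟩ := (yon S).map_surjective ρ
  have hee : Etale e.left := hce.property _ _ _ sq
  have hes : Surjective e.left := hcs.property _ _ _ sq
  have hre : Etale r.left := hp.property _ _ _ sq.flip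
  have H : Smooth (e.left ≫ Z.hom) := by
    rw [Over.w e, ← Over.w r]
    infer_instance
  exact etLocalST_smooth.ofCover' e.left Z.hom hee hes H

end Groth.Agent.Lib.Helper16.EtNbhd
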