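import Groth.Agent.Lib.Helper16.Rep
import Groth.Agent.Lib.Helper16.FibreProduct
import Mathlib.RingTheory.TensorProduct.Basic

/-!
# Helper library (helper16): base change of spaces over a field along field extensions
-/

set_option autoImplicit false
universe u
open CategoryTheory CategoryTheory.Limits AlgebraicGeometry Opposite TensorProduct

namespace Groth.Agent.Lib.Helper16

/-- Two field extensions of `k` embed in a common field extension, in the same universe. -/
theorem exists_compositum (k K k' : Type u) [Field k] [Field K] [Field k'] [Algebra k K]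
    [Algebra k k'] :
    ∃ (L : Type u) (_ : Field L) (_ : Algebra k L) (_ : Algebra K L) (_ : Algebra k' L),
      IsScalarTower k K L ∧ IsScalarTower k k' L := by
  classical
  have hnt : Nontrivial (K ⊗[k] k') := inferInstance
  obtain ⟨m, hm⟩ := Ideal.exists_maximal (K ⊗[k] k')
  let _ : Field ((K ⊗[k] k') ⧸ m) := Ideal.Quotient.field m
  let φ : K →+* (K ⊗[k] k') ⧸ m :=
    (Ideal.Quotient.mk m).comp (Algebra.TensorProduct.includeLeftRingHom)
  let ψ : k' →+* (K ⊗[k] k') ⧸ m :=
    (Ideal.Quotient.mk m).comp (Algebra.TensorProduct.includeRight (R := k) (A := K) (B := k')).toRingHom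
  let a1 : Algebra K ((K ⊗[k] k') ⧸ m) := φ.toAlgebra
  let a2 : Algebra k' ((K ⊗[k] k') ⧸ m) := ψ.toAlgebra
  let a0 : Algebra k ((K ⊗[k] k') ⧸ m) := (φ.comp (algebraMap k K)).toAlgebra
  refine ⟨(K ⊗[k] k') ⧸ m, inferInstance, a0, a1, a2, IsScalarTower.of_algebraMap_eq (fun x => rfl),
    IsScalarTower.of_algebraMap_eq (fun x => ?_)⟩
  change Ideal.Quotient.mk m ((algebraMap k K x) ⊗ₜ[k] (1 : k')) =
    Ideal.Quotient.mk m ((1 : K) ⊗ₜ[k] (algebraMap k k' x))
  congr 1
  rw [Algebra.algebraMap_eq_smul_one, Algebra.algebraMap_eq_smul_one, TensorProduct.smul_tmul]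

variable {S : Scheme.{u}}

open AlgSp

/-- The base change square of a product along a morphism of the second factor. -/
theorem isPullback_prod_map_snd_fbc {C : Type*} [Category C] [HasBinaryProducts C] (Z : C) {A B : C}
    (f : A ⟶ B) :
    IsPullback (Limits.prod.map (𝟙 Z) f) (Limits.prod.snd : Z ⨯ A ⟶ A) Limits.prod.snd f := by
  apply isPullback_of_exists_lift
  · exact Limits.prod.map_snd _ _
  · intro Q a b hab
    refine ⟨Limits.prod.lift (a ≫ Limits.prod.fst) b, ?_, ?_⟩
    · apply Limits.prod.hom_ext
      · rw [Category.assoc, Limits.prod.map_fst, Category.comp_id, Limits.prod.lift_fst]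
      · rw [Category.assoc, Limits.prod.map_snd, Limits.prod.lift_snd_assoc, hab]
    · exact Limits.prod.lift_snd _ _
  · intro Q l l' h1 h2
    apply Limits.prod.hom_ext
    · have := congrArg (· ≫ Limits.prod.fst) h1
      simp only [Category.assoc, Limits.prod.map_fst, Category.comp_id] at this
      exact this
    · exact h2

/-- Base change along a surjective morphism of schemes is surjective on points. -/
theorem surjective_points_prod_map (X : Sp S) {A B : Over S} (g : A ⟶ B) [Surjective g.left] :
    Function.Surjective (Points.map (Limits.prod.map (𝟙 X) ((yon S).map g))) := by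
  have h1 : RepWith @Surjective ((yon S).map g) := (repWith_yon_map_iff _ g).2 inferInstance
  have h2 : RepWith @Surjective (Limits.prod.map (𝟙 X) ((yon S).map g)) :=
    (RepWith @Surjective).of_isPullback (isPullback_prod_map_snd_fbc X ((yon S).map g)).flip h1
  exact (repWith_surjective_iff _ h2.rep).1 h2

end Groth.Agent.Lib.Helper16
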