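import Mathlib
import Groth.Agent.Lib.Helper16.UnivInj2
import Groth.Agent.Lib.Helper16.FieldBC
import Groth.Agent.Lib.Helper16.FibreEmb
import Groth.Agent.Lib.Helper16.LocPGen
import Groth.Agent.S7590

/-!
# Helper library (helper16): connected components of products of algebraic spaces over a field
-/

set_option autoImplicit false
set_option linter.style.haveILetI false
universe u
open CategoryTheory CategoryTheory.Limits AlgebraicGeometry Opposite Topology

namespace Groth.Agent.Lib.Helper16.GeomConn

open AlgSp Groth.Agent.Lib.Helper16 Groth.Agent.Lib.Helper16.FibreEmb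

/-! ### Topology -/

theorem connectedSpace_of_bijective_connectedComponentsMap {α β : Type*} [TopologicalSpace α]
    [TopologicalSpace β] {f : α → β} (hf : Continuous f)
    (h : Function.Bijective hf.connectedComponentsMap) [ConnectedSpace β] : ConnectedSpace α := by
  have hne : Nonempty α := by
    obtain ⟨b⟩ := (inferInstance : Nonempty β)
    obtain ⟨c, -⟩ := h.2 (b : ConnectedComponents β)
    obtain ⟨a, -⟩ := ConnectedComponents.surjective_coe c
    exact ⟨a⟩
  have hpre : PreconnectedSpace α := by
    rw [preconnectedSpace_iff_connectedComponent]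
    intro x
    ext y
    simp only [Set.mem_univ, iff_true]
    have : (y : ConnectedComponents α) = (x : ConnectedComponents α) := h.1 (Subsingleton.elim _ _)
    exact ConnectedComponents.coe_eq_coe'.1 this
  exact { toPreconnectedSpace := hpre, toNonempty := hne }

variable {S : Scheme.{u}}

/-! ### Terminal object and products -/

noncomputable def isTerminalOne : IsTerminal ((yon S).obj (Over.mk (𝟙 S))) :=
  IsTerminal.isTerminalObj (yon S) _ Over.mkIdTerminal

theorem isPullback_prod (X Y : Sp S) :
    IsPullback (prod.fst : X ⨯ Y ⟶ X) prod.snd (isTerminalOne.from X) (isTerminalOne.from Y) :=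
  IsPullback.of_is_product' (prodIsProd X Y) isTerminalOne

theorem isAlgSpace_prod {X Y : Sp S} (hX : IsAlgSpace X) (hY : IsAlgSpace Y) : IsAlgSpace (X ⨯ Y) :=
  isAlgSpace_of_isPullback hX (IsAlgSpace.yon_obj _).diag hY (isPullback_prod X Y)

/-- The base change square of a product along a morphism of the first factor. -/
theorem isPullback_prod_map_fst_fbc {C : Type*} [Category C] [HasBinaryProducts C] (Z : C) {A B : C}
    (f : A ⟶ B) :
    IsPullback (Limits.prod.map f (𝟙 Z)) (Limits.prod.fst : A ⨯ Z ⟶ A) Limits.prod.fst f := by
  apply isPullback_of_exists_lift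
  · exact Limits.prod.map_fst _ _
  · intro Q a b hab
    refine ⟨Limits.prod.lift b (a ≫ Limits.prod.snd), ?_, ?_⟩
    · apply Limits.prod.hom_ext
      · rw [Category.assoc, Limits.prod.map_fst, Limits.prod.lift_fst_assoc, hab]
      · rw [Category.assoc, Limits.prod.map_snd, Category.comp_id, Limits.prod.lift_snd]
    · exact Limits.prod.lift_fst _ _
  · intro Q l l' h1 h2
    apply Limits.prod.hom_ext
    · exact h2
    · have := congrArg (· ≫ Limits.prod.snd) h1
      simp only [Category.assoc, Limits.prod.map_snd, Category.comp_id] at this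
      exact this

/-! ### The general criterion -/

theorem range_map_toHom {Y : Sp S} (r : FieldPt Y) :
    Set.range (Points.map r.toHom) = {Points.mk r} := by
  ext z
  constructor
  · rintro ⟨w, rfl⟩
    exact points_map_toHom_eq r w
  · rintro rfl
    exact ⟨Points.ofScheme r.pt (IsLocalRing.closedPoint r.K), points_map_toHom_eq r _⟩

theorem range_fst_of_isPullback' {P X Y Z : Sp S} {fst : P ⟶ X} {snd : P ⟶ Y} {f : X ⟶ Z} {g : Y ⟶ Z}
    (sq : IsPullback fst snd f g) :
    Set.range (Points.map fst) = Points.map f ⁻¹' Set.range (Points.map g) := by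
  ext x
  constructor
  · rintro ⟨z, rfl⟩
    exact ⟨Points.map snd z, by rw [← Points.map_comp, ← Points.map_comp, sq.w]⟩
  · rintro ⟨y, hy⟩
    obtain ⟨z, hz, -⟩ := exists_point_of_isPullback sq x y hy.symm
    exact ⟨z, hz⟩

/-- A morphism which is open on points and whose fibres over field-valued points are connected induces a
bijection on connected components. -/
theorem bijective_connectedComponentsMap_of_open_of_fibres {P Y : Sp S} (π : P ⟶ Y)
    (hopen : IsOpenMap (Points.map π))
    (hfib : ∀ r : FieldPt Y, ∃ (Q : Sp S) (q1 : Q ⟶ P) (q2 : Q ⟶ (yon S).obj r.pt),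
      IsPullback q1 q2 π r.toHom ∧ ConnectedSpace (Points Q)) :
    Function.Bijective (Continuous.connectedComponentsMap (Points.continuous_map π)) := by
  have hfibre : ∀ y : Points Y, IsConnected (Points.map π ⁻¹' {y}) := by
    intro y
    induction y using Points.ind with
    | h r =>
    obtain ⟨Q, q1, q2, sq, hc⟩ := hfib r
    have hr : Set.range (Points.map q1) = Points.map π ⁻¹' {Points.mk r} := by
      rw [range_fst_of_isPullback' sq, range_map_toHom]
    rw [← hr]
    exact isConnected_range (Points.continuous_map q1)
  have hsurj : Function.Surjective (Points.map π) := fun y => by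
    obtain ⟨x, hx⟩ := (hfibre y).nonempty
    exact ⟨x, hx⟩
  exact (IsOpenMap.isQuotientMap hopen (Points.continuous_map π)
    hsurj).isCoinducing.connectedComponentsMap_bijective hfibre

/-! ### Openness over a field -/

section Field

variable (k : Type u) [Field k]

theorem isOpenMap_points_snd_of_field {X Y : Sp (Spec (CommRingCat.of k))} (hX : IsAlgSpace X)
    (hY : IsAlgSpace Y) : IsOpenMap (Points.map (prod.snd : X ⨯ Y ⟶ Y)) := by
  have hu : IsUnivOpenMor (isTerminalOne.from X) :=
    isUnivOpenMor_of_field hX (𝟙 (Spec (CommRingCat.of k))) _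
  exact hu hY (isTerminalOne.from Y) prod.fst prod.snd (isPullback_prod X Y)

theorem isOpenMap_points_fst_of_field {X Z : Sp (Spec (CommRingCat.of k))} (hX : IsAlgSpace X)
    (hZ : IsAlgSpace Z) : IsOpenMap (Points.map (prod.fst : X ⨯ Z ⟶ X)) := by
  have hu : IsUnivOpenMor (isTerminalOne.from Z) :=
    isUnivOpenMor_of_field hZ (𝟙 (Spec (CommRingCat.of k))) _
  exact hu hX (isTerminalOne.from X) prod.snd prod.fst (isPullback_prod X Z).flip

/-- The structure object of a field extension. -/
noncomputable abbrev fldObj (K : Type u) [Field K] [Algebra k K] : Over (Spec (CommRingCat.of k)) :=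
  Over.mk (Spec.map (CommRingCat.ofHom (algebraMap k K)))

/-- Geometric connectedness gives connected fibres over all field-valued points. -/
theorem connectedSpace_prod_of_geomConn (X : Sp (Spec (CommRingCat.of k)))
    (hX : ∀ (K : Type u) [Field K] [Algebra k K],
      ConnectedSpace (Points (X ⨯ (yon (Spec (CommRingCat.of k))).obj (fldObj k K))))
    (K : Type u) [Field K] (str : Spec (CommRingCat.of K) ⟶ Spec (CommRingCat.of k)) :
    ConnectedSpace (Points (X ⨯ (yon (Spec (CommRingCat.of k))).obj (Over.mk str))) := by
  letI : Algebra k K := (Spec.preimage str).hom.toAlgebra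
  have h : Spec.map (CommRingCat.ofHom (algebraMap k K)) = str := by
    change Spec.map (CommRingCat.ofHom (Spec.preimage str).hom) = str
    rw [CommRingCat.ofHom_hom, Spec.map_preimage]
  have := hX K
  unfold fldObj at this
  rw [h] at this
  exact this

/-- **Products with a geometrically connected space**: the projection induces a bijection on connected
components. -/
theorem bijective_connectedComponentsMap_snd {X Y : Sp (Spec (CommRingCat.of k))} (hX : IsAlgSpace X)
    (hY : IsAlgSpace Y)
    (hc : ∀ (K : Type u) [Field K] [Algebra k K],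
      ConnectedSpace (Points (X ⨯ (yon (Spec (CommRingCat.of k))).obj (fldObj k K)))) :
    Function.Bijective (Continuous.connectedComponentsMap
      (Points.continuous_map (prod.snd : X ⨯ Y ⟶ Y))) := by
  refine bijective_connectedComponentsMap_of_open_of_fibres _ (isOpenMap_points_snd_of_field k hX hY) ?_
  intro r
  exact ⟨X ⨯ (yon _).obj r.pt, prod.map (𝟙 X) r.toHom, prod.snd, isPullback_prod_map_snd_fbc X r.toHom,
    connectedSpace_prod_of_geomConn k X hc r.K r.str⟩

end Field

/-! ### Topology, second part -/

theorem connectedSpace_of_surjective_connectedComponentsMap {α β : Type*} [TopologicalSpace α]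
    [TopologicalSpace β] {f : α → β} (hf : Continuous f)
    (h : Function.Surjective hf.connectedComponentsMap) [ConnectedSpace α] : ConnectedSpace β := by
  have hne : Nonempty β := by
    obtain ⟨a⟩ := (inferInstance : Nonempty α)
    exact ⟨f a⟩
  have hpre : PreconnectedSpace β := by
    rw [preconnectedSpace_iff_connectedComponent]
    intro x
    ext y
    simp only [Set.mem_univ, iff_true]
    obtain ⟨c₁, h₁⟩ := h (y : ConnectedComponents β)
    obtain ⟨c₂, h₂⟩ := h (x : ConnectedComponents β)
    have : (y : ConnectedComponents β) = (x : ConnectedComponents β) := by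
      rw [← h₁, ← h₂, Subsingleton.elim c₁ c₂]
    exact ConnectedComponents.coe_eq_coe'.1 this
  exact { toPreconnectedSpace := hpre, toNonempty := hne }

/-! ### Products of representables -/

/-- The points of a product of representables are covered by the points of the fibre product of schemes. -/
theorem connectedSpace_points_prod_yon {S : Scheme.{u}} (B A : Over S)
    [ConnectedSpace ↥(pullback B.hom A.hom)] :
    ConnectedSpace (Points ((yon S).obj B ⨯ (yon S).obj A)) := by
  obtain ⟨T, hT⟩ : ∃ T : Over S, T = Over.mk (pullback.fst B.hom A.hom ≫ B.hom) := ⟨_, rfl⟩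
  obtain ⟨tB, htB⟩ : ∃ tB : Over.mk (pullback.fst B.hom A.hom ≫ B.hom) ⟶ B,
      tB.left = pullback.fst B.hom A.hom := ⟨Over.homMk (pullback.fst B.hom A.hom) rfl, rfl⟩
  obtain ⟨tA, htA⟩ : ∃ tA : Over.mk (pullback.fst B.hom A.hom ≫ B.hom) ⟶ A,
      tA.left = pullback.snd B.hom A.hom :=
    ⟨Over.homMk (pullback.snd B.hom A.hom) pullback.condition.symm, rfl⟩
  subst hT
  haveI : ConnectedSpace ↥(Over.mk (pullback.fst B.hom A.hom ≫ B.hom)).left :=
    inferInstanceAs (ConnectedSpace ↥(pullback B.hom A.hom))
  haveI : ConnectedSpace (Points ((yon S).obj (Over.mk (pullback.fst B.hom A.hom ≫ B.hom)))) :=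
    (Points.schemeHomeo _).surjective.connectedSpace (Points.schemeHomeo _).continuous
  have hs : Function.Surjective
      (Points.map (prod.lift ((yon S).map tB) ((yon S).map tA))) := by
    intro z
    induction z using Points.ind with
    | h p =>
    obtain ⟨α, hα⟩ := (yon S).map_surjective (p.toHom ≫ prod.fst)
    obtain ⟨β, hβ⟩ := (yon S).map_surjective (p.toHom ≫ prod.snd)
    have hαβ : α.left ≫ B.hom = β.left ≫ A.hom := by rw [Over.w α, Over.w β]
    obtain ⟨γ, hγ⟩ : ∃ γ : p.pt ⟶ Over.mk (pullback.fst B.hom A.hom ≫ B.hom),
        γ.left = pullback.lift α.left β.left hαβ :=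
      ⟨Over.homMk (pullback.lift α.left β.left hαβ) (by
        change pullback.lift _ _ _ ≫ (pullback.fst B.hom A.hom ≫ B.hom) = p.pt.hom
        rw [pullback.lift_fst_assoc, Over.w α]), rfl⟩
    have hγB : γ ≫ tB = α := by
      apply Over.OverMorphism.ext
      rw [Over.comp_left, hγ, htB, pullback.lift_fst]
    have hγA : γ ≫ tA = β := by
      apply Over.OverMorphism.ext
      rw [Over.comp_left, hγ, htA, pullback.lift_snd]
    have hcomp : (yon S).map γ ≫ prod.lift ((yon S).map tB) ((yon S).map tA) = p.toHom := by
      apply Limits.prod.hom_ext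
      · rw [Category.assoc, prod.lift_fst, ← Functor.map_comp, hγB, hα]
      · rw [Category.assoc, prod.lift_snd, ← Functor.map_comp, hγA, hβ]
    refine ⟨Points.mk (fieldPtOfHom p.K p.str ((yon S).map γ)), ?_⟩
    rw [Points.map_mk, fieldPtOfHom_map, hcomp, Points.mk_eq_mk_iff, rel_iff_toHom]
    refine ⟨p.K, inferInstance, p.str, 𝟙 _, 𝟙 _, ?_⟩
    exact congrArg (fun t => (yon S).map (𝟙 (Over.mk p.str)) ≫ t) (fieldPtOfHom_toHom _ _ _)
  exact hs.connectedSpace (Points.continuous_map _)

/-! ### Separably closed base fields -/

section SepClosed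

/-- The base change of the spectrum of a field, over a separably closed field, is connected. -/
theorem connectedSpace_bc_of_isSepClosed (k : Type u) [Field k] [IsSepClosed k] (K₁ : Type u) [Field K₁]
    (str : Spec (CommRingCat.of K₁) ⟶ Spec (CommRingCat.of k)) (K : Type u) [Field K] [Algebra k K] :
    ConnectedSpace ↥(pullback str (Spec.map (CommRingCat.ofHom (algebraMap k K)))) := by
  have h := Groth.Agent.S7590.core str K
  exact connectedSpace_of_bijective_connectedComponentsMap (FBase.bcπ str K).continuous h

variable (k : Type u) [Field k]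

/-- Over a separably closed field, base change to a field extension induces a bijection on connected
components. -/
theorem bijective_connectedComponentsMap_fst_of_isSepClosed [IsSepClosed k]
    {X : Sp (Spec (CommRingCat.of k))} (hX : IsAlgSpace X) (K : Type u) [Field K] [Algebra k K] :
    Function.Bijective (Continuous.connectedComponentsMap (Points.continuous_map
      (prod.fst : X ⨯ (yon (Spec (CommRingCat.of k))).obj (fldObj k K) ⟶ X))) := by
  refine bijective_connectedComponentsMap_of_open_of_fibres _
    (isOpenMap_points_fst_of_field k hX (IsAlgSpace.yon_obj _)) ?_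
  intro r
  haveI : ConnectedSpace ↥(pullback r.pt.hom (fldObj k K).hom) :=
    connectedSpace_bc_of_isSepClosed k r.K r.str K
  exact ⟨(yon _).obj r.pt ⨯ (yon _).obj (fldObj k K), prod.map r.toHom (𝟙 _), prod.fst,
    isPullback_prod_map_fst_fbc _ r.toHom, connectedSpace_points_prod_yon r.pt (fldObj k K)⟩

/-- Over a separably closed field, geometrically connected means connected. -/
theorem geomConn_iff_connected_of_isSepClosed [IsSepClosed k]
    {X : Sp (Spec (CommRingCat.of k))} (hX : IsAlgSpace X) :
    (∀ (K : Type u) [Field K] [Algebra k K],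
      ConnectedSpace (Points (X ⨯ (yon (Spec (CommRingCat.of k))).obj (fldObj k K)))) ↔
      ConnectedSpace (Points X) := by
  constructor
  · intro h
    haveI := h k
    exact connectedSpace_of_surjective_connectedComponentsMap _
      (bijective_connectedComponentsMap_fst_of_isSepClosed k hX k).2
  · intro h K _ _
    exact connectedSpace_of_bijective_connectedComponentsMap _
      (bijective_connectedComponentsMap_fst_of_isSepClosed k hX K)

/-- The morphism of structure objects attached to a tower of fields. -/
noncomputable def fldMap (kb L : Type u) [Field kb] [Field L] [Algebra k kb] [Algebra k L] [Algebra kb L]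
    [IsScalarTower k kb L] : fldObj k L ⟶ fldObj k kb :=
  Over.homMk (Spec.map (CommRingCat.ofHom (algebraMap kb L))) (by
    change Spec.map (CommRingCat.ofHom (algebraMap kb L)) ≫
      Spec.map (CommRingCat.ofHom (algebraMap k kb)) = Spec.map (CommRingCat.ofHom (algebraMap k L))
    rw [← Spec.map_comp, ← CommRingCat.ofHom_comp, ← IsScalarTower.algebraMap_eq])

/-- Base change from a separably closed field to a bigger field induces a bijection on connected components,
inside spaces over `k`. -/
theorem bijective_connectedComponentsMap_prod_map {X : Sp (Spec (CommRingCat.of k))} (hX : IsAlgSpace X)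
    (kb L : Type u) [Field kb] [Field L] [Algebra k kb] [Algebra k L] [Algebra kb L]
    [IsScalarTower k kb L] [IsSepClosed kb] :
    Function.Bijective (Continuous.connectedComponentsMap (Points.continuous_map
      (prod.map (𝟙 X) ((yon (Spec (CommRingCat.of k))).map (fldMap k kb L))))) := by
  have sqfbc := isPullback_prod_map_snd_fbc X ((yon (Spec (CommRingCat.of k))).map (fldMap k kb L))
  refine bijective_connectedComponentsMap_of_open_of_fibres _ ?_ ?_
  · have hu : IsUnivOpenMor ((yon (Spec (CommRingCat.of k))).map (fldMap k kb L)) :=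
      isUnivOpenMor_of_field (IsAlgSpace.yon_obj _) (Spec.map (CommRingCat.ofHom (algebraMap k kb))) _
    exact hu (isAlgSpace_prod hX (IsAlgSpace.yon_obj _)) prod.snd prod.snd _ sqfbc.flip
  · intro r
    obtain ⟨ρ, hρ⟩ := (yon (Spec (CommRingCat.of k))).map_surjective (r.toHom ≫ prod.snd)
    have sqY := (IsPullback.of_hasPullback ρ (fldMap k kb L)).map (yon (Spec (CommRingCat.of k)))
    refine ⟨(yon _).obj (pullback ρ (fldMap k kb L)),
      prod.lift ((yon _).map (pullback.fst ρ (fldMap k kb L)) ≫ r.toHom ≫ prod.fst)
        ((yon _).map (pullback.snd ρ (fldMap k kb L))),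
      (yon _).map (pullback.fst ρ (fldMap k kb L)), ?_, ?_⟩
    · refine IsPullback.of_right ?_ ?_ sqfbc.flip
      · rw [prod.lift_snd, ← hρ]
        exact sqY.flip
      · apply Limits.prod.hom_ext
        · rw [Category.assoc, prod.map_fst, Category.comp_id, prod.lift_fst, Category.assoc]
        · rw [Category.assoc, prod.map_snd, prod.lift_snd_assoc, Category.assoc, ← hρ,
            ← Functor.map_comp, ← Functor.map_comp, pullback.condition]
    · have e : (pullback ρ (fldMap k kb L)).left ≅ pullback ρ.left (fldMap k kb L).left :=
        (isPullback_left_forget ρ (fldMap k kb L)).isoPullback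
      haveI : ConnectedSpace ↥(pullback ρ.left (fldMap k kb L).left) :=
        connectedSpace_bc_of_isSepClosed kb r.K ρ.left L
      haveI : ConnectedSpace ↥(pullback ρ (fldMap k kb L)).left :=
        (Scheme.homeoOfIso e.symm).surjective.connectedSpace (Scheme.homeoOfIso e.symm).continuous
      exact (Points.schemeHomeo _).surjective.connectedSpace (Points.schemeHomeo _).continuous

/-- Connectedness over a separable closure implies geometric connectedness. -/
theorem geomConn_of_connected_sepClosure {X : Sp (Spec (CommRingCat.of k))} (hX : IsAlgSpace X)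
    (kbar : Type u) [Field kbar] [Algebra k kbar] [IsSepClosure k kbar]
    (h : ConnectedSpace (Points (X ⨯ (yon (Spec (CommRingCat.of k))).obj (fldObj k kbar))))
    (K : Type u) [Field K] [Algebra k K] :
    ConnectedSpace (Points (X ⨯ (yon (Spec (CommRingCat.of k))).obj (fldObj k K))) := by
  obtain ⟨L, _, _, _, _, hKL, hbL⟩ := exists_compositum k K kbar
  haveI : IsSepClosed kbar := IsSepClosure.sep_closed k
  haveI hL : ConnectedSpace (Points (X ⨯ (yon (Spec (CommRingCat.of k))).obj (fldObj k L))) :=
    connectedSpace_of_bijective_connectedComponentsMap _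
      (bijective_connectedComponentsMap_prod_map k hX kbar L)
  haveI : Surjective (fldMap k K L).left := by
    haveI : Nonempty ↥(fldObj k L).left := inferInstanceAs (Nonempty ↥(Spec (CommRingCat.of L)))
    haveI : Subsingleton ↥(fldObj k K).left :=
      inferInstanceAs (Subsingleton ↥(Spec (CommRingCat.of K)))
    exact ⟨fun x => ⟨Classical.arbitrary _, Subsingleton.elim _ _⟩⟩
  exact (surjective_points_prod_map X (fldMap k K L)).connectedSpace (Points.continuous_map _)

end SepClosed

end Groth.Agent.Lib.Helper16.GeomConn
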