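import Mathlib
import Groth.Agent.Lib.Helper16.GeomConn
import Groth.Agent.S7621

/-!
# Helper library (helper16): the Galois action on the base change of an algebraic space over a field
-/

set_option autoImplicit false
set_option linter.style.haveILetI false
universe u
open CategoryTheory CategoryTheory.Limits AlgebraicGeometry Opposite Topology

namespace Groth.Agent.Lib.Helper16.GeomConn

open AlgSp Groth.Agent.Lib.Helper16 Groth.Agent.Lib.Helper16.FibreEmb

variable (k : Type u) [Field k]

/-- The automorphism of the structure object of `K` attached to a `k`-automorphism of `K`. -/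
noncomputable def galObjMap (K : Type u) [Field K] [Algebra k K] (σ : K ≃ₐ[k] K) :
    fldObj k K ⟶ fldObj k K :=
  Over.homMk (Spec.map (CommRingCat.ofHom (σ : K ≃ₐ[k] K).toRingHom)) (by
    change Spec.map (CommRingCat.ofHom (σ : K ≃ₐ[k] K).toRingHom) ≫
      Spec.map (CommRingCat.ofHom (algebraMap k K)) = Spec.map (CommRingCat.ofHom (algebraMap k K))
    rw [← Spec.map_comp, ← CommRingCat.ofHom_comp]
    congr 2
    ext x
    exact σ.commutes x)

theorem galObjMap_left (K : Type u) [Field K] [Algebra k K] (σ : K ≃ₐ[k] K) :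
    (galObjMap k K σ).left = Spec.map (CommRingCat.ofHom (σ : K ≃ₐ[k] K).toRingHom) := rfl

theorem eq_galObjMap (K : Type u) [Field K] [Algebra k K] (σ : K ≃ₐ[k] K)
    (g : fldObj k K ⟶ fldObj k K)
    (hg : g.left = Spec.map (CommRingCat.ofHom (σ : K ≃ₐ[k] K).toRingHom)) : g = galObjMap k K σ :=
  Over.OverMorphism.ext hg

/-- The first projection of the base change to a field extension is surjective on points. -/
theorem surjective_points_fst (X : Sp (Spec (CommRingCat.of k))) (K : Type u) [Field K] [Algebra k K] :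
    Function.Surjective (Points.map
      (prod.fst : X ⨯ (yon (Spec (CommRingCat.of k))).obj (fldObj k K) ⟶ X)) := by
  have h0 : isTerminalOne.from ((yon (Spec (CommRingCat.of k))).obj (fldObj k K)) =
      (yon (Spec (CommRingCat.of k))).map (Over.mkIdTerminal.from (fldObj k K)) :=
    isTerminalOne.hom_ext _ _
  have h1 : RepWith @Surjective
      (isTerminalOne.from ((yon (Spec (CommRingCat.of k))).obj (fldObj k K))) := by
    rw [h0]
    refine (repWith_yon_map_iff _ _).2 ?_
    haveI : Nonempty ↥(fldObj k K).left := inferInstanceAs (Nonempty ↥(Spec (CommRingCat.of K)))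
    haveI : Subsingleton ↥(Over.mk (𝟙 (Spec (CommRingCat.of k)))).left :=
      inferInstanceAs (Subsingleton ↥(Spec (CommRingCat.of k)))
    exact ⟨fun x => ⟨Classical.arbitrary _, Subsingleton.elim _ _⟩⟩
  have h2 : RepWith @Surjective
      (prod.fst : X ⨯ (yon (Spec (CommRingCat.of k))).obj (fldObj k K) ⟶ X) :=
    MorphismProperty.of_isPullback (P := RepWith (S := Spec (CommRingCat.of k)) @AlgebraicGeometry.Surjective)
      (isPullback_prod X _).flip h1
  exact (repWith_surjective_iff _ h2.rep).1 h2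

/-- The fibres of `|X_K| → |X|` are orbits under `Aut(K/k)` when `K/k` is normal. -/
theorem exists_galois_conj (X : Sp (Spec (CommRingCat.of k))) (K : Type u) [Field K] [Algebra k K]
    [Normal k K] (z z' : Points (X ⨯ (yon (Spec (CommRingCat.of k))).obj (fldObj k K)))
    (h : Points.map prod.fst z = Points.map prod.fst z') :
    ∃ σ : K ≃ₐ[k] K, Points.map (prod.map (𝟙 X) ((yon _).map (galObjMap k K σ))) z = z' := by
  induction z using Points.ind with
  | h p =>
  induction z' using Points.ind with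
  | h p' =>
  rw [Points.map_mk, Points.map_mk, Points.mk_eq_mk_iff, rel_iff_toHom] at h
  obtain ⟨Ω, _, w, c₀, c₀', hcc⟩ := h
  rw [FieldPt.toHom_map, FieldPt.toHom_map] at hcc
  obtain ⟨c, rfl⟩ : ∃ c : Over.mk w ⟶ p.pt, c = c₀ := ⟨c₀, rfl⟩
  obtain ⟨c', rfl⟩ : ∃ c' : Over.mk w ⟶ p'.pt, c' = c₀' := ⟨c₀', rfl⟩
  have hcc' : (yon (Spec (CommRingCat.of k))).map c ≫ p.toHom ≫ prod.fst =
      (yon (Spec (CommRingCat.of k))).map c' ≫ p'.toHom ≫ prod.fst := hcc
  obtain ⟨β, hβ⟩ := (yon (Spec (CommRingCat.of k))).map_surjective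
    (((yon _).map c ≫ p.toHom) ≫ prod.snd)
  obtain ⟨β', hβ'⟩ := (yon (Spec (CommRingCat.of k))).map_surjective
    (((yon _).map c' ≫ p'.toHom) ≫ prod.snd)
  -- the two embeddings of `K` in `Ω`
  obtain ⟨φ, hφ⟩ : ∃ φ : K →+* Ω, Spec.map (CommRingCat.ofHom φ) = β.left :=
    ⟨(Spec.preimage β.left).hom, by rw [CommRingCat.ofHom_hom, Spec.map_preimage]⟩
  obtain ⟨φ', hφ'⟩ : ∃ φ' : K →+* Ω, Spec.map (CommRingCat.ofHom φ') = β'.left :=
    ⟨(Spec.preimage β'.left).hom, by rw [CommRingCat.ofHom_hom, Spec.map_preimage]⟩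
  have hw : β.left ≫ Spec.map (CommRingCat.ofHom (algebraMap k K)) =
      β'.left ≫ Spec.map (CommRingCat.ofHom (algebraMap k K)) := (Over.w β).trans (Over.w β').symm
  have hcomp : φ.comp (algebraMap k K) = φ'.comp (algebraMap k K) := by
    rw [← hφ, ← hφ', ← Spec.map_comp, ← Spec.map_comp, ← CommRingCat.ofHom_comp,
      ← CommRingCat.ofHom_comp] at hw
    have := Spec.map_injective hw
    exact congrArg CommRingCat.Hom.hom this
  letI algK : Algebra K Ω := φ.toAlgebra
  letI algk : Algebra k Ω := (φ.comp (algebraMap k K)).toAlgebra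
  haveI : IsScalarTower k K Ω := IsScalarTower.of_algebraMap_eq (fun x => rfl)
  let ψ : K →ₐ[k] Ω := { φ' with commutes' := fun x => (RingHom.congr_fun hcomp x).symm }
  obtain ⟨σ, hσ⟩ : ∃ σ : K ≃ₐ[k] K, (IsScalarTower.toAlgHom k K Ω).comp (σ : K →ₐ[k] K) = ψ :=
    ⟨Normal.algHomEquivAut k Ω K ψ, by
      rw [← Normal.algHomEquivAut_symm_apply, Equiv.symm_apply_apply]⟩
  have hφσ : φ.comp (σ : K ≃ₐ[k] K).toRingHom = φ' := by
    ext x
    have := AlgHom.congr_fun hσ x
    exact this
  refine ⟨σ, ?_⟩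
  rw [← mk_fieldPtOfHom_comp p Ω w c, ← mk_fieldPtOfHom_comp p' Ω w c', Points.map_mk, fieldPtOfHom_map]
  congr 2
  apply Limits.prod.hom_ext
  · rw [Category.assoc, prod.map_fst, Category.comp_id]
    simpa only [Category.assoc] using hcc'
  · rw [Category.assoc, prod.map_snd, ← Category.assoc, ← hβ, ← hβ', ← Functor.map_comp]
    congr 1
    apply Over.OverMorphism.ext
    rw [Over.comp_left, galObjMap_left, ← hφ, ← hφ', ← Spec.map_comp, ← CommRingCat.ofHom_comp, hφσ]

/-- A subset of `|X_K|` stable under the Galois action is saturated for `|X_K| → |X|`. -/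
theorem preimage_image_fst_eq_of_stable (X : Sp (Spec (CommRingCat.of k))) (K : Type u) [Field K]
    [Algebra k K] [Normal k K]
    (T : Set (Points (X ⨯ (yon (Spec (CommRingCat.of k))).obj (fldObj k K))))
    (hσ : ∀ σ : K ≃ₐ[k] K,
      Points.map (prod.map (𝟙 X) ((yon _).map (galObjMap k K σ))) '' T ⊆ T) :
    Points.map prod.fst ⁻¹' (Points.map prod.fst '' T) = T := by
  apply Set.Subset.antisymm
  · rintro z' ⟨z, hz, hzz'⟩
    obtain ⟨σ, rfl⟩ := exists_galois_conj k X K z z' hzz'
    exact hσ σ ⟨z, hz, rfl⟩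
  · exact Set.subset_preimage_image _ _

/-- The projection `|X_K| → |X|` is a quotient map. -/
theorem isQuotientMap_points_fst {X : Sp (Spec (CommRingCat.of k))} (hX : IsAlgSpace X) (K : Type u)
    [Field K] [Algebra k K] :
    IsQuotientMap (Points.map
      (prod.fst : X ⨯ (yon (Spec (CommRingCat.of k))).obj (fldObj k K) ⟶ X)) :=
  IsOpenMap.isQuotientMap (isOpenMap_points_fst_of_field k hX (IsAlgSpace.yon_obj _))
    (Points.continuous_map _) (surjective_points_fst k X K)

/-! ### An equivariant scheme atlas of the base change -/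

/-- The Galois action on the scheme-theoretic base change of a scheme over `k`. -/
noncomputable def bcAct (U : Over (Spec (CommRingCat.of k))) (K : Type u) [Field K] [Algebra k K]
    (σ : K ≃ₐ[k] K) : pullback U.hom (fldObj k K).hom ⟶ pullback U.hom (fldObj k K).hom :=
  pullback.map U.hom (fldObj k K).hom U.hom (fldObj k K).hom (𝟙 _) (galObjMap k K σ).left (𝟙 _)
    (by rw [Category.comp_id, Category.id_comp]) (by rw [Category.comp_id, Over.w])

/-- For an algebraic space `X` over `k`, an atlas `U` of `X` gives a continuous open surjection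
`|U_K| → |X_K|` which is equivariant for the Galois actions. -/
theorem exists_atlas_bc {X : Sp (Spec (CommRingCat.of k))} (hX : IsAlgSpace X) (K : Type u) [Field K]
    [Algebra k K] :
    ∃ (U : Over (Spec (CommRingCat.of k)))
      (θ : ↥(pullback U.hom (fldObj k K).hom) →
        Points (X ⨯ (yon (Spec (CommRingCat.of k))).obj (fldObj k K))),
      Continuous θ ∧ IsOpenMap θ ∧ Function.Surjective θ ∧
      ∀ (σ : K ≃ₐ[k] K) (t : ↥(pullback U.hom (fldObj k K).hom)),
        θ ((bcAct k U K σ).base t) =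
          Points.map (prod.map (𝟙 X) ((yon _).map (galObjMap k K σ))) (θ t) := by
  obtain ⟨U, pU, hUe, hUs⟩ := hX.atlas
  obtain ⟨U₀, hU₀⟩ : ∃ U₀ : U ⟶ Over.mk (𝟙 (Spec (CommRingCat.of k))), U₀.left = U.hom :=
    ⟨Over.homMk U.hom (Category.comp_id _), rfl⟩
  obtain ⟨A₀, hA₀⟩ : ∃ A₀ : fldObj k K ⟶ Over.mk (𝟙 (Spec (CommRingCat.of k))),
      A₀.left = (fldObj k K).hom := ⟨Over.homMk (fldObj k K).hom (Category.comp_id _), rfl⟩
  have sqL : IsPullback (pullback.fst U₀ A₀).left (pullback.snd U₀ A₀).left U.hom (fldObj k K).hom := by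
    have := isPullback_left_forget U₀ A₀
    rwa [hU₀, hA₀] at this
  have sqY := (IsPullback.of_hasPullback U₀ A₀).map (yon (Spec (CommRingCat.of k)))
  -- the isomorphism `h_T ≅ h_U × h_A`
  have hm1 : prod.lift ((yon _).map (pullback.fst U₀ A₀)) ((yon _).map (pullback.snd U₀ A₀)) ≫
      sqY.lift prod.fst prod.snd (isTerminalOne.hom_ext _ _) = 𝟙 _ := by
    apply sqY.hom_ext
    · rw [Category.assoc, sqY.lift_fst, prod.lift_fst, Category.id_comp]
    · rw [Category.assoc, sqY.lift_snd, prod.lift_snd, Category.id_comp]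
  have hm2 : sqY.lift prod.fst prod.snd (isTerminalOne.hom_ext _ _) ≫
      prod.lift ((yon _).map (pullback.fst U₀ A₀)) ((yon _).map (pullback.snd U₀ A₀)) = 𝟙 _ := by
    apply Limits.prod.hom_ext
    · rw [Category.assoc, prod.lift_fst, sqY.lift_fst, Category.id_comp]
    · rw [Category.assoc, prod.lift_snd, sqY.lift_snd, Category.id_comp]
  haveI hiso : IsIso (prod.lift ((yon (Spec (CommRingCat.of k))).map (pullback.fst U₀ A₀))
      ((yon _).map (pullback.snd U₀ A₀))) := ⟨_, hm1, hm2⟩
  have hqe : RepWith @Etale (prod.lift ((yon (Spec (CommRingCat.of k))).map (pullback.fst U₀ A₀))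
      ((yon _).map (pullback.snd U₀ A₀)) ≫ prod.map pU (𝟙 ((yon _).obj (fldObj k K)))) :=
    (MorphismProperty.cancel_left_of_respectsIso (RepWith @Etale) _ _).2
      (MorphismProperty.of_isPullback (P := RepWith (S := Spec (CommRingCat.of k)) @Etale)
        (isPullback_prod_map_fst_fbc _ pU).flip hUe)
  have hqs : RepWith @Surjective (prod.lift ((yon (Spec (CommRingCat.of k))).map (pullback.fst U₀ A₀))
      ((yon _).map (pullback.snd U₀ A₀)) ≫ prod.map pU (𝟙 ((yon _).obj (fldObj k K)))) :=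
    (MorphismProperty.cancel_left_of_respectsIso (RepWith @Surjective) _ _).2
      (MorphismProperty.of_isPullback
        (P := RepWith (S := Spec (CommRingCat.of k)) @AlgebraicGeometry.Surjective)
        (isPullback_prod_map_fst_fbc _ pU).flip hUs)
  refine ⟨U, fun t => Points.ofPt (prod.lift ((yon (Spec (CommRingCat.of k))).map (pullback.fst U₀ A₀))
      ((yon _).map (pullback.snd U₀ A₀)) ≫ prod.map pU (𝟙 ((yon _).obj (fldObj k K))))
      (sqL.isoPullback.inv.base t), ?_, ?_, ?_, ?_⟩
  · exact (Points.continuous_ofPt _).comp sqL.isoPullback.inv.continuous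
  · exact (isOpenMap_ofPt_of_etale _ hqe).comp (Scheme.homeoOfIso sqL.isoPullback.symm).isOpenMap
  · exact (ofPt_surjective_of_surjective _ hqs).comp (Scheme.homeoOfIso sqL.isoPullback.symm).surjective
  · intro σ t
    -- the action on `T`
    have hcond : U₀ ≫ 𝟙 _ = 𝟙 U ≫ U₀ := by rw [Category.comp_id, Category.id_comp]
    have hcond' : A₀ ≫ 𝟙 _ = galObjMap k K σ ≫ A₀ := Over.mkIdTerminal.hom_ext _ _
    have hγ1 : pullback.map U₀ A₀ U₀ A₀ (𝟙 U) (galObjMap k K σ) (𝟙 _) hcond hcond' ≫
        pullback.fst U₀ A₀ = pullback.fst U₀ A₀ := by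
      unfold pullback.map
      rw [pullback.lift_fst, Category.comp_id]
    have hγ2 : pullback.map U₀ A₀ U₀ A₀ (𝟙 U) (galObjMap k K σ) (𝟙 _) hcond hcond' ≫
        pullback.snd U₀ A₀ = pullback.snd U₀ A₀ ≫ galObjMap k K σ := by
      unfold pullback.map
      rw [pullback.lift_snd]
    -- compatibility with the scheme-level action
    have hcompat : sqL.isoPullback.inv ≫
        (pullback.map U₀ A₀ U₀ A₀ (𝟙 U) (galObjMap k K σ) (𝟙 _) hcond hcond').left =
        bcAct k U K σ ≫ sqL.isoPullback.inv := by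
      rw [← cancel_mono sqL.isoPullback.hom, Category.assoc, Category.assoc, Iso.inv_hom_id,
        Category.comp_id]
      apply pullback.hom_ext
      · rw [Category.assoc, Category.assoc, sqL.isoPullback_hom_fst, ← Over.comp_left, hγ1,
          sqL.isoPullback_inv_fst]
        unfold bcAct pullback.map
        rw [pullback.lift_fst, Category.comp_id]
      · rw [Category.assoc, Category.assoc, sqL.isoPullback_hom_snd, ← Over.comp_left, hγ2,
          Over.comp_left, sqL.isoPullback_inv_snd_assoc]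
        unfold bcAct pullback.map
        rw [pullback.lift_snd]
    -- equivariance of the chart
    have hequiv : (yon (Spec (CommRingCat.of k))).map
        (pullback.map U₀ A₀ U₀ A₀ (𝟙 U) (galObjMap k K σ) (𝟙 _) hcond hcond') ≫
        (prod.lift ((yon _).map (pullback.fst U₀ A₀)) ((yon _).map (pullback.snd U₀ A₀)) ≫
          prod.map pU (𝟙 ((yon _).obj (fldObj k K)))) =
        (prod.lift ((yon _).map (pullback.fst U₀ A₀)) ((yon _).map (pullback.snd U₀ A₀)) ≫
          prod.map pU (𝟙 ((yon _).obj (fldObj k K)))) ≫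
          prod.map (𝟙 X) ((yon _).map (galObjMap k K σ)) := by
      apply Limits.prod.hom_ext
      · simp only [Category.assoc, prod.map_fst, prod.map_fst_assoc, prod.lift_fst,
          prod.lift_fst_assoc, Category.comp_id, Category.id_comp]
        rw [← Functor.map_comp_assoc, hγ1]
      · simp only [Category.assoc, prod.map_snd, prod.map_snd_assoc, prod.lift_snd,
          prod.lift_snd_assoc, Category.comp_id, Category.id_comp]
        rw [← Functor.map_comp, hγ2, Functor.map_comp]
    have h1 : sqL.isoPullback.inv.base ((bcAct k U K σ).base t) =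
        (pullback.map U₀ A₀ U₀ A₀ (𝟙 U) (galObjMap k K σ) (𝟙 _) hcond hcond').left.base
          (sqL.isoPullback.inv.base t) := by
      have := congrArg (fun f => f.base t) hcompat
      simpa only [Scheme.Hom.comp_base, TopCat.comp_app] using this.symm
    show Points.ofPt _ (sqL.isoPullback.inv.base ((bcAct k U K σ).base t)) = _
    rw [h1, ← ofPt_yon_map_comp, hequiv, ← Points.map_ofPt]

/-- The scheme-level Galois action of the prelude is `bcAct`. -/
theorem galAct_eq_bcAct (U : Over (Spec (CommRingCat.of k))) (K : Type u) [Field K] [Algebra k K]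
    (σ : K ≃ₐ[k] K) :
    letI : U.left.Over (Spec (CommRingCat.of k)) := ⟨U.hom⟩
    Curv2.galAct k U.left K σ = bcAct k U K σ := rfl

/-- A quasi-compact open of `|X_K|` is stable under the automorphisms fixing a finite subextension. -/
theorem exists_finite_subfield_stabilizing {X : Sp (Spec (CommRingCat.of k))} (hX : IsAlgSpace X)
    (K : Type u) [Field K] [Algebra k K] [IsGalois k K]
    (V : Set (Points (X ⨯ (yon (Spec (CommRingCat.of k))).obj (fldObj k K)))) (hV : IsOpen V)
    (hVc : IsCompact V) :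
    ∃ E : IntermediateField k K, FiniteDimensional k ↥E ∧
      ∀ σ : K ≃ₐ[k] K, (∀ a : K, a ∈ E → σ a = a) →
        Points.map (prod.map (𝟙 X) ((yon _).map (galObjMap k K σ))) '' V = V := by
  obtain ⟨U, θ, hθc, hθo, hθs, hθeq⟩ := exists_atlas_bc k hX K
  -- a compact open of the scheme atlas with image `V`
  have hloc : ∀ x : V, ∃ W : Set ↥(pullback U.hom (fldObj k K).hom),
      IsOpen W ∧ IsCompact W ∧ W ⊆ θ ⁻¹' V ∧ (x : Points _) ∈ θ '' W := by
    intro x
    obtain ⟨t, ht⟩ := hθs x.1
    have htV : t ∈ θ ⁻¹' V := by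
      show θ t ∈ V
      rw [ht]
      exact x.2
    obtain ⟨_, ⟨W, hW, rfl⟩, htW, hWV⟩ :=
      (pullback U.hom (fldObj k K).hom).isBasis_affineOpens.exists_subset_of_mem_open htV
        (hV.preimage hθc)
    exact ⟨W, W.2, IsAffineOpen.isCompact hW, hWV, ⟨t, htW, ht⟩⟩
  choose W hWo hWc hWV hxW using hloc
  obtain ⟨s, hs⟩ := hVc.elim_finite_subcover (fun x : V => θ '' W x) (fun x => hθo _ (hWo x))
    (fun x hx => Set.mem_iUnion.2 ⟨⟨x, hx⟩, hxW ⟨x, hx⟩⟩)
  have hW'o : IsOpen (⋃ x ∈ s, W x) := isOpen_biUnion fun x _ => hWo x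
  have hW'c : IsCompact (⋃ x ∈ s, W x) := s.isCompact_biUnion fun x _ => hWc x
  have hW'V : θ '' (⋃ x ∈ s, W x) = V := by
    apply Set.Subset.antisymm
    · rintro _ ⟨t, ht, rfl⟩
      obtain ⟨x, hx, htx⟩ := Set.mem_iUnion₂.1 ht
      exact hWV x htx
    · intro y hy
      obtain ⟨x, hx, t, ht, rfl⟩ := Set.mem_iUnion₂.1 (hs hy)
      exact ⟨t, Set.mem_iUnion₂.2 ⟨x, hx, ht⟩, rfl⟩
  letI : U.left.Over (Spec (CommRingCat.of k)) := ⟨U.hom⟩
  obtain ⟨E, hE, hEσ⟩ := Groth.Agent.S7621.result k K U.left (⋃ x ∈ s, W x) hW'o hW'c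
  refine ⟨E, hE, fun σ hσ => ?_⟩
  have h1 : (bcAct k U K σ).base '' (⋃ x ∈ s, W x) = ⋃ x ∈ s, W x := hEσ σ hσ
  rw [← hW'V, Set.image_image]
  conv_rhs => rw [← h1, Set.image_image]
  exact Set.image_congr fun t _ => (hθeq σ t).symm

/-! ### Relative versions: the projection `X_K → X_E` -/

/-- Base change along a tower of fields is open on points. -/
theorem isOpenMap_points_prod_map {X : Sp (Spec (CommRingCat.of k))} (hX : IsAlgSpace X)
    (kb L : Type u) [Field kb] [Field L] [Algebra k kb] [Algebra k L] [Algebra kb L]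
    [IsScalarTower k kb L] :
    IsOpenMap (Points.map
      (prod.map (𝟙 X) ((yon (Spec (CommRingCat.of k))).map (fldMap k kb L)))) := by
  have sqfbc := isPullback_prod_map_snd_fbc X ((yon (Spec (CommRingCat.of k))).map (fldMap k kb L))
  have hu : IsUnivOpenMor ((yon (Spec (CommRingCat.of k))).map (fldMap k kb L)) :=
    isUnivOpenMor_of_field (IsAlgSpace.yon_obj _) (Spec.map (CommRingCat.ofHom (algebraMap k kb))) _
  exact hu (isAlgSpace_prod hX (IsAlgSpace.yon_obj _)) prod.snd prod.snd _ sqfbc.flip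

theorem surjective_points_prod_map_fld (X : Sp (Spec (CommRingCat.of k)))
    (kb L : Type u) [Field kb] [Field L] [Algebra k kb] [Algebra k L] [Algebra kb L]
    [IsScalarTower k kb L] :
    Function.Surjective (Points.map
      (prod.map (𝟙 X) ((yon (Spec (CommRingCat.of k))).map (fldMap k kb L)))) := by
  haveI : Surjective (fldMap k kb L).left := by
    haveI : Nonempty ↥(fldObj k L).left := inferInstanceAs (Nonempty ↥(Spec (CommRingCat.of L)))
    haveI : Subsingleton ↥(fldObj k kb).left :=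
      inferInstanceAs (Subsingleton ↥(Spec (CommRingCat.of kb)))
    exact ⟨fun x => ⟨Classical.arbitrary _, Subsingleton.elim _ _⟩⟩
  exact surjective_points_prod_map X (fldMap k kb L)

theorem isQuotientMap_points_prod_map {X : Sp (Spec (CommRingCat.of k))} (hX : IsAlgSpace X)
    (kb L : Type u) [Field kb] [Field L] [Algebra k kb] [Algebra k L] [Algebra kb L]
    [IsScalarTower k kb L] :
    IsQuotientMap (Points.map
      (prod.map (𝟙 X) ((yon (Spec (CommRingCat.of k))).map (fldMap k kb L)))) :=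
  IsOpenMap.isQuotientMap (isOpenMap_points_prod_map k hX kb L) (Points.continuous_map _)
    (surjective_points_prod_map_fld k X kb L)

/-- The fibres of `|X_K| → |X_E|` are orbits under the automorphisms of `K` fixing `E`. -/
theorem exists_galois_conj_rel (X : Sp (Spec (CommRingCat.of k))) (K : Type u) [Field K] [Algebra k K]
    [Normal k K] (E : IntermediateField k K)
    (z z' : Points (X ⨯ (yon (Spec (CommRingCat.of k))).obj (fldObj k K)))
    (h : Points.map (prod.map (𝟙 X) ((yon _).map (fldMap k ↥E K))) z =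
      Points.map (prod.map (𝟙 X) ((yon _).map (fldMap k ↥E K))) z') :
    ∃ σ : K ≃ₐ[k] K, (∀ a : K, a ∈ E → σ a = a) ∧
      Points.map (prod.map (𝟙 X) ((yon _).map (galObjMap k K σ))) z = z' := by
  induction z using Points.ind with
  | h p =>
  induction z' using Points.ind with
  | h p' =>
  rw [Points.map_mk, Points.map_mk, Points.mk_eq_mk_iff, rel_iff_toHom] at h
  obtain ⟨Ω, _, w, c₀, c₀', hcc⟩ := h
  rw [FieldPt.toHom_map, FieldPt.toHom_map] at hcc
  obtain ⟨c, rfl⟩ : ∃ c : Over.mk w ⟶ p.pt, c = c₀ := ⟨c₀, rfl⟩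
  obtain ⟨c', rfl⟩ : ∃ c' : Over.mk w ⟶ p'.pt, c' = c₀' := ⟨c₀', rfl⟩
  have hcc' : (yon (Spec (CommRingCat.of k))).map c ≫ p.toHom ≫
        prod.map (𝟙 X) ((yon _).map (fldMap k ↥E K)) =
      (yon (Spec (CommRingCat.of k))).map c' ≫ p'.toHom ≫
        prod.map (𝟙 X) ((yon _).map (fldMap k ↥E K)) := hcc
  have hfst : ((yon (Spec (CommRingCat.of k))).map c ≫ p.toHom) ≫ prod.fst =
      ((yon (Spec (CommRingCat.of k))).map c' ≫ p'.toHom) ≫ prod.fst := by
    have := congrArg (· ≫ prod.fst) hcc'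
    simpa only [Category.assoc, prod.map_fst, Category.comp_id] using this
  obtain ⟨β, hβ⟩ := (yon (Spec (CommRingCat.of k))).map_surjective
    (((yon _).map c ≫ p.toHom) ≫ prod.snd)
  obtain ⟨β', hβ'⟩ := (yon (Spec (CommRingCat.of k))).map_surjective
    (((yon _).map c' ≫ p'.toHom) ≫ prod.snd)
  have hsnd : β ≫ fldMap k ↥E K = β' ≫ fldMap k ↥E K := by
    apply (yon (Spec (CommRingCat.of k))).map_injective
    rw [Functor.map_comp, Functor.map_comp, hβ, hβ']
    have := congrArg (· ≫ prod.snd) hcc'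
    simpa only [Category.assoc, prod.map_snd] using this
  obtain ⟨φ, hφ⟩ : ∃ φ : K →+* Ω, Spec.map (CommRingCat.ofHom φ) = β.left :=
    ⟨(Spec.preimage β.left).hom, by rw [CommRingCat.ofHom_hom, Spec.map_preimage]⟩
  obtain ⟨φ', hφ'⟩ : ∃ φ' : K →+* Ω, Spec.map (CommRingCat.ofHom φ') = β'.left :=
    ⟨(Spec.preimage β'.left).hom, by rw [CommRingCat.ofHom_hom, Spec.map_preimage]⟩
  have hw : β.left ≫ Spec.map (CommRingCat.ofHom (algebraMap ↥E K)) =
      β'.left ≫ Spec.map (CommRingCat.ofHom (algebraMap ↥E K)) := by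
    have := congrArg (fun f => f.left) hsnd
    exact this
  have hcomp : φ.comp (algebraMap ↥E K) = φ'.comp (algebraMap ↥E K) := by
    rw [← hφ, ← hφ', ← Spec.map_comp, ← Spec.map_comp, ← CommRingCat.ofHom_comp,
      ← CommRingCat.ofHom_comp] at hw
    have := Spec.map_injective hw
    exact congrArg CommRingCat.Hom.hom this
  haveI : Normal ↥E K := Normal.tower_top_of_normal k ↥E K
  letI algK : Algebra K Ω := φ.toAlgebra
  letI algE : Algebra ↥E Ω := (φ.comp (algebraMap ↥E K)).toAlgebra
  haveI ist := IsScalarTower.of_algebraMap_eq (R := ↥E) (S := K) (A := Ω) (fun x => rfl)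
  let ψ : K →ₐ[↥E] Ω := { φ' with commutes' := fun x => (RingHom.congr_fun hcomp x).symm }
  obtain ⟨σE, hσE⟩ : ∃ σE : K ≃ₐ[↥E] K,
      (IsScalarTower.toAlgHom ↥E K Ω).comp (σE : K →ₐ[↥E] K) = ψ :=
    ⟨Normal.algHomEquivAut ↥E Ω K ψ, by
      rw [← Normal.algHomEquivAut_symm_apply, Equiv.symm_apply_apply]⟩
  have hφσ : φ.comp (σE.restrictScalars k : K ≃ₐ[k] K).toRingHom = φ' := by
    ext x
    have := AlgHom.congr_fun hσE x
    exact this
  refine ⟨σE.restrictScalars k, fun a ha => ?_, ?_⟩
  · exact σE.commutes ⟨a, ha⟩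
  rw [← mk_fieldPtOfHom_comp p Ω w c, ← mk_fieldPtOfHom_comp p' Ω w c', Points.map_mk, fieldPtOfHom_map]
  congr 2
  apply Limits.prod.hom_ext
  · rw [Category.assoc, prod.map_fst, Category.comp_id]
    exact hfst
  · rw [Category.assoc, prod.map_snd, ← Category.assoc, ← hβ, ← hβ', ← Functor.map_comp]
    congr 1
    apply Over.OverMorphism.ext
    rw [Over.comp_left, galObjMap_left, ← hφ, ← hφ', ← Spec.map_comp, ← CommRingCat.ofHom_comp, hφσ]

/-- A subset of `|X_K|` stable under the automorphisms fixing `E` is saturated for `|X_K| → |X_E|`. -/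
theorem preimage_image_prod_map_eq_of_stable (X : Sp (Spec (CommRingCat.of k))) (K : Type u) [Field K]
    [Algebra k K] [Normal k K] (E : IntermediateField k K)
    (T : Set (Points (X ⨯ (yon (Spec (CommRingCat.of k))).obj (fldObj k K))))
    (hσ : ∀ σ : K ≃ₐ[k] K, (∀ a : K, a ∈ E → σ a = a) →
      Points.map (prod.map (𝟙 X) ((yon _).map (galObjMap k K σ))) '' T ⊆ T) :
    Points.map (prod.map (𝟙 X) ((yon _).map (fldMap k ↥E K))) ⁻¹'
      (Points.map (prod.map (𝟙 X) ((yon _).map (fldMap k ↥E K))) '' T) = T := by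
  apply Set.Subset.antisymm
  · rintro z' ⟨z, hz, hzz'⟩
    obtain ⟨σ, hσE, rfl⟩ := exists_galois_conj_rel k X K E z z' hzz'
    exact hσ σ hσE ⟨z, hz, rfl⟩
  · exact Set.subset_preimage_image _ _

end Groth.Agent.Lib.Helper16.GeomConn
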