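import Mathlib
import Groth.Agent.Lib.Helper16.GeomConnGal

/-!
# Helper library (helper16): geometric connectedness can be tested on finite separable extensions
-/

set_option autoImplicit false
set_option linter.style.haveILetI false
universe u
open CategoryTheory CategoryTheory.Limits AlgebraicGeometry Opposite Topology

namespace Groth.Agent.Lib.Helper16.GeomConn

open AlgSp Groth.Agent.Lib.Helper16 Groth.Agent.Lib.Helper16.FibreEmb

variable (k : Type u) [Field k]

theorem galObjMap_one (K : Type u) [Field K] [Algebra k K] :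
    galObjMap k K 1 = 𝟙 (fldObj k K) := by
  apply Over.OverMorphism.ext
  rw [galObjMap_left, Over.id_left]
  have h1 : ((1 : K ≃ₐ[k] K) : K ≃ₐ[k] K).toRingHom = RingHom.id K := rfl
  rw [h1, CommRingCat.ofHom_id]
  exact Spec.map_id _

theorem galObjMap_mul (K : Type u) [Field K] [Algebra k K] (σ τ : K ≃ₐ[k] K) :
    galObjMap k K (σ * τ) = galObjMap k K σ ≫ galObjMap k K τ := by
  apply Over.OverMorphism.ext
  rw [Over.comp_left, galObjMap_left, galObjMap_left, galObjMap_left, ← Spec.map_comp,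
    ← CommRingCat.ofHom_comp]
  rfl

/-- The action of a `k`-automorphism of `K` on the points of `X_K`. -/
noncomputable abbrev gAct (X : Sp (Spec (CommRingCat.of k))) (K : Type u) [Field K] [Algebra k K]
    (σ : K ≃ₐ[k] K) :
    Points (X ⨯ (yon (Spec (CommRingCat.of k))).obj (fldObj k K)) →
      Points (X ⨯ (yon (Spec (CommRingCat.of k))).obj (fldObj k K)) :=
  Points.map (prod.map (𝟙 X) ((yon _).map (galObjMap k K σ)))

theorem gAct_one (X : Sp (Spec (CommRingCat.of k))) (K : Type u) [Field K] [Algebra k K]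
    (z : Points (X ⨯ (yon (Spec (CommRingCat.of k))).obj (fldObj k K))) :
    gAct k X K 1 z = z := by
  show Points.map (prod.map (𝟙 X) ((yon _).map (galObjMap k K 1))) z = z
  rw [galObjMap_one, CategoryTheory.Functor.map_id, prod.map_id_id, Points.map_id]

theorem gAct_mul (X : Sp (Spec (CommRingCat.of k))) (K : Type u) [Field K] [Algebra k K]
    (σ τ : K ≃ₐ[k] K) (z : Points (X ⨯ (yon (Spec (CommRingCat.of k))).obj (fldObj k K))) :
    gAct k X K (σ * τ) z = gAct k X K τ (gAct k X K σ z) := by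
  show Points.map (prod.map (𝟙 X) ((yon _).map (galObjMap k K (σ * τ)))) z =
    Points.map (prod.map (𝟙 X) ((yon _).map (galObjMap k K τ)))
      (Points.map (prod.map (𝟙 X) ((yon _).map (galObjMap k K σ))) z)
  rw [galObjMap_mul, CategoryTheory.Functor.map_comp, prod.map_id_comp, Points.map_comp]

/-- Every point of `|X_K|` has a quasi-compact open neighbourhood stable under the Galois action. -/
theorem exists_stable_compact_open_nhd {X : Sp (Spec (CommRingCat.of k))} (hX : IsAlgSpace X)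
    (K : Type u) [Field K] [Algebra k K]
    (z : Points (X ⨯ (yon (Spec (CommRingCat.of k))).obj (fldObj k K))) :
    ∃ N : Set (Points (X ⨯ (yon (Spec (CommRingCat.of k))).obj (fldObj k K))),
      IsOpen N ∧ IsCompact N ∧ z ∈ N ∧
      ∀ (σ : K ≃ₐ[k] K) (y : Points (X ⨯ (yon (Spec (CommRingCat.of k))).obj (fldObj k K))),
        y ∈ N → gAct k X K σ y ∈ N := by
  obtain ⟨U, θ, hθc, hθo, hθs, hθeq⟩ := exists_atlas_bc k hX K
  obtain ⟨w, rfl⟩ := hθs z
  obtain ⟨W₀, hW₀, hwW₀, -⟩ := exists_isAffineOpen_mem_and_subset (X := U.left)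
    (x := (pullback.fst U.hom (fldObj k K).hom).base w) (U := ⊤) trivial
  haveI : IsAffine (fldObj k K).left := inferInstanceAs (IsAffine (Spec (CommRingCat.of K)))
  haveI : IsAffineHom (fldObj k K).hom := isAffineHom_of_isAffine _
  haveI : IsAffineHom (pullback.fst U.hom (fldObj k K).hom) :=
    MorphismProperty.pullback_fst (P := @IsAffineHom) _ _ inferInstance
  have hW : IsAffineOpen ((pullback.fst U.hom (fldObj k K).hom) ⁻¹ᵁ W₀) := hW₀.preimage _
  refine ⟨θ '' ((pullback.fst U.hom (fldObj k K).hom) ⁻¹ᵁ W₀ : Set _),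
    hθo _ (TopologicalSpace.Opens.isOpen _), hW.isCompact.image hθc, ⟨w, hwW₀, rfl⟩, ?_⟩
  rintro σ _ ⟨w', hw', rfl⟩
  refine ⟨(bcAct k U K σ).base w', ?_, hθeq σ w'⟩
  have hfst : bcAct k U K σ ≫ pullback.fst U.hom (fldObj k K).hom =
      pullback.fst U.hom (fldObj k K).hom := by
    unfold bcAct pullback.map
    rw [pullback.lift_fst, Category.comp_id]
  show (pullback.fst U.hom (fldObj k K).hom).base ((bcAct k U K σ).base w') ∈ W₀
  have h2 : (pullback.fst U.hom (fldObj k K).hom).base ((bcAct k U K σ).base w') =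
      (pullback.fst U.hom (fldObj k K).hom).base w' := by
    have := congrArg (fun f => f.base w') hfst
    simpa only [Scheme.Hom.comp_base, TopCat.comp_app] using this
  rw [h2]
  exact hw'

/-- If `X_E` is connected for every finite subextension `E` of a Galois extension `K/k`, then `X_K`
is connected. -/
theorem connectedSpace_of_finite_subextensions {X : Sp (Spec (CommRingCat.of k))} (hX : IsAlgSpace X)
    (K : Type u) [Field K] [Algebra k K] [IsGalois k K]
    (h : ∀ E : IntermediateField k K, FiniteDimensional k ↥E →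
      ConnectedSpace (Points (X ⨯ (yon (Spec (CommRingCat.of k))).obj (fldObj k ↥E)))) :
    ConnectedSpace (Points (X ⨯ (yon (Spec (CommRingCat.of k))).obj (fldObj k K))) := by
  classical
  have hne : Nonempty (Points (X ⨯ (yon (Spec (CommRingCat.of k))).obj (fldObj k K))) := by
    haveI := h ⊥ inferInstance
    obtain ⟨y⟩ := (inferInstance : Nonempty (Points (X ⨯ (yon (Spec (CommRingCat.of k))).obj
      (fldObj k ↥(⊥ : IntermediateField k K)))))
    obtain ⟨z, -⟩ := surjective_points_prod_map_fld k X ↥(⊥ : IntermediateField k K) K y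
    exact ⟨z⟩
  haveI : PreconnectedSpace (Points (X ⨯ (yon (Spec (CommRingCat.of k))).obj (fldObj k K))) := by
    rw [preconnectedSpace_iff_clopen]
    intro T hT
    by_cases hTe : T = ∅
    · exact Or.inl hTe
    right
    obtain ⟨t, ht⟩ := Set.nonempty_iff_ne_empty.2 hTe
    obtain ⟨N, hNo, hNc, htN, hNs⟩ := exists_stable_compact_open_nhd k hX K t
    obtain ⟨E, hE, hEσ⟩ := exists_finite_subfield_stabilizing k hX K (T ∩ N) (hT.isOpen.inter hNo)
      (hNc.inter_left hT.isClosed)
    set Z : Set (Points (X ⨯ (yon (Spec (CommRingCat.of k))).obj (fldObj k K))) :=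
      {z | ∀ σ : K ≃ₐ[k] K, (∀ a : K, a ∈ E → σ a = a) → gAct k X K σ z ∈ T} with hZ
    have htZ : t ∈ Z := fun σ hσ => by
      have h1 : gAct k X K σ t ∈ gAct k X K σ '' (T ∩ N) := ⟨t, ⟨ht, htN⟩, rfl⟩
      rw [hEσ σ hσ] at h1
      exact h1.1
    have hZT : Z ⊆ T := fun z hz => by
      have h1 := hz 1 (fun a _ => rfl)
      rwa [gAct_one] at h1
    have hZs : ∀ τ : K ≃ₐ[k] K, (∀ a : K, a ∈ E → τ a = a) → gAct k X K τ '' Z ⊆ Z := by
      rintro τ hτ _ ⟨z, hz, rfl⟩ σ hσ
      rw [← gAct_mul]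
      exact hz (τ * σ) (fun a ha => by rw [AlgEquiv.mul_apply, hσ a ha, hτ a ha])
    have hZc : IsClosed Z := by
      have h1 : Z = ⋂ σ : {σ : K ≃ₐ[k] K // ∀ a : K, a ∈ E → σ a = a}, gAct k X K σ.1 ⁻¹' T := by
        ext z
        simp only [hZ, Set.mem_ofPred_eq, Set.mem_iInter, Set.mem_preimage, Subtype.forall]
      rw [h1]
      exact isClosed_iInter fun σ => hT.isClosed.preimage (Points.continuous_map _)
    have hZo : IsOpen Z := by
      rw [isOpen_iff_forall_mem_open]
      intro z hz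
      obtain ⟨Nz, hNzo, hNzc, hzNz, hNzs⟩ := exists_stable_compact_open_nhd k hX K z
      obtain ⟨Ez, hEz, hEzσ⟩ := exists_finite_subfield_stabilizing k hX K (T ∩ Nz)
        (hT.isOpen.inter hNzo) (hNzc.inter_left hT.isClosed)
      have key : ∀ (σ τ : K ≃ₐ[k] K), (∀ a : K, a ∈ Ez → σ a = τ a) →
          ∀ y ∈ Nz, gAct k X K σ y ∈ T → gAct k X K τ y ∈ T := by
        intro σ τ hστ y hy hσy
        have hρ : ∀ a : K, a ∈ Ez → (σ⁻¹ * τ) a = a := fun a ha => by
          rw [AlgEquiv.mul_apply, ← hστ a ha, AlgEquiv.aut_inv, AlgEquiv.symm_apply_apply]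
        have h1 : gAct k X K τ y = gAct k X K (σ⁻¹ * τ) (gAct k X K σ y) := by
          rw [← gAct_mul, mul_inv_cancel_left]
        rw [h1]
        have h2 : gAct k X K (σ⁻¹ * τ) (gAct k X K σ y) ∈ gAct k X K (σ⁻¹ * τ) '' (T ∩ Nz) :=
          ⟨_, ⟨hσy, hNzs σ y hy⟩, rfl⟩
        rw [hEzσ _ hρ] at h2
        exact h2.1
      haveI : FiniteDimensional k ↥Ez := hEz
      let R : {σ : K ≃ₐ[k] K // ∀ a : K, a ∈ E → σ a = a} → (↥Ez →ₐ[k] K) :=
        fun σ => (σ.1 : K →ₐ[k] K).comp Ez.val
      haveI : Finite (Set.range R) := inferInstance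
      refine ⟨Nz ∩ ⋂ f : Set.range R, gAct k X K (f.2.choose).1 ⁻¹' T, ?_, ?_, ?_⟩
      · rintro y ⟨hyN, hy⟩ σ hσ
        have hf : R ⟨σ, hσ⟩ ∈ Set.range R := ⟨_, rfl⟩
        have hy' : gAct k X K (hf.choose).1 y ∈ T := Set.mem_iInter.1 hy ⟨_, hf⟩
        refine key (hf.choose).1 σ (fun a ha => ?_) y hyN hy'
        have h3 := AlgHom.congr_fun hf.choose_spec ⟨a, ha⟩
        exact h3
      · exact hNzo.inter (isOpen_iInter_of_finite fun f =>
          hT.isOpen.preimage (Points.continuous_map _))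
      · exact ⟨hzNz, Set.mem_iInter.2 fun f => hz _ (f.2.choose).2⟩
    have hsat := preimage_image_prod_map_eq_of_stable k X K E Z hZs
    haveI := h E hE
    have hq := isQuotientMap_points_prod_map k hX ↥E K
    have hclopen : IsClopen (Points.map (prod.map (𝟙 X) ((yon _).map (fldMap k ↥E K))) '' Z) :=
      ⟨hq.isClosed_preimage.1 (by rw [hsat]; exact hZc), hq.isOpen_preimage.1 (by rw [hsat]; exact hZo)⟩
    have huniv : Points.map (prod.map (𝟙 X) ((yon _).map (fldMap k ↥E K))) '' Z = Set.univ :=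
      hclopen.eq_univ ⟨_, ⟨t, htZ, rfl⟩⟩
    have hZu : Z = Set.univ := by rw [← hsat, huniv, Set.preimage_univ]
    exact Set.eq_univ_of_univ_subset (hZu ▸ hZT)
  exact ⟨hne⟩

end Groth.Agent.Lib.Helper16.GeomConn
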