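import Mathlib
import Groth.Agent.Lib.Helper16.Charts
import Groth.Agent.Lib.Helper16.Points
import Groth.Agent.Lib.Helper16.Rep
import Groth.Agent.Lib.Helper16.GeomConn
import Groth.Agent.S9868
import Groth.Agent.S9869
import Groth.Agent.S10469

/-!
# Helper library (helper16): comparing an algebraic space over a field point of `S` (a space over `S` with a
map to `h_{Spec κ}`) with an algebraic space over `Spec κ` having the same presentation; connectedness of
base changes to field extensions agrees.  Application: relative form of "geometrically connected iff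
connected after all finite separable extensions".
-/

set_option autoImplicit false
set_option linter.style.haveILetI false
universe u
open CategoryTheory CategoryTheory.Limits AlgebraicGeometry Opposite Topology

namespace Groth.Agent.Lib.Helper16.RelAbs

open AlgSp Groth.Agent.Lib.Helper16 Groth.Agent.Lib.Helper16.GeomConn

section General

variable {S : Scheme.{u}}

/-- kernel of the map on points of a chart, in terms of field-valued points -/
theorem ofPt_eq_iff {F : Sp S} {U : Over S} (a : (yon S).obj U ⟶ F) (u u' : ↥U.left) :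
    Points.ofPt a u = Points.ofPt a u' ↔
      ∃ (Ω : Type u) (_ : Field Ω) (w : Spec (CommRingCat.of Ω) ⟶ S) (x y : Over.mk w ⟶ U),
        x.left (IsLocalRing.closedPoint Ω) = u ∧ y.left (IsLocalRing.closedPoint Ω) = u' ∧
          (yon S).map x ≫ a = (yon S).map y ≫ a := by
  constructor
  · intro h
    have h' : Points.mk (FieldPt.ofPt a u) = Points.mk (FieldPt.ofPt a u') := h
    rw [Points.mk_eq_mk_iff, rel_iff_toHom] at h'
    obtain ⟨Ω, hΩ, w, c, c', hcc⟩ := h'
    rw [FieldPt.toHom_ofPt, FieldPt.toHom_ofPt, ← Category.assoc, ← Category.assoc,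
      ← Functor.map_comp, ← Functor.map_comp] at hcc
    refine ⟨Ω, hΩ, w, c ≫ Over.homMk (U.left.fromSpecResidueField u) rfl,
      c' ≫ Over.homMk (U.left.fromSpecResidueField u') rfl, ?_, ?_, hcc⟩
    · show (c.left ≫ U.left.fromSpecResidueField u) _ = u
      rw [Scheme.Hom.comp_apply]
      exact Scheme.fromSpecResidueField_apply _ _
    · show (c'.left ≫ U.left.fromSpecResidueField u') _ = u'
      rw [Scheme.Hom.comp_apply]
      exact Scheme.fromSpecResidueField_apply _ _
  · rintro ⟨Ω, _, w, x, y, rfl, rfl, hxy⟩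
    rw [← ofPt_yon_map_comp x a, ← ofPt_yon_map_comp y a, hxy]

/-- transfer of connectedness between two spaces having charts with the same kernel on points -/
theorem connectedSpace_transfer {S' : Scheme.{u}} {F : Sp S} {F' : Sp S'} {U : Over S} {U' : Over S'}
    (a : (yon S).obj U ⟶ F) (hae : RepWith @Etale a) (has : RepWith @Surjective a)
    (a' : (yon S').obj U' ⟶ F') (has' : RepWith @Surjective a')
    (φ : ↥U.left → ↥U'.left) (hφc : Continuous φ) (hφs : Function.Surjective φ)
    (hrel : ∀ u u', Points.ofPt a u = Points.ofPt a u' →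
      Points.ofPt a' (φ u) = Points.ofPt a' (φ u'))
    (hc : ConnectedSpace (Points F)) : ConnectedSpace (Points F') := by
  let f : C(↥U.left, Points F) := ⟨Points.ofPt a, Points.continuous_ofPt a⟩
  have hq : IsQuotientMap f :=
    (isOpenMap_ofPt_of_etale a hae).isQuotientMap (Points.continuous_ofPt a)
      (ofPt_surjective_of_surjective a has)
  let g : C(↥U.left, Points F') :=
    ⟨fun u => Points.ofPt a' (φ u), (Points.continuous_ofPt a').comp hφc⟩
  have hfac : Function.FactorsThrough g f := fun u u' h => hrel u u' h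
  have hsurj : Function.Surjective (hq.lift g hfac) := by
    intro y
    obtain ⟨u', rfl⟩ := ofPt_surjective_of_surjective a' has' y
    obtain ⟨u, rfl⟩ := hφs u'
    refine ⟨Points.ofPt a u, ?_⟩
    have := DFunLike.congr_fun (hq.lift_comp g hfac) u
    exact this
  exact hsurj.connectedSpace (hq.lift g hfac).continuous

/-- fibre product of schemes over `S` -/
noncomputable abbrev ovPb {U V V' : Over S} (g : U ⟶ V) (m : V' ⟶ V) : Over S :=
  Over.mk (pullback.snd g.left m.left ≫ V'.hom)

noncomputable abbrev ovSnd {U V V' : Over S} (g : U ⟶ V) (m : V' ⟶ V) : ovPb g m ⟶ V' :=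
  Over.homMk (pullback.snd g.left m.left) rfl

noncomputable abbrev ovFst {U V V' : Over S} (g : U ⟶ V) (m : V' ⟶ V) : ovPb g m ⟶ U :=
  Over.homMk (pullback.fst g.left m.left) (by
    show pullback.fst g.left m.left ≫ U.hom = pullback.snd g.left m.left ≫ V'.hom
    rw [← Over.w g, ← Over.w m, ← Category.assoc, ← Category.assoc, pullback.condition])

theorem isPullback_ovPb {U V V' : Over S} (g : U ⟶ V) (m : V' ⟶ V) :
    IsPullback (ovFst g m) (ovSnd g m) g m :=
  IsPullback.of_map (Over.forget S) (Over.OverMorphism.ext pullback.condition)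
    (IsPullback.of_hasPullback g.left m.left)

/-- base change of a chart along a morphism of representable targets -/
theorem exists_chart_bc {Z ZE : Sp S} {V V' U : Over S} (pZ : Z ⟶ (yon S).obj V) (m : V' ⟶ V)
    (π : ZE ⟶ Z) (q : ZE ⟶ (yon S).obj V') (sq : IsPullback π q pZ ((yon S).map m))
    (a : (yon S).obj U ⟶ Z) (g : U ⟶ V) (hg : (yon S).map g = a ≫ pZ) :
    ∃ aE : (yon S).obj (ovPb g m) ⟶ ZE, aE ≫ π = (yon S).map (ovFst g m) ≫ a ∧
      aE ≫ q = (yon S).map (ovSnd g m) ∧ (RepWith @Etale a → RepWith @Etale aE) ∧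
      (RepWith @Surjective a → RepWith @Surjective aE) := by
  have hcond : ((yon S).map (ovFst g m) ≫ a) ≫ pZ = (yon S).map (ovSnd g m) ≫ (yon S).map m := by
    rw [Category.assoc, ← hg, ← Functor.map_comp, ← Functor.map_comp, (isPullback_ovPb g m).w]
  have h1 : sq.lift _ _ hcond ≫ π = (yon S).map (ovFst g m) ≫ a := sq.lift_fst _ _ _
  have h2 : sq.lift _ _ hcond ≫ q = (yon S).map (ovSnd g m) := sq.lift_snd _ _ _
  have sqY := (isPullback_ovPb g m).map (yon S)
  have sqB : IsPullback (sq.lift _ _ hcond) ((yon S).map (ovFst g m)) π a := by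
    refine IsPullback.of_right ?_ h1 sq.flip
    rw [h2, ← hg]
    exact sqY.flip
  exact ⟨sq.lift _ _ hcond, h1, h2,
    fun h => MorphismProperty.of_isPullback (P := RepWith (S := S) @Etale) sqB.flip h,
    fun h => MorphismProperty.of_isPullback (P := RepWith (S := S) @AlgebraicGeometry.Surjective)
      sqB.flip h⟩

theorem rel_iff_of_isPullback' {F : Sp S} {R U : Over S} (s t : R ⟶ U) (p : (yon S).obj U ⟶ F)
    (sq : IsPullback ((yon S).map t) ((yon S).map s) p p) {T : Over S} (x y : T ⟶ U) :
    (yon S).map x ≫ p = (yon S).map y ≫ p ↔ ∃ r : T ⟶ R, r ≫ t = x ∧ r ≫ s = y := by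
  constructor
  · intro h
    obtain ⟨r, hr⟩ := (yon S).map_surjective (sq.lift _ _ h)
    refine ⟨r, (yon S).map_injective ?_, (yon S).map_injective ?_⟩
    · rw [Functor.map_comp, hr, sq.lift_fst]
    · rw [Functor.map_comp, hr, sq.lift_snd]
  · rintro ⟨r, rfl, rfl⟩
    rw [Functor.map_comp, Functor.map_comp, Category.assoc, Category.assoc, sq.w]

/-- the kernel on points of a base-changed chart, in scheme-level terms -/
theorem ofPt_chart_bc_eq_iff {Z ZE : Sp S} {V V' U R UE : Over S} (pZ : Z ⟶ (yon S).obj V)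
    (m : V' ⟶ V) (π : ZE ⟶ Z) (q : ZE ⟶ (yon S).obj V') (sq : IsPullback π q pZ ((yon S).map m))
    (a : (yon S).obj U ⟶ Z) (s t : R ⟶ U)
    (sqR : IsPullback ((yon S).map t) ((yon S).map s) a a)
    (fE : UE ⟶ U) (sE : UE ⟶ V') (aE : (yon S).obj UE ⟶ ZE)
    (h1 : aE ≫ π = (yon S).map fE ≫ a) (h2 : aE ≫ q = (yon S).map sE) (u u' : ↥UE.left) :
    Points.ofPt aE u = Points.ofPt aE u' ↔
      ∃ (Ω : Type u) (_ : Field Ω) (x y : Spec (CommRingCat.of Ω) ⟶ UE.left)
        (r : Spec (CommRingCat.of Ω) ⟶ R.left),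
        x (IsLocalRing.closedPoint Ω) = u ∧ y (IsLocalRing.closedPoint Ω) = u' ∧
        x ≫ sE.left = y ≫ sE.left ∧ r ≫ t.left = x ≫ fE.left ∧ r ≫ s.left = y ≫ fE.left := by
  rw [ofPt_eq_iff]
  constructor
  · rintro ⟨Ω, hΩ, w, x, y, hx, hy, hxy⟩
    have e1 : (yon S).map (x ≫ fE) ≫ a = (yon S).map (y ≫ fE) ≫ a := by
      rw [Functor.map_comp, Functor.map_comp, Category.assoc, Category.assoc, ← h1,
        ← Category.assoc, ← Category.assoc, hxy]
    have e2 : x ≫ sE = y ≫ sE := by
      apply (yon S).map_injective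
      rw [Functor.map_comp, Functor.map_comp, ← h2, ← Category.assoc, ← Category.assoc, hxy]
    obtain ⟨r, hr1, hr2⟩ := (rel_iff_of_isPullback' s t a sqR (x ≫ fE) (y ≫ fE)).1 e1
    exact ⟨Ω, hΩ, x.left, y.left, r.left, hx, hy, congrArg (·.left) e2, congrArg (·.left) hr1,
      congrArg (·.left) hr2⟩
  · rintro ⟨Ω, hΩ, x, y, r, hx, hy, hs, hr1, hr2⟩
    have hyw : y ≫ UE.hom = x ≫ UE.hom := by
      rw [← Over.w sE, ← Category.assoc, ← Category.assoc, hs]
    have hrw : r ≫ R.hom = x ≫ UE.hom := by
      rw [← Over.w t, ← Category.assoc, hr1, Category.assoc, Over.w fE]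
    refine ⟨Ω, hΩ, x ≫ UE.hom, Over.homMk x rfl, Over.homMk y hyw, hx, hy, ?_⟩
    apply sq.hom_ext
    · rw [Category.assoc, Category.assoc, h1, ← Category.assoc, ← Category.assoc,
        ← Functor.map_comp, ← Functor.map_comp]
      exact (rel_iff_of_isPullback' s t a sqR _ _).2
        ⟨Over.homMk r hrw, Over.OverMorphism.ext hr1, Over.OverMorphism.ext hr2⟩
    · rw [Category.assoc, Category.assoc, h2, ← Functor.map_comp, ← Functor.map_comp]
      congr 1
      exact Over.OverMorphism.ext hs

end General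

section Model

variable {S : Scheme.{u}}

/-- An algebraic space over `S` lying over a field point `Spec κ ⟶ S` has a model over `Spec κ` with the
same presentation. -/
theorem exists_abs_model {Z : Sp S} (hZ : IsAlgSpace Z) (κ : Type u) [Field κ]
    (str : Spec (CommRingCat.of κ) ⟶ S) (pZ : Z ⟶ (yon S).obj (Over.mk str)) :
    ∃ (U R : Over S) (a : (yon S).obj U ⟶ Z) (s t : R ⟶ U) (pU : U ⟶ Over.mk str)
      (hw : s.left ≫ pU.left = t.left ≫ pU.left)
      (X' : Sp (Spec (CommRingCat.of κ)))
      (a' : (yon (Spec (CommRingCat.of κ))).obj (Over.mk pU.left) ⟶ X'),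
      RepWith @Etale a ∧ RepWith @Surjective a ∧
      IsPullback ((yon S).map t) ((yon S).map s) a a ∧
      (yon S).map pU = a ≫ pZ ∧ IsAlgSpace X' ∧ RepWith @Etale a' ∧ RepWith @Surjective a' ∧
      IsPullback
        ((yon (Spec (CommRingCat.of κ))).map
          (Over.homMk t.left rfl : Over.mk (t.left ≫ pU.left) ⟶ Over.mk pU.left))
        ((yon (Spec (CommRingCat.of κ))).map
          (Over.homMk s.left hw : Over.mk (t.left ≫ pU.left) ⟶ Over.mk pU.left)) a' a' := by
  obtain ⟨U, a, hae, has⟩ := hZ.atlas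
  obtain ⟨pU, hpU⟩ := (yon S).map_surjective (a ≫ pZ)
  obtain ⟨t₀, ht₀⟩ := (yon S).map_surjective (hae.rep.fst a)
  obtain ⟨R, s, t, sqR⟩ : ∃ (R : Over S) (s t : R ⟶ U),
      IsPullback ((yon S).map t) ((yon S).map s) a a :=
    ⟨_, hae.rep.snd a, t₀, by rw [ht₀]; exact hae.rep.isPullback a⟩
  have hse : Etale s.left := hae.property _ _ _ sqR
  have hte : Etale t.left := hae.property _ _ _ sqR.flip
  have hw' : s ≫ pU = t ≫ pU := by
    apply (yon S).map_injective
    rw [Functor.map_comp, Functor.map_comp, hpU, ← Category.assoc, ← Category.assoc, sqR.w]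
  have hw : s.left ≫ pU.left = t.left ≫ pU.left := congrArg (·.left) hw'
  have hUhom : pU.left ≫ str = U.hom := Over.w pU
  -- lifting of morphisms over `Spec κ` to morphisms over `S`
  have hliftw : ∀ {T : Over (Spec (CommRingCat.of κ))} (x : T ⟶ Over.mk pU.left),
      x.left ≫ U.hom = T.hom ≫ str := by
    intro T x
    rw [← hUhom, ← Category.assoc]
    exact congrArg (· ≫ str) (Over.w x)
  have key : ∀ (T : Over (Spec (CommRingCat.of κ))) (x y : T ⟶ Over.mk pU.left),
      (∃ r : T ⟶ Over.mk (t.left ≫ pU.left),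
        r ≫ (Over.homMk t.left rfl : Over.mk (t.left ≫ pU.left) ⟶ Over.mk pU.left) = x ∧
        r ≫ (Over.homMk s.left hw : Over.mk (t.left ≫ pU.left) ⟶ Over.mk pU.left) = y) ↔
      (yon S).map (Over.homMk x.left (hliftw x) : Over.mk (T.hom ≫ str) ⟶ U) ≫ a =
        (yon S).map (Over.homMk y.left (hliftw y) : Over.mk (T.hom ≫ str) ⟶ U) ≫ a := by
    intro T x y
    rw [rel_iff_of_isPullback' s t a sqR]
    constructor
    · rintro ⟨r, hr1, hr2⟩
      have hrw : r.left ≫ R.hom = T.hom ≫ str := by
        rw [← Over.w t, ← hUhom, ← Category.assoc, ← Category.assoc]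
        exact congrArg (· ≫ str) (Over.w r)
      exact ⟨Over.homMk r.left hrw, Over.OverMorphism.ext (congrArg (·.left) hr1),
        Over.OverMorphism.ext (congrArg (·.left) hr2)⟩
    · rintro ⟨r, hr1, hr2⟩
      have h1 : r.left ≫ t.left = x.left := congrArg (·.left) hr1
      have h2 : r.left ≫ s.left = y.left := congrArg (·.left) hr2
      have hrw : r.left ≫ t.left ≫ pU.left = T.hom := by
        rw [← Category.assoc, h1]
        exact Over.w x
      exact ⟨Over.homMk r.left hrw, Over.OverMorphism.ext h1, Over.OverMorphism.ext h2⟩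
  have hEq : IsEtaleEqvRel
      (Over.homMk s.left hw : Over.mk (t.left ≫ pU.left) ⟶ Over.mk pU.left)
      (Over.homMk t.left rfl : Over.mk (t.left ≫ pU.left) ⟶ Over.mk pU.left) := by
    refine ⟨⟨?_, ?_⟩, hse, hte⟩
    · intro T r r' h1 h2
      have hrw : ∀ ρ : T ⟶ Over.mk (t.left ≫ pU.left), ρ.left ≫ R.hom = T.hom ≫ str := by
        intro ρ
        rw [← Over.w t, ← hUhom, ← Category.assoc, ← Category.assoc]
        exact congrArg (· ≫ str) (Over.w ρ)
      have e : (Over.homMk r.left (hrw r) : Over.mk (T.hom ≫ str) ⟶ R) =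
          (Over.homMk r'.left (hrw r') : Over.mk (T.hom ≫ str) ⟶ R) := by
        apply (yon S).map_injective
        apply sqR.hom_ext
        · rw [← Functor.map_comp, ← Functor.map_comp]
          congr 1
          exact Over.OverMorphism.ext (congrArg (·.left) h1)
        · rw [← Functor.map_comp, ← Functor.map_comp]
          congr 1
          exact Over.OverMorphism.ext (congrArg (·.left) h2)
      have e' := congrArg CommaMorphism.left e
      exact Over.OverMorphism.ext e'
    · intro T
      exact ⟨fun x => (key T x x).2 rfl, fun {x y} h => (key T y x).2 ((key T x y).1 h).symm,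
        fun {x y z} h1 h2 => (key T x z).2 (((key T x y).1 h1).trans ((key T y z).1 h2))⟩
  have hX' := Groth.Agent.S9868.result (Spec (CommRingCat.of κ)) _ _ hEq
  have pres := Groth.Agent.S9869.result (Spec (CommRingCat.of κ)) _ _ hEq hX'
  exact ⟨U, R, a, s, t, pU, hw, _, _, hae, has, sqR, hpU, hX', pres.etale, pres.surjective,
    pres.isPullback⟩

/-- Connectedness of the base change to a field extension agrees for the space and its model. -/
theorem connectedSpace_iff_abs {Z : Sp S} (κ : Type u) [Field κ]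
    (str : Spec (CommRingCat.of κ) ⟶ S) (pZ : Z ⟶ (yon S).obj (Over.mk str))
    {U R : Over S} (a : (yon S).obj U ⟶ Z) (s t : R ⟶ U) (pU : U ⟶ Over.mk str)
    (hw : s.left ≫ pU.left = t.left ≫ pU.left)
    (X' : Sp (Spec (CommRingCat.of κ)))
    (a' : (yon (Spec (CommRingCat.of κ))).obj (Over.mk pU.left) ⟶ X')
    (hae : RepWith @Etale a) (has : RepWith @Surjective a)
    (sqR : IsPullback ((yon S).map t) ((yon S).map s) a a)
    (hpU : (yon S).map pU = a ≫ pZ) (hae' : RepWith @Etale a') (has' : RepWith @Surjective a')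
    (sqR' : IsPullback
        ((yon (Spec (CommRingCat.of κ))).map
          (Over.homMk t.left rfl : Over.mk (t.left ≫ pU.left) ⟶ Over.mk pU.left))
        ((yon (Spec (CommRingCat.of κ))).map
          (Over.homMk s.left hw : Over.mk (t.left ≫ pU.left) ⟶ Over.mk pU.left)) a' a')
    (E : Type u) [Field E] [Algebra κ E] {ZE : Sp S} (π : ZE ⟶ Z)
    (q : ZE ⟶ (yon S).obj (Over.mk (Spec.map (CommRingCat.ofHom (algebraMap κ E)) ≫ str)))
    (sq : IsPullback π q pZ ((yon S).map
      (Over.homMk (Spec.map (CommRingCat.ofHom (algebraMap κ E))) rfl :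
        Over.mk (Spec.map (CommRingCat.ofHom (algebraMap κ E)) ≫ str) ⟶ Over.mk str))) :
    ConnectedSpace (Points ZE) ↔
      ConnectedSpace (Points (X' ⨯ (yon (Spec (CommRingCat.of κ))).obj (fldObj κ E))) := by
  obtain ⟨m, hm⟩ : ∃ m : Over.mk (Spec.map (CommRingCat.ofHom (algebraMap κ E)) ≫ str) ⟶ Over.mk str,
      m = Over.homMk (Spec.map (CommRingCat.ofHom (algebraMap κ E))) rfl := ⟨_, rfl⟩
  rw [← hm] at sq
  obtain ⟨aE, h1, h2, he, hs⟩ := exists_chart_bc pZ m π q sq a pU hpU
  obtain ⟨g', hg'l⟩ : ∃ g' : Over.mk pU.left ⟶ Over.mk (𝟙 (Spec (CommRingCat.of κ))),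
      g' = (Over.homMk pU.left (Category.comp_id _) :
        Over.mk pU.left ⟶ Over.mk (𝟙 (Spec (CommRingCat.of κ)))) := ⟨_, rfl⟩
  obtain ⟨m', hm'l⟩ : ∃ m' : fldObj κ E ⟶ Over.mk (𝟙 (Spec (CommRingCat.of κ))),
      m' = (Over.homMk (Spec.map (CommRingCat.ofHom (algebraMap κ E))) (Category.comp_id _) :
        fldObj κ E ⟶ Over.mk (𝟙 (Spec (CommRingCat.of κ)))) :=
    ⟨_, rfl⟩
  have sq' : IsPullback (prod.fst : X' ⨯ (yon (Spec (CommRingCat.of κ))).obj (fldObj κ E) ⟶ X')
      prod.snd (isTerminalOne.from X') ((yon (Spec (CommRingCat.of κ))).map m') := by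
    have h0 := isPullback_prod X' ((yon (Spec (CommRingCat.of κ))).obj (fldObj κ E))
    rwa [show isTerminalOne.from ((yon (Spec (CommRingCat.of κ))).obj (fldObj κ E)) =
      (yon (Spec (CommRingCat.of κ))).map m' from isTerminalOne.hom_ext _ _] at h0
  have hg' : (yon (Spec (CommRingCat.of κ))).map g' = a' ≫ isTerminalOne.from X' :=
    isTerminalOne.hom_ext _ _
  obtain ⟨aE', h1', h2', he', hs'⟩ := exists_chart_bc (isTerminalOne.from X') m' prod.fst prod.snd sq'
    a' g' hg'
  have GS := ofPt_chart_bc_eq_iff pZ m π q sq a s t sqR (ovFst pU m) (ovSnd pU m) aE h1 h2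
  have Gκ := ofPt_chart_bc_eq_iff (isTerminalOne.from X') m' prod.fst prod.snd sq' a' _ _ sqR'
    (ovFst g' m') (ovSnd g' m') aE' h1' h2'
  subst hm hg'l hm'l
  constructor
  · intro hc
    exact connectedSpace_transfer aE (he hae) (hs has) aE' (hs' has') (fun x => x) continuous_id
      Function.surjective_id (fun u u' h => (Gκ u u').2 ((GS u u').1 h)) hc
  · intro hc
    exact connectedSpace_transfer aE' (he' hae') (hs' has') aE (hs has) (fun x => x) continuous_id
      Function.surjective_id (fun u u' h => (GS u u').2 ((Gκ u u').1 h)) hc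

/-- Relative form of: geometrically connected iff connected after all finite separable extensions. -/
theorem connectedSpace_of_finite_separable {Z : Sp S} (hZ : IsAlgSpace Z) (κ : Type u) [Field κ]
    (str : Spec (CommRingCat.of κ) ⟶ S) (pZ : Z ⟶ (yon S).obj (Over.mk str))
    (hfin : ∀ (E : Type u) [Field E] [Algebra κ E], FiniteDimensional κ E →
      Algebra.IsSeparable κ E →
      ∃ (ZE : Sp S) (π : ZE ⟶ Z)
        (q : ZE ⟶ (yon S).obj (Over.mk (Spec.map (CommRingCat.ofHom (algebraMap κ E)) ≫ str))),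
        IsPullback π q pZ ((yon S).map
          (Over.homMk (Spec.map (CommRingCat.ofHom (algebraMap κ E))) rfl :
            Over.mk (Spec.map (CommRingCat.ofHom (algebraMap κ E)) ≫ str) ⟶ Over.mk str)) ∧
        ConnectedSpace (Points ZE))
    (K : Type u) [Field K] [Algebra κ K] {ZK : Sp S} (π : ZK ⟶ Z)
    (q : ZK ⟶ (yon S).obj (Over.mk (Spec.map (CommRingCat.ofHom (algebraMap κ K)) ≫ str)))
    (sq : IsPullback π q pZ ((yon S).map
      (Over.homMk (Spec.map (CommRingCat.ofHom (algebraMap κ K))) rfl :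
        Over.mk (Spec.map (CommRingCat.ofHom (algebraMap κ K)) ≫ str) ⟶ Over.mk str))) :
    ConnectedSpace (Points ZK) := by
  obtain ⟨U, R, a, s, t, pU, hw, X', a', hae, has, sqR, hpU, hX', hae', has', sqR'⟩ :=
    exists_abs_model hZ κ str pZ
  have habs : ∀ (k' : Type u) [Field k'] [Algebra κ k'], Module.Finite κ k' →
      Algebra.IsSeparable κ k' →
      ConnectedSpace (Points (X' ⨯ (yon (Spec (CommRingCat.of κ))).obj
        (Over.mk (Spec.map (CommRingCat.ofHom (algebraMap κ k')))))) := by
    intro E _ _ hfd hsep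
    obtain ⟨ZE, πE, qE, sqE, hc⟩ := hfin E hfd hsep
    exact (connectedSpace_iff_abs κ str pZ a s t pU hw X' a' hae has sqR hpU hae' has' sqR' E πE qE
      sqE).1 hc
  have hall := (Groth.Agent.S10469.result κ ⟨X', hX'⟩).2 habs K
  exact (connectedSpace_iff_abs κ str pZ a s t pU hw X' a' hae has sqR hpU hae' has' sqR' K π q
    sq).2 hall

end Model

end Groth.Agent.Lib.Helper16.RelAbs
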