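import Mathlib
import Groth.Agent.Lib.Helper16.RelAbs
import Groth.Agent.Lib.Helper16.GeomPoints
import Groth.Agent.Lib.Helper16.FibreProduct
import Groth.Agent.Lib.Helper11.EtaleNbhd

/-!
# Helper library (helper16): connectedness of a geometric fibre versus fibres over etale neighbourhoods
-/

set_option autoImplicit false
set_option linter.style.haveILetI false
universe u
open CategoryTheory CategoryTheory.Limits AlgebraicGeometry Opposite Topology

namespace Groth.Agent.Lib.Helper16.EtNbhdConn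

open AlgSp Groth.Agent.Lib.Helper16 Groth.Agent.Lib.Helper16.GeomConn

variable {S : Scheme.{u}}

/-- The fibre over a point through which a geometric point factors is connected when the geometric
fibre is. -/
theorem connectedSpace_fibre_of_geometric {X Y : Sp S} (f : X ⟶ Y) (yb : FieldPt Y)
    {Xyb : Sp S} (fst : Xyb ⟶ X) (snd : Xyb ⟶ (yon S).obj yb.pt)
    (h : IsPullback fst snd f yb.toHom) (hconn : ConnectedSpace (Points Xyb))
    (V : Over S) (a : (yon S).obj V ⟶ Y) (c : yb.pt ⟶ V) (hc : (yon S).map c ≫ a = yb.toHom)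
    {Xv : Sp S} (fst' : Xv ⟶ X)
    (snd' : Xv ⟶ (yon S).obj (Over.mk
      (V.left.fromSpecResidueField (c.left (IsLocalRing.closedPoint yb.K)) ≫ V.hom)))
    (sq' : IsPullback fst' snd' f ((yon S).map
      (Over.homMk (V.left.fromSpecResidueField (c.left (IsLocalRing.closedPoint yb.K))) rfl :
        Over.mk (V.left.fromSpecResidueField (c.left (IsLocalRing.closedPoint yb.K)) ≫ V.hom) ⟶ V)
      ≫ a)) :
    ConnectedSpace (Points Xv) := by
  have key := Scheme.descResidueField_stalkClosedPointTo_fromSpecResidueField yb.K V.left c.left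
  have hψw : Spec.map (V.left.descResidueField (K := yb.K) (Scheme.stalkClosedPointTo c.left)) ≫
      (V.left.fromSpecResidueField (c.left (IsLocalRing.closedPoint yb.K)) ≫ V.hom) = yb.str := by
    rw [← Category.assoc, key]
    exact Over.w c
  obtain ⟨ψ, hψ⟩ : ∃ ψ : yb.pt ⟶ Over.mk
      (V.left.fromSpecResidueField (c.left (IsLocalRing.closedPoint yb.K)) ≫ V.hom),
      ψ.left = Spec.map (V.left.descResidueField (K := yb.K) (Scheme.stalkClosedPointTo c.left)) :=
    ⟨Over.homMk _ hψw, rfl⟩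
  have hψc : ψ ≫ (Over.homMk
      (V.left.fromSpecResidueField (c.left (IsLocalRing.closedPoint yb.K))) rfl :
        Over.mk (V.left.fromSpecResidueField (c.left (IsLocalRing.closedPoint yb.K)) ≫ V.hom) ⟶ V)
      = c := by
    apply Over.OverMorphism.ext
    rw [Over.comp_left, hψ]
    exact key
  have hcond : fst ≫ f = (snd ≫ (yon S).map ψ) ≫ ((yon S).map
      (Over.homMk (V.left.fromSpecResidueField (c.left (IsLocalRing.closedPoint yb.K))) rfl :
        Over.mk (V.left.fromSpecResidueField (c.left (IsLocalRing.closedPoint yb.K)) ≫ V.hom) ⟶ V)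
      ≫ a) := by
    rw [Category.assoc, ← Category.assoc ((yon S).map ψ), ← Functor.map_comp, hψc, hc]
    exact h.w
  have hl1 : sq'.lift _ _ hcond ≫ fst' = fst := sq'.lift_fst _ _ _
  have hl2 : sq'.lift _ _ hcond ≫ snd' = snd ≫ (yon S).map ψ := sq'.lift_snd _ _ _
  have sqL : IsPullback (sq'.lift _ _ hcond) snd snd' ((yon S).map ψ) := by
    refine IsPullback.of_right ?_ hl2 sq'
    rw [hl1, ← Category.assoc, ← Functor.map_comp, hψc, hc]
    exact h
  have hsurjψ : RepWith @Surjective ((yon S).map ψ) := by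
    refine (repWith_yon_map_iff _ _).2 ?_
    haveI : Subsingleton ↥(Over.mk
        (V.left.fromSpecResidueField (c.left (IsLocalRing.closedPoint yb.K)) ≫ V.hom)).left :=
      inferInstanceAs (Subsingleton
        ↥(Spec (V.left.residueField (c.left (IsLocalRing.closedPoint yb.K)))))
    exact ⟨fun x => ⟨(IsLocalRing.closedPoint yb.K : ↥(Spec (CommRingCat.of yb.K))),
      Subsingleton.elim _ _⟩⟩
  have hsurjL : RepWith @Surjective (sq'.lift _ _ hcond) :=
    MorphismProperty.of_isPullback (P := RepWith (S := S) @AlgebraicGeometry.Surjective) sqL.flip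
      hsurjψ
  have hs := (repWith_surjective_iff _ hsurjL.rep).1 hsurjL
  exact hs.connectedSpace (Points.continuous_map _)

/-- core of the converse: given a lift of the geometric point to an etale chart -/
theorem connectedSpace_geometric_of_nbhds_core {X Y : Sp S} (hX : IsAlgSpace X) (hY : IsAlgSpace Y)
    (f : X ⟶ Y) (yb : FieldPt Y) [IsAlgClosed yb.K]
    {Xyb : Sp S} (fst : Xyb ⟶ X) (snd : Xyb ⟶ (yon S).obj yb.pt)
    (h : IsPullback fst snd f yb.toHom)
    (H : ∀ (V : Over S) (a : (yon S).obj V ⟶ Y), RepWith @Etale a →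
      ∀ (v : ↥V.left) (c : yb.pt ⟶ V), (yon S).map c ≫ a = yb.toHom →
        c.left (IsLocalRing.closedPoint yb.K) = v →
        ∀ (Xv : Sp S) (fst' : Xv ⟶ X)
          (snd' : Xv ⟶ (yon S).obj (Over.mk (V.left.fromSpecResidueField v ≫ V.hom))),
          IsPullback fst' snd' f ((yon S).map (Over.homMk (V.left.fromSpecResidueField v) rfl :
            Over.mk (V.left.fromSpecResidueField v ≫ V.hom) ⟶ V) ≫ a) →
          ConnectedSpace (Points Xv))
    (V₀ : Over S) (a₀ : (yon S).obj V₀ ⟶ Y) (hbe : RepWith @Etale a₀)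
    (c₀ : yb.pt ⟶ V₀) (hc₀ : (yon S).map c₀ ≫ a₀ = yb.toHom) (v₀ : ↥V₀.left)
    (ψ : V₀.left.residueField v₀ ⟶ CommRingCat.of yb.K)
    (key : Spec.map ψ ≫ V₀.left.fromSpecResidueField v₀ = c₀.left) :
    ConnectedSpace (Points Xyb) := by
  letI : Algebra ↥(V₀.left.residueField v₀) yb.K := ψ.hom.toAlgebra
  have key' : Spec.map (CommRingCat.ofHom (algebraMap ↥(V₀.left.residueField v₀) yb.K)) ≫
      V₀.left.fromSpecResidueField v₀ = c₀.left := key
  obtain ⟨ι, hι⟩ : ∃ ι : Over.mk (V₀.left.fromSpecResidueField v₀ ≫ V₀.hom) ⟶ V₀,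
      ι.left = V₀.left.fromSpecResidueField v₀ := ⟨Over.homMk _ rfl, rfl⟩
  obtain ⟨g₀, hg₀⟩ : ∃ g₀ : (yon S).obj (Over.mk (V₀.left.fromSpecResidueField v₀ ≫ V₀.hom)) ⟶ Y,
      g₀ = (yon S).map ι ≫ a₀ := ⟨_, rfl⟩
  have sqZ := IsPullback.of_hasPullback f g₀
  have hZ : IsAlgSpace (pullback f g₀) :=
    isAlgSpace_of_isPullback hX hY.diag (IsAlgSpace.yon_obj _) sqZ
  -- the hypothesis for finite separable extensions
  have hfin : ∀ (E : Type u) [Field E] [Algebra ↥(V₀.left.residueField v₀) E],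
      FiniteDimensional ↥(V₀.left.residueField v₀) E →
      Algebra.IsSeparable ↥(V₀.left.residueField v₀) E →
      ∃ (ZE : Sp S) (π : ZE ⟶ pullback f g₀)
        (q : ZE ⟶ (yon S).obj (Over.mk (Spec.map (CommRingCat.ofHom
          (algebraMap ↥(V₀.left.residueField v₀) E)) ≫
            (V₀.left.fromSpecResidueField v₀ ≫ V₀.hom)))),
        IsPullback π q (pullback.snd f g₀) ((yon S).map
          (Over.homMk (Spec.map (CommRingCat.ofHom (algebraMap ↥(V₀.left.residueField v₀) E))) rfl :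
            Over.mk (Spec.map (CommRingCat.ofHom (algebraMap ↥(V₀.left.residueField v₀) E)) ≫
              (V₀.left.fromSpecResidueField v₀ ≫ V₀.hom)) ⟶
            Over.mk (V₀.left.fromSpecResidueField v₀ ≫ V₀.hom))) ∧
        ConnectedSpace (Points ZE) := by
    intro E _ _ hfd hsep
    haveI := hfd
    haveI := hsep
    obtain ⟨Us, g, u, hg, θ, hθ, hcompat⟩ :=
      Groth.Agent.Lib.Helper11.EtaleNbhd.exists_etale_nbhd v₀ E
    haveI : Algebra.IsAlgebraic ↥(V₀.left.residueField v₀) E := Algebra.IsAlgebraic.of_finite _ _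
    obtain ⟨emb⟩ : Nonempty (E →ₐ[↥(V₀.left.residueField v₀)] yb.K) := ⟨IsAlgClosed.lift⟩
    obtain ⟨embR, hembR⟩ : ∃ embR : E →+* yb.K,
        embR.comp (algebraMap ↥(V₀.left.residueField v₀) E) =
          algebraMap ↥(V₀.left.residueField v₀) yb.K := ⟨emb.toRingHom, emb.comp_algebraMap⟩
    obtain ⟨mE, hmE⟩ : ∃ mE : Over.mk (Spec.map (CommRingCat.ofHom
        (algebraMap ↥(V₀.left.residueField v₀) E)) ≫ (V₀.left.fromSpecResidueField v₀ ≫ V₀.hom)) ⟶
          Over.mk (V₀.left.fromSpecResidueField v₀ ≫ V₀.hom),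
        mE = Over.homMk (Spec.map (CommRingCat.ofHom
          (algebraMap ↥(V₀.left.residueField v₀) E))) rfl := ⟨_, rfl⟩
    obtain ⟨gt, hgt⟩ : ∃ gt : Over.mk (g ≫ V₀.hom) ⟶ V₀, gt.left = g := ⟨Over.homMk g rfl, rfl⟩
    have hgte : Etale gt.left := by rw [hgt]; exact hg
    have hét : RepWith @Etale ((yon S).map gt ≫ a₀) :=
      (RepWith @Etale).comp_mem _ _ ((repWith_yon_map_iff @Etale gt).2 hgte) hbe
    have hleft : (Spec.map (CommRingCat.ofHom embR) ≫ Spec.map (CommRingCat.ofHom θ) ≫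
        Us.fromSpecResidueField u) ≫ g = c₀.left := by
      rw [Category.assoc, Category.assoc, hcompat, ← Category.assoc, ← Spec.map_comp,
        ← CommRingCat.ofHom_comp, hembR]
      exact key'
    have hcw : (Spec.map (CommRingCat.ofHom embR) ≫ Spec.map (CommRingCat.ofHom θ) ≫
        Us.fromSpecResidueField u) ≫ (g ≫ V₀.hom) = yb.str := by
      rw [← Category.assoc, hleft]
      exact Over.w c₀
    obtain ⟨cU, hcUl⟩ : ∃ cU : yb.pt ⟶ Over.mk (g ≫ V₀.hom),
        cU.left = Spec.map (CommRingCat.ofHom embR) ≫ Spec.map (CommRingCat.ofHom θ) ≫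
          Us.fromSpecResidueField u := ⟨Over.homMk _ hcw, rfl⟩
    have hcUg : cU ≫ gt = c₀ := by
      apply Over.OverMorphism.ext
      rw [Over.comp_left, hcUl, hgt]
      exact hleft
    have hcU : (yon S).map cU ≫ ((yon S).map gt ≫ a₀) = yb.toHom := by
      rw [← Category.assoc, ← Functor.map_comp, hcUg, hc₀]
    have hpt : cU.left (IsLocalRing.closedPoint yb.K) = u := by
      rw [hcUl, Scheme.Hom.comp_apply, Scheme.Hom.comp_apply]
      exact Scheme.fromSpecResidueField_apply _ _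
    -- the comparison of corners
    haveI hisoθ : IsIso (CommRingCat.ofHom θ) := (ConcreteCategory.isIso_iff_bijective _).2 hθ
    haveI hisoS : IsIso (Spec.map (CommRingCat.ofHom θ)) :=
      inferInstanceAs (IsIso (Scheme.Spec.map (CommRingCat.ofHom θ).op))
    have hjw : Spec.map (CommRingCat.ofHom θ) ≫ (Us.fromSpecResidueField u ≫ (g ≫ V₀.hom)) =
        Spec.map (CommRingCat.ofHom (algebraMap ↥(V₀.left.residueField v₀) E)) ≫
          (V₀.left.fromSpecResidueField v₀ ≫ V₀.hom) := by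
      simpa only [Category.assoc] using congrArg (· ≫ V₀.hom) hcompat
    obtain ⟨jE, hjEl⟩ : ∃ jE : Over.mk (Spec.map (CommRingCat.ofHom
        (algebraMap ↥(V₀.left.residueField v₀) E)) ≫ (V₀.left.fromSpecResidueField v₀ ≫ V₀.hom)) ≅
          Over.mk (Us.fromSpecResidueField u ≫ (g ≫ V₀.hom)),
        jE.hom.left = Spec.map (CommRingCat.ofHom θ) :=
      ⟨Over.isoMk (@asIso _ _ _ _ (Spec.map (CommRingCat.ofHom θ)) hisoS) hjw, rfl⟩
    obtain ⟨ιu, hιu⟩ : ∃ ιu : Over.mk (Us.fromSpecResidueField u ≫ (g ≫ V₀.hom)) ⟶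
        Over.mk (g ≫ V₀.hom), ιu = Over.homMk (Us.fromSpecResidueField u) rfl := ⟨_, rfl⟩
    have hjE : jE.hom ≫ ιu ≫ gt = mE ≫ ι := by
      apply Over.OverMorphism.ext
      rw [Over.comp_left, Over.comp_left, Over.comp_left, hjEl, hgt, hι, hιu, hmE]
      exact hcompat
    have sqE := IsPullback.of_hasPullback (pullback.snd f g₀) ((yon S).map mE)
    have s1 : IsPullback (pullback.snd (pullback.snd f g₀) ((yon S).map mE))
        (pullback.fst (pullback.snd f g₀) ((yon S).map mE) ≫ pullback.fst f g₀)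
        ((yon S).map mE ≫ g₀) f := sqE.flip.paste_vert sqZ.flip
    have e3 : (yon S).map mE ≫ (yon S).map ι =
        (yon S).map jE.hom ≫ (yon S).map ιu ≫ (yon S).map gt := by
      rw [← Functor.map_comp, ← Functor.map_comp, ← Functor.map_comp, hjE]
    have hcorner : (yon S).map mE ≫ g₀ =
        (yon S).map jE.hom ≫ ((yon S).map ιu ≫ ((yon S).map gt ≫ a₀)) := by
      have e3' := congrArg (· ≫ a₀) e3
      simpa only [Category.assoc, hg₀] using e3'
    have sq'' : IsPullback (pullback.fst (pullback.snd f g₀) ((yon S).map mE) ≫ pullback.fst f g₀)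
        (pullback.snd (pullback.snd f g₀) ((yon S).map mE) ≫ (yon S).map jE.hom) f
        ((yon S).map ιu ≫ ((yon S).map gt ≫ a₀)) :=
      IsPullback.of_iso s1.flip (Iso.refl _) (Iso.refl _) ((yon S).mapIso jE) (Iso.refl _)
        (by simp) (by simp) (by simp)
        (by rw [Iso.refl_hom, Category.comp_id, Functor.mapIso_hom]; exact hcorner)
    subst hιu
    have hconnE := H (Over.mk (g ≫ V₀.hom)) ((yon S).map gt ≫ a₀) hét u cU hcU hpt _ _ _ sq''
    subst hmE
    exact ⟨_, _, _, sqE, hconnE⟩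
  -- the geometric fibre as a base change of the fibre over `v₀`
  obtain ⟨mK, hmK⟩ : ∃ mK : Over.mk (Spec.map (CommRingCat.ofHom
      (algebraMap ↥(V₀.left.residueField v₀) yb.K)) ≫ (V₀.left.fromSpecResidueField v₀ ≫ V₀.hom)) ⟶
        Over.mk (V₀.left.fromSpecResidueField v₀ ≫ V₀.hom),
      mK = Over.homMk (Spec.map (CommRingCat.ofHom
        (algebraMap ↥(V₀.left.residueField v₀) yb.K))) rfl := ⟨_, rfl⟩
  have hjKw : (Iso.refl (Spec (CommRingCat.of yb.K))).hom ≫
      (Spec.map (CommRingCat.ofHom (algebraMap ↥(V₀.left.residueField v₀) yb.K)) ≫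
        (V₀.left.fromSpecResidueField v₀ ≫ V₀.hom)) = yb.str := by
    rw [Iso.refl_hom, Category.id_comp, ← Category.assoc, key']
    exact Over.w c₀
  obtain ⟨jK, hjKl⟩ : ∃ jK : yb.pt ≅ Over.mk (Spec.map (CommRingCat.ofHom
      (algebraMap ↥(V₀.left.residueField v₀) yb.K)) ≫ (V₀.left.fromSpecResidueField v₀ ≫ V₀.hom)),
      jK.hom.left = 𝟙 _ := ⟨Over.isoMk (Iso.refl _) hjKw, rfl⟩
  have hfact : jK.hom ≫ mK ≫ ι = c₀ := by
    apply Over.OverMorphism.ext
    rw [Over.comp_left, Over.comp_left, hjKl, hι, hmK, Category.id_comp]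
    exact key'
  have e4 : (yon S).map c₀ = (yon S).map jK.hom ≫ (yon S).map mK ≫ (yon S).map ι := by
    rw [← Functor.map_comp, ← Functor.map_comp, hfact]
  have hyb : (yon S).map jK.hom ≫ (yon S).map mK ≫ g₀ = yb.toHom := by
    rw [hg₀, ← hc₀, e4]
    simp only [Category.assoc]
  have hcondK : fst ≫ f = (snd ≫ (yon S).map jK.hom ≫ (yon S).map mK) ≫ g₀ := by
    rw [Category.assoc, Category.assoc, hyb]
    exact h.w
  have hπ1 : sqZ.lift _ _ hcondK ≫ pullback.fst f g₀ = fst := sqZ.lift_fst _ _ _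
  have hπ2 : sqZ.lift _ _ hcondK ≫ pullback.snd f g₀ =
      snd ≫ (yon S).map jK.hom ≫ (yon S).map mK := sqZ.lift_snd _ _ _
  have s0 : IsPullback (snd ≫ (yon S).map jK.hom) fst ((yon S).map mK ≫ g₀) f :=
    IsPullback.of_iso h.flip (Iso.refl _) ((yon S).mapIso jK) (Iso.refl _) (Iso.refl _)
      (by simp) (by simp)
      (by rw [Iso.refl_hom, Category.comp_id, Functor.mapIso_hom]; exact hyb.symm) (by simp)
  have sqK' : IsPullback (snd ≫ (yon S).map jK.hom) (sqZ.lift _ _ hcondK) ((yon S).map mK)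
      (pullback.snd f g₀) := by
    refine IsPullback.of_bot ?_ ?_ sqZ.flip
    · rw [hπ1]
      exact s0
    · rw [hπ2, Category.assoc]
  subst hmK
  exact RelAbs.connectedSpace_of_finite_separable hZ ↥(V₀.left.residueField v₀)
    (V₀.left.fromSpecResidueField v₀ ≫ V₀.hom) (pullback.snd f g₀) hfin yb.K _ _ sqK'.flip

/-- The geometric fibre is connected when the fibres over all etale neighbourhoods are. -/
theorem connectedSpace_geometric_of_nbhds {X Y : Sp S} (hX : IsAlgSpace X) (hY : IsAlgSpace Y)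
    (f : X ⟶ Y) (yb : FieldPt Y) [IsAlgClosed yb.K]
    {Xyb : Sp S} (fst : Xyb ⟶ X) (snd : Xyb ⟶ (yon S).obj yb.pt)
    (h : IsPullback fst snd f yb.toHom)
    (H : ∀ (V : Over S) (a : (yon S).obj V ⟶ Y), RepWith @Etale a →
      ∀ (v : ↥V.left) (c : yb.pt ⟶ V), (yon S).map c ≫ a = yb.toHom →
        c.left (IsLocalRing.closedPoint yb.K) = v →
        ∀ (Xv : Sp S) (fst' : Xv ⟶ X)
          (snd' : Xv ⟶ (yon S).obj (Over.mk (V.left.fromSpecResidueField v ≫ V.hom))),
          IsPullback fst' snd' f ((yon S).map (Over.homMk (V.left.fromSpecResidueField v) rfl :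
            Over.mk (V.left.fromSpecResidueField v ≫ V.hom) ⟶ V) ≫ a) →
          ConnectedSpace (Points Xv)) :
    ConnectedSpace (Points Xyb) := by
  obtain ⟨V₀, a₀, hbe, hbs⟩ := hY.atlas
  obtain ⟨c₀, hc₀⟩ : ∃ c₀ : yb.pt ⟶ V₀, (yon S).map c₀ ≫ a₀ = yb.toHom := by
    obtain ⟨E, e, φ, sqE⟩ := hbe.rep yb.toHom
    have hee : Etale e.left := hbe.property _ _ _ sqE
    have hes : Surjective e.left := hbs.property _ _ _ sqE
    obtain ⟨e₁, he₁⟩ : ∃ e₁ : E.left ⟶ Spec (CommRingCat.of yb.K), e₁ = e.left := ⟨_, rfl⟩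
    have hee₁ : Etale e₁ := he₁ ▸ hee
    have hes₁ : Surjective e₁ := he₁ ▸ hes
    have hne : Nonempty ↥E.left := ⟨(hes₁.surj (IsLocalRing.closedPoint yb.K)).choose⟩
    obtain ⟨s₀, hs₀⟩ := exists_section_of_nonempty e₁
    have hσw : s₀ ≫ E.hom = yb.str := by
      have h1 : e₁ ≫ yb.str = E.hom := by rw [he₁]; exact Over.w e
      rw [← h1, ← Category.assoc, hs₀]
      exact Category.id_comp _
    obtain ⟨σ, hσl⟩ : ∃ σ : yb.pt ⟶ E, σ.left = s₀ := ⟨Over.homMk s₀ hσw, rfl⟩
    have hσ : σ ≫ e = 𝟙 yb.pt := by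
      apply Over.OverMorphism.ext
      rw [Over.comp_left, hσl, ← he₁, hs₀]
      rfl
    obtain ⟨v₀, hv₀⟩ := (yon S).map_surjective ((yon S).map σ ≫ φ)
    refine ⟨v₀, ?_⟩
    rw [hv₀, Category.assoc, sqE.w, ← Category.assoc, ← Functor.map_comp, hσ, (yon S).map_id,
      Category.id_comp]
  have key := Scheme.descResidueField_stalkClosedPointTo_fromSpecResidueField yb.K V₀.left c₀.left
  exact connectedSpace_geometric_of_nbhds_core hX hY f yb fst snd h H V₀ a₀ hbe c₀ hc₀ _ _ key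

end Groth.Agent.Lib.Helper16.EtNbhdConn
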