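import Mathlib

/-!
# Descent of quasi-coherence along a "localization-like" continuous functor of ringed sites
-/

universe v₁ v₂ u₁ u₂ u

open CategoryTheory Limits

namespace Groth.Agent.Lib.Helper16.QcohDescent

open SheafOfModules

section UnitIso

variable {C : Type u₁} [Category.{v₁} C] {D : Type u₂} [Category.{v₂} D]
  {J : GrothendieckTopology C} {K : GrothendieckTopology D} {F : C ⥤ D}
  {S : Sheaf J RingCat.{u}} {R : Sheaf K RingCat.{u}} [Functor.IsContinuous F J K]
  (φ : S ⟶ (F.sheafPushforwardContinuous RingCat.{u} J K).obj R)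

theorem isIso_unitToPushforwardObjUnit [IsIso φ] : IsIso (unitToPushforwardObjUnit φ) := by
  haveI h0 : IsIso φ.hom := inferInstanceAs (IsIso ((sheafToPresheaf J RingCat.{u}).map φ))
  rw [← isIso_iff_of_reflects_iso _ (SheafOfModules.toSheaf.{u} S),
    ← isIso_iff_of_reflects_iso _ (sheafToPresheaf J AddCommGrpCat.{u})]
  haveI : ∀ X, IsIso (((sheafToPresheaf J AddCommGrpCat.{u}).map
      ((SheafOfModules.toSheaf.{u} S).map (unitToPushforwardObjUnit φ))).app X) := fun X =>
    inferInstanceAs (IsIso ((forget₂ RingCat AddCommGrpCat).map (φ.hom.app X)))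
  exact NatIso.isIso_of_isIso_app _

/-- For an isomorphism of sheaves of rings, the pushforward of the unit is the unit. -/
noncomputable def pushforwardUnitIso [IsIso φ] : (pushforward.{u} φ).obj (unit R) ≅ unit S :=
  haveI := isIso_unitToPushforwardObjUnit φ
  (asIso (unitToPushforwardObjUnit φ)).symm

end UnitIso

section Equiv

variable {C : Type u₁} [Category.{v₁} C] {D : Type u₂} [Category.{v₂} D]
  {J : GrothendieckTopology C} {K : GrothendieckTopology D} (e : C ≌ D)
  {S : Sheaf J RingCat.{u}} {R : Sheaf K RingCat.{u}}
  [Functor.IsContinuous e.functor J K] [Functor.IsCocontinuous e.functor J K]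
  (φ : S ⟶ (e.functor.sheafPushforwardContinuous RingCat.{u} J K).obj R) [IsIso φ]

theorem inverse_isContinuous : Functor.IsContinuous e.inverse K J :=
  e.toAdjunction.isContinuous_of_isCocontinuous J K

attribute [local instance] inverse_isContinuous

set_option backward.isDefEq.respectTransparency.types false in
set_option backward.defeqAttrib.useBackward true in
/-- An equivalence of sites with an isomorphism of sheaves of rings induces an equivalence on
sheaves of modules, whose functor is the pushforward. -/
noncomputable def modEquiv : SheafOfModules.{u} R ≌ SheafOfModules.{u} S := by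
  let adj := e.toAdjunction
  let shAdj := adj.sheafPushforwardContinuous (E := RingCat.{u}) J K
  let ψ : R ⟶ (e.inverse.sheafPushforwardContinuous RingCat.{u} K J).obj S :=
    shAdj.unit.app R ≫ (e.inverse.sheafPushforwardContinuous _ _ _).map (inv φ)
  refine pushforwardPushforwardEquivalence e φ ψ ?_ ?_
  · ext U : 2
    simp [ψ, shAdj, adj]
  · ext U : 2
    have := (inv φ).hom.naturality
    dsimp at this
    simp only [ObjectProperty.hom_inv, NatIso.isIso_inv_app,
      Functor.sheafPushforwardContinuous_obj_obj_obj, IsIso.eq_inv_comp] at this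
    simp [ψ, shAdj, adj, ← this, ← Functor.map_comp_assoc, ← op_comp]

theorem modEquiv_functor : (modEquiv e φ).functor = pushforward.{u} φ := rfl

variable [HasSheafify J AddCommGrpCat.{u}] [J.WEqualsLocallyBijective AddCommGrpCat.{u}]
  [HasSheafify K AddCommGrpCat.{u}] [K.WEqualsLocallyBijective AddCommGrpCat.{u}]

/-- A presentation of the pushforward along an equivalence of ringed sites descends. -/
noncomputable def presentationOfPushforward (M : SheafOfModules.{u} R)
    (P : Presentation ((pushforward.{u} φ).obj M)) : Presentation M :=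
  let E := modEquiv e φ
  let η₀ : E.functor.obj (unit R) ≅ unit S := pushforwardUnitIso φ
  let η : unit R ≅ E.inverse.obj (unit S) := E.unitIso.app (unit R) ≪≫ E.inverse.mapIso η₀
  Presentation.ofIsIso (E.unitIso.app M).inv (P.map E.inverse η)

end Equiv

section Descent

variable {C : Type u₁} [Category.{v₁} C] {D : Type u₂} [Category.{v₂} D]
  {J : GrothendieckTopology C} {K : GrothendieckTopology D} (G : C ⥤ D)

theorem coversTop_map (hG : CoverPreserving J K G)
    (hε : ∀ W : D, ∃ (c : C) (ε : G.obj c ⟶ W), Sieve.generate (Presieve.singleton ε) ∈ K W)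
    {I : Type*} (Y : I → C) (hY : J.CoversTop Y) :
    K.CoversTop (fun i => G.obj (Y i)) := by
  intro W
  obtain ⟨c, ε, hεc⟩ := hε W
  refine K.transitive hεc _ ?_
  rintro Z f ⟨Z', a, g, hg, rfl⟩
  cases hg
  have h1 : (Sieve.ofObjects Y c).functorPushforward G ∈ K (G.obj c) := hG.cover_preserve (hY c)
  refine K.superset_covering ?_ (K.pullback_stable a h1)
  rintro Z'' b ⟨c', h, m, hh, hfac⟩
  obtain ⟨i, ⟨n⟩⟩ := (Sieve.mem_ofObjects_iff Y h).mp hh
  exact ⟨i, ⟨m ≫ G.map n⟩⟩

theorem isContinuous_overPost (hG : CoverPreserving J K G) (c : C)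
    [(Over.post (X := c) G).IsEquivalence] :
    (Over.post (X := c) G).IsContinuous (J.over c) (K.over (G.obj c)) :=
  Functor.isContinuous_of_coverPreserving
    (compatiblePreservingOfDownwardsClosed _ _ (fun {_} {d} _ =>
      ⟨(Over.post (X := c) G).objPreimage d, (Over.post (X := c) G).objObjPreimageIso d⟩))
    (hG.overPost c)

variable {S : Sheaf J RingCat.{u}} {R : Sheaf K RingCat.{u}}
  [Functor.IsContinuous G J K] [Functor.IsCocontinuous G J K]
  (φ : S ⟶ (G.sheafPushforwardContinuous RingCat.{u} J K).obj R) [IsIso φ]
  [∀ X, HasSheafify (J.over X) AddCommGrpCat.{u}]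
  [∀ X, (J.over X).WEqualsLocallyBijective AddCommGrpCat.{u}]
  [∀ X, HasSheafify (K.over X) AddCommGrpCat.{u}]
  [∀ X, (K.over X).WEqualsLocallyBijective AddCommGrpCat.{u}]
  [∀ c : C, (Over.post (X := c) G).IsEquivalence]

/-- Descent of a presentation from `((pushforward φ).obj M).over c` to `M.over (G.obj c)`. -/
noncomputable def presentationOver (hG : CoverPreserving J K G) (M : SheafOfModules.{u} R) (c : C)
    (P : (((pushforward.{u} φ).obj M).over c).Presentation) :
    (M.over (G.obj c)).Presentation := by
  haveI : (Over.post (X := c) G).IsContinuous (J.over c) (K.over (G.obj c)) :=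
    isContinuous_overPost G hG c
  let e : Over c ≌ Over (G.obj c) := (Over.post (X := c) G).asEquivalence
  haveI : Functor.IsContinuous e.functor (J.over c) (K.over (G.obj c)) :=
    inferInstanceAs ((Over.post (X := c) G).IsContinuous (J.over c) (K.over (G.obj c)))
  haveI : Functor.IsCocontinuous e.functor (J.over c) (K.over (G.obj c)) :=
    inferInstanceAs ((Over.post (X := c) G).IsCocontinuous (J.over c) (K.over (G.obj c)))
  let φc : S.over c ⟶ (e.functor.sheafPushforwardContinuous RingCat.{u} (J.over c)
      (K.over (G.obj c))).obj (R.over (G.obj c)) :=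
    ((Over.forget c).sheafPushforwardContinuous RingCat.{u} (J.over c) J).map φ
  haveI : IsIso φc := by
    have h : IsIso (((Over.forget c).sheafPushforwardContinuous RingCat.{u} (J.over c) J).map φ) :=
      inferInstance
    exact h
  exact presentationOfPushforward e φc (M.over (G.obj c)) P

theorem isQuasicoherent_of_pushforward (hG : CoverPreserving J K G)
    (hε : ∀ W : D, ∃ (c : C) (ε : G.obj c ⟶ W), Sieve.generate (Presieve.singleton ε) ∈ K W)
    (M : SheafOfModules.{u} R)
    (hM : ((pushforward.{u} φ).obj M).IsQuasicoherent) : M.IsQuasicoherent := by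
  obtain ⟨⟨q⟩⟩ := hM
  exact QuasicoherentData.isQuasicoherent
    { I := q.I
      X := fun i => G.obj (q.X i)
      coversTop := coversTop_map G hG hε _ q.coversTop
      presentation := fun i => presentationOver G φ hG M (q.X i) (q.presentation i) }

end Descent

end Groth.Agent.Lib.Helper16.QcohDescent
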