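import Groth.Agent.S10252
import Groth.Agent.Lib.Helper16.QcohDescent

/-!
# The functor `EtOver.postcomp` for an etale morphism: cover preservation, slices, unit iso
-/

set_option autoImplicit false
universe u
open CategoryTheory CategoryTheory.Limits AlgebraicGeometry Opposite
open AlgSp

namespace Groth.Agent.Lib.Helper16.EtPostOver

set_option backward.isDefEq.respectTransparency false

variable {S : Scheme.{u}} {A B : Sp S} (f : A ⟶ B) (hf : IsEtaleMor f)

instance instCocontPostcomp : (EtOver.postcomp f hf).IsCocontinuous (etTop A) (etTop B) :=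
  Groth.Agent.S10234.cocontinuous_postcomp f hf

theorem coverPreserving_postcomp :
    CoverPreserving (etTop A) (etTop B) (EtOver.postcomp f hf) := by
  constructor
  intro E T hT
  unfold etTop at hT
  rw [Precoverage.mem_toGrothendieck_iff_of_isStableUnderComposition] at hT
  obtain ⟨R, hR, hle⟩ := hT
  obtain ⟨ι, Z, g, rfl⟩ := R.exists_eq_ofArrows
  rw [ofArrows_mem_etPre_iff] at hR
  have hcov : Sieve.ofArrows (fun i => (EtOver.postcomp f hf).obj (Z i))
      (fun i => (EtOver.postcomp f hf).map (g i)) ∈ etTop B ((EtOver.postcomp f hf).obj E) :=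
    ofArrows_mem_etTop _ _ hR
  refine GrothendieckTopology.superset_covering _ ?_ hcov
  rintro W a ⟨V, b, c, ⟨i⟩, rfl⟩
  exact ⟨Z i, g i, b, hle _ _ (Presieve.ofArrows.mk i), rfl⟩

instance faithful_postcomp : (EtOver.postcomp f hf).Faithful where
  map_injective {_ _} _ _ h := EtOver.hom_ext _ _ (congrArg (fun k => k.hom.left) h)

instance overPost_full (E : EtOver A) : (Over.post (X := E) (EtOver.postcomp f hf)).Full where
  map_surjective {a b} h := by
    have hk : h.left.hom.left ≫ b.hom.hom.left = a.hom.hom.left :=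
      congrArg (fun m => m.hom.left) (Over.w h)
    have hb : (yon S).map b.hom.hom.left ≫ E.obj.hom = b.left.obj.hom := EtOver.w b.hom
    have ha : (yon S).map a.hom.hom.left ≫ E.obj.hom = a.left.obj.hom := EtOver.w a.hom
    have w : (yon S).map h.left.hom.left ≫ b.left.obj.hom = a.left.obj.hom := by
      rw [← hb, ← Category.assoc, ← Functor.map_comp, hk, ha]
    refine ⟨Over.homMk (EtOver.homMk h.left.hom.left w) (EtOver.hom_ext _ _ hk), ?_⟩
    apply Over.OverMorphism.ext
    exact EtOver.hom_ext _ _ rfl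

instance overPost_essSurj (E : EtOver A) :
    (Over.post (X := E) (EtOver.postcomp f hf)).EssSurj where
  mem_essImage d := by
    have hrepk : RepWith @Etale ((yon S).map d.hom.hom.left ≫ E.obj.hom) :=
      (repWith_isMultiplicative (S := S) @Etale).comp_mem _ _
        ((repWith_yon_map_iff _ _).2 (EtOver.etale_left d.hom)) E.property
    let Z : EtOver A := EtOver.mk ((yon S).map d.hom.hom.left ≫ E.obj.hom) hrepk
    let g : Z ⟶ E := EtOver.homMk d.hom.hom.left rfl
    have hw : (yon S).map d.hom.hom.left ≫ (E.obj.hom ≫ f) = d.left.obj.hom := EtOver.w d.hom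
    have hid : (yon S).map (𝟙 d.left.obj.left) = 𝟙 _ := (yon S).map_id _
    let i1 : (EtOver.postcomp f hf).obj Z ⟶ d.left := EtOver.homMk (𝟙 d.left.obj.left) (by
      show (yon S).map (𝟙 d.left.obj.left) ≫ d.left.obj.hom =
        ((yon S).map d.hom.hom.left ≫ E.obj.hom) ≫ f
      rw [hid, Category.assoc, hw]; exact Category.id_comp _)
    let i2 : d.left ⟶ (EtOver.postcomp f hf).obj Z := EtOver.homMk (𝟙 d.left.obj.left) (by
      show (yon S).map (𝟙 d.left.obj.left) ≫ (((yon S).map d.hom.hom.left ≫ E.obj.hom) ≫ f) =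
        d.left.obj.hom
      rw [hid, Category.assoc, hw]; exact Category.id_comp _)
    refine ⟨Over.mk g, ⟨Over.isoMk ⟨i1, i2, EtOver.hom_ext _ _ (Category.id_comp _),
      EtOver.hom_ext _ _ (Category.id_comp _)⟩ ?_⟩⟩
    exact EtOver.hom_ext _ _ (Category.id_comp _)

instance overPost_isEquivalence (E : EtOver A) :
    (Over.post (X := E) (EtOver.postcomp f hf)).IsEquivalence where

instance isIso_φ : IsIso (Groth.Agent.S10252.φ (f := f) hf) := by
  haveI : ∀ E, IsIso (((sheafToPresheaf _ _).map (Groth.Agent.S10252.φ (f := f) hf)).app E) :=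
    fun E => inferInstanceAs (IsIso (𝟙 ((OEtRing A).obj.obj E)))
  haveI : IsIso ((sheafToPresheaf _ _).map (Groth.Agent.S10252.φ (f := f) hf)) :=
    NatIso.isIso_of_isIso_app _
  exact isIso_of_reflects_iso _ (sheafToPresheaf _ _)

variable {f} in
theorem exists_cover (hrep : Representable f) (hs : RepWith @Surjective f) (W : EtOver B) :
    ∃ (c : EtOver A) (ε : (EtOver.postcomp f hf).obj c ⟶ W),
      Sieve.generate (Presieve.singleton ε) ∈ etTop B W := by
  refine ⟨(EtOver.bc hrep).obj W, Groth.Agent.S10252.counitApp hrep hf W, ?_⟩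
  have hsurj : Surjective (hrep.snd W.obj.hom).left :=
    hs.property W.obj.hom _ _ (hrep.isPullback W.obj.hom)
  have hcov : Sieve.ofArrows (fun _ : PUnit.{1} => (EtOver.postcomp f hf).obj ((EtOver.bc hrep).obj W))
      (fun _ => Groth.Agent.S10252.counitApp hrep hf W) ∈ etTop B W :=
    ofArrows_mem_etTop _ _ (fun x => by
      obtain ⟨y, hy⟩ := hsurj.surj x
      exact ⟨PUnit.unit, y, hy⟩)
  refine GrothendieckTopology.superset_covering _ ?_ hcov
  rintro Z a ⟨V, b, c, ⟨_⟩, rfl⟩
  exact ⟨_, b, _, Presieve.singleton.mk, rfl⟩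

end Groth.Agent.Lib.Helper16.EtPostOver
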