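import Mathlib

/-!
# Helper library (helper16): a morphism from a reduced scheme with one-point image factors through a field
-/

set_option autoImplicit false
universe u
open CategoryTheory CategoryTheory.Limits AlgebraicGeometry Opposite

namespace Groth.Agent.Lib.Helper16.RedPt

/-- A morphism from a reduced scheme to an affine scheme all of whose points map to a single point `v` factors through
the spectrum of a field mapping to `v`. -/
theorem exists_factor_field_of_isReduced {U V : Scheme.{u}} [IsReduced U] [IsAffine V] (h : U ⟶ V) (v : V)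
    (hv : ∀ u : U, h u = v) :
    ∃ (K : Type u) (_ : Field K) (i : Spec (CommRingCat.of K) ⟶ V) (g : U ⟶ Spec (CommRingCat.of K)),
      g ≫ i = h ∧ ∀ z, i z = v := by
  let A := Γ(V, ⊤)
  let 𝔭 : Ideal A := (V.toSpecΓ v).asIdeal
  have : 𝔭.IsPrime := (V.toSpecΓ v).isPrime
  let φ : A →+* Γ(U, ⊤) := h.appTop.hom
  have key : ∀ a : A, U.basicOpen (φ a) = h ⁻¹ᵁ (V.basicOpen a) :=
    fun a => (Scheme.preimage_basicOpen_top h a).symm
  have hmem : ∀ a : A, v ∈ V.basicOpen a ↔ a ∉ 𝔭 := by
    intro a
    rw [← Scheme.toSpecΓ_preimage_basicOpen]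
    rfl
  have h1 : 𝔭 ≤ RingHom.ker φ := by
    intro a ha
    rw [RingHom.mem_ker, ← basicOpen_eq_bot_iff, key]
    ext u
    constructor
    · intro hu
      have hu' : h u ∈ V.basicOpen a := hu
      rw [hv u, hmem] at hu'
      exact (hu' ha).elim
    · intro hu
      exact hu.elim
  have h2 : 𝔭.primeCompl ≤ (IsUnit.submonoid _).comap φ := by
    intro a ha
    show IsUnit (φ a)
    refine RingedSpace.isUnit_of_isUnit_germ U.toRingedSpace ⊤ (φ a) fun u hu => ?_
    have hmemu : u ∈ U.basicOpen (φ a) := by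
      rw [key]
      show h u ∈ V.basicOpen a
      rw [hv u, hmem]
      exact ha
    exact (Scheme.mem_basicOpen_top U (φ a) u).1 hmemu
  let ψ := Ideal.ResidueField.lift 𝔭 φ h1 h2
  have hψ : ψ.comp (algebraMap A 𝔭.ResidueField) = φ :=
    RingHom.ext (Ideal.ResidueField.lift_algebraMap 𝔭 φ h1 h2)
  refine ⟨𝔭.ResidueField, inferInstance,
    Spec.map (CommRingCat.ofHom (algebraMap A 𝔭.ResidueField)) ≫ V.isoSpec.inv,
    U.toSpecΓ ≫ Spec.map (CommRingCat.ofHom ψ), ?_, ?_⟩
  · rw [Category.assoc, ← Category.assoc (Spec.map _), ← Spec.map_comp, ← CommRingCat.ofHom_comp, hψ]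
    have : CommRingCat.ofHom φ = h.appTop := rfl
    rw [this, ← Scheme.toSpecΓ_naturality_assoc, Scheme.toSpecΓ_isoSpec_inv, Category.comp_id]
  · intro z
    have hz : Spec.map (CommRingCat.ofHom (algebraMap A 𝔭.ResidueField)) z = V.toSpecΓ v := by
      apply PrimeSpectrum.ext
      have hz0 : z.asIdeal = ⊥ := by
        have := z.isPrime
        exact Ideal.eq_bot_of_prime z.asIdeal
      show Ideal.comap (algebraMap A 𝔭.ResidueField) z.asIdeal = 𝔭
      rw [hz0, ← RingHom.ker_eq_comap_bot, Ideal.ker_algebraMap_residueField]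
    rw [Scheme.Hom.comp_apply, hz, ← Scheme.Hom.comp_apply, Scheme.toSpecΓ_isoSpec_inv]
    rfl

end Groth.Agent.Lib.Helper16.RedPt
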