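import Groth.Agent.Lib.Helper16.LocSurj
import Groth.Agent.Lib.Helper16.FppfLocal2
import Groth.Agent.Lib.Helper16.MonoDescent
import Groth.Agent.Lib.Helper16.FibreProduct
import Groth.Agent.Lib.Helper16.Charts
import Groth.Agent.Lib.Helper15.MonoInj
import Mathlib.AlgebraicGeometry.Morphisms.LocalFlatDescent
import Mathlib.AlgebraicGeometry.Morphisms.Flat

/-!
# Helper library (helper16): monomorphisms to the spectrum of a field, spaces with an fppf cover by a field point
-/

set_option autoImplicit false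
universe u
open CategoryTheory CategoryTheory.Limits AlgebraicGeometry Opposite Topology

namespace Groth.Agent.Lib.Helper16.ResidualSp

open AlgSp Groth.Agent.Lib.Helper16 Groth.Agent.Lib.Helper15

variable {S : Scheme.{u}}

/-- A flat, locally finitely presented, surjective morphism from a scheme to an algebraic space is an epimorphism of
sheaves. -/
theorem epi_of_fppf_chart {Z : Sp S} (hZ : IsAlgSpace Z) {T : Over S} (p : (yon S).obj T ⟶ Z)
    (h1 : LocP @Flat p) (h2 : LocP @LocallyOfFinitePresentation p) (h3 : IsSurjectiveMor p) : Epi p := by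
  obtain ⟨U, a, hae, has⟩ := hZ.atlas
  obtain ⟨P, g, t₀, sq⟩ := hae.rep p
  obtain ⟨γ, rfl⟩ := (yon S).map_surjective t₀
  have hget : Etale g.left := hae.property _ _ _ sq
  have hge : RepWith @Etale ((yon S).map g) := (repWith_yon_map_iff _ _).2 hget
  have hflat : Flat γ.left := h1 _ a γ hge hae sq.w.symm
  have hlfp : LocallyOfFinitePresentation γ.left := h2 _ a γ hge hae sq.w.symm
  have hsurj : Surjective γ.left := ⟨fun u => by
    obtain ⟨t', ht'⟩ := h3 (Points.ofPt a u)
    obtain ⟨v, hv, -⟩ := exists_point_of_isPullback_yon_yon sq u (Points.toScheme T t')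
      (by rw [Points.ofPt_eq_map_ofScheme p, Points.ofScheme_toScheme, ht'])
    exact ⟨v, hv⟩⟩
  have : Sheaf.IsLocallySurjective ((yon S).map γ) :=
    isLocallySurjective_of_repWith_fppf _ ((repWith_yon_map_iff _ _).2 hflat)
      ((repWith_yon_map_iff _ _).2 hlfp) ((repWith_yon_map_iff _ _).2 hsurj)
  have hepiγ : Epi ((yon S).map γ) := inferInstance
  have hepia : Epi a := epi_of_etale_surjective a hae has
  have hepi : Epi ((yon S).map g ≫ p) := by
    rw [← sq.w]
    exact epi_comp _ _
  exact epi_of_epi ((yon S).map g) p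

/-- A monomorphism from a nonempty algebraic space to the spectrum of a field is an isomorphism. -/
theorem isIso_of_mono_to_field {Z : Sp S} (hZ : IsAlgSpace Z) (k : Type u) [Field k]
    (str : Spec (CommRingCat.of k) ⟶ S) (m : Z ⟶ (yon S).obj (Over.mk str)) [Mono m]
    [Nonempty (Points Z)] : IsIso m := by
  obtain ⟨V₀, a₀, ha₀e, ha₀s⟩ := hZ.atlas
  obtain ⟨z⟩ := ‹Nonempty (Points Z)›
  obtain ⟨v₀, -⟩ := ofPt_surjective_of_surjective a₀ ha₀s z
  obtain ⟨_, ⟨V₁, hV₁, rfl⟩, hvV, -⟩ :=
    V₀.left.isBasis_affineOpens.exists_subset_of_mem_open (Set.mem_univ v₀) isOpen_univ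
  let V : V₀.left.Opens := V₁
  have hV : IsAffineOpen V := hV₁
  have haff : IsAffine V.toScheme := hV
  let ι' : Over.mk (V.ι ≫ V₀.hom) ⟶ V₀ := Over.homMk V.ι rfl
  have hι' : RepWith @Etale ((yon S).map ι') := (repWith_yon_map_iff _ _).2 (by show Etale V.ι; infer_instance)
  have hae : RepWith @Etale ((yon S).map ι' ≫ a₀) := (RepWith @Etale).comp_mem _ _ hι' ha₀e
  generalize (yon S).map ι' ≫ a₀ = a at hae
  have hne : Nonempty ↥(Over.mk (V.ι ≫ V₀.hom)).left := ⟨(⟨v₀, hvV⟩ : V)⟩
  have haff' : IsAffine (Over.mk (V.ι ≫ V₀.hom)).left := haff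
  obtain ⟨h, hh⟩ := (yon S).map_surjective (a ≫ m)
  obtain ⟨R, e₁, e₂₀, sqR⟩ := hae.rep a
  obtain ⟨e₂, rfl⟩ := (yon S).map_surjective e₂₀
  have he₂ : Etale e₂.left := hae.property _ _ _ sqR.flip
  have sqR' : IsPullback ((yon S).map e₂) ((yon S).map e₁) ((yon S).map h) ((yon S).map h) := by
    rw [hh]
    exact isPullback_comp_mono m sqR
  have sqS := isPullback_left_of_yon sqR'
  have hT1 : Subsingleton ↥(Over.mk str).left := inferInstanceAs (Subsingleton ↥(Spec (.of k)))
  have hT2 : IsIntegral (Over.mk str).left := inferInstanceAs (IsIntegral (Spec (.of k)))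
  have hT3 : IsAffine (Over.mk str).left := inferInstanceAs (IsAffine (Spec (.of k)))
  have hflat : Flat h.left := inferInstance
  have hsurj : Surjective h.left := ⟨fun y => by
    obtain ⟨v⟩ := hne
    exact ⟨v, Subsingleton.elim _ _⟩⟩
  have hqc : QuasiCompact h.left := HasAffineProperty.iff_of_isAffine.mpr (by infer_instance)
  have het : Etale h.left :=
    MorphismProperty.of_isPullback_of_descendsAlong (P := @Etale)
      (Q := @Surjective ⊓ @Flat ⊓ @QuasiCompact) sqS ⟨⟨hsurj, hflat⟩, hqc⟩ he₂
  have hepih : Epi ((yon S).map h) :=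
    epi_of_etale_surjective _ ((repWith_yon_map_iff _ _).2 het) ((repWith_yon_map_iff _ _).2 hsurj)
  have hepi : Epi (a ≫ m) := hh ▸ hepih
  have hepim : Epi m := epi_of_epi a m
  exact isIso_of_mono_of_epi m

/-- A monomorphism into a space with an fppf cover by a field point is empty or an isomorphism. -/
theorem isEmpty_or_isIso_of_mono {Z' Z : Sp S} (hZ' : IsAlgSpace Z') (hZ : IsAlgSpace Z) (f : Z' ⟶ Z) [Mono f]
    (k : Type u) [Field k] (str : Spec (CommRingCat.of k) ⟶ S) (p : (yon S).obj (Over.mk str) ⟶ Z)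
    (h1 : LocP @LocallyOfFinitePresentation p) (h2 : LocP @Flat p) (h3 : IsSurjectiveMor p) :
    IsEmpty (Points Z') ∨ IsIso f := by
  by_cases hne : Nonempty (Points Z')
  · right
    have sq := IsPullback.of_hasPullback f p
    have hP : IsAlgSpace (pullback f p) := isAlgSpace_of_isPullback hZ' hZ.diag (IsAlgSpace.yon_obj _) sq
    have hmono : Mono (pullback.snd f p) :=
      MorphismProperty.of_isPullback (P := MorphismProperty.monomorphisms _) sq
        (MorphismProperty.monomorphisms.infer_property _)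
    have hneP : Nonempty (Points (pullback f p)) := by
      obtain ⟨z'⟩ := hne
      obtain ⟨t, ht⟩ := h3 (Points.map f z')
      obtain ⟨w, -, -⟩ := exists_point_of_isPullback sq z' t ht.symm
      exact ⟨w⟩
    have hiso : IsIso (pullback.snd f p) := isIso_of_mono_to_field hP k str _
    have hepip : Epi p := epi_of_fppf_chart hZ p h2 h1 h3
    have hp : p = (inv (pullback.snd f p) ≫ pullback.fst f p) ≫ f := by
      rw [Category.assoc, pullback.condition, IsIso.inv_hom_id_assoc]
    have hepi' : Epi ((inv (pullback.snd f p) ≫ pullback.fst f p) ≫ f) := hp ▸ hepip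
    have hepif : Epi f := epi_of_epi (inv (pullback.snd f p) ≫ pullback.fst f p) f
    exact isIso_of_mono_of_epi f
  · left
    exact not_nonempty_iff.1 hne

end Groth.Agent.Lib.Helper16.ResidualSp
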