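import Groth.Agent.Lib.Helper16.LocConst
import Groth.Agent.Lib.Helper16.RedPt
import Groth.Agent.Lib.Helper16.ResidualSp
import Groth.Agent.Lib.Helper16.FibreEmb
import Groth.Agent.Lib.Helper16.ZarGlue
import Groth.Agent.Lib.Helper16.MonoDescent
import Groth.Agent.Lib.Helper16.Fibres
import Groth.Agent.Lib.Helper22.SmoothRed

/-!
# Helper library (helper16): factoring morphisms from reduced spaces through monomorphisms with one-point image
-/

set_option autoImplicit false
universe u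
open CategoryTheory CategoryTheory.Limits AlgebraicGeometry Opposite Topology

namespace Groth.Agent.Lib.Helper16.FactorMono

open AlgSp Groth.Agent.Lib.Helper16

variable {S : Scheme.{u}}

/-- A field-valued point whose class lies in the image of a monomorphism of algebraic spaces factors through it. -/
theorem exists_lift_of_mem_range {Z X : Sp S} (hZ : IsAlgSpace Z) (hX : IsAlgSpace X) (i : Z ⟶ X) [Mono i]
    (q : FieldPt X) (hq : Points.mk q ∈ Set.range (Points.map i)) :
    ∃ l : (yon S).obj q.pt ⟶ Z, l ≫ i = q.toHom := by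
  have sq := IsPullback.of_hasPullback i q.toHom
  have hP : IsAlgSpace (pullback i q.toHom) :=
    isAlgSpace_of_isPullback hZ hX.diag (IsAlgSpace.yon_obj _) sq
  obtain ⟨z, hz⟩ := hq
  have hne : Nonempty (Points (pullback i q.toHom)) := by
    obtain ⟨w, -, -⟩ := exists_point_of_isPullback sq z
      (Points.ofScheme q.pt (IsLocalRing.closedPoint q.K : ↥(Spec (CommRingCat.of q.K))))
      (hz.trans (FibreEmb.points_map_toHom_eq q _).symm)
    exact ⟨w⟩
  have hiso : IsIso (pullback.snd i q.toHom) :=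
    ResidualSp.isIso_of_mono_to_field hP q.K q.str (pullback.snd i q.toHom)
  refine ⟨inv (pullback.snd i q.toHom) ≫ pullback.fst i q.toHom, ?_⟩
  rw [Category.assoc, pullback.condition, IsIso.inv_hom_id_assoc]

/-- A morphism factors through a monomorphism as soon as it does so Zariski locally on a chart which is an epimorphism. -/
theorem exists_factor_of_locally {Y X Z : Sp S} (i : Z ⟶ X) [Mono i] (f : Y ⟶ X) {U : Over S}
    (a : (yon S).obj U ⟶ Y) [Epi a]
    (H : ∀ u : ↥U.left, ∃ N : U.left.Opens, u ∈ N ∧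
      ∃ l : (yon S).obj (Over.mk (N.ι ≫ U.hom)) ⟶ Z,
        l ≫ i = (yon S).map (Over.homMk N.ι rfl : Over.mk (N.ι ≫ U.hom) ⟶ U) ≫ a ≫ f) :
    ∃ g : Y ⟶ Z, g ≫ i = f := by
  choose N hN l hl using H
  have hepi : Epi (pullback.snd i f) := by
    constructor
    intro W g₁ g₂ h12
    rw [← cancel_epi a]
    refine yon_hom_ext_of_open_cover _ _ (fun u : ↥U.left => Over.mk ((N u).ι ≫ U.hom))
      (fun u => (Over.homMk (N u).ι rfl : Over.mk ((N u).ι ≫ U.hom) ⟶ U))
      (fun u => by show IsOpenImmersion (N u).ι; infer_instance)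
      (fun x => ⟨x, ⟨⟨x, hN x⟩, rfl⟩⟩) (fun u => ?_)
    have hcond : l u ≫ i =
        ((yon S).map (Over.homMk (N u).ι rfl : Over.mk ((N u).ι ≫ U.hom) ⟶ U) ≫ a) ≫ f := by
      rw [hl u, Category.assoc]
    have hlift := pullback.lift_snd (l u)
      ((yon S).map (Over.homMk (N u).ι rfl : Over.mk ((N u).ι ≫ U.hom) ⟶ U) ≫ a) hcond
    calc (yon S).map (Over.homMk (N u).ι rfl : Over.mk ((N u).ι ≫ U.hom) ⟶ U) ≫ a ≫ g₁
        = ((yon S).map (Over.homMk (N u).ι rfl : Over.mk ((N u).ι ≫ U.hom) ⟶ U) ≫ a) ≫ g₁ :=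
          (Category.assoc _ _ _).symm
      _ = (pullback.lift _ _ hcond ≫ pullback.snd i f) ≫ g₁ := by rw [hlift]
      _ = pullback.lift _ _ hcond ≫ pullback.snd i f ≫ g₂ := by rw [Category.assoc, h12]
      _ = ((yon S).map (Over.homMk (N u).ι rfl : Over.mk ((N u).ι ≫ U.hom) ⟶ U) ≫ a) ≫ g₂ := by
          rw [← Category.assoc, hlift]
      _ = _ := Category.assoc _ _ _
  have hiso : IsIso (pullback.snd i f) := isIso_of_mono_of_epi _
  refine ⟨inv (pullback.snd i f) ≫ pullback.fst i f, ?_⟩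
  rw [Category.assoc, pullback.condition, IsIso.inv_hom_id_assoc]

/-- A morphism from a reduced space to a locally Noetherian algebraic space with image in one point factors through
any monomorphism of algebraic spaces whose image contains that point. -/
theorem exists_factor_of_reduced_of_isLocNoethSp {Y X Z : Sp S} (hXa : IsAlgSpace X) (hZa : IsAlgSpace Z)
    (f : Y ⟶ X) (x : Points X) (hf : ∀ y : Points Y, Points.map f y = x)
    (hY : EtaleLocally (fun U => IsReduced U) Y) (hX : IsLocNoethSp X) (i : Z ⟶ X) [Mono i]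
    (hi : x ∈ Set.range (Points.map i)) : ∃ g : Y ⟶ Z, g ≫ i = f := by
  obtain ⟨U₀, a₀, ha₀e, ha₀s, hU₀red⟩ := hY
  obtain ⟨V, b, hbe, hbs, hVN⟩ := hX
  have hXN : IsLocNoethSp X := ⟨V, b, hbe, hbs, hVN⟩
  have hVN' : IsLocallyNoetherian V.left := hVN
  obtain ⟨U', c, fst, sq⟩ := hbe.rep (a₀ ≫ f)
  obtain ⟨h, rfl⟩ := (yon S).map_surjective fst
  have hce : Etale c.left := hbe.property _ _ _ sq
  have hcs : Surjective c.left := hbs.property _ _ _ sq
  have hU₀red' : IsReduced U₀.left := hU₀red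
  have hU'red : IsReduced U'.left := Groth.Agent.Lib.Helper22.SmoothRed.isReduced_of_smooth c.left
  have ha'e : RepWith @Etale ((yon S).map c ≫ a₀) :=
    (RepWith @Etale).comp_mem _ _ ((repWith_yon_map_iff _ _).2 hce) ha₀e
  have ha's : RepWith @Surjective ((yon S).map c ≫ a₀) :=
    (RepWith @Surjective).comp_mem _ _ ((repWith_yon_map_iff _ _).2 hcs) ha₀s
  have hepi : Epi ((yon S).map c ≫ a₀) := epi_of_etale_surjective _ ha'e ha's
  have hpt : ∀ u : ↥U'.left, Points.ofPt b (h.left u) = x := by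
    intro u
    rw [← ofPt_yon_map_comp, sq.w, ← Category.assoc, ← Points.map_ofPt, hf]
  have hT : ∀ u u' : ↥U'.left, h.left u' ⤳ h.left u → h.left u = h.left u' := fun u u' hs =>
    eq_of_specializes_of_isLocNoethSp hXN b hbe _ _ ((hpt u).trans (hpt u').symm) hs
  refine exists_factor_of_locally i f ((yon S).map c ≫ a₀) (fun u => ?_)
  obtain ⟨_, ⟨W₀, hW₀, rfl⟩, huW, -⟩ :=
    V.left.isBasis_affineOpens.exists_subset_of_mem_open (Set.mem_univ (h.left u)) isOpen_univ
  let W : V.left.Opens := W₀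
  obtain ⟨N₁, huN₁, hN₁⟩ := LocConst.exists_open_nhd_const h.left hT u
  let N : U'.left.Opens := N₁ ⊓ h.left ⁻¹ᵁ W
  have huN : u ∈ N := ⟨huN₁, huW⟩
  refine ⟨N, huN, ?_⟩
  have hrange : Set.range (N.ι ≫ h.left) ⊆ Set.range W.ι := by
    rintro _ ⟨z, rfl⟩
    rw [Scheme.Opens.range_ι]
    exact z.2.2
  let hN := IsOpenImmersion.lift W.ι (N.ι ≫ h.left) hrange
  have hNfac : hN ≫ W.ι = N.ι ≫ h.left := IsOpenImmersion.lift_fac _ _ _
  have hWaff : IsAffine W.toScheme := hW₀
  have hNred : IsReduced N.toScheme := inferInstance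
  let v : W.toScheme := ⟨h.left u, huW⟩
  have hall : ∀ z : N.toScheme, hN z = v := by
    intro z
    apply W.ι.injective
    rw [← Scheme.Hom.comp_apply, hNfac, Scheme.Hom.comp_apply]
    exact hN₁ _ z.2.1
  obtain ⟨K, _, iK, gK, hgi, hiz⟩ := RedPt.exists_factor_field_of_isReduced hN v hall
  let iO : Over.mk (iK ≫ W.ι ≫ V.hom) ⟶ V := Over.homMk (iK ≫ W.ι) (by simp)
  let gO : Over.mk (N.ι ≫ U'.hom) ⟶ Over.mk (iK ≫ W.ι ≫ V.hom) := Over.homMk gK (by
    show gK ≫ iK ≫ W.ι ≫ V.hom = N.ι ≫ U'.hom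
    rw [← Category.assoc, hgi, ← Category.assoc, hNfac, Category.assoc, Over.w h])
  have hgO : gO ≫ iO = (Over.homMk N.ι rfl : Over.mk (N.ι ≫ U'.hom) ⟶ U') ≫ h := by
    ext1
    show gK ≫ iK ≫ W.ι = N.ι ≫ h.left
    rw [← Category.assoc, hgi, hNfac]
  let q : FieldPt X := fieldPtOfHom K (iK ≫ W.ι ≫ V.hom) ((yon S).map iO ≫ b)
  have hqtoHom : q.toHom = (yon S).map iO ≫ b := fieldPtOfHom_toHom _ _ _
  have hqmk : Points.mk q = x := by
    have z₀ : ↥q.pt.left := IsLocalRing.closedPoint K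
    have h1 := FibreEmb.points_map_toHom_eq q (Points.ofScheme q.pt z₀)
    rw [← h1, Points.map_ofPt, Category.id_comp]
    refine (congrArg (fun l => Points.ofPt l z₀) hqtoHom).trans ?_
    refine (ofPt_yon_map_comp iO b z₀).trans ?_
    have h2 : iO.left z₀ = h.left u := by
      show (iK ≫ W.ι) z₀ = h.left u
      rw [Scheme.Hom.comp_apply, hiz z₀]
      rfl
    exact (congrArg (Points.ofPt b) h2).trans (hpt u)
  obtain ⟨l, hl⟩ := exists_lift_of_mem_range hZa hXa i q (hqmk ▸ hi)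
  refine ⟨(yon S).map gO ≫ l, ?_⟩
  rw [Category.assoc]
  refine (congrArg (fun m => (yon S).map gO ≫ m) (hl.trans hqtoHom)).trans ?_
  rw [← Category.assoc, ← Functor.map_comp, hgO, Functor.map_comp, Category.assoc, sq.w, Category.assoc]

end Groth.Agent.Lib.Helper16.FactorMono
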