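import Mathlib
import Groth.Agent.Lib.Helper9.CommAlg
import Groth.Agent.Lib.Helper22.DimFlat
import Groth.Agent.Lib.Helper17.FibreCritSch
import Groth.Agent.Lib.Helper6.FiberStalkIso
import Groth.Agent.Lib.Helper12.JacDim

/-!
# Helper library (helper16): the dimension of the fibres of a composition
-/

set_option autoImplicit false
universe u
open CategoryTheory CategoryTheory.Limits AlgebraicGeometry

namespace Groth.Agent.Lib.Helper16.FibDimComp

open IsLocalRing

section Alg

/-- For local homomorphisms `R → A → B` of local rings with Noetherian fibre rings `A/m_R A` and `B/m_R B`: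
`dim B/m_R B ≤ dim A/m_R A + dim B/m_A B`, with equality when `B` is flat over `A`. -/
theorem dim_quot_le {R A B : Type u} [CommRing R] [CommRing A] [CommRing B]
    [IsLocalRing R] [IsLocalRing A] [IsLocalRing B]
    (φ : R →+* A) (ψ : A →+* B) [IsLocalHom φ] [IsLocalHom ψ]
    (hA : IsNoetherianRing (A ⧸ (maximalIdeal R).map φ))
    (hB : IsNoetherianRing (B ⧸ (maximalIdeal R).map (ψ.comp φ))) :
    ringKrullDim (B ⧸ (maximalIdeal R).map (ψ.comp φ)) ≤
      ringKrullDim (A ⧸ (maximalIdeal R).map φ) + ringKrullDim (B ⧸ (maximalIdeal A).map ψ) ∧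
    (ψ.Flat → ringKrullDim (B ⧸ (maximalIdeal R).map (ψ.comp φ)) =
      ringKrullDim (A ⧸ (maximalIdeal R).map φ) + ringKrullDim (B ⧸ (maximalIdeal A).map ψ)) := by
  generalize hI : (maximalIdeal R).map φ = I at hA ⊢
  generalize hJ : (maximalIdeal R).map (ψ.comp φ) = J at hB ⊢
  generalize hK : (maximalIdeal A).map ψ = K
  have hIJ : I.map ψ = J := by rw [← hI, ← hJ, Ideal.map_map]
  have hIle : I ≤ maximalIdeal A := by
    rw [← hI]; exact ((local_hom_TFAE φ).out 0 2).mp (inferInstance : IsLocalHom φ)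
  have hKle : K ≤ maximalIdeal B := by
    rw [← hK]; exact ((local_hom_TFAE ψ).out 0 2).mp (inferInstance : IsLocalHom ψ)
  have hJK : J ≤ K := by rw [← hIJ, ← hK]; exact Ideal.map_mono hIle
  have hI_ne : I ≠ ⊤ := fun h => (maximalIdeal.isMaximal A).ne_top (top_le_iff.mp (h ▸ hIle))
  have hJ_ne : J ≠ ⊤ := fun h =>
    (maximalIdeal.isMaximal B).ne_top (top_le_iff.mp (h ▸ hJK.trans hKle))
  haveI : Nontrivial (A ⧸ I) := Ideal.Quotient.nontrivial_iff.mpr hI_ne
  haveI : Nontrivial (B ⧸ J) := Ideal.Quotient.nontrivial_iff.mpr hJ_ne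
  haveI lA : IsLocalRing (A ⧸ I) :=
    IsLocalRing.of_surjective' (Ideal.Quotient.mk I) Ideal.Quotient.mk_surjective
  haveI lB : IsLocalRing (B ⧸ J) :=
    IsLocalRing.of_surjective' (Ideal.Quotient.mk J) Ideal.Quotient.mk_surjective
  have hle : I ≤ J.comap ψ := by rw [← Ideal.map_le_iff_le_comap, hIJ]
  haveI : IsLocalHom (Ideal.Quotient.mk J) :=
    IsLocalHom.of_surjective _ Ideal.Quotient.mk_surjective
  haveI : IsLocalHom (Ideal.Quotient.mk I) :=
    IsLocalHom.of_surjective _ Ideal.Quotient.mk_surjective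
  haveI lψ : IsLocalHom (Ideal.quotientMap J ψ hle) := ⟨fun ā hā => by
    obtain ⟨a, rfl⟩ := Ideal.Quotient.mk_surjective ā
    have h1 : IsUnit ((Ideal.Quotient.mk J) (ψ a)) := by
      rw [Ideal.quotientMap_mk] at hā
      exact hā
    have h2 : IsUnit (ψ a) := IsUnit.of_map (Ideal.Quotient.mk J) _ h1
    exact (IsUnit.of_map ψ a h2).map _⟩
  have hmax : maximalIdeal (A ⧸ I) = (maximalIdeal A).map (Ideal.Quotient.mk I) := by
    apply le_antisymm
    · intro x hx
      obtain ⟨a, rfl⟩ := Ideal.Quotient.mk_surjective x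
      have ha : a ∈ maximalIdeal A := by
        rw [mem_maximalIdeal, mem_nonunits_iff]
        intro hu
        exact ((mem_maximalIdeal _).mp hx) (hu.map _)
      exact Ideal.mem_map_of_mem _ ha
    · exact ((local_hom_TFAE (Ideal.Quotient.mk I)).out 0 2).mp (inferInstance : IsLocalHom (Ideal.Quotient.mk I))
  have hmap : (maximalIdeal (A ⧸ I)).map (Ideal.quotientMap J ψ hle) =
      K.map (Ideal.Quotient.mk J) := by
    rw [hmax, Ideal.map_map, Ideal.quotientMap_comp_mk, ← Ideal.map_map, hK]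
  let e : ((B ⧸ J) ⧸ K.map (Ideal.Quotient.mk J)) ≃+* (B ⧸ K) :=
    (DoubleQuot.quotQuotEquivQuotSup J K).trans (Ideal.quotEquivOfEq (sup_eq_right.mpr hJK))
  have hdim : ringKrullDim ((B ⧸ J) ⧸ (maximalIdeal (A ⧸ I)).map (Ideal.quotientMap J ψ hle)) =
      ringKrullDim (B ⧸ K) := by
    rw [hmap]
    exact ringKrullDim_eq_of_ringEquiv e
  constructor
  · have := Groth.Agent.Lib.Helper9.dim_le_of_localHom (A ⧸ I) (B ⧸ J) (Ideal.quotientMap J ψ hle)
    rwa [hdim] at this
  · intro hfl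
    letI aAB : Algebra A B := ψ.toAlgebra
    letI aab : Algebra (A ⧸ I) (B ⧸ J) := (Ideal.quotientMap J ψ hle).toAlgebra
    haveI : IsLocalHom (algebraMap (A ⧸ I) (B ⧸ J)) := lψ
    haveI hflat : Module.Flat A B := hfl
    haveI h1 : Module.Flat (A ⧸ I) (B ⧸ (I • (⊤ : Submodule A B))) :=
      (Groth.Agent.Lib.Helper17.FibreCritSch.flat_quot_iff I).mp inferInstance
    haveI : Module.Flat (A ⧸ I) (B ⧸ J) := by
      have hJr : (I • (⊤ : Submodule A B)) = J.restrictScalars A := by
        rw [Ideal.smul_top_eq_map]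
        exact congrArg (Submodule.restrictScalars A) hIJ
      let e₀ : (B ⧸ (I • (⊤ : Submodule A B))) ≃ₗ[A] (B ⧸ J) :=
        (Submodule.quotEquivOfEq _ _ hJr).trans (Submodule.Quotient.restrictScalarsEquiv A J)
      haveI : IsScalarTower A (A ⧸ I) (B ⧸ J) := IsScalarTower.of_algebraMap_smul fun a x => by
        obtain ⟨b, rfl⟩ := Ideal.Quotient.mk_surjective x
        rfl
      let e' : (B ⧸ (I • (⊤ : Submodule A B))) ≃ₗ[A ⧸ I] (B ⧸ J) :=
        LinearEquiv.extendScalarsOfSurjective Ideal.Quotient.mk_surjective e₀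
      exact Module.Flat.of_linearEquiv e'.symm
    have hsupp : Module.support (B ⧸ J) (B ⧸ J) = Set.univ := by
      rw [Module.support_eq_zeroLocus]
      have : Module.annihilator (B ⧸ J) (B ⧸ J) = ⊥ := by
        rw [eq_bot_iff]
        intro a ha
        have := (Module.mem_annihilator.mp ha) 1
        simpa using this
      rw [this]; exact PrimeSpectrum.zeroLocus_bot
    have := Groth.Agent.Lib.Helper22.DimFlat.dim_eq_of_flat_module (A ⧸ I) (B ⧸ J) (B ⧸ J) hsupp
    have h2 : ringKrullDim ((B ⧸ J) ⧸ (maximalIdeal (A ⧸ I)).map (algebraMap (A ⧸ I) (B ⧸ J))) =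
        ringKrullDim (B ⧸ K) := hdim
    rw [h2] at this
    exact this

end Alg

section Sch

open Groth.Agent.Lib.Helper6 Groth.Agent.Lib.Helper12.SchemeDimIneq Groth.Agent.Lib.Helper12

/-- The dimension of the fibres of a composition (at a point). -/
theorem fibreDimAt_comp {X Y S : Scheme.{u}} (f : X ⟶ Y) (g : Y ⟶ S) [LocallyOfFiniteType f]
    [LocallyOfFiniteType g] (x : X) :
    FlatMor.fibreDimAt (f ≫ g) x ≤ FlatMor.fibreDimAt f x + FlatMor.fibreDimAt g (f x) ∧
      ((f.stalkMap x).hom.Flat →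
        FlatMor.fibreDimAt (f ≫ g) x = FlatMor.fibreDimAt f x + FlatMor.fibreDimAt g (f x)) := by
  have e1 := ringKrullDim_eq_of_ringEquiv (fiberStalkEquiv (f ≫ g) x)
  have e2 := ringKrullDim_eq_of_ringEquiv (fiberStalkEquiv f x)
  have e3 := ringKrullDim_eq_of_ringEquiv (fiberStalkEquiv g (f x))
  have hcomp : ((f ≫ g).stalkMap x).hom = (f.stalkMap x).hom.comp (g.stalkMap (f x)).hom := by
    rw [Scheme.Hom.stalkMap_comp]
    rfl
  have hJ : fiberIdeal (f ≫ g) x =
      (maximalIdeal (S.presheaf.stalk (g (f x)))).map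
        ((f.stalkMap x).hom.comp (g.stalkMap (f x)).hom) := by
    show Ideal.map ((f ≫ g).stalkMap x).hom _ = _
    rw [hcomp]
    rfl
  have hN1 : IsNoetherianRing (X.presheaf.stalk x ⧸ fiberIdeal (f ≫ g) x) := by
    haveI : IsLocallyNoetherian ((f ≫ g).fiber ((f ≫ g) x)) := by
      unfold Scheme.Hom.fiber; infer_instance
    exact isNoetherianRing_of_ringEquiv _ (fiberStalkEquiv (f ≫ g) x)
  have hN3 : IsNoetherianRing (Y.presheaf.stalk (f x) ⧸ fiberIdeal g (f x)) := by
    haveI : IsLocallyNoetherian (g.fiber (g (f x))) := by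
      unfold Scheme.Hom.fiber; infer_instance
    exact isNoetherianRing_of_ringEquiv _ (fiberStalkEquiv g (f x))
  rw [hJ] at hN1 e1
  have key := dim_quot_le (g.stalkMap (f x)).hom (f.stalkMap x).hom hN3 hN1
  rw [fibreDimAt_eq_trn_add (f ≫ g) x, fibreDimAt_eq_trn_add f x, fibreDimAt_eq_trn_add g (f x),
    e1, e2, e3, JacDim.trn_comp f g x]
  constructor
  · calc ((trn g (f x) + trn f x : ℕ∞) : WithBot ℕ∞) + _
        ≤ ((trn g (f x) + trn f x : ℕ∞) : WithBot ℕ∞) + _ := add_le_add le_rfl key.1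
      _ = _ := by
        push_cast
        show _ = _ + ringKrullDim (X.presheaf.stalk x ⧸ fiberIdeal f x) +
          (_ + ringKrullDim (Y.presheaf.stalk (f x) ⧸ fiberIdeal g (f x)))
        unfold fiberIdeal
        abel
  · intro hfl
    rw [key.2 hfl]
    push_cast
    show _ = _ + ringKrullDim (X.presheaf.stalk x ⧸ fiberIdeal f x) +
      (_ + ringKrullDim (Y.presheaf.stalk (f x) ⧸ fiberIdeal g (f x)))
    unfold fiberIdeal
    abel

end Sch

end Groth.Agent.Lib.Helper16.FibDimComp
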