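import Groth.Agent.Lib.Helper16.UnivBdd
import Groth.Agent.Lib.Helper16.Charts
import Mathlib.RingTheory.Artinian.Module
import Mathlib.RingTheory.Spectrum.Maximal.Basic

/-!
# Helper library (helper16): universally bounded fibres bound the cardinality of the fibres
-/

set_option autoImplicit false
universe u
open CategoryTheory CategoryTheory.Limits AlgebraicGeometry Opposite

namespace Groth.Agent.Lib.Helper16

/-- The number of primes of a finite algebra over a field is at most its dimension. -/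
theorem natCard_primeSpectrum_le_finrank (K A : Type*) [Field K] [CommRing A] [Algebra K A]
    [Module.Finite K A] : Nat.card (PrimeSpectrum A) ≤ Module.finrank K A := by
  classical
  have hart : IsArtinianRing A := IsArtinianRing.of_finite K A
  have : Fintype (MaximalSpectrum A) := Fintype.ofFinite _
  rw [Nat.card_congr IsArtinianRing.primeSpectrumEquivMaximalSpectrum, Nat.card_eq_fintype_card]
  let f : A →ₗ[K] (∀ m : MaximalSpectrum A, A ⧸ m.asIdeal) :=
    LinearMap.pi fun m => (Ideal.Quotient.mkₐ K m.asIdeal).toLinearMap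
  have hf : Function.Surjective f := by
    intro x
    obtain ⟨r, hr⟩ := Ideal.pi_quotient_surjective (I := fun m : MaximalSpectrum A => m.asIdeal)
      (fun I J h => MaximalSpectrum.isCoprime_of_ne h) x
    exact ⟨r, funext fun m => hr m⟩
  have h1 := LinearMap.finrank_le_finrank_of_surjective hf
  rw [Module.finrank_pi_fintype] at h1
  have h2 : ∀ m : MaximalSpectrum A, 1 ≤ Module.finrank K (A ⧸ m.asIdeal) := by
    intro m
    have : Nontrivial (A ⧸ m.asIdeal) := Ideal.Quotient.nontrivial_iff.2 m.isMaximal.ne_top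
    exact Module.finrank_pos
  calc Fintype.card (MaximalSpectrum A) = ∑ _m : MaximalSpectrum A, 1 := by simp
    _ ≤ ∑ m, Module.finrank K (A ⧸ m.asIdeal) := Finset.sum_le_sum fun m _ => h2 m
    _ ≤ _ := h1

/-- A scheme finite over the spectrum of a field has at most as many points as its degree. -/
theorem natCard_le_finrank_of_isFinite {T : Scheme.{u}} {K : Type u} [Field K]
    (c : T ⟶ Spec (CommRingCat.of K)) [IsFinite c] (s : ↥(Spec (CommRingCat.of K))) :
    Finite ↥T ∧ Nat.card ↥T ≤ c.finrank s := by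
  have hT : IsAffine T := isAffine_of_isAffineHom c
  let ψ : CommRingCat.of K ⟶ Γ(T, ⊤) := (Scheme.ΓSpecIso (CommRingCat.of K)).inv ≫ c.appTop
  have hc : c = T.isoSpec.hom ≫ Spec.map ψ := by
    rw [Spec.map_comp, Scheme.isoSpec_hom_naturality_assoc, Scheme.isoSpec_Spec_hom,
      ← Spec.map_comp, Iso.inv_hom_id, Spec.map_id, Category.comp_id]
  have hfin : IsFinite (Spec.map ψ) := by
    have : IsFinite (T.isoSpec.hom ≫ Spec.map ψ) := hc ▸ inferInstance
    exact (MorphismProperty.cancel_left_of_respectsIso @IsFinite T.isoSpec.hom (Spec.map ψ)).1 this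
  have hψfin : ψ.hom.Finite := (IsFinite.SpecMap_iff ψ).1 hfin
  have hflat : Flat (Spec.map ψ) := inferInstance
  have hψflat : ψ.hom.Flat := Flat.SpecMap_iff.1 hflat
  letI : Algebra K Γ(T, ⊤) := ψ.hom.toAlgebra
  have hmf : Module.Finite K Γ(T, ⊤) := hψfin
  have e : ↥T ≃ PrimeSpectrum Γ(T, ⊤) := T.isoSpec.hom.homeomorph.toEquiv
  have hfinT : Finite ↥T := by
    have hart : IsArtinianRing Γ(T, ⊤) := IsArtinianRing.of_finite K Γ(T, ⊤)
    exact Finite.of_equiv _ e.symm
  refine ⟨hfinT, ?_⟩
  have h1 : c.finrank s = Module.finrank K Γ(T, ⊤) := by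
    rw [hc, Scheme.Hom.finrank_comp_left_of_isIso, Scheme.Hom.finrank_SpecMap_eq_finrank hψfin hψflat]
    change Module.rankAtStalk (R := K) Γ(T, ⊤) s = _
    rw [Module.rankAtStalk_eq_finrank_of_free]
    rfl
  rw [h1, Nat.card_congr e]
  exact natCard_primeSpectrum_le_finrank K Γ(T, ⊤)

variable {S : Scheme.{u}}

open AlgSp

/-- If `φ : h_U ⟶ X` has universally bounded fibres, the fibres of `|U| → |X|` are uniformly bounded. -/
theorem encard_fibre_le_of_hasUnivBddFibres (X : AlgSp.Space S) {U : Over S}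
    (φ : (AlgSp.yon S).obj U ⟶ X.obj) (hφ : W4dec.HasUnivBddFibres φ) :
    ∃ n : ℕ, ∀ x : AlgSp.Points X.obj, (AlgSp.Points.ofPt φ ⁻¹' {x}).encard ≤ n := by
  obtain ⟨n, hn⟩ := hφ
  refine ⟨n, ?_⟩
  intro x
  induction x using Points.ind with
  | h q =>
  obtain ⟨T, c, fst₀, sq⟩ := X.property.representable_from_yon φ q.toHom
  obtain ⟨σ, rfl⟩ := (yon S).map_surjective fst₀
  obtain ⟨hfin, hrk⟩ := hn q T c ((yon S).map σ) sq.flip
  let s₀ : ↥(Spec (CommRingCat.of q.K)) := IsLocalRing.closedPoint q.K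
  obtain ⟨hfinT, hcard⟩ := natCard_le_finrank_of_isFinite c.left s₀
  have hsub : Points.ofPt φ ⁻¹' {Points.mk q} ⊆ Set.range σ.left := by
    intro u hu
    have hu' : Points.ofPt φ u = Points.mk q := hu
    obtain ⟨v, -, hv⟩ := exists_point_of_isPullback_yon sq.flip (Points.ofScheme q.pt s₀) u
      (by rw [← Points.ofPt_eq_map_ofScheme, Points.ofPt_toHom, hu'])
    exact ⟨v, hv⟩
  calc (Points.ofPt φ ⁻¹' {Points.mk q}).encard ≤ (Set.range σ.left).encard :=
        Set.encard_le_encard hsub
    _ ≤ (Set.univ : Set ↥T.left).encard := by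
        rw [← Set.image_univ]; exact Set.encard_image_le _ _
    _ = (Nat.card ↥T.left : ℕ∞) := by
        rw [Set.encard_univ, ENat.card_eq_coe_natCard]
    _ ≤ n := by
        exact_mod_cast hcard.trans (hrk s₀)

end Groth.Agent.Lib.Helper16
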