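import Groth.Agent.Lib.Helper16.FibreCard
import Mathlib.AlgebraicGeometry.Limits
import Mathlib.RingTheory.RingHom.FaithfullyFlat

/-!
# Helper library (helper16): universally bounded fibres descend along flat surjective maps of charts
-/

set_option autoImplicit false
universe u
open CategoryTheory CategoryTheory.Limits AlgebraicGeometry Opposite

namespace Groth.Agent.Lib.Helper16

/-- `K`-algebra structure on the global sections of a scheme over `Spec K`. -/
@[reducible] noncomputable def gammaAlgebra {T : Scheme.{u}} {K : Type u} [Field K]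
    (c : T ⟶ Spec (CommRingCat.of K)) : Algebra K Γ(T, ⊤) :=
  ((Scheme.ΓSpecIso (CommRingCat.of K)).inv ≫ c.appTop).hom.toAlgebra

theorem eq_isoSpec_comp {T : Scheme.{u}} [IsAffine T] {K : Type u} [Field K]
    (c : T ⟶ Spec (CommRingCat.of K)) :
    c = T.isoSpec.hom ≫ Spec.map ((Scheme.ΓSpecIso (CommRingCat.of K)).inv ≫ c.appTop) := by
  rw [Spec.map_comp, Scheme.isoSpec_hom_naturality_assoc, Scheme.isoSpec_Spec_hom,
    ← Spec.map_comp, Iso.inv_hom_id, Spec.map_id, Category.comp_id]

theorem isFinite_iff_moduleFinite {T : Scheme.{u}} [IsAffine T] {K : Type u} [Field K]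
    (c : T ⟶ Spec (CommRingCat.of K)) :
    IsFinite c ↔ @Module.Finite K Γ(T, ⊤) _ _ (gammaAlgebra c).toModule := by
  have h1 : IsFinite c ↔
      IsFinite (Spec.map ((Scheme.ΓSpecIso (CommRingCat.of K)).inv ≫ c.appTop)) := by
    conv_lhs => rw [eq_isoSpec_comp c]
    exact MorphismProperty.cancel_left_of_respectsIso @IsFinite T.isoSpec.hom _
  rw [h1, IsFinite.SpecMap_iff]
  rfl

theorem finrank_eq_finrank_gamma {T : Scheme.{u}} [IsAffine T] {K : Type u} [Field K]
    (c : T ⟶ Spec (CommRingCat.of K)) [IsFinite c] (s : ↥(Spec (CommRingCat.of K))) :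
    c.finrank s = @Module.finrank K Γ(T, ⊤) _ _ (gammaAlgebra c).toModule := by
  let ψ : CommRingCat.of K ⟶ Γ(T, ⊤) := (Scheme.ΓSpecIso (CommRingCat.of K)).inv ≫ c.appTop
  have hc : c = T.isoSpec.hom ≫ Spec.map ψ := eq_isoSpec_comp c
  have hfin : IsFinite (Spec.map ψ) := by
    have : IsFinite (T.isoSpec.hom ≫ Spec.map ψ) := hc ▸ inferInstance
    exact (MorphismProperty.cancel_left_of_respectsIso @IsFinite T.isoSpec.hom (Spec.map ψ)).1 this
  have hψfin : ψ.hom.Finite := (IsFinite.SpecMap_iff ψ).1 hfin
  have hflat : Flat (Spec.map ψ) := inferInstance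
  have hψflat : ψ.hom.Flat := Flat.SpecMap_iff.1 hflat
  let _ : Algebra K Γ(T, ⊤) := gammaAlgebra c
  have hmf : Module.Finite K Γ(T, ⊤) := hψfin
  have h0 : c.finrank s = (Spec.map ψ).finrank s := by
    conv_lhs => rw [hc]
    rw [Scheme.Hom.finrank_comp_left_of_isIso]
  rw [h0, Scheme.Hom.finrank_SpecMap_eq_finrank hψfin hψflat]
  change Module.rankAtStalk (R := K) Γ(T, ⊤) s = _
  rw [Module.rankAtStalk_eq_finrank_of_free]
  rfl

/-- Finiteness over a field and the bound on the degree descend along flat surjective morphisms. -/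
theorem isFinite_of_flat_surjective {T' T : Scheme.{u}} {K : Type u} [Field K] (g : T' ⟶ T) [Flat g]
    [Surjective g] (c : T ⟶ Spec (CommRingCat.of K)) [IsFinite (g ≫ c)]
    (s : ↥(Spec (CommRingCat.of K))) :
    IsFinite c ∧ c.finrank s ≤ (g ≫ c).finrank s := by
  obtain ⟨hfinT', -⟩ := natCard_le_finrank_of_isFinite (g ≫ c) s
  have hT'aff : IsAffine T' := isAffine_of_isAffineHom (g ≫ c)
  let algT' : Algebra K Γ(T', ⊤) := gammaAlgebra (g ≫ c)
  have hmfT' : Module.Finite K Γ(T', ⊤) := (isFinite_iff_moduleFinite (g ≫ c)).1 inferInstance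
  have hdiscT' : DiscreteTopology ↥T' := by
    have hart : IsArtinianRing Γ(T', ⊤) := IsArtinianRing.of_finite K Γ(T', ⊤)
    have : DiscreteTopology ↥(Spec Γ(T', ⊤)) :=
      inferInstanceAs (DiscreteTopology (PrimeSpectrum Γ(T', ⊤)))
    exact T'.isoSpec.hom.homeomorph.symm.discreteTopology
  have hqc : QuasiCompact g := ⟨fun U _ _ => (Set.toFinite _).isCompact⟩
  have hquot := Flat.isQuotientMap_of_surjective g
  have hdiscT : DiscreteTopology ↥T := by
    rw [discreteTopology_iff_forall_isOpen]
    intro Z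
    rw [← hquot.isOpen_preimage]
    exact isOpen_discrete _
  have hfinT : Finite ↥T := Finite.of_surjective _ g.surjective
  have hTaff : IsAffine T := inferInstance
  let algT : Algebra K Γ(T, ⊤) := gammaAlgebra c
  -- the comparison map on global sections
  have hff : g.appTop.hom.FaithfullyFlat := by
    rw [← flat_and_surjective_SpecMap_iff]
    have e1 : Spec.map g.appTop = T'.isoSpec.inv ≫ g ≫ T.isoSpec.hom := by
      rw [← Scheme.isoSpec_hom_naturality, Iso.inv_hom_id_assoc]
    rw [e1]
    exact ⟨inferInstance, inferInstance⟩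
  have hinj : Function.Injective g.appTop.hom := hff.injective
  let φ : Γ(T, ⊤) →ₐ[K] Γ(T', ⊤) :=
    { g.appTop.hom with
      commutes' := fun k => rfl }
  have hφinj : Function.Injective φ.toLinearMap := hinj
  have hmfT : Module.Finite K Γ(T, ⊤) := Module.Finite.of_injective φ.toLinearMap hφinj
  have hfinc : IsFinite c := (isFinite_iff_moduleFinite c).2 hmfT
  refine ⟨hfinc, ?_⟩
  rw [finrank_eq_finrank_gamma c s, finrank_eq_finrank_gamma (g ≫ c) s]
  exact LinearMap.finrank_le_finrank_of_injective hφinj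

variable {S : Scheme.{u}}

open AlgSp

/-- Universally bounded fibres descend along a flat surjective morphism of charts. -/
theorem hasUnivBddFibres_of_flat_surjective (X : AlgSp.Space S) {U V : Over S} (f : U ⟶ V)
    [Surjective f.left] [Flat f.left] (h : (yon S).obj V ⟶ X.obj)
    (hg : W4dec.HasUnivBddFibres ((yon S).map f ≫ h)) : W4dec.HasUnivBddFibres h := by
  obtain ⟨n, hn⟩ := hg
  refine ⟨n, ?_⟩
  intro q T c snd sq
  obtain ⟨σ, rfl⟩ := (yon S).map_surjective snd
  have sqP : IsPullback (pullback.fst σ f) (pullback.snd σ f) σ f := IsPullback.of_hasPullback σ f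
  have sqY := sqP.map (yon S)
  have outer : IsPullback ((yon S).map (pullback.fst σ f ≫ c)) ((yon S).map (pullback.snd σ f))
      q.toHom ((yon S).map f ≫ h) := by
    rw [(yon S).map_comp]
    exact sqY.paste_horiz sq
  obtain ⟨hfin, hrk⟩ := hn q (pullback σ f) (pullback.fst σ f ≫ c) _ outer
  have sqL : IsPullback (pullback.fst σ f).left (pullback.snd σ f).left σ.left f.left :=
    sqP.map (Over.forget S)
  have hflat : Flat (pullback.fst σ f).left :=
    MorphismProperty.of_isPullback (P := @Flat) sqL.flip inferInstance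
  have hsurj : Surjective (pullback.fst σ f).left :=
    MorphismProperty.of_isPullback (P := @Surjective) sqL.flip inferInstance
  have hfin' : IsFinite ((pullback.fst σ f).left ≫ c.left) := hfin
  constructor
  · exact (isFinite_of_flat_surjective (pullback.fst σ f).left c.left
      (IsLocalRing.closedPoint q.K)).1
  · intro s
    exact ((isFinite_of_flat_surjective (pullback.fst σ f).left c.left s).2).trans (hrk s)

end Groth.Agent.Lib.Helper16
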