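import Mathlib

/-!
# Helper library (helper16): embedding small fields into large algebraically closed fields; lifting
field valued points along morphisms of schemes with small residue fields
-/

set_option autoImplicit false
universe u
open Cardinal CategoryTheory AlgebraicGeometry

namespace Groth.Agent.Lib.Helper16

/-- A field extension of small cardinality embeds in any algebraically closed extension of larger cardinality. -/
theorem exists_algHom_of_card_lt {F L K : Type u} [Field F] [Field L] [Field K] [Algebra F L] [Algebra F K]
    [IsAlgClosed K] (h : #L < #K) : Nonempty (L →ₐ[F] K) := by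
  by_cases hK : #K ≤ ℵ₀
  · have hL : #L < ℵ₀ := h.trans_le hK
    have : Finite L := Cardinal.lt_aleph0_iff_finite.mp hL
    have : Module.Finite F L := Module.Finite.of_finite
    have : Algebra.IsAlgebraic F L := Algebra.IsAlgebraic.of_finite F L
    exact ⟨IsAlgClosed.lift⟩
  · push Not at hK
    obtain ⟨s, hs⟩ := exists_isTranscendenceBasis F L
    obtain ⟨t, ht⟩ := exists_isTranscendenceBasis F K
    have hFL : #F ≤ #L := Cardinal.mk_le_of_injective (algebraMap F L).injective
    have hKt : #K ≤ #t := by
      have h1 := IsAlgClosed.cardinal_le_max_transcendence_basis' (R := F) (K' := K) _ ht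
      by_contra hlt
      push Not at hlt
      have : max (max #F #t) ℵ₀ < #K := max_lt (max_lt (hFL.trans_lt h) hlt) hK
      exact absurd h1 (not_le.mpr this)
    have hst : #s ≤ #t := ((Cardinal.mk_set_le s).trans h.le).trans hKt
    obtain ⟨e⟩ := (Cardinal.le_def _ _).mp hst
    have hind : AlgebraicIndependent F (fun i : s => ((e i : t) : K)) := ht.1.comp e e.injective
    let A := Algebra.adjoin F (Set.range ((↑) : s → L))
    let φ₀ : A →ₐ[F] K := (MvPolynomial.aeval (fun i : s => ((e i : t) : K))).comp hs.1.aevalEquiv.symm.toAlgHom
    have hφ₀ : Function.Injective φ₀ := by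
      have : Function.Injective (MvPolynomial.aeval (R := F) (fun i : s => ((e i : t) : K))) := hind
      exact this.comp hs.1.aevalEquiv.symm.injective
    letI : Algebra A K := φ₀.toRingHom.toAlgebra
    have : IsScalarTower F A K := IsScalarTower.of_algebraMap_eq fun x => (φ₀.commutes x).symm
    have : FaithfulSMul A K := (faithfulSMul_iff_algebraMap_injective A K).mpr hφ₀
    have : Algebra.IsAlgebraic A L := hs.isAlgebraic
    exact ⟨(IsAlgClosed.lift (R := A) (S := L) (M := K)).restrictScalars F⟩

/-- A finite extension of a field smaller than an infinite field is smaller than that field. -/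
theorem card_lt_of_finite {F L K : Type u} [Field F] [Field L] [Field K] [Algebra F L] [Module.Finite F L]
    [Infinite K] (h : #F < #K) : #L < #K := by
  rcases finite_or_infinite F with hF | hF
  · have : Finite L := Module.finite_of_finite F
    exact (Cardinal.lt_aleph0_of_finite L).trans_le (Cardinal.aleph0_le_mk K)
  · have : Algebra.IsAlgebraic F L := Algebra.IsAlgebraic.of_finite F L
    have h1 := Algebra.IsAlgebraic.cardinalMk_le_max F L
    rw [max_eq_left (Cardinal.aleph0_le_mk F)] at h1
    exact h1.trans_lt h

/-- Residue field extensions of unramified morphisms are finite. -/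
theorem finite_residueField_of_unramified {X Y : Scheme.{u}} (g : X ⟶ Y) [FormallyUnramified g]
    [LocallyOfFiniteType g] (x : X) :
    letI : Algebra (Y.residueField (g.base x)) (X.residueField x) := (g.residueFieldMap x).hom.toAlgebra
    Module.Finite (Y.residueField (g.base x)) (X.residueField x) := by
  algebraize [(g.stalkMap x).hom]
  have : IsLocalHom (algebraMap (Y.presheaf.stalk (g x)) (X.presheaf.stalk x)) :=
    inferInstanceAs <| IsLocalHom (g.stalkMap x).hom
  suffices h : Module.Finite
      (IsLocalRing.ResidueField <| Y.presheaf.stalk (g x))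
      (IsLocalRing.ResidueField <| X.presheaf.stalk x) by
    convert! h
    refine Module.ext' _ _ fun r m => ?_
    obtain ⟨r, rfl⟩ := IsLocalRing.residue_surjective r
    obtain ⟨m, rfl⟩ := IsLocalRing.residue_surjective m
    rfl
  have : Algebra.EssFiniteType (Y.presheaf.stalk (g x)) (X.presheaf.stalk x) := by
    rw [← RingHom.essFiniteType_algebraMap, RingHom.algebraMap_toAlgebra]
    exact LocallyOfFiniteType.stalkMap g x
  have : Algebra.FormallyUnramified (Y.presheaf.stalk (g x)) (X.presheaf.stalk x) := by
    rw [← RingHom.formallyUnramified_algebraMap, RingHom.algebraMap_toAlgebra]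
    exact FormallyUnramified.stalkMap g x
  infer_instance

/-- For an etale morphism, small residue fields downstairs give small residue fields upstairs. -/
theorem card_residueField_lt_of_etale {X Y : Scheme.{u}} (g : X ⟶ Y) [Etale g] (x : X) {K : Type u} [Field K]
    [Infinite K] (h : #(Y.residueField (g.base x)) < #K) : #(X.residueField x) < #K := by
  letI : Algebra (Y.residueField (g.base x)) (X.residueField x) := (g.residueFieldMap x).hom.toAlgebra
  have : Module.Finite (Y.residueField (g.base x)) (X.residueField x) := finite_residueField_of_unramified g x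
  exact card_lt_of_finite (F := Y.residueField (g.base x)) h

/-- A point with small residue field is the image of a point with values in any large algebraically closed field
given over its image. -/
theorem exists_fac_of_card_lt {X T : Scheme.{u}} (g : X ⟶ T) {Ω : Type u} [Field Ω] [IsAlgClosed Ω]
    (s : Spec (.of Ω) ⟶ T) (x : X) (hx : g x = s default) (hc : #(X.residueField x) < #Ω) :
    ∃ l : Spec (.of Ω) ⟶ X, l ≫ g = s ∧ l default = x := by
  obtain ⟨⟨s, a⟩, rfl⟩ := (Scheme.SpecToEquivOfField Ω T).symm.surjective s
  obtain rfl : g x = s := by simp [hx, Scheme.SpecToEquivOfField]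
  let m := (g.residueFieldMap x).hom
  dsimp at m
  algebraize [m, a.hom]
  obtain ⟨b⟩ := exists_algHom_of_card_lt (F := T.residueField (g x)) (L := X.residueField x) (K := Ω) hc
  obtain ⟨b', hb'⟩ : ∃ b' : X.residueField x ⟶ CommRingCat.of Ω, g.residueFieldMap x ≫ b' = a :=
    ⟨CommRingCat.ofHom b.toRingHom, by ext1; exact b.comp_algebraMap⟩
  refine ⟨Spec.map b' ≫ X.fromSpecResidueField x, ?_, ?_⟩
  · simp only [Scheme.SpecToEquivOfField, Equiv.coe_fn_symm_mk, ← hb', Category.assoc]
    rw [Spec.map_comp, Category.assoc, Scheme.Hom.SpecMap_residueFieldMap_fromSpecResidueField]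
  · dsimp
    apply Scheme.fromSpecResidueField_apply

end Groth.Agent.Lib.Helper16
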