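import Groth.Agent.Lib.Helper16.FieldLft

/-!
# Helper library (helper16): algebraic spaces locally of finite type over a field — discreteness and
dimension zero
-/

set_option autoImplicit false
universe u
open CategoryTheory CategoryTheory.Limits AlgebraicGeometry Opposite TopologicalSpace

namespace Groth.Agent.Lib.Helper16.DimZero

open AlgSp Groth.Agent.Lib.Helper16

variable {S : Scheme.{u}}

theorem topologicalKrullDim_nonneg_of_nonempty (T : Type*) [TopologicalSpace T] [Nonempty T] :
    0 ≤ topologicalKrullDim T := by
  obtain ⟨v⟩ := ‹Nonempty T›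
  have : Nonempty (IrreducibleCloseds T) :=
    ⟨⟨closure {v}, isIrreducible_singleton.closure, isClosed_closure⟩⟩
  exact Order.krullDim_nonneg

theorem topologicalKrullDim_le_dim {X : Sp S} {U : Over S} (a : (yon S).obj U ⟶ X) (ha : RepWith @Etale a) :
    topologicalKrullDim ↥U.left ≤ dim X := by
  unfold dim
  exact le_iSup_of_le U (le_iSup_of_le a (le_iSup_of_le ha le_rfl))

theorem zero_le_dim_of_nonempty {X : Sp S} (hX : IsAlgSpace X) [Nonempty (Points X)] : 0 ≤ dim X := by
  obtain ⟨V, b, hbe, hbs⟩ := hX.atlas
  obtain ⟨x⟩ := ‹Nonempty (Points X)›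
  obtain ⟨v, -⟩ := ofPt_surjective_of_surjective b hbs x
  have : Nonempty ↥V.left := ⟨v⟩
  exact (topologicalKrullDim_nonneg_of_nonempty ↥V.left).trans (topologicalKrullDim_le_dim b hbe)

section Field

variable {k : Type u} [Field k] {X : Sp (Spec (CommRingCat.of k))}
  (p : X ⟶ (yon (Spec (CommRingCat.of k))).obj (Over.mk (𝟙 _))) (hp : LocP @LocallyOfFiniteType p)

include hp in
theorem discreteTopology_chart_of_discrete_points (hX : IsAlgSpace X) [DiscreteTopology (Points X)]
    {U : Over (Spec (CommRingCat.of k))} (a : (yon _).obj U ⟶ X) (ha : RepWith @Etale a) :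
    DiscreteTopology ↥U.left := by
  have hN := isLocNoethSp_of_lft_field p hp hX
  have : IsLocallyNoetherian U.left := isLocallyNoetherian_chart p hp a ha
  rw [discreteTopology_iff_isOpen_singleton]
  intro u
  exact isOpen_singleton_of_isOpen_singleton_ofPt hN a ha u (isOpen_discrete _)

include hp in
theorem discreteTopology_iff_dim_eq_zero (hX : IsAlgSpace X) [Nonempty (Points X)] :
    DiscreteTopology (Points X) ↔ dim X = 0 := by
  constructor
  · intro hD
    apply le_antisymm _ (zero_le_dim_of_nonempty hX)
    unfold dim
    refine iSup_le fun U => iSup_le fun a => iSup_le fun ha => ?_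
    have := discreteTopology_chart_of_discrete_points p hp hX a ha
    exact topologicalKrullDim_zero_of_discreteTopology _
  · intro h
    obtain ⟨V, b, hbe, hbs⟩ := hX.atlas
    have : IsLocallyNoetherian V.left := isLocallyNoetherian_chart p hp b hbe
    have hV : topologicalKrullDim ↥V.left ≤ 0 := h ▸ topologicalKrullDim_le_dim b hbe
    have := discreteTopology_of_topologicalKrullDim_le_zero _ hV
    exact discreteTopology_points_of_atlas b hbe hbs

include hp in
theorem discreteTopology_of_topologicalKrullDim_eq_zero (hX : IsAlgSpace X) [T0Space (Points X)]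
    (h : topologicalKrullDim (Points X) = 0) : DiscreteTopology (Points X) := by
  have hN := isLocNoethSp_of_lft_field p hp hX
  obtain ⟨V, b, hbe, hbs⟩ := hX.atlas
  have : IsLocallyNoetherian V.left := isLocallyNoetherian_chart p hp b hbe
  have hspec : ∀ z z' : ↥V.left, z' ⤳ z → z' = z := by
    intro z z' hs
    have h1 := eq_of_specializes_of_topologicalKrullDim_le_zero h.le
      (hs.map (Points.continuous_ofPt b))
    exact (eq_of_specializes_of_isLocNoethSp hN b hbe z z' h1.symm hs).symm
  have := discreteTopology_of_forall_specializes_eq _ hspec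
  exact discreteTopology_points_of_atlas b hbe hbs

include hp in
theorem dim_eq_zero_of_finite (hX : IsAlgSpace X) (hd : IsDecent X) [Finite (Points X)]
    [Nonempty (Points X)] : dim X = 0 := by
  apply le_antisymm _ (zero_le_dim_of_nonempty hX)
  unfold dim
  refine iSup_le fun U => iSup_le fun a => iSup_le fun ha => ?_
  have hJ : JacobsonSpace ↥U.left := jacobsonSpace_chart p hp a ha
  have hD : DiscreteTopology ↥U.left := by
    rw [discreteTopology_iff_isOpen_singleton]
    intro u
    obtain ⟨_, ⟨W, hW, rfl⟩, huW, -⟩ :=
      U.left.isBasis_affineOpens.exists_subset_of_mem_open (Set.mem_univ u) isOpen_univ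
    have hfin : (W : Set ↥U.left).Finite := by
      refine (Set.finite_iUnion fun x : Points X =>
        FtPt.finite_fibre_inter_affine hd a ha x W hW).subset ?_
      intro z hz
      exact Set.mem_iUnion.2 ⟨Points.ofPt a z, rfl, hz⟩
    have : Finite (W : Set ↥U.left) := hfin.to_subtype
    have : JacobsonSpace (W : Set ↥U.left) :=
      JacobsonSpace.of_isOpenEmbedding W.2.isOpenEmbedding_subtypeVal
    have h3 := W.2.isOpenEmbedding_subtypeVal.isOpenMap _
      (isOpen_discrete ({(⟨u, huW⟩ : (W : Set ↥U.left))} : Set (W : Set ↥U.left)))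
    rwa [Set.image_singleton] at h3
  exact topologicalKrullDim_zero_of_discreteTopology _

end Field

end Groth.Agent.Lib.Helper16.DimZero
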