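import Groth.Agent.Lib.Helper16.FieldQuotAlg
import Groth.Agent.Lib.Helper16.LocSurj
import Groth.Agent.Lib.Helper16.Rep
import Groth.Agent.Lib.Helper5.SheafGrpQuot
import Groth.Agent.Lib.Helper16.FibreFlat
import Groth.Agent.Lib.Helper16.UnivInj

/-!
# Helper library (helper16): the quotient of the spectrum of a field by a finite equivalence relation

If `p : h_{Spec K} ⟶ X` has kernel pair represented by `Spec B` finite over `Spec K`, then `p` factors through a
finite flat surjective `Spec K ⟶ Spec k` followed by a monomorphism `h_{Spec k} ⟶ X`.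
-/

set_option autoImplicit false
universe u
open CategoryTheory CategoryTheory.Limits AlgebraicGeometry Opposite Topology TensorProduct

namespace Groth.Agent.Lib.Helper16

open AlgSp

variable {S : Scheme.{u}}

/-- If `p = e ≫ p'` with `e` an epimorphism of sheaves whose kernel pair contains that of `p`, then `p'` is a
monomorphism. -/
theorem mono_of_epi_fac {A Q X : Sp S} (e : A ⟶ Q) [Epi e] (p' : Q ⟶ X)
    (h : ∀ (Z : Sp S) (a b : Z ⟶ A), a ≫ e ≫ p' = b ≫ e ≫ p' → a ≫ e = b ≫ e) : Mono p' := by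
  constructor
  intro Z a b hab
  have sq1 := IsPullback.of_hasPullback a e
  have hepi1 : Epi (pullback.fst a e) := Helper5.SheafGrpQuot.epi_of_isPullback (J S) sq1
  have sq2 := IsPullback.of_hasPullback (pullback.fst a e ≫ b) e
  have hepi2 : Epi (pullback.fst (pullback.fst a e ≫ b) e) :=
    Helper5.SheafGrpQuot.epi_of_isPullback (J S) sq2
  have h1 : (pullback.fst (pullback.fst a e ≫ b) e ≫ pullback.snd a e) ≫ e =
      (pullback.fst (pullback.fst a e ≫ b) e ≫ pullback.fst a e) ≫ a := by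
    rw [Category.assoc, Category.assoc, sq1.w]
  have h2 : pullback.snd (pullback.fst a e ≫ b) e ≫ e =
      (pullback.fst (pullback.fst a e ≫ b) e ≫ pullback.fst a e) ≫ b := by
    rw [Category.assoc, sq2.w]
  have h3 := h _ (pullback.fst (pullback.fst a e ≫ b) e ≫ pullback.snd a e)
    (pullback.snd (pullback.fst a e ≫ b) e) (by
      rw [← Category.assoc, ← Category.assoc, h1, h2, Category.assoc, Category.assoc, hab]
      simp only [Category.assoc])
  rw [h1, h2] at h3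
  have : Epi (pullback.fst (pullback.fst a e ≫ b) e ≫ pullback.fst a e) := epi_comp _ _
  exact (cancel_epi _).1 h3


open FieldQuotAlg in
/-- The quotient of the spectrum of a field by a finite equivalence relation (affine form). -/
theorem exists_mono_desc_of_finite_kernelPair_aff {X : Sp S} (K : Type u) [Field K] (B : CommRingCat.{u})
    (σ τ : CommRingCat.of K ⟶ B) (hσ : σ.hom.Finite)
    (str : Spec (CommRingCat.of K) ⟶ S) (strB : Spec B ⟶ S)
    (hσs : Spec.map σ ≫ str = strB) (hτs : Spec.map τ ≫ str = strB)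
    (p : (yon S).obj (Over.mk str) ⟶ X)
    (hF : IsPullback ((yon S).map (Over.homMk (Spec.map σ) hσs : Over.mk strB ⟶ Over.mk str))
        ((yon S).map (Over.homMk (Spec.map τ) hτs : Over.mk strB ⟶ Over.mk str)) p p) :
    ∃ (k : Type u) (_ : Field k) (str' : Spec (CommRingCat.of k) ⟶ S) (c : Over.mk str ⟶ Over.mk str')
      (p' : (yon S).obj (Over.mk str') ⟶ X), Mono p' ∧ (yon S).map c ≫ p' = p ∧ IsFinite c.left ∧
        Flat c.left ∧ Surjective c.left := by
  obtain ⟨s, hs⟩ : ∃ s : Over.mk strB ⟶ Over.mk str, s = Over.homMk (Spec.map σ) hσs := ⟨_, rfl⟩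
  obtain ⟨t, ht⟩ : ∃ t : Over.mk strB ⟶ Over.mk str, t = Over.homMk (Spec.map τ) hτs := ⟨_, rfl⟩
  rw [← hs, ← ht] at hF
  have hsl : s.left = Spec.map σ := by rw [hs]; rfl
  have htl : t.left = Spec.map τ := by rw [ht]; rfl
  let _ : Algebra K B := σ.hom.toAlgebra
  have : Module.Finite K B := hσ
  -- the unit
  obtain ⟨δ, hδ⟩ := (yon S).map_surjective (hF.lift (𝟙 _) (𝟙 _) rfl)
  have hδs : δ ≫ s = 𝟙 _ :=
    (yon S).map_injective (by rw [Functor.map_comp, hδ, hF.lift_fst, yon_map_id])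
  have hδt : δ ≫ t = 𝟙 _ :=
    (yon S).map_injective (by rw [Functor.map_comp, hδ, hF.lift_snd, yon_map_id])
  obtain ⟨e, he⟩ := Spec.map_surjective (R := B) (S := CommRingCat.of K) δ.left
  have hσe : σ ≫ e = 𝟙 _ := Spec.map_injective (by
    rw [Spec.map_comp, he, ← hsl, ← Over.comp_left, hδs]; simp)
  have hτe : τ ≫ e = 𝟙 _ := Spec.map_injective (by
    rw [Spec.map_comp, he, ← htl, ← Over.comp_left, hδt]; simp)
  -- the composition
  obtain ⟨iL, hiL⟩ : ∃ iL : B ⟶ CommRingCat.of (B ⊗[K] B),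
      iL = CommRingCat.ofHom Algebra.TensorProduct.includeLeftRingHom := ⟨_, rfl⟩
  obtain ⟨iR, hiR⟩ : ∃ iR : B ⟶ CommRingCat.of (B ⊗[K] B),
      iR = CommRingCat.ofHom (Algebra.TensorProduct.includeRight (R := K) (A := B) (B := B)).toRingHom :=
    ⟨_, rfl⟩
  have hLR : σ ≫ iL = σ ≫ iR := by
    rw [hiL, hiR]
    ext a
    show (algebraMap K B a) ⊗ₜ[K] (1 : B) = (1 : B) ⊗ₜ[K] (algebraMap K B a)
    rw [Algebra.algebraMap_eq_smul_one, TensorProduct.smul_tmul]
  have hstrR : Spec.map iR ≫ strB = Spec.map iL ≫ strB := by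
    rw [← hσs, ← Category.assoc, ← Spec.map_comp, ← hLR, Spec.map_comp, Category.assoc]
  obtain ⟨π₁, hπ₁⟩ : ∃ π₁ : Over.mk (Spec.map iL ≫ strB) ⟶ Over.mk strB, π₁.left = Spec.map iL :=
    ⟨Over.homMk (Spec.map iL) rfl, rfl⟩
  obtain ⟨π₂, hπ₂⟩ : ∃ π₂ : Over.mk (Spec.map iL ≫ strB) ⟶ Over.mk strB, π₂.left = Spec.map iR :=
    ⟨Over.homMk (Spec.map iR) hstrR, rfl⟩
  have hπ : π₁ ≫ s = π₂ ≫ s := by
    ext
    rw [Over.comp_left, Over.comp_left, hπ₁, hπ₂, hsl, ← Spec.map_comp, ← Spec.map_comp, hLR]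
  have hcomm : (yon S).map (π₁ ≫ t) ≫ p = (yon S).map (π₂ ≫ t) ≫ p := by
    rw [Functor.map_comp, Functor.map_comp, Category.assoc, Category.assoc, ← hF.w, ← Category.assoc,
      ← Category.assoc, ← Functor.map_comp, ← Functor.map_comp, hπ]
  obtain ⟨γ, hγ⟩ := (yon S).map_surjective (hF.lift _ _ hcomm)
  have hγs : γ ≫ s = π₁ ≫ t := (yon S).map_injective (by rw [Functor.map_comp, hγ, hF.lift_fst])
  have hγt : γ ≫ t = π₂ ≫ t := (yon S).map_injective (by rw [Functor.map_comp, hγ, hF.lift_snd])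
  obtain ⟨c', hc'⟩ := Spec.map_surjective (R := B) (S := CommRingCat.of (B ⊗[K] B)) γ.left
  have hc1 : σ ≫ c' = τ ≫ iL := Spec.map_injective (by
    have := congrArg Over.Hom.left hγs
    rw [Over.comp_left, Over.comp_left, hsl, htl, hπ₁, ← hc'] at this
    rw [Spec.map_comp, Spec.map_comp]; exact this)
  have hc2 : τ ≫ c' = τ ≫ iR := Spec.map_injective (by
    have := congrArg Over.Hom.left hγt
    rw [Over.comp_left, Over.comp_left, htl, hπ₂, ← hc'] at this
    rw [Spec.map_comp, Spec.map_comp]; exact this)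
  -- joint monomorphy in ring terms
  have hepi : ∀ (C : Type u) [CommRing C] (f g : B →+* C),
      f.comp (algebraMap K B) = g.comp (algebraMap K B) → f.comp τ.hom = g.comp τ.hom → f = g := by
    intro C _ f g h1 h2
    have h1' : σ ≫ CommRingCat.ofHom f = σ ≫ CommRingCat.ofHom g := CommRingCat.hom_ext h1
    have h2' : τ ≫ CommRingCat.ofHom f = τ ≫ CommRingCat.ofHom g := CommRingCat.hom_ext h2
    have hstr : Spec.map (CommRingCat.ofHom g) ≫ strB = Spec.map (CommRingCat.ofHom f) ≫ strB := by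
      rw [← hσs, ← Category.assoc, ← Spec.map_comp, ← h1', Spec.map_comp, Category.assoc]
    obtain ⟨r, hr⟩ : ∃ r : Over.mk (Spec.map (CommRingCat.ofHom f) ≫ strB) ⟶ Over.mk strB,
        r.left = Spec.map (CommRingCat.ofHom f) := ⟨Over.homMk (Spec.map (CommRingCat.ofHom f)) rfl, rfl⟩
    obtain ⟨r', hr'⟩ : ∃ r' : Over.mk (Spec.map (CommRingCat.ofHom f) ≫ strB) ⟶ Over.mk strB,
        r'.left = Spec.map (CommRingCat.ofHom g) := ⟨Over.homMk (Spec.map (CommRingCat.ofHom g)) hstr, rfl⟩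
    have hrs : r ≫ s = r' ≫ s := by
      ext
      rw [Over.comp_left, Over.comp_left, hr, hr', hsl, ← Spec.map_comp, ← Spec.map_comp, h1']
    have hrt : r ≫ t = r' ≫ t := by
      ext
      rw [Over.comp_left, Over.comp_left, hr, hr', htl, ← Spec.map_comp, ← Spec.map_comp, h2']
    have hyon : (yon S).map r = (yon S).map r' := hF.hom_ext
      (by rw [← Functor.map_comp, ← Functor.map_comp, hrs])
      (by rw [← Functor.map_comp, ← Functor.map_comp, hrt])
    have hrr : r = r' := (yon S).map_injective hyon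
    have h3 : Spec.map (CommRingCat.ofHom f) = Spec.map (CommRingCat.ofHom g) := by
      rw [← hr, ← hr', hrr]
    exact congrArg CommRingCat.Hom.hom (Spec.map_injective h3)
  -- the algebra
  have hc1' : ∀ a, c'.hom (algebraMap K B a) = τ.hom a ⊗ₜ[K] 1 := by
    intro a
    have := congrArg (fun f => f.hom a) hc1
    rw [hiL] at this
    exact this
  have hc2' : ∀ a, c'.hom (τ.hom a) = 1 ⊗ₜ[K] τ.hom a := by
    intro a
    have := congrArg (fun f => f.hom a) hc2
    rw [hiR] at this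
    exact this
  have he1' : ∀ a, e.hom (algebraMap K B a) = a := fun a => congrArg (fun f => f.hom a) hσe
  have he2' : ∀ a, e.hom (τ.hom a) = a := fun a => congrArg (fun f => f.hom a) hτe
  obtain ⟨K₀, hK₀⟩ : ∃ K₀ : Subfield K, K₀ = eqSubfield τ.hom := ⟨_, rfl⟩
  obtain ⟨Ψ, hΨ1, hΨ2⟩ : ∃ Ψ : B →+* K ⊗[K₀] K, (∀ a, Ψ (algebraMap K B a) = a ⊗ₜ 1) ∧
      (∀ a, Ψ (τ.hom a) = 1 ⊗ₜ a) := by
    subst hK₀
    exact exists_inverse τ.hom c'.hom hc1' hc2' e.hom he1' he2' hepi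
  have hfinK : Module.Finite K₀ K := by
    subst hK₀
    exact finite_over_eqSubfield τ.hom c'.hom hc1' hc2' e.hom he1' he2'
  have hmem : ∀ a : K, a ∈ K₀ ↔ σ.hom a = τ.hom a := by
    subst hK₀
    exact fun a => Iff.rfl
  have hK₀mem : ∀ a : K₀, σ.hom (a : K) = τ.hom (a : K) := fun a => (hmem a).1 a.2
  obtain ⟨ι, hι⟩ : ∃ ι : CommRingCat.of K₀ ⟶ CommRingCat.of K, ι = CommRingCat.ofHom K₀.subtype := ⟨_, rfl⟩
  have hισ : ι ≫ σ = ι ≫ τ := by
    rw [hι]
    ext a
    exact hK₀mem a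
  -- the structure morphism of `Spec K₀`
  obtain ⟨W, hW, hxW⟩ : ∃ W : S.Opens, IsAffineOpen W ∧ str (IsLocalRing.closedPoint K) ∈ W := by
    obtain ⟨_, ⟨W, hW, rfl⟩, hx, -⟩ := S.isBasis_affineOpens.exists_subset_of_mem_open
      (Set.mem_univ (str (IsLocalRing.closedPoint K))) isOpen_univ
    exact ⟨W, hW, hx⟩
  have hrange : Set.range str ⊆ Set.range hW.fromSpec := by
    rw [hW.range_fromSpec]
    rintro _ ⟨y, rfl⟩
    have : y = IsLocalRing.closedPoint K := Subsingleton.elim (α := PrimeSpectrum K) _ _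
    rw [this]
    exact hxW
  obtain ⟨ρ, hρ⟩ := Spec.map_surjective (R := Γ(S, W)) (S := CommRingCat.of K)
    (IsOpenImmersion.lift hW.fromSpec str hrange)
  have hρ' : Spec.map ρ ≫ hW.fromSpec = str := by rw [hρ, IsOpenImmersion.lift_fac]
  have hρστ : ρ ≫ σ = ρ ≫ τ := by
    apply Spec.map_injective
    rw [Spec.map_comp, Spec.map_comp, ← cancel_mono hW.fromSpec, Category.assoc, Category.assoc, hρ', hσs,
      hτs]
  obtain ⟨ρ₀, hρ₀⟩ : ∃ ρ₀ : Γ(S, W) ⟶ CommRingCat.of K₀, ρ₀ ≫ ι = ρ := by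
    refine ⟨CommRingCat.ofHom (ρ.hom.codRestrict K₀ (fun a => ?_)), ?_⟩
    · exact (hmem _).2 (congrArg (fun f => f.hom a) hρστ)
    · rw [hι]
      ext a
      rfl
  obtain ⟨str₀, hstr₀⟩ : ∃ str₀ : Spec (CommRingCat.of K₀) ⟶ S, str₀ = Spec.map ρ₀ ≫ hW.fromSpec := ⟨_, rfl⟩
  have hstr : Spec.map ι ≫ str₀ = str := by
    rw [hstr₀, ← Category.assoc, ← Spec.map_comp, hρ₀, hρ']
  obtain ⟨c, hcl⟩ : ∃ c : Over.mk str ⟶ Over.mk str₀, c.left = Spec.map ι :=
    ⟨Over.homMk (Spec.map ι) hstr, rfl⟩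
  have hιfin : ι.hom.Finite := by
    rw [hι]
    exact RingHom.finite_algebraMap.2 hfinK
  have hfin : IsFinite c.left := by
    rw [hcl, IsFinite.SpecMap_iff]
    exact hιfin
  have hflat : Flat c.left := by
    rw [hcl, Flat.SpecMap_iff, hι]
    exact RingHom.flat_algebraMap_iff.2 inferInstance
  have hsurj : Surjective c.left := by
    rw [hcl]
    exact ⟨fun x => ⟨IsLocalRing.closedPoint K, Subsingleton.elim (α := PrimeSpectrum K₀) _ _⟩⟩
  have hlfp : LocallyOfFinitePresentation c.left := by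
    rw [hcl, LocallyOfFinitePresentation.SpecMap_iff]
    exact RingHom.FinitePresentation.of_finiteType.1 (RingHom.FiniteType.of_finite hιfin)
  have hepic : Epi ((yon S).map c) := by
    have : Sheaf.IsLocallySurjective ((yon S).map c) :=
      isLocallySurjective_of_repWith_fppf _ ((repWith_yon_map_iff _ _).2 hflat)
        ((repWith_yon_map_iff _ _).2 hlfp) ((repWith_yon_map_iff _ _).2 hsurj)
    infer_instance
  have hsc : s ≫ c = t ≫ c := by
    ext
    rw [Over.comp_left, Over.comp_left, hsl, htl, hcl, ← Spec.map_comp, ← Spec.map_comp, hισ]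
  -- descending `p`
  have heff : EffectiveEpi ((yon S).map c) := Helper5.SheafGrpQuot.effectiveEpi_of_epi (J S) _
  obtain ⟨jL, hjL⟩ : ∃ jL : CommRingCat.of K ⟶ CommRingCat.of (K ⊗[K₀] K),
      jL = CommRingCat.ofHom Algebra.TensorProduct.includeLeftRingHom := ⟨_, rfl⟩
  obtain ⟨jR, hjR⟩ : ∃ jR : CommRingCat.of K ⟶ CommRingCat.of (K ⊗[K₀] K),
      jR = CommRingCat.ofHom (Algebra.TensorProduct.includeRight (R := K₀) (A := K) (B := K)).toRingHom :=
    ⟨_, rfl⟩
  have sqT : IsPullback (Spec.map jL) (Spec.map jR) (Spec.map ι) (Spec.map ι) := by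
    rw [hjL, hjR, hι]
    exact isPullback_SpecMap_of_isPushout _ _ _ _ (CommRingCat.isPushout_tensorProduct K₀ K K)
  have hΨσ : σ ≫ CommRingCat.ofHom Ψ = jL := by
    rw [hjL]
    ext a
    exact hΨ1 a
  have hΨτ : τ ≫ CommRingCat.ofHom Ψ = jR := by
    rw [hjR]
    ext a
    exact hΨ2 a
  have hdesc : ∀ {Z : Sp S} (g₁ g₂ : Z ⟶ (yon S).obj (Over.mk str)),
      g₁ ≫ (yon S).map c = g₂ ≫ (yon S).map c → g₁ ≫ p = g₂ ≫ p := by
    intro Z g₁ g₂ h
    apply sp_hom_ext
    intro T z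
    obtain ⟨γ₁, hγ₁⟩ := (yon S).map_surjective (z ≫ g₁)
    obtain ⟨γ₂, hγ₂⟩ := (yon S).map_surjective (z ≫ g₂)
    have h12 : γ₁ ≫ c = γ₂ ≫ c := (yon S).map_injective (by
      rw [Functor.map_comp, Functor.map_comp, hγ₁, hγ₂, Category.assoc, Category.assoc, h])
    have h12l : γ₁.left ≫ Spec.map ι = γ₂.left ≫ Spec.map ι := by
      rw [← hcl, ← Over.comp_left, ← Over.comp_left, h12]
    obtain ⟨lam, hl1, hl2⟩ : ∃ lam : T.left ⟶ Spec (CommRingCat.of (K ⊗[K₀] K)),
        lam ≫ Spec.map jL = γ₁.left ∧ lam ≫ Spec.map jR = γ₂.left :=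
      ⟨sqT.lift _ _ h12l, sqT.lift_fst _ _ _, sqT.lift_snd _ _ _⟩
    have hr1 : (lam ≫ Spec.map (CommRingCat.ofHom Ψ)) ≫ Spec.map σ = γ₁.left := by
      rw [Category.assoc, ← Spec.map_comp, hΨσ, hl1]
    have hr2 : (lam ≫ Spec.map (CommRingCat.ofHom Ψ)) ≫ Spec.map τ = γ₂.left := by
      rw [Category.assoc, ← Spec.map_comp, hΨτ, hl2]
    obtain ⟨r, hr⟩ : ∃ r : T ⟶ Over.mk strB, r.left = lam ≫ Spec.map (CommRingCat.ofHom Ψ) :=
      ⟨Over.homMk (lam ≫ Spec.map (CommRingCat.ofHom Ψ)) (by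
        show (lam ≫ Spec.map (CommRingCat.ofHom Ψ)) ≫ strB = T.hom
        rw [← hσs, ← Category.assoc, hr1]
        exact Over.w γ₁), rfl⟩
    have hrs : r ≫ s = γ₁ := by
      ext
      rw [Over.comp_left, hr, hsl, hr1]
    have hrt : r ≫ t = γ₂ := by
      ext
      rw [Over.comp_left, hr, htl, hr2]
    calc z ≫ g₁ ≫ p = (yon S).map γ₁ ≫ p := by rw [← Category.assoc, hγ₁]
      _ = (yon S).map r ≫ (yon S).map s ≫ p := by rw [← hrs, Functor.map_comp, Category.assoc]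
      _ = (yon S).map r ≫ (yon S).map t ≫ p := by rw [hF.w]
      _ = z ≫ g₂ ≫ p := by rw [← Category.assoc, ← Functor.map_comp, hrt, hγ₂, Category.assoc]
  obtain ⟨p', hp'⟩ : ∃ p' : (yon S).obj (Over.mk str₀) ⟶ X, (yon S).map c ≫ p' = p :=
    ⟨EffectiveEpi.desc ((yon S).map c) p (fun g₁ g₂ h => hdesc g₁ g₂ h), EffectiveEpi.fac _ _ _⟩
  have hmono : Mono p' := by
    apply mono_of_epi_fac ((yon S).map c) p'
    intro Z a b hab
    rw [hp'] at hab
    apply sp_hom_ext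
    intro T z
    obtain ⟨α, hα⟩ := (yon S).map_surjective (z ≫ a)
    obtain ⟨β, hβ⟩ := (yon S).map_surjective (z ≫ b)
    have hαβ : (yon S).map α ≫ p = (yon S).map β ≫ p := by
      rw [hα, hβ, Category.assoc, Category.assoc, hab]
    obtain ⟨r, hr⟩ := (yon S).map_surjective (hF.lift _ _ hαβ)
    have hrs : r ≫ s = α := (yon S).map_injective (by rw [Functor.map_comp, hr, hF.lift_fst])
    have hrt : r ≫ t = β := (yon S).map_injective (by rw [Functor.map_comp, hr, hF.lift_snd])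
    rw [← Category.assoc, ← Category.assoc, ← hα, ← hβ, ← Functor.map_comp, ← Functor.map_comp, ← hrs, ← hrt,
      Category.assoc, Category.assoc, hsc]
  exact ⟨K₀, inferInstance, str₀, c, p', hmono, hp', hfin, hflat, hsurj⟩


/-- The quotient of the spectrum of a field by a finite equivalence relation. -/
theorem exists_mono_desc_of_finite_kernelPair {X : Sp S} (K : Type u) [Field K]
    (str : Spec (CommRingCat.of K) ⟶ S) (p : (yon S).obj (Over.mk str) ⟶ X)
    {F : Over S} (s t : F ⟶ Over.mk str) (hF : IsPullback ((yon S).map s) ((yon S).map t) p p)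
    (hs : IsFinite s.left) :
    ∃ (k : Type u) (_ : Field k) (str' : Spec (CommRingCat.of k) ⟶ S) (c : Over.mk str ⟶ Over.mk str')
      (p' : (yon S).obj (Over.mk str') ⟶ X), Mono p' ∧ (yon S).map c ≫ p' = p ∧ IsFinite c.left ∧
        Flat c.left ∧ Surjective c.left := by
  obtain ⟨s₁, hs₁⟩ : ∃ s₁ : F.left ⟶ Spec (CommRingCat.of K), s₁ = s.left := ⟨_, rfl⟩
  obtain ⟨t₁, ht₁⟩ : ∃ t₁ : F.left ⟶ Spec (CommRingCat.of K), t₁ = t.left := ⟨_, rfl⟩
  have hs₁fin : IsFinite s₁ := by rw [hs₁]; exact hs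
  have haff : IsAffine F.left := isAffine_of_isAffineHom s₁
  obtain ⟨σ, hσ⟩ : ∃ σ : CommRingCat.of K ⟶ Γ(F.left, ⊤), s₁ = F.left.isoSpec.hom ≫ Spec.map σ :=
    ⟨_, eq_isoSpec_comp s₁⟩
  obtain ⟨τ, hτ⟩ : ∃ τ : CommRingCat.of K ⟶ Γ(F.left, ⊤), t₁ = F.left.isoSpec.hom ≫ Spec.map τ :=
    ⟨_, eq_isoSpec_comp t₁⟩
  have hσ' : Spec.map σ = F.left.isoSpec.inv ≫ s₁ := by rw [hσ, Iso.inv_hom_id_assoc]
  have hτ' : Spec.map τ = F.left.isoSpec.inv ≫ t₁ := by rw [hτ, Iso.inv_hom_id_assoc]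
  have hσfin : σ.hom.Finite := by
    rw [← IsFinite.SpecMap_iff]
    have : IsFinite (F.left.isoSpec.hom ≫ Spec.map σ) := hσ ▸ hs₁fin
    exact (MorphismProperty.cancel_left_of_respectsIso @IsFinite F.left.isoSpec.hom (Spec.map σ)).1 this
  obtain ⟨strB, hstrB⟩ : ∃ strB : Spec Γ(F.left, ⊤) ⟶ S, strB = F.left.isoSpec.inv ≫ F.hom := ⟨_, rfl⟩
  have hσs : Spec.map σ ≫ str = strB := by
    rw [hσ', hstrB, Category.assoc, hs₁]
    congr 1
    exact Over.w s
  have hτs : Spec.map τ ≫ str = strB := by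
    rw [hτ', hstrB, Category.assoc, ht₁]
    congr 1
    exact Over.w t
  obtain ⟨ψ, hψ, hψiso⟩ : ∃ ψ : Over.mk strB ⟶ F, ψ.left = F.left.isoSpec.inv ∧ IsIso ψ :=
    ⟨(Over.isoMk F.left.isoSpec.symm hstrB.symm : Over.mk strB ≅ F).hom, rfl, inferInstance⟩
  have hψs : ψ ≫ s = (Over.homMk (Spec.map σ) hσs : Over.mk strB ⟶ Over.mk str) := by
    ext
    rw [Over.comp_left, hψ, ← hs₁, ← hσ']
    rfl
  have hψt : ψ ≫ t = (Over.homMk (Spec.map τ) hτs : Over.mk strB ⟶ Over.mk str) := by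
    ext
    rw [Over.comp_left, hψ, ← ht₁, ← hτ']
    rfl
  have hF' : IsPullback ((yon S).map (Over.homMk (Spec.map σ) hσs : Over.mk strB ⟶ Over.mk str))
      ((yon S).map (Over.homMk (Spec.map τ) hτs : Over.mk strB ⟶ Over.mk str)) p p := by
    rw [← hψs, ← hψt, Functor.map_comp, Functor.map_comp]
    exact IsPullback.of_iso hF (asIso ((yon S).map ψ)).symm (Iso.refl _) (Iso.refl _) (Iso.refl _)
      (by simp) (by simp) (by simp) (by simp)
  exact exists_mono_desc_of_finite_kernelPair_aff K _ σ τ hσfin str strB hσs hτs p hF'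

/-- Variant: the kernel pair is locally quasi-finite over the field and quasi-compact. -/
theorem exists_mono_desc_of_lqf_kernelPair {X : Sp S} (K : Type u) [Field K]
    (str : Spec (CommRingCat.of K) ⟶ S) (p : (yon S).obj (Over.mk str) ⟶ X)
    {F : Over S} (s t : F ⟶ Over.mk str) (hF : IsPullback ((yon S).map s) ((yon S).map t) p p)
    (hs : LocallyQuasiFinite s.left) (hc : CompactSpace ↥F.left) :
    ∃ (k : Type u) (_ : Field k) (str' : Spec (CommRingCat.of k) ⟶ S) (c : Over.mk str ⟶ Over.mk str')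
      (p' : (yon S).obj (Over.mk str') ⟶ X), Mono p' ∧ (yon S).map c ≫ p' = p ∧ IsFinite c.left ∧
        Flat c.left ∧ Surjective c.left := by
  obtain ⟨s₁, hs₁⟩ : ∃ s₁ : F.left ⟶ Spec (CommRingCat.of K), s₁ = s.left := ⟨_, rfl⟩
  have h1 : LocallyQuasiFinite s₁ := by rw [hs₁]; exact hs
  have h2 : QuasiCompact s₁ := HasAffineProperty.iff_of_isAffine.mpr (by infer_instance)
  have h3 : IsLocallyArtinian (Spec (CommRingCat.of K)) := by
    rw [Scheme.isLocallyArtinianScheme_Spec]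
    infer_instance
  have h4 : IsFinite s₁ := IsFinite.of_locallyQuasiFinite s₁
  exact exists_mono_desc_of_finite_kernelPair K str p s t hF (hs₁ ▸ h4)

end Groth.Agent.Lib.Helper16
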