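import Mathlib

/-!
# Helper library (helper16): the quotient of the spectrum of a field by a finite equivalence relation (algebra)

`K` a field, `B` a finite `K`-algebra (structure map `σ`), `τ : K →+* B` a second ring map, with a unit
`e : B → K` and a "composition" `c' : B → B ⊗[K] B`.  Then `K` is finite over the equaliser `K₀` of `σ, τ` and,
if `B` is generated by the two images of `K` in the sense of epimorphisms, `K ⊗[K₀] K ≃ B`.
-/

set_option autoImplicit false
universe u
open TensorProduct

namespace Groth.Agent.Lib.Helper16.FieldQuotAlg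

variable {K B : Type u} [Field K] [CommRing B] [Algebra K B] (τ : K →+* B)

/-- The subfield of `K` on which the structure map and `τ` agree. -/
def eqSubfield : Subfield K :=
  { RingHom.eqLocus (algebraMap K B) τ with
    inv_mem' := by
      intro a ha
      by_cases h0 : a = 0
      · subst h0
        simp
      have ha' : algebraMap K B a = τ a := ha
      have h1 : algebraMap K B a⁻¹ * algebraMap K B a = 1 := by
        rw [← map_mul, inv_mul_cancel₀ h0, map_one]
      have h2 : τ a * τ a⁻¹ = 1 := by rw [← map_mul, mul_inv_cancel₀ h0, map_one]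
      show algebraMap K B a⁻¹ = τ a⁻¹
      calc algebraMap K B a⁻¹ = algebraMap K B a⁻¹ * (τ a * τ a⁻¹) := by rw [h2, mul_one]
        _ = (algebraMap K B a⁻¹ * algebraMap K B a) * τ a⁻¹ := by rw [← ha', mul_assoc]
        _ = τ a⁻¹ := by rw [h1, one_mul] }

theorem mem_eqSubfield {a : K} : a ∈ eqSubfield τ ↔ algebraMap K B a = τ a := Iff.rfl

variable (c' : B →+* B ⊗[K] B) (hc1 : ∀ a, c' (algebraMap K B a) = τ a ⊗ₜ[K] 1)
  (hc2 : ∀ a, c' (τ a) = 1 ⊗ₜ[K] τ a) (e : B →+* K) (he1 : ∀ a, e (algebraMap K B a) = a)
  (he2 : ∀ a, e (τ a) = a)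

include hc1 hc2 he1 he2 in
/-- Artin's lemma for a finite groupoid on a field: elements of `K` independent over the equaliser have
`K`-independent images under `τ`. -/
theorem linearIndepOn_tau {s : Finset K} (hs : LinearIndepOn (eqSubfield τ) id (s : Set K)) :
    LinearIndepOn K (fun a : K => τ a) (s : Set K) := by
  classical
  induction s using Finset.induction_on with
  | empty =>
    have : IsEmpty ((∅ : Finset K) : Set K) := by simp
    exact linearIndependent_empty_type
  | insert a s has ih =>
    rw [Finset.coe_insert] at hs ⊢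
    rw [linearIndepOn_insert (mt Finset.mem_coe.1 has)] at hs
    rw [linearIndepOn_insert (mt Finset.mem_coe.1 has)]
    refine ⟨ih hs.1, fun ha => ?_⟩
    rw [Finsupp.mem_span_image_iff_linearCombination] at ha
    obtain ⟨l, hl, hla⟩ := ha
    rw [Finsupp.linearCombination_apply_of_mem_supported K hl] at hla
    have hIH := ih hs.1
    have key : ∀ i ∈ s, l i ∈ eqSubfield τ := by
      have hli : LinearIndependent B (fun i : ((s : Set K)) => (1 : B) ⊗ₜ[K] τ (i : K)) :=
        Module.Flat.linearIndependent_one_tmul (S := B) hIH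
      have h1 : c' (∑ i ∈ s, l i • τ i) = ∑ i ∈ s, τ (l i) ⊗ₜ[K] τ i := by
        rw [map_sum]
        refine Finset.sum_congr rfl fun i _ => ?_
        rw [Algebra.smul_def, map_mul, hc1, hc2, Algebra.TensorProduct.tmul_mul_tmul, mul_one, one_mul]
      have h2 : c' (τ a) = ∑ i ∈ s, algebraMap K B (l i) ⊗ₜ[K] τ i := by
        rw [hc2, ← hla, TensorProduct.tmul_sum]
        refine Finset.sum_congr rfl fun i _ => ?_
        rw [TensorProduct.tmul_smul, TensorProduct.smul_tmul', ← Algebra.algebraMap_eq_smul_one]
      have h3 : ∑ i ∈ s.attach, (τ (l i) - algebraMap K B (l i)) • ((1 : B) ⊗ₜ[K] τ (i : K)) = 0 := by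
        have h4 : ∀ i : K, (τ (l i) - algebraMap K B (l i)) • ((1 : B) ⊗ₜ[K] τ i) =
            τ (l i) ⊗ₜ[K] τ i - algebraMap K B (l i) ⊗ₜ[K] τ i := by
          intro i
          rw [TensorProduct.smul_tmul', smul_eq_mul, mul_one, TensorProduct.sub_tmul]
        rw [Finset.sum_attach s (fun i => (τ (l i) - algebraMap K B (l i)) • ((1 : B) ⊗ₜ[K] τ i))]
        simp_rw [h4]
        rw [Finset.sum_sub_distrib, ← h1, ← h2, hla, sub_self]
      intro i his
      have := linearIndependent_iff'.1 hli s.attach (fun i => τ (l i) - algebraMap K B (l i)) h3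
        ⟨i, his⟩ (Finset.mem_attach _ _)
      exact (sub_eq_zero.1 this).symm
    apply hs.2
    have h5 : a = ∑ i ∈ s, l i * i := by
      have := congrArg e hla
      rw [map_sum, he2] at this
      rw [← this]
      refine Finset.sum_congr rfl fun i _ => ?_
      rw [Algebra.smul_def, map_mul, he1, he2]
    rw [id, h5]
    refine Submodule.sum_mem _ fun i hi => ?_
    have : l i * i = (⟨l i, key i hi⟩ : eqSubfield τ) • (id i : K) := rfl
    rw [this]
    exact Submodule.smul_mem _ _ (Submodule.subset_span ⟨i, Finset.mem_coe.2 hi, rfl⟩)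

include hc1 hc2 he1 he2 in
theorem rank_le_finrank [Module.Finite K B] : Module.rank (eqSubfield τ) K ≤ (Module.finrank K B : ℕ) :=
  rank_le fun s hs => by
    have h : LinearIndepOn K (fun a : K => τ a) (s : Set K) :=
      linearIndepOn_tau τ c' hc1 hc2 e he1 he2 (s := s) hs
    have h' : LinearIndependent K (fun i : ((s : Set K)) => τ (i : K)) := h
    have := h'.fintype_card_le_finrank
    simpa using this

include hc1 hc2 he1 he2 in
theorem finite_over_eqSubfield [Module.Finite K B] : Module.Finite (eqSubfield τ) K :=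
  Module.rank_lt_aleph0_iff.1 (lt_of_le_of_lt (rank_le_finrank τ c' hc1 hc2 e he1 he2)
    (Cardinal.nat_lt_aleph0 _))

include hc1 hc2 he1 he2 in
theorem finrank_le_finrank [Module.Finite K B] : Module.finrank (eqSubfield τ) K ≤ Module.finrank K B :=
  Module.finrank_le_of_rank_le (rank_le_finrank τ c' hc1 hc2 e he1 he2)

/-- `τ` as an algebra homomorphism over the equaliser. -/
def tauAlgHom : K →ₐ[eqSubfield τ] B :=
  { τ with
    commutes' := fun a => by
      show τ (a : K) = algebraMap (eqSubfield τ) B a
      rw [IsScalarTower.algebraMap_apply (eqSubfield τ) K B]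
      exact (a.2).symm }

@[simp] theorem tauAlgHom_apply (a : K) : tauAlgHom τ a = τ a := rfl

/-- The comparison map `K ⊗[K₀] K → B`. -/
def Phi : K ⊗[eqSubfield τ] K →ₐ[K] B :=
  Algebra.TensorProduct.lift (Algebra.ofId K B) (tauAlgHom τ) (fun _ _ => Commute.all _ _)

@[simp] theorem Phi_tmul (a b : K) : Phi τ (a ⊗ₜ b) = algebraMap K B a * τ b := by
  simp [Phi, Algebra.ofId_apply]

variable (hepi : ∀ (C : Type u) [CommRing C] (f g : B →+* C),
    f.comp (algebraMap K B) = g.comp (algebraMap K B) → f.comp τ = g.comp τ → f = g)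

include hepi in
theorem Phi_surjective [Module.Finite K B] : Function.Surjective (Phi τ) := by
  have hepi' : CategoryTheory.Epi (CommRingCat.ofHom (Phi τ).toRingHom) := ⟨fun {Z} f g h => by
    apply CommRingCat.hom_ext
    apply hepi Z f.hom g.hom
    · ext a
      have := congr($(h).hom (a ⊗ₜ 1))
      simpa using this
    · ext a
      have := congr($(h).hom (1 ⊗ₜ a))
      simpa using this⟩
  have hfin : (CommRingCat.ofHom (Phi τ).toRingHom).hom.Finite := by
    apply RingHom.Finite.of_comp_finite (f := (Algebra.TensorProduct.includeLeftRingHom :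
      K →+* K ⊗[eqSubfield τ] K))
    have : (CommRingCat.ofHom (Phi τ).toRingHom).hom.comp (Algebra.TensorProduct.includeLeftRingHom :
      K →+* K ⊗[eqSubfield τ] K) = algebraMap K B := by
      ext a
      simp
    rw [this]
    exact RingHom.finite_algebraMap.2 inferInstance
  exact RingHom.surjective_of_epi_of_finite (CommRingCat.ofHom (Phi τ).toRingHom) hfin

include hc1 hc2 he1 he2 hepi in
theorem Phi_bijective [Module.Finite K B] : Function.Bijective (Phi τ) := by
  have hsurj := Phi_surjective τ hepi
  have := finite_over_eqSubfield τ c' hc1 hc2 e he1 he2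
  have h1 : Module.finrank K (K ⊗[eqSubfield τ] K) = Module.finrank (eqSubfield τ) K :=
    Module.finrank_baseChange
  have h2 : Module.finrank K B ≤ Module.finrank K (K ⊗[eqSubfield τ] K) :=
    LinearMap.finrank_le_finrank_of_surjective (f := (Phi τ).toLinearMap) hsurj
  have h3 := finrank_le_finrank τ c' hc1 hc2 e he1 he2
  have h4 : Module.finrank K (K ⊗[eqSubfield τ] K) = Module.finrank K B := le_antisymm (h1 ▸ h3) h2
  exact ⟨(LinearMap.injective_iff_surjective_of_finrank_eq_finrank h4 (f := (Phi τ).toLinearMap)).2 hsurj,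
    hsurj⟩

include hc1 hc2 he1 he2 hepi in
/-- The inverse of the comparison map. -/
theorem exists_inverse [Module.Finite K B] : ∃ Ψ : B →+* K ⊗[eqSubfield τ] K,
    (∀ a, Ψ (algebraMap K B a) = a ⊗ₜ 1) ∧ (∀ a, Ψ (τ a) = 1 ⊗ₜ a) := by
  have hbij := Phi_bijective τ c' hc1 hc2 e he1 he2 hepi
  refine ⟨((RingEquiv.ofBijective (Phi τ).toRingHom hbij).symm : B →+* K ⊗[eqSubfield τ] K), ?_, ?_⟩
  · intro a
    show (RingEquiv.ofBijective (Phi τ).toRingHom hbij).symm _ = _
    rw [RingEquiv.symm_apply_eq]
    simp
  · intro a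
    show (RingEquiv.ofBijective (Phi τ).toRingHom hbij).symm _ = _
    rw [RingEquiv.symm_apply_eq]
    simp

end Groth.Agent.Lib.Helper16.FieldQuotAlg
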