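import Groth.Agent.Lib.Helper16.FiltCore1
import Groth.Agent.Lib.Helper16.StrataSp
import Groth.Agent.S10192

/-!
# Helper library (helper16): the filtration of a quasi-compact algebraic space by the degree of an etale chart from
an affine scheme, with its etale neighbourhoods by separated schemes
-/

set_option autoImplicit false
universe u
open CategoryTheory CategoryTheory.Limits AlgebraicGeometry Opposite

namespace Groth.Agent.Lib.Helper16.Filt

open AlgSp Strata Tuple QuotFin Groth.Agent.Lib.Helper15

variable {S : Scheme.{u}}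

theorem exists_filtration (X : AlgSp.Space S) {U : Over S} [IsAffine U.left] (a : (yon S).obj U ⟶ X.obj)
    (hae : RepWith @Etale a) (has : RepWith @Surjective a) {R : Over S} {c sn : R ⟶ U}
    (sq : IsPullback ((yon S).map c) ((yon S).map sn) a a) :
    ∃ (Uo : ℕ → AlgSp.Space S) (j : ∀ p, Uo p ⟶ X) (k : ∀ p, Uo (p + 1) ⟶ Uo p)
      (T : ℕ → AlgSp.Space S) (i : ∀ p, T p ⟶ Uo p),
      (∀ p, RepWith @IsOpenImmersion (j p).hom) ∧ (∀ p, k p ≫ j p = j (p + 1)) ∧ IsIso (j 1) ∧
      (∀ p, IsRedInduced (Set.range (Points.map (k p).hom))ᶜ (i p).hom) ∧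
      (∀ p, 1 ≤ p → ∃ (V : Over S) (f : (yon S).obj V ⟶ (Uo p).obj), V.left.IsSeparated ∧
        (RepWith @QuasiCompact a → CompactSpace ↥V.left) ∧ RepWith @Etale f ∧ RepWith @Surjective f ∧
        ∀ (P : Sp S) (fst : P ⟶ (T p).obj) (snd : P ⟶ (yon S).obj V),
          IsPullback fst snd (i p).hom f → IsIso fst) ∧
      (∀ p, Set.range (Points.map (j p).hom) = degGE a sn p) ∧
      (∀ p, Set.range (Points.map ((i p) ≫ (j p)).hom) = degGE a sn p \ degGE a sn (p + 1)) := by
  have hX := X.property
  have hsnet : Etale sn.left := hae.property _ _ _ sq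
  have hsnsep : IsSeparated sn.left := isSeparated_sn sq
  obtain ⟨O, hOdef⟩ : ∃ O : ℕ → Set (Points X.obj), O = fun p => degGE a sn p := ⟨_, rfl⟩
  have hOp : ∀ p, O p = degGE a sn p := fun p => by rw [hOdef]
  have hOopen : ∀ p, IsOpen (O p) := fun p => by rw [hOp]; exact isOpen_degGE hae p
  have hOanti : ∀ p, O (p + 1) ⊆ O p := fun p => by
    rw [hOp, hOp]
    exact degGE_anti (Nat.le_succ p)
  have hO1 : O 1 = Set.univ := by rw [hOp]; exact degGE_one has sq
  have hmemO : ∀ q (y : Points (openSub X.obj (O q))), Points.map (openSubι X.obj (O q)) y ∈ O q :=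
    fun q y => (range_map_openSubι (O q)).subset ⟨y, rfl⟩
  have hexO : ∀ q x, x ∈ O q → ∃ y, Points.map (openSubι X.obj (O q)) y = x :=
    fun q x hx => (range_map_openSubι (O q)).superset hx
  have hk₀ex : ∀ p, ∃ k₀ : openSub X.obj (O (p + 1)) ⟶ openSub X.obj (O p),
      k₀ ≫ openSubι X.obj (O p) = openSubι X.obj (O (p + 1)) := fun p =>
    QuotOpen.exists_factor_openSub_of_range_subset (O p) (openSubι X.obj (O (p + 1)))
      ((range_map_openSubι (O (p + 1))).subset.trans (hOanti p))
  choose k₀ hk₀ using hk₀ex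
  have hιinj : ∀ p, Function.Injective (Points.map (openSubι X.obj (O p))) := fun p =>
    points_map_injective_of_mono _
  have hrangek : ∀ p, Set.range (Points.map (k₀ p)) = Points.map (openSubι X.obj (O p)) ⁻¹' O (p + 1) := by
    intro p
    ext y
    constructor
    · rintro ⟨z, rfl⟩
      show Points.map (openSubι X.obj (O p)) (Points.map (k₀ p) z) ∈ O (p + 1)
      have h1 : Points.map (openSubι X.obj (O p)) (Points.map (k₀ p) z) =
          Points.map (openSubι X.obj (O (p + 1))) z := by
        rw [← Points.map_comp, hk₀]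
      rw [h1]
      exact hmemO (p + 1) z
    · intro hy
      have hy' : Points.map (openSubι X.obj (O p)) y ∈ O (p + 1) := hy
      obtain ⟨z, hz⟩ := hexO (p + 1) _ hy'
      refine ⟨z, hιinj p ?_⟩
      rw [← Points.map_comp, hk₀, hz]
  have hclosed : ∀ p, IsClosed (Set.range (Points.map (k₀ p)))ᶜ := fun p => by
    rw [hrangek, isClosed_compl_iff]
    exact (hOopen (p + 1)).preimage (Points.continuous_map _)
  let Uo : ℕ → AlgSp.Space S := fun p => ⟨openSub X.obj (O p), isAlgSpace_openSub hX (O p) (hOopen p)⟩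
  let jj : ∀ p, Uo p ⟶ X := fun p => ObjectProperty.homMk (openSubι X.obj (O p))
  let kk : ∀ p, Uo (p + 1) ⟶ Uo p := fun p => ObjectProperty.homMk (k₀ p)
  have hTex : ∀ p, ∃ (Z : AlgSp.Space S) (i : Z ⟶ Uo p),
      IsRedInduced (Set.range (Points.map (kk p).hom))ᶜ i.hom := fun p =>
    Groth.Agent.S10192.result (Uo p) _ (hclosed p)
  choose T i hi using hTex
  have hi' : ∀ p, Set.range (Points.map (i p).hom) = (Set.range (Points.map (k₀ p)))ᶜ := fun p => (hi p).2.1
  have hrangeij : ∀ p, Set.range (Points.map ((i p).hom ≫ openSubι X.obj (O p))) = O p \ O (p + 1) := by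
    intro p
    ext x
    constructor
    · rintro ⟨z, rfl⟩
      have h0 : Points.map ((i p).hom ≫ openSubι X.obj (O p)) z =
          Points.map (openSubι X.obj (O p)) (Points.map (i p).hom z) := Points.map_comp _ _ _
      have h1 : Points.map (i p).hom z ∈ (Set.range (Points.map (k₀ p)))ᶜ :=
        (hi' p).subset ⟨z, rfl⟩
      refine ⟨?_, fun h2 => h1 ?_⟩
      · rw [h0]
        exact hmemO p _
      · have h3 : Points.map (i p).hom z ∈ Points.map (openSubι X.obj (O p)) ⁻¹' O (p + 1) := by
          show Points.map (openSubι X.obj (O p)) (Points.map (i p).hom z) ∈ O (p + 1)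
          rw [← h0]
          exact h2
        exact (hrangek p).superset h3
    · rintro ⟨h1, h2⟩
      obtain ⟨y, rfl⟩ := hexO p x h1
      have h3 : y ∈ (Set.range (Points.map (k₀ p)))ᶜ := by
        intro h4
        exact h2 ((hrangek p).subset h4)
      obtain ⟨z, rfl⟩ := (hi' p).superset h3
      exact ⟨z, Points.map_comp _ _ _⟩
  refine ⟨Uo, jj, kk, T, i, fun p => repWith_isOpenImmersion_openSubι (O p) (hOopen p), fun p => ?_, ?_, hi,
    ?_, ?_, ?_⟩
  · apply ObjectProperty.hom_ext
    exact hk₀ p
  · obtain ⟨f₀, hf₀⟩ := QuotOpen.exists_factor_openSub_of_range_subset (O 1) (𝟙 X.obj) (by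
      rw [hO1]
      exact Set.subset_univ _)
    have h1 : openSubι X.obj (O 1) ≫ f₀ = 𝟙 _ := by
      rw [← cancel_mono (openSubι X.obj (O 1)), Category.assoc, hf₀, Category.comp_id, Category.id_comp]
    refine ⟨⟨ObjectProperty.homMk f₀, ?_, ?_⟩⟩
    · apply ObjectProperty.hom_ext
      exact h1
    · apply ObjectProperty.hom_ext
      exact hf₀
  · intro p hp
    obtain ⟨k', rfl⟩ : ∃ k', p = k' + 1 := ⟨p - 1, by omega⟩
    obtain ⟨V, f', hVsep, hf'et, hf'range, hM, hVc⟩ := exists_quotient_tuple hX hae sq k'
    obtain ⟨f, hf⟩ := QuotOpen.exists_factor_openSub_of_range_subset (O (k' + 1)) f'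
      (hf'range.trans (hOp (k' + 1)).symm).subset
    have hfe : RepWith @Etale f := repWith_of_comp_mono @Etale f (openSubι X.obj (O (k' + 1))) (by
      rw [hf]
      exact hf'et)
    have hfrep : Representable f := ((repWith_iff _ _).1 hfe).1
    have hfs : RepWith @Surjective f := by
      rw [repWith_surjective_iff f hfrep]
      intro y
      have h1 : Points.map (openSubι X.obj (O (k' + 1))) y ∈ Set.range (Points.map f') :=
        (hf'range.trans (hOp (k' + 1)).symm).superset (hmemO (k' + 1) y)
      obtain ⟨v, hv⟩ := h1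
      refine ⟨v, hιinj (k' + 1) ?_⟩
      rw [← Points.map_comp, hf, hv]
    refine ⟨V, f, hVsep, hVc, hfe, hfs, ?_⟩
    intro P fst snd sqP
    have sqP' : IsPullback fst snd (i (k' + 1)).hom f := sqP
    have hfst_e : RepWith @Etale fst := (RepWith (S := S) @Etale).of_isPullback sqP'.flip hfe
    have hfst_s : RepWith @Surjective fst := (RepWith (S := S) @Surjective).of_isPullback sqP'.flip hfs
    have hepi : Epi fst := by
      have : Sheaf.IsLocallySurjective fst :=
        isLocallySurjective_of_repWith_fppf fst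
          (MorphismProperty.relative_monotone (fun A B m hm => by
            have : Etale m.left := hm
            exact (inferInstance : Flat m.left)) _ hfst_e)
          (MorphismProperty.relative_monotone (fun A B m hm => by
            have : Etale m.left := hm
            exact (inferInstance : LocallyOfFinitePresentation m.left)) _ hfst_e) hfst_s
      infer_instance
    have hmono : Mono fst := by
      constructor
      intro Z α β hαβ
      apply sp_hom_ext
      intro T' z
      apply sqP'.hom_ext
      · rw [Category.assoc, Category.assoc, hαβ]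
      · obtain ⟨v, hv⟩ := (yon S).map_surjective ((z ≫ α) ≫ snd)
        obtain ⟨v', hv'⟩ := (yon S).map_surjective ((z ≫ β) ≫ snd)
        have key : ∀ γ : (yon S).obj T' ⟶ P, (γ ≫ snd) ≫ f' = (γ ≫ fst) ≫ (i (k' + 1)).hom ≫
            openSubι X.obj (O (k' + 1)) := fun γ => by
          rw [← hf, Category.assoc, ← Category.assoc snd, ← sqP'.w]
          simp only [Category.assoc]
        have hfst : (z ≫ α) ≫ fst = (z ≫ β) ≫ fst := by rw [Category.assoc, Category.assoc, hαβ]
        have h1 : (yon S).map v ≫ f' = (yon S).map v' ≫ f' := by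
          rw [hv, hv', key, key, hfst]
        have h2 : ∀ t : T'.left, Points.ofPt ((yon S).map v ≫ f') t ∉ degGE a sn (k' + 1 + 1) := by
          intro t ht
          rw [hv, key, ← Points.map_ofPt, ← hOp] at ht
          have h3 : Points.map ((i (k' + 1)).hom ≫ openSubι X.obj (O (k' + 1)))
              (Points.ofPt ((z ≫ α) ≫ fst) t) ∈ O (k' + 1) \ O (k' + 1 + 1) :=
            (hrangeij (k' + 1)).subset ⟨_, rfl⟩
          exact h3.2 ht
        rw [← hv, ← hv', hM T' v v' h1 h2]
    exact isIso_of_mono_of_epi fst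
  · intro p
    show Set.range (Points.map (openSubι X.obj (O p))) = degGE a sn p
    rw [range_map_openSubι, hOp]
  · intro p
    show Set.range (Points.map ((i p).hom ≫ openSubι X.obj (O p))) = _
    rw [hrangeij, hOp, hOp]

end Groth.Agent.Lib.Helper16.Filt
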