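import Groth.Agent.Lib.Helper16.FiltCore2
import Groth.Agent.Lib.Helper16.UnivBdd
import Groth.Agent.Lib.Helper16.Points

/-!
# Helper library (helper16): bounds on the geometric degree of the fibres of an etale chart
-/

set_option autoImplicit false
universe u
open CategoryTheory CategoryTheory.Limits AlgebraicGeometry Opposite

namespace Groth.Agent.Lib.Helper16.Filt

open AlgSp Strata Groth.Agent.Lib.Helper16

variable {S : Scheme.{u}} {F : Sp S} {U R : Over S} {a : (yon S).obj U ⟶ F} {c sn : R ⟶ U}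

/-- The geometric degree of a fibre of a morphism of schemes with universally bounded fibres is bounded. -/
theorem hasDeg_le_of_degFibresLE (sn : R ⟶ U) {n : ℕ} (hn : W4dec.DegFibresLE n ((yon S).map sn))
    (u : ↥U.left) (d : ℕ) (h : HasDeg sn.left u d) : d ≤ n := by
  obtain ⟨K, _, x, ρ, hx, hρ, hinj⟩ := h
  have hR : sn.left ≫ U.hom = R.hom := Over.w sn
  let TK : Over S := Over.mk (x ≫ U.hom)
  let x' : TK ⟶ U := Over.homMk x rfl
  let ρ' : Fin d → (TK ⟶ R) := fun i => Over.homMk (ρ i) (by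
    change ρ i ≫ R.hom = x ≫ U.hom
    rw [← hR, ← Category.assoc, hρ])
  have hρ'sn : ∀ i, ρ' i ≫ sn = x' := fun i => Over.OverMorphism.ext (hρ i)
  have sqP : IsPullback ((yon S).map (pullback.fst x' sn)) ((yon S).map (pullback.snd x' sn))
      ((yon S).map x') ((yon S).map sn) := (IsPullback.of_hasPullback x' sn).map (yon S)
  have hdeg := degFibresLE_apply_hom hn (x ≫ U.hom) ((yon S).map x') (pullback x' sn) (pullback.fst x' sn)
    ((yon S).map (pullback.snd x' sn)) sqP
  let τ : Fin d → (TK ⟶ pullback x' sn) := fun i =>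
    pullback.lift (𝟙 TK) (ρ' i) (by rw [Category.id_comp, hρ'sn])
  refine card_sections_le (pullback.fst x' sn).left hdeg (fun i => (τ i).left) (fun i => ?_) (fun i j hij => ?_)
  · have : τ i ≫ pullback.fst x' sn = 𝟙 TK := pullback.lift_fst _ _ _
    exact congrArg CommaMorphism.left this
  · have h1 : τ i = τ j := Over.OverMorphism.ext hij
    have h2 : ρ' i = ρ' j := by
      have := congrArg (· ≫ pullback.snd x' sn) h1
      simpa only [τ, pullback.lift_snd] using this
    exact hinj (congrArg CommaMorphism.left h2)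

/-- At a point of an algebraic space represented by a quasi-compact morphism from the spectrum of a field, the geometric
degrees of the fibre of an etale chart from a quasi-compact scheme are bounded. -/
theorem exists_bound_hasDeg_of_quasiCompact (sq : IsPullback ((yon S).map c) ((yon S).map sn) a a)
    (ha : RepWith @Etale a) [CompactSpace ↥U.left] (u : ↥U.left) (p : FieldPt F)
    (hp : Points.mk p = Points.ofPt a u) (hq : RepWith @QuasiCompact p.toHom) :
    ∃ N : ℕ, ∀ d, HasDeg sn.left u d → d ≤ N := by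
  have sqF := hq.rep.isPullback a
  obtain ⟨c₀, hc₀⟩ := (yon S).map_surjective (hq.rep.fst a)
  rw [← hc₀] at sqF
  have hqc : QuasiCompact (hq.rep.snd a).left := hq.property_snd a
  have hcet : Etale c₀.left := ha.property p.toHom _ c₀ sqF.flip
  have hcpt : CompactSpace ↥(hq.rep.pullback a).left :=
    QuasiCompact.compactSpace_of_compactSpace (hq.rep.snd a).left
  obtain ⟨n, hn⟩ := UBF.hasUnivBddFibres_yon_map_of_etale c₀
  have hrel : FieldPt.Rel p (FieldPt.ofPt a u) := Points.mk_eq_mk_iff.1 hp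
  obtain ⟨Ω, _, w, α, β, hαβ⟩ := (rel_iff_toHom _ _).1 hrel
  obtain ⟨ιu, hιu, hιul⟩ : ∃ ιu : (FieldPt.ofPt a u).pt ⟶ U,
      (FieldPt.ofPt a u).toHom = (yon S).map ιu ≫ a ∧ ιu.left = U.left.fromSpecResidueField u :=
    ⟨_, FieldPt.toHom_ofPt a u, rfl⟩
  rw [hιu] at hαβ
  have hgu : (β ≫ ιu).left (IsLocalRing.closedPoint Ω) = u := by
    rw [Over.comp_left, Scheme.Hom.comp_apply, hιul]
    exact U.left.fromSpecResidueField_apply u _
  refine ⟨n, ?_⟩
  rintro d ⟨K, _, x, ρ, hx, hρ, hinj⟩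
  obtain ⟨L, _, π, y, -, hy⟩ := exists_field_lift (β ≫ ιu).left (IsLocalRing.closedPoint Ω) x (hx.trans hgu.symm)
  have hR : sn.left ≫ U.hom = R.hom := Over.w sn
  let TK : Over S := Over.mk ((π ≫ x) ≫ U.hom)
  let x' : TK ⟶ U := Over.homMk (π ≫ x) rfl
  let ρ' : Fin d → (TK ⟶ R) := fun i => Over.homMk (π ≫ ρ i) (by
    change (π ≫ ρ i) ≫ R.hom = (π ≫ x) ≫ U.hom
    rw [← hR, Category.assoc, ← Category.assoc (ρ i), hρ, Category.assoc])
  have hρ'sn : ∀ i, ρ' i ≫ sn = x' := fun i => Over.OverMorphism.ext (by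
    change (π ≫ ρ i) ≫ sn.left = π ≫ x
    rw [Category.assoc, hρ])
  have hρ'inj : Function.Injective ρ' := fun i j hij => by
    have h1 : π ≫ ρ i = π ≫ ρ j := congrArg CommaMorphism.left hij
    exact hinj (cancel_field_epi π h1)
  have hyw : y ≫ w = (π ≫ x) ≫ U.hom := by
    have h1 : (β ≫ ιu).left ≫ U.hom = w := Over.w (β ≫ ιu)
    rw [← h1, ← Category.assoc, hy]
  let y' : TK ⟶ Over.mk w := Over.homMk y hyw
  obtain ⟨φ, hφdef⟩ : ∃ φ : TK ⟶ p.pt, φ = y' ≫ α := ⟨_, rfl⟩
  have hφ : (yon S).map x' ≫ a = (yon S).map φ ≫ p.toHom := by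
    have h1 : x' = y' ≫ β ≫ ιu := Over.OverMorphism.ext (by
      change π ≫ x = y ≫ (β ≫ ιu).left
      exact hy.symm)
    rw [h1, hφdef, Functor.map_comp, Functor.map_comp, Functor.map_comp, Category.assoc, Category.assoc,
      Category.assoc, hαβ]
  have hyi : ∀ i, (yon S).map φ ≫ p.toHom = (yon S).map (ρ' i ≫ c) ≫ a := fun i => by
    rw [← hφ, Functor.map_comp, Category.assoc, sq.w, ← Category.assoc, ← Functor.map_comp, hρ'sn]
  have hz : ∀ i, ∃ z : TK ⟶ hq.rep.pullback a, z ≫ c₀ = φ ∧ z ≫ hq.rep.snd a = ρ' i ≫ c := fun i => by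
    refine ⟨(yon S).preimage (sqF.lift _ _ (hyi i)), ?_, ?_⟩
    · apply (yon S).map_injective
      rw [Functor.map_comp, Functor.map_preimage, sqF.lift_fst]
    · apply (yon S).map_injective
      rw [Functor.map_comp, Functor.map_preimage, sqF.lift_snd]
  choose z hz1 hz2 using hz
  have sqP : IsPullback ((yon S).map (pullback.fst φ c₀)) ((yon S).map (pullback.snd φ c₀))
      ((yon S).map φ) ((yon S).map c₀) := (IsPullback.of_hasPullback φ c₀).map (yon S)
  have hdeg := degFibresLE_apply_hom hn ((π ≫ x) ≫ U.hom) ((yon S).map φ) (pullback φ c₀) (pullback.fst φ c₀)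
    ((yon S).map (pullback.snd φ c₀)) sqP
  let τ : Fin d → (TK ⟶ pullback φ c₀) := fun i => pullback.lift (𝟙 TK) (z i) (by rw [Category.id_comp, hz1])
  refine card_sections_le (pullback.fst φ c₀).left hdeg (fun i => (τ i).left) (fun i => ?_) (fun i j hij => ?_)
  · have : τ i ≫ pullback.fst φ c₀ = 𝟙 TK := pullback.lift_fst _ _ _
    exact congrArg CommaMorphism.left this
  · have h1 : τ i = τ j := Over.OverMorphism.ext hij
    have h2 : z i = z j := by
      have := congrArg (· ≫ pullback.snd φ c₀) h1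
      simpa only [τ, pullback.lift_snd] using this
    have h3 : ρ' i ≫ c = ρ' j ≫ c := by rw [← hz2, ← hz2, h2]
    have h5 : ρ' i = ρ' j := hom_ext_R sq h3 (by rw [hρ'sn, hρ'sn])
    exact hρ'inj h5

end Groth.Agent.Lib.Helper16.Filt
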