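import Groth.Agent.Lib.Helper16.FibreFinite
import Groth.Agent.Lib.Helper16.FppfLocal

/-!
# Helper library (helper16): finiteness of the fibre of `|T ×_Y O| → |T| × |O|` over a monomorphic point of `Y`,
and of the set of points of a fibre product `X ×_Y Z` over a pair of points
-/

set_option autoImplicit false
universe u
open CategoryTheory CategoryTheory.Limits AlgebraicGeometry Opposite Topology

namespace Groth.Agent.Lib.Helper16

open AlgSp

variable {S : Scheme.{u}}

/-- Generalisation of `finite_fibre_of_mono_point` to two different charts, one of which has locally quasi-finite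
fibre over the monomorphic point. -/
theorem finite_fibre_pair_of_mono_point {Y : Sp S} (r : FieldPt Y)
    {T O : Over S} (φ : (yon S).obj T ⟶ Y) (ψ : (yon S).obj O ⟶ Y)
    {E : Over S} (cE : E ⟶ r.pt) (εE : E ⟶ T)
    (sqE : IsPullback ((yon S).map εE) ((yon S).map cE) φ r.toHom)
    {D : Over S} (cD : D ⟶ r.pt) (εD : D ⟶ O)
    (sqD : IsPullback ((yon S).map εD) ((yon S).map cD) ψ r.toHom)
    (hm : Mono r.toHom) (hlqf : LocallyQuasiFinite cD.left)
    (t : ↥T.left) (o : ↥O.left) (ht : Points.ofPt φ t = Points.mk r) (ho : Points.ofPt ψ o = Points.mk r)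
    {R : Over S} (s : R ⟶ T) (s' : R ⟶ O) (sq : IsPullback ((yon S).map s) ((yon S).map s') φ ψ) :
    {ρ : ↥R.left | s.left ρ = t ∧ s'.left ρ = o}.Finite := by
  have hεEm : Mono ((yon S).map εE) := sqE.mono_fst_of_mono
  have hεEm' : Mono εE := (yon S).mono_of_mono_map hεEm
  have hεEl : Mono εE.left := inferInstance
  have hεEinj : Function.Injective εE.left := εE.left.injective
  have hεDm : Mono ((yon S).map εD) := sqD.mono_fst_of_mono
  have hεDm' : Mono εD := (yon S).mono_of_mono_map hεDm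
  have hεDl : Mono εD.left := inferInstance
  have hεDinj : Function.Injective εD.left := εD.left.injective
  obtain ⟨e, he, -⟩ := exists_point_of_isPullback_yon_yon sqE t
    (IsLocalRing.closedPoint r.K : ↥(Spec (CommRingCat.of r.K))) (by rw [Points.ofPt_toHom, ht])
  obtain ⟨δ, hδ, -⟩ := exists_point_of_isPullback_yon_yon sqD o
    (IsLocalRing.closedPoint r.K : ↥(Spec (CommRingCat.of r.K))) (by rw [Points.ofPt_toHom, ho])
  have hcond : pullback.fst cE cD ≫ cE = pullback.snd cE cD ≫ cD := pullback.condition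
  have hcomm : (yon S).map (pullback.fst cE cD ≫ εE) ≫ φ = (yon S).map (pullback.snd cE cD ≫ εD) ≫ ψ := by
    rw [Functor.map_comp, Functor.map_comp, Category.assoc, Category.assoc, sqE.w, sqD.w, ← Category.assoc,
      ← Category.assoc, ← Functor.map_comp, ← Functor.map_comp, hcond]
  obtain ⟨θ, hθ⟩ := (yon S).map_surjective (sq.lift _ _ hcomm)
  have hθs : θ ≫ s = pullback.fst cE cD ≫ εE :=
    (yon S).map_injective (by rw [Functor.map_comp, hθ, sq.lift_fst])
  have hθs' : θ ≫ s' = pullback.snd cE cD ≫ εD :=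
    (yon S).map_injective (by rw [Functor.map_comp, hθ, sq.lift_snd])
  have yonQ : IsPullback ((yon S).map (pullback.fst cE cD)) ((yon S).map (pullback.snd cE cD))
      ((yon S).map cE) ((yon S).map cD) := (IsPullback.of_hasPullback cE cD).map (yon S)
  have star : IsPullback ((yon S).map θ) ((yon S).map (pullback.fst cE cD ≫ cE))
      ((yon S).map s ≫ φ) r.toHom := by
    refine isPullback_of_exists_lift ?_ ?_ ?_
    · rw [← Category.assoc, ← Functor.map_comp, hθs, Functor.map_comp, Functor.map_comp, Category.assoc,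
        Category.assoc, sqE.w]
    · intro Z ρ κ h
      have h1 : (ρ ≫ (yon S).map s) ≫ φ = κ ≫ r.toHom := by rw [Category.assoc]; exact h
      have h2 : (ρ ≫ (yon S).map s') ≫ ψ = κ ≫ r.toHom := by
        rw [Category.assoc, ← sq.w, ← Category.assoc]; exact h1
      have hα : sqE.lift _ _ h1 ≫ (yon S).map cE = sqD.lift _ _ h2 ≫ (yon S).map cD := by
        rw [sqE.lift_snd, sqD.lift_snd]
      refine ⟨yonQ.lift _ _ hα, ?_, ?_⟩
      · apply sq.hom_ext
        · rw [Category.assoc, ← Functor.map_comp, hθs, Functor.map_comp, ← Category.assoc, yonQ.lift_fst,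
            sqE.lift_fst]
        · rw [Category.assoc, ← Functor.map_comp, hθs', Functor.map_comp, ← Category.assoc, yonQ.lift_snd,
            sqD.lift_fst]
      · rw [Functor.map_comp, ← Category.assoc, yonQ.lift_fst, sqE.lift_snd]
    · intro Z l l' hl1 hl2
      have hl2' : (l ≫ (yon S).map (pullback.fst cE cD)) ≫ (yon S).map cE =
          (l' ≫ (yon S).map (pullback.fst cE cD)) ≫ (yon S).map cE := by
        rw [Category.assoc, Category.assoc, ← Functor.map_comp]; exact hl2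
      have hs1 : (l ≫ (yon S).map (pullback.fst cE cD)) ≫ (yon S).map εE =
          (l' ≫ (yon S).map (pullback.fst cE cD)) ≫ (yon S).map εE := by
        rw [Category.assoc, Category.assoc, ← Functor.map_comp, ← hθs, Functor.map_comp, ← Category.assoc,
          ← Category.assoc, hl1]
      have hs2 : (l ≫ (yon S).map (pullback.snd cE cD)) ≫ (yon S).map εD =
          (l' ≫ (yon S).map (pullback.snd cE cD)) ≫ (yon S).map εD := by
        rw [Category.assoc, Category.assoc, ← Functor.map_comp, ← hθs', Functor.map_comp, ← Category.assoc,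
          ← Category.assoc, hl1]
      apply yonQ.hom_ext
      · exact sqE.hom_ext hs1 hl2'
      · apply sqD.hom_ext hs2
        rw [Category.assoc, Category.assoc, ← Functor.map_comp, ← hcond]
        exact hl2
  have sqL : IsPullback (pullback.fst cE cD).left (pullback.snd cE cD).left cE.left cD.left :=
    (IsPullback.of_hasPullback cE cD).map (Over.forget S)
  obtain ⟨c₁, hc₁⟩ : ∃ c₁ : E.left ⟶ Spec (CommRingCat.of r.K), c₁ = cE.left := ⟨_, rfl⟩
  obtain ⟨c₂, hc₂⟩ : ∃ c₂ : D.left ⟶ Spec (CommRingCat.of r.K), c₂ = cD.left := ⟨_, rfl⟩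
  have sqL' : IsPullback (pullback.snd cE cD).left (pullback.fst cE cD).left c₂ c₁ := by
    rw [hc₁, hc₂]; exact sqL.flip
  have hlqf' : LocallyQuasiFinite c₂ := by
    rw [hc₂]; exact hlqf
  have hB := finite_pullback_over_pair sqL' δ e
  refine (hB.image (fun q => θ.left q)).subset ?_
  rintro ρ ⟨hr1, hr2⟩
  obtain ⟨v, hv, -⟩ := exists_point_of_isPullback_yon_yon star ρ
    (IsLocalRing.closedPoint r.K : ↥(Spec (CommRingCat.of r.K))) (by
      rw [ofPt_yon_map_comp, hr1, ht, Points.ofPt_toHom])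
  have h3 : s.left (θ.left v) = εE.left ((pullback.fst cE cD).left v) := by
    rw [← Scheme.Hom.comp_apply, ← Scheme.Hom.comp_apply, ← Over.comp_left, ← Over.comp_left, hθs]
  have h4 : s'.left (θ.left v) = εD.left ((pullback.snd cE cD).left v) := by
    rw [← Scheme.Hom.comp_apply, ← Scheme.Hom.comp_apply, ← Over.comp_left, ← Over.comp_left, hθs']
  refine ⟨v, ⟨?_, ?_⟩, hv⟩
  · apply hεDinj
    rw [← h4, hv, hr2, hδ]
  · apply hεEinj
    rw [← h3, hv, hr1, he]

/-- Points of a fibre product `W = X ×_Y Z` lying over `x` and `z` form a finite set, when the common image is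
represented by a monomorphism from the spectrum of a field and `g : Z ⟶ Y` is quasi-finite at `z` (in a chart
diagram). -/
theorem finite_fibre_pullback_of_mono_point {X Y Z W : Sp S} (hX : IsAlgSpace X) (hY : IsAlgSpace Y)
    (f : X ⟶ Y) (g : Z ⟶ Y) (p : W ⟶ X) (q : W ⟶ Z) (hW : IsPullback p q f g) (x : Points X) (z : Points Z)
    (hxz : Points.map f x = Points.map g z) (r : FieldPt Y) (hr : Points.mk r = Points.map g z)
    (hm : Mono r.toHom) {O V₀ : Over S} (aO : (yon S).obj O ⟶ Z) (b₀ : (yon S).obj V₀ ⟶ Y) (hO : O ⟶ V₀)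
    (o : ↥O.left) (hb : RepWith @Etale b₀) (hc : aO ≫ g = (yon S).map hO ≫ b₀) (ho : Points.ofPt aO o = z)
    (hlqf : LocallyQuasiFinite hO.left) :
    {w : Points W | Points.map p w = x ∧ Points.map q w = z}.Finite := by
  obtain ⟨T, aT, -, hsT⟩ := hX.atlas
  obtain ⟨t, ht⟩ := ofPt_surjective_of_surjective aT hsT x
  have hrepr : Representable r.toHom := hY.representable_from_yon _
  obtain ⟨φ, hφ⟩ : ∃ φ : (yon S).obj T ⟶ Y, φ = aT ≫ f := ⟨_, rfl⟩
  obtain ⟨ψ, hψ⟩ : ∃ ψ : (yon S).obj O ⟶ Y, ψ = aO ≫ g := ⟨_, rfl⟩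
  have htφ : Points.ofPt φ t = Points.mk r := by
    rw [hφ, ← Points.map_ofPt, ht, hxz, hr]
  have hoψ : Points.ofPt ψ o = Points.mk r := by
    rw [hψ, ← Points.map_ofPt, ho, hr]
  obtain ⟨E, cE, εE, sqE⟩ : ∃ (E : Over S) (cE : E ⟶ r.pt) (εE : E ⟶ T),
      IsPullback ((yon S).map εE) ((yon S).map cE) φ r.toHom := ⟨_, _, _, (hrepr.isPullback' φ).flip⟩
  obtain ⟨D, cD, εD, sqD⟩ : ∃ (D : Over S) (cD : D ⟶ r.pt) (εD : D ⟶ O),
      IsPullback ((yon S).map εD) ((yon S).map cD) ψ r.toHom := ⟨_, _, _, (hrepr.isPullback' ψ).flip⟩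
  -- the fibre `D` of `O` over the point is locally quasi-finite over the field
  obtain ⟨Vk, snd, fst, sqV⟩ := hb.rep r.toHom
  have hsnd : Etale snd.left := hb.property _ _ _ sqV
  obtain ⟨fst', rfl⟩ := (yon S).map_surjective fst
  have hcomm : ((yon S).map εD ≫ (yon S).map hO) ≫ b₀ = (yon S).map cD ≫ r.toHom := by
    rw [Category.assoc, ← hc, ← hψ]; exact sqD.w
  obtain ⟨ℓ, hℓ⟩ := (yon S).map_surjective (sqV.lift _ _ hcomm)
  have hℓ1 : (yon S).map ℓ ≫ (yon S).map fst' = (yon S).map εD ≫ (yon S).map hO := by rw [hℓ, sqV.lift_fst]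
  have hℓ2 : (yon S).map ℓ ≫ (yon S).map snd = (yon S).map cD := by rw [hℓ, sqV.lift_snd]
  have hleft : IsPullback ((yon S).map ℓ) ((yon S).map εD) ((yon S).map fst') ((yon S).map hO) := by
    refine IsPullback.of_right ?_ hℓ1 sqV.flip
    rw [hℓ2, ← hc, ← hψ]
    exact sqD.flip
  have hleft' := isPullback_left_of_yon hleft
  have hℓlqf : LocallyQuasiFinite ℓ.left :=
    MorphismProperty.of_isPullback (P := @LocallyQuasiFinite) hleft'.flip hlqf
  have hcDlqf : LocallyQuasiFinite cD.left := by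
    have h1 : cD = ℓ ≫ snd := (yon S).map_injective (by rw [Functor.map_comp, hℓ2])
    rw [h1, Over.comp_left]
    have : LocallyQuasiFinite snd.left := locallyQuasiFinite_of_etale snd.left
    exact MorphismProperty.comp_mem _ _ _ hℓlqf this
  -- the scheme `R = T ×_Y O`
  have hreprψ : Representable ψ := hY.representable_from_yon ψ
  obtain ⟨R, s, s', sqR⟩ : ∃ (R : Over S) (s : R ⟶ T) (s' : R ⟶ O),
      IsPullback ((yon S).map s) ((yon S).map s') φ ψ := ⟨_, _, _, (hreprψ.isPullback' φ).flip⟩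
  have hfin := finite_fibre_pair_of_mono_point r φ ψ cE εE sqE cD εD sqD hm hcDlqf t o htφ hoψ s s' sqR
  -- `R = T ×_X W ×_Z O`
  obtain ⟨WT, π₁, π₂, sq1⟩ : ∃ (WT : Sp S) (π₁ : WT ⟶ (yon S).obj T) (π₂ : WT ⟶ W), IsPullback π₁ π₂ aT p :=
    ⟨_, _, _, IsPullback.of_hasPullback aT p⟩
  obtain ⟨WTO, ρ₁, ρ₂, sq3⟩ : ∃ (WTO : Sp S) (ρ₁ : WTO ⟶ WT) (ρ₂ : WTO ⟶ (yon S).obj O),
      IsPullback ρ₁ ρ₂ (π₂ ≫ q) aO := ⟨_, _, _, IsPullback.of_hasPullback _ _⟩
  have sq2 : IsPullback π₁ (π₂ ≫ q) (aT ≫ f) g := sq1.paste_vert hW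
  have big : IsPullback (ρ₁ ≫ π₁) ρ₂ φ ψ := by
    rw [hφ, hψ]; exact sq3.paste_horiz sq2
  obtain ⟨e, he1, he2⟩ : ∃ e : (yon S).obj R ≅ WTO, e.hom ≫ (ρ₁ ≫ π₁) = (yon S).map s ∧
      e.hom ≫ ρ₂ = (yon S).map s' :=
    ⟨sqR.isoIsPullback _ _ big, sqR.isoIsPullback_hom_fst _ _ big, sqR.isoIsPullback_hom_snd _ _ big⟩
  refine (hfin.image (Points.ofPt (e.hom ≫ ρ₁ ≫ π₂))).subset ?_
  rintro w ⟨hw1, hw2⟩
  obtain ⟨w₁, hw₁1, hw₁2⟩ := exists_point_of_isPullback sq1 (Points.ofScheme T t) w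
    (by rw [← Points.ofPt_eq_map_ofScheme, ht, hw1])
  obtain ⟨w₂, hw₂1, hw₂2⟩ := exists_point_of_isPullback sq3 w₁ (Points.ofScheme O o)
    (by rw [Points.map_comp, hw₁2, hw2, ← Points.ofPt_eq_map_ofScheme, ho])
  refine ⟨Points.toScheme R (Points.map e.inv w₂), ⟨?_, ?_⟩, ?_⟩
  · apply ofScheme_injective T
    rw [← map_yon_map_ofScheme, Points.ofScheme_toScheme, ← Points.map_comp, ← he1, e.inv_hom_id_assoc,
      Points.map_comp, hw₂1, hw₁1]
  · apply ofScheme_injective O
    rw [← map_yon_map_ofScheme, Points.ofScheme_toScheme, ← Points.map_comp, ← he2, e.inv_hom_id_assoc, hw₂2]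
  · show Points.ofPt (e.hom ≫ ρ₁ ≫ π₂) _ = w
    rw [Points.ofPt_eq_map_ofScheme, Points.ofScheme_toScheme, ← Points.map_comp, e.inv_hom_id_assoc,
      Points.map_comp, hw₂1, hw₁2]

end Groth.Agent.Lib.Helper16
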