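import Groth.Agent.Lib.Helper16.FiniteFibres

/-!
# Helper library (helper16): finiteness of fibres of affine etale charts from an etale covering family
-/

set_option autoImplicit false
universe u
open CategoryTheory CategoryTheory.Limits AlgebraicGeometry Opposite Topology

namespace Groth.Agent.Lib.Helper16

open AlgSp

variable {S : Scheme.{u}}

/-- Local step: every point `v` of an etale chart `V` has an open neighbourhood meeting the fibre over `x` in a finite
set, as soon as the point `ofPt ψ v` is reached by an etale chart `U` with finite fibre over `x`. -/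
theorem exists_open_nhd_finite_fibre {F : Sp S} (x : Points F) {U V : Over S}
    (φ : (yon S).obj U ⟶ F) (hφ : RepWith @Etale φ) (hfin : (Points.ofPt φ ⁻¹' {x}).Finite)
    (ψ : (yon S).obj V ⟶ F) (hψ : RepWith @Etale ψ) (v : ↥V.left) (u₀ : ↥U.left)
    (h : Points.ofPt φ u₀ = Points.ofPt ψ v) :
    ∃ N : Set ↥V.left, IsOpen N ∧ v ∈ N ∧ ((Points.ofPt ψ ⁻¹' {x}) ∩ N).Finite := by
  have sq := hφ.rep.isPullback ψ
  obtain ⟨c, hc⟩ := (yon S).map_surjective (hφ.rep.fst ψ)
  rw [← hc] at sq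
  set snd := hφ.rep.snd ψ with hsnd
  have hset : Etale snd.left := hφ.property_snd ψ
  have hcet : Etale c.left := hψ.property φ _ c sq.flip
  have : LocallyQuasiFinite c.left := locallyQuasiFinite_of_etale c.left
  obtain ⟨w, hw1, hw2⟩ := exists_point_of_isPullback_yon_yon sq u₀ v h
  obtain ⟨U', hU', hu₀U', -⟩ := exists_isAffineOpen_mem_and_subset (x := u₀) (U := ⊤) trivial
  have hwpre : w ∈ c.left ⁻¹ᵁ U' := by
    change c.left w ∈ U'
    rw [hw1]; exact hu₀U'
  obtain ⟨W', hW', hwW', hW'sub⟩ := exists_isAffineOpen_mem_and_subset hwpre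
  refine ⟨snd.left '' (W' : Set _), snd.left.isOpenMap _ W'.isOpen, ⟨w, hwW', hw2⟩, ?_⟩
  -- the part of `W'` over the (finite) fibre of `U`
  have hfin' : ((W' : Set _) ∩ c.left ⁻¹' (Points.ofPt φ ⁻¹' {x})).Finite := by
    have : (W' : Set _) ∩ c.left ⁻¹' (Points.ofPt φ ⁻¹' {x}) =
        ⋃ y ∈ (Points.ofPt φ ⁻¹' {x}), ((W' : Set _) ∩ c.left ⁻¹' {y}) := by
      ext z
      simp only [Set.mem_inter_iff, Set.mem_preimage, Set.mem_singleton_iff, Set.mem_iUnion,
        SetLike.mem_coe, exists_prop]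
      constructor
      · rintro ⟨h1, h2⟩
        exact ⟨c.left z, h2, h1, rfl⟩
      · rintro ⟨y, hy, h1, rfl⟩
        exact ⟨h1, hy⟩
    rw [this]
    exact hfin.biUnion fun y _ => finite_inter_preimage_singleton c.left U' hU' W' hW' hW'sub y
  refine (hfin'.image snd.left).subset ?_
  rintro v₁ ⟨hv₁, ⟨w₁, hw₁W', rfl⟩⟩
  refine ⟨w₁, ⟨hw₁W', ?_⟩, rfl⟩
  simp only [Set.mem_preimage, Set.mem_singleton_iff] at hv₁ ⊢
  rw [← ofPt_yon_map_comp, sq.w, ofPt_yon_map_comp]
  exact hv₁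

/-- If a jointly surjective family of etale charts has finite fibres over `x`, then so has every quasi-compact etale
chart. -/
theorem finite_fibre_of_etale_cover {F : Sp S} (x : Points F) {ι : Type u} (U : ι → Over S)
    (φ : ∀ i, (yon S).obj (U i) ⟶ F) (hφ : ∀ i, RepWith @Etale (φ i))
    (hsurj : ∀ y : Points F, ∃ (i : ι) (v : ↥(U i).left), Points.ofPt (φ i) v = y)
    (hfin : ∀ i, (Points.ofPt (φ i) ⁻¹' {x}).Finite)
    {V : Over S} [CompactSpace ↥V.left] (ψ : (yon S).obj V ⟶ F) (hψ : RepWith @Etale ψ) :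
    (Points.ofPt ψ ⁻¹' {x}).Finite := by
  have hloc : ∀ v : ↥V.left, ∃ N : Set ↥V.left, IsOpen N ∧ v ∈ N ∧
      ((Points.ofPt ψ ⁻¹' {x}) ∩ N).Finite := by
    intro v
    obtain ⟨i, u₀, hu₀⟩ := hsurj (Points.ofPt ψ v)
    exact exists_open_nhd_finite_fibre x (φ i) (hφ i) (hfin i) ψ hψ v u₀ hu₀
  choose N hNo hNv hNf using hloc
  obtain ⟨t, ht⟩ := isCompact_univ.elim_nhds_subcover N (fun v _ => (hNo v).mem_nhds (hNv v))
  have : Points.ofPt ψ ⁻¹' {x} ⊆ ⋃ v ∈ t, ((Points.ofPt ψ ⁻¹' {x}) ∩ N v) := by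
    intro v hv
    have := ht.2 (Set.mem_univ v)
    simp only [Set.mem_iUnion, exists_prop] at this ⊢
    obtain ⟨v', hv't, hv'⟩ := this
    exact ⟨v', hv't, hv, hv'⟩
  exact (t.finite_toSet.biUnion fun v _ => hNf v).subset this

end Groth.Agent.Lib.Helper16
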