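import Groth.Agent.Lib.Helper16.FlatBC1
import Groth.Agent.Lib.Helper16.DimF5
import Groth.Agent.Lib.Helper16.Charts
import Groth.Agent.Lib.Helper16.ChartDiagram

/-!
# Helper library (helper16): flatness of a morphism of algebraic spaces at a point can be tested on one chart diagram;
base change of chart diagrams
-/

set_option autoImplicit false
universe u
open CategoryTheory CategoryTheory.Limits AlgebraicGeometry

namespace Groth.Agent.Lib.Helper16.FlatBC

open AlgSp Groth.Agent.Lib.Helper16 Groth.Agent.Lib.Helper16.DimF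

variable {S : Scheme.{u}}

/-- Flatness of `f` at a point can be tested on any chart diagram through the point. -/
theorem isFlatAtMor_iff {X Y : Sp S} (f : X ⟶ Y) {U V : Over S}
    (a : (yon S).obj U ⟶ X) (b : (yon S).obj V ⟶ Y) (h : U ⟶ V)
    (ha : RepWith @Etale a) (hb : RepWith @Etale b) (hc : a ≫ f = (yon S).map h ≫ b) (u : ↥U.left) :
    IsFlatAtMor f (Points.ofPt a u) ↔ (h.left.stalkMap u).hom.Flat := by
  constructor
  · intro H
    exact H a b h u ha hb hc rfl
  · intro H U' V' a' b' h' u' ha' hb' hc' hu'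
    have key := quantity_transfer (α := Prop) (fun _ _ g w => (g.stalkMap w).hom.Flat)
      (fun p g π h _ _ comm w => propext (flatAt_square p g π h comm w)) f a' b' h' a b h ha' hb' ha hb hc' hc
      u' u hu'
    exact key.mpr H

/-- **Base change of a chart diagram.** Given a pullback square of sheaves `X' = X ×_Y Y'`, a chart diagram
`U = V ×_Y U₀` of `φ`, and an etale chart `V'` of `Y'` over `V`: the scheme `U' = U ×_V V'` is an etale chart of `X'`,
with point lifting. -/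
theorem chart_baseChange {X Y X' Y' : Sp S} {φ : X ⟶ Y} {φ' : X' ⟶ Y'} {pX : X' ⟶ X} {pY : Y' ⟶ Y}
    (sq : IsPullback pX φ' φ pY) {U U₀ V V' U' : Over S}
    (b : (yon S).obj V ⟶ Y) (a₀ : (yon S).obj U₀ ⟶ X) (m : U ⟶ V) (cU : U ⟶ U₀)
    (sqU₀ : IsPullback ((yon S).map m) ((yon S).map cU) b (a₀ ≫ φ))
    (b' : (yon S).obj V' ⟶ Y') (pV : V' ⟶ V) (hcomm : b' ≫ pY = (yon S).map pV ≫ b)
    (pU : U' ⟶ U) (m' : U' ⟶ V') (sqU : IsPullback pU m' m pV)
    (ha₀ : RepWith @Etale a₀) (hb' : RepWith @Etale b') :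
    ∃ a' : (yon S).obj U' ⟶ X',
      a' ≫ pX = (yon S).map pU ≫ (yon S).map cU ≫ a₀ ∧
      a' ≫ φ' = (yon S).map m' ≫ b' ∧ RepWith @Etale a' ∧
      (RepWith @Surjective a₀ → ∀ (x' : Points X') (v' : ↥V'.left),
        Points.ofPt b' v' = Points.map φ' x' →
        ∃ u' : ↥U'.left, Points.ofPt a' u' = x' ∧ m'.left u' = v') := by
  have hsqU : pU ≫ m = m' ≫ pV := sqU.w
  have hT := IsPullback.of_hasPullback φ ((yon S).map pV ≫ b)
  -- the map `τ : X ×_Y V' ⟶ X'`
  have hτc : pullback.fst φ ((yon S).map pV ≫ b) ≫ φ =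
      (pullback.snd φ ((yon S).map pV ≫ b) ≫ b') ≫ pY := by
    rw [Category.assoc, hcomm]
    exact pullback.condition
  let τ : pullback φ ((yon S).map pV ≫ b) ⟶ X' := sq.lift _ _ hτc
  have hτ1 : τ ≫ pX = pullback.fst φ ((yon S).map pV ≫ b) := sq.lift_fst _ _ _
  have hτ2 : τ ≫ φ' = pullback.snd φ ((yon S).map pV ≫ b) ≫ b' := sq.lift_snd _ _ _
  have sqτ : IsPullback τ (pullback.snd φ ((yon S).map pV ≫ b)) φ' b' := by
    refine IsPullback.of_right ?_ hτ2 sq
    rw [hτ1, hcomm]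
    exact hT
  have hτe : RepWith @Etale τ := (RepWith @Etale).of_isPullback sqτ.flip hb'
  -- the map `σ : U' ⟶ X ×_Y V'`
  have e1 : (yon S).map pU ≫ (yon S).map m = (yon S).map m' ≫ (yon S).map pV := by
    rw [← Functor.map_comp, ← Functor.map_comp, hsqU]
  have hσc : ((yon S).map pU ≫ (yon S).map cU ≫ a₀) ≫ φ = (yon S).map m' ≫ (yon S).map pV ≫ b := by
    calc ((yon S).map pU ≫ (yon S).map cU ≫ a₀) ≫ φ
        = (yon S).map pU ≫ ((yon S).map cU ≫ a₀ ≫ φ) := by simp only [Category.assoc]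
      _ = (yon S).map pU ≫ ((yon S).map m ≫ b) := by rw [sqU₀.w]
      _ = ((yon S).map pU ≫ (yon S).map m) ≫ b := (Category.assoc _ _ _).symm
      _ = ((yon S).map m' ≫ (yon S).map pV) ≫ b := by rw [e1]
      _ = (yon S).map m' ≫ (yon S).map pV ≫ b := Category.assoc _ _ _
  let σ : (yon S).obj U' ⟶ pullback φ ((yon S).map pV ≫ b) := pullback.lift _ _ hσc
  have hσ1 : σ ≫ pullback.fst φ ((yon S).map pV ≫ b) = (yon S).map pU ≫ (yon S).map cU ≫ a₀ :=
    pullback.lift_fst _ _ _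
  have hσ2 : σ ≫ pullback.snd φ ((yon S).map pV ≫ b) = (yon S).map m' := pullback.lift_snd _ _ _
  have sqyon : IsPullback ((yon S).map pU) ((yon S).map m') ((yon S).map m) ((yon S).map pV) :=
    sqU.map (yon S)
  have sqbig : IsPullback ((yon S).map pU ≫ (yon S).map cU) ((yon S).map m') (a₀ ≫ φ)
      ((yon S).map pV ≫ b) := sqyon.paste_horiz sqU₀.flip
  have sqσ' : IsPullback ((yon S).map pU ≫ (yon S).map cU) σ a₀
      (pullback.fst φ ((yon S).map pV ≫ b)) := by
    refine IsPullback.of_bot ?_ ?_ hT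
    · rw [hσ2]
      exact sqbig
    · rw [hσ1, Category.assoc]
  have hσe : RepWith @Etale σ := (RepWith @Etale).of_isPullback sqσ' ha₀
  refine ⟨σ ≫ τ, ?_, ?_, (RepWith @Etale).comp_mem _ _ hσe hτe, ?_⟩
  · rw [Category.assoc, hτ1, hσ1]
  · rw [Category.assoc, hτ2, ← Category.assoc, hσ2]
  · intro has x' v' hv'
    obtain ⟨t, ht1, ht2⟩ := exists_point_of_isPullback sqτ x' (Points.ofScheme V' v') (by
      rw [← hv', Points.ofPt_eq_map_ofScheme])
    obtain ⟨u₀, hu₀⟩ := ofPt_surjective_of_surjective a₀ has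
      (Points.map (pullback.fst φ ((yon S).map pV ≫ b)) t)
    have sqσ'' : IsPullback σ ((yon S).map (pU ≫ cU)) (pullback.fst φ ((yon S).map pV ≫ b)) a₀ := by
      rw [Functor.map_comp]
      exact sqσ'.flip
    obtain ⟨u', hu'1, hu'2⟩ := exists_point_of_isPullback_yon sqσ'' t u₀ hu₀.symm
    refine ⟨u', ?_, ?_⟩
    · rw [← Points.map_ofPt, hu'1, ht1]
    · apply ofScheme_injective V'
      have h5 := ofPt_yon_map_comp m' (𝟙 _) u'
      rw [Category.comp_id] at h5
      rw [← ht2, ← hu'1, Points.map_ofPt, hσ2, h5]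

end Groth.Agent.Lib.Helper16.FlatBC
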