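import Groth.Agent.Lib.Helper16.FlatBC2
import Groth.Agent.Lib.Helper16.DimF2
import Groth.Agent.Lib.Helper16.DimF10

/-!
# Helper library (helper16): flatness at a point of the second morphism of a composite of algebraic spaces
-/

set_option autoImplicit false
universe u
open CategoryTheory CategoryTheory.Limits AlgebraicGeometry

namespace Groth.Agent.Lib.Helper16.FlatBC

open AlgSp Groth.Agent.Lib.Helper16 Groth.Agent.Lib.Helper16.DimF

variable {S : Scheme.{u}}

/-- If `f ≫ h` and `f` are flat at `x`, then `h` is flat at `f x`. -/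
theorem isFlatAtMor_of_comp {X Y Z : Sp S} (hX : IsAlgSpace X) (hY : IsAlgSpace Y) (hZ : IsAlgSpace Z)
    (f : X ⟶ Y) (h : Y ⟶ Z) (x : Points X)
    (h1 : IsFlatAtMor (f ≫ h) x) (h2 : IsFlatAtMor f x) : IsFlatAtMor h (Points.map f x) := by
  obtain ⟨U, V, W, a, b, c, m, k, hae, hbe, hce, has, hac, hbc⟩ := exists_chart_tower hX hY hZ f h
  obtain ⟨u, rfl⟩ := ofPt_surjective_of_surjective a has x
  have hacc : a ≫ (f ≫ h) = (yon S).map (m ≫ k) ≫ c := by
    rw [← Category.assoc, hac, Category.assoc, hbc, ← Category.assoc, ← Functor.map_comp]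
  have e1 : ((m ≫ k).left.stalkMap u).hom.Flat := h1 a c (m ≫ k) u hae hce hacc rfl
  have e2 : (m.left.stalkMap u).hom.Flat := h2 a b m u hae hbe hac rfl
  rw [map_ofPt_chart f a b m hac u, isFlatAtMor_iff h b c k hbe hce hbc]
  have e1' : ((m.left ≫ k.left).stalkMap u).hom.Flat := e1
  exact Groth.Agent.Lib.Helper14.LCF.flat_stalkMap_of_comp m.left k.left u e1' e2

end Groth.Agent.Lib.Helper16.FlatBC
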