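import Mathlib
import Groth.Agent.Lib.Helper17.FibreCritSch
import Groth.Agent.Lib.Helper17.FibreStalkMap

/-!
# Helper library (helper16): the fibrewise criterion of flatness for locally Noetherian schemes, in terms of the
morphisms induced on scheme-theoretic fibres
-/

set_option autoImplicit false
universe u
open CategoryTheory CategoryTheory.Limits AlgebraicGeometry

namespace Groth.Agent.Lib.Helper16.FlatFib

section Alg

/-- Flatness of `S/I → S'/IS'` from flatness of an isomorphic copy `C → N`. -/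
theorem flat_quot_of_square {S S' C N : Type u} [CommRing S] [CommRing S'] [CommRing C] [CommRing N]
    [Algebra S S'] (I : Ideal S)
    (πS : S →+* C) (πS' : S' →+* N) (φ : C →+* N)
    (hcomm : φ.comp πS = πS'.comp (algebraMap S S'))
    (hπS : Function.Surjective πS) (hkS : RingHom.ker πS = I)
    (hπS' : Function.Surjective πS') (hkS' : RingHom.ker πS' = I.map (algebraMap S S'))
    (hφ : φ.Flat) :
    Module.Flat (S ⧸ I) (S' ⧸ (I • (⊤ : Submodule S S'))) := by
  have hI : ∀ a : S, a ∈ I → πS a = 0 := fun a ha => by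
    rw [← RingHom.mem_ker, hkS]; exact ha
  let ψ : S ⧸ I →+* C := Ideal.Quotient.lift I πS hI
  have hψ : Function.Bijective ψ :=
    ⟨RingHom.lift_injective_of_ker_le_ideal I hI (le_of_eq hkS),
      Ideal.Quotient.lift_surjective_of_surjective I hI hπS⟩
  letI aAC : Algebra (S ⧸ I) C := ψ.toAlgebra
  letI aCN : Algebra C N := φ.toAlgebra
  letI aAN : Algebra (S ⧸ I) N := (φ.comp ψ).toAlgebra
  haveI : IsScalarTower (S ⧸ I) C N := IsScalarTower.of_algebraMap_eq fun _ => rfl
  haveI : Module.Flat C N := hφ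
  haveI : Module.Flat (S ⧸ I) C :=
    Module.Flat.of_linearEquiv (LinearEquiv.ofBijective (Algebra.linearMap (S ⧸ I) C) hψ).symm
  haveI : Module.Flat (S ⧸ I) N := Module.Flat.trans (S ⧸ I) C N
  letI mSN : Module S N := Module.compHom N (πS'.comp (algebraMap S S'))
  haveI : IsScalarTower S (S ⧸ I) N := by
    refine IsScalarTower.of_algebraMap_smul fun s n => ?_
    show (φ.comp ψ) (Ideal.Quotient.mk I s) * n = (πS'.comp (algebraMap S S')) s * n
    rw [← hcomm]
    rfl
  let ℓ : S' →ₗ[S] N :=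
    { toFun := πS'
      map_add' := map_add πS'
      map_smul' := fun s x => by
        show πS' (s • x) = (πS'.comp (algebraMap S S')) s * πS' x
        rw [Algebra.smul_def, map_mul]
        rfl }
  have hℓs : Function.Surjective ℓ := hπS'
  have hker : LinearMap.ker ℓ = I • (⊤ : Submodule S S') := by
    rw [Ideal.smul_top_eq_map]
    ext x
    rw [LinearMap.mem_ker, Submodule.restrictScalars_mem, ← hkS', RingHom.mem_ker]
    rfl
  let e₀ : (S' ⧸ (I • (⊤ : Submodule S S'))) ≃ₗ[S] N :=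
    (Submodule.quotEquivOfEq _ _ hker.symm).trans (ℓ.quotKerEquivOfSurjective hℓs)
  let e : (S' ⧸ (I • (⊤ : Submodule S S'))) ≃ₗ[S ⧸ I] N :=
    LinearEquiv.extendScalarsOfSurjective Ideal.Quotient.mk_surjective e₀
  exact Module.Flat.of_linearEquiv e

end Alg

section Sch

open Groth.Agent.Lib.Helper6 Groth.Agent.Lib.Helper17.FibreStalkMap Groth.Agent.Lib.Helper17.FibreCritSch

variable {U V W : Scheme.{u}} (m : U ⟶ V) (k : V ⟶ W)

/-- If the morphism induced on the fibres over `w` is flat, the fibre rings are flat over each other. -/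
theorem flat_quot_stalk_of_flat_fiber (w : W) (m' : (m ≫ k).fiber w ⟶ k.fiber w)
    (hm' : m' ≫ k.fiberι w = (m ≫ k).fiberι w ≫ m) [Flat m'] (u' : (m ≫ k).fiber w) :
    letI : Algebra (V.presheaf.stalk (m ((m ≫ k).fiberι w u'))) (U.presheaf.stalk ((m ≫ k).fiberι w u')) :=
      (m.stalkMap ((m ≫ k).fiberι w u')).hom.toAlgebra
    Module.Flat (V.presheaf.stalk (m ((m ≫ k).fiberι w u')) ⧸ fiberIdeal k (m ((m ≫ k).fiberι w u')))
      (U.presheaf.stalk ((m ≫ k).fiberι w u') ⧸
        (fiberIdeal k (m ((m ≫ k).fiberι w u')) •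
          (⊤ : Submodule (V.presheaf.stalk (m ((m ≫ k).fiberι w u')))
            (U.presheaf.stalk ((m ≫ k).fiberι w u'))))) := by
  have hpt : m ((m ≫ k).fiberι w u') = k.fiberι w (m' u') := by
    have h1 : ((m ≫ k).fiberι w ≫ m) u' = (m' ≫ k.fiberι w) u' := by rw [hm']
    exact h1
  have e : Inseparable (((m ≫ k).fiberι w ≫ m) u') ((m' ≫ k.fiberι w) u') := .of_eq hpt
  have h1 := stalkMap_fiberι (m ≫ k) w u'
  have h2 := stalkMap_fiberι k w (m' u')
  have hc1 : ((m ≫ k).fiberι w ≫ m).stalkMap u' =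
      m.stalkMap ((m ≫ k).fiberι w u') ≫ ((m ≫ k).fiberι w).stalkMap u' :=
    Scheme.Hom.stalkMap_comp _ _ _
  have hc2 : (m' ≫ k.fiberι w).stalkMap u' =
      (k.fiberι w).stalkMap (m' u') ≫ m'.stalkMap u' := Scheme.Hom.stalkMap_comp _ _ _
  have hc3 : ((m ≫ k).fiberι w ≫ m).stalkMap u' =
      (V.presheaf.stalkCongr e).hom ≫ (m' ≫ k.fiberι w).stalkMap u' :=
    Scheme.Hom.stalkMap_congr_hom _ _ hm'.symm u'
  letI : Algebra (V.presheaf.stalk (m ((m ≫ k).fiberι w u'))) (U.presheaf.stalk ((m ≫ k).fiberι w u')) :=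
    (m.stalkMap ((m ≫ k).fiberι w u')).hom.toAlgebra
  have hsq : ((V.presheaf.stalkCongr e).hom ≫ (k.fiberι w).stalkMap (m' u')) ≫ m'.stalkMap u' =
      m.stalkMap ((m ≫ k).fiberι w u') ≫ ((m ≫ k).fiberι w).stalkMap u' := by
    rw [Category.assoc]
    exact ((congrArg (fun t => (V.presheaf.stalkCongr e).hom ≫ t) hc2).symm.trans hc3.symm).trans hc1
  refine flat_quot_of_square (fiberIdeal k (m ((m ≫ k).fiberι w u')))
    ((V.presheaf.stalkCongr e).hom ≫ (k.fiberι w).stalkMap (m' u')).hom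
    (((m ≫ k).fiberι w).stalkMap u').hom (m'.stalkMap u').hom ?_ ?_ ?_ h1.1 ?_ (Flat.stalkMap m' u')
  · exact congrArg (fun t => t.hom) hsq
  · intro c
    obtain ⟨s, rfl⟩ := h2.1 c
    refine ⟨(V.presheaf.stalkCongr e).inv.hom s, ?_⟩
    show ((k.fiberι w).stalkMap (m' u')).hom
      (((V.presheaf.stalkCongr e).inv ≫ (V.presheaf.stalkCongr e).hom).hom s) = _
    rw [Iso.inv_hom_id]
    rfl
  · have h3 : RingHom.ker ((V.presheaf.stalkCongr e).hom ≫ (k.fiberι w).stalkMap (m' u')).hom =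
        (RingHom.ker ((k.fiberι w).stalkMap (m' u')).hom).comap (V.presheaf.stalkCongr e).hom.hom :=
      (RingHom.comap_ker _ _).symm
    refine h3.trans ?_
    refine (congrArg (fun J => Ideal.comap (V.presheaf.stalkCongr e).hom.hom J) h2.2).trans ?_
    exact comap_stalkCongr_fiberIdeal k (k.fiberι w (m' u')) (m ((m ≫ k).fiberι w u')) hpt e
  · rw [h1.2]
    show _ = Ideal.map (m.stalkMap ((m ≫ k).fiberι w u')).hom
      (Ideal.map (k.stalkMap (m ((m ≫ k).fiberι w u'))).hom _)
    rw [Ideal.map_map, Scheme.Hom.stalkMap_comp]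
    rfl

/-- **Fibrewise criterion of flatness** for locally Noetherian schemes, with the hypothesis on the fibres expressed by
the morphisms induced on scheme-theoretic fibres. -/
theorem flat_of_flat_fibres [IsLocallyNoetherian U] [IsLocallyNoetherian V] [IsLocallyNoetherian W]
    [Flat (m ≫ k)]
    (hfib : ∀ w : W, ∃ m' : (m ≫ k).fiber w ⟶ k.fiber w,
      m' ≫ k.fiberι w = (m ≫ k).fiberι w ≫ m ∧ Flat m')
    (u : U) : (m.stalkMap u).hom.Flat ∧ (k.stalkMap (m u)).hom.Flat := by
  obtain ⟨m', hm', hfl⟩ := hfib ((m ≫ k) u)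
  have key : ∀ u' : (m ≫ k).fiber ((m ≫ k) u),
      (m.stalkMap ((m ≫ k).fiberι _ u')).hom.Flat ∧
        (k.stalkMap (m ((m ≫ k).fiberι _ u'))).hom.Flat := by
    intro u'
    have hB := flat_quot_stalk_of_flat_fiber m k _ m' hm' u'
    generalize (m ≫ k).fiberι ((m ≫ k) u) u' = x at hB ⊢
    letI aRS : Algebra (W.presheaf.stalk (k (m x))) (V.presheaf.stalk (m x)) :=
      (k.stalkMap (m x)).hom.toAlgebra
    letI aSS' : Algebra (V.presheaf.stalk (m x)) (U.presheaf.stalk x) := (m.stalkMap x).hom.toAlgebra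
    letI aRS' : Algebra (W.presheaf.stalk (k (m x))) (U.presheaf.stalk x) :=
      ((m.stalkMap x).hom.comp (k.stalkMap (m x)).hom).toAlgebra
    haveI t1 : IsScalarTower (W.presheaf.stalk (k (m x))) (V.presheaf.stalk (m x)) (U.presheaf.stalk x) :=
      IsScalarTower.of_algebraMap_eq fun _ => rfl
    haveI l1 : IsLocalHom (algebraMap (W.presheaf.stalk (k (m x))) (V.presheaf.stalk (m x))) :=
      inferInstanceAs (IsLocalHom (k.stalkMap (m x)).hom)
    haveI l2 : IsLocalHom (algebraMap (V.presheaf.stalk (m x)) (U.presheaf.stalk x)) :=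
      inferInstanceAs (IsLocalHom (m.stalkMap x).hom)
    have hRS' : Module.Flat (W.presheaf.stalk (k (m x))) (U.presheaf.stalk x) := by
      have h0 := Flat.stalkMap (m ≫ k) x
      rw [Scheme.Hom.stalkMap_comp] at h0
      exact h0
    have key := (fibre_criterion_iff (R := W.presheaf.stalk (k (m x))) (S := V.presheaf.stalk (m x))
      (S' := U.presheaf.stalk x) (M := U.presheaf.stalk x)).1 ⟨hRS', hB⟩
    exact ⟨key.2, key.1⟩
  have h := key ((m ≫ k).asFiber u)
  rwa [(m ≫ k).fiberι_asFiber u] at h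

end Sch

end Groth.Agent.Lib.Helper16.FlatFib
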