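import Groth.Agent.Lib.Helper16.FlatFib1
import Groth.Agent.Lib.Helper16.LocPGen
import Groth.Agent.Lib.Helper16.ChartDiagram
import Groth.Agent.Lib.Helper16.DimF2

/-!
# Helper library (helper16): chart diagrams on the fibres of morphisms of algebraic spaces
-/

set_option autoImplicit false
universe u
open CategoryTheory CategoryTheory.Limits AlgebraicGeometry

namespace Groth.Agent.Lib.Helper16.FlatFib

open AlgSp Groth.Agent.Lib.Helper16

variable {S : Scheme.{u}}

/-- The base change of a chart to a "fibre" `X ×_Z T` (for `T ⟶ W` a morphism of schemes into an etale chart `W` of `Z`)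
is an etale chart of the fibre. -/
theorem repWith_etale_fibre_chart {X Z : Sp S} (φ : X ⟶ Z) {U W T : Over S}
    (a : (yon S).obj U ⟶ X) (c : (yon S).obj W ⟶ Z) (n : U ⟶ W)
    (ha : RepWith @Etale a) (hc : RepWith @Etale c) (hac : a ≫ φ = (yon S).map n ≫ c)
    (ι : T ⟶ W) {Xz : Sp S} (pX : Xz ⟶ X) (qX : Xz ⟶ (yon S).obj T)
    (sq : IsPullback pX qX φ ((yon S).map ι ≫ c))
    (aT : (yon S).obj (pullback n ι) ⟶ Xz)
    (h1 : aT ≫ pX = (yon S).map (pullback.fst n ι) ≫ a)
    (h2 : aT ≫ qX = (yon S).map (pullback.snd n ι)) : RepWith @Etale aT := by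
  have sqXW := IsPullback.of_hasPullback φ c
  have hpr : RepWith @Etale (pullback.fst φ c) := (RepWith @Etale).of_isPullback sqXW.flip hc
  let e : (yon S).obj U ⟶ pullback φ c := pullback.lift a ((yon S).map n) hac
  have he1 : e ≫ pullback.fst φ c = a := pullback.lift_fst _ _ _
  have he2 : e ≫ pullback.snd φ c = (yon S).map n := pullback.lift_snd _ _ _
  have he : RepWith @Etale e :=
    repWith_etale_of_comp e (pullback.fst φ c) hpr (by rw [he1]; exact ha)
  let g : Xz ⟶ pullback φ c := pullback.lift pX (qX ≫ (yon S).map ι) (by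
    rw [Category.assoc]; exact sq.w)
  have hg1 : g ≫ pullback.fst φ c = pX := pullback.lift_fst _ _ _
  have hg2 : g ≫ pullback.snd φ c = qX ≫ (yon S).map ι := pullback.lift_snd _ _ _
  have hR : IsPullback g qX (pullback.snd φ c) ((yon S).map ι) := by
    refine IsPullback.of_right ?_ hg2 sqXW
    rw [hg1]
    exact sq
  have hO : IsPullback ((yon S).map (pullback.snd n ι)) ((yon S).map (pullback.fst n ι))
      ((yon S).map ι) ((yon S).map n) :=
    ((IsPullback.of_hasPullback n ι).map (yon S)).flip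
  have hcomm : aT ≫ g = (yon S).map (pullback.fst n ι) ≫ e := by
    apply pullback.hom_ext
    · rw [Category.assoc, hg1, Category.assoc, he1, h1]
    · rw [Category.assoc, hg2, Category.assoc, he2, ← Category.assoc, h2,
        ← Functor.map_comp, ← Functor.map_comp, pullback.condition]
  have hT : IsPullback aT ((yon S).map (pullback.fst n ι)) g e := by
    refine IsPullback.of_right ?_ hcomm hR.flip
    rw [h2, he2]
    exact hO
  exact (RepWith @Etale).of_isPullback hT.flip he

/-- The morphism induced on "fibres" of a chart tower is flat when the fibres of the morphisms of spaces are flat over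
each other. -/
theorem flat_fibre_chart {X Y Z : Sp S} (f : X ⟶ Y) (h : Y ⟶ Z) {U V W T : Over S}
    (a : (yon S).obj U ⟶ X) (b : (yon S).obj V ⟶ Y) (c : (yon S).obj W ⟶ Z) (m : U ⟶ V) (k : V ⟶ W)
    (ha : RepWith @Etale a) (hb : RepWith @Etale b) (hc : RepWith @Etale c)
    (hac : a ≫ f = (yon S).map m ≫ b) (hbc : b ≫ h = (yon S).map k ≫ c) (ι : T ⟶ W)
    (hfz : ∀ (Xz Yz : Sp S) (pX : Xz ⟶ X) (qX : Xz ⟶ (yon S).obj T) (pY : Yz ⟶ Y)
      (qY : Yz ⟶ (yon S).obj T) (fz : Xz ⟶ Yz), IsPullback pX qX (f ≫ h) ((yon S).map ι ≫ c) →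
      IsPullback pY qY h ((yon S).map ι ≫ c) → fz ≫ pY = pX ≫ f → fz ≫ qY = qX → LocP @Flat fz)
    (mT : pullback (m ≫ k) ι ⟶ pullback k ι)
    (hm1 : mT ≫ pullback.fst k ι = pullback.fst (m ≫ k) ι ≫ m)
    (hm2 : mT ≫ pullback.snd k ι = pullback.snd (m ≫ k) ι) : Flat mT.left := by
  have hacc : a ≫ (f ≫ h) = (yon S).map (m ≫ k) ≫ c := by
    rw [← Category.assoc, hac, Category.assoc, hbc, ← Category.assoc, ← Functor.map_comp]
  let aT : (yon S).obj (pullback (m ≫ k) ι) ⟶ pullback (f ≫ h) ((yon S).map ι ≫ c) :=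
    pullback.lift ((yon S).map (pullback.fst (m ≫ k) ι) ≫ a) ((yon S).map (pullback.snd (m ≫ k) ι)) (by
      rw [Category.assoc, hacc, ← Category.assoc, ← Functor.map_comp, pullback.condition,
        Functor.map_comp, Category.assoc])
  have haT1 : aT ≫ pullback.fst (f ≫ h) ((yon S).map ι ≫ c) =
      (yon S).map (pullback.fst (m ≫ k) ι) ≫ a := pullback.lift_fst _ _ _
  have haT2 : aT ≫ pullback.snd (f ≫ h) ((yon S).map ι ≫ c) =
      (yon S).map (pullback.snd (m ≫ k) ι) := pullback.lift_snd _ _ _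
  let bT : (yon S).obj (pullback k ι) ⟶ pullback h ((yon S).map ι ≫ c) :=
    pullback.lift ((yon S).map (pullback.fst k ι) ≫ b) ((yon S).map (pullback.snd k ι)) (by
      rw [Category.assoc, hbc, ← Category.assoc, ← Functor.map_comp, pullback.condition,
        Functor.map_comp, Category.assoc])
  have hbT1 : bT ≫ pullback.fst h ((yon S).map ι ≫ c) = (yon S).map (pullback.fst k ι) ≫ b :=
    pullback.lift_fst _ _ _
  have hbT2 : bT ≫ pullback.snd h ((yon S).map ι ≫ c) = (yon S).map (pullback.snd k ι) :=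
    pullback.lift_snd _ _ _
  let fz : pullback (f ≫ h) ((yon S).map ι ≫ c) ⟶ pullback h ((yon S).map ι ≫ c) :=
    pullback.lift (pullback.fst (f ≫ h) ((yon S).map ι ≫ c) ≫ f)
      (pullback.snd (f ≫ h) ((yon S).map ι ≫ c)) (by
      rw [Category.assoc]; exact pullback.condition)
  have hfz1 : fz ≫ pullback.fst h ((yon S).map ι ≫ c) =
      pullback.fst (f ≫ h) ((yon S).map ι ≫ c) ≫ f := pullback.lift_fst _ _ _
  have hfz2 : fz ≫ pullback.snd h ((yon S).map ι ≫ c) =
      pullback.snd (f ≫ h) ((yon S).map ι ≫ c) := pullback.lift_snd _ _ _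
  have haT : RepWith @Etale aT :=
    repWith_etale_fibre_chart (f ≫ h) a c (m ≫ k) ha hc hacc ι _ _ (IsPullback.of_hasPullback _ _) aT haT1 haT2
  have hbT : RepWith @Etale bT :=
    repWith_etale_fibre_chart h b c k hb hc hbc ι _ _ (IsPullback.of_hasPullback _ _) bT hbT1 hbT2
  have hL := hfz _ _ _ _ _ _ fz (IsPullback.of_hasPullback _ _) (IsPullback.of_hasPullback _ _) hfz1 hfz2
  refine hL aT bT mT haT hbT ?_
  apply pullback.hom_ext
  · rw [Category.assoc, hfz1, ← Category.assoc, haT1, Category.assoc, hac, Category.assoc, hbT1,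
      ← Category.assoc, ← Category.assoc, ← Functor.map_comp, ← Functor.map_comp, hm1]
  · rw [Category.assoc, hfz2, haT2, Category.assoc, hbT2, ← Functor.map_comp, hm2]

end Groth.Agent.Lib.Helper16.FlatFib
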