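import Groth.Agent.Lib.Helper16.FlatFib1
import Groth.Agent.Lib.Helper14.LCF.FibreMapStalk

/-!
# Helper library (helper16): the fibrewise criterion of flatness for schemes locally of finite presentation over a base
(no Noetherian hypotheses), in terms of the morphisms induced on scheme-theoretic fibres
-/

set_option autoImplicit false
universe u
open CategoryTheory CategoryTheory.Limits AlgebraicGeometry

namespace Groth.Agent.Lib.Helper16.FlatFib

open Groth.Agent.Lib.Helper6 Groth.Agent.Lib.Helper14

variable {U V W : Scheme.{u}} (m : U ⟶ V) (k : V ⟶ W)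

/-- **Fibrewise criterion of flatness**, finitely presented case, with the hypothesis on the fibres expressed by
the morphisms induced on scheme-theoretic fibres. -/
theorem flat_of_flat_fibres_fp [LocallyOfFinitePresentation (m ≫ k)] [LocallyOfFiniteType k]
    [Flat (m ≫ k)]
    (hfib : ∀ w : W, ∃ m' : (m ≫ k).fiber w ⟶ k.fiber w,
      m' ≫ k.fiberι w = (m ≫ k).fiberι w ≫ m ∧ Flat m')
    (u : U) : (m.stalkMap u).hom.Flat ∧ (k.stalkMap (m u)).hom.Flat := by
  obtain ⟨m', hm', hfl⟩ := hfib ((m ≫ k) u)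
  have key : ∀ u' : (m ≫ k).fiber ((m ≫ k) u),
      (m.stalkMap ((m ≫ k).fiberι _ u')).hom.Flat ∧
        (k.stalkMap (m ((m ≫ k).fiberι _ u'))).hom.Flat := by
    intro u'
    have hB := flat_quot_stalk_of_flat_fiber m k _ m' hm' u'
    generalize (m ≫ k).fiberι ((m ≫ k) u) u' = x at hB ⊢
    have h1 : ((m ≫ k).stalkMap x).hom.Flat := Flat.stalkMap (m ≫ k) x
    have h4 : (m.stalkMap x).hom.Flat := LCF.flat_stalkMap_of_flat_fibre m k x h1 hB
    exact ⟨h4, LCF.flat_stalkMap_of_comp m k x h1 h4⟩
  have h := key ((m ≫ k).asFiber u)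
  rwa [(m ≫ k).fiberι_asFiber u] at h

end Groth.Agent.Lib.Helper16.FlatFib
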