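import Mathlib

/-!
# Helper library (helper16): spreading out a standard etale algebra over a localization
-/

set_option autoImplicit false
universe u
open Polynomial

namespace Groth.Agent.Lib.Helper16.FlatMonoAlg

section PolyA

variable {A A' E' : Type u} [CommRing A] [CommRing A'] [CommRing E'] [Algebra A A'] [Algebra A' E'] [Algebra A E']
  [IsScalarTower A A' E']

variable (A') in
theorem isUnit_algebraMap_of_mem (M : Submonoid A) [IsLocalization M A'] {b : A} (hb : b ∈ M) :
    IsUnit (algebraMap A E' b) := by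
  rw [IsScalarTower.algebraMap_apply A A' E']
  exact (IsLocalization.map_units A' (⟨b, hb⟩ : M)).map _

/-- **RL-A**: a standard etale algebra over a localization `A'` of `A` is generated, up to units, by an element
that is a root of a monic polynomial over `A` with invertible derivative. -/
theorem exists_integral_generator (M : Submonoid A) [IsLocalization M A'] [Nontrivial A']
    (Pres : StandardEtalePresentation A' E') :
    ∃ (F G : A[X]) (x : E'), F.Monic ∧ aeval x F = 0 ∧ IsUnit (aeval x (G * derivative F)) ∧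
      ∀ y : E', ∃ s c : A[X], IsUnit (aeval x s) ∧ y * aeval x s = aeval x c := by
  classical
  set f := Pres.f with hfdef
  set g := Pres.g with hgdef
  set x₀ := Pres.x with hx₀
  set n := f.natDegree with hn
  have hfm : f.Monic := Pres.monic_f
  obtain ⟨σ, hσ⟩ := IsLocalization.exist_integer_multiples M (Finset.range (n + 1)) (fun i => f.coeff i)
  obtain ⟨u, hu⟩ : ∃ u : A', u = algebraMap A A' (σ : A) := ⟨_, rfl⟩
  have huu : IsUnit u := hu ▸ IsLocalization.map_units A' σ
  obtain ⟨v, hv⟩ : ∃ v : A', u * v = 1 := huu.exists_right_inv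
  have hvu : v * u = 1 := by rw [mul_comm]; exact hv
  -- the rescaled monic polynomial
  obtain ⟨ft, hft⟩ : ∃ ft : A'[X], ft = C (u ^ n) * f.comp (C v * X) := ⟨_, rfl⟩
  have hcoeff : ∀ i, ft.coeff i = u ^ n * (f.coeff i * v ^ i) := by
    intro i
    rw [hft, coeff_C_mul, comp_C_mul_X_coeff]
  have hcoeff_le : ∀ i, i ≤ n → ft.coeff i = u ^ (n - i) * f.coeff i := by
    intro i hi
    rw [hcoeff]
    have : u ^ n = u ^ (n - i) * u ^ i := by rw [← pow_add, Nat.sub_add_cancel hi]
    rw [this]
    have h1 : u ^ i * v ^ i = 1 := by rw [← mul_pow, hv, one_pow]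
    calc u ^ (n - i) * u ^ i * (f.coeff i * v ^ i) = u ^ (n - i) * f.coeff i * (u ^ i * v ^ i) := by ring
      _ = u ^ (n - i) * f.coeff i := by rw [h1, mul_one]
  have hcoeff_gt : ∀ i, n < i → ft.coeff i = 0 := by
    intro i hi
    rw [hcoeff, coeff_eq_zero_of_natDegree_lt hi, zero_mul, mul_zero]
  have hftm : ft.Monic := by
    apply monic_of_natDegree_le_of_coeff_eq_one n
    · rw [natDegree_le_iff_coeff_eq_zero]
      exact hcoeff_gt
    · rw [hcoeff_le n le_rfl, Nat.sub_self, pow_zero, one_mul]
      exact hfm.coeff_natDegree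
  have hlifts : ft ∈ lifts (algebraMap A A') := by
    rw [lifts_iff_coeff_lifts]
    intro i
    rcases lt_trichotomy i n with hi | hi | hi
    · rw [hcoeff_le i hi.le]
      obtain ⟨a, ha⟩ := hσ i (Finset.mem_range.2 (Nat.lt_succ_of_lt hi))
      refine ⟨(σ : A) ^ (n - i - 1) * a, ?_⟩
      rw [map_mul, map_pow, ha, ← hu, Algebra.smul_def, ← hu, ← mul_assoc, ← pow_succ]
      congr 2
      omega
    · subst hi
      refine ⟨1, ?_⟩
      rw [hcoeff_le _ le_rfl, Nat.sub_self, pow_zero, one_mul, map_one]
      exact hfm.coeff_natDegree.symm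
    · exact ⟨0, by rw [hcoeff_gt i hi, map_zero]⟩
  obtain ⟨F, hFmap, -, hFm⟩ := lifts_and_degree_eq_and_monic hlifts hftm
  obtain ⟨x, hxdef⟩ : ∃ x : E', x = algebraMap A' E' u * x₀ := ⟨_, rfl⟩
  have hvx : aeval x (C v * X : A'[X]) = x₀ := by
    rw [map_mul, aeval_C, aeval_X, hxdef, ← mul_assoc, ← map_mul, hvu, map_one, one_mul]
  have haevalA : ∀ q : A[X], aeval x q = aeval x (q.map (algebraMap A A')) := fun q =>
    (aeval_map_algebraMap A' x q).symm
  have hcomp : ∀ q : A'[X], aeval x (q.comp (C v * X)) = aeval x₀ q := by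
    intro q
    rw [aeval_comp, hvx]
  have hF0 : aeval x F = 0 := by
    rw [haevalA, hFmap, hft, map_mul, hcomp]
    have : aeval x₀ f = 0 := Pres.hasMap.1
    rw [this, mul_zero]
  have hF' : IsUnit (aeval x (derivative F)) := by
    rw [haevalA, ← derivative_map, hFmap, hft, derivative_mul, derivative_C, zero_mul, zero_add, derivative_comp,
      derivative_mul, derivative_C, zero_mul, zero_add, derivative_X, mul_one, map_mul, map_mul, hcomp, aeval_C,
      aeval_C]
    refine IsUnit.mul ((huu.pow n).map _) (IsUnit.mul ?_ Pres.hasMap.isUnit_derivative_f)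
    exact (IsUnit.of_mul_eq_one u hvu).map _
  -- the second polynomial
  obtain ⟨b, hbM, hb⟩ := IsLocalization.integerNormalization_spec M (g.comp (C v * X))
  have hGval : aeval x (IsLocalization.integerNormalization M (g.comp (C v * X))) =
      algebraMap A E' b * aeval x₀ g := by
    rw [haevalA, hb, ← algebraMap_smul A' b (g.comp (C v * X)), map_smul, hcomp, Algebra.smul_def,
      ← IsScalarTower.algebraMap_apply]
  have hGu : IsUnit (aeval x (IsLocalization.integerNormalization M (g.comp (C v * X)))) := by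
    rw [hGval]
    exact (isUnit_algebraMap_of_mem A' M hbM).mul Pres.hasMap.2
  refine ⟨F, IsLocalization.integerNormalization M (g.comp (C v * X)), x, hFm, hF0, ?_, ?_⟩
  · rw [map_mul]
    exact hGu.mul hF'
  · intro y
    obtain ⟨p, k, hp⟩ := Pres.exists_mul_aeval_x_g_pow_eq_aeval_x y
    obtain ⟨τ, hτM, hτ⟩ := IsLocalization.integerNormalization_spec M (p.comp (C v * X))
    have hpval : aeval x (IsLocalization.integerNormalization M (p.comp (C v * X))) =
        algebraMap A E' τ * aeval x₀ p := by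
      rw [haevalA, hτ, ← algebraMap_smul A' τ (p.comp (C v * X)), map_smul, hcomp, Algebra.smul_def,
        ← IsScalarTower.algebraMap_apply]
    refine ⟨C τ * IsLocalization.integerNormalization M (g.comp (C v * X)) ^ k,
      C (b ^ k) * IsLocalization.integerNormalization M (p.comp (C v * X)), ?_, ?_⟩
    · rw [map_mul, map_pow, aeval_C]
      exact (isUnit_algebraMap_of_mem A' M hτM).mul (hGu.pow k)
    · rw [map_mul, map_pow, aeval_C, map_mul, aeval_C, hGval, hpval, ← hp, mul_pow, map_pow]
      ring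

end PolyA

section Away

/-- The canonical map from the localization away from an element of `N` to the localization at `N`. -/
noncomputable def awayTo {B : Type u} [CommRing B] (N : Submonoid B) (E' : Type u) [CommRing E'] [Algebra B E']
    [IsLocalization N E'] (b : B) (hb : b ∈ N) : Localization.Away b →+* E' :=
  IsLocalization.Away.lift b (g := algebraMap B E') (IsLocalization.map_units E' (⟨b, hb⟩ : N))

variable {B E' : Type u} [CommRing B] [CommRing E'] [Algebra B E'] (N : Submonoid B) [IsLocalization N E']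

@[simp] theorem awayTo_algebraMap (b : B) (hb : b ∈ N) (β : B) :
    awayTo N E' b hb (algebraMap B (Localization.Away b) β) = algebraMap B E' β :=
  IsLocalization.Away.lift_eq _ _ _

theorem awayTo_comp (b : B) (hb : b ∈ N) :
    (awayTo N E' b hb).comp (algebraMap B (Localization.Away b)) = algebraMap B E' :=
  RingHom.ext (awayTo_algebraMap N b hb)

/-- **C1** -/
theorem exists_mul_eq_zero_of_awayTo_eq_zero (b : B) (hb : b ∈ N) (z : Localization.Away b)
    (hz : awayTo N E' b hb z = 0) : ∃ t ∈ N, algebraMap B (Localization.Away b) t * z = 0 := by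
  obtain ⟨β, s, rfl⟩ := IsLocalization.exists_mk'_eq (Submonoid.powers b) z
  have h1 : IsLocalization.mk' (Localization.Away b) β s * algebraMap B (Localization.Away b) s =
      algebraMap B (Localization.Away b) β := IsLocalization.mk'_spec _ _ _
  have h2 := congrArg (awayTo N E' b hb) h1
  rw [map_mul, hz, zero_mul, awayTo_algebraMap] at h2
  obtain ⟨t, ht⟩ := (IsLocalization.map_eq_zero_iff N E' β).1 h2.symm
  refine ⟨t, t.2, ?_⟩
  have hu : IsUnit (algebraMap B (Localization.Away b) s) := IsLocalization.map_units _ s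
  apply hu.mul_left_injective
  show algebraMap B (Localization.Away b) ↑t * IsLocalization.mk' (Localization.Away b) β s *
    algebraMap B (Localization.Away b) ↑s = 0 * algebraMap B (Localization.Away b) ↑s
  rw [zero_mul, mul_assoc, h1, ← map_mul, ht, map_zero]

/-- **C2** -/
theorem exists_mul_eq_of_isUnit_awayTo (b : B) (hb : b ∈ N) (z : Localization.Away b)
    (hz : IsUnit (awayTo N E' b hb z)) :
    ∃ t ∈ N, ∃ w : Localization.Away b, z * w = algebraMap B (Localization.Away b) t := by
  obtain ⟨β, s, rfl⟩ := IsLocalization.exists_mk'_eq (Submonoid.powers b) z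
  have h1 : IsLocalization.mk' (Localization.Away b) β s * algebraMap B (Localization.Away b) s =
      algebraMap B (Localization.Away b) β := IsLocalization.mk'_spec _ _ _
  have h2 := congrArg (awayTo N E' b hb) h1
  rw [map_mul, awayTo_algebraMap, awayTo_algebraMap] at h2
  have hsN : (s : B) ∈ N := by
    obtain ⟨k, hk⟩ := s.2
    rw [← hk]
    exact pow_mem hb k
  have hβ : IsUnit (algebraMap B E' β) := by
    rw [← h2]
    exact hz.mul (IsLocalization.map_units E' (⟨s, hsN⟩ : N))
  obtain ⟨e, he⟩ := hβ.exists_right_inv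
  obtain ⟨β', ν, rfl⟩ := IsLocalization.exists_mk'_eq N e
  rw [IsLocalization.mul_mk'_eq_mk'_of_mul, IsLocalization.mk'_eq_iff_eq_mul, one_mul] at he
  obtain ⟨c, hc⟩ := (IsLocalization.eq_iff_exists N E').1 he
  refine ⟨(c : B) * ν, N.mul_mem c.2 ν.2, algebraMap B (Localization.Away b) s *
    algebraMap B (Localization.Away b) ((c : B) * β'), ?_⟩
  rw [← mul_assoc, h1, ← map_mul, ← hc]
  congr 1
  ring

end Away

section Root

theorem map_aeval_of_comp {A R₁ R₂ : Type u} [CommRing A] [CommRing R₁] [CommRing R₂] [Algebra A R₁] [Algebra A R₂]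
    (θ : R₁ →+* R₂) (hθ : θ.comp (algebraMap A R₁) = algebraMap A R₂) (x : R₁) (q : A[X]) :
    θ (aeval x q) = aeval (θ x) q := by
  rw [aeval_def, aeval_def, hom_eval₂, hθ]

variable {A B E' : Type u} [CommRing A] [CommRing B] [CommRing E'] [Algebra A B] [Algebra B E'] [Algebra A E']
  [IsScalarTower A B E'] (N : Submonoid B) [IsLocalization N E']

theorem awayTo_comp_algebraMap (b : B) (hb : b ∈ N) :
    (awayTo N E' b hb).comp (algebraMap A (Localization.Away b)) = algebraMap A E' := by
  rw [IsScalarTower.algebraMap_eq A B (Localization.Away b), ← RingHom.comp_assoc, awayTo_comp,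
    ← IsScalarTower.algebraMap_eq]

theorem awayTo_aeval (b : B) (hb : b ∈ N) (x : Localization.Away b) (q : A[X]) :
    awayTo N E' b hb (aeval x q) = aeval (awayTo N E' b hb x) q :=
  map_aeval_of_comp _ (awayTo_comp_algebraMap N b hb) x q

/-- **RL-B** A root in the localization at `N` comes from a root in the localization away from an element of `N`. -/
theorem exists_away_root (F H : A[X]) (xt : E') (h0 : aeval xt F = 0) (hH : IsUnit (aeval xt H)) :
    ∃ (b : B) (hb : b ∈ N) (x : Localization.Away b), aeval x F = 0 ∧ IsUnit (aeval x H) ∧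
      awayTo N E' b hb x = xt := by
  obtain ⟨β, ν, rfl⟩ := IsLocalization.exists_mk'_eq N xt
  obtain ⟨x₁, hx₁⟩ : ∃ x₁ : Localization.Away (ν : B), x₁ * algebraMap B _ (ν : B) = algebraMap B _ β :=
    ⟨IsLocalization.mk' _ β (⟨ν, Submonoid.mem_powers _⟩ : Submonoid.powers (ν : B)), IsLocalization.mk'_spec _ _ _⟩
  have hx₁' : awayTo N E' ν ν.2 x₁ = IsLocalization.mk' E' β ν := by
    have h := congrArg (awayTo N E' ν ν.2) hx₁
    rw [map_mul, awayTo_algebraMap, awayTo_algebraMap] at h
    have hu : IsUnit (algebraMap B E' ν) := IsLocalization.map_units E' ν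
    apply hu.mul_left_injective
    show _ * algebraMap B E' ν = _ * algebraMap B E' ν
    rw [h, IsLocalization.mk'_spec]
  have h0' : awayTo N E' ν ν.2 (aeval x₁ F) = 0 := by rw [awayTo_aeval, hx₁', h0]
  have hH' : IsUnit (awayTo N E' ν ν.2 (aeval x₁ H)) := by rw [awayTo_aeval, hx₁']; exact hH
  obtain ⟨t₁, ht₁N, ht₁⟩ := exists_mul_eq_zero_of_awayTo_eq_zero N ν ν.2 _ h0'
  obtain ⟨t₂, ht₂N, w, hw⟩ := exists_mul_eq_of_isUnit_awayTo N ν ν.2 _ hH'
  have hbN : (ν : B) * t₁ * t₂ ∈ N := N.mul_mem (N.mul_mem ν.2 ht₁N) ht₂N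
  obtain ⟨b, hbdef⟩ : ∃ b : B, b = (ν : B) * t₁ * t₂ := ⟨_, rfl⟩
  have hbN' : b ∈ N := hbdef ▸ hbN
  have hbu : IsUnit (algebraMap B (Localization.Away b) b) := IsLocalization.Away.algebraMap_isUnit b
  have hdiv : ∀ c d : B, b = c * d → IsUnit (algebraMap B (Localization.Away b) c) := by
    intro c d hcd
    have h : algebraMap B (Localization.Away b) c * algebraMap B (Localization.Away b) d =
        algebraMap B (Localization.Away b) b := by
      rw [← map_mul]
      exact congrArg _ hcd.symm
    have h2 : IsUnit (algebraMap B (Localization.Away b) c * algebraMap B (Localization.Away b) d) := by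
      rw [h]; exact hbu
    exact isUnit_of_mul_isUnit_left h2
  have hνu : IsUnit (algebraMap B (Localization.Away b) (ν : B)) := hdiv _ (t₁ * t₂) (by rw [hbdef]; ring)
  have ht₁u : IsUnit (algebraMap B (Localization.Away b) t₁) := hdiv _ ((ν : B) * t₂) (by rw [hbdef]; ring)
  have ht₂u : IsUnit (algebraMap B (Localization.Away b) t₂) := hdiv _ ((ν : B) * t₁) (by rw [hbdef]; ring)
  obtain ⟨θ, hθdef⟩ : ∃ θ : Localization.Away (ν : B) →+* Localization.Away b,
      θ = IsLocalization.Away.lift (ν : B) (g := algebraMap B (Localization.Away b)) hνu := ⟨_, rfl⟩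
  have hθalg : ∀ β' : B, θ (algebraMap B _ β') = algebraMap B _ β' := by
    intro β'
    rw [hθdef]
    exact IsLocalization.Away.lift_eq _ _ _
  have hθA : θ.comp (algebraMap A (Localization.Away (ν : B))) = algebraMap A (Localization.Away b) := by
    rw [IsScalarTower.algebraMap_eq A B (Localization.Away (ν : B)), ← RingHom.comp_assoc,
      IsScalarTower.algebraMap_eq A B (Localization.Away b)]
    congr 1
    exact RingHom.ext hθalg
  refine ⟨b, hbN', θ x₁, ?_, ?_, ?_⟩
  · rw [← map_aeval_of_comp θ hθA]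
    have h := congrArg θ ht₁
    rw [map_mul, hθalg, map_zero] at h
    exact (ht₁u.mul_right_eq_zero).1 h
  · rw [← map_aeval_of_comp θ hθA]
    have h := congrArg θ hw
    rw [map_mul, hθalg] at h
    exact isUnit_of_mul_isUnit_left (h ▸ ht₂u)
  · rw [← hx₁']
    have : (awayTo N E' b hbN').comp θ = awayTo N E' ν ν.2 := by
      apply IsLocalization.ringHom_ext (Submonoid.powers (ν : B))
      ext β'
      simp only [RingHom.comp_apply, hθalg, awayTo_algebraMap]
    exact congrArg (fun φ => φ x₁) this

end Root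

section Main

variable {A A' B E' : Type u} [CommRing A] [CommRing A'] [CommRing B] [CommRing E'] [Algebra A A'] [Algebra A B]
  [Algebra A' E'] [Algebra B E'] [Algebra A E'] [IsScalarTower A A' E'] [IsScalarTower A B E']

/-- **RL-D** A standard etale algebra over a localization `A'` of `A` which is also a localization of the `A`-algebra `B`
spreads out to an etale `A`-algebra `C` mapping to a localization `B_b`, such that `B_b` is generated by `C` up to
the elements inverted in `E'`. -/
theorem exists_etale_algebra_of_standardEtale (M : Submonoid A) [IsLocalization M A'] [Nontrivial A']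
    (N : Submonoid B) [IsLocalization N E'] (Pres : StandardEtalePresentation A' E') :
    ∃ (C : Type u) (_ : CommRing C) (_ : Algebra A C) (_ : Algebra.Etale A C) (b : B) (_ : b ∈ N)
      (ψ : C →ₐ[A] Localization.Away b),
      ∀ x : Localization.Away b, ∃ (c s : C) (t t' : B) (w : Localization.Away b), t ∈ N ∧ t' ∈ N ∧
        algebraMap B (Localization.Away b) t * (x * ψ s - ψ c) = 0 ∧
        ψ s * w = algebraMap B (Localization.Away b) t' := by
  obtain ⟨F, G, xt, hFm, hF0, hHu, hgen⟩ := exists_integral_generator M Pres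
  let P' : StandardEtalePair A := ⟨F, hFm, G * derivative F, ⟨G, 0, 1, by ring⟩⟩
  obtain ⟨b, hbN, x, hx0, hxH, hxt⟩ := exists_away_root N F (G * derivative F) xt hF0 hHu
  have hmap : P'.HasMap x := ⟨hx0, hxH⟩
  have hψ : ∀ q : A[X], P'.lift x hmap (aeval P'.X q) = aeval x q := by
    intro q
    rw [← aeval_algHom_apply, StandardEtalePair.lift_X]
  refine ⟨P'.Ring, inferInstance, inferInstance, inferInstance, b, hbN, P'.lift x hmap, fun y => ?_⟩
  obtain ⟨s₀, c₀, hs₀, hsc⟩ := hgen (awayTo N E' b hbN y)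
  have h1 : awayTo N E' b hbN (P'.lift x hmap (aeval P'.X s₀)) = aeval xt s₀ := by
    rw [hψ, awayTo_aeval, hxt]
  have h2 : awayTo N E' b hbN (P'.lift x hmap (aeval P'.X c₀)) = aeval xt c₀ := by
    rw [hψ, awayTo_aeval, hxt]
  have h3 : awayTo N E' b hbN (y * P'.lift x hmap (aeval P'.X s₀) - P'.lift x hmap (aeval P'.X c₀)) = 0 := by
    rw [map_sub, map_mul, h1, h2, hsc, sub_self]
  obtain ⟨t, htN, ht⟩ := exists_mul_eq_zero_of_awayTo_eq_zero N b hbN _ h3
  obtain ⟨t', ht'N, w, hw⟩ := exists_mul_eq_of_isUnit_awayTo N b hbN (P'.lift x hmap (aeval P'.X s₀))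
    (by rw [h1]; exact hs₀)
  exact ⟨aeval P'.X c₀, aeval P'.X s₀, t, t', w, htN, ht'N, ht, hw⟩

/-- **RL** Spreading out: `B` an `A`-algebra, `𝔮` a prime of `B` over `𝔭`, such that the localization `E` of `B` at `A ∖ 𝔭`
is etale over `A_𝔭`. Then there are an etale `A`-algebra `C` and an `A`-algebra map from `C` to a localization `B_b`
(`b ∉ 𝔮`) which is surjective on the local rings at `𝔮`. -/
theorem exists_etale_algebra {E : Type u} [CommRing E] [Algebra A' E] [Algebra B E] [Algebra A E]
    [IsScalarTower A A' E] [IsScalarTower A B E] (𝔭 : Ideal A) [𝔭.IsPrime] [IsLocalization.AtPrime A' 𝔭]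
    (𝔮 : Ideal B) [h𝔮p : 𝔮.IsPrime] (h𝔮 : 𝔮.comap (algebraMap A B) = 𝔭)
    [IsLocalization (Algebra.algebraMapSubmonoid B 𝔭.primeCompl) E] [Algebra.Etale A' E] :
    ∃ (C : Type u) (_ : CommRing C) (_ : Algebra A C) (_ : Algebra.Etale A C) (b : B) (_ : b ∉ 𝔮)
      (ψ : C →ₐ[A] Localization.Away b),
      ∀ x : Localization.Away b, ∃ (c s : C) (t t' : B) (w : Localization.Away b), t ∉ 𝔮 ∧ t' ∉ 𝔮 ∧
        algebraMap B (Localization.Away b) t * (x * ψ s - ψ c) = 0 ∧
        ψ s * w = algebraMap B (Localization.Away b) t' := by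
  have hdisj : Disjoint (Algebra.algebraMapSubmonoid B 𝔭.primeCompl : Set B) (𝔮 : Set B) := by
    rw [Set.disjoint_left]
    rintro _ ⟨a, ha, rfl⟩ hq
    exact ha (h𝔮 ▸ (Ideal.mem_comap.2 hq))
  have h𝔫p : (Ideal.map (algebraMap B E) 𝔮).IsPrime :=
    IsLocalization.isPrime_of_isPrime_disjoint (Algebra.algebraMapSubmonoid B 𝔭.primeCompl) E 𝔮 h𝔮p hdisj
  have h𝔫c : Ideal.comap (algebraMap B E) (Ideal.map (algebraMap B E) 𝔮) = 𝔮 :=
    IsLocalization.under_map_of_isPrime_disjoint (Algebra.algebraMapSubmonoid B 𝔭.primeCompl) E h𝔮p hdisj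
  haveI : Algebra.FormallyEtale E (Localization.AtPrime (Ideal.map (algebraMap B E) 𝔮)) :=
    Algebra.FormallyEtale.of_isLocalization (Ideal.map (algebraMap B E) 𝔮).primeCompl
  haveI : Algebra.IsEtaleAt A' (Ideal.map (algebraMap B E) 𝔮) :=
    Algebra.FormallyEtale.comp A' E (Localization.AtPrime (Ideal.map (algebraMap B E) 𝔮))
  obtain ⟨f₀, hf₀, hstd⟩ := Algebra.IsEtaleAt.exists_isStandardEtale (R := A') (Ideal.map (algebraMap B E) 𝔮)
  haveI : IsLocalRing A' := IsLocalization.AtPrime.isLocalRing A' 𝔭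
  have hN : ∀ t ∈ IsLocalization.localizationLocalizationSubmodule (Algebra.algebraMapSubmonoid B 𝔭.primeCompl)
      (Submonoid.powers f₀), t ∉ 𝔮 := by
    intro t ht htq
    rw [IsLocalization.mem_localizationLocalizationSubmodule] at ht
    obtain ⟨y, z, hyz⟩ := ht
    have h1 : algebraMap B E t ∈ Ideal.map (algebraMap B E) 𝔮 := Ideal.mem_map_of_mem _ htq
    rw [hyz] at h1
    rcases h𝔫p.mem_or_mem h1 with h2 | h2
    · obtain ⟨k, hk⟩ := y.2
      rw [← hk] at h2
      exact hf₀ (h𝔫p.mem_of_pow_mem _ h2)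
    · have : (z : B) ∈ 𝔮 := by
        rw [← h𝔫c]
        exact Ideal.mem_comap.2 h2
      exact Set.disjoint_left.1 hdisj z.2 this
  haveI : IsLocalization (IsLocalization.localizationLocalizationSubmodule
      (Algebra.algebraMapSubmonoid B 𝔭.primeCompl) (Submonoid.powers f₀)) (Localization.Away f₀) :=
    IsLocalization.localization_localization_isLocalization (Algebra.algebraMapSubmonoid B 𝔭.primeCompl)
      (Submonoid.powers f₀) (Localization.Away f₀)
  obtain ⟨C, i1, i2, i3, b, hbN, ψ, H⟩ := exists_etale_algebra_of_standardEtale (A := A) (A' := A') (B := B)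
    (E' := Localization.Away f₀) 𝔭.primeCompl
    (IsLocalization.localizationLocalizationSubmodule (Algebra.algebraMapSubmonoid B 𝔭.primeCompl)
      (Submonoid.powers f₀)) hstd.nonempty_standardEtalePresentation.some
  refine ⟨C, i1, i2, i3, b, hN b hbN, ψ, fun x => ?_⟩
  obtain ⟨c, s, t, t', w, ht, ht', h1, h2⟩ := H x
  exact ⟨c, s, t, t', w, hN t ht, hN t' ht', h1, h2⟩

end Main

end Groth.Agent.Lib.Helper16.FlatMonoAlg
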