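import Groth.Agent.Lib.Helper16.FlatMonoAlg
import Groth.Agent.Lib.Helper14.QCClosure

/-!
# Helper library (helper16): flat monomorphisms, scheme-level lemmas
-/

set_option autoImplicit false
universe u
open CategoryTheory CategoryTheory.Limits AlgebraicGeometry Opposite Topology

namespace Groth.Agent.Lib.Helper16.FlatMonoSch

/-- Points of a pullback square of schemes. -/
theorem exists_preimage_of_isPullback {P X Y Z : Scheme.{u}} {fst : P ⟶ X} {snd : P ⟶ Y} {f : X ⟶ Z} {g : Y ⟶ Z}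
    (sq : IsPullback fst snd f g) (x : X) (y : Y) (h : f x = g y) : ∃ z : P, fst z = x ∧ snd z = y := by
  obtain ⟨z, hz1, hz2⟩ := Scheme.Pullback.exists_preimage_pullback x y h
  refine ⟨sq.isoPullback.inv z, ?_, ?_⟩
  · rw [← Scheme.Hom.comp_apply, sq.isoPullback_inv_fst, hz1]
  · rw [← Scheme.Hom.comp_apply, sq.isoPullback_inv_snd, hz2]

/-- The closed-subset form of: the closure of the image of a quasi-compact morphism consists of specializations. -/
theorem exists_specializes_of_mem_closure_image {X Y : Scheme.{u}} (f : X ⟶ Y) [QuasiCompact f] (C : Set ↥X)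
    (hC : IsClosed C) (y : ↥Y) (hy : y ∈ closure (f '' C)) : ∃ x ∈ C, f x ⤳ y := by
  obtain ⟨I, hI⟩ : ∃ I : X.IdealSheafData, (I.support : Set ↥X) = C :=
    ⟨Scheme.IdealSheafData.vanishingIdeal ⟨C, hC⟩, Scheme.IdealSheafData.coe_support_vanishingIdeal _⟩
  have hr : Set.range (I.subschemeι ≫ f) = f '' C := by
    ext y
    constructor
    · rintro ⟨z, rfl⟩
      refine ⟨I.subschemeι z, ?_, rfl⟩
      rw [← hI, ← Scheme.IdealSheafData.range_subschemeι]
      exact ⟨z, rfl⟩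
    · rintro ⟨x, hx, rfl⟩
      rw [← hI, ← Scheme.IdealSheafData.range_subschemeι] at hx
      obtain ⟨z, rfl⟩ := hx
      exact ⟨z, rfl⟩
  obtain ⟨z, hz⟩ := Groth.Agent.Lib.Helper14.exists_specializes_of_mem_closure_range (I.subschemeι ≫ f) y
    (by rw [hr]; exact hy)
  refine ⟨I.subschemeι z, ?_, hz⟩
  rw [← hI, ← Scheme.IdealSheafData.range_subschemeι]
  exact ⟨z, rfl⟩

/-- **(∗)** If the stalk map of `ψ` at `u` is surjective, a point of `U₁ ×_{Y'} U₁` both of whose projections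
generize `u` lies on the diagonal. -/
theorem mem_range_lift_of_specializes {U₁ Y' R' : Scheme.{u}} (ψ : U₁ ⟶ Y') (d c : R' ⟶ U₁)
    (sq : IsPullback d c ψ ψ) (u : U₁) (hs : Function.Surjective (ψ.stalkMap u)) (z : R') (h₁ : d z ⤳ u)
    (h₂ : c z ⤳ u) : z ∈ Set.range (sq.lift (𝟙 U₁) (𝟙 U₁) rfl) := by
  have hζ : R'.fromSpecResidueField z = Spec.map (R'.residue z) ≫ R'.fromSpecStalk z := rfl
  have e1 : (Spec.map (R'.residue z) ≫ Spec.map (d.stalkMap z) ≫ Spec.map (U₁.presheaf.stalkSpecializes h₁)) ≫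
      U₁.fromSpecStalk u = R'.fromSpecResidueField z ≫ d := by
    rw [hζ, Category.assoc, Category.assoc, Category.assoc, Scheme.SpecMap_stalkSpecializes_fromSpecStalk,
      Scheme.SpecMap_stalkMap_fromSpecStalk]
  have e2 : (Spec.map (R'.residue z) ≫ Spec.map (c.stalkMap z) ≫ Spec.map (U₁.presheaf.stalkSpecializes h₂)) ≫
      U₁.fromSpecStalk u = R'.fromSpecResidueField z ≫ c := by
    rw [hζ, Category.assoc, Category.assoc, Category.assoc, Scheme.SpecMap_stalkSpecializes_fromSpecStalk,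
      Scheme.SpecMap_stalkMap_fromSpecStalk]
  have hci : IsClosedImmersion (Spec.map (ψ.stalkMap u)) := IsClosedImmersion.spec_of_surjective _ hs
  have hmono : Mono (U₁.fromSpecStalk u ≫ ψ) := by
    rw [← Scheme.SpecMap_stalkMap_fromSpecStalk]
    infer_instance
  have e3 : (Spec.map (R'.residue z) ≫ Spec.map (d.stalkMap z) ≫ Spec.map (U₁.presheaf.stalkSpecializes h₁)) =
      (Spec.map (R'.residue z) ≫ Spec.map (c.stalkMap z) ≫ Spec.map (U₁.presheaf.stalkSpecializes h₂)) := by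
    rw [← cancel_mono (U₁.fromSpecStalk u ≫ ψ), ← Category.assoc, e1, ← Category.assoc, e2, Category.assoc,
      Category.assoc, sq.w]
  have e4 : R'.fromSpecResidueField z ≫ d = R'.fromSpecResidueField z ≫ c := by rw [← e1, ← e2, e3]
  have e5 : R'.fromSpecResidueField z = (R'.fromSpecResidueField z ≫ d) ≫ sq.lift (𝟙 U₁) (𝟙 U₁) rfl := by
    apply sq.hom_ext
    · rw [Category.assoc, sq.lift_fst, Category.comp_id]
    · rw [Category.assoc, sq.lift_snd, Category.comp_id, e4]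
  have pt : ↥(Spec (R'.residueField z)) := IsLocalRing.closedPoint _
  refine ⟨(R'.fromSpecResidueField z ≫ d) pt, ?_⟩
  rw [← Scheme.Hom.comp_apply, ← e5, Scheme.fromSpecResidueField_apply]

/-- **MonoNbhd** A morphism of affine schemes whose kernel pair is etale over the source and whose stalk map at `u` is
surjective is a monomorphism on an affine open neighbourhood of `u`. -/
theorem exists_open_mono {U₁ Y' R' : Scheme.{u}} [IsAffine U₁] [IsAffine Y'] (ψ : U₁ ⟶ Y') (d c : R' ⟶ U₁)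
    (sq : IsPullback d c ψ ψ) [Etale c] (u : U₁) (hs : Function.Surjective (ψ.stalkMap u)) :
    ∃ V : U₁.Opens, IsAffineOpen V ∧ u ∈ V ∧ Mono (V.ι ≫ ψ) := by
  obtain ⟨Δ, hΔdef⟩ : ∃ Δ : U₁ ⟶ R', Δ = sq.lift (𝟙 U₁) (𝟙 U₁) rfl := ⟨_, rfl⟩
  have hΔd : Δ ≫ d = 𝟙 U₁ := by rw [hΔdef, sq.lift_fst]
  have hΔc : Δ ≫ c = 𝟙 U₁ := by rw [hΔdef, sq.lift_snd]
  have hstar : ∀ z : R', d z ⤳ u → c z ⤳ u → z ∈ Set.range Δ := fun z h₁ h₂ => by
    rw [hΔdef]; exact mem_range_lift_of_specializes ψ d c sq u hs z h₁ h₂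
  have hΔe : Etale Δ := by
    have : Etale (Δ ≫ c) := by rw [hΔc]; infer_instance
    exact Etale.of_comp Δ c
  have hΔm : Mono Δ := mono_of_mono_fac hΔc
  have hΔo : IsOpenImmersion Δ := IsOpenImmersion.of_flat_of_mono Δ
  have hR'aff : IsAffine R' := IsAffine.of_isIso sq.isoPullback.hom
  obtain ⟨Z, hZdef⟩ : ∃ Z : Set ↥R', Z = (Set.range Δ)ᶜ := ⟨_, rfl⟩
  have hZc : IsClosed Z := by rw [hZdef]; exact Δ.isOpenEmbedding.isOpen_range.isClosed_compl
  have hZmem : ∀ z, z ∈ Z ↔ z ∉ Set.range Δ := fun z => by rw [hZdef]; rfl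
  -- Step 1
  have hqc₁ : QuasiCompact (pullback.fst c (U₁.fromSpecStalk u) ≫ d) := by
    rw [HasAffineProperty.iff_of_isAffine (P := @QuasiCompact)]
    infer_instance
  have hu₁ : u ∉ closure ((pullback.fst c (U₁.fromSpecStalk u) ≫ d) ''
      ((pullback.fst c (U₁.fromSpecStalk u)) ⁻¹' Z)) := by
    intro h
    obtain ⟨q, hqC, hq⟩ := exists_specializes_of_mem_closure_image _ _
      (hZc.preimage (pullback.fst c (U₁.fromSpecStalk u)).continuous) u h
    rw [Scheme.Hom.comp_apply] at hq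
    have h2 : c (pullback.fst c (U₁.fromSpecStalk u) q) ⤳ u := by
      rw [← Scheme.Hom.comp_apply, pullback.condition, Scheme.Hom.comp_apply]
      have : U₁.fromSpecStalk u (pullback.snd c (U₁.fromSpecStalk u) q) ∈ Set.range (U₁.fromSpecStalk u) := ⟨_, rfl⟩
      rw [Scheme.range_fromSpecStalk] at this
      exact this
    exact (hZmem _).1 hqC (hstar _ hq h2)
  obtain ⟨_, ⟨_, ⟨e, rfl⟩, rfl⟩, hue, hsub⟩ := (isBasis_basicOpen U₁).exists_subset_of_mem_open hu₁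
    isClosed_closure.isOpen_compl
  have hP1 : ∀ z ∈ Z, c z ⤳ u → d z ∉ U₁.basicOpen e := by
    intro z hz hcz hdz
    have hcr : c z ∈ Set.range (U₁.fromSpecStalk u) := by rw [Scheme.range_fromSpecStalk]; exact hcz
    obtain ⟨t, ht⟩ := hcr
    obtain ⟨q, hq1, -⟩ := Scheme.Pullback.exists_preimage_pullback (f := c) (g := U₁.fromSpecStalk u) z t ht.symm
    refine hsub hdz (subset_closure ⟨q, ?_, ?_⟩)
    · show pullback.fst c (U₁.fromSpecStalk u) q ∈ Z
      rw [hq1]; exact hz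
    · rw [Scheme.Hom.comp_apply, hq1]
  -- Step 2
  have hR''aff : IsAffineOpen (d ⁻¹ᵁ U₁.basicOpen e) := by
    rw [Scheme.preimage_basicOpen]
    exact (isAffineOpen_top R').basicOpen _
  have hqc₂ : QuasiCompact ((d ⁻¹ᵁ U₁.basicOpen e).ι ≫ c) := by
    rw [HasAffineProperty.iff_of_isAffine (P := @QuasiCompact)]
    exact isCompact_iff_compactSpace.mp hR''aff.isCompact
  have hu₂ : u ∉ closure (((d ⁻¹ᵁ U₁.basicOpen e).ι ≫ c) '' ((d ⁻¹ᵁ U₁.basicOpen e).ι ⁻¹' Z)) := by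
    intro h
    obtain ⟨q, hqC, hq⟩ := exists_specializes_of_mem_closure_image _ _
      (hZc.preimage (d ⁻¹ᵁ U₁.basicOpen e).ι.continuous) u h
    rw [Scheme.Hom.comp_apply] at hq
    exact hP1 _ hqC hq q.2
  have hP2 : ∀ z ∈ Z, d z ∈ U₁.basicOpen e →
      c z ∈ closure (((d ⁻¹ᵁ U₁.basicOpen e).ι ≫ c) '' ((d ⁻¹ᵁ U₁.basicOpen e).ι ⁻¹' Z)) := by
    intro z hz hdz
    refine subset_closure ⟨⟨z, hdz⟩, hz, ?_⟩
    rw [Scheme.Hom.comp_apply]
    rfl
  obtain ⟨_, ⟨(V : U₁.Opens), hV, rfl⟩, huV, hVsub⟩ := U₁.isBasis_affineOpens.exists_subset_of_mem_open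
    (show u ∈ (U₁.basicOpen e : Set ↥U₁) ∩
      (closure (((d ⁻¹ᵁ U₁.basicOpen e).ι ≫ c) '' ((d ⁻¹ᵁ U₁.basicOpen e).ι ⁻¹' Z)))ᶜ from ⟨hue, hu₂⟩)
    ((U₁.basicOpen e).isOpen.inter isClosed_closure.isOpen_compl)
  refine ⟨V, hV, huV, ⟨fun {Q} α β h => ?_⟩⟩
  have hw : (α ≫ V.ι) ≫ ψ = (β ≫ V.ι) ≫ ψ := by simpa only [Category.assoc] using h
  have hrange : Set.range (sq.lift (α ≫ V.ι) (β ≫ V.ι) hw) ⊆ Set.range Δ := by
    rintro _ ⟨q, rfl⟩
    by_contra hz
    have hzZ := (hZmem _).2 hz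
    have hd : d (sq.lift (α ≫ V.ι) (β ≫ V.ι) hw q) = V.ι (α q) := by
      rw [← Scheme.Hom.comp_apply, sq.lift_fst, Scheme.Hom.comp_apply]
    have hc : c (sq.lift (α ≫ V.ι) (β ≫ V.ι) hw q) = V.ι (β q) := by
      rw [← Scheme.Hom.comp_apply, sq.lift_snd, Scheme.Hom.comp_apply]
    have h1 := hP2 _ hzZ (by rw [hd]; exact (hVsub (α q).2).1)
    rw [hc] at h1
    exact (hVsub (β q).2).2 h1
  obtain ⟨L, hL⟩ : ∃ L : Q ⟶ U₁, L ≫ Δ = sq.lift (α ≫ V.ι) (β ≫ V.ι) hw :=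
    ⟨IsOpenImmersion.lift Δ (sq.lift (α ≫ V.ι) (β ≫ V.ι) hw) hrange, IsOpenImmersion.lift_fac _ _ _⟩
  have e2 : α ≫ V.ι = L :=
    calc α ≫ V.ι = sq.lift (α ≫ V.ι) (β ≫ V.ι) hw ≫ d := (sq.lift_fst _ _ _).symm
      _ = (L ≫ Δ) ≫ d := by rw [hL]
      _ = L := by rw [Category.assoc, hΔd, Category.comp_id]
  have e3 : β ≫ V.ι = L :=
    calc β ≫ V.ι = sq.lift (α ≫ V.ι) (β ≫ V.ι) hw ≫ c := (sq.lift_snd _ _ _).symm
      _ = (L ≫ Δ) ≫ c := by rw [hL]
      _ = L := by rw [Category.assoc, hΔc, Category.comp_id]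
  rw [← cancel_mono V.ι, e2, e3]

end Groth.Agent.Lib.Helper16.FlatMonoSch
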