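import Groth.Agent.Lib.Helper16.FlatMonoSch

/-!
# Helper library (helper16): flat monomorphisms, etale neighbourhoods on which a flat morphism of affine schemes with
etale local fibre becomes (locally) a monomorphism onto an etale neighbourhood
-/

set_option autoImplicit false
universe u
open CategoryTheory CategoryTheory.Limits AlgebraicGeometry Opposite Topology TensorProduct

namespace Groth.Agent.Lib.Helper16.FlatMonoSch

open Groth.Agent.Lib.Helper16.FlatMonoAlg

/-- **RL-F** A ring map which hits every element up to units of the local ring is surjective on local rings. -/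
theorem localRingHom_surjective_of_approx {C D : Type u} [CommRing C] [CommRing D] (χ : C →+* D) (Q : Ideal D)
    [Q.IsPrime] (H : ∀ x : D, ∃ (c s : C) (t : D), t ∉ Q ∧ χ s ∉ Q ∧ t * (x * χ s - χ c) = 0) :
    Function.Surjective (Localization.localRingHom (Q.comap χ) Q χ rfl) := by
  intro z
  obtain ⟨x, v, rfl⟩ := IsLocalization.exists_mk'_eq Q.primeCompl z
  obtain ⟨c₁, s₁, t₁, ht₁, hs₁, h₁⟩ := H x
  obtain ⟨c₂, s₂, t₂, ht₂, hs₂, h₂⟩ := H v
  have hQ : Q.IsPrime := inferInstance
  have hv : (v : D) ∉ Q := v.2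
  have hc₂ : χ c₂ ∉ Q := by
    intro hc
    have h3 : t₂ * ((v : D) * χ s₂) ∈ Q := by
      have : t₂ * ((v : D) * χ s₂) = t₂ * χ c₂ := by linear_combination h₂
      rw [this]
      exact Q.mul_mem_left _ hc
    rcases hQ.mem_or_mem h3 with h | h
    · exact ht₂ h
    · rcases hQ.mem_or_mem h with h | h
      · exact hv h
      · exact hs₂ h
  have hden : s₁ * c₂ ∈ (Q.comap χ).primeCompl := by
    show s₁ * c₂ ∉ Q.comap χ
    rw [Ideal.mem_comap, map_mul]
    intro h
    rcases hQ.mem_or_mem h with h | h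
    · exact hs₁ h
    · exact hc₂ h
  refine ⟨IsLocalization.mk' _ (c₁ * s₂) ⟨s₁ * c₂, hden⟩, ?_⟩
  rw [Localization.localRingHom_mk', IsLocalization.eq]
  refine ⟨⟨t₁ * t₂, ?_⟩, ?_⟩
  · show t₁ * t₂ ∉ Q
    intro h
    rcases hQ.mem_or_mem h with h | h
    · exact ht₁ h
    · exact ht₂ h
  · simp only [map_mul]
    linear_combination (-(t₂ * (v : D) * χ s₂)) * h₁ + (t₁ * x * χ s₁) * h₂

/-- The canonical morphism to an affine scheme from the spectrum of the localization of its ring of global sections at the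
prime of a point. -/
noncomputable def locSpecTo (T : Scheme.{u}) [IsAffine T] (y : T) :
    Spec (CommRingCat.of (Localization.AtPrime (PrimeSpectrum.asIdeal (T.isoSpec.hom y)))) ⟶ T :=
  Spec.map (CommRingCat.ofHom (algebraMap Γ(T, ⊤) (Localization.AtPrime (PrimeSpectrum.asIdeal (T.isoSpec.hom y))))) ≫
    T.isoSpec.inv

theorem locSpecTo_closedPoint (T : Scheme.{u}) [IsAffine T] (y : T) :
    locSpecTo T y (IsLocalRing.closedPoint (Localization.AtPrime (PrimeSpectrum.asIdeal (T.isoSpec.hom y)))) = y := by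
  have h1 : Spec.map (CommRingCat.ofHom (algebraMap Γ(T, ⊤)
      (Localization.AtPrime (PrimeSpectrum.asIdeal (T.isoSpec.hom y)))))
      (IsLocalRing.closedPoint (Localization.AtPrime (PrimeSpectrum.asIdeal (T.isoSpec.hom y)))) = T.isoSpec.hom y := by
    apply PrimeSpectrum.ext
    exact IsLocalization.AtPrime.under_maximalIdeal _ _
  rw [locSpecTo, Scheme.Hom.comp_apply, h1, ← Scheme.Hom.comp_apply, Iso.hom_inv_id]
  rfl

/-- A flat morphism to a local scheme whose image contains the closed point is surjective. -/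
theorem surjective_of_flat_of_closedPoint {W : Scheme.{u}} {R : CommRingCat.{u}} [IsLocalRing R] (l : W ⟶ Spec R)
    [Flat l] (w : W) (hw : l w = IsLocalRing.closedPoint R) : Surjective l := by
  refine ⟨fun z => ?_⟩
  have hz : z ⤳ l w := by
    rw [hw]
    exact IsLocalRing.specializes_closedPoint (z : PrimeSpectrum R)
  obtain ⟨w', -, hw'⟩ := Flat.generalizingMap l hz
  exact ⟨w', hw'⟩

/-- **(S1), Spec form** -/
theorem exists_etale_nbhd_Spec {A B : Type u} [CommRing A] [CommRing B] [Algebra A B] (𝔮 : PrimeSpectrum B)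
    (𝔭 : Ideal A) [𝔭.IsPrime] (h𝔮 : 𝔮.asIdeal.comap (algebraMap A B) = 𝔭) {W : Scheme.{u}}
    (k : W ⟶ Spec (CommRingCat.of B)) (l : W ⟶ Spec (CommRingCat.of (Localization.AtPrime 𝔭)))
    (sq : IsPullback k l (Spec.map (CommRingCat.ofHom (algebraMap A B)))
      (Spec.map (CommRingCat.ofHom (algebraMap A (Localization.AtPrime 𝔭))))) [Etale l] :
    ∃ (Y' U₁ : Scheme.{u}) (_ : IsAffine Y') (_ : IsAffine U₁) (e : Y' ⟶ Spec (CommRingCat.of A))
      (ι : U₁ ⟶ Spec (CommRingCat.of B)) (ψ : U₁ ⟶ Y') (u₁ : U₁),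
      Etale e ∧ IsOpenImmersion ι ∧ ι ≫ Spec.map (CommRingCat.ofHom (algebraMap A B)) = ψ ≫ e ∧ ι u₁ = 𝔮 ∧
        Function.Surjective (ψ.stalkMap u₁) := by
  let _ : Algebra (Localization.AtPrime 𝔭) (B ⊗[A] Localization.AtPrime 𝔭) := Algebra.TensorProduct.rightAlgebra
  have sqT := isPullback_SpecMap_of_isPushout _ _ _ _
    (CommRingCat.isPushout_tensorProduct A B (Localization.AtPrime 𝔭))
  have het : Etale (Spec.map (CommRingCat.ofHom (S := B ⊗[A] Localization.AtPrime 𝔭)
      Algebra.TensorProduct.includeRight.toRingHom)) := by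
    rw [← sqT.isoIsPullback_hom_snd _ _ sq]
    infer_instance
  have hE : Algebra.Etale (Localization.AtPrime 𝔭) (B ⊗[A] Localization.AtPrime 𝔭) :=
    (HasRingHomProperty.Spec_iff (P := @Etale)).1 het
  obtain ⟨C, _, _, hCet, b, hb, ψ, H⟩ := exists_etale_algebra (A := A) (A' := Localization.AtPrime 𝔭) (B := B)
    (E := B ⊗[A] Localization.AtPrime 𝔭) 𝔭 𝔮.asIdeal h𝔮
  obtain ⟨u₁, hu₁⟩ : ∃ u₁ : PrimeSpectrum (Localization.Away b),
      PrimeSpectrum.comap (algebraMap B (Localization.Away b)) u₁ = 𝔮 := by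
    have h1 := PrimeSpectrum.localization_away_comap_range (Localization.Away b) b
    have h2 : 𝔮 ∈ Set.range (PrimeSpectrum.comap (algebraMap B (Localization.Away b))) := by
      rw [h1]
      exact hb
    exact h2
  refine ⟨Spec (.of C), Spec (.of (Localization.Away b)), inferInstance, inferInstance,
    Spec.map (CommRingCat.ofHom (algebraMap A C)),
    Spec.map (CommRingCat.ofHom (algebraMap B (Localization.Away b))),
    Spec.map (CommRingCat.ofHom ψ.toRingHom), u₁, ?_, inferInstance, ?_, hu₁, ?_⟩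
  · rw [HasRingHomProperty.Spec_iff (P := @Etale), CommRingCat.hom_ofHom, RingHom.etale_algebraMap]
    exact hCet
  · rw [← Spec.map_comp, ← Spec.map_comp]
    congr 1
    ext a
    simp [← IsScalarTower.algebraMap_apply]
  · have hsurj : Function.Surjective (Localization.localRingHom (u₁.asIdeal.comap ψ.toRingHom) u₁.asIdeal
        ψ.toRingHom rfl) := by
      apply localRingHom_surjective_of_approx
      intro x
      obtain ⟨c, s, t, t', w, ht, ht', h1, h2⟩ := H x
      have hq : ∀ β : B, β ∉ 𝔮.asIdeal → algebraMap B (Localization.Away b) β ∉ u₁.asIdeal := by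
        intro β hβ hβ'
        apply hβ
        rw [← hu₁]
        exact hβ'
      refine ⟨c, s, algebraMap B _ t, hq t ht, ?_, h1⟩
      intro hs
      apply hq t' ht'
      have h3 : ψ s * w ∈ u₁.asIdeal := Ideal.mul_mem_right _ _ hs
      rw [h2] at h3
      exact h3
    have hiso := Scheme.arrowStalkMapSpecIso (CommRingCat.ofHom ψ.toRingHom) u₁
    exact (RingHom.surjective_respectsIso.arrow_mk_iso_iff hiso).2 hsurj

/-- **(S1)** Etale neighbourhoods: a morphism of affine schemes whose base change to the local ring of the image of `u` is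
etale factors, near `u`, through an etale neighbourhood of the image by a morphism which is surjective on the local ring
at `u`. -/
theorem exists_etale_nbhd {U T : Scheme.{u}} [IsAffine U] [IsAffine T] (g : U ⟶ T) (u : U) {W : Scheme.{u}}
    (k : W ⟶ U)
    (l : W ⟶ Spec (CommRingCat.of (Localization.AtPrime (PrimeSpectrum.asIdeal (T.isoSpec.hom (g u))))))
    (sq : IsPullback k l g (locSpecTo T (g u))) [Etale l] :
    ∃ (Y' U₁ : Scheme.{u}) (_ : IsAffine Y') (_ : IsAffine U₁) (e : Y' ⟶ T) (ι : U₁ ⟶ U) (ψ : U₁ ⟶ Y') (u₁ : U₁),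
      Etale e ∧ IsOpenImmersion ι ∧ ι ≫ g = ψ ≫ e ∧ ι u₁ = u ∧ Function.Surjective (ψ.stalkMap u₁) := by
  let _ : Algebra Γ(T, ⊤) Γ(U, ⊤) := g.appTop.hom.toAlgebra
  have h2 : Spec.map g.appTop (U.isoSpec.hom u) = T.isoSpec.hom (g u) := by
    rw [← Scheme.Hom.comp_apply, Scheme.isoSpec_hom_naturality, Scheme.Hom.comp_apply]
  have h𝔮 : (PrimeSpectrum.asIdeal (U.isoSpec.hom u)).comap (algebraMap Γ(T, ⊤) Γ(U, ⊤)) =
      PrimeSpectrum.asIdeal (T.isoSpec.hom (g u)) := congrArg PrimeSpectrum.asIdeal h2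
  have hmap : Spec.map (CommRingCat.ofHom (algebraMap Γ(T, ⊤) Γ(U, ⊤))) = Spec.map g.appTop := rfl
  have sq' : IsPullback (k ≫ U.isoSpec.hom) l (Spec.map (CommRingCat.ofHom (algebraMap Γ(T, ⊤) Γ(U, ⊤))))
      (Spec.map (CommRingCat.ofHom (algebraMap Γ(T, ⊤)
        (Localization.AtPrime (PrimeSpectrum.asIdeal (T.isoSpec.hom (g u))))))) := by
    refine IsPullback.of_iso sq (Iso.refl _) U.isoSpec (Iso.refl _) T.isoSpec ?_ ?_ ?_ ?_
    · simp
    · simp
    · rw [hmap]
      exact (Scheme.isoSpec_hom_naturality g).symm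
    · simp [locSpecTo]
  obtain ⟨Y', U₁, hY', hU₁, e, ι, ψ, u₁, he, hι, hcomm, hu₁, hs⟩ :=
    exists_etale_nbhd_Spec (A := Γ(T, ⊤)) (B := Γ(U, ⊤)) (U.isoSpec.hom u) _ h𝔮 (k ≫ U.isoSpec.hom) l sq'
  refine ⟨Y', U₁, hY', hU₁, e ≫ T.isoSpec.inv, ι ≫ U.isoSpec.inv, ψ, u₁, inferInstance, inferInstance, ?_, ?_, hs⟩
  · rw [hmap] at hcomm
    rw [Category.assoc, ← Scheme.isoSpec_inv_naturality, ← Category.assoc, hcomm, Category.assoc]
  · rw [Scheme.Hom.comp_apply, hu₁, ← Scheme.Hom.comp_apply, Iso.hom_inv_id]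
    rfl

end Groth.Agent.Lib.Helper16.FlatMonoSch
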