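import Groth.Agent.Lib.Helper16.FpqcCover
import Groth.Agent.Lib.Helper16.QuasiCompactMor2

/-!
# Helper library (helper16): a flat quasi-compact surjective morphism is an fpqc covering
-/

set_option autoImplicit false
universe u
open CategoryTheory CategoryTheory.Limits AlgebraicGeometry Opposite Topology

namespace Groth.Agent.Lib.Helper16

open AlgSp

variable {S : Scheme.{u}}

/-- A flat, quasi-compact, surjective morphism of algebraic spaces satisfies, as a one-member family,
the refinement clause of fpqc coverings. -/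
theorem fpqcRefines_of_flat_qc_surjective {X Y : Sp S} (hX : IsAlgSpace X) (hY : IsAlgSpace Y) (f : X ⟶ Y)
    (hqc : IsQuasiCompactMor f) (hflat : LocP @Flat f) (hsurj : IsSurjectiveMor f) :
    FpqcRefines (fun _ : PUnit.{u + 1} => X) (fun _ => f) := by
  intro Z hZ h
  have sq : IsPullback (pullback.fst f h) (pullback.snd f h) f h := IsPullback.of_hasPullback f h
  have hZc : CompactSpace ↥Z.left := inferInstance
  obtain ⟨U, p, hpe, hps, hU⟩ :=
    hqc (IsAlgSpace.yon_obj Z) (isQuasiCompactSp_yon_of_compactSpace Z) h _ _ sq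
  have hUc : CompactSpace ↥U.left := hU
  obtain ⟨t, ht⟩ := exists_finite_affine_cover U.left
  have hsnd : LocP @Flat (pullback.snd f h) := locP_of_isPullback etLocalST_flat hX hY sq hflat
  refine ⟨t.card, fun j => overOpen U (t.equivFin.symm j).1.1,
    fun j => (yon S).preimage ((yon S).map (overOpenι U (t.equivFin.symm j).1.1) ≫ p ≫ pullback.snd f h),
    fun j => ?_, fun j => ?_, fun z => ?_, fun j => ?_⟩
  · exact (t.equivFin.symm j).1.2
  · refine hsnd ((yon S).map (overOpenι U (t.equivFin.symm j).1.1) ≫ p) (𝟙 _) _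
      (repWith_etale_restrict p hpe _) (repWith_id _ Z) ?_
    rw [Functor.map_preimage, Category.comp_id, Category.assoc]
  · obtain ⟨x, hx⟩ := hsurj (Points.map h (Points.ofScheme Z z))
    obtain ⟨w, -, hw2⟩ := exists_point_of_isPullback sq x (Points.ofScheme Z z) hx
    obtain ⟨u, rfl⟩ := ofPt_surjective_of_surjective p hps w
    obtain ⟨i, hit, hui⟩ := ht u
    obtain ⟨j, hj⟩ := t.equivFin.symm.surjective ⟨i, hit⟩
    have hu : u ∈ (t.equivFin.symm j).1.1 := by rw [hj]; exact hui
    refine ⟨j, ⟨u, hu⟩, ?_⟩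
    apply ofScheme_injective Z
    rw [← map_yon_map_ofScheme, Functor.map_preimage, Points.map_comp, Points.map_comp,
      map_yon_map_ofScheme, ← hw2, Points.ofPt_eq_map_ofScheme]
    rfl
  · refine ⟨⟨⟩, (yon S).map (overOpenι U (t.equivFin.symm j).1.1) ≫ p ≫ pullback.fst f h, ?_⟩
    simp only [Functor.map_preimage, Category.assoc]
    rw [sq.w]

/-- A monomorphism of algebraic spaces that is quasi-compact, flat and surjective is an isomorphism. -/
theorem isIso_of_qc_flat_surjective_mono {X Y : Sp S} (hX : IsAlgSpace X) (hY : IsAlgSpace Y) (f : X ⟶ Y)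
    (hqc : IsQuasiCompactMor f) (hflat : LocP @Flat f) (hsurj : IsSurjectiveMor f) [Mono f] : IsIso f :=
  isIso_of_fpqcRefines hY (fun _ : PUnit.{u + 1} => X) (fun _ => hX) (fun _ => f)
    (fpqcRefines_of_flat_qc_surjective hX hY f hqc hflat hsurj) hX f (fun _ => X) (fun _ => hX)
    (fun _ => 𝟙 X) (fun _ => 𝟙 X) (fun _ => IsKernelPair.id_of_mono f) (fun _ => inferInstance)

end Groth.Agent.Lib.Helper16
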