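import Groth.Agent.Lib.Helper16.SchImgQc

/-!
# Helper library (helper16): base change of charts, invariance of the kernel of a quasi-compact chart
-/

set_option autoImplicit false
universe u
open CategoryTheory CategoryTheory.Limits AlgebraicGeometry Opposite Topology TopologicalSpace

namespace Groth.Agent.Lib.Helper16.SchImg

open AlgSp SchImgKer

variable {S : Scheme.{u}}

/-- The fibre product of two morphisms of schemes over `S`, as a scheme over `S`. -/
noncomputable def ovPullback {U V V' : Over S} (g : U ⟶ V) (π : V' ⟶ V) : Over S :=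
  Over.mk (pullback.snd g.left π.left ≫ V'.hom)

noncomputable def ovPullbackSnd {U V V' : Over S} (g : U ⟶ V) (π : V' ⟶ V) : ovPullback g π ⟶ V' :=
  Over.homMk (pullback.snd g.left π.left) rfl

noncomputable def ovPullbackFst {U V V' : Over S} (g : U ⟶ V) (π : V' ⟶ V) : ovPullback g π ⟶ U :=
  Over.homMk (pullback.fst g.left π.left) (by
    show pullback.fst g.left π.left ≫ U.hom = pullback.snd g.left π.left ≫ V'.hom
    rw [← Over.w g, ← Over.w π, ← Category.assoc, ← Category.assoc, pullback.condition])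

@[simp] theorem ovPullbackSnd_left {U V V' : Over S} (g : U ⟶ V) (π : V' ⟶ V) :
    (ovPullbackSnd g π).left = pullback.snd g.left π.left := rfl

theorem isPullback_ovPullback {U V V' : Over S} (g : U ⟶ V) (π : V' ⟶ V) :
    IsPullback (ovPullbackFst g π) (ovPullbackSnd g π) g π :=
  IsPullback.of_map (Over.forget S) (Over.OverMorphism.ext pullback.condition)
    (IsPullback.of_hasPullback g.left π.left)

/-- Base change of a chart of `X ×_Y V` along a morphism `V' ⟶ V` of schemes. -/
theorem exists_chart_baseChange {X Y : Sp S} (f : X ⟶ Y) {V U V' : Over S} (y : (yon S).obj V ⟶ Y)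
    (g : U ⟶ V) (ε : (yon S).obj U ⟶ pullback f y) (hεe : RepWith @Etale ε) (hεs : RepWith @Surjective ε)
    (hε : ε ≫ pullback.snd f y = (yon S).map g) (π : V' ⟶ V) :
    ∃ ε' : (yon S).obj (ovPullback g π) ⟶ pullback f ((yon S).map π ≫ y), RepWith @Etale ε' ∧
      RepWith @Surjective ε' ∧ ε' ≫ pullback.snd f ((yon S).map π ≫ y) = (yon S).map (ovPullbackSnd g π) ∧
      ε' ≫ pullback.fst f ((yon S).map π ≫ y) = (yon S).map (ovPullbackFst g π) ≫ ε ≫ pullback.fst f y := by
  -- the comparison `F' ⟶ F`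
  have hκ : pullback.fst f ((yon S).map π ≫ y) ≫ f =
      (pullback.snd f ((yon S).map π ≫ y) ≫ (yon S).map π) ≫ y := by
    rw [pullback.condition, Category.assoc]
  have sqκ : IsPullback (pullback.lift _ _ hκ) (pullback.snd f ((yon S).map π ≫ y)) (pullback.snd f y)
      ((yon S).map π) := by
    refine IsPullback.of_right ?_ (pullback.lift_snd _ _ _) (IsPullback.of_hasPullback f y)
    rw [pullback.lift_fst]
    exact IsPullback.of_hasPullback f ((yon S).map π ≫ y)
  have hcomm : ((yon S).map (ovPullbackFst g π) ≫ ε ≫ pullback.fst f y) ≫ f =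
      (yon S).map (ovPullbackSnd g π) ≫ (yon S).map π ≫ y := by
    rw [Category.assoc, Category.assoc, pullback.condition, ← Category.assoc ε, hε, ← Category.assoc,
      ← Category.assoc, ← Functor.map_comp, ← Functor.map_comp, (isPullback_ovPullback g π).w]
  have hp : pullback.lift _ _ hcomm ≫ pullback.lift _ _ hκ = (yon S).map (ovPullbackFst g π) ≫ ε := by
    apply pullback.hom_ext
    · rw [Category.assoc, pullback.lift_fst, pullback.lift_fst, Category.assoc]
    · rw [Category.assoc, pullback.lift_snd, ← Category.assoc, pullback.lift_snd, Category.assoc, hε,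
        ← Functor.map_comp, ← Functor.map_comp, (isPullback_ovPullback g π).w]
  have sqε : IsPullback (pullback.lift _ _ hcomm) ((yon S).map (ovPullbackFst g π)) (pullback.lift _ _ hκ) ε := by
    refine IsPullback.of_right ?_ hp sqκ.flip
    rw [pullback.lift_snd, hε]
    exact ((isPullback_ovPullback g π).map (yon S)).flip
  refine ⟨pullback.lift _ _ hcomm, (RepWith @Etale).of_isPullback sqε.flip hεe,
    (RepWith @Surjective).of_isPullback sqε.flip hεs, pullback.lift_snd _ _ _, pullback.lift_fst _ _ _⟩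

/-- **Comparison of kernels of charts**: the pullback of the kernel of a quasi-compact chart along a flat
morphism is the kernel of the base change of any other chart. -/
theorem comap_ker_eq_ker_snd_of_charts {X Y : Sp S} (f : X ⟶ Y) {V U V₁ U₁ V₂ : Over S}
    (y : (yon S).obj V ⟶ Y) (g : U ⟶ V) (ε : (yon S).obj U ⟶ pullback f y) (hεe : RepWith @Etale ε)
    (hεs : RepWith @Surjective ε) (hε : ε ≫ pullback.snd f y = (yon S).map g) [QuasiCompact g.left]
    (y₁ : (yon S).obj V₁ ⟶ Y) (g₁ : U₁ ⟶ V₁) (ε₁ : (yon S).obj U₁ ⟶ pullback f y₁)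
    (hε₁e : RepWith @Etale ε₁) (hε₁s : RepWith @Surjective ε₁)
    (hε₁ : ε₁ ≫ pullback.snd f y₁ = (yon S).map g₁) (π₀ : V₂ ⟶ V) (π₁ : V₂ ⟶ V₁)
    (hπ : (yon S).map π₀ ≫ y = (yon S).map π₁ ≫ y₁) [Flat π₀.left] :
    g.left.ker.comap π₀.left = (pullback.snd g₁.left π₁.left).ker := by
  rw [← ker_pullback_snd_of_flat g.left π₀.left, ← ovPullbackSnd_left g π₀, ← ovPullbackSnd_left g₁ π₁]
  obtain ⟨ε', hε'e, hε's, hε', -⟩ := exists_chart_baseChange f y g ε hεe hεs hε π₀
  have key : ∀ (y₂ : (yon S).obj V₂ ⟶ Y), y₂ = (yon S).map π₁ ≫ y₁ →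
      ∃ ε₁' : (yon S).obj (ovPullback g₁ π₁) ⟶ pullback f y₂, RepWith @Etale ε₁' ∧
        RepWith @Surjective ε₁' ∧ ε₁' ≫ pullback.snd f y₂ = (yon S).map (ovPullbackSnd g₁ π₁) := by
    rintro _ rfl
    obtain ⟨ε₁', h1, h2, h3, -⟩ := exists_chart_baseChange f y₁ g₁ ε₁ hε₁e hε₁s hε₁ π₁
    exact ⟨ε₁', h1, h2, h3⟩
  obtain ⟨ε₁', hε₁'e, hε₁'s, hε₁'⟩ := key _ hπ
  apply le_antisymm
  · exact ker_le_of_etale_surjective (pullback.snd f ((yon S).map π₀ ≫ y)) ε' hε'e hε's (ovPullbackSnd g π₀) hε' ε₁' (ovPullbackSnd g₁ π₁) hε₁'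
  · exact ker_le_of_etale_surjective (pullback.snd f ((yon S).map π₀ ≫ y)) ε₁' hε₁'e hε₁'s (ovPullbackSnd g₁ π₁) hε₁' ε' (ovPullbackSnd g π₀) hε'

/-- The kernel of a quasi-compact chart is invariant under the equivalence relation of the atlas. -/
theorem comap_ker_eq_of_qc_chart {X Y : Sp S} (f : X ⟶ Y) {V U R : Over S}
    (y : (yon S).obj V ⟶ Y) (g : U ⟶ V) (ε : (yon S).obj U ⟶ pullback f y) (hεe : RepWith @Etale ε)
    (hεs : RepWith @Surjective ε) (hε : ε ≫ pullback.snd f y = (yon S).map g) [QuasiCompact g.left]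
    (s t : R ⟶ V) (hst : (yon S).map t ≫ y = (yon S).map s ≫ y) [Flat s.left] [Flat t.left] :
    g.left.ker.comap s.left = g.left.ker.comap t.left := by
  rw [comap_ker_eq_ker_snd_of_charts f y g ε hεe hεs hε y g ε hεe hεs hε t s hst,
    ker_pullback_snd_of_flat g.left s.left]

/-- **The scheme theoretic image of a quasi-compact morphism in a quasi-compact chart**: it is cut out by the
kernel of the chart. -/
theorem exists_isPullback_of_isSchImage {X Y Z : Sp S} (hY : IsAlgSpace Y) (hZ : IsAlgSpace Z) (f : X ⟶ Y)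
    (i : Z ⟶ Y) (hi : IsSchImage f i) {V U : Over S} (p : (yon S).obj V ⟶ Y) (hpe : RepWith @Etale p)
    (hps : RepWith @Surjective p) (g : U ⟶ V) (ε : (yon S).obj U ⟶ pullback f p) (hεe : RepWith @Etale ε)
    (hεs : RepWith @Surjective ε) (hε : ε ≫ pullback.snd f p = (yon S).map g) [QuasiCompact g.left] :
    ∃ q : (yon S).obj (Over.mk (g.left.ker.subschemeι ≫ V.hom)) ⟶ Z,
      IsPullback q ((yon S).map (Over.homMk g.left.ker.subschemeι rfl :
        Over.mk (g.left.ker.subschemeι ≫ V.hom) ⟶ V)) i p := by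
  have hrep := hY.representable_from_yon p
  obtain ⟨R, s, fstR, sqR⟩ := hrep p
  obtain ⟨t, rfl⟩ := (yon S).map_surjective fstR
  have hse : Etale s.left := hpe.property _ _ _ sqR
  have hte : Etale t.left := hpe.property _ _ _ sqR.flip
  have hfe : RepWith @Etale (pullback.fst f p) :=
    (RepWith @Etale).of_isPullback (IsPullback.of_hasPullback f p).flip hpe
  have hfs : RepWith @Surjective (pullback.fst f p) :=
    (RepWith @Surjective).of_isPullback (IsPullback.of_hasPullback f p).flip hps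
  have : Epi ε := epi_of_etale_surjective _ hεe hεs
  have : Epi (pullback.fst f p) := epi_of_etale_surjective _ hfe hfs
  have : Epi (ε ≫ pullback.fst f p) := epi_comp _ _
  have hw : (ε ≫ pullback.fst f p) ≫ f = (yon S).map g ≫ p := by
    rw [Category.assoc, pullback.condition, ← Category.assoc, hε]
  obtain ⟨Z₀, i₀, q₀, hZ₀, hsch₀, sq₀⟩ := exists_isSchImage_of_chart hY f p hpe hps s t sqR
    (ε ≫ pullback.fst f p) g hw (comap_ker_eq_of_qc_chart f p g ε hεe hεs hε s t sqR.w).le
  obtain ⟨k, hk⟩ := hi.2.2 i₀ hZ₀ hsch₀.1 hsch₀.2.1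
  obtain ⟨k', hk'⟩ := hsch₀.2.2 i hZ hi.1 hi.2.1
  have : Mono i := mono_of_repWith_isClosedImmersion i hi.1
  have : Mono i₀ := mono_of_repWith_isClosedImmersion i₀ hsch₀.1
  have h1 : k ≫ k' = 𝟙 Z := by
    rw [← cancel_mono i, Category.assoc, hk', hk, Category.id_comp]
  have h2 : k' ≫ k = 𝟙 Z₀ := by
    rw [← cancel_mono i₀, Category.assoc, hk, hk', Category.id_comp]
  refine ⟨q₀ ≫ k', ?_⟩
  exact IsPullback.of_iso sq₀ (Iso.refl _) ⟨k', k, h2, h1⟩ (Iso.refl _) (Iso.refl _) (by simp) (by simp)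
    (by simpa using hk'.symm) (by simp)

end Groth.Agent.Lib.Helper16.SchImg
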