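import Groth.Agent.Lib.Helper16.GenFinSp2
import Groth.Agent.Lib.Helper16.FlatMonoSch2
import Groth.Agent.Lib.Helper16.FpqcQc
import Groth.Agent.Lib.Helper16.SchImgQc2
import Groth.Agent.Lib.Helper16.SchLocusField
import Groth.Agent.Lib.Helper16.SchLocusCodim0b

/-!
# Helper library (helper16): a flat monomorphism of algebraic spaces is representable (sheaf level, part 1)
-/

set_option autoImplicit false
universe u
open CategoryTheory CategoryTheory.Limits AlgebraicGeometry Opposite Topology

namespace Groth.Agent.Lib.Helper16.FlatMonoSp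

open AlgSp Groth.Agent.Lib.Helper15 Groth.Agent.Lib.Helper16 Groth.Agent.Lib.Helper16.SchLocus
  Groth.Agent.Lib.Helper16.SchImg Groth.Agent.Lib.Helper16.FlatMonoSch Groth.Agent.Lib.Helper16.GenFinSp
  Groth.Agent.Lib.Helper16.Strata

variable {S : Scheme.{u}}

section StepA

variable {T U : Over S} {P : Sp S} (hP : IsAlgSpace P) (p : P ⟶ (yon S).obj T) (hflat : LocP @Flat p)
  (a : (yon S).obj U ⟶ P) (hae : RepWith @Etale a) (g : U ⟶ T) (hc : a ≫ p = (yon S).map g)

include hP hflat hae hc in
/-- Flatness of the base changes of the chart of a flat morphism. -/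
theorem flat_pullback_snd {T' : Over S} (j : T' ⟶ T) : Flat (pullback.snd g j).left := by
  have sq := IsPullback.of_hasPullback p ((yon S).map j)
  obtain ⟨a', ha'₁, sqa⟩ := chart_baseChange sq a g hc
  have ha'e : RepWith @Etale a' := (RepWith (S := S) @Etale).of_isPullback sqa.flip hae
  have hq : LocP @Flat (pullback.snd p ((yon S).map j)) :=
    locP_of_isPullback etLocalST_flat hP (IsAlgSpace.yon_obj T) sq hflat
  exact hq a' (𝟙 _) (pullback.snd g j) ha'e (repWith_id _ T') (by rw [Category.comp_id, ha'₁])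

include hP hflat hae hc in
/-- **Step A** If the base change of the chart of a flat monomorphism along `j` is surjective, it is etale (the base
change of the monomorphism is an isomorphism). -/
theorem etale_pullback_snd_of_surjective [Mono p] [IsAffine T.left] [IsAffine U.left] {T' : Over S}
    [IsAffine T'.left] (j : T' ⟶ T) (hs : Surjective (pullback.snd g j).left) : Etale (pullback.snd g j).left := by
  have sq := IsPullback.of_hasPullback p ((yon S).map j)
  obtain ⟨a', ha'₁, sqa⟩ := chart_baseChange sq a g hc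
  have ha'e : RepWith @Etale a' := (RepWith (S := S) @Etale).of_isPullback sqa.flip hae
  have hfl : Flat (pullback.snd g j).left := flat_pullback_snd hP p hflat a hae g hc j
  have hP' : IsAlgSpace (pullback p ((yon S).map j)) :=
    isAlgSpace_of_isPullback hP (IsAlgSpace.yon_obj T).diag (IsAlgSpace.yon_obj T') sq
  have hWaff : IsAffine (pullback g j).left := IsAffine.of_isIso (isPullback_left_forget g j).isoPullback.hom
  have href : FpqcRefines (fun _ : PUnit.{u + 1} => pullback p ((yon S).map j))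
      (fun _ => pullback.snd p ((yon S).map j)) := by
    intro Z hZ h
    obtain ⟨h₀, rfl⟩ := (yon S).map_surjective h
    have : IsAffine Z.left := hZ
    refine ⟨1, fun _ => ovPullback (pullback.snd g j) h₀, fun _ => ovPullbackSnd (pullback.snd g j) h₀,
      fun _ => ?_, fun _ => ?_, fun z => ?_, fun _ => ?_⟩
    · show IsAffine (pullback (pullback.snd g j).left h₀.left)
      infer_instance
    · show Flat (pullback.snd (pullback.snd g j).left h₀.left)
      infer_instance
    · have hsj : Surjective (pullback.snd (pullback.snd g j).left h₀.left) := inferInstance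
      obtain ⟨w, hw⟩ := hsj.surj z
      exact ⟨0, w, hw⟩
    · refine ⟨⟨⟩, (yon S).map (ovPullbackFst (pullback.snd g j) h₀) ≫ a', ?_⟩
      rw [Category.assoc, ha'₁, ← Functor.map_comp, ← Functor.map_comp, (isPullback_ovPullback _ _).w]
  have hiso : IsIso (pullback.snd p ((yon S).map j)) :=
    isIso_of_fpqcRefines (IsAlgSpace.yon_obj T') (fun _ : PUnit.{u + 1} => pullback p ((yon S).map j))
      (fun _ => hP') (fun _ => pullback.snd p ((yon S).map j)) href hP' _
      (fun _ => pullback p ((yon S).map j)) (fun _ => hP')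
      (fun _ => 𝟙 _) (fun _ => 𝟙 _) (fun _ => IsKernelPair.id_of_mono _) (fun _ => inferInstance)
  have h1 : RepWith @Etale (a' ≫ pullback.snd p ((yon S).map j)) :=
    ((RepWith @Etale).cancel_right_of_respectsIso a' _).2 ha'e
  rw [ha'₁, repWith_yon_map_iff] at h1
  exact h1

end StepA

/-- Descent of affineness from an etale chart to its open image. -/
theorem isAffineMor_over_range {X Y : Sp S} (hX : IsAlgSpace X) (hY : IsAlgSpace Y) (f : X ⟶ Y) {V₁ : Over S}
    (b₁ : (yon S).obj V₁ ⟶ Y) (hb₁ : RepWith @Etale b₁) {M₁ : Over S} (m₁ : M₁ ⟶ V₁)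
    (a₁ : (yon S).obj M₁ ⟶ X) (sq₁ : IsPullback a₁ ((yon S).map m₁) f b₁) (hm : IsAffineHom m₁.left) :
    IsAffineMor (pullback.fst (openSubι Y (Set.range (Points.ofPt b₁))) f) := by
  obtain ⟨W, hWdef⟩ : ∃ W : Set (Points Y), W = Set.range (Points.ofPt b₁) := ⟨_, rfl⟩
  rw [← hWdef]
  have hW : IsOpen W := by rw [hWdef]; exact (isOpenMap_ofPt_of_etale _ hb₁).isOpen_range
  have hWmem : ∀ z, z ∈ W ↔ z ∈ Set.range (Points.ofPt b₁) := fun z => by rw [hWdef]
  obtain ⟨b₂', hb₂'⟩ := (exists_factor_openSub_iff W b₁).2 (fun t => by rw [hWmem]; exact ⟨t, rfl⟩)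
  have hb₂'e : RepWith @Etale b₂' := repWith_of_comp_mono _ b₂' (openSubι Y W) (by rw [hb₂']; exact hb₁)
  have hb₂'s : RepWith @Surjective b₂' := by
    rw [repWith_surjective_iff b₂' hb₂'e.rep]
    intro x'
    have hx : Points.map (openSubι Y W) x' ∈ W := (range_map_openSubι W).subset ⟨x', rfl⟩
    obtain ⟨t, ht⟩ := (hWmem _).1 hx
    refine ⟨Points.ofScheme _ t, ?_⟩
    apply points_map_injective_of_mono (openSubι Y W)
    rw [← Points.ofPt_eq_map_ofScheme, Points.map_ofPt, hb₂']
    exact ht
  have hY' : IsAlgSpace (openSub Y W) := isAlgSpace_openSub hY W hW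
  have sqX' := IsPullback.of_hasPullback (openSubι Y W) f
  have hX' : IsAlgSpace (pullback (openSubι Y W) f) := isAlgSpace_of_isPullback hY' hY.diag hX sqX'
  have hw : ((yon S).map m₁ ≫ b₂') ≫ openSubι Y W = a₁ ≫ f := by
    rw [Category.assoc, hb₂']
    exact sq₁.w.symm
  have sqQ : IsPullback (pullback.lift _ _ hw) ((yon S).map m₁) (pullback.fst (openSubι Y W) f) b₂' := by
    refine IsPullback.of_right ?_ (pullback.lift_fst _ _ _) sqX'.flip
    rw [pullback.lift_snd, hb₂']
    exact sq₁
  have hp : IsAffineMor ((yon S).map m₁) := by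
    intro Z hZ z
    obtain ⟨W', i, φ, sqW, hW', -⟩ := affWith_yon_map (P := @IsAffineHom) le_rfl m₁ hm hZ z
    exact ⟨W', i, φ, sqW, hW'⟩
  exact isAffineMor_of_fpqcRefines hY' (fun _ : PUnit.{u + 1} => (yon S).obj V₁) (fun _ => b₂')
    (fpqcRefines_chart hY' b₂' hb₂'e hb₂'s) hX' (pullback.fst (openSubι Y W) f)
    (fun _ => (yon S).obj M₁) (fun _ => (yon S).map m₁)
    (fun _ => pullback.lift _ _ hw) (fun _ => sqQ) (fun _ => hp)

/-- **K-argument** Over a basic open neighbourhood of the image of `v₁`, a monomorphism `p'` (with affine chart)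
has all its points in the image of the flat section `s`. -/
theorem exists_basicOpen_sub_range {Y' U' V : Over S} [IsAffine Y'.left] [IsAffine U'.left] {P' : Sp S}
    (p' : P' ⟶ (yon S).obj Y') [Mono p'] (a' : (yon S).obj U' ⟶ P') (has' : RepWith @Surjective a') (g' : U' ⟶ Y')
    (hc' : a' ≫ p' = (yon S).map g') (s : (yon S).obj V ⟶ P') (hse : RepWith @Etale s) (m : V ⟶ Y')
    (hsm : s ≫ p' = (yon S).map m) [Flat m.left] (v₁ : ↥V.left) :
    ∃ c : Γ(Y'.left, ⊤), m.left v₁ ∈ Y'.left.basicOpen c ∧
      ∀ z : Points P', Points.toScheme Y' (Points.map p' z) ∈ Y'.left.basicOpen c →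
        z ∈ Set.range (Points.ofPt s) := by
  obtain ⟨C, hCdef⟩ : ∃ C : Set ↥U'.left, C = (Points.ofPt a') ⁻¹' (Set.range (Points.ofPt s))ᶜ := ⟨_, rfl⟩
  have hCmem : ∀ x, x ∈ C ↔ Points.ofPt a' x ∉ Set.range (Points.ofPt s) := fun x => by rw [hCdef]; rfl
  have hCc : IsClosed C := by
    rw [hCdef]
    exact ((isOpenMap_ofPt_of_etale s hse).isOpen_range.isClosed_compl).preimage (Points.continuous_ofPt a')
  have hqc : QuasiCompact g'.left := by
    rw [HasAffineProperty.iff_of_isAffine (P := @QuasiCompact)]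
    infer_instance
  have hkey : ∀ (x : ↥U'.left) (v : ↥V.left), g'.left x = m.left v → Points.ofPt a' x = Points.ofPt s v := by
    intro x v h
    apply points_map_injective_of_mono p'
    rw [Points.map_ofPt, Points.map_ofPt, hc', hsm, Points.ofPt_eq_map_ofScheme, map_yon_map_ofScheme,
      Points.ofPt_eq_map_ofScheme, map_yon_map_ofScheme, h]
  have hy' : m.left v₁ ∉ closure (g'.left '' C) := by
    intro h
    obtain ⟨x, hxC, hx⟩ := exists_specializes_of_mem_closure_image g'.left C hCc _ h
    obtain ⟨v, -, hv⟩ := Flat.generalizingMap m.left hx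
    exact (hCmem x).1 hxC ⟨v, (hkey x v hv.symm).symm⟩
  obtain ⟨_, ⟨_, ⟨c, rfl⟩, rfl⟩, hyc, hsub⟩ := (isBasis_basicOpen Y'.left).exists_subset_of_mem_open hy'
    isClosed_closure.isOpen_compl
  refine ⟨c, hyc, fun z hz => ?_⟩
  obtain ⟨x, rfl⟩ := ofPt_surjective_of_surjective a' has' z
  by_contra hx
  have hxC : x ∈ C := (hCmem x).2 hx
  apply hsub hz
  apply subset_closure
  refine ⟨x, hxC, ?_⟩
  rw [Points.map_ofPt, hc', Points.ofPt_eq_map_ofScheme, map_yon_map_ofScheme, Points.toScheme_ofScheme]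

end Groth.Agent.Lib.Helper16.FlatMonoSp
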