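import Groth.Agent.Lib.Helper16.FlatMonoSp

/-!
# Helper library (helper16): a flat monomorphism of algebraic spaces is representable (sheaf level, part 2)
-/

set_option autoImplicit false
universe u
open CategoryTheory CategoryTheory.Limits AlgebraicGeometry Opposite Topology

namespace Groth.Agent.Lib.Helper16.FlatMonoSp

open AlgSp Groth.Agent.Lib.Helper15 Groth.Agent.Lib.Helper16 Groth.Agent.Lib.Helper16.SchLocus
  Groth.Agent.Lib.Helper16.SchImg Groth.Agent.Lib.Helper16.FlatMonoSch Groth.Agent.Lib.Helper16.GenFinSp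
  Groth.Agent.Lib.Helper16.Strata

variable {S : Scheme.{u}}

/-- The spectrum of the local ring of an affine scheme over `S`, as a scheme over `S`. -/
noncomputable abbrev locOver (T : Over S) [IsAffine T.left] (y : ↥T.left) : Over S :=
  Over.mk (locSpecTo T.left y ≫ T.hom)

noncomputable abbrev locOverι (T : Over S) [IsAffine T.left] (y : ↥T.left) : locOver T y ⟶ T :=
  Over.homMk (locSpecTo T.left y) rfl

/-- Etale neighbourhoods adapted to the chart of a flat monomorphism. -/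
theorem exists_etale_nbhd_over {T U : Over S} [IsAffine T.left] [IsAffine U.left] {P : Sp S} (hP : IsAlgSpace P)
    (p : P ⟶ (yon S).obj T) [Mono p] (hflat : LocP @Flat p) (a : (yon S).obj U ⟶ P) (hae : RepWith @Etale a)
    (g : U ⟶ T) (hc : a ≫ p = (yon S).map g) (u : ↥U.left) :
    ∃ (Y' U₁ : Over S) (_ : IsAffine Y'.left) (_ : IsAffine U₁.left) (e : Y' ⟶ T) (ι : U₁ ⟶ U) (ψ : U₁ ⟶ Y')
      (u₁ : ↥U₁.left), Etale e.left ∧ IsOpenImmersion ι.left ∧ ι ≫ g = ψ ≫ e ∧ ι.left u₁ = u ∧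
        Function.Surjective (ψ.left.stalkMap u₁) := by
  have hT'aff : IsAffine (locOver T (g.left u)).left := inferInstanceAs (IsAffine (Spec _))
  have hfl := flat_pullback_snd hP p hflat a hae g hc (locOverι T (g.left u))
  have sqs := isPullback_left_forget g (locOverι T (g.left u))
  have hsurj : Surjective (pullback.snd g (locOverι T (g.left u))).left := by
    obtain ⟨w, -, hw2⟩ := FlatMonoSch.exists_preimage_of_isPullback sqs u (IsLocalRing.closedPoint _) (by
      show g.left u = locSpecTo T.left (g.left u) (IsLocalRing.closedPoint _)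
      rw [locSpecTo_closedPoint])
    exact surjective_of_flat_of_closedPoint _ w hw2
  have het := etale_pullback_snd_of_surjective hP p hflat a hae g hc _ hsurj
  obtain ⟨Y', U₁, hY', hU₁, e, ι, ψ, u₁, he, hι, hcomm, hu₁, hs⟩ := exists_etale_nbhd g.left u _ _ sqs
  refine ⟨Over.mk (e ≫ T.hom), Over.mk (ι ≫ U.hom), hY', hU₁, Over.homMk e rfl, Over.homMk ι rfl,
    Over.homMk ψ ?_, u₁, he, hι, ?_, hu₁, hs⟩
  · show ψ ≫ e ≫ T.hom = ι ≫ U.hom
    rw [← Over.w g, ← Category.assoc, ← Category.assoc, hcomm]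
  · ext
    exact hcomm

/-- **Core** Given an etale neighbourhood as produced by `exists_etale_nbhd_over`, the point lies in the schematic locus. -/
theorem mem_schLocus_of_nbhd {T U : Over S} [IsAffine T.left] [IsAffine U.left] {P : Sp S} (hP : IsAlgSpace P)
    (p : P ⟶ (yon S).obj T) [Mono p] (hflat : LocP @Flat p) (a : (yon S).obj U ⟶ P) (hae : RepWith @Etale a)
    (has : RepWith @Surjective a) (g : U ⟶ T) (hc : a ≫ p = (yon S).map g) (u : ↥U.left)
    {Y' U₁ : Over S} [IsAffine Y'.left] [IsAffine U₁.left] (e : Y' ⟶ T) (ι : U₁ ⟶ U) (ψ : U₁ ⟶ Y')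
    (u₁ : ↥U₁.left) (he : Etale e.left) (hι : IsOpenImmersion ι.left) (hcomm : ι ≫ g = ψ ≫ e)
    (hu₁ : ι.left u₁ = u) (hs : Function.Surjective (ψ.left.stalkMap u₁)) : Points.ofPt a u ∈ schLocus P := by
  have hT : IsAlgSpace ((yon S).obj T) := IsAlgSpace.yon_obj T
  obtain ⟨P', fst', p', sq'⟩ : ∃ (P' : Sp S) (fst' : P' ⟶ P) (p' : P' ⟶ (yon S).obj Y'),
      IsPullback fst' p' p ((yon S).map e) := ⟨_, _, _, IsPullback.of_hasPullback p ((yon S).map e)⟩
  have hP' : IsAlgSpace P' := isAlgSpace_of_isPullback hP hT.diag (IsAlgSpace.yon_obj Y') sq'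
  have hp'm : Mono p' := sq'.mono_snd_of_mono
  have hfst' : RepWith @Etale fst' :=
    (RepWith (S := S) @Etale).of_isPullback sq'.flip ((repWith_yon_map_iff _ _).2 he)
  have hp'f : LocP @Flat p' := locP_of_isPullback etLocalST_flat hP hT sq' hflat
  -- the section `s`
  have hw : ((yon S).map ι ≫ a) ≫ p = (yon S).map ψ ≫ (yon S).map e := by
    rw [Category.assoc, hc, ← Functor.map_comp, ← Functor.map_comp, hcomm]
  obtain ⟨s, hs1, hs2⟩ : ∃ s : (yon S).obj U₁ ⟶ P', s ≫ fst' = (yon S).map ι ≫ a ∧ s ≫ p' = (yon S).map ψ :=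
    ⟨sq'.lift _ _ hw, sq'.lift_fst _ _ _, sq'.lift_snd _ _ _⟩
  have hιe : RepWith @Etale ((yon S).map ι) := (repWith_yon_map_iff _ _).2 (by
    have := hι
    exact (inferInstance : Etale ι.left))
  have hse : RepWith @Etale s := by
    apply repWith_etale_of_comp s fst' hfst'
    rw [hs1]
    exact (RepWith @Etale).comp_mem _ _ hιe hae
  -- the kernel pair of `ψ`
  obtain ⟨R, c₁, d₀, sqR⟩ := hse.rep s
  obtain ⟨d₁, rfl⟩ := (yon S).map_surjective d₀
  have hc₁ : Etale c₁.left := hse.property _ _ _ sqR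
  have sqR' : IsPullback ((yon S).map d₁) ((yon S).map c₁) ((yon S).map ψ) ((yon S).map ψ) := by
    have := isPullback_comp_mono p' sqR
    rwa [hs2] at this
  have sqK : IsPullback d₁.left c₁.left ψ.left ψ.left := isPullback_left_of_yon sqR'
  obtain ⟨V, hV, hu₁V, hVm⟩ := exists_open_mono ψ.left d₁.left c₁.left sqK u₁ hs
  -- the open immersion `s₀`
  have hVaff : IsAffine (overOpen U₁ V).left := hV
  obtain ⟨m, hm⟩ : ∃ m : overOpen U₁ V ⟶ Y', m = overOpenι U₁ V ≫ ψ := ⟨_, rfl⟩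
  have hml : m.left = V.ι ≫ ψ.left := by rw [hm]; rfl
  have hmm : Mono m := by
    have : Mono m.left := by rw [hml]; exact hVm
    exact Over.mono_of_mono_left m
  obtain ⟨s₀, hs₀⟩ : ∃ s₀ : (yon S).obj (overOpen U₁ V) ⟶ P', s₀ = (yon S).map (overOpenι U₁ V) ≫ s := ⟨_, rfl⟩
  have hs₀e : RepWith @Etale s₀ := by rw [hs₀]; exact repWith_etale_restrict s hse V
  have hs₀p : s₀ ≫ p' = (yon S).map m := by rw [hs₀, Category.assoc, hs2, ← Functor.map_comp, hm]
  have hs₀m : Mono s₀ := by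
    have : Mono (s₀ ≫ p') := by rw [hs₀p]; infer_instance
    exact mono_of_mono s₀ p'
  have hmf : Flat m.left := hp'f s₀ (𝟙 _) m hs₀e (repWith_id _ Y') (by rw [Category.comp_id, hs₀p])
  -- the K-argument
  obtain ⟨a', ha'₁, sqa⟩ := chart_baseChange sq' a g hc
  have ha's : RepWith @Surjective a' := (RepWith (S := S) @Surjective).of_isPullback sqa.flip has
  have hU'aff : IsAffine (pullback g e).left := IsAffine.of_isIso (isPullback_left_forget g e).isoPullback.hom
  obtain ⟨c, hyc, hcK⟩ := exists_basicOpen_sub_range p' a' ha's (pullback.snd g e) ha'₁ s₀ hs₀e m hs₀p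
    (⟨u₁, hu₁V⟩ : ↥V)
  obtain ⟨D, hDdef⟩ : ∃ D : Y'.left.Opens, D = Y'.left.basicOpen c := ⟨_, rfl⟩
  have hDaff : IsAffineOpen D := by rw [hDdef]; exact (isAffineOpen_top Y'.left).basicOpen c
  rw [← hDdef] at hyc hcK
  -- the base change to `D`
  obtain ⟨P'', fst'', p'', sq''⟩ : ∃ (P'' : Sp S) (fst'' : P'' ⟶ P') (p'' : P'' ⟶ (yon S).obj (overOpen Y' D)),
      IsPullback fst'' p'' p' ((yon S).map (overOpenι Y' D)) := ⟨_, _, _, IsPullback.of_hasPullback _ _⟩
  have hιD : RepWith @IsOpenImmersion ((yon S).map (overOpenι Y' D)) :=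
    (repWith_yon_map_iff _ _).2 (by change IsOpenImmersion D.ι; infer_instance)
  have hfst''o : RepWith @IsOpenImmersion fst'' := (RepWith (S := S) @IsOpenImmersion).of_isPullback sq''.flip hιD
  have hfst''e : RepWith @Etale fst'' := repWith_mono isOpenImmersion_le_etale _ hfst''o
  have hιDm : Mono ((yon S).map (overOpenι Y' D)) := by
    have h1 : Mono (overOpenι Y' D).left := by change Mono D.ι; infer_instance
    have h2 : Mono (overOpenι Y' D) := Over.mono_of_mono_left _
    infer_instance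
  have hfst''m : Mono fst'' := sq''.mono_fst_of_mono
  have hwθ : ((yon S).map (overOpenι (overOpen U₁ V) (m.left ⁻¹ᵁ D)) ≫ s₀) ≫ p' =
      (yon S).map (overRestrict m D) ≫ (yon S).map (overOpenι Y' D) := by
    rw [Category.assoc, hs₀p, ← Functor.map_comp, ← Functor.map_comp, (isPullback_overRestrict m D).w]
  obtain ⟨θ, hθ1, hθ2⟩ : ∃ θ : (yon S).obj (overOpen (overOpen U₁ V) (m.left ⁻¹ᵁ D)) ⟶ P'',
      θ ≫ fst'' = (yon S).map (overOpenι (overOpen U₁ V) (m.left ⁻¹ᵁ D)) ≫ s₀ ∧
        θ ≫ p'' = (yon S).map (overRestrict m D) :=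
    ⟨sq''.lift _ _ hwθ, sq''.lift_fst _ _ _, sq''.lift_snd _ _ _⟩
  have hθm : Mono θ := by
    have h1 : Mono (overOpenι (overOpen U₁ V) (m.left ⁻¹ᵁ D)).left := by
      change Mono (m.left ⁻¹ᵁ D).ι; infer_instance
    have h2 : Mono (overOpenι (overOpen U₁ V) (m.left ⁻¹ᵁ D)) := Over.mono_of_mono_left _
    have h3 : Mono (θ ≫ fst'') := by
      rw [hθ1]
      exact mono_comp _ _
    exact mono_of_mono θ fst''
  have hθe : IsEtaleMor θ := by
    intro U₀ φ hφ
    apply repWith_etale_of_comp (φ ≫ θ) fst'' hfst''e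
    rw [Category.assoc, hθ1]
    exact (RepWith @Etale).comp_mem _ _ hφ (repWith_etale_restrict s₀ hs₀e _)
  have hθs : IsSurjectiveMor θ := by
    intro z''
    have hD'' : Points.toScheme Y' (Points.map p' (Points.map fst'' z'')) ∈ D := by
      rw [← Points.map_comp, sq''.w, Points.map_comp,
        ← Points.ofScheme_toScheme (overOpen Y' D) (Points.map p'' z''), map_yon_map_ofScheme,
        Points.toScheme_ofScheme]
      exact (Points.toScheme (overOpen Y' D) (Points.map p'' z'')).2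
    obtain ⟨v, hv⟩ := hcK _ hD''
    have hvD : m.left v ∈ D := by
      have h1 : Points.toScheme Y' (Points.map p' (Points.map fst'' z'')) = m.left v := by
        rw [← hv, Points.map_ofPt, hs₀p, Points.ofPt_eq_map_ofScheme, map_yon_map_ofScheme,
          Points.toScheme_ofScheme]
      rw [← h1]
      exact hD''
    refine ⟨Points.ofScheme _ (⟨v, hvD⟩ : ↥(m.left ⁻¹ᵁ D)), ?_⟩
    apply points_map_injective_of_mono fst''
    rw [← Points.map_comp, hθ1, ← Points.ofPt_eq_map_ofScheme, ofPt_restrict, ← hv]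
    rfl
  have hθiso : IsIso θ := isIso_of_etale_mono_surjective (IsAlgSpace.yon_obj _) θ hθe hθs
  -- affineness
  have hMaff : IsAffine (overOpen (overOpen U₁ V) (m.left ⁻¹ᵁ D)).left := by
    have h1 : IsAffineOpen (m.left ⁻¹ᵁ D) := by
      rw [hDdef, Scheme.preimage_basicOpen]
      exact (isAffineOpen_top _).basicOpen _
    exact h1
  have hDaff' : IsAffine (overOpen Y' D).left := hDaff
  -- the pasted pullback square
  have sqBig := sq''.paste_horiz sq'
  have sqIso : IsPullback θ ((yon S).map (overRestrict m D)) p'' (𝟙 _) :=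
    IsPullback.of_horiz_isIso ⟨by rw [hθ2, Category.comp_id]⟩
  have sqM := sqIso.paste_horiz sqBig
  rw [Category.id_comp, ← Functor.map_comp] at sqM
  have hεe : RepWith @Etale ((yon S).map (overOpenι Y' D ≫ e)) := (repWith_yon_map_iff _ _).2 (by
    show Etale (D.ι ≫ e.left)
    have := he
    infer_instance)
  have hμaff : IsAffineHom (overRestrict m D).left := inferInstance
  have haffmor := isAffineMor_over_range hP hT p ((yon S).map (overOpenι Y' D ≫ e)) hεe (overRestrict m D)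
    (θ ≫ fst'' ≫ fst') sqM hμaff
  obtain ⟨W, hWdef⟩ : ∃ W : Set (Points ((yon S).obj T)),
      W = Set.range (Points.ofPt ((yon S).map (overOpenι Y' D ≫ e))) := ⟨_, rfl⟩
  rw [← hWdef] at haffmor
  have hWo : IsOpen W := by rw [hWdef]; exact (isOpenMap_ofPt_of_etale _ hεe).isOpen_range
  have hyW : Points.ofScheme T (g.left u) ∈ W := by
    rw [hWdef]
    refine ⟨(⟨m.left (⟨u₁, hu₁V⟩ : ↥V), hyc⟩ : ↥D), ?_⟩
    rw [Points.ofPt_eq_map_ofScheme, map_yon_map_ofScheme]
    congr 1
    show e.left (m.left (⟨u₁, hu₁V⟩ : ↥V)) = g.left u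
    rw [hml]
    show e.left (ψ.left u₁) = g.left u
    rw [← hu₁, ← Scheme.Hom.comp_apply, ← Scheme.Hom.comp_apply, ← Over.comp_left, ← Over.comp_left, hcomm]
  obtain ⟨_, ⟨(Z : T.left.Opens), hZ, rfl⟩, hyZ, hZsub⟩ := T.left.isBasis_affineOpens.exists_subset_of_mem_open
    (show g.left u ∈ (Points.ofScheme T) ⁻¹' W from hyW) (hWo.preimage (Points.continuous_ofPt (𝟙 _)))
  have hZaff : IsAffine (overOpen T Z).left := hZ
  obtain ⟨ζ, hζ⟩ := (exists_factor_openSub_iff W ((yon S).map (overOpenι T Z))).2 (fun t => by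
    rw [Points.ofPt_eq_map_ofScheme, map_yon_map_ofScheme]
    exact hZsub t.2)
  obtain ⟨W₁, i, φ, sqW, hW₁⟩ := haffmor hZaff ζ
  have sqX' := IsPullback.of_hasPullback (openSubι ((yon S).obj T) W) p
  have sqP := sqW.paste_horiz sqX'.flip
  rw [hζ] at sqP
  have hιZ : RepWith @IsOpenImmersion ((yon S).map (overOpenι T Z)) :=
    (repWith_yon_map_iff _ _).2 (by change IsOpenImmersion Z.ι; infer_instance)
  have hβ : RepWith @IsOpenImmersion (φ ≫ pullback.snd (openSubι ((yon S).obj T) W) p) :=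
    (RepWith (S := S) @IsOpenImmersion).of_isPullback sqP.flip hιZ
  obtain ⟨v, hv, -⟩ := exists_point_of_isPullback_yon sqP (Points.ofPt a u) (⟨g.left u, hyZ⟩ : ↥Z) (by
    rw [Points.map_ofPt, hc, Points.ofPt_eq_map_ofScheme, map_yon_map_ofScheme, Points.ofPt_eq_map_ofScheme,
      map_yon_map_ofScheme]
    rfl)
  exact ⟨W₁, _, hβ, v, hv⟩

/-- The case of an affine base and a surjective affine chart. -/
theorem mem_schLocus_of_flat_mono_chart {T U : Over S} [IsAffine T.left] [IsAffine U.left] {P : Sp S}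
    (hP : IsAlgSpace P) (p : P ⟶ (yon S).obj T) [Mono p] (hflat : LocP @Flat p) (a : (yon S).obj U ⟶ P)
    (hae : RepWith @Etale a) (has : RepWith @Surjective a) (g : U ⟶ T) (hc : a ≫ p = (yon S).map g)
    (u : ↥U.left) : Points.ofPt a u ∈ schLocus P := by
  obtain ⟨Y', U₁, hY', hU₁, e, ι, ψ, u₁, he, hι, hcomm, hu₁, hs⟩ := exists_etale_nbhd_over hP p hflat a hae g hc u
  exact mem_schLocus_of_nbhd hP p hflat a hae has g hc u e ι ψ u₁ he hι hcomm hu₁ hs

/-- Every point of the source of a flat monomorphism to a scheme lies in the schematic locus. -/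
theorem mem_schLocus_of_flat_mono {T : Over S} {P : Sp S} (hP : IsAlgSpace P) (p : P ⟶ (yon S).obj T) [Mono p]
    (hflat : LocP @Flat p) (x : Points P) : x ∈ schLocus P := by
  obtain ⟨O, hO, hθO⟩ := exists_affineOpen_mem (Points.toScheme T (Points.map p x))
  have hOaff : IsAffine (overOpen T O).left := hO
  obtain ⟨P₀, k, p₀, sqL⟩ : ∃ (P₀ : Sp S) (k : P₀ ⟶ P) (p₀ : P₀ ⟶ (yon S).obj (overOpen T O)),
      IsPullback k p₀ p ((yon S).map (overOpenι T O)) := ⟨_, _, _, IsPullback.of_hasPullback _ _⟩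
  have hT := IsAlgSpace.yon_obj T
  have hP₀ : IsAlgSpace P₀ := isAlgSpace_of_isPullback hP hT.diag (IsAlgSpace.yon_obj _) sqL
  have hιO : RepWith @IsOpenImmersion ((yon S).map (overOpenι T O)) :=
    (repWith_yon_map_iff _ _).2 (by change IsOpenImmersion O.ι; infer_instance)
  have hk : RepWith @IsOpenImmersion k := (RepWith (S := S) @IsOpenImmersion).of_isPullback sqL.flip hιO
  have hp₀m : Mono p₀ := sqL.mono_snd_of_mono
  have hp₀f : LocP @Flat p₀ := locP_of_isPullback etLocalST_flat hP hT sqL hflat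
  obtain ⟨x₀, hx₀, -⟩ := exists_point_of_isPullback sqL x (Points.ofScheme _ (⟨_, hθO⟩ : ↥O)) (by
    rw [map_yon_map_ofScheme]
    exact (Points.ofScheme_toScheme T _).symm)
  rw [← hx₀]
  apply map_mem_schLocus k hk
  obtain ⟨U, a, hae, has⟩ := hP₀.atlas
  obtain ⟨u₀, rfl⟩ := ofPt_surjective_of_surjective a has x₀
  obtain ⟨U₀, hU₀, hu₀⟩ := exists_affineOpen_mem u₀
  have hU₀aff : IsAffine (overOpen U U₀).left := hU₀
  have ha₀e : RepWith @Etale ((yon S).map (overOpenι U U₀) ≫ a) := repWith_etale_restrict a hae U₀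
  obtain ⟨W, hWdef⟩ : ∃ W : Set (Points P₀), W = Set.range (Points.ofPt ((yon S).map (overOpenι U U₀) ≫ a)) :=
    ⟨_, rfl⟩
  have hWo : IsOpen W := by rw [hWdef]; exact (isOpenMap_ofPt_of_etale _ ha₀e).isOpen_range
  have hWmem : ∀ z, z ∈ W ↔ z ∈ Set.range (Points.ofPt ((yon S).map (overOpenι U U₀) ≫ a)) := fun z => by
    rw [hWdef]
  obtain ⟨a₁, ha₁⟩ := (exists_factor_openSub_iff W ((yon S).map (overOpenι U U₀) ≫ a)).2 (fun t => by
    rw [hWmem]; exact ⟨t, rfl⟩)
  have ha₁e : RepWith @Etale a₁ := repWith_of_comp_mono _ a₁ (openSubι P₀ W) (by rw [ha₁]; exact ha₀e)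
  have ha₁s : RepWith @Surjective a₁ := by
    rw [repWith_surjective_iff a₁ ha₁e.rep]
    intro x'
    have hx : Points.map (openSubι P₀ W) x' ∈ W := (range_map_openSubι W).subset ⟨x', rfl⟩
    obtain ⟨t, ht⟩ := (hWmem _).1 hx
    refine ⟨Points.ofScheme _ t, ?_⟩
    apply points_map_injective_of_mono (openSubι P₀ W)
    rw [← Points.ofPt_eq_map_ofScheme, Points.map_ofPt, ha₁]
    exact ht
  have hP₁ : IsAlgSpace (openSub P₀ W) := isAlgSpace_openSub hP₀ W hWo
  have hιW : RepWith @IsOpenImmersion (openSubι P₀ W) := repWith_isOpenImmersion_openSubι W hWo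
  have hp₁f : LocP @Flat (openSubι P₀ W ≫ p₀) := by
    intro U' V' a' b' h ha' hb' hcomm'
    exact hp₀f (a' ≫ openSubι P₀ W) b' h
      ((RepWith @Etale).comp_mem _ _ ha' (repWith_mono isOpenImmersion_le_etale _ hιW)) hb'
      (by rw [Category.assoc]; exact hcomm')
  have hp₁m : Mono (openSubι P₀ W ≫ p₀) := mono_comp _ _
  obtain ⟨g, hg⟩ := (yon S).map_surjective (a₁ ≫ openSubι P₀ W ≫ p₀)
  have hmem := mem_schLocus_of_flat_mono_chart hP₁ (openSubι P₀ W ≫ p₀) hp₁f a₁ ha₁e ha₁s g hg.symm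
    (⟨u₀, hu₀⟩ : ↥U₀)
  have h2 := map_mem_schLocus (openSubι P₀ W) hιW hmem
  rw [Points.map_ofPt, ha₁, ofPt_restrict] at h2
  exact h2

/-- **A flat monomorphism of algebraic spaces is representable.** -/
theorem representable_of_flat_mono {X Y : Sp S} (hX : IsAlgSpace X) (hY : IsAlgSpace Y) (f : X ⟶ Y)
    (hflat : LocP @Flat f) [Mono f] : Representable f := by
  intro T t
  have sq := IsPullback.of_hasPullback f t
  have hPs : IsAlgSpace (pullback f t) := isAlgSpace_of_isPullback hX hY.diag (IsAlgSpace.yon_obj T) sq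
  have hpf : LocP @Flat (pullback.snd f t) := locP_of_isPullback etLocalST_flat hX hY sq hflat
  have hall : ∀ x : Points (pullback f t), x ∈ schLocus (pullback f t) := fun x =>
    mem_schLocus_of_flat_mono hPs (pullback.snd f t) hpf x
  obtain ⟨M, ⟨e⟩⟩ := exists_iso_yon_of_isRepresentable (isRepresentable_of_forall_mem_schLocus hPs hall)
  obtain ⟨m, hm⟩ := (yon S).map_surjective (e.hom ≫ pullback.snd f t)
  refine ⟨M, m, e.hom ≫ pullback.fst f t, ?_⟩
  have sqIso : IsPullback e.hom ((yon S).map m) (pullback.snd f t) (𝟙 _) :=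
    IsPullback.of_horiz_isIso ⟨by rw [hm, Category.comp_id]⟩
  have h3 := sqIso.paste_horiz sq
  rwa [Category.id_comp] at h3

end Groth.Agent.Lib.Helper16.FlatMonoSp
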