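import Mathlib
import Groth.Prelude.Def_AlgSpInf
import Groth.Agent.S1489
import Groth.Agent.Lib.Helper26.AlgSpFormal
import Groth.Agent.Lib.Helper16.YonCoprod
import Groth.Agent.Lib.Helper16.MonoDescent

/-!
# Helper library (helper16): infinitesimal lifting for morphisms of fppf sheaves, part A

* fppf covering families: `generate_ofArrows_mem_J_of_fppf_cover`, `yon_hom_ext_of_fppf_cover`,
  `existsUnique_glue_of_fppf_compat`.
* `isFormallyEtaleMor_of_repWith_etale`: representable etale morphisms are formally etale.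
* `isFormallyUnramifiedMor_of_comp`: formal unramifiedness descends along a representable etale surjection.
* `isFormallyUnramifiedMor_yon_map_iff`: comparison with Mathlib's `FormallyUnramified` for schemes.
* `eq_of_affine_thickening`: uniqueness of lifts along arbitrary first order thickenings of affine schemes.
-/

set_option autoImplicit false
universe u w
open CategoryTheory CategoryTheory.Limits AlgebraicGeometry Opposite

namespace Groth.Agent.Lib.Helper16.Formal

open AlgSp Groth.Agent.Lib.Helper16 Groth.Agent.Lib.Helper26.AlgSpFormal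

variable {S : Scheme.{u}}

/-- A jointly surjective family of flat, locally finitely presented morphisms generates a covering sieve. -/
theorem generate_ofArrows_mem_J_of_fppf_cover {ι : Type w} {X : Over S} (Xj : ι → Over S) (s : ∀ j, Xj j ⟶ X)
    (hflat : ∀ j, Flat (s j).left) (hlfp : ∀ j, LocallyOfFinitePresentation (s j).left)
    (hsurj : ∀ x : X.left, ∃ j, x ∈ Set.range (s j).left) :
    Sieve.generate (Presieve.ofArrows Xj s) ∈ J S X := by
  rw [J_eq, GrothendieckTopology.mem_over_iff]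
  have hmem : Presieve.ofArrows (fun j => (Xj j).left) (fun j => (s j).left) ∈ Scheme.fppfPrecoverage X.left := by
    rw [Scheme.fppfPrecoverage, Scheme.ofArrows_mem_precoverage_iff]
    exact ⟨hsurj, fun j => ⟨hflat j, hlfp j⟩⟩
  refine GrothendieckTopology.superset_covering _ ?_ (Precoverage.generate_mem_toGrothendieck hmem)
  rw [Sieve.generate_le_iff]
  rintro _ _ ⟨j⟩
  rw [Sieve.overEquiv_iff]
  refine ⟨Xj j, Over.homMk (𝟙 _) (by simp), s j, ⟨j⟩, ?_⟩
  ext1
  simp

/-- Two maps from a representable sheaf agree if they agree on an fppf covering family. -/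
theorem yon_hom_ext_of_fppf_cover {F : Sp S} {Z : Over S} (a b : (yon S).obj Z ⟶ F) {κ : Type w}
    (Zk : κ → Over S) (s : ∀ k, Zk k ⟶ Z) (hflat : ∀ k, Flat (s k).left)
    (hlfp : ∀ k, LocallyOfFinitePresentation (s k).left)
    (hsurj : ∀ x : Z.left, ∃ k, x ∈ Set.range (s k).left)
    (h : ∀ k, (yon S).map (s k) ≫ a = (yon S).map (s k) ≫ b) : a = b := by
  apply (J S).uliftYonedaEquiv.injective
  have hsep := ((isSheaf_iff_isSheaf_of_type _ _).1 F.property).isSeparated
  refine (hsep _ (generate_ofArrows_mem_J_of_fppf_cover Zk s hflat hlfp hsurj)).ext ?_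
  rintro T' g ⟨Y, g', _, ⟨k⟩, rfl⟩
  rw [GrothendieckTopology.uliftYonedaEquiv_naturality, GrothendieckTopology.uliftYonedaEquiv_naturality,
    Functor.map_comp, Category.assoc, Category.assoc, h k]

/-- Gluing maps out of a representable sheaf along an fppf covering family. -/
theorem existsUnique_glue_of_fppf_compat {F : Sp S} {V : Over S} {I : Type u} (VO : I → Over S) (ι : ∀ i, VO i ⟶ V)
    (hflat : ∀ i, Flat (ι i).left) (hlfp : ∀ i, LocallyOfFinitePresentation (ι i).left)
    (hsurj : ∀ x : V.left, ∃ i, x ∈ Set.range (ι i).left)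
    (a : ∀ i, (yon S).obj (VO i) ⟶ F)
    (ha : ∀ (i j : I) (Z : Over S) (gi : Z ⟶ VO i) (gj : Z ⟶ VO j), gi ≫ ι i = gj ≫ ι j →
      (yon S).map gi ≫ a i = (yon S).map gj ≫ a j) :
    ∃! σ : (yon S).obj V ⟶ F, ∀ i, (yon S).map (ι i) ≫ σ = a i := by
  have hcov := generate_ofArrows_mem_J_of_fppf_cover VO ι hflat hlfp hsurj
  have hF : Presieve.IsSheaf (J S) F.obj := (isSheaf_iff_isSheaf_of_type _ _).1 F.property
  have hsh : Presieve.IsSheafFor F.obj (Presieve.ofArrows VO ι) :=
    (Presieve.isSheafFor_iff_generate _).2 (hF _ hcov)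
  rw [Presieve.isSheafFor_arrows_iff] at hsh
  obtain ⟨ξ, hξ, hξu⟩ := hsh (fun O => (J S).uliftYonedaEquiv (a O)) (by
    intro O O' Z gO gO' hg
    rw [GrothendieckTopology.uliftYonedaEquiv_naturality, GrothendieckTopology.uliftYonedaEquiv_naturality]
    congr 1
    exact ha O O' Z gO gO' hg)
  refine ⟨(J S).uliftYonedaEquiv.symm ξ, fun O => ?_, fun m hm => ?_⟩
  · apply (J S).uliftYonedaEquiv.injective
    rw [← hξ O, ← GrothendieckTopology.uliftYonedaEquiv_naturality, Equiv.apply_symm_apply]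
  · apply (J S).uliftYonedaEquiv.injective
    rw [Equiv.apply_symm_apply]
    apply hξu
    intro O
    rw [GrothendieckTopology.uliftYonedaEquiv_naturality, hm O]

/-- Representable etale morphisms of sheaves are formally etale. -/
theorem isFormallyEtaleMor_of_repWith_etale {F G : Sp S} (a : F ⟶ G) (ha : RepWith @Etale a) :
    IsFormallyEtaleMor a := by
  intro sq
  obtain ⟨W, snd, fst, hpb⟩ := ha.rep sq.bot
  have hét : Etale snd.left := ha.property _ _ _ hpb
  have hfe : MoreMor.IsFormallyEtaleHom snd.left := ((Groth.Agent.S1489.result snd.left).1 hét).2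
  obtain ⟨s, hs⟩ := (yon S).map_surjective (hpb.lift sq.top ((yon S).map sq.j) sq.comm)
  have hs1 : (yon S).map s ≫ fst = sq.top := by rw [hs, hpb.lift_fst]
  have hs2 : s ≫ snd = sq.j := by
    apply (yon S).map_injective
    rw [Functor.map_comp, hs, hpb.lift_snd]
  have hcond : Spec.map (CommRingCat.ofHom (Ideal.Quotient.mk sq.I)) ≫ 𝟙 (Spec (CommRingCat.of sq.A)) =
      s.left ≫ snd.left := by
    rw [Category.comp_id, ← Over.comp_left, hs2]
    rfl
  obtain ⟨l, ⟨hl1, hl2⟩, hluniq⟩ := hfe sq.A sq.I sq.sq_zero s.left (𝟙 _) hcond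
  have hlw : l ≫ W.hom = sq.ptT'.hom := by
    rw [← Over.w snd, ← Category.assoc, hl2, Category.id_comp]
  let L : sq.ptT' ⟶ W := Over.homMk l hlw
  have hL1 : sq.j ≫ L = s := Over.OverMorphism.ext hl1
  have hL2 : L ≫ snd = 𝟙 _ := Over.OverMorphism.ext hl2
  refine ⟨(yon S).map L ≫ fst, ⟨?_, ?_⟩, ?_⟩
  · rw [← Category.assoc, ← Functor.map_comp, hL1, hs1]
  · rw [Category.assoc, hpb.w, ← Category.assoc, ← Functor.map_comp, hL2, CategoryTheory.Functor.map_id,
      Category.id_comp]
  · rintro m ⟨hm1, hm2⟩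
    obtain ⟨M, hM⟩ := (yon S).map_surjective (hpb.lift m (𝟙 _) (by rw [hm2, Category.id_comp]))
    have hM1 : (yon S).map M ≫ fst = m := by rw [hM, hpb.lift_fst]
    have hM2 : M ≫ snd = 𝟙 _ := by
      apply (yon S).map_injective
      rw [Functor.map_comp, hM, hpb.lift_snd, CategoryTheory.Functor.map_id]
    have hM3 : sq.j ≫ M = s := by
      apply (yon S).map_injective
      apply hpb.hom_ext
      · rw [Functor.map_comp, Category.assoc, hM1, hm1, hs1]
      · rw [← Functor.map_comp, Category.assoc, hM2, Category.comp_id, ← Functor.map_comp, hs2]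
    have hMl : M.left = l := by
      apply hluniq
      refine ⟨?_, ?_⟩
      · have := congrArg CommaMorphism.left hM3
        exact this
      · have := congrArg CommaMorphism.left hM2
        exact this
    have hML : M = L := Over.OverMorphism.ext hMl
    rw [← hM1, hML]

section BC

variable {F G : Sp S} {f : F ⟶ G} (sq : InfSq f) {B : Type u} [CommRing B] (φ : sq.A →+* B)

/-- `Spec B` over `S`, for a ring map `A → B` out of the ring of a lifting square. -/
noncomputable abbrev bcT' : Over S := Over.mk (Spec.map (CommRingCat.ofHom φ) ≫ sq.str)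

/-- `Spec (B ⧸ I B)` over `S`. -/
noncomputable abbrev bcT : Over S :=
  Over.mk (Spec.map (CommRingCat.ofHom (Ideal.Quotient.mk (sq.I.map φ))) ≫
    Spec.map (CommRingCat.ofHom φ) ≫ sq.str)

/-- The thickening `Spec (B ⧸ I B) ⟶ Spec B`. -/
noncomputable abbrev bcj : bcT sq φ ⟶ bcT' sq φ :=
  Over.homMk (Spec.map (CommRingCat.ofHom (Ideal.Quotient.mk (sq.I.map φ)))) rfl

/-- The map `Spec B ⟶ Spec A`. -/
noncomputable abbrev bcp' : bcT' sq φ ⟶ sq.ptT' := Over.homMk (Spec.map (CommRingCat.ofHom φ)) rfl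

/-- The induced map on quotients. -/
noncomputable def quotMap : sq.A ⧸ sq.I →+* B ⧸ sq.I.map φ :=
  Ideal.quotientMap (sq.I.map φ) φ Ideal.le_comap_map

theorem quotMap_comp_mk :
    (quotMap sq φ).comp (Ideal.Quotient.mk sq.I) = (Ideal.Quotient.mk (sq.I.map φ)).comp φ :=
  Ideal.quotientMap_comp_mk _

theorem specMap_quot_comm :
    Spec.map (CommRingCat.ofHom (quotMap sq φ)) ≫ Spec.map (CommRingCat.ofHom (Ideal.Quotient.mk sq.I)) =
      Spec.map (CommRingCat.ofHom (Ideal.Quotient.mk (sq.I.map φ))) ≫ Spec.map (CommRingCat.ofHom φ) := by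
  rw [← Spec.map_comp, ← Spec.map_comp, ← CommRingCat.ofHom_comp, ← CommRingCat.ofHom_comp, quotMap_comp_mk]

/-- The map `Spec (B ⧸ I B) ⟶ Spec (A ⧸ I)`. -/
noncomputable abbrev bcp : bcT sq φ ⟶ sq.ptT :=
  Over.homMk (Spec.map (CommRingCat.ofHom (quotMap sq φ))) (by
    change Spec.map _ ≫ Spec.map _ ≫ sq.str = Spec.map _ ≫ Spec.map _ ≫ sq.str
    rw [← Category.assoc, specMap_quot_comm, Category.assoc])

theorem bc_comm : bcj sq φ ≫ bcp' sq φ = bcp sq φ ≫ sq.j :=
  Over.OverMorphism.ext (specMap_quot_comm sq φ).symm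

/-- A lifting square over the ring `B`. -/
noncomputable def mkBC {F' G' : Sp S} (g : F' ⟶ G') (top : (yon S).obj (bcT sq φ) ⟶ F')
    (bot : (yon S).obj (bcT' sq φ) ⟶ G') (comm : top ≫ g = (yon S).map (bcj sq φ) ≫ bot) : InfSq g where
  A := B
  I := sq.I.map φ
  sq_zero := by rw [← Ideal.map_pow, sq.sq_zero, Ideal.map_bot]
  str := Spec.map (CommRingCat.ofHom φ) ≫ sq.str
  top := top
  bot := bot
  comm := comm

end BC

/-- Core step: two lifts for `b` agree after restriction to `Spec B` as soon as one of them lifts to `F` there. -/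
theorem cover_eq_of_comp_unramified {F G H : Sp S} (a : F ⟶ G) (b : G ⟶ H) (ha : RepWith @Etale a)
    (hab : IsFormallyUnramifiedMor (a ≫ b)) (sq : InfSq b) (l l' : (yon S).obj sq.ptT' ⟶ G)
    (h1 : (yon S).map sq.j ≫ l = sq.top) (h2 : l ≫ b = sq.bot)
    (h3 : (yon S).map sq.j ≫ l' = sq.top) (h4 : l' ≫ b = sq.bot)
    {B : Type u} [CommRing B] (φ : sq.A →+* B) (m : (yon S).obj (bcT' sq φ) ⟶ F)
    (hm : m ≫ a = (yon S).map (bcp' sq φ) ≫ l) :
    (yon S).map (bcp' sq φ) ≫ l = (yon S).map (bcp' sq φ) ≫ l' := by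
  have hae := isFormallyEtaleMor_of_repWith_etale a ha
  have hjj : ∀ k : (yon S).obj sq.ptT' ⟶ G, (yon S).map sq.j ≫ k = sq.top →
      (yon S).map (bcj sq φ) ≫ (yon S).map (bcp' sq φ) ≫ k = (yon S).map (bcp sq φ) ≫ sq.top := by
    intro k hk
    rw [← Category.assoc, ← Functor.map_comp, bc_comm, Functor.map_comp, Category.assoc, hk]
  obtain ⟨m', hm'1', hm'2'⟩ : ∃ m' : (yon S).obj (bcT' sq φ) ⟶ F,
      (yon S).map (bcj sq φ) ≫ m' = (yon S).map (bcj sq φ) ≫ m ∧ m' ≫ a = (yon S).map (bcp' sq φ) ≫ l' := by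
    obtain ⟨m', ⟨hm'1, hm'2⟩, -⟩ := hae (mkBC sq φ a ((yon S).map (bcj sq φ) ≫ m)
      ((yon S).map (bcp' sq φ) ≫ l') (by rw [Category.assoc, hm, hjj l h1, hjj l' h3]))
    exact ⟨m', hm'1, hm'2⟩
  have key : m = m' := by
    apply hab (mkBC sq φ (a ≫ b) ((yon S).map (bcj sq φ) ≫ m) ((yon S).map (bcp' sq φ) ≫ sq.bot)
      (by rw [Category.assoc, ← Category.assoc m, hm, Category.assoc, h2])) m m'
    · rfl
    · show m ≫ a ≫ b = (yon S).map (bcp' sq φ) ≫ sq.bot
      rw [← Category.assoc, hm, Category.assoc, h2]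
    · exact hm'1'
    · show m' ≫ a ≫ b = (yon S).map (bcp' sq φ) ≫ sq.bot
      rw [← Category.assoc, hm'2', Category.assoc, h4]
  rw [← hm, key, hm'2']

/-- Formal unramifiedness descends along a representable etale surjection on the source. -/
theorem isFormallyUnramifiedMor_of_comp {F G H : Sp S} (a : F ⟶ G) (b : G ⟶ H)
    (ha : RepWith @Etale a) (ha' : RepWith @Surjective a)
    (hab : IsFormallyUnramifiedMor (a ≫ b)) : IsFormallyUnramifiedMor b := by
  intro sq l l' h1 h2 h3 h4
  obtain ⟨W, snd, fst, hpb⟩ := ha.rep l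
  have hét : Etale snd.left := ha.property _ _ _ hpb
  have hsj : Surjective snd.left := ha'.property _ _ _ hpb
  let 𝒰 := W.left.affineOpenCover
  let γ : ∀ i : 𝒰.I₀, Spec (𝒰.X i) ⟶ Spec (CommRingCat.of sq.A) := fun i => 𝒰.f i ≫ snd.left
  let φ : ∀ i : 𝒰.I₀, sq.A →+* (𝒰.X i) := fun i => (Spec.preimage (γ i)).hom
  have hφ : ∀ i, Spec.map (CommRingCat.ofHom (φ i)) = 𝒰.f i ≫ snd.left := fun i => Spec.map_preimage (γ i)
  have hw : ∀ i, 𝒰.f i ≫ W.hom = (bcT' sq (φ i)).hom := by
    intro i
    show 𝒰.f i ≫ W.hom = Spec.map (CommRingCat.ofHom (φ i)) ≫ sq.str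
    rw [hφ i, Category.assoc, ← Over.w snd]
    rfl
  let uu : ∀ i, bcT' sq (φ i) ⟶ W := fun i => Over.homMk (𝒰.f i) (hw i)
  have huu : ∀ i, uu i ≫ snd = bcp' sq (φ i) := fun i => Over.OverMorphism.ext (hφ i).symm
  have key : ∀ i, (yon S).map (bcp' sq (φ i)) ≫ l = (yon S).map (bcp' sq (φ i)) ≫ l' := by
    intro i
    refine cover_eq_of_comp_unramified a b ha hab sq l l' h1 h2 h3 h4 (φ i) ((yon S).map (uu i) ≫ fst) ?_
    rw [Category.assoc, hpb.w, ← Category.assoc, ← Functor.map_comp, huu i]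
  have hEt : ∀ i, Etale (bcp' sq (φ i)).left := by
    intro i
    show Etale (Spec.map (CommRingCat.ofHom (φ i)))
    rw [hφ i]
    infer_instance
  refine yon_hom_ext_of_fppf_cover l l' (fun i => bcT' sq (φ i)) (fun i => bcp' sq (φ i))
    (fun i => by have := hEt i; infer_instance) (fun i => by have := hEt i; infer_instance) ?_ key
  intro x
  obtain ⟨w, rfl⟩ := hsj.surj x
  obtain ⟨y, hy⟩ := 𝒰.covers w
  refine ⟨𝒰.idx w, y, ?_⟩
  show (Spec.map (CommRingCat.ofHom (φ (𝒰.idx w)))) y = snd.left w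
  rw [hφ, Scheme.Hom.comp_apply, hy]

/-- For a morphism of schemes over `S`, formal unramifiedness of `h_g` in the lifting sense is Mathlib's
`FormallyUnramified` for the underlying morphism of schemes. -/
theorem isFormallyUnramifiedMor_yon_map_iff {U V : Over S} (h : U ⟶ V) :
    IsFormallyUnramifiedMor ((yon S).map h) ↔ FormallyUnramified h.left := by
  constructor
  · intro hu
    refine FormallyUnramified.of_hom_ext h.left fun R R' φ hφ hk g₁ g₂ e1 e2 => ?_
    have hstr : g₂ ≫ U.hom = g₁ ≫ U.hom := by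
      rw [← Over.w h, ← Category.assoc, ← e2, Category.assoc]
    have hφ' : Function.Surjective φ.hom := hφ
    have hmk : Spec.map (CommRingCat.ofHom (Ideal.Quotient.mk (RingHom.ker φ.hom))) =
        Spec.map (CommRingCat.ofHom (RingHom.quotientKerEquivOfSurjective hφ').symm.toRingHom) ≫ Spec.map φ := by
      rw [← Spec.map_comp]
      congr 1
      ext x
      exact (RingHom.quotientKerEquivOfSurjective_symm_apply hφ' x).symm
    let sq : InfSq ((yon S).map h) :=
      { A := R
        I := RingHom.ker φ.hom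
        sq_zero := hk
        str := g₁ ≫ U.hom
        top := (yon S).map (Over.homMk (Spec.map (CommRingCat.ofHom (Ideal.Quotient.mk (RingHom.ker φ.hom))) ≫ g₁)
          (Category.assoc _ _ _))
        bot := (yon S).map (Over.homMk (g₁ ≫ h.left) (by rw [Category.assoc, Over.w h]; rfl))
        comm := by
          rw [← Functor.map_comp, ← Functor.map_comp]
          congr 1 }
    have key := hu sq ((yon S).map (Over.homMk g₁ rfl)) ((yon S).map (Over.homMk g₂ hstr)) ?_ ?_ ?_ ?_
    · have := (yon S).map_injective key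
      exact congrArg CommaMorphism.left this
    · rw [← Functor.map_comp]
      congr 1
    · rw [← Functor.map_comp]
      congr 1
    · rw [← Functor.map_comp]
      congr 1
      apply Over.OverMorphism.ext
      show Spec.map _ ≫ g₂ = Spec.map _ ≫ g₁
      rw [hmk, Category.assoc, Category.assoc, e1]
    · rw [← Functor.map_comp]
      congr 1
      apply Over.OverMorphism.ext
      exact e2.symm
  · intro hu sq l l' h1 h2 h3 h4
    obtain ⟨k₁, rfl⟩ := (yon S).map_surjective l
    obtain ⟨k₂, rfl⟩ := (yon S).map_surjective l'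
    congr 1
    apply Over.OverMorphism.ext
    have hnil : IsNilpotent (Spec.map (CommRingCat.ofHom (Ideal.Quotient.mk sq.I))).ker := by
      refine Groth.Agent.Lib.Helper6.FormalEtaleLocal.isNilpotent_ker_SpecMap _ ?_
      have : RingHom.ker (CommRingCat.ofHom (Ideal.Quotient.mk sq.I)).hom = sq.I := Ideal.mk_ker
      rw [this, sq.sq_zero]
    have : IsClosedImmersion (Spec.map (CommRingCat.ofHom (Ideal.Quotient.mk sq.I))) :=
      IsClosedImmersion.spec_of_surjective _ Ideal.Quotient.mk_surjective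
    refine FormallyUnramified.hom_ext (Spec.map (CommRingCat.ofHom (Ideal.Quotient.mk sq.I))) hnil h.left ?_ ?_
    · have e := (yon S).map_injective (((yon S).map_comp sq.j k₁).trans (h1.trans h3.symm) |>.trans
        ((yon S).map_comp sq.j k₂).symm)
      exact congrArg CommaMorphism.left e
    · have e := (yon S).map_injective (((yon S).map_comp k₁ h).trans (h2.trans h4.symm) |>.trans
        ((yon S).map_comp k₂ h).symm)
      exact congrArg CommaMorphism.left e

/-- Transporting a first order thickening of affine schemes over `S` to the standard form `Spec (A ⧸ I) ⟶ Spec A`. -/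
theorem exists_infSq_data {V W : Over S} [IsAffine V.left] (i : W ⟶ V) [IsClosedImmersion i.left]
    (hker : i.left.ker * i.left.ker = ⊥) :
    ∃ (A : Type u) (_ : CommRing A) (I : Ideal A) (_ : I ^ 2 = ⊥) (str : Spec (CommRingCat.of A) ⟶ S)
      (e' : Over.mk str ≅ V)
      (ε' : Over.mk (Spec.map (CommRingCat.ofHom (Ideal.Quotient.mk I)) ≫ str) ≅ W),
      ε'.hom ≫ i = (Over.homMk (Spec.map (CommRingCat.ofHom (Ideal.Quotient.mk I))) rfl :
        Over.mk (Spec.map (CommRingCat.ofHom (Ideal.Quotient.mk I)) ≫ str) ⟶ Over.mk str) ≫ e'.hom := by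
  obtain ⟨hWaff, hsurj⟩ := IsClosedImmersion.isAffine_surjective_of_isAffine i.left
  have hsurj' : Function.Surjective (i.left.appTop).hom := hsurj
  have hk : RingHom.ker (i.left.appTop).hom ^ 2 = ⊥ := by
    have h0 := Scheme.Hom.ker_apply i.left ⟨⊤, isAffineOpen_top V.left⟩
    have h1 : (i.left.ker * i.left.ker).ideal ⟨⊤, isAffineOpen_top V.left⟩ =
        i.left.ker.ideal ⟨⊤, isAffineOpen_top V.left⟩ * i.left.ker.ideal ⟨⊤, isAffineOpen_top V.left⟩ := rfl
    rw [sq]
    change RingHom.ker (i.left.app ⊤).hom * RingHom.ker (i.left.app ⊤).hom = ⊥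
    rw [← h0, ← h1, hker]
    rfl
  let q := RingHom.quotientKerEquivOfSurjective hsurj'
  let εh : Spec (CommRingCat.of (Γ(V.left, ⊤) ⧸ RingHom.ker (i.left.appTop).hom)) ⟶ W.left :=
    Spec.map (CommRingCat.ofHom q.symm.toRingHom) ≫ W.left.isoSpec.inv
  have hεiso : IsIso εh := by
    have : IsIso (Spec.map (CommRingCat.ofHom q.symm.toRingHom)) := by
      rw [isIso_SpecMap_iff]
      exact q.symm.bijective
    infer_instance
  have hεi : εh ≫ i.left = Spec.map (CommRingCat.ofHom (Ideal.Quotient.mk (RingHom.ker (i.left.appTop).hom))) ≫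
      V.left.isoSpec.inv := by
    have hnat := Scheme.isoSpec_inv_naturality i.left
    simp only [εh, Category.assoc]
    rw [← hnat, ← Category.assoc, ← Spec.map_comp]
    congr 2
    ext x
    exact RingHom.quotientKerEquivOfSurjective_symm_apply hsurj' x
  refine ⟨Γ(V.left, ⊤), inferInstance, RingHom.ker (i.left.appTop).hom, hk, V.left.isoSpec.inv ≫ V.hom,
    Over.isoMk V.left.isoSpec.symm rfl, Over.isoMk (asIso εh) ?_, ?_⟩
  · show εh ≫ W.hom = Spec.map _ ≫ V.left.isoSpec.inv ≫ V.hom
    rw [← Over.w i, ← Category.assoc, hεi, Category.assoc]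
  · apply Over.OverMorphism.ext
    exact hεi

/-- A formally unramified morphism has at most one lift along a first order thickening of affine schemes over `S`
(not necessarily presented as `Spec (A ⧸ I) ⟶ Spec A`). -/
theorem eq_of_affine_thickening {F G : Sp S} (f : F ⟶ G) (hf : IsFormallyUnramifiedMor f)
    {V W : Over S} [IsAffine V.left] (i : W ⟶ V) [IsClosedImmersion i.left]
    (hker : i.left.ker * i.left.ker = ⊥) (m m' : (yon S).obj V ⟶ F)
    (h1 : (yon S).map i ≫ m = (yon S).map i ≫ m') (h2 : m ≫ f = m' ≫ f) : m = m' := by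
  obtain ⟨A, _, I, hI, str, e', ε', hcomm⟩ := exists_infSq_data i hker
  have hcomm' : (yon S).map ε'.hom ≫ (yon S).map i =
      (yon S).map (Over.homMk (Spec.map (CommRingCat.ofHom (Ideal.Quotient.mk I))) rfl :
        Over.mk (Spec.map (CommRingCat.ofHom (Ideal.Quotient.mk I)) ≫ str) ⟶ Over.mk str) ≫
        (yon S).map e'.hom := by
    rw [← Functor.map_comp, hcomm, Functor.map_comp]
  let sq : InfSq f :=
    { A := A
      I := I
      sq_zero := hI
      str := str
      top := (yon S).map ε'.hom ≫ (yon S).map i ≫ m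
      bot := (yon S).map e'.hom ≫ m ≫ f
      comm := by rw [Category.assoc, Category.assoc, reassoc_of% hcomm'] }
  have key : (yon S).map e'.hom ≫ m = (yon S).map e'.hom ≫ m' := by
    apply hf sq
    · show (yon S).map (Over.homMk _ rfl) ≫ (yon S).map e'.hom ≫ m = _
      rw [← reassoc_of% hcomm']
    · rw [Category.assoc]
    · show (yon S).map (Over.homMk _ rfl) ≫ (yon S).map e'.hom ≫ m' = (yon S).map ε'.hom ≫ (yon S).map i ≫ m
      rw [← reassoc_of% hcomm', h1]
    · show ((yon S).map e'.hom ≫ m') ≫ f = (yon S).map e'.hom ≫ m ≫ f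
      rw [Category.assoc, h2]
  exact (cancel_epi _).1 key

end Groth.Agent.Lib.Helper16.Formal
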