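import Mathlib
import Groth.Agent.Lib.Helper16.FormalA

/-!
# Helper library (helper16): infinitesimal lifting for morphisms of fppf sheaves, part B

* `exists_standardEtalePair_lift`: standard etale algebras lift along `A → A ⧸ I`.
* `exists_etale_lift_nbhd`: etale neighbourhoods over `Spec (A ⧸ I)` lift to etale neighbourhoods over `Spec A`.
-/

set_option autoImplicit false
universe u
open CategoryTheory CategoryTheory.Limits AlgebraicGeometry Opposite

namespace Groth.Agent.Lib.Helper16.Formal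

section Alg

open Polynomial

variable {A : Type u} [CommRing A] (I : Ideal A)

set_option maxHeartbeats 800000 in
/-- A standard etale algebra over `A ⧸ I` is the reduction of a standard etale algebra over `A`. -/
theorem exists_standardEtalePair_lift (L : Type u) [CommRing L] [Algebra (A ⧸ I) L]
    [Algebra.IsStandardEtale (A ⧸ I) L] :
    ∃ (P : StandardEtalePair A) (θ : L ≃+* P.Ring ⧸ I.map (algebraMap A P.Ring)),
      θ.toRingHom.comp (algebraMap (A ⧸ I) L) =
        Ideal.quotientMap (I.map (algebraMap A P.Ring)) (algebraMap A P.Ring) Ideal.le_comap_map := by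
  obtain ⟨Pres⟩ := Algebra.IsStandardEtale.nonempty_standardEtalePresentation (R := A ⧸ I) (S := L)
  obtain ⟨f, hf, -, hfm⟩ := Polynomial.lifts_and_natDegree_eq_and_monic
    (Polynomial.mem_lifts_of_surjective (Ideal.Quotient.mk_surjective (I := I)) Pres.f) Pres.monic_f
  obtain ⟨g, hg⟩ := (Polynomial.mem_lifts _).1
    (Polynomial.mem_lifts_of_surjective (Ideal.Quotient.mk_surjective (I := I)) Pres.g)
  let P : StandardEtalePair A := ⟨f, hfm, g * derivative f, ⟨g, 0, 1, by ring⟩⟩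
  have hf' : f.map (algebraMap A (A ⧸ I)) = Pres.f := hf
  have hg' : g.map (algebraMap A (A ⧸ I)) = Pres.g := hg
  let J : Ideal P.Ring := I.map (algebraMap A P.Ring)
  let φb : A ⧸ I →+* P.Ring ⧸ J := Ideal.quotientMap J (algebraMap A P.Ring) Ideal.le_comap_map
  letI algQ : Algebra (A ⧸ I) (P.Ring ⧸ J) := φb.toAlgebra
  haveI towQ : IsScalarTower A (A ⧸ I) (P.Ring ⧸ J) := IsScalarTower.of_algebraMap_eq' (by
    ext a
    show algebraMap A (P.Ring ⧸ J) a = φb (Ideal.Quotient.mk I a)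
    rw [Ideal.quotientMap_mk]
    rfl)
  letI algL : Algebra A L := ((algebraMap (A ⧸ I) L).comp (Ideal.Quotient.mk I)).toAlgebra
  haveI towL : IsScalarTower A (A ⧸ I) L := IsScalarTower.of_algebraMap_eq' rfl
  -- the class of `X` in the quotient
  let xb : P.Ring ⧸ J := Ideal.Quotient.mkₐ A J P.X
  have hxbf : aeval xb f = 0 := by
    rw [Polynomial.aeval_algHom_apply, show aeval P.X f = 0 from P.hasMap_X.1, map_zero]
  have hxbg : IsUnit (aeval xb g) := by
    rw [Polynomial.aeval_algHom_apply]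
    have h2 : IsUnit (aeval P.X (g * derivative f)) := P.hasMap_X.2
    rw [map_mul] at h2
    exact (isUnit_of_mul_isUnit_left h2).map _
  have hxb : Pres.P.HasMap xb := by
    refine ⟨?_, ?_⟩
    · show aeval xb Pres.f = 0
      rw [← hf', Polynomial.aeval_map_algebraMap]
      exact hxbf
    · show IsUnit (aeval xb Pres.g)
      rw [← hg', Polynomial.aeval_map_algebraMap]
      exact hxbg
  let θ' : L →ₐ[A ⧸ I] P.Ring ⧸ J := (Pres.P.lift xb hxb).comp Pres.equivRing.toAlgHom
  have hθ'x : θ' Pres.x = xb := by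
    show Pres.P.lift xb hxb (Pres.equivRing Pres.x) = xb
    rw [Pres.equivRing_x, StandardEtalePair.lift_X]
  -- the map back
  have hH : P.HasMap Pres.x := by
    refine ⟨?_, ?_⟩
    · show aeval Pres.x f = 0
      rw [← Polynomial.aeval_map_algebraMap (A ⧸ I), hf']
      exact Pres.hasMap.1
    · show IsUnit (aeval Pres.x (g * derivative f))
      rw [map_mul]
      refine IsUnit.mul ?_ ?_
      · rw [← Polynomial.aeval_map_algebraMap (A ⧸ I), hg']
        exact Pres.hasMap.2
      · rw [← Polynomial.aeval_map_algebraMap (A ⧸ I), ← Polynomial.derivative_map, hf']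
        exact Pres.hasMap.isUnit_derivative_f
  let π₁ : P.Ring →ₐ[A] L := P.lift Pres.x hH
  have hπ₁X : π₁ P.X = Pres.x := P.lift_X _ _
  have hJker : J ≤ RingHom.ker π₁.toRingHom := by
    rw [Ideal.map_le_iff_le_comap]
    intro a ha
    rw [Ideal.mem_comap, RingHom.mem_ker]
    show π₁ (algebraMap A P.Ring a) = 0
    rw [π₁.commutes]
    show algebraMap (A ⧸ I) L (Ideal.Quotient.mk I a) = 0
    rw [Ideal.Quotient.eq_zero_iff_mem.2 ha, map_zero]
  let ρ : P.Ring ⧸ J →+* L := Ideal.Quotient.lift J π₁.toRingHom (fun a ha => hJker ha)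
  have hρmk : ∀ y : P.Ring, ρ (Ideal.Quotient.mk J y) = π₁ y := fun y => Ideal.Quotient.lift_mk J _ _
  -- `ρ ∘ θ' = id`
  have h1 : ∀ y : L, ρ (θ' y) = y := by
    let ρθ : L →ₐ[A ⧸ I] L :=
      { toRingHom := ρ.comp θ'.toRingHom
        commutes' := by
          intro r
          obtain ⟨a, rfl⟩ := Ideal.Quotient.mk_surjective r
          show ρ (θ' (algebraMap (A ⧸ I) L (Ideal.Quotient.mk I a))) = algebraMap (A ⧸ I) L (Ideal.Quotient.mk I a)
          rw [θ'.commutes]
          show ρ (φb (Ideal.Quotient.mk I a)) = _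
          rw [Ideal.quotientMap_mk, hρmk, π₁.commutes]
          rfl }
    have : ρθ = AlgHom.id (A ⧸ I) L := Pres.hom_ext (by
      show ρ (θ' Pres.x) = Pres.x
      rw [hθ'x]
      show ρ (Ideal.Quotient.mk J P.X) = Pres.x
      rw [hρmk, hπ₁X])
    intro y
    exact congrArg (fun t => t y) this
  -- `θ' ∘ ρ = id`
  have h2 : ∀ z : P.Ring ⧸ J, θ' (ρ z) = z := by
    have : (θ'.restrictScalars A).comp π₁ = Ideal.Quotient.mkₐ A J := P.hom_ext (by
      show θ' (π₁ P.X) = xb
      rw [hπ₁X, hθ'x])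
    intro z
    obtain ⟨y, rfl⟩ := Ideal.Quotient.mk_surjective z
    rw [hρmk]
    exact congrArg (fun t => t y) this
  refine ⟨P, RingEquiv.ofRingHom θ'.toRingHom ρ (RingHom.ext h2) (RingHom.ext h1), ?_⟩
  ext r
  show θ' (algebraMap (A ⧸ I) L r) = _
  rw [θ'.commutes]
  rfl

end Alg

/-- Etale neighbourhoods over `Spec (A ⧸ I)` lift to etale neighbourhoods over `Spec A`. -/
theorem exists_etale_lift_nbhd {A : Type u} [CommRing A] (I : Ideal A) {W₀ : Scheme.{u}}
    (g : W₀ ⟶ Spec (CommRingCat.of (A ⧸ I))) [Etale g] (w₀ : W₀) :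
    ∃ (B : Type u) (_ : CommRing B) (φ : A →+* B) (σ : Spec (CommRingCat.of (B ⧸ I.map φ)) ⟶ W₀),
      Etale (Spec.map (CommRingCat.ofHom φ)) ∧ IsOpenImmersion σ ∧
      σ ≫ g = Spec.map (CommRingCat.ofHom (Ideal.quotientMap (I.map φ) φ Ideal.le_comap_map)) ∧
      w₀ ∈ Set.range σ := by
  obtain ⟨_, ⟨U, hU, rfl⟩, hwU, -⟩ :=
    W₀.isBasis_affineOpens.exists_subset_of_mem_open (Set.mem_univ w₀) isOpen_univ
  let ψc : CommRingCat.of (A ⧸ I) ⟶ Γ(W₀, U) := Spec.preimage (hU.fromSpec ≫ g)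
  have hψc : Spec.map ψc = hU.fromSpec ≫ g := Spec.map_preimage _
  have hψet : ψc.hom.Etale := by
    have : Etale (Spec.map ψc) := by rw [hψc]; infer_instance
    exact (HasRingHomProperty.Spec_iff (P := @Etale)).1 this
  letI : Algebra (A ⧸ I) Γ(W₀, U) := ψc.hom.toAlgebra
  haveI : Algebra.Etale (A ⧸ I) Γ(W₀, U) := hψet
  let Q₀ := hU.primeIdealOf ⟨w₀, hwU⟩
  have hQ₀ : hU.fromSpec Q₀ = w₀ := hU.fromSpec_primeIdealOf ⟨w₀, hwU⟩
  haveI : Algebra.IsEtaleAt (A ⧸ I) Q₀.asIdeal :=
    Algebra.FormallyEtale.comp (A ⧸ I) Γ(W₀, U) (Localization.AtPrime Q₀.asIdeal)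
  obtain ⟨h, hhQ, hstd⟩ := Algebra.IsEtaleAt.exists_isStandardEtale (R := A ⧸ I) Q₀.asIdeal
  obtain ⟨P, θ, hθ⟩ := exists_standardEtalePair_lift I (Localization.Away h)
  have hθiso : IsIso (Spec.map (CommRingCat.ofHom θ.toRingHom)) := by
    rw [isIso_SpecMap_iff]
    exact θ.bijective
  refine ⟨P.Ring, inferInstance, algebraMap A P.Ring,
    Spec.map (CommRingCat.ofHom θ.toRingHom) ≫
      Spec.map (CommRingCat.ofHom (algebraMap Γ(W₀, U) (Localization.Away h))) ≫ hU.fromSpec, ?_, ?_, ?_, ?_⟩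
  · exact (HasRingHomProperty.Spec_iff (P := @Etale)).2 (RingHom.etale_algebraMap.2 inferInstance)
  · infer_instance
  · rw [Category.assoc, Category.assoc, ← hψc, ← Spec.map_comp, ← Spec.map_comp]
    congr 1
    ext r
    show θ (algebraMap Γ(W₀, U) (Localization.Away h) (algebraMap (A ⧸ I) Γ(W₀, U) r)) = _
    rw [← IsScalarTower.algebraMap_apply]
    exact congrArg (fun t => t r) hθ
  · have hmem : Q₀ ∈ Set.range (PrimeSpectrum.comap (algebraMap Γ(W₀, U) (Localization.Away h))) := by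
      rw [PrimeSpectrum.localization_away_comap_range (Localization.Away h) h]
      exact hhQ
    obtain ⟨z₁, hz₁⟩ := hmem
    refine ⟨PrimeSpectrum.comap θ.symm.toRingHom z₁, ?_⟩
    rw [Scheme.Hom.comp_apply, Scheme.Hom.comp_apply]
    have e1 : (Spec.map (CommRingCat.ofHom θ.toRingHom)) (PrimeSpectrum.comap θ.symm.toRingHom z₁) = z₁ := by
      show PrimeSpectrum.comap θ.toRingHom (PrimeSpectrum.comap θ.symm.toRingHom z₁) = z₁
      rw [← PrimeSpectrum.comap_comp_apply]
      have : θ.symm.toRingHom.comp θ.toRingHom = RingHom.id _ := by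
        ext y
        simp
      rw [this]
      rfl
    rw [e1]
    show hU.fromSpec (PrimeSpectrum.comap (algebraMap Γ(W₀, U) (Localization.Away h)) z₁) = w₀
    rw [hz₁, hQ₀]

end Groth.Agent.Lib.Helper16.Formal
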