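import Mathlib
import Groth.Agent.Lib.Helper16.FormalB
import Groth.Agent.Lib.Helper16.ZarGlue

/-!
# Helper library (helper16): infinitesimal lifting for morphisms of fppf sheaves, part C

`isFormallyEtaleMor_of_comp`: formal etaleness descends along a representable etale surjection on the source.
-/

set_option autoImplicit false
universe u
open CategoryTheory CategoryTheory.Limits AlgebraicGeometry Opposite

namespace Groth.Agent.Lib.Helper16.Formal

open AlgSp Groth.Agent.Lib.Helper16 Groth.Agent.Lib.Helper26.AlgSpFormal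

variable {S : Scheme.{u}}

theorem specMap_ofHom_comp {R₁ R₂ R₃ : Type u} [CommRing R₁] [CommRing R₂] [CommRing R₃] (g : R₁ →+* R₂)
    (f : R₂ →+* R₃) :
    Spec.map (CommRingCat.ofHom f) ≫ Spec.map (CommRingCat.ofHom g) = Spec.map (CommRingCat.ofHom (f.comp g)) := by
  rw [← Spec.map_comp, ← CommRingCat.ofHom_comp]

theorem ringHom_eq_of_specMap_eq {R₁ R₂ : Type u} [CommRing R₁] [CommRing R₂] {f g : R₁ →+* R₂}
    (h : Spec.map (CommRingCat.ofHom f) = Spec.map (CommRingCat.ofHom g)) : f = g :=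
  congrArg CommRingCat.Hom.hom (Spec.map_injective h)

section Tower

variable {F G : Sp S} {f : F ⟶ G} (sq : InfSq f) {B C : Type u} [CommRing B] [CommRing C]
  (φ : sq.A →+* B) (φC : sq.A →+* C) (χ : B →+* C) (hχ : χ.comp φ = φC)

/-- `Spec C ⟶ Spec B` over `S`. -/
noncomputable def tw' : bcT' sq φC ⟶ bcT' sq φ :=
  Over.homMk (Spec.map (CommRingCat.ofHom χ)) (by
    show Spec.map _ ≫ Spec.map _ ≫ sq.str = Spec.map _ ≫ sq.str
    rw [← Category.assoc, specMap_ofHom_comp, hχ])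

theorem tw'_bcp' : tw' sq φ φC χ hχ ≫ bcp' sq φ = bcp' sq φC :=
  Over.OverMorphism.ext (by
    show Spec.map _ ≫ Spec.map _ = Spec.map _
    rw [specMap_ofHom_comp, hχ])

/-- The induced map `B ⧸ I B → C ⧸ I C`. -/
noncomputable def twQuot : B ⧸ sq.I.map φ →+* C ⧸ sq.I.map φC :=
  Ideal.quotientMap (sq.I.map φC) χ (by
    rw [← hχ, ← Ideal.map_map]
    exact Ideal.le_comap_map)

theorem twQuot_comp_mk :
    (twQuot sq φ φC χ hχ).comp (Ideal.Quotient.mk (sq.I.map φ)) = (Ideal.Quotient.mk (sq.I.map φC)).comp χ :=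
  Ideal.quotientMap_comp_mk _

theorem twQuot_comp_quotMap : (twQuot sq φ φC χ hχ).comp (quotMap sq φ) = quotMap sq φC := by
  apply Ideal.Quotient.ringHom_ext
  ext a
  show twQuot sq φ φC χ hχ (quotMap sq φ (Ideal.Quotient.mk sq.I a)) = quotMap sq φC (Ideal.Quotient.mk sq.I a)
  rw [quotMap, quotMap, Ideal.quotientMap_mk, Ideal.quotientMap_mk, twQuot, Ideal.quotientMap_mk, ← hχ]
  rfl

/-- `Spec (C ⧸ I C) ⟶ Spec (B ⧸ I B)` over `S`. -/
noncomputable def tw : bcT sq φC ⟶ bcT sq φ :=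
  Over.homMk (Spec.map (CommRingCat.ofHom (twQuot sq φ φC χ hχ))) (by
    show Spec.map _ ≫ Spec.map _ ≫ Spec.map _ ≫ sq.str = Spec.map _ ≫ Spec.map _ ≫ sq.str
    rw [← Category.assoc, specMap_ofHom_comp, twQuot_comp_mk, ← specMap_ofHom_comp, Category.assoc,
      ← Category.assoc (Spec.map (CommRingCat.ofHom χ)), specMap_ofHom_comp, hχ])

theorem tw_bcp : tw sq φ φC χ hχ ≫ bcp sq φ = bcp sq φC :=
  Over.OverMorphism.ext (by
    show Spec.map _ ≫ Spec.map _ = Spec.map _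
    rw [specMap_ofHom_comp, twQuot_comp_quotMap])

theorem tw_bcj : bcj sq φC ≫ tw' sq φ φC χ hχ = tw sq φ φC χ hχ ≫ bcj sq φ :=
  Over.OverMorphism.ext (by
    show Spec.map _ ≫ Spec.map _ = Spec.map _ ≫ Spec.map _
    rw [specMap_ofHom_comp, specMap_ofHom_comp, twQuot_comp_mk])

end Tower

/-- Two lifts of the base-changed square agree when the morphism is formally unramified. -/
theorem eq_of_lifts_bc {G H : Sp S} (b : G ⟶ H) (hb : IsFormallyUnramifiedMor b) (sq : InfSq b) {C : Type u}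
    [CommRing C] (φC : sq.A →+* C) (k₁ k₂ : (yon S).obj (bcT' sq φC) ⟶ G)
    (h1 : (yon S).map (bcj sq φC) ≫ k₁ = (yon S).map (bcp sq φC) ≫ sq.top)
    (h2 : k₁ ≫ b = (yon S).map (bcp' sq φC) ≫ sq.bot)
    (h3 : (yon S).map (bcj sq φC) ≫ k₂ = (yon S).map (bcp sq φC) ≫ sq.top)
    (h4 : k₂ ≫ b = (yon S).map (bcp' sq φC) ≫ sq.bot) : k₁ = k₂ :=
  hb (mkBC sq φC b ((yon S).map (bcp sq φC) ≫ sq.top) ((yon S).map (bcp' sq φC) ≫ sq.bot) (by
    rw [Category.assoc, sq.comm, ← Category.assoc, ← Functor.map_comp, ← bc_comm, Functor.map_comp,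
      Category.assoc])) k₁ k₂ h1 h2 h3 h4

/-- Restricting a local lift along `Spec C ⟶ Spec B`. -/
theorem restrict_lift_bc {F G H : Sp S} (a : F ⟶ G) (b : G ⟶ H) (sq : InfSq b) {B C : Type u} [CommRing B]
    [CommRing C] (φ : sq.A →+* B) (φC : sq.A →+* C) (χ : B →+* C) (hχ : χ.comp φ = φC)
    (m : (yon S).obj (bcT' sq φ) ⟶ F)
    (h1 : (yon S).map (bcj sq φ) ≫ m ≫ a = (yon S).map (bcp sq φ) ≫ sq.top)
    (h2 : m ≫ a ≫ b = (yon S).map (bcp' sq φ) ≫ sq.bot) :
    (yon S).map (bcj sq φC) ≫ ((yon S).map (tw' sq φ φC χ hχ) ≫ m ≫ a) = (yon S).map (bcp sq φC) ≫ sq.top ∧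
    ((yon S).map (tw' sq φ φC χ hχ) ≫ m ≫ a) ≫ b = (yon S).map (bcp' sq φC) ≫ sq.bot := by
  constructor
  · rw [← Category.assoc, ← Functor.map_comp, tw_bcj, Functor.map_comp, Category.assoc, h1, ← Category.assoc,
      ← Functor.map_comp, tw_bcp]
  · rw [Category.assoc, Category.assoc, h2, ← Category.assoc, ← Functor.map_comp, tw'_bcp']

/-- Local data: an etale neighbourhood of `Spec A` lifting an etale neighbourhood of `Spec (A ⧸ I)`. -/
structure LocData {G H : Sp S} {b : G ⟶ H} (sq : InfSq b) {W₀ : Over S} (snd₀ : W₀ ⟶ sq.ptT) where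
  B : Type u
  [inst : CommRing B]
  φ : sq.A →+* B
  σ : Spec (CommRingCat.of (B ⧸ sq.I.map φ)) ⟶ W₀.left
  etale : Etale (Spec.map (CommRingCat.ofHom φ))
  openImm : IsOpenImmersion σ
  comm : σ ≫ snd₀.left = Spec.map (CommRingCat.ofHom (quotMap sq φ))

attribute [instance] LocData.inst

set_option maxHeartbeats 1000000 in
/-- Formal etaleness descends along a representable etale surjection on the source. -/
theorem isFormallyEtaleMor_of_comp {F G H : Sp S} (a : F ⟶ G) (b : G ⟶ H)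
    (ha : RepWith @Etale a) (ha' : RepWith @Surjective a)
    (hab : IsFormallyEtaleMor (a ≫ b)) : IsFormallyEtaleMor b := by
  have hab' := (isFormallyEtaleMor_iff _).1 hab
  have hbu : IsFormallyUnramifiedMor b := isFormallyUnramifiedMor_of_comp a b ha ha' hab'.2
  rw [isFormallyEtaleMor_iff]
  refine ⟨fun sq => ?_, hbu⟩
  obtain ⟨W₀, snd₀, fst₀, hpb⟩ := ha.rep sq.top
  have hét : Etale snd₀.left := ha.property _ _ _ hpb
  have hsj : Surjective snd₀.left := ha'.property _ _ _ hpb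
  have hloc : ∀ w : W₀.left, ∃ D : LocData sq snd₀, w ∈ Set.range D.σ := by
    intro w
    obtain ⟨B, _, φ, σ, h1, h2, h3, h4⟩ := exists_etale_lift_nbhd sq.I snd₀.left w
    exact ⟨⟨B, φ, σ, h1, h2, h3⟩, h4⟩
  have hlift : ∀ D : LocData sq snd₀, ∃ m : (yon S).obj (bcT' sq D.φ) ⟶ F,
      (yon S).map (bcj sq D.φ) ≫ m ≫ a = (yon S).map (bcp sq D.φ) ≫ sq.top ∧
      m ≫ a ≫ b = (yon S).map (bcp' sq D.φ) ≫ sq.bot := by
    intro D
    have hsw : D.σ ≫ W₀.hom = (bcT sq D.φ).hom := by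
      show D.σ ≫ W₀.hom = Spec.map _ ≫ Spec.map _ ≫ sq.str
      rw [← Over.w snd₀, ← Category.assoc, D.comm]
      show Spec.map _ ≫ Spec.map _ ≫ sq.str = _
      rw [← Category.assoc, specMap_quot_comm, Category.assoc]
    let s : bcT sq D.φ ⟶ W₀ := Over.homMk D.σ hsw
    have hs : s ≫ snd₀ = bcp sq D.φ := Over.OverMorphism.ext D.comm
    have htopa : ((yon S).map s ≫ fst₀) ≫ a = (yon S).map (bcp sq D.φ) ≫ sq.top := by
      rw [Category.assoc, hpb.w, ← Category.assoc, ← Functor.map_comp, hs]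
    obtain ⟨m, hm1, hm2⟩ := hab'.1 (mkBC sq D.φ (a ≫ b) ((yon S).map s ≫ fst₀)
      ((yon S).map (bcp' sq D.φ) ≫ sq.bot) (by
        rw [← Category.assoc, htopa, Category.assoc, sq.comm, ← Category.assoc, ← Functor.map_comp, ← bc_comm,
          Functor.map_comp, Category.assoc]))
    have hm1' : (yon S).map (bcj sq D.φ) ≫ m = (yon S).map s ≫ fst₀ := hm1
    have hm2' : m ≫ a ≫ b = (yon S).map (bcp' sq D.φ) ≫ sq.bot := hm2
    exact ⟨m, by rw [← Category.assoc, hm1', htopa], hm2'⟩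
  choose D hD using hloc
  choose m hm1 hm2 using fun w => hlift (D w)
  have hEt : ∀ w, Etale (bcp' sq (D w).φ).left := fun w => (D w).etale
  have hsurj' : ∀ x : sq.ptT'.left, ∃ w, x ∈ Set.range (bcp' sq (D w).φ).left := by
    intro x
    obtain ⟨t, rfl⟩ := Groth.Agent.Lib.Helper6.FormalEtaleLocal.surjective_SpecMap_mk sq.I sq.sq_zero x
    obtain ⟨w, rfl⟩ := hsj.surj t
    obtain ⟨z, hz⟩ := hD w
    have e : snd₀.left w = (Spec.map (CommRingCat.ofHom (quotMap sq (D w).φ))) z := by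
      rw [← (D w).comm, Scheme.Hom.comp_apply, hz]
    refine ⟨w, (Spec.map (CommRingCat.ofHom (Ideal.Quotient.mk (sq.I.map (D w).φ)))) z, ?_⟩
    show (Spec.map (CommRingCat.ofHom (D w).φ)) _ = (Spec.map (CommRingCat.ofHom (Ideal.Quotient.mk sq.I))) _
    rw [e, ← Scheme.Hom.comp_apply, ← Scheme.Hom.comp_apply, specMap_quot_comm]
  have hcompat : ∀ (w w' : W₀.left) (Z : Over S) (gi : Z ⟶ bcT' sq (D w).φ) (gj : Z ⟶ bcT' sq (D w').φ),
      gi ≫ bcp' sq (D w).φ = gj ≫ bcp' sq (D w').φ →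
      (yon S).map gi ≫ m w ≫ a = (yon S).map gj ≫ m w' ≫ a := by
    intro w w' Z gi gj hg
    let 𝒱 := Z.left.affineOpenCover
    let χ : ∀ k : 𝒱.I₀, (D w).B →+* (𝒱.X k) := fun k =>
      (Spec.preimage (show Spec (𝒱.X k) ⟶ Spec (CommRingCat.of (D w).B) from 𝒱.f k ≫ gi.left)).hom
    let χ' : ∀ k : 𝒱.I₀, (D w').B →+* (𝒱.X k) := fun k =>
      (Spec.preimage (show Spec (𝒱.X k) ⟶ Spec (CommRingCat.of (D w').B) from 𝒱.f k ≫ gj.left)).hom
    have hχm : ∀ k, Spec.map (CommRingCat.ofHom (χ k)) = 𝒱.f k ≫ gi.left := fun k => Spec.map_preimage _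
    have hχ'm : ∀ k, Spec.map (CommRingCat.ofHom (χ' k)) = 𝒱.f k ≫ gj.left := fun k => Spec.map_preimage _
    have hχ' : ∀ k, (χ' k).comp (D w').φ = (χ k).comp (D w).φ := by
      intro k
      apply ringHom_eq_of_specMap_eq
      rw [← specMap_ofHom_comp, ← specMap_ofHom_comp, hχm, hχ'm, Category.assoc, Category.assoc]
      congr 1
      exact (congrArg CommaMorphism.left hg).symm
    have hstruct : ∀ k, 𝒱.f k ≫ Z.hom = (bcT' sq ((χ k).comp (D w).φ)).hom := by
      intro k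
      show 𝒱.f k ≫ Z.hom = Spec.map _ ≫ sq.str
      rw [← Over.w gi, ← Category.assoc, ← hχm, ← specMap_ofHom_comp, Category.assoc]
      rfl
    refine yon_hom_ext_of_open_cover _ _ (fun k => bcT' sq ((χ k).comp (D w).φ))
      (fun k => Over.homMk (𝒱.f k) (hstruct k)) (fun k => by show IsOpenImmersion (𝒱.f k); infer_instance)
      (fun x => ⟨𝒱.idx x, 𝒱.covers x⟩) (fun k => ?_)
    have e1 : (Over.homMk (𝒱.f k) (hstruct k) : bcT' sq ((χ k).comp (D w).φ) ⟶ Z) ≫ gi =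
        tw' sq (D w).φ ((χ k).comp (D w).φ) (χ k) rfl := Over.OverMorphism.ext (hχm k).symm
    have e2 : (Over.homMk (𝒱.f k) (hstruct k) : bcT' sq ((χ k).comp (D w).φ) ⟶ Z) ≫ gj =
        tw' sq (D w').φ ((χ k).comp (D w).φ) (χ' k) (hχ' k) := Over.OverMorphism.ext (hχ'm k).symm
    have r1 := restrict_lift_bc a b sq (D w).φ ((χ k).comp (D w).φ) (χ k) rfl (m w) (hm1 w) (hm2 w)
    have r2 := restrict_lift_bc a b sq (D w').φ ((χ k).comp (D w).φ) (χ' k) (hχ' k) (m w') (hm1 w') (hm2 w')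
    calc (yon S).map (Over.homMk (𝒱.f k) (hstruct k)) ≫ (yon S).map gi ≫ m w ≫ a
        = (yon S).map (tw' sq (D w).φ ((χ k).comp (D w).φ) (χ k) rfl) ≫ m w ≫ a := by
          rw [← e1, Functor.map_comp, Category.assoc]
      _ = (yon S).map (tw' sq (D w').φ ((χ k).comp (D w).φ) (χ' k) (hχ' k)) ≫ m w' ≫ a :=
          eq_of_lifts_bc b hbu sq ((χ k).comp (D w).φ) _ _ r1.1 r1.2 r2.1 r2.2
      _ = (yon S).map (Over.homMk (𝒱.f k) (hstruct k)) ≫ (yon S).map gj ≫ m w' ≫ a := by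
          rw [← e2, Functor.map_comp, Category.assoc]
  obtain ⟨ℓ, hℓ, -⟩ := existsUnique_glue_of_fppf_compat (fun w => bcT' sq (D w).φ) (fun w => bcp' sq (D w).φ)
    (fun w => by have := hEt w; infer_instance) (fun w => by have := hEt w; infer_instance) hsurj'
    (fun w => m w ≫ a) hcompat
  refine ⟨ℓ, ?_, ?_⟩
  · have hEt2 : ∀ w, Etale (bcp sq (D w).φ).left := by
      intro w
      show Etale (Spec.map (CommRingCat.ofHom (quotMap sq (D w).φ)))
      rw [← (D w).comm]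
      have := (D w).openImm
      infer_instance
    refine yon_hom_ext_of_fppf_cover _ _ (fun w => bcT sq (D w).φ) (fun w => bcp sq (D w).φ)
      (fun w => by have := hEt2 w; infer_instance) (fun w => by have := hEt2 w; infer_instance) ?_ ?_
    · intro t
      obtain ⟨w, rfl⟩ := hsj.surj t
      obtain ⟨z, hz⟩ := hD w
      refine ⟨w, z, ?_⟩
      show (Spec.map (CommRingCat.ofHom (quotMap sq (D w).φ))) z = snd₀.left w
      rw [← (D w).comm, Scheme.Hom.comp_apply, hz]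
    · intro w
      rw [← Category.assoc, ← Functor.map_comp, ← bc_comm, Functor.map_comp, Category.assoc, hℓ w]
      exact hm1 w
  · refine yon_hom_ext_of_fppf_cover _ _ (fun w => bcT' sq (D w).φ) (fun w => bcp' sq (D w).φ)
      (fun w => by have := hEt w; infer_instance) (fun w => by have := hEt w; infer_instance) hsurj' ?_
    intro w
    rw [← Category.assoc, hℓ w, Category.assoc]
    exact hm2 w

end Groth.Agent.Lib.Helper16.Formal
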