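import Mathlib
import Groth.Agent.Lib.Helper16.FormalC
import Groth.Agent.Lib.Helper16.ChartDiagram

/-!
# Helper library (helper16): infinitesimal lifting for morphisms of fppf sheaves, part D

* `isFormallyEtaleMor_yon_map_iff`: comparison with the scheme-level lifting property.
* `isFormallyEtaleMor_of_isEtaleMor`: etale morphisms of algebraic spaces are formally etale.
-/

set_option autoImplicit false
universe u
open CategoryTheory CategoryTheory.Limits AlgebraicGeometry Opposite

namespace Groth.Agent.Lib.Helper16.Formal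

open AlgSp Groth.Agent.Lib.Helper16 Groth.Agent.Lib.Helper26.AlgSpFormal

variable {S : Scheme.{u}}

/-- For a morphism of schemes over `S`, formal etaleness of `h_g` in the lifting sense is the scheme-level lifting
property of the underlying morphism of schemes. -/
theorem isFormallyEtaleMor_yon_map_iff {U V : Over S} (h : U ⟶ V) :
    IsFormallyEtaleMor ((yon S).map h) ↔ MoreMor.IsFormallyEtaleHom h.left := by
  constructor
  · intro hu A _ I hI a₀ b₀ hcomm
    have hw : a₀ ≫ U.hom = Spec.map (CommRingCat.ofHom (Ideal.Quotient.mk I)) ≫ b₀ ≫ V.hom := by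
      rw [← Over.w h, ← Category.assoc, ← hcomm, Category.assoc]
    let sq : InfSq ((yon S).map h) :=
      { A := A
        I := I
        sq_zero := hI
        str := b₀ ≫ V.hom
        top := (yon S).map (Over.homMk a₀ hw :
          Over.mk (Spec.map (CommRingCat.ofHom (Ideal.Quotient.mk I)) ≫ b₀ ≫ V.hom) ⟶ U)
        bot := (yon S).map (Over.homMk b₀ rfl : Over.mk (b₀ ≫ V.hom) ⟶ V)
        comm := by
          rw [← Functor.map_comp, ← Functor.map_comp]
          congr 1
          exact Over.OverMorphism.ext hcomm.symm }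
    obtain ⟨L, ⟨hL1, hL2⟩, hLu⟩ := hu sq
    obtain ⟨k, rfl⟩ := (yon S).map_surjective L
    have hk1 : sq.j ≫ k = Over.homMk a₀ hw := (yon S).map_injective (by rw [Functor.map_comp]; exact hL1)
    have hk2 : k ≫ h = Over.homMk b₀ rfl := (yon S).map_injective (by rw [Functor.map_comp]; exact hL2)
    refine ⟨k.left, ⟨congrArg CommaMorphism.left hk1, congrArg CommaMorphism.left hk2⟩, ?_⟩
    rintro l' ⟨hl1, hl2⟩
    have hl'w : l' ≫ U.hom = b₀ ≫ V.hom := by rw [← Over.w h, ← Category.assoc, hl2]
    have hl'1 : sq.j ≫ (Over.homMk l' hl'w : sq.ptT' ⟶ U) = Over.homMk a₀ hw := Over.OverMorphism.ext hl1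
    have hl'2 : (Over.homMk l' hl'w : sq.ptT' ⟶ U) ≫ h = Over.homMk b₀ rfl := Over.OverMorphism.ext hl2
    have := hLu ((yon S).map (Over.homMk l' hl'w : sq.ptT' ⟶ U)) ⟨by
      show (yon S).map sq.j ≫ (yon S).map _ = (yon S).map _
      rw [← Functor.map_comp, hl'1], by
      show (yon S).map _ ≫ (yon S).map h = (yon S).map _
      rw [← Functor.map_comp, hl'2]⟩
    exact congrArg CommaMorphism.left ((yon S).map_injective this)
  · intro hu sq
    obtain ⟨t, ht⟩ := (yon S).map_surjective sq.top
    obtain ⟨β, hβ⟩ := (yon S).map_surjective sq.bot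
    have hcomm : Spec.map (CommRingCat.ofHom (Ideal.Quotient.mk sq.I)) ≫ β.left = t.left ≫ h.left := by
      have := sq.comm
      rw [← ht, ← hβ, ← Functor.map_comp, ← Functor.map_comp] at this
      exact (congrArg CommaMorphism.left ((yon S).map_injective this)).symm
    obtain ⟨l, ⟨hl1, hl2⟩, hlu⟩ := hu sq.A sq.I sq.sq_zero t.left β.left hcomm
    have hlw : l ≫ U.hom = sq.ptT'.hom := by
      rw [← Over.w h, ← Category.assoc, hl2]
      exact Over.w β
    have e1 : sq.j ≫ (Over.homMk l hlw : sq.ptT' ⟶ U) = t := Over.OverMorphism.ext hl1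
    have e2 : (Over.homMk l hlw : sq.ptT' ⟶ U) ≫ h = β := Over.OverMorphism.ext hl2
    refine ⟨(yon S).map (Over.homMk l hlw), ⟨?_, ?_⟩, ?_⟩
    · rw [← Functor.map_comp, e1, ht]
    · rw [← Functor.map_comp, e2, hβ]
    · rintro L' ⟨hL1, hL2⟩
      obtain ⟨k, rfl⟩ := (yon S).map_surjective L'
      congr 1
      apply Over.OverMorphism.ext
      apply hlu
      refine ⟨?_, ?_⟩
      · rw [← ht, ← Functor.map_comp] at hL1
        exact congrArg CommaMorphism.left ((yon S).map_injective hL1)
      · rw [← hβ, ← Functor.map_comp] at hL2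
        exact congrArg CommaMorphism.left ((yon S).map_injective hL2)

/-- An etale morphism out of an algebraic space is formally etale. -/
theorem isFormallyEtaleMor_of_isEtaleMor {X Y : Sp S} (hX : IsAlgSpace X) (f : X ⟶ Y) (hf : IsEtaleMor f) :
    IsFormallyEtaleMor f := by
  obtain ⟨U₀, a₀, hae, has⟩ := hX.atlas
  exact isFormallyEtaleMor_of_comp a₀ f hae has (isFormallyEtaleMor_of_repWith_etale _ (hf a₀ hae))

end Groth.Agent.Lib.Helper16.Formal
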