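import Groth.Agent.Lib.Helper16.ZarGlue
import Groth.Agent.Lib.Helper16.AffDescEtale
import Mathlib.AlgebraicGeometry.RelativeGluing

/-!
# Helper library (helper16): Zariski gluing of representability for sheaves over a scheme
-/

set_option autoImplicit false
universe u w
open CategoryTheory CategoryTheory.Limits AlgebraicGeometry Opposite

namespace Groth.Agent.Lib.Helper16

open AlgSp

variable {S : Scheme.{u}}

section
variable (U : Over S)

/-- The affine opens of `U`, over `S`. -/
noncomputable abbrev affOv (O : U.left.directedAffineCover.I₀) : Over S :=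
  Over.mk (U.left.directedAffineCover.f O ≫ U.hom)

/-- The inclusion of an affine open, over `S`. -/
noncomputable abbrev affOvι (O : U.left.directedAffineCover.I₀) : affOv U O ⟶ U :=
  Over.homMk (U.left.directedAffineCover.f O) rfl

/-- The inclusion of affine opens, over `S`. -/
noncomputable def affIncl {O O' : U.left.directedAffineCover.I₀} (f : O ⟶ O') : affOv U O ⟶ affOv U O' :=
  Over.homMk (U.left.directedAffineCover.trans f) (by
    simp only [affOv, Over.mk_hom]
    rw [← Category.assoc, U.left.directedAffineCover.trans_map])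

@[simp] theorem affIncl_left {O O' : U.left.directedAffineCover.I₀} (f : O ⟶ O') :
    (affIncl U f).left = U.left.directedAffineCover.trans f := rfl

theorem affIncl_ι {O O' : U.left.directedAffineCover.I₀} (f : O ⟶ O') :
    affIncl U f ≫ affOvι U O' = affOvι U O := by
  ext1
  exact U.left.directedAffineCover.trans_map f

end

/-- The relative gluing datum attached to schemes `V O` over the affine opens `O` of `U` with compatible transition
maps. -/
noncomputable def zarGlueData (U : Over S) (V : U.left.directedAffineCover.I₀ → Over S)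
    (i : ∀ O, V O ⟶ affOv U O) (j : ∀ {O O' : U.left.directedAffineCover.I₀}, (O ⟶ O') → (V O ⟶ V O'))
    (hjid : ∀ O, j (𝟙 O) = 𝟙 (V O))
    (hjcomp : ∀ {O O' O'' : U.left.directedAffineCover.I₀} (f : O ⟶ O') (g : O' ⟶ O''), j (f ≫ g) = j f ≫ j g)
    (hji : ∀ {O O' : U.left.directedAffineCover.I₀} (f : O ⟶ O'), j f ≫ i O' = i O ≫ affIncl U f)
    (heq : ∀ {O O' : U.left.directedAffineCover.I₀} (f : O ⟶ O'),
      IsPullback (j f).left (i O).left (i O').left (U.left.directedAffineCover.trans f)) :
    Scheme.Cover.RelativeGluingData U.left.directedAffineCover where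
  functor :=
    { obj := fun O => (V O).left
      map := fun f => (j f).left
      map_id := fun O => by rw [hjid]; rfl
      map_comp := fun f g => by rw [hjcomp]; rfl }
  natTrans :=
    { app := fun O => (i O).left
      naturality := fun O O' f => by
        have := congrArg CommaMorphism.left (hji f)
        exact this }
  equifibered := fun O O' f => heq f

/-- **Zariski gluing of representability**: a sheaf `T` over a scheme `U` whose restrictions to all affine opens of
`U` are representable is representable. -/
theorem exists_rep_of_zariski_local {U : Over S} {T : Sp S} (hT : IsAlgSpace T) (t : T ⟶ (yon S).obj U)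
    (V : U.left.directedAffineCover.I₀ → Over S) (i : ∀ O, V O ⟶ affOv U O)
    (a : ∀ O, (yon S).obj (V O) ⟶ T)
    (sq : ∀ O, IsPullback (a O) ((yon S).map (i O)) t ((yon S).map (affOvι U O))) :
    ∃ (V' : Over S) (p : V' ⟶ U) (e : (yon S).obj V' ≅ T), e.hom ≫ t = (yon S).map p := by
  -- transition maps
  have hcomp : ∀ {O O' : U.left.directedAffineCover.I₀} (f : O ⟶ O'),
      a O ≫ t = (yon S).map (i O ≫ affIncl U f) ≫ (yon S).map (affOvι U O') := fun {O O'} f => by
    rw [← Functor.map_comp, Category.assoc, affIncl_ι, (sq O).w, Functor.map_comp]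
  have hj : ∀ {O O' : U.left.directedAffineCover.I₀} (f : O ⟶ O'), ∃ j : V O ⟶ V O',
      (yon S).map j ≫ a O' = a O ∧ j ≫ i O' = i O ≫ affIncl U f := fun {O O'} f => by
    obtain ⟨j, hj⟩ := (yon S).map_surjective ((sq O').lift (a O) ((yon S).map (i O ≫ affIncl U f)) (hcomp f))
    refine ⟨j, by rw [hj, (sq O').lift_fst], ?_⟩
    apply (yon S).map_injective
    rw [Functor.map_comp, hj, (sq O').lift_snd]
  choose j hja hji using @hj
  have hjext : ∀ {O O' : U.left.directedAffineCover.I₀} (f : O ⟶ O') (k : V O ⟶ V O'),
      (yon S).map k ≫ a O' = a O → k ≫ i O' = i O ≫ affIncl U f → k = j f := fun {O O'} f k h1 h2 => by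
    apply (yon S).map_injective
    apply (sq O').hom_ext
    · rw [h1, hja]
    · rw [← Functor.map_comp, ← Functor.map_comp, h2, hji]
  have hjid : ∀ O, j (𝟙 O) = 𝟙 (V O) := fun O => by
    symm
    apply hjext
    · erw [(yon S).map_id]; rw [Category.id_comp]
    · rw [Category.id_comp]
      have : affIncl U (𝟙 O) = 𝟙 _ := by
        ext1
        exact U.left.directedAffineCover.trans_id O
      rw [this, Category.comp_id]
  have hjcomp : ∀ {O O' O'' : U.left.directedAffineCover.I₀} (f : O ⟶ O') (g : O' ⟶ O''),
      j (f ≫ g) = j f ≫ j g := fun {O O' O''} f g => by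
    symm
    apply hjext
    · rw [Functor.map_comp, Category.assoc, hja, hja]
    · rw [Category.assoc, hji, ← Category.assoc, hji, Category.assoc]
      congr 1
      ext1
      exact (U.left.directedAffineCover.trans_comp f g).symm
  -- the relative gluing datum
  have heq : ∀ {O O' : U.left.directedAffineCover.I₀} (f : O ⟶ O'),
      IsPullback (j f).left (i O).left (i O').left (U.left.directedAffineCover.trans f) := fun {O O'} f => by
    have h1 : IsPullback ((yon S).map (j f)) ((yon S).map (i O)) ((yon S).map (i O'))
        ((yon S).map (affIncl U f)) := by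
      refine IsPullback.of_right ?_ ?_ (sq O')
      · rw [hja, ← Functor.map_comp, affIncl_ι]
        exact sq O
      · rw [← Functor.map_comp, ← Functor.map_comp, hji]
    exact isPullback_left_of_yon h1
  let D := zarGlueData U V i j hjid hjcomp hji heq
  -- the glued scheme over `S`
  let V' : Over S := Over.mk (D.toBase ≫ U.hom)
  let p : V' ⟶ U := Over.homMk D.toBase rfl
  have hιw : ∀ O, colimit.ι D.functor O ≫ V'.hom = (V O).hom := fun O => by
    show colimit.ι D.functor O ≫ D.toBase ≫ U.hom = (V O).hom
    rw [← Category.assoc, Scheme.Cover.RelativeGluingData.ι_toBase]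
    show ((i O).left ≫ U.left.directedAffineCover.f O) ≫ U.hom = (V O).hom
    rw [Category.assoc]
    exact Over.w (i O)
  let ιV : ∀ O, V O ⟶ V' := fun O => Over.homMk (colimit.ι D.functor O) (hιw O)
  have hιp : ∀ O, ιV O ≫ p = i O ≫ affOvι U O := fun O => by
    ext1
    exact Scheme.Cover.RelativeGluingData.ι_toBase D O
  have hιopen : ∀ O, IsOpenImmersion (ιV O).left := fun O => by
    exact D.cover.map_prop O
  have hιsurj : ∀ x : V'.left, ∃ O, x ∈ Set.range (ιV O).left := fun x => by
    obtain ⟨O, y, hy⟩ := D.cover.exists_eq x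
    exact ⟨O, y, hy⟩
  have hjι : ∀ {O O' : U.left.directedAffineCover.I₀} (h : O ≤ O'), j (homOfLE h) ≫ ιV O' = ιV O :=
    fun {O O'} h => by
      ext1
      exact colimit.w D.functor (homOfLE h)
  obtain ⟨σ, hσ, -⟩ := existsUnique_glue_of_locallyDirected (F := T) (I := U.left.directedAffineCover.I₀)
    V ιV hιopen hιsurj (fun h => j (homOfLE h)) hjι
    (fun O O' x x' hxx' => by
      obtain ⟨O'', f, f', y, hy, hy'⟩ := D.cover.exists_of_f_eq_f (i := O) (j := O') x x' hxx'
      exact ⟨O'', leOfHom f, leOfHom f', y, hy, hy'⟩)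
    a (fun h => hja (homOfLE h))
  have hσt : σ ≫ t = (yon S).map p := by
    refine yon_hom_ext_of_open_cover _ _ V ιV hιopen hιsurj (fun O => ?_)
    rw [← Category.assoc, hσ, (sq O).w, ← Functor.map_comp, ← Functor.map_comp, hιp]
  -- `σ` is an isomorphism
  have href : FpqcRefines (fun O => (yon S).obj (V O)) a := by
    refine fpqcRefines_of_isPullback t (fun O : U.left.directedAffineCover.I₀ => (yon S).obj (affOv U O))
      (fun O => (yon S).map (affOvι U O)) _ a (fun O => (yon S).map (i O)) sq ?_
    exact fpqcRefines_of_open_cover U (fun O : U.left.directedAffineCover.I₀ => O.1) (fun x => by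
      obtain ⟨W, hW, hx, -⟩ := (TopologicalSpace.Opens.isBasis_iff_nbhd.mp U.left.isBasis_affineOpens)
        (show x ∈ (⊤ : U.left.Opens) from trivial)
      exact ⟨⟨W, hW⟩, hx⟩)
  have sqσ : ∀ O, IsPullback ((yon S).map (ιV O)) (𝟙 _) σ (a O) := fun O => by
    refine (IsPullback.of_right ?_ (by rw [Category.id_comp, hσ]) (sq O).flip).flip
    rw [Category.id_comp, hσt]
    have h1 : IsPullback (i O) (ιV O) (affOvι U O) p :=
      IsPullback.of_map (Over.forget S) (hιp O).symm
        (Scheme.Cover.RelativeGluingData.isPullback_natTrans_ι_toBase D O)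
    exact h1.map (yon S)
  have hiso : IsIso σ := isIso_of_fpqcRefines hT _ (fun _ => IsAlgSpace.yon_obj _) a href (IsAlgSpace.yon_obj V') σ
    (fun O => (yon S).obj (V O)) (fun _ => IsAlgSpace.yon_obj _) (fun _ => 𝟙 _) (fun O => (yon S).map (ιV O)) sqσ
    (fun _ => inferInstance)
  exact ⟨V', p, asIso σ, hσt⟩

end Groth.Agent.Lib.Helper16
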