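import Mathlib
import Groth.Agent.Lib.Helper16.FormalD
import Groth.Agent.Lib.Helper16.ZarRep
import Groth.Agent.Lib.Helper5.SheafGrpQuot

/-!
# Helper library (helper16): infinitesimal lifting for morphisms of fppf sheaves, part E

Lifting along first order thickenings of algebraic spaces: `eq_of_FOThick` (uniqueness, formally unramified) and
`exists_lift_of_FOThick` (existence, formally etale).
-/

set_option autoImplicit false
universe u
open CategoryTheory CategoryTheory.Limits AlgebraicGeometry Opposite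

namespace Groth.Agent.Lib.Helper16.Formal

open AlgSp Groth.Agent.Lib.Helper16 Groth.Agent.Lib.Helper26.AlgSpFormal

variable {S : Scheme.{u}}

/-- A formally smooth morphism has lifts along first order thickenings of affine schemes over `S`. -/
theorem exists_lift_of_affine_thickening {F G : Sp S} (f : F ⟶ G) (hf : IsFormallySmoothMor f)
    {V W : Over S} [IsAffine V.left] (i : W ⟶ V) [IsClosedImmersion i.left]
    (hker : i.left.ker * i.left.ker = ⊥) (top₀ : (yon S).obj W ⟶ F) (bot₀ : (yon S).obj V ⟶ G)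
    (hcomm : top₀ ≫ f = (yon S).map i ≫ bot₀) :
    ∃ L : (yon S).obj V ⟶ F, (yon S).map i ≫ L = top₀ ∧ L ≫ f = bot₀ := by
  obtain ⟨A, _, I, hI, str, e', ε', hc⟩ := exists_infSq_data i hker
  have hc' : (yon S).map ε'.hom ≫ (yon S).map i =
      (yon S).map (Over.homMk (Spec.map (CommRingCat.ofHom (Ideal.Quotient.mk I))) rfl :
        Over.mk (Spec.map (CommRingCat.ofHom (Ideal.Quotient.mk I)) ≫ str) ⟶ Over.mk str) ≫
        (yon S).map e'.hom := by
    rw [← Functor.map_comp, hc, Functor.map_comp]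
  let sq : InfSq f :=
    { A := A
      I := I
      sq_zero := hI
      str := str
      top := (yon S).map ε'.hom ≫ top₀
      bot := (yon S).map e'.hom ≫ bot₀
      comm := by rw [Category.assoc, hcomm, ← Category.assoc, hc', Category.assoc] }
  obtain ⟨L₀, hL1, hL2⟩ := hf sq
  have hL1' : (yon S).map (Over.homMk (Spec.map (CommRingCat.ofHom (Ideal.Quotient.mk I))) rfl :
        Over.mk (Spec.map (CommRingCat.ofHom (Ideal.Quotient.mk I)) ≫ str) ⟶ Over.mk str) ≫ L₀ =
      (yon S).map ε'.hom ≫ top₀ := hL1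
  have hL2' : L₀ ≫ f = (yon S).map e'.hom ≫ bot₀ := hL2
  refine ⟨(yon S).map e'.inv ≫ L₀, ?_, ?_⟩
  · apply (cancel_epi ((yon S).map ε'.hom)).1
    rw [← hL1', ← Category.assoc, hc', Category.assoc, ← Category.assoc ((yon S).map e'.hom),
      ← Functor.map_comp, e'.hom_inv_id, CategoryTheory.Functor.map_id, Category.id_comp]
  · rw [Category.assoc, hL2', ← Category.assoc, ← Functor.map_comp, e'.inv_hom_id,
      CategoryTheory.Functor.map_id, Category.id_comp]

section Lift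

variable {X Y T T' : Sp S} (f : X ⟶ Y) (j : T ⟶ T') (a : T ⟶ X) (b : T' ⟶ Y)

/-- `ℓ : h_V ⟶ X` is a lift of the square `(a, b)` over the chart `p : h_V ⟶ T'`. -/
def IsLiftOn {V : Over S} (p : (yon S).obj V ⟶ T') (ℓ : (yon S).obj V ⟶ X) : Prop :=
  (∀ ⦃W : Over S⦄ (fst : (yon S).obj W ⟶ T) (snd : W ⟶ V), IsPullback fst ((yon S).map snd) j p →
      (yon S).map snd ≫ ℓ = fst ≫ a) ∧ ℓ ≫ f = p ≫ b

variable {f j a b}

theorem IsLiftOn.of_one {V : Over S} {p : (yon S).obj V ⟶ T'} {ℓ : (yon S).obj V ⟶ X} {W : Over S}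
    (fst : (yon S).obj W ⟶ T) (snd : W ⟶ V) (sq : IsPullback fst ((yon S).map snd) j p)
    (h1 : (yon S).map snd ≫ ℓ = fst ≫ a) (h2 : ℓ ≫ f = p ≫ b) : IsLiftOn f j a b p ℓ := by
  refine ⟨fun W' fst' snd' sq' => ?_, h2⟩
  have e1 : sq.lift fst' ((yon S).map snd') sq'.w ≫ fst = fst' := sq.lift_fst _ _ _
  have e2 : sq.lift fst' ((yon S).map snd') sq'.w ≫ (yon S).map snd = (yon S).map snd' := sq.lift_snd _ _ _
  rw [← e2, Category.assoc, h1, ← Category.assoc, e1]

theorem IsLiftOn.restrict (hj : Representable j) {V V' : Over S} {p : (yon S).obj V ⟶ T'}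
    {ℓ : (yon S).obj V ⟶ X} (h : IsLiftOn f j a b p ℓ) (g : V' ⟶ V) :
    IsLiftOn f j a b ((yon S).map g ≫ p) ((yon S).map g ≫ ℓ) := by
  refine ⟨fun W' fst' snd' sq' => ?_, by rw [Category.assoc, h.2, Category.assoc]⟩
  obtain ⟨W, snd, fst, sq⟩ := hj p
  have hw : fst' ≫ j = ((yon S).map snd' ≫ (yon S).map g) ≫ p := by rw [sq'.w, Category.assoc]
  have e1 : sq.lift fst' ((yon S).map snd' ≫ (yon S).map g) hw ≫ fst = fst' := sq.lift_fst _ _ _
  have e2 : sq.lift fst' ((yon S).map snd' ≫ (yon S).map g) hw ≫ (yon S).map snd =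
      (yon S).map snd' ≫ (yon S).map g := sq.lift_snd _ _ _
  rw [← Category.assoc, ← e2, Category.assoc, h.1 fst snd sq, ← Category.assoc, e1]

theorem IsLiftOn.eq_of_affine (hf : IsFormallyUnramifiedMor f) (hj : IsFOThickMor j) {V : Over S}
    [IsAffine V.left] {p : (yon S).obj V ⟶ T'} (hp : RepWith @Etale p) {ℓ ℓ' : (yon S).obj V ⟶ X}
    (h : IsLiftOn f j a b p ℓ) (h' : IsLiftOn f j a b p ℓ') : ℓ = ℓ' := by
  obtain ⟨W, snd, fst, sq⟩ := hj.1.rep p
  have hthick : thick snd.left := hj.1.property _ _ _ sq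
  have hsz : sqZero snd.left := hj.2 _ fst snd inferInstance hp sq
  have : IsClosedImmersion snd.left := hthick.1
  apply eq_of_affine_thickening f hf snd hsz
  · rw [h.1 fst snd sq, h'.1 fst snd sq]
  · rw [h.2, h'.2]

theorem IsLiftOn.eq (hf : IsFormallyUnramifiedMor f) (hj : IsFOThickMor j) {V : Over S}
    {p : (yon S).obj V ⟶ T'} (hp : RepWith @Etale p) {ℓ ℓ' : (yon S).obj V ⟶ X}
    (h : IsLiftOn f j a b p ℓ) (h' : IsLiftOn f j a b p ℓ') : ℓ = ℓ' := by
  let 𝒰 := V.left.affineOpenCover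
  let VO : 𝒰.I₀ → Over S := fun i => Over.mk (𝒰.f i ≫ V.hom)
  let ι : ∀ i, VO i ⟶ V := fun i => Over.homMk (𝒰.f i) rfl
  refine yon_hom_ext_of_open_cover ℓ ℓ' VO ι
    (fun i => by show IsOpenImmersion (𝒰.f i); infer_instance) (fun x => ⟨𝒰.idx x, 𝒰.covers x⟩) (fun i => ?_)
  have hιe : Etale (ι i).left := by
    show Etale (𝒰.f i)
    infer_instance
  have hpi : RepWith @Etale ((yon S).map (ι i) ≫ p) :=
    (RepWith @Etale).comp_mem _ _ ((repWith_yon_map_iff _ _).2 hιe) hp
  have : IsAffine (VO i).left := by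
    show IsAffine (Spec (𝒰.X i))
    infer_instance
  exact IsLiftOn.eq_of_affine hf hj hpi (h.restrict hj.1.rep (ι i)) (h'.restrict hj.1.rep (ι i))

theorem exists_isLiftOn_affine (hf : IsFormallySmoothMor f) (hj : IsFOThickMor j) (w : a ≫ f = j ≫ b)
    {V : Over S} [IsAffine V.left] (p : (yon S).obj V ⟶ T') (hp : RepWith @Etale p) :
    ∃ ℓ : (yon S).obj V ⟶ X, IsLiftOn f j a b p ℓ := by
  obtain ⟨W, snd, fst, sq⟩ := hj.1.rep p
  have hthick : thick snd.left := hj.1.property _ _ _ sq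
  have hsz : sqZero snd.left := hj.2 _ fst snd inferInstance hp sq
  have : IsClosedImmersion snd.left := hthick.1
  obtain ⟨L, hL1, hL2⟩ := exists_lift_of_affine_thickening f hf snd hsz (fst ≫ a) (p ≫ b) (by
    rw [Category.assoc, w, ← Category.assoc, sq.w, Category.assoc])
  exact ⟨L, IsLiftOn.of_one fst snd sq hL1 hL2⟩

set_option maxHeartbeats 1000000 in
theorem exists_isLiftOn (hf : IsFormallyEtaleMor f) (hj : IsFOThickMor j) (w : a ≫ f = j ≫ b)
    {V : Over S} (p : (yon S).obj V ⟶ T') (hp : RepWith @Etale p) :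
    ∃ ℓ : (yon S).obj V ⟶ X, IsLiftOn f j a b p ℓ := by
  have hf' := (isFormallyEtaleMor_iff f).1 hf
  have hιe : ∀ O : V.left.directedAffineCover.I₀, Etale (affOvι V O).left := by
    intro O
    show Etale (V.left.directedAffineCover.f O)
    infer_instance
  have hpO : ∀ O : V.left.directedAffineCover.I₀, RepWith @Etale ((yon S).map (affOvι V O) ≫ p) := fun O =>
    (RepWith @Etale).comp_mem _ _ ((repWith_yon_map_iff _ _).2 (hιe O)) hp
  have haff : ∀ O : V.left.directedAffineCover.I₀, IsAffine (affOv V O).left := fun O => O.2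
  have hloc : ∀ O : V.left.directedAffineCover.I₀, ∃ ℓ : (yon S).obj (affOv V O) ⟶ X,
      IsLiftOn f j a b ((yon S).map (affOvι V O) ≫ p) ℓ := fun O => by
    have := haff O
    exact exists_isLiftOn_affine hf'.1 hj w _ (hpO O)
  choose ℓO hℓO using hloc
  have hopen : ∀ O : V.left.directedAffineCover.I₀, IsOpenImmersion (affOvι V O).left := by
    intro O
    show IsOpenImmersion (V.left.directedAffineCover.f O)
    infer_instance
  have hsurj : ∀ x : V.left, ∃ O : V.left.directedAffineCover.I₀, x ∈ Set.range (affOvι V O).left := by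
    intro x
    obtain ⟨O, y, hy⟩ := V.left.directedAffineCover.exists_eq x
    exact ⟨O, y, hy⟩
  have hcompat : ∀ {O O' : V.left.directedAffineCover.I₀} (h : O ≤ O'),
      (yon S).map (affIncl V (homOfLE h)) ≫ ℓO O' = ℓO O := by
    intro O O' h
    have := haff O
    have h1 := (hℓO O').restrict hj.1.rep (affIncl V (homOfLE h))
    rw [← Category.assoc, ← Functor.map_comp, affIncl_ι] at h1
    exact IsLiftOn.eq_of_affine hf'.2 hj (hpO O) h1 (hℓO O)
  obtain ⟨ℓ, hℓ, -⟩ := existsUnique_glue_of_locallyDirected (F := X) (I := V.left.directedAffineCover.I₀)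
    (affOv V) (affOvι V) hopen hsurj (fun h => affIncl V (homOfLE h)) (fun h => affIncl_ι V (homOfLE h))
    (fun O O' x x' hxx' => by
      obtain ⟨O'', f', f'', y, hy, hy'⟩ := V.left.directedAffineCover.exists_of_f_eq_f (i := O) (j := O') x x' hxx'
      exact ⟨O'', leOfHom f', leOfHom f'', y, hy, hy'⟩)
    ℓO (fun h => hcompat h)
  refine ⟨ℓ, fun W fst snd sq => ?_, ?_⟩
  · -- check on the open cover of `W` by the preimages of the affine opens of `V`
    let WO : V.left.directedAffineCover.I₀ → Over S := fun O => Over.mk ((snd.left ⁻¹ᵁ O.1).ι ≫ W.hom)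
    let ιW : ∀ O, WO O ⟶ W := fun O => Over.homMk (snd.left ⁻¹ᵁ O.1).ι rfl
    have hsndw : ∀ O : V.left.directedAffineCover.I₀,
        (snd.left ∣_ O.1) ≫ (affOv V O).hom = (WO O).hom := by
      intro O
      show (snd.left ∣_ O.1) ≫ O.1.ι ≫ V.hom = (snd.left ⁻¹ᵁ O.1).ι ≫ W.hom
      rw [← Category.assoc, morphismRestrict_ι, Category.assoc, Over.w snd]
    let sndO : ∀ O, WO O ⟶ affOv V O := fun O => Over.homMk (snd.left ∣_ O.1) (hsndw O)
    have hcommO : ∀ O, sndO O ≫ affOvι V O = ιW O ≫ snd := fun O =>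
      Over.OverMorphism.ext (morphismRestrict_ι snd.left O.1)
    have hpbO : ∀ O, IsPullback (sndO O) (ιW O) (affOvι V O) snd := fun O =>
      IsPullback.of_map (Over.forget S) (hcommO O) (isPullback_morphismRestrict snd.left O.1)
    refine yon_hom_ext_of_open_cover _ _ WO ιW
      (fun O => by show IsOpenImmersion (snd.left ⁻¹ᵁ O.1).ι; infer_instance) (fun x => ?_) (fun O => ?_)
    · obtain ⟨O, y, hy⟩ := V.left.directedAffineCover.exists_eq (snd.left x)
      have hx : x ∈ snd.left ⁻¹ᵁ O.1 := by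
        show snd.left x ∈ O.1
        rw [← hy]
        exact y.2
      exact ⟨O, ⟨x, hx⟩, rfl⟩
    · have hpaste := ((hpbO O).map (yon S)).flip.paste_horiz sq
      have h1 := (hℓO O).1 _ _ hpaste
      rw [← Category.assoc, ← Functor.map_comp, ← hcommO O, Functor.map_comp, Category.assoc, hℓ O, h1,
        Category.assoc]
  · refine yon_hom_ext_of_open_cover _ _ (affOv V) (affOvι V) hopen hsurj (fun O => ?_)
    rw [← Category.assoc, hℓ O, (hℓO O).2, Category.assoc]

end Lift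

/-- Uniqueness of lifts along first order thickenings of algebraic spaces for formally unramified morphisms. -/
theorem eq_of_FOThick {X Y T T' : Sp S} (hT' : IsAlgSpace T') (f : X ⟶ Y) (hf : IsFormallyUnramifiedMor f)
    (j : T ⟶ T') (hj : IsFOThickMor j) (l l' : T' ⟶ X) (h1 : j ≫ l = j ≫ l') (h2 : l ≫ f = l' ≫ f) : l = l' := by
  obtain ⟨V, p, hpe, hps⟩ := hT'.atlas
  have hepi : Epi p := epi_of_etale_surjective p hpe hps
  rw [← cancel_epi p]
  obtain ⟨W, snd, fst, sq⟩ := hj.1.rep p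
  have hl : IsLiftOn f j (j ≫ l) (l ≫ f) p (p ≫ l) :=
    IsLiftOn.of_one fst snd sq (by rw [← Category.assoc, ← sq.w, Category.assoc]) (Category.assoc _ _ _)
  have hl' : IsLiftOn f j (j ≫ l) (l ≫ f) p (p ≫ l') :=
    IsLiftOn.of_one fst snd sq (by rw [← Category.assoc, ← sq.w, Category.assoc, h1])
      (by rw [Category.assoc, h2])
  exact IsLiftOn.eq hf hj hpe hl hl'

set_option maxHeartbeats 1000000 in
/-- Existence of lifts along first order thickenings of algebraic spaces for formally etale morphisms. -/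
theorem exists_lift_of_FOThick {X Y T T' : Sp S} (hT' : IsAlgSpace T') (f : X ⟶ Y) (hf : IsFormallyEtaleMor f)
    (j : T ⟶ T') (hj : IsFOThickMor j) (a : T ⟶ X) (b : T' ⟶ Y) (w : a ≫ f = j ≫ b) :
    ∃ l : T' ⟶ X, j ≫ l = a ∧ l ≫ f = b := by
  have hf' := (isFormallyEtaleMor_iff f).1 hf
  obtain ⟨V, p, hpe, hps⟩ := hT'.atlas
  have hepi : Epi p := epi_of_etale_surjective p hpe hps
  obtain ⟨ℓ, hℓ⟩ := exists_isLiftOn (a := a) (b := b) hf hj w p hpe
  have heff : EffectiveEpi p := Helper5.SheafGrpQuot.effectiveEpi_of_epi (J S) p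
  -- the kernel pair of `p`
  obtain ⟨R, pr₂, pr₁', sqR⟩ := hpe.rep p
  obtain ⟨pr₁, rfl⟩ := (yon S).map_surjective pr₁'
  have hpr₂ : Etale pr₂.left := hpe.property _ _ _ sqR
  have hcomp : RepWith @Etale ((yon S).map pr₂ ≫ p) :=
    (RepWith @Etale).comp_mem _ _ ((repWith_yon_map_iff _ _).2 hpr₂) hpe
  have hR1 : IsLiftOn f j a b ((yon S).map pr₂ ≫ p) ((yon S).map pr₂ ≫ ℓ) := hℓ.restrict hj.1.rep pr₂
  have hR2 : IsLiftOn f j a b ((yon S).map pr₂ ≫ p) ((yon S).map pr₁ ≫ ℓ) := by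
    have := hℓ.restrict hj.1.rep pr₁
    rw [sqR.w] at this
    exact this
  have hRR : (yon S).map pr₁ ≫ ℓ = (yon S).map pr₂ ≫ ℓ := IsLiftOn.eq hf'.2 hj hcomp hR2 hR1
  have hdesc : ∀ {Z : Sp S} (g₁ g₂ : Z ⟶ (yon S).obj V), g₁ ≫ p = g₂ ≫ p → g₁ ≫ ℓ = g₂ ≫ ℓ := by
    intro Z g₁ g₂ hg
    have e1 : sqR.lift g₁ g₂ hg ≫ (yon S).map pr₁ = g₁ := sqR.lift_fst _ _ _
    have e2 : sqR.lift g₁ g₂ hg ≫ (yon S).map pr₂ = g₂ := sqR.lift_snd _ _ _
    rw [← e1, Category.assoc, hRR, ← Category.assoc, e2]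
  refine ⟨EffectiveEpi.desc p ℓ (fun g₁ g₂ h => hdesc g₁ g₂ h), ?_, ?_⟩
  · obtain ⟨W, snd, fst, sq⟩ := hj.1.rep p
    have hfe : RepWith @Etale fst := (RepWith @Etale).of_isPullback sq.flip hpe
    have hfs : RepWith @Surjective fst := (RepWith @Surjective).of_isPullback sq.flip hps
    have : Epi fst := epi_of_etale_surjective fst hfe hfs
    rw [← cancel_epi fst, ← Category.assoc, sq.w, Category.assoc, EffectiveEpi.fac]
    exact hℓ.1 fst snd sq
  · rw [← cancel_epi p, ← Category.assoc, EffectiveEpi.fac]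
    exact hℓ.2

end Groth.Agent.Lib.Helper16.Formal

namespace Groth.Agent.Lib.Helper16.Formal

open AlgSp Groth.Agent.Lib.Helper16 Groth.Agent.Lib.Helper26.AlgSpFormal

variable {S : Scheme.{u}}

/-- Formally etale morphisms lift uniquely along first order thickenings of algebraic spaces. -/
theorem existsUnique_lift_of_FOThick {X Y T T' : Sp S} (hT' : IsAlgSpace T') (f : X ⟶ Y)
    (hf : IsFormallyEtaleMor f) (j : T ⟶ T') (hj : IsFOThickMor j) (a : T ⟶ X) (b : T' ⟶ Y)
    (w : a ≫ f = j ≫ b) : ∃! l : T' ⟶ X, j ≫ l = a ∧ l ≫ f = b := by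
  obtain ⟨l, h1, h2⟩ := exists_lift_of_FOThick hT' f hf j hj a b w
  refine ⟨l, ⟨h1, h2⟩, ?_⟩
  rintro l' ⟨h1', h2'⟩
  exact eq_of_FOThick hT' f ((isFormallyEtaleMor_iff f).1 hf).2 j hj l' l (by rw [h1, h1']) (by rw [h2, h2'])

end Groth.Agent.Lib.Helper16.Formal
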