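import Mathlib
import Groth.Agent.Lib.Helper16.FormalE

/-!
# Helper library (helper16): infinitesimal lifting, part F

Gluing lifts from affine etale charts of the target thickening, with existence and uniqueness on affine charts as
hypotheses (`eq_of_charts`, `exists_of_charts`).
-/

set_option autoImplicit false
universe u
open CategoryTheory CategoryTheory.Limits AlgebraicGeometry Opposite

namespace Groth.Agent.Lib.Helper16.Formal

open AlgSp Groth.Agent.Lib.Helper16 Groth.Agent.Lib.Helper26.AlgSpFormal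

variable {S : Scheme.{u}}

/-- The pullback of a first order thickening to an etale scheme chart is a first order thickening. -/
theorem isFOThickMor_yon_map_of_isPullback {T T' : Sp S} {j : T ⟶ T'} (hj : IsFOThickMor j) {V W : Over S}
    {p : (yon S).obj V ⟶ T'} (hp : RepWith @Etale p) {fst : (yon S).obj W ⟶ T} {snd : W ⟶ V}
    (sq : IsPullback fst ((yon S).map snd) j p) : IsFOThickMor ((yon S).map snd) := by
  refine ⟨(RepWith thick).of_isPullback sq hj.1, ?_⟩
  intro V'' W'' b'' fst'' snd'' hV'' hb'' hpb''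
  exact hj.2 (b'' ≫ p) (fst'' ≫ fst) snd'' hV'' ((RepWith @Etale).comp_mem _ _ hb'' hp) (hpb''.paste_horiz sq)

section Gen

variable {X Y T T' : Sp S} (f : X ⟶ Y) (j : T ⟶ T') (a : T ⟶ X) (b : T' ⟶ Y)

/-- Uniqueness of lifts on affine etale charts. -/
def AffUniq : Prop :=
  ∀ ⦃V : Over S⦄, IsAffine V.left → ∀ (p : (yon S).obj V ⟶ T'), RepWith @Etale p →
    ∀ ℓ ℓ' : (yon S).obj V ⟶ X, IsLiftOn f j a b p ℓ → IsLiftOn f j a b p ℓ' → ℓ = ℓ'

/-- Existence of lifts on affine etale charts. -/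
def AffExist : Prop :=
  ∀ ⦃V : Over S⦄, IsAffine V.left → ∀ (p : (yon S).obj V ⟶ T'), RepWith @Etale p →
    ∃ ℓ : (yon S).obj V ⟶ X, IsLiftOn f j a b p ℓ

variable {f j a b}

theorem IsLiftOn.eq_gen (hjr : Representable j) (HU : AffUniq f j a b) {V : Over S}
    {p : (yon S).obj V ⟶ T'} (hp : RepWith @Etale p) {ℓ ℓ' : (yon S).obj V ⟶ X}
    (h : IsLiftOn f j a b p ℓ) (h' : IsLiftOn f j a b p ℓ') : ℓ = ℓ' := by
  let 𝒰 := V.left.affineOpenCover
  let VO : 𝒰.I₀ → Over S := fun i => Over.mk (𝒰.f i ≫ V.hom)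
  let ι : ∀ i, VO i ⟶ V := fun i => Over.homMk (𝒰.f i) rfl
  refine yon_hom_ext_of_open_cover ℓ ℓ' VO ι
    (fun i => by show IsOpenImmersion (𝒰.f i); infer_instance) (fun x => ⟨𝒰.idx x, 𝒰.covers x⟩) (fun i => ?_)
  have hιe : Etale (ι i).left := by
    show Etale (𝒰.f i)
    infer_instance
  have hpi : RepWith @Etale ((yon S).map (ι i) ≫ p) :=
    (RepWith @Etale).comp_mem _ _ ((repWith_yon_map_iff _ _).2 hιe) hp
  have haff : IsAffine (VO i).left := by
    show IsAffine (Spec (𝒰.X i))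
    infer_instance
  exact HU haff _ hpi _ _ (h.restrict hjr (ι i)) (h'.restrict hjr (ι i))

set_option maxHeartbeats 1000000 in
theorem exists_isLiftOn_gen (hjr : Representable j) (HU : AffUniq f j a b) (HE : AffExist f j a b)
    {V : Over S} (p : (yon S).obj V ⟶ T') (hp : RepWith @Etale p) :
    ∃ ℓ : (yon S).obj V ⟶ X, IsLiftOn f j a b p ℓ := by
  have hιe : ∀ O : V.left.directedAffineCover.I₀, Etale (affOvι V O).left := by
    intro O
    show Etale (V.left.directedAffineCover.f O)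
    infer_instance
  have hpO : ∀ O : V.left.directedAffineCover.I₀, RepWith @Etale ((yon S).map (affOvι V O) ≫ p) := fun O =>
    (RepWith @Etale).comp_mem _ _ ((repWith_yon_map_iff _ _).2 (hιe O)) hp
  have haff : ∀ O : V.left.directedAffineCover.I₀, IsAffine (affOv V O).left := fun O => O.2
  have hloc : ∀ O : V.left.directedAffineCover.I₀, ∃ ℓ : (yon S).obj (affOv V O) ⟶ X,
      IsLiftOn f j a b ((yon S).map (affOvι V O) ≫ p) ℓ := fun O => HE (haff O) _ (hpO O)
  choose ℓO hℓO using hloc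
  have hopen : ∀ O : V.left.directedAffineCover.I₀, IsOpenImmersion (affOvι V O).left := by
    intro O
    show IsOpenImmersion (V.left.directedAffineCover.f O)
    infer_instance
  have hsurj : ∀ x : V.left, ∃ O : V.left.directedAffineCover.I₀, x ∈ Set.range (affOvι V O).left := by
    intro x
    obtain ⟨O, y, hy⟩ := V.left.directedAffineCover.exists_eq x
    exact ⟨O, y, hy⟩
  have hcompat : ∀ {O O' : V.left.directedAffineCover.I₀} (h : O ≤ O'),
      (yon S).map (affIncl V (homOfLE h)) ≫ ℓO O' = ℓO O := by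
    intro O O' h
    have h1 := (hℓO O').restrict hjr (affIncl V (homOfLE h))
    rw [← Category.assoc, ← Functor.map_comp, affIncl_ι] at h1
    exact HU (haff O) _ (hpO O) _ _ h1 (hℓO O)
  obtain ⟨ℓ, hℓ, -⟩ := existsUnique_glue_of_locallyDirected (F := X) (I := V.left.directedAffineCover.I₀)
    (affOv V) (affOvι V) hopen hsurj (fun h => affIncl V (homOfLE h)) (fun h => affIncl_ι V (homOfLE h))
    (fun O O' x x' hxx' => by
      obtain ⟨O'', f', f'', y, hy, hy'⟩ := V.left.directedAffineCover.exists_of_f_eq_f (i := O) (j := O') x x' hxx'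
      exact ⟨O'', leOfHom f', leOfHom f'', y, hy, hy'⟩)
    ℓO (fun h => hcompat h)
  refine ⟨ℓ, fun W fst snd sq => ?_, ?_⟩
  · let WO : V.left.directedAffineCover.I₀ → Over S := fun O => Over.mk ((snd.left ⁻¹ᵁ O.1).ι ≫ W.hom)
    let ιW : ∀ O, WO O ⟶ W := fun O => Over.homMk (snd.left ⁻¹ᵁ O.1).ι rfl
    have hsndw : ∀ O : V.left.directedAffineCover.I₀,
        (snd.left ∣_ O.1) ≫ (affOv V O).hom = (WO O).hom := by
      intro O
      show (snd.left ∣_ O.1) ≫ O.1.ι ≫ V.hom = (snd.left ⁻¹ᵁ O.1).ι ≫ W.hom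
      rw [← Category.assoc, morphismRestrict_ι, Category.assoc, Over.w snd]
    let sndO : ∀ O, WO O ⟶ affOv V O := fun O => Over.homMk (snd.left ∣_ O.1) (hsndw O)
    have hcommO : ∀ O, sndO O ≫ affOvι V O = ιW O ≫ snd := fun O =>
      Over.OverMorphism.ext (morphismRestrict_ι snd.left O.1)
    have hpbO : ∀ O, IsPullback (sndO O) (ιW O) (affOvι V O) snd := fun O =>
      IsPullback.of_map (Over.forget S) (hcommO O) (isPullback_morphismRestrict snd.left O.1)
    refine yon_hom_ext_of_open_cover _ _ WO ιW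
      (fun O => by show IsOpenImmersion (snd.left ⁻¹ᵁ O.1).ι; infer_instance) (fun x => ?_) (fun O => ?_)
    · obtain ⟨O, y, hy⟩ := V.left.directedAffineCover.exists_eq (snd.left x)
      have hx : x ∈ snd.left ⁻¹ᵁ O.1 := by
        show snd.left x ∈ O.1
        rw [← hy]
        exact y.2
      exact ⟨O, ⟨x, hx⟩, rfl⟩
    · have hpaste := ((hpbO O).map (yon S)).flip.paste_horiz sq
      have h1 := (hℓO O).1 _ _ hpaste
      rw [← Category.assoc, ← Functor.map_comp, ← hcommO O, Functor.map_comp, Category.assoc, hℓ O, h1,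
        Category.assoc]
  · refine yon_hom_ext_of_open_cover _ _ (affOv V) (affOvι V) hopen hsurj (fun O => ?_)
    rw [← Category.assoc, hℓ O, (hℓO O).2, Category.assoc]

/-- Uniqueness of a lift on `T'` from uniqueness on affine etale charts. -/
theorem eq_of_charts (hT' : IsAlgSpace T') (hjr : Representable j) (HU : AffUniq f j a b) (l l' : T' ⟶ X)
    (h1 : j ≫ l = a) (h2 : l ≫ f = b) (h1' : j ≫ l' = a) (h2' : l' ≫ f = b) : l = l' := by
  obtain ⟨V, p, hpe, hps⟩ := hT'.atlas
  have hepi : Epi p := epi_of_etale_surjective p hpe hps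
  rw [← cancel_epi p]
  obtain ⟨W, snd, fst, sq⟩ := hjr p
  have hl : IsLiftOn f j a b p (p ≫ l) :=
    IsLiftOn.of_one fst snd sq (by rw [← Category.assoc, ← sq.w, Category.assoc, h1])
      (by rw [Category.assoc, h2])
  have hl' : IsLiftOn f j a b p (p ≫ l') :=
    IsLiftOn.of_one fst snd sq (by rw [← Category.assoc, ← sq.w, Category.assoc, h1'])
      (by rw [Category.assoc, h2'])
  exact IsLiftOn.eq_gen hjr HU hpe hl hl'

set_option maxHeartbeats 1000000 in
/-- Existence of a lift on `T'` from existence and uniqueness on affine etale charts. -/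
theorem exists_of_charts (hT' : IsAlgSpace T') (hjr : Representable j) (HU : AffUniq f j a b)
    (HE : AffExist f j a b) : ∃ l : T' ⟶ X, j ≫ l = a ∧ l ≫ f = b := by
  obtain ⟨V, p, hpe, hps⟩ := hT'.atlas
  have hepi : Epi p := epi_of_etale_surjective p hpe hps
  obtain ⟨ℓ, hℓ⟩ := exists_isLiftOn_gen hjr HU HE p hpe
  have heff : EffectiveEpi p := Helper5.SheafGrpQuot.effectiveEpi_of_epi (J S) p
  obtain ⟨R, pr₂, pr₁', sqR⟩ := hpe.rep p
  obtain ⟨pr₁, rfl⟩ := (yon S).map_surjective pr₁'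
  have hpr₂ : Etale pr₂.left := hpe.property _ _ _ sqR
  have hcomp : RepWith @Etale ((yon S).map pr₂ ≫ p) :=
    (RepWith @Etale).comp_mem _ _ ((repWith_yon_map_iff _ _).2 hpr₂) hpe
  have hR1 : IsLiftOn f j a b ((yon S).map pr₂ ≫ p) ((yon S).map pr₂ ≫ ℓ) := hℓ.restrict hjr pr₂
  have hR2 : IsLiftOn f j a b ((yon S).map pr₂ ≫ p) ((yon S).map pr₁ ≫ ℓ) := by
    have := hℓ.restrict hjr pr₁
    rw [sqR.w] at this
    exact this
  have hRR : (yon S).map pr₁ ≫ ℓ = (yon S).map pr₂ ≫ ℓ := IsLiftOn.eq_gen hjr HU hcomp hR2 hR1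
  have hdesc : ∀ {Z : Sp S} (g₁ g₂ : Z ⟶ (yon S).obj V), g₁ ≫ p = g₂ ≫ p → g₁ ≫ ℓ = g₂ ≫ ℓ := by
    intro Z g₁ g₂ hg
    have e1 : sqR.lift g₁ g₂ hg ≫ (yon S).map pr₁ = g₁ := sqR.lift_fst _ _ _
    have e2 : sqR.lift g₁ g₂ hg ≫ (yon S).map pr₂ = g₂ := sqR.lift_snd _ _ _
    rw [← e1, Category.assoc, hRR, ← Category.assoc, e2]
  refine ⟨EffectiveEpi.desc p ℓ (fun g₁ g₂ h => hdesc g₁ g₂ h), ?_, ?_⟩
  · obtain ⟨W, snd, fst, sq⟩ := hjr p
    have hfe : RepWith @Etale fst := (RepWith @Etale).of_isPullback sq.flip hpe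
    have hfs : RepWith @Surjective fst := (RepWith @Surjective).of_isPullback sq.flip hps
    have : Epi fst := epi_of_etale_surjective fst hfe hfs
    rw [← cancel_epi fst, ← Category.assoc, sq.w, Category.assoc, EffectiveEpi.fac]
    exact hℓ.1 fst snd sq
  · rw [← cancel_epi p, ← Category.assoc, EffectiveEpi.fac]
    exact hℓ.2

end Gen

end Groth.Agent.Lib.Helper16.Formal
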