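import Mathlib
import Groth.Agent.Lib.Helper16.FormalA
import Groth.Agent.S1488

/-!
# Helper library (helper16): representable smooth / unramified morphisms are formally so
-/

set_option autoImplicit false
universe u w
open CategoryTheory CategoryTheory.Limits AlgebraicGeometry Opposite

namespace Groth.Agent.Lib.Helper16.Formal

open AlgSp Groth.Agent.Lib.Helper16 Groth.Agent.Lib.Helper26.AlgSpFormal

variable {S : Scheme.{u}}

/-- Representable smooth morphisms of sheaves are formally smooth. -/
theorem isFormallySmoothMor_of_repWith_smooth {F G : Sp S} (a : F ⟶ G) (ha : RepWith @Smooth a) :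
    IsFormallySmoothMor a := by
  intro sq
  obtain ⟨W, snd, fst, hpb⟩ := ha.rep sq.bot
  have hsm : Smooth snd.left := ha.property _ _ _ hpb
  have hfs : MoreMor.IsFormallySmoothHom snd.left := ((Groth.Agent.S1488.result snd.left).1 hsm).2
  obtain ⟨s, hs⟩ := (yon S).map_surjective (hpb.lift sq.top ((yon S).map sq.j) sq.comm)
  have hs1 : (yon S).map s ≫ fst = sq.top := by rw [hs, hpb.lift_fst]
  have hs2 : s ≫ snd = sq.j := by
    apply (yon S).map_injective
    rw [Functor.map_comp, hs, hpb.lift_snd]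
  have hcond : Spec.map (CommRingCat.ofHom (Ideal.Quotient.mk sq.I)) ≫ 𝟙 (Spec (CommRingCat.of sq.A)) =
      s.left ≫ snd.left := by
    rw [Category.comp_id, ← Over.comp_left, hs2]
    rfl
  obtain ⟨l, hl1, hl2⟩ := hfs sq.A sq.I sq.sq_zero s.left (𝟙 _) hcond
  have hlw : l ≫ W.hom = sq.ptT'.hom := by
    rw [← Over.w snd, ← Category.assoc, hl2, Category.id_comp]
  let L : sq.ptT' ⟶ W := Over.homMk l hlw
  have hL1 : sq.j ≫ L = s := Over.OverMorphism.ext hl1
  have hL2 : L ≫ snd = 𝟙 _ := Over.OverMorphism.ext hl2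
  refine ⟨(yon S).map L ≫ fst, ?_, ?_⟩
  · rw [← Category.assoc, ← Functor.map_comp, hL1, hs1]
  · rw [Category.assoc, hpb.w, ← Category.assoc, ← Functor.map_comp, hL2, CategoryTheory.Functor.map_id,
      Category.id_comp]

/-- Representable unramified morphisms of sheaves are formally unramified. -/
theorem isFormallyUnramifiedMor_of_repWith {F G : Sp S} (a : F ⟶ G)
    (ha : RepWith (@LocallyOfFiniteType ⊓ @FormallyUnramified) a) : IsFormallyUnramifiedMor a := by
  intro sq l l' h1 h2 h3 h4
  obtain ⟨W, snd, fst, hpb⟩ := ha.rep sq.bot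
  have hfu : FormallyUnramified snd.left := (ha.property _ _ _ hpb).2
  have hu := (isFormallyUnramifiedMor_yon_map_iff snd).2 hfu
  obtain ⟨M, hM⟩ := (yon S).map_surjective (hpb.lift l (𝟙 _) (by rw [h2, Category.id_comp]))
  obtain ⟨M', hM'⟩ := (yon S).map_surjective (hpb.lift l' (𝟙 _) (by rw [h4, Category.id_comp]))
  have hM1 : (yon S).map M ≫ fst = l := by rw [hM, hpb.lift_fst]
  have hM2 : (yon S).map M ≫ (yon S).map snd = 𝟙 _ := by rw [hM, hpb.lift_snd]
  have hM'1 : (yon S).map M' ≫ fst = l' := by rw [hM', hpb.lift_fst]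
  have hM'2 : (yon S).map M' ≫ (yon S).map snd = 𝟙 _ := by rw [hM', hpb.lift_snd]
  let sq' : InfSq ((yon S).map snd) :=
    { A := sq.A
      I := sq.I
      sq_zero := sq.sq_zero
      str := sq.str
      top := (yon S).map sq.j ≫ (yon S).map M
      bot := 𝟙 _
      comm := by rw [Category.assoc, hM2] }
  have e3 : (yon S).map sq.j ≫ (yon S).map M' = (yon S).map sq.j ≫ (yon S).map M := by
    apply hpb.hom_ext
    · rw [Category.assoc, Category.assoc, hM1, hM'1, h1, h3]
    · rw [Category.assoc, Category.assoc, hM2, hM'2]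
  have key : (yon S).map M = (yon S).map M' := hu sq' ((yon S).map M) ((yon S).map M') rfl hM2 e3 hM'2
  rw [← hM1, ← hM'1, key]

end Groth.Agent.Lib.Helper16.Formal
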