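import Mathlib.AlgebraicGeometry.Sites.Fpqc
import Mathlib.AlgebraicGeometry.Morphisms.UniversallyOpen
import Mathlib.AlgebraicGeometry.PullbackCarrier

/-!
# Helper library (helper16): properties fppf-local on the target and open subschemes
-/

set_option autoImplicit false
universe u
open CategoryTheory CategoryTheory.Limits AlgebraicGeometry Opposite Topology MorphismProperty

namespace Groth.Agent.Lib.Helper16

variable (P : MorphismProperty Scheme.{u}) [MorphismProperty.IsLocalAtTarget P Scheme.fppfPrecoverage]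

theorem isZariskiLocalAtTarget_of_fppf : IsZariskiLocalAtTarget P :=
  MorphismProperty.IsLocalAtTarget.of_le Scheme.zariskiPrecoverage_le_fppfPrecoverage

/-- A property fppf-local on the target is stable under flat base change locally of finite presentation. -/
theorem P_snd_of_fppf_local {X Y Y' X' : Scheme.{u}} {f : X ⟶ Y} {g : Y' ⟶ Y} [Flat g]
    [LocallyOfFinitePresentation g] {fst : X' ⟶ X} {snd : X' ⟶ Y'} (sq : IsPullback fst snd f g) (hf : P f) :
    P snd := by
  have hid : (@Flat ⊓ @LocallyOfFinitePresentation : MorphismProperty Scheme.{u}) (𝟙 Y) :=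
    ⟨inferInstance, inferInstance⟩
  have hg : (@Flat ⊓ @LocallyOfFinitePresentation : MorphismProperty Scheme.{u}) g :=
    ⟨inferInstance, inferInstance⟩
  let 𝒰 : Precoverage.ZeroHypercover.{0} Scheme.fppfPrecoverage.{u} Y :=
    ((Scheme.Hom.cover (P := @Flat ⊓ @LocallyOfFinitePresentation) (𝟙 Y) hid).add g hg)
  exact MorphismProperty.IsLocalAtTarget.of_isPullback (P := P)
    (K := Scheme.fppfPrecoverage) 𝒰
    (none : Option PUnit.{1}) sq hf

omit [MorphismProperty.IsLocalAtTarget P Scheme.fppfPrecoverage] in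
/-- Two pullbacks of the same cospan. -/
theorem P_snd_of_two_pullbacks [P.RespectsIso] {X Y Y' X' X'' : Scheme.{u}} {f : X ⟶ Y} {g : Y' ⟶ Y}
    {fst : X' ⟶ X} {snd : X' ⟶ Y'} {fst' : X'' ⟶ X} {snd' : X'' ⟶ Y'} (sq : IsPullback fst snd f g)
    (sq' : IsPullback fst' snd' f g) (h : P snd) : P snd' := by
  have : snd' = (sq'.isoIsPullback _ _ sq).hom ≫ snd := (IsPullback.isoIsPullback_hom_snd ..).symm
  rw [this, P.cancel_left_of_respectsIso]
  exact h

/-- If the base change of `f` along a flat morphism locally of finite presentation `g` has `P`, then `f` has `P`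
over the (open) image of `g`. -/
theorem P_restrict_range_of_fppf {X Y Y' : Scheme.{u}} (f : X ⟶ Y) (g : Y' ⟶ Y) [Flat g]
    [LocallyOfFinitePresentation g] (W₁ : Y.Opens) (hW₁ : (W₁ : Set Y) = Set.range g)
    (h : P (pullback.snd f g)) : P (f ∣_ W₁) := by
  have hsub : Set.range g ⊆ Set.range W₁.ι := by rw [Scheme.Opens.range_ι, hW₁]
  obtain ⟨g', hfac⟩ : ∃ g' : Y' ⟶ W₁, g' ≫ W₁.ι = g :=
    ⟨IsOpenImmersion.lift W₁.ι g hsub, IsOpenImmersion.lift_fac _ _ _⟩
  haveI : Flat g' := MorphismProperty.of_postcomp (W := @Flat) (W' := @IsOpenImmersion) g' W₁.ι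
    inferInstance (by rw [hfac]; infer_instance)
  haveI : LocallyOfFinitePresentation g' :=
    MorphismProperty.of_postcomp (W := @LocallyOfFinitePresentation) (W' := @IsOpenImmersion) g' W₁.ι
      inferInstance (by rw [hfac]; infer_instance)
  haveI : Surjective g' := ⟨fun w => by
    have hw : W₁.ι w ∈ Set.range g := by
      rw [← hW₁]
      exact w.2
    obtain ⟨y', hy'⟩ := hw
    refine ⟨y', W₁.ι.isOpenEmbedding.injective ?_⟩
    rw [← Scheme.Hom.comp_apply, hfac, hy']⟩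
  have hR : Presieve.singleton g' ∈ Scheme.fppfPrecoverage (W₁ : Scheme.{u}) :=
    Scheme.Hom.singleton_mem_fppfPrecoverage g'
  refine MorphismProperty.IsLocalAtTarget.of_forall_pullbackSnd (P := P) hR ?_
  rintro U g₀ _ ⟨⟩
  have sq1 := IsPullback.of_hasPullback (f ∣_ W₁) g'
  have sq2 : IsPullback (pullback.fst (f ∣_ W₁) g' ≫ (f ⁻¹ᵁ W₁).ι) (pullback.snd (f ∣_ W₁) g') f g := by
    have := (sq1.flip.paste_vert (isPullback_morphismRestrict f W₁)).flip
    rwa [hfac] at this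
  exact P_snd_of_two_pullbacks P (IsPullback.of_hasPullback f g) sq2 h

/-- The restriction of a base change over an open is a base change. -/
theorem isPullback_restrict_snd {X Y Y' : Scheme.{u}} (f : X ⟶ Y) (g : Y' ⟶ Y) (V : Y'.Opens) :
    IsPullback (((pullback.snd f g) ⁻¹ᵁ V).ι ≫ pullback.fst f g) (pullback.snd f g ∣_ V) f (V.ι ≫ g) :=
  ((isPullback_morphismRestrict (pullback.snd f g) V).paste_vert (IsPullback.of_hasPullback f g).flip).flip

/-- Existence of the largest open over which `f` has an fppf-local property, and its compatibility with flat base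
change locally of finite presentation. -/
theorem exists_largest_open {X Y : Scheme.{u}} (f : X ⟶ Y) :
    ∃ W : Y.Opens, P (f ∣_ W) ∧ (∀ W₀ : Y.Opens, P (f ∣_ W₀) → W₀ ≤ W) ∧
      (∀ (Y' : Scheme.{u}) (g : Y' ⟶ Y), Flat g → LocallyOfFinitePresentation g →
        P (pullback.snd f g) → Set.range g ⊆ (W : Set Y)) ∧
      (∀ (Y' : Scheme.{u}) (g : Y' ⟶ Y), Flat g → LocallyOfFinitePresentation g →
        ∀ W' : Y'.Opens, P (pullback.snd f g ∣_ W') →
          (∀ W₀ : Y'.Opens, P (pullback.snd f g ∣_ W₀) → W₀ ≤ W') → W' = g ⁻¹ᵁ W) := by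
  haveI := isZariskiLocalAtTarget_of_fppf P
  obtain ⟨W, hW⟩ : ∃ W : Y.Opens, W = sSup {W₀ : Y.Opens | P (f ∣_ W₀)} := ⟨_, rfl⟩
  have hle : ∀ W₀ : Y.Opens, P (f ∣_ W₀) → W₀ ≤ W := fun W₀ h => hW ▸ le_sSup h
  have h1 : P (f ∣_ W) := by
    refine IsZariskiLocalAtTarget.of_forall_exists_morphismRestrict (P := P) fun x => ?_
    obtain ⟨y, hy⟩ : ∃ y : Y, y = W.ι x := ⟨_, rfl⟩
    have hx : y ∈ W := hy ▸ x.2
    rw [hW, TopologicalSpace.Opens.mem_sSup] at hx
    obtain ⟨W₀, hW₀, hxW₀⟩ := hx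
    have hxW₀' : W.ι x ∈ W₀ := hy ▸ hxW₀
    refine ⟨W.ι ⁻¹ᵁ W₀, hxW₀', ?_⟩
    rw [P.arrow_mk_iso_iff (morphismRestrictRestrict f W (W.ι ⁻¹ᵁ W₀))]
    have heq : W.ι ''ᵁ (W.ι ⁻¹ᵁ W₀) = W₀ := by
      rw [Scheme.Hom.image_preimage_eq_opensRange_inf, Scheme.Opens.opensRange_ι]
      exact inf_eq_right.2 (hle W₀ hW₀)
    exact (P.arrow_mk_iso_iff (morphismRestrictEq f heq)).2 hW₀
  have h2 : ∀ (Y' : Scheme.{u}) (g : Y' ⟶ Y), Flat g → LocallyOfFinitePresentation g →
      P (pullback.snd f g) → Set.range g ⊆ (W : Set Y) := by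
    intro Y' g _ _ hg
    have := P_restrict_range_of_fppf P f g ⟨Set.range g, g.isOpenMap.isOpen_range⟩ rfl hg
    exact hle _ this
  refine ⟨W, h1, hle, h2, ?_⟩
  intro Y' g _ _ W' hW' hmax
  apply le_antisymm
  · have hP : P (pullback.snd f (W'.ι ≫ g)) :=
      P_snd_of_two_pullbacks P (isPullback_restrict_snd f g W') (IsPullback.of_hasPullback f (W'.ι ≫ g)) hW'
    have hr := h2 _ (W'.ι ≫ g) inferInstance inferInstance hP
    intro y' hy'
    have : (W'.ι ≫ g) ⟨y', hy'⟩ ∈ (W : Set Y) := hr ⟨⟨y', hy'⟩, rfl⟩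
    rw [Scheme.Hom.comp_apply] at this
    exact this
  · apply hmax
    have hres : (g ∣_ W) ≫ W.ι = (g ⁻¹ᵁ W).ι ≫ g := morphismRestrict_ι g W
    haveI : Flat (g ∣_ W) := IsZariskiLocalAtTarget.restrict (P := @Flat) ‹_› W
    haveI : LocallyOfFinitePresentation (g ∣_ W) :=
      IsZariskiLocalAtTarget.restrict (P := @LocallyOfFinitePresentation) ‹_› W
    have sq1 := IsPullback.of_hasPullback (f ∣_ W) (g ∣_ W)
    have hP1 : P (pullback.snd (f ∣_ W) (g ∣_ W)) := P_snd_of_fppf_local P sq1 h1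
    have sq2 : IsPullback (pullback.fst (f ∣_ W) (g ∣_ W) ≫ (f ⁻¹ᵁ W).ι) (pullback.snd (f ∣_ W) (g ∣_ W)) f
        ((g ⁻¹ᵁ W).ι ≫ g) := by
      have := (sq1.flip.paste_vert (isPullback_morphismRestrict f W)).flip
      rwa [hres] at this
    exact P_snd_of_two_pullbacks P sq2 (isPullback_restrict_snd f g (g ⁻¹ᵁ W)) hP1

end Groth.Agent.Lib.Helper16
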