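import Groth.Agent.Lib.Helper16.AffDescGeom

/-!
# Helper library (helper16): descent of morphisms out of an algebraic space along an fpqc base change

`T` an algebraic space over a scheme `Z`, `c : W ⟶ Z` an fpqc morphism of schemes with `T ×_Z W = h_V`.  A morphism
`q : V ⟶ Q` of schemes equalized by the two maps `V ×_Z W ⇉ V` (projection and "action") descends to `T ⟶ h_Q`.
-/

set_option autoImplicit false
universe u
open CategoryTheory CategoryTheory.Limits AlgebraicGeometry Opposite

namespace Groth.Agent.Lib.Helper16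

open AlgSp

variable {S : Scheme.{u}} {Z W V V₂ : Over S} (c : W ⟶ Z) (π : V ⟶ W) (prV : V₂ ⟶ V) (prW : V₂ ⟶ W)
  (H₂ : IsPullback prV prW (π ≫ c) c) {T : Sp S} (t : T ⟶ (yon S).obj Z) (a : (yon S).obj V ⟶ T)
  (sq : IsPullback a ((yon S).map π) t ((yon S).map c))

include H₂ sq in
/-- The "action" map `V ×_Z W ⟶ V` of the canonical descent datum on `V = T ×_Z W`. -/
theorem exists_action : ∃ σ : V₂ ⟶ V, (yon S).map σ ≫ a = (yon S).map prV ≫ a ∧ σ ≫ π = prW := by
  have hcomp : ((yon S).map prV ≫ a) ≫ t = (yon S).map prW ≫ (yon S).map c := by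
    rw [Category.assoc, sq.w, ← Functor.map_comp, ← Functor.map_comp, ← Functor.map_comp, H₂.w]
  obtain ⟨σ, hσ⟩ := (yon S).map_surjective (sq.lift _ _ hcomp)
  refine ⟨σ, by rw [hσ, sq.lift_fst], ?_⟩
  apply (yon S).map_injective
  rw [Functor.map_comp, hσ, sq.lift_snd]

include H₂ sq in
theorem exists_kernelPair_lift' (σ : V₂ ⟶ V) (hσa : (yon S).map σ ≫ a = (yon S).map prV ≫ a) (hσπ : σ ≫ π = prW)
    {X' : Over S} (x y : X' ⟶ V) (hxy : (yon S).map x ≫ a = (yon S).map y ≫ a) :
    ∃ k : X' ⟶ V₂, k ≫ prV = x ∧ k ≫ σ = y := by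
  have hc : x ≫ π ≫ c = (y ≫ π) ≫ c := by
    apply (yon S).map_injective
    rw [Category.assoc, Functor.map_comp, Functor.map_comp, Functor.map_comp, Functor.map_comp, ← sq.w,
      ← Category.assoc, hxy, Category.assoc]
  refine ⟨H₂.lift x (y ≫ π) hc, H₂.lift_fst _ _ _, ?_⟩
  apply (yon S).map_injective
  apply sq.hom_ext
  · rw [Functor.map_comp, Category.assoc, hσa, ← Category.assoc, ← Functor.map_comp, H₂.lift_fst, hxy]
  · rw [← Functor.map_comp, Category.assoc, hσπ, H₂.lift_snd, Functor.map_comp]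

include H₂ sq in
/-- Descending a morphism `q : V ⟶ Q` compatible with the descent datum to a morphism `T ⟶ h_Q`. -/
theorem exists_desc_of_fpqc [Flat c.left] [Surjective c.left] [QuasiCompact c.left] (hT : IsAlgSpace T)
    (σ : V₂ ⟶ V) (hσa : (yon S).map σ ≫ a = (yon S).map prV ≫ a) (hσπ : σ ≫ π = prW)
    {Q : Over S} (q : V ⟶ Q) (hq : σ ≫ q = prV ≫ q) :
    ∃ τ : T ⟶ (yon S).obj Q, a ≫ τ = (yon S).map q ∧
      ∀ (pQ : Q ⟶ Z), q ≫ pQ = π ≫ c → τ ≫ (yon S).map pQ = t := by
  obtain ⟨U, u, hue, hus⟩ := hT.atlas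
  obtain ⟨uZ, huZ⟩ := (yon S).map_surjective (u ≫ t)
  have hv0 : ((yon S).map (pullback.fst uZ c) ≫ u) ≫ t =
      (yon S).map (pullback.snd uZ c) ≫ (yon S).map c := by
    rw [Category.assoc, ← huZ, ← Functor.map_comp, ← Functor.map_comp, pullback.condition]
  obtain ⟨v, hv⟩ := (yon S).map_surjective (sq.lift _ _ hv0)
  have hva : (yon S).map v ≫ a = (yon S).map (pullback.fst uZ c) ≫ u := by rw [hv, sq.lift_fst]
  have hvπ : v ≫ π = pullback.snd uZ c := by
    apply (yon S).map_injective
    rw [Functor.map_comp, hv, sq.lift_snd]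
  -- fpqc property of the projections
  have fpqc_fst : ∀ {X' : Over S} (x : X' ⟶ Z), Flat (pullback.fst x c).left ∧
      Surjective (pullback.fst x c).left ∧ QuasiCompact (pullback.fst x c).left := by
    intro X' x
    have sqU := isPullback_left_forget x c
    exact ⟨MorphismProperty.of_isPullback sqU.flip inferInstance,
      MorphismProperty.of_isPullback sqU.flip inferInstance,
      MorphismProperty.of_isPullback sqU.flip inferInstance⟩
  obtain ⟨i1, i2, i3⟩ := fpqc_fst uZ
  have hepiU : Epi (pullback.fst uZ c) := AffDesc.epi_of_fpqc _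
  -- descend along `prU`
  have hdesc : ∀ {X' : Scheme.{u}} (g₁ g₂ : X' ⟶ (pullback uZ c).left),
      g₁ ≫ (pullback.fst uZ c).left = g₂ ≫ (pullback.fst uZ c).left →
      g₁ ≫ (v ≫ q).left = g₂ ≫ (v ≫ q).left := by
    intro X' g₁ g₂ h12
    have hw : g₂ ≫ (pullback uZ c).hom = g₁ ≫ (pullback uZ c).hom := by
      rw [← Over.w (pullback.fst uZ c), ← Category.assoc, ← h12, Category.assoc]
    let G₁ : Over.mk (g₁ ≫ (pullback uZ c).hom) ⟶ pullback uZ c := Over.homMk g₁ rfl
    let G₂ : Over.mk (g₁ ≫ (pullback uZ c).hom) ⟶ pullback uZ c := Over.homMk g₂ hw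
    have hG : G₁ ≫ pullback.fst uZ c = G₂ ≫ pullback.fst uZ c := by
      ext1; exact h12
    obtain ⟨k, hk1, hk2⟩ := exists_kernelPair_lift' c π prV prW H₂ t a sq σ hσa hσπ (G₁ ≫ v) (G₂ ≫ v) (by
      rw [Functor.map_comp, Functor.map_comp, Category.assoc, Category.assoc, hva, ← Category.assoc,
        ← Category.assoc, ← Functor.map_comp, ← Functor.map_comp, hG])
    have : (G₁ ≫ v) ≫ q = (G₂ ≫ v) ≫ q := by
      rw [← hk1, ← hk2, Category.assoc, Category.assoc, hq]
    have := congrArg CommaMorphism.left this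
    simpa [G₁, G₂] using this
  let ū := EffectiveEpi.desc (pullback.fst uZ c).left (v ≫ q).left hdesc
  have hū : (pullback.fst uZ c).left ≫ ū = (v ≫ q).left :=
    EffectiveEpi.fac _ _ _
  have hūS : ū ≫ Q.hom = U.hom := by
    have : Epi (pullback.fst uZ c).left := inferInstance
    rw [← cancel_epi (pullback.fst uZ c).left, ← Category.assoc, hū, Over.w, Over.w]
  let ūO : U ⟶ Q := Over.homMk ū hūS
  have hūO : pullback.fst uZ c ≫ ūO = v ≫ q := by
    ext1; exact hū
  -- descend along `u`
  have hepiu : Epi u := epi_of_etale_surjective u hue hus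
  have := IsRegularEpiCategory.regularEpiOfEpi u
  have hdesc2 : ∀ {F : Sp S} (g₁ g₂ : F ⟶ (yon S).obj U), g₁ ≫ u = g₂ ≫ u →
      g₁ ≫ (yon S).map ūO = g₂ ≫ (yon S).map ūO := by
    intro F g₁ g₂ h12
    apply sp_hom_ext
    intro X' z
    obtain ⟨x', hx'⟩ := (yon S).map_surjective (z ≫ g₁)
    obtain ⟨y', hy'⟩ := (yon S).map_surjective (z ≫ g₂)
    have hxy : (yon S).map x' ≫ u = (yon S).map y' ≫ u := by
      rw [hx', hy', Category.assoc, Category.assoc, h12]
    rw [← Category.assoc, ← Category.assoc, ← hx', ← hy', ← Functor.map_comp, ← Functor.map_comp]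
    congr 1
    have hxyZ : y' ≫ uZ = x' ≫ uZ := by
      apply (yon S).map_injective
      rw [Functor.map_comp, Functor.map_comp, huZ, ← Category.assoc, ← Category.assoc, hxy]
    obtain ⟨j1, j2, j3⟩ := fpqc_fst (x' ≫ uZ)
    have hepiX : Epi (pullback.fst (x' ≫ uZ) c) := AffDesc.epi_of_fpqc _
    rw [← cancel_epi (pullback.fst (x' ≫ uZ) c)]
    let xW : pullback (x' ≫ uZ) c ⟶ pullback uZ c :=
      pullback.lift (pullback.fst _ _ ≫ x') (pullback.snd _ _) (by rw [Category.assoc, pullback.condition])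
    let yW : pullback (x' ≫ uZ) c ⟶ pullback uZ c :=
      pullback.lift (pullback.fst _ _ ≫ y') (pullback.snd _ _)
        (by rw [Category.assoc, hxyZ, pullback.condition])
    have hxW : xW ≫ pullback.fst uZ c = pullback.fst _ _ ≫ x' := pullback.lift_fst _ _ _
    have hyW : yW ≫ pullback.fst uZ c = pullback.fst _ _ ≫ y' := pullback.lift_fst _ _ _
    have hxyv : xW ≫ v = yW ≫ v := by
      apply (yon S).map_injective
      apply sq.hom_ext
      · rw [Functor.map_comp, Functor.map_comp, Category.assoc, Category.assoc, hva, ← Category.assoc,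
          ← Category.assoc, ← Functor.map_comp, ← Functor.map_comp, hxW, hyW, Functor.map_comp,
          Functor.map_comp, Category.assoc, Category.assoc, hxy]
      · rw [← Functor.map_comp, ← Functor.map_comp, Category.assoc, Category.assoc, hvπ]
        congr 1
        exact (pullback.lift_snd _ _ _).trans (pullback.lift_snd _ _ _).symm
    rw [← Category.assoc, ← hxW, Category.assoc, hūO, ← Category.assoc, hxyv, Category.assoc, ← hūO,
      ← Category.assoc, hyW, Category.assoc]
  let τ : T ⟶ (yon S).obj Q := EffectiveEpi.desc u ((yon S).map ūO) hdesc2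
  have hτ : u ≫ τ = (yon S).map ūO := EffectiveEpi.fac _ _ _
  refine ⟨τ, ?_, ?_⟩
  · -- `a ≫ τ = h_q`
    obtain ⟨q', hq'⟩ := (yon S).map_surjective (a ≫ τ)
    rw [← hq']
    congr 1
    -- `v` is etale surjective
    have sqv : IsPullback ((yon S).map v) ((yon S).map (pullback.fst uZ c)) a u := by
      refine IsPullback.of_right ?_ hva sq.flip
      rw [← Functor.map_comp, hvπ, ← huZ]
      exact ((IsPullback.of_hasPullback uZ c).map (yon S)).flip
    have hve : Etale v.left := hue.property _ _ _ sqv.flip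
    have hvs : Surjective v.left := hus.property _ _ _ sqv.flip
    have hepiv : Epi v := AffDesc.epi_of_fppf v
    rw [← cancel_epi v]
    apply (yon S).map_injective
    rw [Functor.map_comp, hq', ← Category.assoc, hva, Category.assoc, hτ, ← Functor.map_comp, hūO]
  · intro pQ hqp
    rw [← cancel_epi u, ← Category.assoc, hτ, ← huZ, ← Functor.map_comp]
    congr 1
    rw [← cancel_epi (pullback.fst uZ c), ← Category.assoc, hūO, Category.assoc, hqp,
      ← Category.assoc, hvπ, pullback.condition]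

end Groth.Agent.Lib.Helper16
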