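import Mathlib

/-!
# Helper library (helper16): free actions of finite groups on commutative rings (Galois algebras in the sense of
Chase–Harrison–Rosenberg)
-/

set_option autoImplicit false
universe u v

namespace Groth.Agent.Lib.Helper16.FreeAct

variable (G : Type v) [Group G] [Fintype G] [DecidableEq G] (A : Type u) [CommRing A] [MulSemiringAction G A]

/-- The action of `G` on `A` is free: no nontrivial element of `G` fixes a maximal ideal and acts trivially on its
residue field. -/
def IsFree : Prop := ∀ σ : G, σ ≠ 1 → ∀ m : Ideal A, m.IsMaximal → ∃ a : A, σ • a - a ∉ m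

variable {G A}

theorem exists_pair_of_ne_one (hfree : IsFree G A) (σ : G) (hσ : σ ≠ 1) :
    ∃ (ι : Type u) (_ : Fintype ι) (x y : ι → A), ∑ j, x j * y j = 1 ∧ ∑ j, x j * σ • y j = 0 := by
  classical
  have htop : Ideal.span (Set.range fun a : A => σ • a - a) = ⊤ := by
    by_contra hne
    obtain ⟨m, hm, hle⟩ := Ideal.exists_le_maximal _ hne
    obtain ⟨a, ha⟩ := hfree σ hσ m hm
    exact ha (hle (Ideal.subset_span ⟨a, rfl⟩))
  have h1 : (1 : A) ∈ Submodule.span A (Set.range fun a : A => σ • a - a) := by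
    change (1 : A) ∈ Ideal.span _
    rw [htop]; trivial
  obtain ⟨c, hc⟩ := Finsupp.mem_span_range_iff_exists_finsupp.1 h1
  have hc' : ∑ k ∈ c.support, c k * (σ • k - k) = 1 := by simpa [Finsupp.sum] using hc
  refine ⟨Option c.support, inferInstance,
    fun o => o.elim (∑ k ∈ c.support, c k * σ • k) (fun k => - c k),
    fun o => o.elim 1 (fun k => (k : A)), ?_, ?_⟩
  · rw [Fintype.sum_option]
    simp only [Option.elim_none, Option.elim_some, mul_one]
    rw [Finset.sum_coe_sort c.support (fun k => - c k * k), ← hc', ← Finset.sum_add_distrib]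
    refine Finset.sum_congr rfl (fun k _ => ?_)
    ring
  · rw [Fintype.sum_option]
    simp only [Option.elim_none, Option.elim_some, smul_one, mul_one]
    rw [Finset.sum_coe_sort c.support (fun k => - c k * σ • k), ← Finset.sum_add_distrib]
    refine Finset.sum_eq_zero (fun k _ => ?_)
    ring

/-- A "dual pair": `∑ x_j τ(y_j) = δ_{τ,1}`. -/
def IsDualPair {n : ℕ} (x y : Fin n → A) : Prop :=
  ∀ τ : G, ∑ j, x j * τ • y j = if τ = 1 then 1 else 0

theorem exists_dual_pair (hfree : IsFree G A) : ∃ (n : ℕ) (x y : Fin n → A), IsDualPair (G := G) x y := by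
  classical
  have h : ∀ σ : G, ∃ (ι : Type u) (_ : Fintype ι) (x y : ι → A), ∑ j, x j * y j = 1 ∧
      (σ ≠ 1 → ∑ j, x j * σ • y j = 0) := by
    intro σ
    by_cases hσ : σ = 1
    · exact ⟨PUnit, inferInstance, fun _ => 1, fun _ => 1, by simp, fun h => absurd hσ h⟩
    · obtain ⟨ι, hι, x, y, h1, h2⟩ := exists_pair_of_ne_one hfree σ hσ
      exact ⟨ι, hι, x, y, h1, fun _ => h2⟩
  choose ι hι x y h1 h2 using h
  letI : ∀ σ, Fintype (ι σ) := hι
  have key : ∀ τ : G, ∑ j : (∀ σ : G, ι σ), (∏ σ, x σ (j σ)) * τ • (∏ σ, y σ (j σ)) =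
      if τ = 1 then 1 else 0 := by
    intro τ
    have e1 : ∀ j : (∀ σ : G, ι σ), (∏ σ, x σ (j σ)) * τ • (∏ σ, y σ (j σ)) =
        ∏ σ, (x σ (j σ) * τ • y σ (j σ)) := fun j => by
      rw [Finset.smul_prod', Finset.prod_mul_distrib]
    simp only [e1]
    rw [← Fintype.prod_sum (fun σ (i : ι σ) => x σ i * τ • y σ i)]
    split_ifs with hτ
    · subst hτ
      simp only [one_smul, h1, Finset.prod_const_one]
    · exact Finset.prod_eq_zero (Finset.mem_univ τ) (h2 τ hτ)
  refine ⟨Fintype.card (∀ σ : G, ι σ), (fun j => ∏ σ, x σ (j σ)) ∘ (Fintype.equivFin _).symm,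
    (fun j => ∏ σ, y σ (j σ)) ∘ (Fintype.equivFin _).symm, fun τ => ?_⟩
  rw [← key τ]
  exact Fintype.sum_equiv (Fintype.equivFin _).symm _ _ (fun _ => rfl)

variable (G) in
/-- The trace `a ↦ ∑ σ(a)`. -/
def tr (a : A) : A := ∑ σ : G, σ • a

theorem smul_tr (τ : G) (a : A) : τ • tr G a = tr G a := by
  unfold tr
  rw [Finset.smul_sum]
  simp only [smul_smul]
  exact Fintype.sum_equiv (Equiv.mulLeft τ) _ _ (fun _ => rfl)

theorem tr_mul_of_fixed (c a : A) (hc : ∀ σ : G, σ • c = c) : tr G (c * a) = c * tr G a := by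
  unfold tr
  rw [Finset.mul_sum]
  refine Finset.sum_congr rfl (fun σ _ => ?_)
  rw [smul_mul', hc]

theorem tr_add (a b : A) : tr G (a + b) = tr G a + tr G b := by
  unfold tr
  rw [← Finset.sum_add_distrib]
  refine Finset.sum_congr rfl (fun σ _ => smul_add σ a b)

section DualPair

variable {n : ℕ} {x y : Fin n → A} (h : IsDualPair (G := G) x y)
include h

theorem sum_smul_mul (σ τ : G) : ∑ i, σ • x i * τ • y i = if τ = σ then 1 else 0 := by
  classical
  have h3 : σ • (∑ j, x j * (σ⁻¹ * τ) • y j) = ∑ i, σ • x i * τ • y i := by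
    rw [Finset.smul_sum]
    refine Finset.sum_congr rfl (fun i _ => ?_)
    rw [smul_mul', smul_smul, mul_inv_cancel_left]
  rw [← h3, h (σ⁻¹ * τ)]
  by_cases hσ : τ = σ
  · subst hσ; simp
  · rw [if_neg hσ, if_neg (by rwa [inv_mul_eq_one, eq_comm]), smul_zero]

/-- `∑ σ(x_i) tr(y_i b) = σ(b)`. -/
theorem sum_smul_mul_tr (σ : G) (b : A) : ∑ i, σ • x i * tr G (y i * b) = σ • b := by
  classical
  calc ∑ i, σ • x i * tr G (y i * b) = ∑ τ : G, (∑ i, σ • x i * τ • y i) * τ • b := by
        simp only [tr, Finset.mul_sum, Finset.sum_mul, smul_mul']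
        rw [Finset.sum_comm]
        refine Finset.sum_congr rfl (fun τ _ => Finset.sum_congr rfl (fun i _ => ?_))
        ring
    _ = ∑ τ : G, (if τ = σ then 1 else 0) * τ • b := by simp only [sum_smul_mul h]
    _ = σ • b := by simp

/-- `a = ∑ tr(a x_i) y_i`. -/
theorem eq_sum_tr (a : A) : a = ∑ i, tr G (a * x i) * y i := by
  classical
  calc a = ∑ σ : G, σ • a * (if (1 : G) = σ then 1 else 0) := by simp
    _ = ∑ σ : G, σ • a * ∑ i, σ • x i * (1 : G) • y i := by simp only [sum_smul_mul h]
    _ = ∑ i, tr G (a * x i) * y i := by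
      simp only [tr, Finset.mul_sum, Finset.sum_mul, smul_mul', one_smul]
      rw [Finset.sum_comm]
      refine Finset.sum_congr rfl (fun i _ => Finset.sum_congr rfl (fun σ _ => ?_))
      ring

/-- Two ring homomorphisms out of `A` agreeing on the invariants differ, locally on the target, by an element of
`G`. -/
theorem exists_partition {B : Type*} [CommRing B] (α α' : A →+* B)
    (hαα' : ∀ c : A, (∀ σ : G, σ • c = c) → α c = α' c) :
    ∃ ε : G → B, ∑ σ, ε σ = 1 ∧ ∀ σ a, ε σ * α' a = ε σ * α (σ • a) := by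
  classical
  refine ⟨fun σ => ∑ i, α (σ • x i) * α' (y i), ?_, fun σ a => ?_⟩
  · rw [Finset.sum_comm]
    have e1 : ∀ i, ∑ σ : G, α (σ • x i) * α' (y i) = α' (tr G (1 * x i) * y i) := fun i => by
      rw [← Finset.sum_mul, ← map_sum, map_mul, one_mul]
      congr 1
      exact hαα' _ (fun τ => smul_tr τ (x i))
    simp only [e1]
    rw [← map_sum, ← eq_sum_tr h 1, map_one]
  · have e2 : ∀ i, α' (y i * a) = ∑ j, α (tr G (y i * a * x j)) * α' (y j) := fun i => by
      conv_lhs => rw [eq_sum_tr h (y i * a)]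
      rw [map_sum]
      refine Finset.sum_congr rfl (fun j _ => ?_)
      rw [map_mul]
      congr 1
      exact (hαα' _ (fun τ => smul_tr τ _)).symm
    calc (∑ i, α (σ • x i) * α' (y i)) * α' a = ∑ i, α (σ • x i) * α' (y i * a) := by
          rw [Finset.sum_mul]
          refine Finset.sum_congr rfl (fun i _ => ?_)
          rw [map_mul]; ring
      _ = ∑ j, α (∑ i, σ • x i * tr G (y i * (a * x j))) * α' (y j) := by
          simp only [e2, Finset.mul_sum, map_sum, Finset.sum_mul, map_mul]
          rw [Finset.sum_comm]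
          refine Finset.sum_congr rfl (fun j _ => Finset.sum_congr rfl (fun i _ => ?_))
          rw [mul_assoc (y i) a (x j)]; ring
      _ = ∑ j, α (σ • (a * x j)) * α' (y j) := by simp only [sum_smul_mul_tr h]
      _ = (∑ i, α (σ • x i) * α' (y i)) * α (σ • a) := by
          rw [Finset.sum_mul]
          refine Finset.sum_congr rfl (fun i _ => ?_)
          rw [smul_mul', map_mul]; ring

end DualPair

/-- The trace with values in the ring of invariants. -/
def trC (a : A) : FixedPoints.subring A G := ⟨tr G a, fun τ => smul_tr τ a⟩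

theorem exists_split {n : ℕ} {x y : Fin n → A} (h : IsDualPair (G := G) x y) :
    ∃ (i : A →ₗ[FixedPoints.subring A G] (Fin n → FixedPoints.subring A G))
      (s : (Fin n → FixedPoints.subring A G) →ₗ[FixedPoints.subring A G] A), s ∘ₗ i = LinearMap.id := by
  classical
  let i : A →ₗ[FixedPoints.subring A G] (Fin n → FixedPoints.subring A G) :=
    { toFun := fun a j => trC (a * x j)
      map_add' := fun a b => by
        ext j
        show tr G ((a + b) * x j) = tr G (a * x j) + tr G (b * x j)
        rw [add_mul, tr_add]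
      map_smul' := fun c a => by
        ext j
        show tr G (c • a * x j) = (c : A) * tr G (a * x j)
        rw [Subring.smul_def, smul_eq_mul, mul_assoc]
        exact tr_mul_of_fixed _ _ c.2 }
  let s : (Fin n → FixedPoints.subring A G) →ₗ[FixedPoints.subring A G] A :=
    ∑ j, (LinearMap.proj j).smulRight (y j)
  refine ⟨i, s, ?_⟩
  ext a
  show s (i a) = a
  simp only [s, LinearMap.sum_apply, LinearMap.smulRight_apply, LinearMap.proj_apply]
  conv_rhs => rw [eq_sum_tr h a]
  refine Finset.sum_congr rfl (fun j _ => ?_)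
  rfl

theorem finite_of_isFree (hfree : IsFree G A) : Module.Finite (FixedPoints.subring A G) A := by
  obtain ⟨n, x, y, h⟩ := exists_dual_pair hfree
  obtain ⟨i, s, his⟩ := exists_split h
  refine Module.Finite.of_surjective s (fun a => ⟨i a, ?_⟩)
  exact LinearMap.congr_fun his a

theorem projective_of_isFree (hfree : IsFree G A) : Module.Projective (FixedPoints.subring A G) A := by
  obtain ⟨n, x, y, h⟩ := exists_dual_pair hfree
  obtain ⟨i, s, his⟩ := exists_split h
  exact Module.Projective.of_split i s his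

instance : Algebra.IsInvariant (FixedPoints.subring A G) A G := ⟨fun b hb => ⟨⟨b, hb⟩, rfl⟩⟩

theorem isIntegral : Algebra.IsIntegral (FixedPoints.subring A G) A :=
  Algebra.IsInvariant.isIntegral (FixedPoints.subring A G) A G

theorem comap_surjective :
    Function.Surjective (PrimeSpectrum.comap (algebraMap (FixedPoints.subring A G) A)) := by
  have := isIntegral (G := G) (A := A)
  exact Algebra.IsIntegral.comap_surjective _ _

end Groth.Agent.Lib.Helper16.FreeAct
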