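import Groth.Agent.Lib.Helper16.FreeAct
import Mathlib.AlgebraicGeometry.EffectiveEpi

/-!
# Helper library (helper16): the quotient of an affine scheme by a free action of a finite group
-/

set_option autoImplicit false
set_option linter.unusedSectionVars false
universe u v
open CategoryTheory CategoryTheory.Limits AlgebraicGeometry

namespace Groth.Agent.Lib.Helper16.FreeQuot

open FreeAct

variable (G : Type v) [Group G] [Fintype G] [DecidableEq G] (A : CommRingCat.{u}) [MulSemiringAction G A]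

/-- The ring of invariants. -/
abbrev invRing : CommRingCat.{u} := CommRingCat.of (FixedPoints.subring A G)

/-- The inclusion of the invariants. -/
noncomputable def incl : invRing G A ⟶ A := CommRingCat.ofHom (algebraMap (FixedPoints.subring A G) A)

variable {G}

/-- The action of an element of `G`, as a ring homomorphism. -/
def actHom (σ : G) : A ⟶ A := CommRingCat.ofHom (MulSemiringAction.toRingHom G A σ)

theorem actHom_apply (σ : G) (a : A) : (actHom A σ).hom a = σ • a := rfl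

theorem incl_actHom (σ : G) : incl G A ≫ actHom A σ = incl G A := by
  ext c
  exact c.2 σ

theorem actHom_one : actHom A (1 : G) = 𝟙 A := by
  ext a
  exact one_smul G a

theorem actHom_mul (σ τ : G) : actHom A (σ * τ) = actHom A τ ≫ actHom A σ := by
  ext a
  exact mul_smul σ τ a

theorem specMap_actHom_incl (σ : G) : Spec.map (actHom A σ) ≫ Spec.map (incl G A) = Spec.map (incl G A) := by
  rw [← Spec.map_comp, incl_actHom]

variable {A}

theorem flat_q (hfree : IsFree G A) : Flat (Spec.map (incl G A)) := by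
  rw [Flat.SpecMap_iff]
  have := projective_of_isFree hfree
  exact RingHom.flat_algebraMap_iff.2 inferInstance

variable (G A) in
theorem surjective_q : Surjective (Spec.map (incl G A)) :=
  ⟨fun x => by
    obtain ⟨y, hy⟩ := comap_surjective (G := G) (A := A) x
    exact ⟨y, hy⟩⟩

theorem lfp_q (hfree : IsFree G A) : LocallyOfFinitePresentation (Spec.map (incl G A)) := by
  rw [LocallyOfFinitePresentation.SpecMap_iff]
  have := finite_of_isFree hfree
  have := projective_of_isFree hfree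
  have : Module.FinitePresentation (FixedPoints.subring A G) A := Module.finitePresentation_of_projective _ _
  exact RingHom.finitePresentation_algebraMap.2 inferInstance

theorem exists_opens_of_isOpenImmersion {Z Z' Y : Scheme.{u}} (j : Z' ⟶ Z) [IsOpenImmersion j] (z : Z)
    (hz : z ∈ Set.range j) (a b : Z ⟶ Y) (h : j ≫ a = j ≫ b) :
    ∃ O : Z.Opens, z ∈ O ∧ O.ι ≫ a = O.ι ≫ b := by
  refine ⟨j.opensRange, hz, ?_⟩
  have e : j.opensRange.ι = j.isoOpensRange.inv ≫ j := by
    rw [Iso.eq_inv_comp]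
    exact j.isoOpensRange_hom_ι
  rw [e, Category.assoc, Category.assoc, h]

/-- Two morphisms to `Spec A` with the same image in `Spec A^G` differ locally by an element of `G`. -/
theorem exists_opens_eq (hfree : IsFree G A) {Z : Scheme.{u}} (g₁ g₂ : Z ⟶ Spec A)
    (h : g₁ ≫ Spec.map (incl G A) = g₂ ≫ Spec.map (incl G A)) (z : Z) :
    ∃ O : Z.Opens, z ∈ O ∧ ∃ σ : G, O.ι ≫ g₂ = O.ι ≫ g₁ ≫ Spec.map (actHom A σ) := by
  obtain ⟨n, x, y, hxy⟩ := exists_dual_pair hfree
  obtain ⟨_, ⟨V, hV, rfl⟩, hzV, -⟩ :=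
    Z.isBasis_affineOpens.exists_subset_of_mem_open (Set.mem_univ z) isOpen_univ
  obtain ⟨z₀, hz₀⟩ : z ∈ Set.range hV.fromSpec := by rw [hV.range_fromSpec]; exact hzV
  obtain ⟨α, hα⟩ : ∃ α : A ⟶ Γ(Z, V), Spec.map α = hV.fromSpec ≫ g₁ := ⟨Spec.preimage _, Spec.map_preimage _⟩
  obtain ⟨α', hα'⟩ : ∃ α' : A ⟶ Γ(Z, V), Spec.map α' = hV.fromSpec ≫ g₂ :=
    ⟨Spec.preimage _, Spec.map_preimage _⟩
  have hαα' : incl G A ≫ α = incl G A ≫ α' := by
    apply Spec.map_injective
    rw [Spec.map_comp, Spec.map_comp, hα, hα', Category.assoc, Category.assoc, h]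
  obtain ⟨ε, hε1, hε2⟩ := exists_partition hxy α.hom α'.hom (fun c hc => by
    have := ConcreteCategory.congr_hom hαα' ⟨c, hc⟩
    exact this)
  obtain ⟨σ, hσ⟩ : ∃ σ : G, ε σ ∉ z₀.asIdeal := by
    by_contra hne
    push_neg at hne
    have h1 : (1 : Γ(Z, V)) ∈ z₀.asIdeal := by
      rw [← hε1]
      exact Ideal.sum_mem _ (fun σ _ => hne σ)
    exact z₀.isPrime.ne_top ((Ideal.eq_top_iff_one _).2 h1)
  obtain ⟨ℓ, hℓ⟩ : ∃ ℓ : Γ(Z, V) ⟶ CommRingCat.of (Localization.Away (ε σ)),
      ℓ = CommRingCat.ofHom (algebraMap Γ(Z, V) (Localization.Away (ε σ))) := ⟨_, rfl⟩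
  have hopen : IsOpenImmersion (Spec.map ℓ) := by rw [hℓ]; infer_instance
  have hzr : z₀ ∈ Set.range (Spec.map ℓ) := by
    have h2 : Set.range (Spec.map ℓ) = (PrimeSpectrum.basicOpen (ε σ) : Set (PrimeSpectrum Γ(Z, V))) := by
      rw [hℓ]
      exact PrimeSpectrum.localization_away_comap_range (Localization.Away (ε σ)) (ε σ)
    rw [h2]
    exact hσ
  have hjopen : IsOpenImmersion (Spec.map ℓ ≫ hV.fromSpec) := inferInstance
  have hzj : z ∈ Set.range (Spec.map ℓ ≫ hV.fromSpec) := by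
    obtain ⟨z₁, hz₁⟩ := hzr
    exact ⟨z₁, by rw [Scheme.Hom.comp_apply, hz₁, hz₀]⟩
  have key : α' ≫ ℓ = actHom A σ ≫ α ≫ ℓ := by
    ext a
    have hu : IsUnit (ℓ.hom (ε σ)) := by
      rw [hℓ]
      exact IsLocalization.Away.algebraMap_isUnit (ε σ)
    have h3 : ℓ.hom (ε σ) * ℓ.hom (α'.hom a) = ℓ.hom (ε σ) * ℓ.hom (α.hom (σ • a)) := by
      rw [← map_mul, ← map_mul, hε2 σ a]
    exact hu.mul_left_cancel h3
  have hfin : (Spec.map ℓ ≫ hV.fromSpec) ≫ g₂ = (Spec.map ℓ ≫ hV.fromSpec) ≫ g₁ ≫ Spec.map (actHom A σ) := by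
    rw [Category.assoc, ← hα', Category.assoc, ← Category.assoc hV.fromSpec, ← hα, ← Spec.map_comp,
      ← Spec.map_comp, ← Spec.map_comp, key, Category.assoc]
  obtain ⟨O, hzO, hO⟩ := exists_opens_of_isOpenImmersion _ z hzj _ _ hfin
  exact ⟨O, hzO, σ, hO⟩

/-- Invariant morphisms out of `Spec A` descend to `Spec A^G`. -/
theorem exists_desc (hfree : IsFree G A) {S : Scheme.{u}} (h : Spec A ⟶ S)
    (hinv : ∀ σ : G, Spec.map (actHom A σ) ≫ h = h) :
    ∃ h' : Spec (invRing G A) ⟶ S, Spec.map (incl G A) ≫ h' = h := by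
  have := flat_q hfree
  have := surjective_q G A
  have : IsRegularEpi (Spec.map (incl G A)) := isRegularEpi_of_flat_of_surjective_of_isAffine _
  have heff : EffectiveEpi (Spec.map (incl G A)) := inferInstance
  refine ⟨EffectiveEpi.desc (Spec.map (incl G A)) h (fun {Z} g₁ g₂ hg => ?_), EffectiveEpi.fac _ _ _⟩
  refine Scheme.hom_ext_of_forall _ _ (fun z => ?_)
  obtain ⟨O, hzO, σ, hO⟩ := exists_opens_eq hfree g₁ g₂ hg z
  refine ⟨O, hzO, ?_⟩
  rw [← Category.assoc, ← Category.assoc O.ι g₂, hO]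
  simp only [Category.assoc, hinv]

end Groth.Agent.Lib.Helper16.FreeQuot
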