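import Groth.Agent.Lib.Helper16.Tuple
import Groth.Agent.Lib.Helper16.StrataSp

/-!
# Helper library (helper16): the action of the symmetric group on the scheme of ordered tuples of distinct points in
the fibres of a finite etale chart, and its orbits
-/

set_option autoImplicit false
universe u
open CategoryTheory CategoryTheory.Limits AlgebraicGeometry Opposite

namespace Groth.Agent.Lib.Helper16.Tuple

open AlgSp Strata

variable {S : Scheme.{u}} {X : Sp S} {U : Over S} {a : (yon S).obj U ⟶ X} {W : Over S} {d : ℕ}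
  {π : Fin d → (W ⟶ U)}

theorem exists_act (hπ : IsUniv a π) (σ : Equiv.Perm (Fin d)) : ∃ φ : W ⟶ W, ∀ i, φ ≫ π i = π (σ i) :=
  hπ.lift W _ (hπ.tuple.reindex σ σ.injective)

/-- The action of a permutation on the universal tuple. -/
noncomputable def act (hπ : IsUniv a π) (σ : Equiv.Perm (Fin d)) : W ⟶ W := (exists_act hπ σ).choose

theorem act_π (hπ : IsUniv a π) (σ : Equiv.Perm (Fin d)) (i : Fin d) : act hπ σ ≫ π i = π (σ i) :=
  (exists_act hπ σ).choose_spec i

theorem act_one (hπ : IsUniv a π) : act hπ 1 = 𝟙 W :=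
  hπ.ext _ _ _ fun i => by
    rw [act_π, Category.id_comp]
    rfl

theorem act_mul (hπ : IsUniv a π) (σ τ : Equiv.Perm (Fin d)) : act hπ (σ * τ) = act hπ σ ≫ act hπ τ :=
  hπ.ext _ _ _ fun i => by
    rw [act_π, Category.assoc, act_π, act_π]
    rfl

theorem act_free (hπ : IsUniv a π) (σ : Equiv.Perm (Fin d)) (hσ : σ ≠ 1) (K : Type u) [Field K]
    (x : Spec (CommRingCat.of K) ⟶ W.left) : x ≫ (act hπ σ).left ≠ x := by
  intro h
  obtain ⟨i, hi⟩ : ∃ i, σ i ≠ i := by
    by_contra hcon
    push Not at hcon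
    exact hσ (Equiv.ext hcon)
  let Z : Over S := Over.mk (x ≫ W.hom)
  let z : Z ⟶ W := Over.homMk x rfl
  have hz : z ≫ act hπ σ = z := by
    ext1
    exact h
  have h2 : z ≫ π (σ i) = z ≫ π i := by
    rw [← act_π hπ σ i, ← Category.assoc, hz]
  have hempty := hπ.tuple.disj (σ i) i hi Z z h2
  exact hempty.false (show ↥(Spec (CommRingCat.of K)) from IsLocalRing.closedPoint K)

section Kernel

variable {R : Over S} {c sn : R ⟶ U}

/-- A map to `R` whose image lies in the diagonal has equal coordinates. -/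
theorem comp_c_eq_comp_sn_of_range_subset {e : U ⟶ R} (hec : e ≫ c = 𝟙 U) (hes : e ≫ sn = 𝟙 U)
    [IsOpenImmersion e.left] {Z : Over S} (ζ : Z ⟶ R) (h : Set.range ζ.left ⊆ Set.range e.left) :
    ζ ≫ c = ζ ≫ sn := by
  let ℓ₀ := IsOpenImmersion.lift e.left ζ.left h
  have hℓ₀ : ℓ₀ ≫ e.left = ζ.left := IsOpenImmersion.lift_fac _ _ _
  let ℓ : Z ⟶ U := Over.homMk ℓ₀ (by
    rw [← Over.w e, ← Category.assoc, hℓ₀, Over.w])
  have hℓ : ℓ ≫ e = ζ := by
    ext1
    exact hℓ₀
  rw [← hℓ, Category.assoc, Category.assoc, hec, hes]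

/-- The residue field point of `T` at `t`, as an object over `S`. -/
noncomputable abbrev ptOver (T : Over S) (t : ↥T.left) : Over S :=
  Over.mk (T.left.fromSpecResidueField t ≫ T.hom)

/-- The residue field point of `T` at `t`, as a morphism over `S`. -/
noncomputable abbrev ptOverι (T : Over S) (t : ↥T.left) : ptOver T t ⟶ T :=
  Over.homMk (T.left.fromSpecResidueField t) rfl

theorem isDiagonal_of_hasDeg {e : U ⟶ R}
    (hes : e ≫ sn = 𝟙 U) {K : Type u} [Field K] (x : Spec (CommRingCat.of K) ⟶ U.left)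
    (r : Fin d → (Spec (CommRingCat.of K) ⟶ R.left)) (hr : ∀ i, r i ≫ sn.left = x)
    (hinj : Function.Injective r)
    (hdeg : ¬ HasDeg sn.left (x (IsLocalRing.closedPoint K)) (d + 1)) : ∃ i, r i = x ≫ e.left := by
  by_contra hne
  push Not at hne
  apply hdeg
  refine ⟨K, inferInstance, x, Fin.cons (x ≫ e.left) r, rfl, fun i => ?_, ?_⟩
  · refine Fin.cases ?_ (fun j => ?_) i
    · rw [Fin.cons_zero, Category.assoc, ← Over.comp_left, hes, Over.id_left, Category.comp_id]
    · rw [Fin.cons_succ]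
      exact hr j
  · rw [Fin.cons_injective_iff]
    refine ⟨?_, hinj⟩
    rintro ⟨i, hi⟩
    exact hne i hi

include a in
/-- The first coordinate of the universal tuple is surjective when all fibres have exactly `d` points. -/
theorem surjective_π (hπ : IsUniv a π) (sq : IsPullback ((yon S).map c) ((yon S).map sn) a a)
    (hdeg : ∀ u : ↥U.left, HasDeg sn.left u d ∧ ¬ HasDeg sn.left u (d + 1)) (i₀ : Fin d) :
    Surjective (π i₀).left := by
  constructor
  intro u
  obtain ⟨K, _, x, r, hx, hr, hinj⟩ := (hdeg u).1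
  obtain ⟨e, hec, hes⟩ := exists_lift_R sq (𝟙 U) (𝟙 U) rfl
  obtain ⟨i₁, hi₁⟩ := isDiagonal_of_hasDeg hes x r hr hinj (by rw [hx]; exact (hdeg u).2)
  let T : Over S := Over.mk (x ≫ U.hom)
  let x' : T ⟶ U := Over.homMk x rfl
  let ρ : Fin d → (T ⟶ R) := fun i => Over.homMk (r i) (by
    rw [← Over.w sn, ← Category.assoc, hr i]
    rfl)
  have hρs : ∀ i, ρ i ≫ sn = x' := fun i => by
    ext1
    exact hr i
  have hρ₁ : ρ i₁ = x' ≫ e := by
    ext1
    exact hi₁
  have hρne : ∀ i j, i ≠ j → Disj (ρ i ≫ c) (ρ j ≫ c) := by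
    intro i j hij Z z hz
    refine ⟨fun z₀ => hij (hinj ?_)⟩
    have h1 : z ≫ ρ i = z ≫ ρ j := by
      apply hom_ext_R sq
      · simpa only [Category.assoc] using hz
      · rw [Category.assoc, Category.assoc, hρs, hρs]
    have h2 : z.left ≫ r i = z.left ≫ r j := congrArg CommaMorphism.left h1
    refine cancel_field_epi (K := K) (K' := Z.left.residueField z₀) (Z.left.fromSpecResidueField z₀ ≫ z.left) ?_
    rw [Category.assoc, Category.assoc, h2]
  let sw : Equiv.Perm (Fin d) := Equiv.swap i₀ i₁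
  have hv : IsTuple a (fun i => ρ (sw i) ≫ c) := by
    refine ⟨fun i j => ?_, fun i j hij => hρne _ _ (fun h => hij (sw.injective h))⟩
    have key : ∀ i, (yon S).map (ρ i ≫ c) ≫ a = (yon S).map x' ≫ a := fun i => by
      rw [Functor.map_comp, Category.assoc, sq.w, ← Category.assoc, ← Functor.map_comp, hρs]
    rw [key, key]
  obtain ⟨w, hw⟩ := hπ.lift T _ hv
  have hw₀ : w ≫ π i₀ = x' := by
    rw [hw i₀]
    show ρ (Equiv.swap i₀ i₁ i₀) ≫ c = x'
    rw [Equiv.swap_apply_left, hρ₁, Category.assoc, hec, Category.comp_id]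
  refine ⟨w.left (IsLocalRing.closedPoint K), ?_⟩
  rw [← Scheme.Hom.comp_apply, ← Over.comp_left, hw₀]
  exact hx

/-- The kernel pair of `h_W ⟶ X` is, locally, the graph of the action of the symmetric group. -/
theorem exists_perm_of_eq (hπ : IsUniv a π) (hae : RepWith @Etale a)
    (sq : IsPullback ((yon S).map c) ((yon S).map sn) a a)
    (hdeg : ∀ u : ↥U.left, ¬ HasDeg sn.left u (d + 1)) (i₀ : Fin d) {T : Over S} (w w' : T ⟶ W)
    (h : (yon S).map (w ≫ π i₀) ≫ a = (yon S).map (w' ≫ π i₀) ≫ a) (t : ↥T.left) :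
    ∃ O : T.left.Opens, t ∈ O ∧ ∃ σ : Equiv.Perm (Fin d),
      overOpenι T O ≫ w' = overOpenι T O ≫ w ≫ act hπ σ := by
  have hall : ∀ i j, (yon S).map (w ≫ π j) ≫ a = (yon S).map (w' ≫ π i) ≫ a := by
    intro i j
    have h1 : (yon S).map (w ≫ π j) ≫ a = (yon S).map (w ≫ π i₀) ≫ a := by
      rw [Functor.map_comp, Functor.map_comp, Category.assoc, Category.assoc, hπ.tuple.eq j i₀]
    have h2 : (yon S).map (w' ≫ π i) ≫ a = (yon S).map (w' ≫ π i₀) ≫ a := by
      rw [Functor.map_comp, Functor.map_comp, Category.assoc, Category.assoc, hπ.tuple.eq i i₀]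
    rw [h1, h2, h]
  have hρ : ∀ i j, ∃ ρ : T ⟶ R, ρ ≫ c = w ≫ π j ∧ ρ ≫ sn = w' ≫ π i := fun i j =>
    exists_lift_R sq _ _ (hall i j)
  choose ρ hρc hρs using hρ
  obtain ⟨e, hec, hes⟩ := exists_lift_R sq (𝟙 U) (𝟙 U) rfl
  have hsn : Etale sn.left := hae.property _ _ _ sq
  have hesl : e.left ≫ sn.left = 𝟙 U.left := by
    rw [← Over.comp_left, hes]
    rfl
  have heo : IsOpenImmersion e.left := isOpenImmersion_of_section sn.left e.left hesl
  -- the residue field point
  have hzt : ∀ y : ↥(ptOver T t).left, (ptOverι T t).left y = t := fun y =>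
    T.left.fromSpecResidueField_apply t y
  have hzne : Nonempty ↥(ptOver T t).left :=
    ⟨(IsLocalRing.closedPoint (T.left.residueField t) : ↥(Spec (T.left.residueField t)))⟩
  -- for each `i` some `ρ i j` meets the diagonal at `t`
  have hA : ∀ i, ∃ j, (ρ i j).left t ∈ Set.range e.left := by
    intro i
    by_contra hcon
    push Not at hcon
    let K := T.left.residueField t
    let xt : Spec K ⟶ T.left := T.left.fromSpecResidueField t
    let x : Spec K ⟶ U.left := xt ≫ (w' ≫ π i).left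
    have hrs : ∀ j, (xt ≫ (ρ i j).left) ≫ sn.left = x := fun j => by
      rw [Category.assoc, ← Over.comp_left, hρs]
    have hinj : Function.Injective (fun j => xt ≫ (ρ i j).left) := by
      intro j j' hjj
      by_contra hne
      have h1 : xt ≫ (w ≫ π j).left = xt ≫ (w ≫ π j').left := by
        rw [← hρc i j, ← hρc i j', Over.comp_left, Over.comp_left, ← Category.assoc, ← Category.assoc]
        exact congrArg (· ≫ c.left) hjj
      have h2 : ptOverι T t ≫ w ≫ π j = ptOverι T t ≫ w ≫ π j' := by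
        ext1
        exact h1
      exact ((hπ.tuple.disj j j' hne).comp w _ (ptOverι T t) h2).false hzne.some
    obtain ⟨j, hj⟩ := isDiagonal_of_hasDeg hes x (fun j => xt ≫ (ρ i j).left) hrs hinj (hdeg _)
    apply hcon j
    refine ⟨x (IsLocalRing.closedPoint K), ?_⟩
    have h3 : (ρ i j).left (xt (IsLocalRing.closedPoint K)) = e.left (x (IsLocalRing.closedPoint K)) := by
      have := congrArg (fun f : Spec K ⟶ R.left => f (IsLocalRing.closedPoint K)) hj
      exact this
    rw [← h3]
    exact congrArg _ (T.left.fromSpecResidueField_apply t _)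
  choose τ hτ using hA
  -- on the residue field point the coordinates agree
  have hpt : ∀ i, ptOverι T t ≫ w ≫ π (τ i) = ptOverι T t ≫ w' ≫ π i := by
    intro i
    have := comp_c_eq_comp_sn_of_range_subset hec hes (ptOverι T t ≫ ρ i (τ i)) (by
      rintro _ ⟨y, rfl⟩
      rw [Over.comp_left, Scheme.Hom.comp_apply, hzt y]
      exact hτ i)
    rw [Category.assoc, Category.assoc, hρc, hρs] at this
    exact this
  have hτinj : Function.Injective τ := by
    intro i i' hii
    by_contra hne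
    have h1 : ptOverι T t ≫ w' ≫ π i = ptOverι T t ≫ w' ≫ π i' := by
      rw [← hpt i, ← hpt i', hii]
    exact ((hπ.tuple.disj i i' hne).comp w' _ (ptOverι T t) h1).false hzne.some
  let σ : Equiv.Perm (Fin d) := Equiv.ofBijective τ (Finite.injective_iff_bijective.1 hτinj)
  obtain ⟨O, hO⟩ : ∃ O : T.left.Opens, (O : Set ↥T.left) = ⋂ i, (ρ i (τ i)).left ⁻¹' Set.range e.left :=
    ⟨⟨_, isOpen_iInter_of_finite fun i =>
      e.left.isOpenEmbedding.isOpen_range.preimage (ρ i (τ i)).left.continuous⟩, rfl⟩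
  have hOmem : ∀ (y : ↥T.left), y ∈ O → ∀ i, (ρ i (τ i)).left y ∈ Set.range e.left := by
    intro y hy
    have : y ∈ (O : Set ↥T.left) := hy
    rw [hO] at this
    exact Set.mem_iInter.1 this
  refine ⟨O, ?_, σ, ?_⟩
  · show t ∈ (O : Set ↥T.left)
    rw [hO]
    exact Set.mem_iInter.2 hτ
  · apply hπ.ext
    intro i
    have := comp_c_eq_comp_sn_of_range_subset hec hes (overOpenι T O ≫ ρ i (τ i)) (by
      rintro _ ⟨y, rfl⟩
      rw [Over.comp_left, Scheme.Hom.comp_apply]
      exact hOmem _ y.2 i)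
    rw [Category.assoc, Category.assoc, hρc, hρs] at this
    rw [Category.assoc, Category.assoc, Category.assoc, act_π]
    exact this.symm

end Kernel

end Groth.Agent.Lib.Helper16.Tuple
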