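import Groth.Agent.Lib.Helper16.QuotOpen
import Groth.Agent.Lib.Helper16.YonSigma
import Groth.Agent.Lib.Helper16.GlueRep
import Groth.Agent.Lib.Helper16.TupleAct
import Groth.Agent.Lib.Helper15.OpenSubspace

/-!
# Helper library (helper16): the relation `∐_G W ⇉ W` of a free action of an arbitrary group on a scheme over `S`
is an equivalence relation (local conjugacy)
-/

set_option autoImplicit false
universe u
open CategoryTheory CategoryTheory.Limits AlgebraicGeometry Opposite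

namespace Groth.Agent.Lib.Helper16.FreeRel

open AlgSp Groth.Agent.Lib.Helper15

variable {S : Scheme.{u}} {G : Type u} [Group G] {W : Over S}

/-- A free right action of `G` on `W` over `S` (`φ (σ τ) = φ σ ≫ φ τ`). -/
structure IsFreeAct (φ : G → (W ⟶ W)) : Prop where
  one : φ 1 = 𝟙 W
  mul : ∀ σ τ, φ (σ * τ) = φ σ ≫ φ τ
  free : ∀ σ : G, σ ≠ 1 → ∀ (K : Type u) [Field K] (x : Spec (CommRingCat.of K) ⟶ W.left),
    x ≫ (φ σ).left ≠ x

theorem IsFreeAct.of_residue {φ : G → (W ⟶ W)} (h1 : φ 1 = 𝟙 W) (hmul : ∀ σ τ, φ (σ * τ) = φ σ ≫ φ τ)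
    (hfree : ∀ σ : G, σ ≠ 1 → ∀ x : W.left,
      W.left.fromSpecResidueField x ≫ (φ σ).left ≠ W.left.fromSpecResidueField x) : IsFreeAct φ := by
  refine ⟨h1, hmul, fun σ hσ K _ x h => ?_⟩
  have key := Scheme.descResidueField_stalkClosedPointTo_fromSpecResidueField K W.left x
  have h1 : Spec.map (W.left.descResidueField (K := K) (Scheme.stalkClosedPointTo x)) ≫
      (W.left.fromSpecResidueField (x (IsLocalRing.closedPoint K)) ≫ (φ σ).left) =
      Spec.map (W.left.descResidueField (K := K) (Scheme.stalkClosedPointTo x)) ≫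
        W.left.fromSpecResidueField (x (IsLocalRing.closedPoint K)) := by
    rw [← Category.assoc, key, h]
  exact hfree σ hσ _
    (Strata.cancel_field_epi (K := ↥(W.left.residueField (x (IsLocalRing.closedPoint K)))) _ h1)

/-- Two `T`-points of `W` are locally conjugate under the action. -/
def LocConj (φ : G → (W ⟶ W)) {T : Over S} (w w' : T ⟶ W) : Prop :=
  ∀ t : T.left, ∃ O : T.left.Opens, t ∈ O ∧ ∃ σ : G, overOpenι T O ≫ w' = overOpenι T O ≫ w ≫ φ σ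

theorem eq_of_le {T M : Over S} {O O' : T.left.Opens} (h : O' ≤ O) {f g : T ⟶ M}
    (e : overOpenι T O ≫ f = overOpenι T O ≫ g) : overOpenι T O' ≫ f = overOpenι T O' ≫ g := by
  obtain ⟨ℓ, hℓ⟩ := exists_lift_overOpen O (overOpenι T O') (fun t' => h t'.2)
  rw [← hℓ, Category.assoc, Category.assoc, e]

namespace LocConj

variable {φ : G → (W ⟶ W)}

theorem refl (hφ : IsFreeAct φ) {T : Over S} (w : T ⟶ W) : LocConj φ w w :=
  fun _ => ⟨⊤, trivial, 1, by rw [hφ.one, Category.comp_id]⟩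

theorem symm (hφ : IsFreeAct φ) {T : Over S} {w w' : T ⟶ W} (h : LocConj φ w w') : LocConj φ w' w := by
  intro t
  obtain ⟨O, htO, σ, hσ⟩ := h t
  refine ⟨O, htO, σ⁻¹, ?_⟩
  calc overOpenι T O ≫ w = overOpenι T O ≫ w ≫ φ (σ * σ⁻¹) := by
        rw [mul_inv_cancel, hφ.one, Category.comp_id]
    _ = (overOpenι T O ≫ w ≫ φ σ) ≫ φ σ⁻¹ := by rw [hφ.mul]; simp only [Category.assoc]
    _ = overOpenι T O ≫ w' ≫ φ σ⁻¹ := by rw [← hσ, Category.assoc]

theorem trans (hφ : IsFreeAct φ) {T : Over S} {w w' w'' : T ⟶ W} (h : LocConj φ w w')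
    (h' : LocConj φ w' w'') : LocConj φ w w'' := by
  intro t
  obtain ⟨O, htO, σ, hσ⟩ := h t
  obtain ⟨O', htO', τ, hτ⟩ := h' t
  refine ⟨O ⊓ O', ⟨htO, htO'⟩, σ * τ, ?_⟩
  have h1 := eq_of_le (inf_le_left : O ⊓ O' ≤ O) hσ
  have h2 := eq_of_le (inf_le_right : O ⊓ O' ≤ O') hτ
  calc overOpenι T (O ⊓ O') ≫ w'' = (overOpenι T (O ⊓ O') ≫ w') ≫ φ τ := by rw [h2, Category.assoc]
    _ = (overOpenι T (O ⊓ O') ≫ w ≫ φ σ) ≫ φ τ := by rw [h1]
    _ = overOpenι T (O ⊓ O') ≫ w ≫ φ (σ * τ) := by rw [hφ.mul]; simp only [Category.assoc]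

end LocConj

/-- A model of the relation scheme `∐_G W` with its two maps to `W`. -/
structure IsModel (φ : G → (W ⟶ W)) {E : Over S} (ι : G → (W ⟶ E)) (s t : E ⟶ W) : Prop where
  isOpen : ∀ σ, IsOpenImmersion (ι σ).left
  cover : ∀ x : E.left, ∃ σ, x ∈ Set.range (ι σ).left
  ι_s : ∀ σ, ι σ ≫ s = 𝟙 W
  ι_t : ∀ σ, ι σ ≫ t = φ σ

variable {φ : G → (W ⟶ W)} {E : Over S} {ι : G → (W ⟶ E)} {s t : E ⟶ W}

/-- A `T`-point of the relation scheme gives locally conjugate points. -/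
theorem locConj_of_rel (hm : IsModel φ ι s t) {T : Over S} (r : T ⟶ E) : LocConj φ (r ≫ s) (r ≫ t) := by
  intro x
  obtain ⟨σ, hσ⟩ := hm.cover (r.left x)
  have io : IsOpenImmersion (ι σ).left := hm.isOpen σ
  obtain ⟨O, hO⟩ : ∃ O : T.left.Opens, O = r.left ⁻¹ᵁ (ι σ).left.opensRange := ⟨_, rfl⟩
  have hxO : x ∈ O := by rw [hO]; exact hσ
  have hOmem : ∀ y : T.left, y ∈ O → r.left y ∈ Set.range (ι σ).left := by
    intro y hy
    rw [hO] at hy
    exact hy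
  refine ⟨O, hxO, σ, ?_⟩
  obtain ⟨ℓ, hℓ⟩ := GlueRep.exists_lift_of_range_subset (ι σ) (overOpenι T O ≫ r) (by
    rintro _ ⟨z, rfl⟩
    exact hOmem _ z.2)
  have h1 : overOpenι T O ≫ r ≫ t = ℓ ≫ φ σ := by
    rw [← Category.assoc, ← hℓ, Category.assoc, hm.ι_t]
  have h2 : overOpenι T O ≫ r ≫ s = ℓ := by
    rw [← Category.assoc, ← hℓ, Category.assoc, hm.ι_s, Category.comp_id]
  calc overOpenι T O ≫ r ≫ t = ℓ ≫ φ σ := h1
    _ = (overOpenι T O ≫ r ≫ s) ≫ φ σ := by rw [h2]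
    _ = overOpenι T O ≫ (r ≫ s) ≫ φ σ := by simp only [Category.assoc]

/-- Locally conjugate points come from a `T`-point of the relation scheme. -/
theorem exists_rel_of_locConj (hφ : IsFreeAct φ) (hm : IsModel φ ι s t) {T : Over S} (a b : T ⟶ W)
    (h : LocConj φ b a) : ∃ r : T ⟶ E, r ≫ t = a ∧ r ≫ s = b := by
  have hopenT : ∀ σ : G, IsOpen {t : T.left | ∃ O : T.left.Opens, t ∈ O ∧
      overOpenι T O ≫ a = overOpenι T O ≫ b ≫ φ σ} := by
    intro σ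
    rw [isOpen_iff_forall_mem_open]
    rintro t ⟨O, htO, hO⟩
    exact ⟨O, fun t' ht' => ⟨O, ht', hO⟩, O.2, htO⟩
  obtain ⟨Tσ, hTσ⟩ : ∃ Tσ : G → T.left.Opens, ∀ σ (t : T.left), t ∈ Tσ σ ↔
      ∃ O : T.left.Opens, t ∈ O ∧ overOpenι T O ≫ a = overOpenι T O ≫ b ≫ φ σ :=
    ⟨fun σ => ⟨_, hopenT σ⟩, fun σ t => Iff.rfl⟩
  have hdisj : ∀ σ τ, σ ≠ τ → ∀ t : T.left, t ∈ Tσ σ → t ∈ Tσ τ → False := by
    intro σ τ hne t h1 h2
    obtain ⟨O₁, h1, e1⟩ := (hTσ σ t).1 h1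
    obtain ⟨O₂, h2, e2⟩ := (hTσ τ t).1 h2
    have e1' := eq_of_le (inf_le_left : O₁ ⊓ O₂ ≤ O₁) e1
    have e2' := eq_of_le (inf_le_right : O₁ ⊓ O₂ ≤ O₂) e2
    obtain ⟨z, hz⟩ := exists_lift_overOpen (O₁ ⊓ O₂) (Tuple.ptOverι T t) (fun y => by
      rw [show (Tuple.ptOverι T t).left y = t from T.left.fromSpecResidueField_apply t y]
      exact ⟨h1, h2⟩)
    obtain ⟨p, hp⟩ : ∃ p : Tuple.ptOver T t ⟶ T, p = Tuple.ptOverι T t := ⟨_, rfl⟩
    rw [← hp] at hz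
    have e3 : p ≫ b ≫ φ σ = p ≫ b ≫ φ τ := by
      rw [← hz, Category.assoc, Category.assoc, ← e1', e2']
    have e4 : (p ≫ b) ≫ φ (σ * τ⁻¹) = p ≫ b := by
      calc (p ≫ b) ≫ φ (σ * τ⁻¹) = (p ≫ b ≫ φ σ) ≫ φ τ⁻¹ := by rw [hφ.mul]; simp only [Category.assoc]
        _ = (p ≫ b ≫ φ τ) ≫ φ τ⁻¹ := by rw [e3]
        _ = (p ≫ b) ≫ φ (τ * τ⁻¹) := by rw [hφ.mul]; simp only [Category.assoc]
        _ = p ≫ b := by rw [mul_inv_cancel, hφ.one, Category.comp_id]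
    have hne' : σ * τ⁻¹ ≠ 1 := fun e => hne (mul_inv_eq_one.1 e)
    exact hφ.free _ hne' (T.left.residueField t) (p ≫ b).left (congrArg CommaMorphism.left e4)
  have hopen : ∀ σ, IsOpenImmersion (overOpenι T (Tσ σ)).left := fun σ => by
    change IsOpenImmersion (Tσ σ).ι
    infer_instance
  obtain ⟨hc⟩ := isColimit_cofan_yon_of_disjoint_open_cover (fun σ => overOpen T (Tσ σ))
    (fun σ => overOpenι T (Tσ σ)) hopen
    (fun x => by
      obtain ⟨O, hxO, σ, hσ⟩ := h x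
      exact ⟨σ, ⟨x, (hTσ σ x).2 ⟨O, hxO, hσ⟩⟩, rfl⟩)
    (fun σ τ hne => by
      rw [Set.disjoint_left]
      rintro _ ⟨y, rfl⟩ ⟨y', hy'⟩
      exact hdisj σ τ hne ((overOpenι T (Tσ σ)).left y) y.2 (by rw [← hy']; exact y'.2))
  obtain ⟨r, hr⟩ : ∃ r : T ⟶ E, ∀ σ, overOpenι T (Tσ σ) ≫ r = overOpenι T (Tσ σ) ≫ b ≫ ι σ := by
    refine ⟨(yon S).preimage (Cofan.IsColimit.desc hc
      (fun σ => (yon S).map (overOpenι T (Tσ σ) ≫ b ≫ ι σ))), fun σ => ?_⟩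
    apply (yon S).map_injective
    rw [Functor.map_comp, Functor.map_preimage]
    exact Cofan.IsColimit.fac hc _ σ
  have key : ∀ x : T.left, ∃ O : T.left.Opens, x ∈ O ∧ ∃ σ : G,
      overOpenι T O ≫ a = overOpenι T O ≫ b ≫ φ σ ∧ overOpenι T O ≫ r = overOpenι T O ≫ b ≫ ι σ := by
    intro x
    obtain ⟨O, htO, σ, hσ⟩ := h x
    refine ⟨O, htO, σ, hσ, ?_⟩
    obtain ⟨ℓ, hℓ⟩ := exists_lift_overOpen (Tσ σ) (overOpenι T O) (fun y => (hTσ σ _).2 ⟨O, y.2, hσ⟩)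
    rw [← hℓ, Category.assoc, hr, Category.assoc]
  refine ⟨r, ?_, ?_⟩
  · apply Tuple.over_hom_ext_of_forall
    intro x
    obtain ⟨O, htO, σ, h1, h2⟩ := key x
    refine ⟨O, htO, ?_⟩
    rw [← Category.assoc, h2, Category.assoc, Category.assoc, hm.ι_t, h1]
  · apply Tuple.over_hom_ext_of_forall
    intro x
    obtain ⟨O, htO, σ, h1, h2⟩ := key x
    refine ⟨O, htO, ?_⟩
    rw [← Category.assoc, h2, Category.assoc, Category.assoc, hm.ι_s, Category.comp_id]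

theorem rel_iff_locConj (hφ : IsFreeAct φ) (hm : IsModel φ ι s t) {T : Over S} (a b : T ⟶ W) :
    (∃ r : T ⟶ E, r ≫ t = a ∧ r ≫ s = b) ↔ LocConj φ b a := by
  constructor
  · rintro ⟨r, rfl, rfl⟩
    exact locConj_of_rel hm r
  · exact exists_rel_of_locConj hφ hm a b

theorem equivalence_rel (hφ : IsFreeAct φ) (hm : IsModel φ ι s t) (T : Over S) :
    _root_.Equivalence (fun a b : T ⟶ W => ∃ r : T ⟶ E, r ≫ t = a ∧ r ≫ s = b) := by
  refine ⟨fun a => ?_, fun {a b} hab => ?_, fun {a b c} hab hbc => ?_⟩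
  · exact (rel_iff_locConj hφ hm a a).2 (LocConj.refl hφ a)
  · exact (rel_iff_locConj hφ hm b a).2 (((rel_iff_locConj hφ hm a b).1 hab).symm hφ)
  · exact (rel_iff_locConj hφ hm a c).2
      (((rel_iff_locConj hφ hm b c).1 hbc).trans hφ ((rel_iff_locConj hφ hm a b).1 hab))

/-- A `T`-point of the relation scheme is determined by its two images. -/
theorem injective_rel (hφ : IsFreeAct φ) (hm : IsModel φ ι s t) {T : Over S} (r r' : T ⟶ E)
    (h1 : r ≫ t = r' ≫ t) (h2 : r ≫ s = r' ≫ s) : r = r' := by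
  apply Tuple.over_hom_ext_of_forall
  intro x
  obtain ⟨σ, hσ⟩ := hm.cover (r.left x)
  obtain ⟨σ', hσ'⟩ := hm.cover (r'.left x)
  have io : IsOpenImmersion (ι σ).left := hm.isOpen σ
  have io' : IsOpenImmersion (ι σ').left := hm.isOpen σ'
  obtain ⟨O, hO⟩ : ∃ O : T.left.Opens,
      O = r.left ⁻¹ᵁ (ι σ).left.opensRange ⊓ r'.left ⁻¹ᵁ (ι σ').left.opensRange := ⟨_, rfl⟩
  have hxO : x ∈ O := by rw [hO]; exact ⟨hσ, hσ'⟩
  have hOmem : ∀ y : T.left, y ∈ O →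
      r.left y ∈ Set.range (ι σ).left ∧ r'.left y ∈ Set.range (ι σ').left := by
    intro y hy
    rw [hO] at hy
    exact hy
  refine ⟨O, hxO, ?_⟩
  obtain ⟨ℓ, hℓ⟩ := GlueRep.exists_lift_of_range_subset (ι σ) (overOpenι T O ≫ r) (by
    rintro _ ⟨z, rfl⟩
    exact (hOmem _ z.2).1)
  obtain ⟨ℓ', hℓ'⟩ := GlueRep.exists_lift_of_range_subset (ι σ') (overOpenι T O ≫ r') (by
    rintro _ ⟨z, rfl⟩
    exact (hOmem _ z.2).2)
  have e1 : ℓ = ℓ' := by
    have a1 : ℓ = overOpenι T O ≫ r ≫ s := by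
      rw [← Category.assoc, ← hℓ, Category.assoc, hm.ι_s, Category.comp_id]
    have a2 : ℓ' = overOpenι T O ≫ r' ≫ s := by
      rw [← Category.assoc, ← hℓ', Category.assoc, hm.ι_s, Category.comp_id]
    rw [a1, a2, h2]
  have e2 : ℓ ≫ φ σ = ℓ ≫ φ σ' := by
    have a1 : ℓ ≫ φ σ = overOpenι T O ≫ r ≫ t := by
      rw [← Category.assoc, ← hℓ, Category.assoc, hm.ι_t]
    have a2 : ℓ' ≫ φ σ' = overOpenι T O ≫ r' ≫ t := by
      rw [← Category.assoc, ← hℓ', Category.assoc, hm.ι_t]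
    rw [a1, h1, ← a2, e1]
  have e3 : σ = σ' := by
    by_contra hne
    obtain ⟨xO, -⟩ : ∃ xO : ↥(overOpen T O).left, True := ⟨⟨x, hxO⟩, trivial⟩
    obtain ⟨p, hp⟩ : ∃ p : Tuple.ptOver (overOpen T O) xO ⟶ overOpen T O,
        p = Tuple.ptOverι (overOpen T O) xO := ⟨_, rfl⟩
    have e4 : (p ≫ ℓ) ≫ φ (σ * σ'⁻¹) = p ≫ ℓ := by
      calc (p ≫ ℓ) ≫ φ (σ * σ'⁻¹) = p ≫ (ℓ ≫ φ σ) ≫ φ σ'⁻¹ := by
            rw [hφ.mul]; simp only [Category.assoc]
        _ = p ≫ (ℓ ≫ φ σ') ≫ φ σ'⁻¹ := by rw [e2]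
        _ = (p ≫ ℓ) ≫ φ (σ' * σ'⁻¹) := by rw [hφ.mul]; simp only [Category.assoc]
        _ = p ≫ ℓ := by rw [mul_inv_cancel, hφ.one, Category.comp_id]
    have hne' : σ * σ'⁻¹ ≠ 1 := fun e => hne (mul_inv_eq_one.1 e)
    exact hφ.free _ hne' ((overOpen T O).left.residueField xO) (p ≫ ℓ).left
      (congrArg CommaMorphism.left e4)
  rw [← hℓ, ← hℓ', e1, e3]

section Coproduct

variable {J : Type u} (Wf : J → Over S)

/-- The coproduct in `Over S` of a family of schemes over `S`. -/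
noncomputable def sigmaOver : Over S :=
  Over.mk (Sigma.desc (fun j => (Wf j).hom) : (∐ fun j => (Wf j).left) ⟶ S)

/-- The inclusions into the coproduct. -/
noncomputable def sigmaOverι (j : J) : Wf j ⟶ sigmaOver Wf :=
  Over.homMk (Sigma.ι (fun j => (Wf j).left) j) (by simp [sigmaOver])

theorem nonempty_isColimit_sigmaOver :
    Nonempty (IsColimit (Cofan.mk (sigmaOver Wf) (sigmaOverι Wf))) := by
  refine ⟨Cofan.IsColimit.mk _ (fun d => Over.homMk (Sigma.desc fun j => (d.inj j).left) ?_) ?_ ?_⟩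
  · apply Sigma.hom_ext
    intro j
    have := Over.w (d.inj j)
    simpa [sigmaOver] using this
  · intro d j
    ext1
    exact Sigma.ι_desc _ _
  · intro d m hm
    ext1
    apply Sigma.hom_ext
    intro j
    have h : Sigma.ι (fun j => (Wf j).left) j ≫ m.left = (d.inj j).left :=
      congrArg CommaMorphism.left (hm j)
    have h' : Sigma.ι (fun j => (Wf j).left) j ≫ (Sigma.desc fun j => (d.inj j).left) = (d.inj j).left :=
      Sigma.ι_desc _ _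
    exact h.trans h'.symm

variable {Wf}

/-- The injections of any coproduct cofan in `Over S` are open immersions that jointly cover. -/
theorem cofan_inj_props (c : Cofan Wf) (hc : IsColimit c) :
    (∀ j, IsOpenImmersion (c.inj j).left) ∧ (∀ x : c.pt.left, ∃ j, x ∈ Set.range (c.inj j).left) := by
  obtain ⟨hσ⟩ := nonempty_isColimit_sigmaOver Wf
  obtain ⟨e, he⟩ : ∃ e : sigmaOver Wf ≅ c.pt, ∀ j, sigmaOverι Wf j ≫ e.hom = c.inj j :=
    ⟨hσ.coconePointUniqueUpToIso hc, fun j => hσ.comp_coconePointUniqueUpToIso_hom hc ⟨j⟩⟩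
  have hiso : IsIso e.hom.left := by
    show IsIso ((Over.forget S).map e.hom)
    infer_instance
  have hleft : ∀ j, (c.inj j).left = Sigma.ι (fun j => (Wf j).left) j ≫ e.hom.left := fun j => by
    rw [← he j]
    rfl
  obtain ⟨g, hgiso, hg⟩ : ∃ g : (∐ fun j => (Wf j).left) ⟶ c.pt.left, IsIso g ∧
      ∀ j, (c.inj j).left = Sigma.ι (fun j => (Wf j).left) j ≫ g := ⟨e.hom.left, hiso, hleft⟩
  constructor
  · intro j
    rw [hg j]
    infer_instance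
  · intro x
    obtain ⟨j, y, hy⟩ := (sigmaOpenCover (fun j => (Wf j).left)).exists_eq ((inv g) x)
    refine ⟨j, y, ?_⟩
    have hy' : Sigma.ι (fun j => (Wf j).left) j y = (inv g) x := hy
    rw [hg j, Scheme.Hom.comp_apply, hy', ← Scheme.Hom.comp_apply, IsIso.inv_hom_id]
    rfl

end Coproduct

end Groth.Agent.Lib.Helper16.FreeRel
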