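import Mathlib

/-! Generalized Zariski lemma, prime form. -/

namespace Groth.Agent.Lib.Helper16.FtPt

/-- Generalized Zariski lemma: if a field `L` is a finitely generated algebra over a domain `D`
(injectively), then there is a nonzero `f : D` such that every prime of `D` not containing `f` is zero. -/
theorem exists_ne_zero_forall_prime_eq_bot {D L : Type*} [CommRing D] [IsDomain D] [Field L] [Algebra D L]
    [Algebra.FiniteType D L] (hinj : Function.Injective (algebraMap D L)) :
    ∃ f : D, f ≠ 0 ∧ ∀ q : Ideal D, q.IsPrime → f ∉ q → q = ⊥ := by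
  classical
  let K := FractionRing D
  let : Algebra K L := (IsFractionRing.lift hinj).toAlgebra
  have : IsScalarTower D K L :=
    IsScalarTower.of_algebraMap_eq (fun x => (IsFractionRing.lift_algebraMap hinj x).symm)
  have : Algebra.FiniteType K L := Algebra.FiniteType.of_restrictScalars_finiteType D K L
  have : Module.Finite K L := finite_of_finite_type_of_isJacobsonRing K L
  have : Algebra.IsAlgebraic K L := Algebra.IsAlgebraic.of_finite K L
  have : Algebra.IsAlgebraic D L := (IsFractionRing.comap_isAlgebraic_iff (A := D) (K := K) (C := L)).mpr inferInstance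
  obtain ⟨s, hs⟩ := (Algebra.FiniteType.out : (⊤ : Subalgebra D L).FG)
  obtain ⟨f, hf0, hf⟩ := Algebra.IsAlgebraic.exists_integral_multiples D s
  refine ⟨f, hf0, fun q hq hfq => ?_⟩
  -- localize
  let D' := Localization.Away f
  have hfu : IsUnit (algebraMap D L f) := by
    rw [isUnit_iff_ne_zero]
    exact fun h => hf0 (hinj (by rw [h, map_zero]))
  let : Algebra D' L := (IsLocalization.Away.lift f hfu).toAlgebra
  have : IsScalarTower D D' L :=
    IsScalarTower.of_algebraMap_eq (fun x => (IsLocalization.Away.lift_eq f hfu x).symm)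
  have hle : Submonoid.powers f ≤ nonZeroDivisors D :=
    Submonoid.powers_le.mpr (mem_nonZeroDivisors_of_ne_zero hf0)
  have hinj' : Function.Injective (algebraMap D' L) := by
    have : (algebraMap D' L) = IsLocalization.lift (M := Submonoid.powers f) (g := algebraMap D L)
        (fun y => by
          obtain ⟨n, hn⟩ := y.2
          rw [← hn, map_pow]; exact hfu.pow n) := rfl
    rw [this]
    rw [IsLocalization.lift_injective_iff]
    intro x y
    rw [hinj.eq_iff]
    exact (IsLocalization.injective D' hle).eq_iff
  -- integrality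
  have hint : Algebra.IsIntegral D' L := by
    have hgen : ∀ x ∈ s, IsIntegral D' x := by
      intro x hx
      have h1 : IsIntegral D' (f • x) := (hf x hx).tower_top
      have hfu' : IsUnit (algebraMap D D' f) := IsLocalization.Away.algebraMap_isUnit f
      obtain ⟨g, hg⟩ := hfu'.exists_left_inv
      have h2 : x = g • (f • x) := by
        rw [← algebraMap_smul D' f x, smul_smul, hg, one_smul]
      rw [h2]
      exact h1.smul g
    have htop : Algebra.adjoin D' (s : Set L) = ⊤ := by
      rw [← Algebra.adjoin_adjoin_of_tower (R := D) (S := D') (s : Set L), hs]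
      simp
    refine ⟨fun x => ?_⟩
    have hx : x ∈ Algebra.adjoin D' (s : Set L) := by rw [htop]; trivial
    exact IsIntegral.of_mem_of_fg _ (fg_adjoin_of_finite s.finite_toSet (fun x hx => hgen x hx)) x hx
  have hfield : IsField D' := isField_of_isIntegral_of_isField hinj' (Field.toIsField L)
  have hdisj : Disjoint (Submonoid.powers f : Set D) (q : Set D) := by
    rw [Set.disjoint_left]
    rintro x ⟨n, rfl⟩ hx
    exact hfq (hq.mem_of_pow_mem n hx)
  have hcm : Ideal.comap (algebraMap D D') (Ideal.map (algebraMap D D') q) = q :=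
    IsLocalization.under_map_of_isPrime_disjoint (Submonoid.powers f) D' hq hdisj
  have hprime : (Ideal.map (algebraMap D D') q).IsPrime :=
    IsLocalization.isPrime_of_isPrime_disjoint (Submonoid.powers f) D' q hq hdisj
  let := hfield.toField
  have hbot : Ideal.map (algebraMap D D') q = ⊥ := by
    rcases Ideal.eq_bot_or_top (Ideal.map (algebraMap D D') q) with h | h
    · exact h
    · exact absurd h hprime.ne_top
  rw [← hcm, hbot]
  rw [← RingHom.ker_eq_comap_bot, (RingHom.injective_iff_ker_eq_bot _).mp (IsLocalization.injective D' hle)]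

/-- Prime form for a ring map of finite type and a maximal ideal upstairs. -/
theorem exists_not_mem_forall_prime_eq {A B : Type*} [CommRing A] [CommRing B] (ψ : A →+* B)
    (hψ : ψ.FiniteType) (q : Ideal B) [hq : q.IsMaximal] :
    ∃ f : A, f ∉ q.comap ψ ∧
      ∀ q₁ : Ideal A, q₁.IsPrime → q.comap ψ ≤ q₁ → f ∉ q₁ → q₁ = q.comap ψ := by
  set p := q.comap ψ with hp
  let _ : Field (B ⧸ q) := Ideal.Quotient.field q
  have : (q.comap ψ).IsPrime := Ideal.comap_isPrime ψ q
  let g : A ⧸ p →+* B ⧸ q := Ideal.quotientMap q ψ le_rfl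
  have hginj : Function.Injective g := Ideal.quotientMap_injective
  have hgft : g.FiniteType := by
    have h1 : (g.comp (Ideal.Quotient.mk p)) = (Ideal.Quotient.mk q).comp ψ := by
      ext x; simp [g]
    have h2 : ((Ideal.Quotient.mk q).comp ψ).FiniteType :=
      (RingHom.FiniteType.of_surjective _ Ideal.Quotient.mk_surjective).comp hψ
    rw [← h1] at h2
    exact RingHom.FiniteType.of_comp_finiteType h2
  let _ : Algebra (A ⧸ p) (B ⧸ q) := g.toAlgebra
  have : Algebra.FiniteType (A ⧸ p) (B ⧸ q) := hgft
  obtain ⟨f', hf'0, hf'⟩ := exists_ne_zero_forall_prime_eq_bot (D := A ⧸ p) (L := B ⧸ q) hginj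
  obtain ⟨f, rfl⟩ := Ideal.Quotient.mk_surjective f'
  refine ⟨f, fun h => hf'0 (Ideal.Quotient.eq_zero_iff_mem.mpr h), fun q₁ hq₁ hle hfq₁ => ?_⟩
  have hker : RingHom.ker (Ideal.Quotient.mk p) ≤ q₁ := by rwa [Ideal.mk_ker]
  have hprime : (q₁.map (Ideal.Quotient.mk p)).IsPrime :=
    Ideal.map_isPrime_of_surjective Ideal.Quotient.mk_surjective hker
  have hcm : (q₁.map (Ideal.Quotient.mk p)).comap (Ideal.Quotient.mk p) = q₁ := by
    rw [Ideal.comap_map_of_surjective _ Ideal.Quotient.mk_surjective, ← RingHom.ker_eq_comap_bot]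
    exact sup_eq_left.mpr hker
  have hnot : Ideal.Quotient.mk p f ∉ q₁.map (Ideal.Quotient.mk p) := by
    intro h
    apply hfq₁
    rw [← hcm]
    exact h
  have hbot := hf' _ hprime hnot
  apply le_antisymm _ hle
  rw [← hcm, hbot, ← RingHom.ker_eq_comap_bot, Ideal.mk_ker]

open AlgebraicGeometry CategoryTheory CategoryTheory.Limits

universe u

/-- Affine case: the image of a closed point under a finite type map of spectra is closed in some basic
open. -/
theorem exists_away_isClosed_singleton {A B : CommRingCat.{u}} (φ : A ⟶ B) (hφ : φ.hom.FiniteType)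
    (w : Spec B) (hw : IsClosed ({w} : Set (Spec B))) :
    ∃ (f : A) (u' : Spec (.of (Localization.Away f))),
      Spec.map (CommRingCat.ofHom (algebraMap A (Localization.Away f))) u' = Spec.map φ w ∧
        IsClosed ({u'} : Set (Spec (.of (Localization.Away f)))) := by
  have hmax : w.asIdeal.IsMaximal := (PrimeSpectrum.isClosed_singleton_iff_isMaximal w).mp hw
  obtain ⟨f, hfp, hf⟩ := exists_not_mem_forall_prime_eq φ.hom hφ w.asIdeal
  set p := w.asIdeal.comap φ.hom with hp
  have hpprime : p.IsPrime := Ideal.comap_isPrime _ _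
  have hdisj : Disjoint (Submonoid.powers f : Set A) (p : Set A) := by
    rw [Set.disjoint_left]
    rintro x ⟨n, rfl⟩ hx
    exact hfp (hpprime.mem_of_pow_mem n hx)
  have hcm : Ideal.comap (algebraMap A (Localization.Away f)) (Ideal.map (algebraMap A (Localization.Away f)) p) = p :=
    IsLocalization.under_map_of_isPrime_disjoint (Submonoid.powers f) _ hpprime hdisj
  have hprime : (Ideal.map (algebraMap A (Localization.Away f)) p).IsPrime :=
    IsLocalization.isPrime_of_isPrime_disjoint (Submonoid.powers f) _ p hpprime hdisj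
  refine ⟨f, ⟨Ideal.map (algebraMap A (Localization.Away f)) p, hprime⟩, ?_, ?_⟩
  · rw [Spec.map_apply, Spec.map_apply]
    apply PrimeSpectrum.ext
    exact hcm
  · refine (PrimeSpectrum.isClosed_singleton_iff_isMaximal
      (R := Localization.Away f) ⟨Ideal.map (algebraMap A (Localization.Away f)) p, hprime⟩).mpr ?_
    show (Ideal.map (algebraMap A (Localization.Away f)) p).IsMaximal
    obtain ⟨M, hM, hle⟩ := Ideal.exists_le_maximal _ hprime.ne_top
    have hMp : M.IsPrime := hM.isPrime
    have h1 : p ≤ M.comap (algebraMap A (Localization.Away f)) := by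
      rw [← hcm]; exact Ideal.comap_mono hle
    have h2 : f ∉ M.comap (algebraMap A (Localization.Away f)) := by
      intro h
      have hu : IsUnit (algebraMap A (Localization.Away f) f) := IsLocalization.Away.algebraMap_isUnit f
      exact hM.ne_top (Ideal.eq_top_of_isUnit_mem _ h hu)
    have h3 := hf _ (Ideal.comap_isPrime _ M) h1 h2
    have h4 : Ideal.map (algebraMap A (Localization.Away f)) (M.comap (algebraMap A (Localization.Away f))) = M :=
      IsLocalization.map_under (Submonoid.powers f) _ M
    rw [h3] at h4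
    rw [h4]; exact hM

theorem exists_isOpenImmersion_isClosed_singleton_Spec {A B : CommRingCat.{u}} (φ : A ⟶ B)
    (hφ : φ.hom.FiniteType) (w : Spec B) (hw : IsClosed ({w} : Set (Spec B))) :
    ∃ (U' : Scheme.{u}) (j : U' ⟶ Spec A) (_ : IsOpenImmersion j) (u' : U'),
      j u' = Spec.map φ w ∧ IsClosed ({u'} : Set U') := by
  obtain ⟨f, u', hu', hcl⟩ := exists_away_isClosed_singleton φ hφ w hw
  exact ⟨_, Spec.map (CommRingCat.ofHom (algebraMap A (Localization.Away f))), inferInstance, u', hu', hcl⟩

/-- The image of a closed point under a morphism locally of finite type is a closed point of some open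
subscheme. -/
theorem exists_isOpenImmersion_isClosed_singleton {W U : Scheme.{u}} (h : W ⟶ U) [LocallyOfFiniteType h]
    (w : W) (hw : IsClosed ({w} : Set W)) :
    ∃ (U' : Scheme.{u}) (j : U' ⟶ U) (_ : IsOpenImmersion j) (u' : U'),
      j u' = h w ∧ IsClosed ({u'} : Set U') := by
  obtain ⟨i, u₀, hu₀⟩ := U.affineCover.exists_eq (h w)
  obtain ⟨w₁, hw₁, hw₁'⟩ := Scheme.Pullback.exists_preimage_pullback (f := h) (g := U.affineCover.f i) w u₀
    hu₀.symm
  obtain ⟨i', w₂, hw₂⟩ := (pullback h (U.affineCover.f i)).affineCover.exists_eq w₁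
  set e := (pullback h (U.affineCover.f i)).affineCover.f i' with he
  have hcl₂ : IsClosed ({w₂} : Set ((pullback h (U.affineCover.f i)).affineCover.X i')) := by
    have h1 : ({w₂} : Set _) = (e ≫ pullback.fst h (U.affineCover.f i)) ⁻¹' {w} := by
      ext x
      simp only [Set.mem_singleton_iff, Set.mem_preimage]
      constructor
      · rintro rfl
        rw [Scheme.Hom.comp_apply, hw₂, hw₁]
      · intro hx
        apply (e ≫ pullback.fst h (U.affineCover.f i)).isOpenEmbedding.injective
        rw [hx, Scheme.Hom.comp_apply, hw₂, hw₁]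
    rw [h1]
    exact hw.preimage (e ≫ pullback.fst h (U.affineCover.f i)).continuous
  let g : (pullback h (U.affineCover.f i)).affineCover.X i' ⟶ U.affineCover.X i :=
    e ≫ pullback.snd h (U.affineCover.f i)
  have hg : LocallyOfFiniteType g := inferInstance
  have hg' : (Spec.preimage g).hom.FiniteType := by
    rw [← HasRingHomProperty.Spec_iff (P := @LocallyOfFiniteType), Spec.map_preimage]
    exact hg
  obtain ⟨U', j, hj, u', hu', hcl⟩ :=
    exists_isOpenImmersion_isClosed_singleton_Spec (Spec.preimage g) hg' w₂ hcl₂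
  have : IsOpenImmersion (U.affineCover.f i) := inferInstance
  refine ⟨U', j ≫ U.affineCover.f i,
    MorphismProperty.comp_mem (W := @IsOpenImmersion) j (U.affineCover.f i) hj this, u', ?_, hcl⟩
  rw [Scheme.Hom.comp_apply, hu', Spec.map_preimage]
  show (U.affineCover.f i) ((e ≫ pullback.snd h (U.affineCover.f i)) w₂) = h w
  rw [Scheme.Hom.comp_apply, hw₂, hw₁', hu₀]

end Groth.Agent.Lib.Helper16.FtPt
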