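import Groth.Prelude.Def_W4c5qcohlocdualityLoc
import Mathlib

/-!
# Helper16: the localizing closure of a class of objects in a Grothendieck abelian category

`X ∈ locClosure P` iff `0 ⟶ X` is a transfinite composition of monomorphisms whose cokernels are
subquotients of coproducts of objects of `P`.
-/

set_option autoImplicit false
universe w v u
open CategoryTheory CategoryTheory.Limits ZeroObject

namespace Groth.Agent.Lib.Helper16.GabLocTC

variable {C : Type u} [Category.{v} C] [Abelian C] [IsGrothendieckAbelian.{w} C]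
  (P : ObjectProperty C)

/-- subquotients of coproducts of objects of `P` -/
abbrev sqc : ObjectProperty C := GabLoc.subquotCoprod.{w} P

lemma sqc_of_P {X : C} (hX : P X) : sqc.{w} P X := by
  have h : Sigma.ι (fun _ : PUnit.{w+1} => X) PUnit.unit ≫ Sigma.desc (fun _ => 𝟙 X) = 𝟙 X := by simp
  haveI : Epi (Sigma.ι (fun _ : PUnit.{w+1} => X) PUnit.unit ≫ Sigma.desc (fun _ => 𝟙 X)) := by
    rw [h]; infer_instance
  exact ⟨PUnit.{w+1}, fun _ => X, fun _ => hX, ∐ (fun _ : PUnit.{w+1} => X), 𝟙 _,
    Sigma.desc (fun _ => 𝟙 X), inferInstance,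
    epi_of_epi (Sigma.ι (fun _ : PUnit.{w+1} => X) PUnit.unit) _⟩

lemma sqc_of_epi {A A' : C} (q : A ⟶ A') [Epi q] (hA : sqc.{w} P A) : sqc.{w} P A' := by
  obtain ⟨J, X, hX, B, i, p, hi, hp⟩ := hA
  haveI := hp
  exact ⟨J, X, hX, B, i, p ≫ q, hi, epi_comp p q⟩

lemma sqc_of_mono {A A' : C} (m : A' ⟶ A) [Mono m] (hA : sqc.{w} P A) : sqc.{w} P A' := by
  obtain ⟨J, X, hX, B, i, p, hi, hp⟩ := hA
  haveI := hi
  haveI := hp
  exact ⟨J, X, hX, pullback p m, pullback.fst p m ≫ i, pullback.snd p m, mono_comp _ _,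
    Abelian.epi_pullback_of_epi_f p m⟩

lemma sqc_of_isZero {Z : C} (hZ : IsZero Z) : sqc.{w} P Z :=
  ⟨PEmpty.{w+1}, fun e => e.elim, fun e => e.elim, Z, 0, 𝟙 Z,
    ⟨fun g h _ => hZ.eq_of_tgt g h⟩, inferInstance⟩

/-- Every nonzero subquotient has a nonzero subobject which is a subquotient of a coproduct of objects
of `P`. -/
def Q : ObjectProperty C := fun X =>
  ∀ (B S : C) (i : B ⟶ X) (p : B ⟶ S), Mono i → Epi p → ¬ IsZero S →
    ∃ (A : C) (a : A ⟶ S), Mono a ∧ ¬ IsZero A ∧ sqc.{w} P A

lemma Q_of_mono {X X' : C} (m : X' ⟶ X) [Mono m] (h : Q.{w} P X) : Q.{w} P X' :=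
  fun B S i p hi hp hS => h B S (i ≫ m) p (by haveI := hi; exact mono_comp i m) hp hS

lemma Q_of_epi {X X'' : C} (π : X ⟶ X'') [Epi π] (h : Q.{w} P X) : Q.{w} P X'' := by
  intro B S i p hi hp hS
  haveI := hi
  haveI := hp
  haveI := Abelian.epi_pullback_of_epi_g i π
  exact h (pullback i π) S (pullback.snd i π) (pullback.fst i π ≫ p) inferInstance
    (epi_comp _ _) hS

lemma Q_of_isZero {X : C} (hX : IsZero X) : Q.{w} P X := by
  intro B S i p hi hp hS
  exfalso
  haveI := hi
  haveI := hp
  have hB : IsZero B := by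
    rw [IsZero.iff_id_eq_zero, ← cancel_mono i]
    exact hX.eq_of_tgt _ _
  exact hS (by rw [IsZero.iff_id_eq_zero, ← cancel_epi p]; exact hB.eq_of_src _ _)

lemma Q_of_P {X : C} (hX : P X) : Q.{w} P X := by
  intro B S i p hi hp hS
  haveI := hi
  haveI := hp
  exact ⟨S, 𝟙 S, inferInstance, hS, sqc_of_epi P p (sqc_of_mono P i (sqc_of_P P hX))⟩

lemma not_isZero_image {X Y : C} (φ : X ⟶ Y) (hφ : φ ≠ 0) : ¬ IsZero (image φ) := fun hz =>
  hφ (by rw [← image.fac φ, hz.eq_of_tgt (factorThruImage φ) 0, zero_comp])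

lemma Q_ext {S : ShortComplex C} (hS : S.ShortExact) (h₁ : Q.{w} P S.X₁) (h₃ : Q.{w} P S.X₃) :
    Q.{w} P S.X₂ := by
  intro B T i p hi hp hT
  haveI := hi
  haveI := hp
  haveI := hS.mono_f
  haveI := hS.epi_g
  have hj : (kernel.ι (i ≫ S.g) ≫ i) ≫ S.g = 0 := by
    rw [Category.assoc]; exact kernel.condition _
  have hk : hS.exact.lift (kernel.ι (i ≫ S.g) ≫ i) hj ≫ S.f = kernel.ι (i ≫ S.g) ≫ i :=
    hS.exact.lift_f _ _
  haveI : Mono (hS.exact.lift (kernel.ι (i ≫ S.g) ≫ i) hj) := by
    haveI : Mono (hS.exact.lift (kernel.ι (i ≫ S.g) ≫ i) hj ≫ S.f) := by rw [hk]; infer_instance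
    exact mono_of_mono _ S.f
  by_cases hφ : kernel.ι (i ≫ S.g) ≫ p = 0
  · have hp' : Abelian.coimage.π (i ≫ S.g) ≫ cokernel.desc (kernel.ι (i ≫ S.g)) p hφ = p :=
      cokernel.π_desc _ _ _
    haveI : Epi (cokernel.desc (kernel.ι (i ≫ S.g)) p hφ) := by
      haveI : Epi (Abelian.coimage.π (i ≫ S.g) ≫ cokernel.desc (kernel.ι (i ≫ S.g)) p hφ) := by
        rw [hp']; infer_instance
      exact epi_of_epi (Abelian.coimage.π (i ≫ S.g)) _
    exact h₃ _ T (Abelian.factorThruCoimage (i ≫ S.g)) (cokernel.desc (kernel.ι (i ≫ S.g)) p hφ)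
      inferInstance inferInstance hT
  · obtain ⟨A, a, ha, hA, hsq⟩ := h₁ _ (image (kernel.ι (i ≫ S.g) ≫ p))
      (hS.exact.lift (kernel.ι (i ≫ S.g) ≫ i) hj) (factorThruImage _) inferInstance inferInstance
      (not_isZero_image _ hφ)
    haveI := ha
    exact ⟨A, a ≫ image.ι _, mono_comp _ _, hA, hsq⟩

instance : (Q.{w} P).ContainsZero := ⟨⟨0, isZero_zero C, Q_of_isZero P (isZero_zero C)⟩⟩
instance : (Q.{w} P).IsClosedUnderSubobjects := ⟨fun f _ h => Q_of_mono P f h⟩
instance : (Q.{w} P).IsClosedUnderQuotients := ⟨fun f _ h => Q_of_epi P f h⟩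
instance : (Q.{w} P).IsClosedUnderExtensions := ⟨fun hS h₁ h₃ => Q_ext P hS h₁ h₃⟩
instance : (Q.{w} P).IsSerreClass where

instance : (Q.{w} P).IsClosedUnderBinaryCoproducts := by
  refine ObjectProperty.IsClosedUnderColimitsOfShape.mk' ?_
  rintro _ ⟨F, hF⟩
  exact (Q.{w} P).prop_of_iso
    ((biprod.isoCoprod _ _) ≪≫ (HasColimit.isoOfNatIso (diagramIsoPair F)).symm)
    ((Q.{w} P).prop_biprod (hF ⟨WalkingPair.left⟩) (hF ⟨WalkingPair.right⟩))

lemma zero_of_pullback_snd_zero {J : Type*} [Category J] [IsConnected J] [HasColimitsOfShape J C]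
    [HasExactColimitsOfShape J C] {F : J ⥤ C} {c : Cocone F} (hc : IsColimit c) {B T : C}
    (f : B ⟶ c.pt) (p : B ⟶ T) (h : ∀ j, pullback.snd (c.ι.app j) f ≫ p = 0) : p = 0 := by
  refine (hc.pullbackOfHasExactColimitsOfShape f).hom_ext (fun j => ?_)
  rw [← cancel_epi (pullbackObjIso _ _ _).inv]
  simpa using h j

attribute [local instance] IsFiltered.isConnected

lemma Q_coproduct {J : Type w} (X : J → C) (hX : ∀ j, Q.{w} P (X j)) : Q.{w} P (∐ X) := by
  intro B T i p hi hp hT
  haveI := hp
  haveI : (Q.{w} P).IsClosedUnderFiniteCoproducts :=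
    ObjectProperty.IsClosedUnderFiniteCoproducts.mk'
  haveI : HasExactColimitsOfShape (Finset (Discrete J)) C := AB5OfSize.ofShape.{w, w} _
  have hc : IsColimit (CoproductsFromFiniteFiltered.finiteSubcoproductsCocone X) :=
    CoproductsFromFiniteFiltered.isColimitFiniteSubproductsCocone X
  let i' : B ⟶ (CoproductsFromFiniteFiltered.finiteSubcoproductsCocone X).pt := i
  haveI : Mono i' := hi
  have hp0 : p ≠ 0 := fun h0 => hT (by
    rw [IsZero.iff_id_eq_zero, ← cancel_epi p, h0]; simp)
  obtain ⟨s, hs⟩ : ∃ s, pullback.snd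
      ((CoproductsFromFiniteFiltered.finiteSubcoproductsCocone X).ι.app s) i' ≫ p ≠ 0 := by
    by_contra hcon
    push_neg at hcon
    exact hp0 (zero_of_pullback_snd_zero hc i' p hcon)
  have hQs : Q.{w} P (∐ fun x : s => (Discrete.functor X).obj x) :=
    (Q.{w} P).prop_coproduct (fun x => hX x.1.as)
  have hfm : Mono (pullback.fst
      ((CoproductsFromFiniteFiltered.finiteSubcoproductsCocone X).ι.app s) i') := inferInstance
  obtain ⟨A, a, ha, hA, hsq⟩ := hQs _ (image (pullback.snd
      ((CoproductsFromFiniteFiltered.finiteSubcoproductsCocone X).ι.app s) i' ≫ p))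
    (pullback.fst ((CoproductsFromFiniteFiltered.finiteSubcoproductsCocone X).ι.app s) i')
    (factorThruImage _) hfm inferInstance (not_isZero_image _ hs)
  haveI := ha
  exact ⟨A, a ≫ image.ι _, mono_comp _ _, hA, hsq⟩

instance (J : Type w) : (Q.{w} P).IsClosedUnderColimitsOfShape (Discrete J) := by
  refine ObjectProperty.IsClosedUnderColimitsOfShape.mk' ?_
  rintro _ ⟨F, hF⟩
  exact (Q.{w} P).prop_of_iso (HasColimit.isoOfNatIso (Discrete.natIsoFunctor (F := F))).symm
    (Q_coproduct P _ (fun j => hF ⟨j⟩))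

lemma Q_isLocalizing : GabLoc.IsLocalizing.{w} (Q.{w} P) := ⟨inferInstance, fun _ => inferInstance⟩

/-! ### The filtration -/

lemma exists_larger {X : C} (hX : Q.{w} P X) (A : Subobject X) (hA : A ≠ ⊤) :
    ∃ (A' : Subobject X) (h : A < A'),
      GabLoc.monoModSubquot.{w} P (Subobject.ofLE A A' h.le) := by
  have hcok : ¬ IsZero (cokernel A.arrow) := by
    intro hz
    haveI : Epi A.arrow := Preadditive.epi_of_isZero_cokernel A.arrow hz
    haveI : IsIso A.arrow := isIso_of_mono_of_epi _
    exact hA ((Subobject.isIso_arrow_iff_eq_top A).1 inferInstance)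
  obtain ⟨S, a, ha, hS, hsq⟩ := hX X (cokernel A.arrow) (𝟙 X) (cokernel.π A.arrow)
    inferInstance inferInstance hcok
  haveI := ha
  haveI hsndepi : Epi (pullback.snd (cokernel.π A.arrow) a) :=
    Abelian.epi_pullback_of_epi_f (cokernel.π A.arrow) a
  haveI hfstmono : Mono (pullback.fst (cokernel.π A.arrow) a) := inferInstance
  let l : (A : C) ⟶ pullback (cokernel.π A.arrow) a := pullback.lift A.arrow 0 (by simp)
  have hl₁ : l ≫ pullback.fst (cokernel.π A.arrow) a = A.arrow := pullback.lift_fst _ _ _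
  have hl₂ : l ≫ pullback.snd (cokernel.π A.arrow) a = 0 := pullback.lift_snd _ _ _
  haveI hlmono : Mono l := mono_of_mono_fac hl₁
  have hle : A ≤ Subobject.mk (pullback.fst (cokernel.π A.arrow) a) :=
    Subobject.le_mk_of_comm l hl₁
  have hne : A ≠ Subobject.mk (pullback.fst (cokernel.π A.arrow) a) := by
    intro heq
    have h1 : pullback.fst (cokernel.π A.arrow) a ≫ cokernel.π A.arrow = 0 := by
      have := Subobject.ofMkLE_arrow heq.ge
      rw [← this, Category.assoc, cokernel.condition, comp_zero]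
    have h2 : pullback.snd (cokernel.π A.arrow) a = 0 := by
      rw [← cancel_mono a, zero_comp, ← pullback.condition, h1]
    exact hS (by
      rw [IsZero.iff_id_eq_zero, ← cancel_epi (pullback.snd (cokernel.π A.arrow) a), h2]; simp)
  refine ⟨Subobject.mk (pullback.fst (cokernel.π A.arrow) a), lt_of_le_of_ne hle hne,
    inferInstance, ?_⟩
  have hlo : l ≫ (Subobject.underlyingIso (pullback.fst (cokernel.π A.arrow) a)).inv =
      Subobject.ofLE A (Subobject.mk (pullback.fst (cokernel.π A.arrow) a)) hle := by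
    rw [← cancel_mono (Subobject.mk (pullback.fst (cokernel.π A.arrow) a)).arrow, Category.assoc,
      Subobject.underlyingIso_arrow, hl₁, Subobject.ofLE_arrow]
  have hker : IsLimit (KernelFork.ofι l hl₂) :=
    KernelFork.IsLimit.ofι' l hl₂ (fun {Z} k hk => by
      have hk' : (k ≫ pullback.fst (cokernel.π A.arrow) a) ≫ cokernel.π A.arrow = 0 := by
        rw [Category.assoc, pullback.condition, reassoc_of% hk, zero_comp]
      refine ⟨Abelian.monoLift A.arrow (k ≫ pullback.fst (cokernel.π A.arrow) a) hk', ?_⟩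
      apply pullback.hom_ext
      · rw [Category.assoc, hl₁, Abelian.monoLift_comp]
      · rw [Category.assoc, hl₂, comp_zero, hk])
  have hcoker := Abelian.epiIsCokernelOfKernel (KernelFork.ofι l hl₂) hker
  obtain ⟨d, hd⟩ : { d : S ⟶ cokernel (Subobject.ofLE A
        (Subobject.mk (pullback.fst (cokernel.π A.arrow) a)) hle) //
      pullback.snd (cokernel.π A.arrow) a ≫ d =
        (Subobject.underlyingIso (pullback.fst (cokernel.π A.arrow) a)).inv ≫ cokernel.π _ } :=
    CokernelCofork.IsColimit.desc' hcoker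
      ((Subobject.underlyingIso (pullback.fst (cokernel.π A.arrow) a)).inv ≫ cokernel.π _)
      (show l ≫ _ = 0 by rw [reassoc_of% hlo, cokernel.condition])
  haveI : Epi d := epi_of_epi_fac hd
  exact sqc_of_epi P d hsq

open scoped Classical in
/-- a strictly larger subobject (or `⊤`) -/
noncomputable def largerSubobject {X : C} (hX : Q.{w} P X) (A : Subobject X) : Subobject X :=
  if hA : A = ⊤ then ⊤ else (exists_larger P hX A hA).choose

lemma largerSubobject_top {X : C} (hX : Q.{w} P X) :
    largerSubobject P hX (⊤ : Subobject X) = ⊤ := dif_pos rfl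

lemma lt_largerSubobject {X : C} (hX : Q.{w} P X) (A : Subobject X) (hA : A ≠ ⊤) :
    A < largerSubobject P hX A := by
  dsimp only [largerSubobject]
  rw [dif_neg hA]
  exact (exists_larger P hX A hA).choose_spec.choose

lemma le_largerSubobject {X : C} (hX : Q.{w} P X) (A : Subobject X) :
    A ≤ largerSubobject P hX A := by
  by_cases hA : A = ⊤
  · subst hA
    simp only [largerSubobject_top, le_refl]
  · exact (lt_largerSubobject P hX A hA).le

lemma W_of_eq {X : C} (A B : Subobject X) (h : A ≤ B) (h' : A = B) :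
    GabLoc.monoModSubquot.{w} P (Subobject.ofLE A B h) := by
  subst h'
  refine ⟨inferInstance, sqc_of_isZero P ?_⟩
  rw [Subobject.ofLE_refl]
  exact isZero_cokernel_of_epi _

lemma W_ofLE_largerSubobject {X : C} (hX : Q.{w} P X) (A : Subobject X) :
    GabLoc.monoModSubquot.{w} P (Subobject.ofLE _ _ (le_largerSubobject P hX A)) := by
  by_cases hA : A = ⊤
  · exact W_of_eq P _ _ _ (by rw [hA, largerSubobject_top])
  · have key : ∀ (B : Subobject X) (_ : (exists_larger P hX A hA).choose = B) (h : A ≤ B),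
        GabLoc.monoModSubquot.{w} P (Subobject.ofLE A B h) := by
      intro B hB h
      subst hB
      exact (exists_larger P hX A hA).choose_spec.choose_spec
    exact key _ (by unfold largerSubobject; rw [dif_neg hA]) _

section

variable {X : C} (hX : Q.{w} P X)

lemma top_mem_range (A₀ : Subobject X) {J : Type w} [LinearOrder J] [OrderBot J] [SuccOrder J]
    [WellFoundedLT J] (hJ : HasCardinalLT (Subobject X) (Cardinal.mk J)) :
    ∃ (j : J), transfiniteIterate (largerSubobject P hX) j A₀ = ⊤ :=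
  top_mem_range_transfiniteIterate (largerSubobject P hX) A₀ (lt_largerSubobject P hX)
    (largerSubobject_top P hX)
    (fun h ↦ by simpa [hasCardinalLT_iff_cardinal_mk_lt] using hJ.of_injective _ h)

lemma exists_ordinal (A₀ : Subobject X) :
    ∃ (o : Ordinal.{w}) (j : o.ToType), transfiniteIterate (largerSubobject P hX) j A₀ = ⊤ := by
  let κ := Order.succ (Cardinal.mk (Shrink.{w} (Subobject X)))
  have : Nonempty κ.ord.ToType := by simp [κ]
  have := WellFoundedLT.toOrderBot κ.ord.ToType
  exact ⟨κ.ord, top_mem_range P hX A₀ (lt_of_lt_of_le (Order.lt_succ _) (by simp [κ]))⟩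

section

variable (A₀ : Subobject X) (J : Type w) [LinearOrder J] [OrderBot J] [SuccOrder J]
  [WellFoundedLT J]

/-- the filtration as a functor to `MonoOver X` -/
@[simps]
noncomputable def functorToMonoOver : J ⥤ MonoOver X where
  obj j := MonoOver.mk (transfiniteIterate (largerSubobject P hX) j A₀).arrow
  map {j j'} f := MonoOver.homMk (Subobject.ofLE _ _
      (monotone_transfiniteIterate _ _ (le_largerSubobject P hX) (leOfHom f)))

/-- the filtration as a functor to `C` -/
noncomputable abbrev functor : J ⥤ C :=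
  functorToMonoOver P hX A₀ J ⋙ MonoOver.forget _ ⋙ Over.forget _

set_option backward.defeqAttrib.useBackward true in
instance : (functor P hX A₀ J).IsWellOrderContinuous where
  nonempty_isColimit m hm := ⟨by
    have := hm.nonempty_Iio.to_subtype
    let c := (Set.principalSegIio m).cocone (functorToMonoOver P hX A₀ J ⋙ MonoOver.forget _)
    have : Mono c.pt.hom := by dsimp [c]; infer_instance
    apply IsGrothendieckAbelian.isColimitMapCoconeOfSubobjectMkEqISup
      ((Set.principalSegIio m).monotone.functor ⋙ functorToMonoOver P hX A₀ J) c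
    dsimp [c]
    simp only [Subobject.mk_arrow]
    exact transfiniteIterate_limit (largerSubobject P hX) A₀ m hm⟩

set_option backward.isDefEq.respectTransparency.types false in
set_option backward.defeqAttrib.useBackward true in
variable {J} in
/-- the map from the bottom stage to stage `j` as a transfinite composition -/
noncomputable def tcMapFromBot (j : J) :
    (GabLoc.monoModSubquot.{w} P).TransfiniteCompositionOfShape (Set.Iic j)
    ((functor P hX A₀ J).map (homOfLE bot_le : ⊥ ⟶ j)) where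
  F := (Set.initialSegIic j).monotone.functor ⋙ functor P hX A₀ J
  isoBot := Iso.refl _
  incl :=
    { app k := (functor P hX A₀ J).map (homOfLE k.2)
      naturality k k' h := by simp [MonoOver.forget] }
  isColimit := colimitOfDiagramTerminal isTerminalTop _
  map_mem k hk := by
    dsimp [MonoOver.forget]
    convert!
      W_ofLE_largerSubobject P hX (transfiniteIterate (largerSubobject P hX) k.1 A₀) using 2
    all_goals
      rw [Set.Iic.succ_eq_of_not_isMax hk,
        transfiniteIterate_succ _ _ _ (Set.not_isMax_coe _ hk)]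

end

variable {A : C} {f : A ⟶ X} [Mono f]

set_option backward.defeqAttrib.useBackward true in
set_option backward.isDefEq.respectTransparency false in
/-- if the iteration reaches `⊤`, `f` is a transfinite composition -/
noncomputable def tcOfEqTop
    {J : Type w} [LinearOrder J] [OrderBot J] [SuccOrder J] [WellFoundedLT J] {j : J}
    (hj : transfiniteIterate (largerSubobject P hX) j (Subobject.mk f) = ⊤) :
    (GabLoc.monoModSubquot.{w} P).TransfiniteCompositionOfShape (Set.Iic j) f := by
  let t := transfiniteIterate (largerSubobject P hX) j (Subobject.mk f)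
  have := (Subobject.isIso_arrow_iff_eq_top t).2 hj
  apply (tcMapFromBot P hX (Subobject.mk f) j).ofArrowIso
  refine Arrow.isoMk ((Subobject.isoOfEq _ _ (transfiniteIterate_bot _ _) ≪≫
    Subobject.underlyingIso f)) (asIso t.arrow) ?_
  dsimp [MonoOver.forget]
  rw [Category.assoc, Subobject.underlyingIso_hom_comp_eq_mk, Subobject.ofLE_arrow,
    Subobject.ofLE_arrow]

end

lemma tc_of_Q {X : C} (hX : Q.{w} P X) :
    MorphismProperty.transfiniteCompositions.{w} (GabLoc.monoModSubquot.{w} P)
      (0 : (0 : C) ⟶ X) := by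
  haveI : Mono (0 : (0 : C) ⟶ X) := ⟨fun _ _ _ => (isZero_zero C).eq_of_tgt _ _⟩
  obtain ⟨o, j, hj⟩ := exists_ordinal P hX (Subobject.mk (0 : (0 : C) ⟶ X))
  have : Nonempty o.ToType := ⟨j⟩
  have : OrderBot o.ToType := WellFoundedLT.toOrderBot _
  rw [MorphismProperty.transfiniteCompositions_iff]
  exact ⟨_, _, _, _, _, ⟨tcOfEqTop P hX hj⟩⟩

/-! ### The converse -/

lemma epi_sigmaDesc_of_isColimit {K : Type*} [Category K] {G : K ⥤ C} {c : Cocone G}
    (hc : IsColimit c) [HasCoproduct (fun k => G.obj k)] :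
    Epi (Sigma.desc (fun k => c.ι.app k)) := by
  refine ⟨fun {Z} u v huv => hc.hom_ext (fun k => ?_)⟩
  have := Sigma.ι (fun k => G.obj k) k ≫= huv
  simpa using this

variable (Q' : ObjectProperty C)

lemma prop_of_isColimit_small (hQ' : GabLoc.IsLocalizing.{w} Q') {K : Type w} [Category K]
    {G : K ⥤ C} {c : Cocone G} (hc : IsColimit c) (hG : ∀ k, Q' (G.obj k)) : Q' c.pt := by
  haveI := hQ'.isSerreClass
  haveI := hQ'.isClosedUnderCoproducts K
  haveI := epi_sigmaDesc_of_isColimit hc
  exact Q'.prop_of_epi (Sigma.desc (fun k => c.ι.app k))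
    (Q'.prop_colimit (Discrete.functor fun k => G.obj k) (fun ⟨k⟩ => hG k))

lemma sqc_le (hQ' : GabLoc.IsLocalizing.{w} Q') (hPQ : P ≤ Q') {A : C} (hA : sqc.{w} P A) :
    Q' A := by
  obtain ⟨J, X, hX, B, i, p, hi, hp⟩ := hA
  haveI := hQ'.isSerreClass
  haveI := hQ'.isClosedUnderCoproducts J
  haveI := hi
  haveI := hp
  have h1 : Q' (∐ X) := Q'.prop_colimit (Discrete.functor X) (fun ⟨j⟩ => hPQ _ (hX j))
  exact Q'.prop_of_epi p (Q'.prop_of_mono i h1)

lemma Q'_stage (hQ' : GabLoc.IsLocalizing.{w} Q') (hPQ : P ≤ Q')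
    {J : Type w} [LinearOrder J] [SuccOrder J] [OrderBot J] [WellFoundedLT J] {X : C}
    (h : (GabLoc.monoModSubquot.{w} P).TransfiniteCompositionOfShape J (0 : (0 : C) ⟶ X))
    (j : J) : Q' (h.F.obj j) := by
  haveI := hQ'.isSerreClass
  induction j using SuccOrder.limitRecOn with
  | isMin a ha =>
    obtain rfl := ha.eq_bot
    exact Q'.prop_of_iso h.isoBot.symm Q'.prop_zero
  | succ a ha ih =>
    obtain ⟨hm, hsq⟩ := h.map_mem a ha
    have hS : (ShortComplex.mk (h.F.map (homOfLE (Order.le_succ a)))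
        (cokernel.π (h.F.map (homOfLE (Order.le_succ a)))) (cokernel.condition _)).ShortExact :=
      { exact := ShortComplex.exact_cokernel _
        mono_f := hm
        epi_g := inferInstanceAs (Epi (cokernel.π _)) }
    exact Q'.prop_X₂_of_shortExact hS ih (sqc_le P Q' hQ' hPQ hsq)
  | isSuccLimit a ha ih =>
    exact prop_of_isColimit_small Q' hQ' (h.F.isColimitOfIsWellOrderContinuous a ha)
      (fun k => ih k.1 k.2)

lemma Q'_of_tc (hQ' : GabLoc.IsLocalizing.{w} Q') (hPQ : P ≤ Q') {X : C}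
    (h : MorphismProperty.transfiniteCompositions.{w} (GabLoc.monoModSubquot.{w} P)
      (0 : (0 : C) ⟶ X)) : Q' X := by
  rw [MorphismProperty.transfiniteCompositions_iff] at h
  obtain ⟨J, _, _, _, _, ⟨h⟩⟩ := h
  exact prop_of_isColimit_small Q' hQ' h.isColimit (fun j => Q'_stage P Q' hQ' hPQ h j)

end Groth.Agent.Lib.Helper16.GabLocTC
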