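import Groth.Agent.Lib.Helper16.FreeRel
import Groth.Agent.Lib.Helper16.ValCrit5

/-!
# Helper library (helper16): Galois data of a field valued point of the quotient by a free action
-/

set_option autoImplicit false
universe u
open CategoryTheory CategoryTheory.Limits AlgebraicGeometry Opposite IsLocalRing

namespace Groth.Agent.Lib.Helper16.GaloisQuot

open AlgSp Groth.Agent.Lib.Helper16

/-- A relation between two groups which is the graph of an injective homomorphism `A ⟶ G`. -/
theorem exists_subgroup_mulEquiv {G A : Type*} [Group G] [Group A] (Rel : G → A → Prop)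
    (ha : ∀ τ, ∃ g, Rel g τ) (hb : ∀ g g' τ, Rel g τ → Rel g' τ → g = g')
    (hc : ∀ g τ τ', Rel g τ → Rel g τ' → τ = τ')
    (hmul : ∀ g₁ g₂ τ₁ τ₂, Rel g₁ τ₁ → Rel g₂ τ₂ → Rel (g₁ * g₂) (τ₁ * τ₂)) :
    ∃ (H : Subgroup G) (e : H ≃* A), ∀ h : H, Rel (h : G) (e h) := by
  choose f hf using ha
  have hfmul : ∀ a b, f (a * b) = f a * f b := fun a b =>
    hb _ _ _ (hf (a * b)) (hmul _ _ _ _ (hf a) (hf b))
  let F : A →* G := MonoidHom.mk' f hfmul
  have hFinj : Function.Injective F := by
    intro a b hab
    have hab' : f a = f b := hab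
    have h2 : Rel (f a) b := by rw [hab']; exact hf b
    exact hc _ _ _ (hf a) h2
  refine ⟨F.range, (MonoidHom.ofInjective hFinj).symm, ?_⟩
  intro h
  obtain ⟨a, ha'⟩ : ∃ a, (MonoidHom.ofInjective hFinj) a = h :=
    (MonoidHom.ofInjective hFinj).surjective h
  have h3 : (MonoidHom.ofInjective hFinj).symm h = a := by rw [← ha', MulEquiv.symm_apply_apply]
  rw [h3, ← ha']
  exact hf a

/-- A finite separable extension all of whose embeddings into any field differ by an endomorphism is Galois. -/
theorem isGalois_of_forall_ringHom (k k' : Type u) [Field k] [Field k'] [Algebra k k']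
    [FiniteDimensional k k'] [Algebra.IsSeparable k k']
    (H : ∀ (Ω : Type u) [Field Ω] (ι ψ : k' →+* Ω),
      ι.comp (algebraMap k k') = ψ.comp (algebraMap k k') →
      ∃ τ : k' →+* k', τ.comp (algebraMap k k') = algebraMap k k' ∧ ι.comp τ = ψ) : IsGalois k k' := by
  apply IsGalois.of_card_aut_eq_finrank
  have hcard : Nat.card (k' →ₐ[k] AlgebraicClosure k') = Module.finrank k k' :=
    AlgHom.natCard_of_splits k k' (AlgebraicClosure k') (fun _ => IsAlgClosed.splits _)
  rw [← hcard]
  obtain ⟨ι, hι⟩ : ∃ ι : k' →ₐ[k] AlgebraicClosure k', ι = IsScalarTower.toAlgHom k k' (AlgebraicClosure k') :=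
    ⟨_, rfl⟩
  have hιinj : Function.Injective ι := ι.toRingHom.injective
  refine Nat.card_congr (Equiv.ofBijective (fun τ : k' ≃ₐ[k] k' => ι.comp τ.toAlgHom) ⟨?_, ?_⟩)
  · intro τ τ' h
    ext a
    have h1 := DFunLike.congr_fun h a
    exact hιinj h1
  · intro ψ
    obtain ⟨τ, hτ1, hτ2⟩ := H (AlgebraicClosure k') ι.toRingHom ψ.toRingHom
      (RingHom.ext fun a => (ι.commutes a).trans (ψ.commutes a).symm)
    let τa : k' →ₐ[k] k' := { τ with commutes' := fun r => DFunLike.congr_fun hτ1 r }
    have hbij : Function.Bijective τa := AlgHom.bijective τa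
    refine ⟨AlgEquiv.ofBijective τa hbij, ?_⟩
    ext a
    exact DFunLike.congr_fun hτ2 a

/-- A morphism from the spectrum of a field factors through the residue field of its image point. -/
theorem exists_factor_fromSpecResidueField {X : Scheme.{u}} {K : Type u} [Field K]
    (z : Spec (CommRingCat.of K) ⟶ X) (y : X) (hz : z (closedPoint K) = y) :
    ∃ w : Spec (CommRingCat.of K) ⟶ Spec (X.residueField y), w ≫ X.fromSpecResidueField y = z := by
  subst hz
  exact ⟨Spec.map (Scheme.descResidueField (Scheme.stalkClosedPointTo z)),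
    Scheme.descResidueField_stalkClosedPointTo_fromSpecResidueField K X z⟩

/-- A point of a scheme etale over a field, packaged as a finite separable extension. -/
theorem exists_point_field {k : Type u} [Field k] {V : Scheme.{u}} (vl : V ⟶ Spec (CommRingCat.of k))
    [Etale vl] (y : V) :
    ∃ (k' : Type u) (_ : Field k') (_ : Algebra k k') (_ : FiniteDimensional k k')
      (_ : Algebra.IsSeparable k k') (y' : Spec (CommRingCat.of k') ⟶ V), Mono y' ∧
      y' ≫ vl = Spec.map (CommRingCat.ofHom (algebraMap k k')) ∧ (∀ z, y' z = y) ∧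
      ∀ (K : Type u) [Field K] (z : Spec (CommRingCat.of K) ⟶ V), z (closedPoint K) = y →
        ∃ w : Spec (CommRingCat.of K) ⟶ Spec (CommRingCat.of k'), w ≫ y' = z := by
  letI alg : Algebra k (V.residueField y) := (Spec.preimage (V.fromSpecResidueField y ≫ vl)).hom.toAlgebra
  obtain ⟨hfin, hsep⟩ := ValCrit.finite_separable_of_etale vl y
  refine ⟨V.residueField y, inferInstance, alg, hfin, hsep, V.fromSpecResidueField y, inferInstance, ?_, ?_, ?_⟩
  · show _ = Spec.map (CommRingCat.ofHom (Spec.preimage (V.fromSpecResidueField y ≫ vl)).hom)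
    rw [CommRingCat.ofHom_hom, Spec.map_preimage]
  · intro z
    exact Scheme.fromSpecResidueField_apply y z
  · intro K _ z hz
    exact exists_factor_fromSpecResidueField z y hz

end Groth.Agent.Lib.Helper16.GaloisQuot
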