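import Groth.Agent.Lib.Helper16.GaloisQuot

/-!
# Helper library (helper16): Galois data of a field valued point of the quotient by a free action, main theorem
-/

set_option autoImplicit false
universe u
open CategoryTheory CategoryTheory.Limits AlgebraicGeometry Opposite IsLocalRing

namespace Groth.Agent.Lib.Helper16.GaloisQuot

open AlgSp Groth.Agent.Lib.Helper16

set_option maxHeartbeats 1600000 in
theorem galois_data {S : Scheme.{u}} (U : Over S) (G : Type u) [Group G] (ρ : G →* Aut U)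
    (hfree : ∀ (g : G) (x : U.left), g ≠ 1 →
      U.left.fromSpecResidueField x ≫ (ρ g).hom.left ≠ U.left.fromSpecResidueField x)
    (c : Cofan (fun _ : G => U)) (hc : IsColimit c) (s t : c.pt ⟶ U)
    (hs : ∀ g, c.inj g ≫ s = 𝟙 U) (ht : ∀ g, c.inj g ≫ t = (ρ g).hom)
    {X : Sp S} (p : (yon S).obj U ⟶ X) (pres : IsPresentation s t p)
    (k : Type u) [Field k] (σ : Spec (CommRingCat.of k) ⟶ S) (ξ : (yon S).obj (Over.mk σ) ⟶ X) :
    ∃ (k' : Type u) (_ : Field k') (_ : Algebra k k') (_ : FiniteDimensional k k') (_ : IsGalois k k')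
      (H : Subgroup G) (_ : Finite H) (e : H ≃* (k' ≃ₐ[k] k'))
      (x' : Over.mk (Spec.map (CommRingCat.ofHom (algebraMap k k')) ≫ σ) ⟶ U),
      (∀ h : H, Spec.map (CommRingCat.ofHom (e h).symm.toRingEquiv.toRingHom) ≫ x'.left =
        x'.left ≫ (ρ (h : G)).hom.left) ∧
      (yon S).map x' ≫ p =
        (yon S).map (Over.homMk (Spec.map (CommRingCat.ofHom (algebraMap k k'))) :
          Over.mk (Spec.map (CommRingCat.ofHom (algebraMap k k')) ≫ σ) ⟶ Over.mk σ) ≫ ξ := by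
  obtain ⟨hopen, hcover⟩ := FreeRel.cofan_inj_props c hc
  have hρmul : ∀ a b : G, (ρ (a * b)).hom = (ρ b).hom ≫ (ρ a).hom := fun a b => by
    rw [map_mul]; rfl
  have hρone : (ρ 1).hom = 𝟙 U := by rw [map_one]; rfl
  have hρinv : ∀ a : G, (ρ a).hom ≫ (ρ a⁻¹).hom = 𝟙 U := fun a => by
    rw [← hρmul, inv_mul_cancel, hρone]
  obtain ⟨φ, hφdef⟩ : ∃ φ : G → (U ⟶ U), ∀ a, φ a = (ρ a⁻¹).hom := ⟨fun a => (ρ a⁻¹).hom, fun _ => rfl⟩
  have hφ : FreeRel.IsFreeAct φ := by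
    apply FreeRel.IsFreeAct.of_residue
    · rw [hφdef, inv_one, map_one]
      rfl
    · intro a b
      rw [hφdef, hφdef, hφdef, mul_inv_rev, map_mul]
      rfl
    · intro a ha x
      rw [hφdef]
      exact hfree a⁻¹ x (inv_ne_one.2 ha)
  have hfree' : ∀ g : G, g ≠ 1 → ∀ (K : Type u) [Field K] (x : Spec (CommRingCat.of K) ⟶ U.left),
      x ≫ (ρ g).hom.left ≠ x := by
    intro g hg K _ x
    have h := hφ.free g⁻¹ (inv_ne_one.2 hg) K x
    rwa [hφdef, inv_inv] at h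
  have hpinv : ∀ g : G, (yon S).map (ρ g).hom ≫ p = p := by
    intro g
    calc (yon S).map (ρ g).hom ≫ p = (yon S).map (c.inj g ≫ t) ≫ p := by rw [ht]
      _ = (yon S).map (c.inj g) ≫ (yon S).map t ≫ p := by rw [Functor.map_comp, Category.assoc]
      _ = (yon S).map (c.inj g) ≫ (yon S).map s ≫ p := by rw [pres.isPullback.w]
      _ = (yon S).map (c.inj g ≫ s) ≫ p := by rw [Functor.map_comp, Category.assoc]
      _ = p := by rw [hs, CategoryTheory.Functor.map_id, Category.id_comp]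
  have L1 : ∀ (T : Over S) (hT : ∀ z z' : T.left, z = z') (z₀ : T.left) (a₁ a₂ : T ⟶ U),
      (yon S).map a₂ ≫ p = (yon S).map a₁ ≫ p → ∃ g : G, a₂ = a₁ ≫ (ρ g).hom := by
    intro T hT z₀ a₁ a₂ h
    obtain ⟨r, hr⟩ := (yon S).map_surjective
      (pres.isPullback.lift ((yon S).map a₂) ((yon S).map a₁) h)
    have hrt : r ≫ t = a₂ := by
      apply (yon S).map_injective
      rw [Functor.map_comp, hr, IsPullback.lift_fst]
    have hrs : r ≫ s = a₁ := by
      apply (yon S).map_injective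
      rw [Functor.map_comp, hr, IsPullback.lift_snd]
    obtain ⟨g, hg⟩ := hcover (r.left z₀)
    haveI := hopen g
    obtain ⟨ℓ, hℓ⟩ := GlueRep.exists_lift_of_range_subset (c.inj g) r (by
      rintro _ ⟨z, rfl⟩
      rw [hT z z₀]
      exact hg)
    refine ⟨g, ?_⟩
    have e1 : a₁ = ℓ := by rw [← hrs, ← hℓ, Category.assoc, hs, Category.comp_id]
    have e2 : a₂ = ℓ ≫ (ρ g).hom := by rw [← hrt, ← hℓ, Category.assoc, ht]
    rw [e2, e1]
  obtain ⟨V, v, u₀, sq⟩ := pres.etale.rep ξ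
  obtain ⟨u, rfl⟩ := (yon S).map_surjective u₀
  have hve : Etale v.left := pres.etale.property _ _ _ sq
  have hvs : Surjective v.left := pres.surjective.property _ _ _ sq
  obtain ⟨vl, hvl⟩ : ∃ vl : V.left ⟶ Spec (CommRingCat.of k), vl = v.left := ⟨v.left, rfl⟩
  haveI : Etale vl := by rw [hvl]; exact hve
  haveI : Surjective vl := by rw [hvl]; exact hvs
  obtain ⟨y, -⟩ := vl.surjective (closedPoint k)
  obtain ⟨k', fk', alg, hfin, hsep, y', hmono, hq, hy', hfac⟩ := exists_point_field vl y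
  obtain ⟨q, hqdef⟩ : ∃ q : Spec (CommRingCat.of k') ⟶ Spec (CommRingCat.of k),
      q = Spec.map (CommRingCat.ofHom (algebraMap k k')) := ⟨_, rfl⟩
  rw [← hqdef] at hq
  haveI := hmono
  have hVhom : V.hom = vl ≫ σ := by rw [hvl]; exact (Over.w v).symm
  have hss : ∀ z z' : ↥(Spec (CommRingCat.of k')), z = z' := fun z z' =>
    @Subsingleton.elim _ (inferInstance : Subsingleton (PrimeSpectrum k')) z z'
  obtain ⟨yb, hyb⟩ : ∃ yb : Over.mk (q ≫ σ) ⟶ V, yb.left = y' :=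
    ⟨Over.homMk y' (by
      show y' ≫ V.hom = q ≫ σ
      rw [hVhom, ← Category.assoc, hq]), rfl⟩
  obtain ⟨w, hwl⟩ : ∃ w : Over.mk (q ≫ σ) ⟶ Over.mk σ, w.left = q := ⟨Over.homMk q rfl, rfl⟩
  have hybv : yb ≫ v = w := by
    ext1
    rw [Over.comp_left, hyb, hwl, ← hvl]
    exact hq
  obtain ⟨x', hx'⟩ : ∃ x' : Over.mk (q ≫ σ) ⟶ U, x' = yb ≫ u := ⟨_, rfl⟩
  have hx'p : (yon S).map x' ≫ p = (yon S).map w ≫ ξ := by
    rw [hx', ← hybv, Functor.map_comp, Functor.map_comp, Category.assoc, Category.assoc, sq.w]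
  obtain ⟨Sp, hSp⟩ : ∃ Sp : (k' ≃ₐ[k] k') → (Spec (CommRingCat.of k') ⟶ Spec (CommRingCat.of k')),
      ∀ τ, Sp τ = Spec.map (CommRingCat.ofHom τ.symm.toRingEquiv.toRingHom) :=
    ⟨fun τ => Spec.map (CommRingCat.ofHom τ.symm.toRingEquiv.toRingHom), fun _ => rfl⟩
  have hSpmul : ∀ τ₁ τ₂, Sp (τ₁ * τ₂) = Sp τ₂ ≫ Sp τ₁ := by
    intro τ₁ τ₂
    have e : (τ₁ * τ₂).symm.toRingEquiv.toRingHom =
        (τ₂.symm.toRingEquiv.toRingHom).comp τ₁.symm.toRingEquiv.toRingHom := RingHom.ext fun _ => rfl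
    rw [hSp, hSp, hSp, e, CommRingCat.ofHom_comp, Spec.map_comp]
  have hSpq : ∀ τ, Sp τ ≫ q = q := by
    intro τ
    have e : (τ.symm.toRingEquiv.toRingHom).comp (algebraMap k k') = algebraMap k k' :=
      RingHom.ext fun a => τ.symm.commutes a
    rw [hSp, hqdef, ← Spec.map_comp, ← CommRingCat.ofHom_comp, e]
  have hSpinj : ∀ τ τ', Sp τ = Sp τ' → τ = τ' := by
    intro τ τ' h
    rw [hSp, hSp] at h
    have h2 : τ.symm.toRingEquiv.toRingHom = τ'.symm.toRingEquiv.toRingHom :=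
      congrArg CommRingCat.Hom.hom (Spec.map_injective h)
    have h3 : τ.symm = τ'.symm := AlgEquiv.ext fun a => DFunLike.congr_fun h2 a
    calc τ = τ.symm.symm := (AlgEquiv.symm_symm τ).symm
      _ = τ'.symm.symm := by rw [h3]
      _ = τ' := AlgEquiv.symm_symm τ'
  obtain ⟨Θ, hΘ⟩ : ∃ Θ : (k' ≃ₐ[k] k') → (Over.mk (q ≫ σ) ⟶ Over.mk (q ≫ σ)),
      ∀ τ, (Θ τ).left = Sp τ :=
    ⟨fun τ => Over.homMk (Sp τ) (by
      show Sp τ ≫ q ≫ σ = q ≫ σ
      rw [← Category.assoc, hSpq]), fun _ => rfl⟩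
  have hΘw : ∀ τ, Θ τ ≫ w = w := by
    intro τ
    ext1
    rw [Over.comp_left, hΘ, hwl]
    exact hSpq τ
  obtain ⟨Rel, hRel⟩ : ∃ Rel : G → (k' ≃ₐ[k] k') → Prop,
      ∀ g τ, Rel g τ ↔ Sp τ ≫ x'.left = x'.left ≫ (ρ g).hom.left :=
    ⟨fun g τ => Sp τ ≫ x'.left = x'.left ≫ (ρ g).hom.left, fun _ _ => Iff.rfl⟩
  have ha : ∀ τ, ∃ g, Rel g τ := by
    intro τ
    obtain ⟨g, hg⟩ := L1 (Over.mk (q ≫ σ)) hss (closedPoint k') x' (Θ τ ≫ x') (by
      rw [Functor.map_comp, Category.assoc, hx'p, ← Category.assoc, ← Functor.map_comp, hΘw])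
    refine ⟨g, (hRel g τ).2 ?_⟩
    have h1 : (Θ τ ≫ x').left = (x' ≫ (ρ g).hom).left := congrArg CommaMorphism.left hg
    rw [Over.comp_left, Over.comp_left, hΘ] at h1
    exact h1
  have hb : ∀ g g' τ, Rel g τ → Rel g' τ → g = g' := by
    intro g g' τ h h'
    by_contra hne
    have e1 : x'.left ≫ (ρ g).hom.left = x'.left ≫ (ρ g').hom.left :=
      ((hRel g τ).1 h).symm.trans ((hRel g' τ).1 h')
    have e2 : x'.left ≫ (ρ (g⁻¹ * g')).hom.left = x'.left := by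
      rw [hρmul, Over.comp_left, ← Category.assoc, ← e1, Category.assoc, ← Over.comp_left, hρinv]
      exact Category.comp_id _
    exact hfree' (g⁻¹ * g') (fun e => hne (inv_mul_eq_one.1 e)) k' x'.left e2
  have hc' : ∀ g τ τ', Rel g τ → Rel g τ' → τ = τ' := by
    intro g τ τ' h h'
    apply hSpinj
    have e1 : Sp τ ≫ x'.left = Sp τ' ≫ x'.left := ((hRel g τ).1 h).trans ((hRel g τ').1 h').symm
    have e2 : Θ τ ≫ yb = Θ τ' ≫ yb := by
      apply (yon S).map_injective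
      apply sq.hom_ext
      · rw [← Functor.map_comp, ← Functor.map_comp]
        congr 1
        ext1
        rw [Category.assoc, Category.assoc, ← hx', Over.comp_left, Over.comp_left, hΘ, hΘ]
        exact e1
      · rw [← Functor.map_comp, ← Functor.map_comp, Category.assoc, Category.assoc, hybv, hΘw, hΘw]
    have e3 : (Θ τ ≫ yb).left = (Θ τ' ≫ yb).left := congrArg CommaMorphism.left e2
    rw [Over.comp_left, Over.comp_left, hΘ, hΘ, hyb] at e3
    exact (cancel_mono y').1 e3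
  have hmul : ∀ g₁ g₂ τ₁ τ₂, Rel g₁ τ₁ → Rel g₂ τ₂ → Rel (g₁ * g₂) (τ₁ * τ₂) := by
    intro g₁ g₂ τ₁ τ₂ h₁ h₂
    have h₁' := (hRel g₁ τ₁).1 h₁
    have h₂' := (hRel g₂ τ₂).1 h₂
    refine (hRel _ _).2 ?_
    rw [hSpmul, Category.assoc, h₁', ← Category.assoc, h₂', Category.assoc, hρmul, Over.comp_left]
  obtain ⟨H, e, hHe⟩ := exists_subgroup_mulEquiv Rel ha hb hc' hmul
  haveI := hfin
  haveI : Finite (k' ≃ₐ[k] k') := inferInstance
  have hHfin : Finite H := Finite.of_equiv (k' ≃ₐ[k] k') e.symm.toEquiv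
  have L4 : ∀ g : G, ∃ gV : V ⟶ V, gV ≫ u = u ≫ (ρ g).hom ∧ gV ≫ v = v := by
    intro g
    obtain ⟨gV, hgV⟩ := (yon S).map_surjective
      (sq.lift ((yon S).map (u ≫ (ρ g).hom)) ((yon S).map v) (by
        rw [Functor.map_comp, Category.assoc, hpinv, sq.w]))
    refine ⟨gV, ?_, ?_⟩
    · apply (yon S).map_injective
      rw [Functor.map_comp, hgV, IsPullback.lift_fst]
    · apply (yon S).map_injective
      rw [Functor.map_comp, hgV, IsPullback.lift_snd]
  haveI := hsep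
  have hgal : IsGalois k k' := by
    apply isGalois_of_forall_ringHom k k'
    intro Ω _ ι ψ hιψ
    obtain ⟨y₁, hy₁⟩ : ∃ y₁ : Spec (CommRingCat.of Ω) ⟶ Spec (CommRingCat.of k'),
      y₁ = Spec.map (CommRingCat.ofHom ι) := ⟨_, rfl⟩
    obtain ⟨y₂, hy₂⟩ : ∃ y₂ : Spec (CommRingCat.of Ω) ⟶ Spec (CommRingCat.of k'),
      y₂ = Spec.map (CommRingCat.ofHom ψ) := ⟨_, rfl⟩
    have hy12 : y₁ ≫ q = y₂ ≫ q := by
      rw [hy₁, hy₂, hqdef, ← Spec.map_comp, ← Spec.map_comp, ← CommRingCat.ofHom_comp,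
        ← CommRingCat.ofHom_comp, hιψ]
    have hssΩ : ∀ z z' : ↥(Spec (CommRingCat.of Ω)), z = z' := fun z z' =>
      @Subsingleton.elim _ (inferInstance : Subsingleton (PrimeSpectrum Ω)) z z'
    obtain ⟨yb₁, hyb₁⟩ : ∃ yb₁ : Over.mk (y₁ ≫ q ≫ σ) ⟶ Over.mk (q ≫ σ), yb₁.left = y₁ :=
      ⟨Over.homMk y₁ rfl, rfl⟩
    obtain ⟨yb₂, hyb₂⟩ : ∃ yb₂ : Over.mk (y₁ ≫ q ≫ σ) ⟶ Over.mk (q ≫ σ), yb₂.left = y₂ :=
      ⟨Over.homMk y₂ (by
        show y₂ ≫ q ≫ σ = y₁ ≫ q ≫ σ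
        rw [← Category.assoc, ← hy12, Category.assoc]), rfl⟩
    have hybw : yb₁ ≫ w = yb₂ ≫ w := by
      ext1
      rw [Over.comp_left, Over.comp_left, hyb₁, hyb₂, hwl]
      exact hy12
    obtain ⟨g, hg⟩ := L1 (Over.mk (y₁ ≫ q ≫ σ)) hssΩ (closedPoint Ω) (yb₁ ≫ x') (yb₂ ≫ x') (by
      rw [Functor.map_comp, Functor.map_comp, Category.assoc, Category.assoc, hx'p,
        ← Category.assoc ((yon S).map yb₂), ← Category.assoc ((yon S).map yb₁), ← Functor.map_comp,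
        ← Functor.map_comp, hybw])
    obtain ⟨gV, hgVu, hgVv⟩ := L4 g
    have e1 : yb₁ ≫ yb ≫ gV = yb₂ ≫ yb := by
      apply (yon S).map_injective
      apply sq.hom_ext
      · rw [← Functor.map_comp, ← Functor.map_comp]
        congr 1
        calc (yb₁ ≫ yb ≫ gV) ≫ u = (yb₁ ≫ yb ≫ u) ≫ (ρ g).hom := by
              simp only [Category.assoc]; rw [hgVu]
          _ = (yb₁ ≫ x') ≫ (ρ g).hom := by rw [hx']
          _ = yb₂ ≫ x' := hg.symm
          _ = (yb₂ ≫ yb) ≫ u := by rw [hx', Category.assoc]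
      · rw [← Functor.map_comp, ← Functor.map_comp]
        congr 1
        calc (yb₁ ≫ yb ≫ gV) ≫ v = yb₁ ≫ yb ≫ v := by simp only [Category.assoc]; rw [hgVv]
          _ = yb₁ ≫ w := by rw [hybv]
          _ = yb₂ ≫ w := hybw
          _ = (yb₂ ≫ yb) ≫ v := by rw [Category.assoc, hybv]
    have e3 : y₁ ≫ y' ≫ gV.left = y₂ ≫ y' := by
      have e2 : (yb₁ ≫ yb ≫ gV).left = (yb₂ ≫ yb).left := congrArg CommaMorphism.left e1
      rw [Over.comp_left, Over.comp_left, Over.comp_left, hyb₁, hyb₂, hyb] at e2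
      exact e2
    have hpt : (y' ≫ gV.left) (closedPoint k') = y := by
      have h1 : (y' ≫ gV.left) (y₁ (closedPoint Ω)) = y' (y₂ (closedPoint Ω)) := by
        rw [← Scheme.Hom.comp_apply, ← Scheme.Hom.comp_apply, e3]
      rw [hss (closedPoint k') (y₁ (closedPoint Ω)), h1, hy']
    obtain ⟨θ, hθ⟩ := hfac k' (y' ≫ gV.left) hpt
    have hθq : θ ≫ q = q := by
      have h1 : gV.left ≫ vl = vl := by
        rw [hvl, ← Over.comp_left, hgVv]
      rw [← hq, ← Category.assoc, hθ, Category.assoc, h1]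
    have hθy : y₁ ≫ θ = y₂ := by
      rw [← cancel_mono y', Category.assoc, hθ]
      exact e3
    refine ⟨(Spec.preimage θ).hom, ?_, ?_⟩
    · have h1 : Spec.map (CommRingCat.ofHom (algebraMap k k') ≫ Spec.preimage θ) =
          Spec.map (CommRingCat.ofHom (algebraMap k k')) := by
        rw [Spec.map_comp, Spec.map_preimage, ← hqdef]
        exact hθq
      exact congrArg CommRingCat.Hom.hom (Spec.map_injective h1)
    · have h1 : Spec.map (Spec.preimage θ ≫ CommRingCat.ofHom ι) = Spec.map (CommRingCat.ofHom ψ) := by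
        rw [Spec.map_comp, Spec.map_preimage, ← hy₁, ← hy₂]
        exact hθy
      exact congrArg CommRingCat.Hom.hom (Spec.map_injective h1)
  subst hqdef
  refine ⟨k', fk', alg, hfin, hgal, H, hHfin, e, x', ?_, ?_⟩
  · intro h
    have h1 := (hRel _ _).1 (hHe h)
    rw [hSp] at h1
    exact h1
  · have hw : w = Over.homMk (Spec.map (CommRingCat.ofHom (algebraMap k k'))) := by
      ext1
      exact hwl
    rw [hx'p, hw]

end Groth.Agent.Lib.Helper16.GaloisQuot
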