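import Groth.Agent.S10485
import Groth.Agent.S10400
import Groth.Agent.S10337
import Groth.Agent.Lib.Helper16.DimF4
import Groth.Agent.Lib.Helper16.ThickOpen
import Groth.Agent.Lib.Helper16.SchLocus
import Groth.Agent.Lib.Helper16.QuasiCompact

/-!
# Helper library (helper16): generic finiteness for dominant morphisms of integral algebraic spaces
-/

set_option autoImplicit false
universe u
open CategoryTheory CategoryTheory.Limits AlgebraicGeometry Opposite Topology TopologicalSpace

namespace Groth.Agent.Lib.Helper16.GenFin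

open AlgSp Groth.Agent.Lib.Helper16 Groth.Agent.Lib.Helper16.QfAt

variable {S : Scheme.{u}}

theorem map_generic {X Y : AlgSp.Space S} (hYi : IsIntegralSp Y.obj) (f : X ⟶ Y) (hd : IsDominantMor f.hom)
    (x : Points X.obj) (hx : IsGenericPoint x (Set.univ : Set (Points X.obj)))
    (y : Points Y.obj) (hy : IsGenericPoint y (Set.univ : Set (Points Y.obj))) :
    Points.map f.hom x = y := by
  have hT0Y : T0Space (Points Y.obj) := Groth.Agent.S10338.result Y hYi.2.1
  have hgen : IsGenericPoint (Points.map f.hom x) (Set.univ) := by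
    have := hx.image (Points.continuous_map f.hom)
    rw [Set.image_univ, hd.closure_range] at this
    exact this
  exact hgen.eq hy

theorem generic_mem_of_isOpen {T : Type*} [TopologicalSpace T] (x : T)
    (hx : IsGenericPoint x (Set.univ : Set T)) (O : Set T) (hO : IsOpen O) (hne : O.Nonempty) : x ∈ O :=
  (hx.mem_open_set_iff hO).2 (by rwa [Set.univ_inter])

/-- If some chart diagram of `f` through the generic point is finite, the generic fibre is a single point. -/
theorem unique_of_finite_chart {X Y : AlgSp.Space S} (hXi : IsIntegralSp X.obj) (hYi : IsIntegralSp Y.obj)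
    (f : X ⟶ Y) (hft : LocP @LocallyOfFiniteType f.hom) (hd : IsDominantMor f.hom)
    (x : Points X.obj) (hx : IsGenericPoint x (Set.univ : Set (Points X.obj)))
    (y : Points Y.obj) (hy : IsGenericPoint y (Set.univ : Set (Points Y.obj)))
    {U V : Over S} (a : (yon S).obj U ⟶ X.obj) (b : (yon S).obj V ⟶ Y.obj) (g : U ⟶ V)
    (ha : RepWith @Etale a) (hb : RepWith @Etale b) (hc : a ≫ f.hom = (yon S).map g ≫ b)
    [IsFinite g.left] (hxa : x ∈ Set.range (Points.ofPt a)) :
    ∀ x' : Points X.obj, Points.map f.hom x' = y → x' = x := by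
  rw [← Groth.Agent.S10485.result hXi hYi f hft hd x hx y hy, ← mem_qfLocus_iff_hasAtMor_open f.hom hft x]
  obtain ⟨u, rfl⟩ := hxa
  rw [mem_qfLocus_iff f.hom hft a b g ha hb hc u]
  exact g.left.quasiFiniteAt u

/-- The generic point lies in every nonempty open subscheme. -/
theorem generic_mem_range_ofPt {X : AlgSp.Space S}
    (x : Points X.obj) (hx : IsGenericPoint x (Set.univ : Set (Points X.obj)))
    {U : Over S} (a : (yon S).obj U ⟶ X.obj) (ha : RepWith @Etale a) [Nonempty ↥U.left] :
    x ∈ Set.range (Points.ofPt a) :=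
  generic_mem_of_isOpen x hx _ (isOpenMap_ofPt_of_etale a ha).isOpen_range (Set.range_nonempty _)

theorem unique_of_finite_pullback {X Y : AlgSp.Space S} (hXi : IsIntegralSp X.obj) (hYi : IsIntegralSp Y.obj)
    (f : X ⟶ Y) (hft : LocP @LocallyOfFiniteType f.hom) (hd : IsDominantMor f.hom)
    (x : Points X.obj) (hx : IsGenericPoint x (Set.univ : Set (Points X.obj)))
    (y : Points Y.obj) (hy : IsGenericPoint y (Set.univ : Set (Points Y.obj)))
    {U V : Over S} (a : (yon S).obj U ⟶ X.obj) (b : (yon S).obj V ⟶ Y.obj) (g : U ⟶ V)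
    [Nonempty ↥V.left] (hb : RepWith @IsOpenImmersion b) (sq : IsPullback a ((yon S).map g) f.hom b)
    [IsFinite g.left] :
    ∀ x' : Points X.obj, Points.map f.hom x' = y → x' = x := by
  have ha : RepWith @IsOpenImmersion a := (RepWith (S := S) @IsOpenImmersion).of_isPullback sq.flip hb
  have hae := repWith_mono SchLocus.isOpenImmersion_le_etale a ha
  have hbe := repWith_mono SchLocus.isOpenImmersion_le_etale b hb
  have hfx := map_generic hYi f hd x hx y hy
  have hyb : y ∈ Set.range (Points.ofPt b) := generic_mem_range_ofPt y hy b hbe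
  have hxa : x ∈ Set.range (Points.ofPt a) := by
    rw [← SchLocus.range_map_yon, Thick.range_fst_of_isPullback sq, Set.mem_preimage, hfx,
      SchLocus.range_map_yon]
    exact hyb
  exact unique_of_finite_chart hXi hYi f hft hd x hx y hy a b g hae hbe sq.w hxa

theorem exists_finite_of_unique {X Y : AlgSp.Space S} (hXi : IsIntegralSp X.obj) (hYi : IsIntegralSp Y.obj)
    (f : X ⟶ Y) (hft : LocP @LocallyOfFiniteType f.hom) (hd : IsDominantMor f.hom)
    (x : Points X.obj) (hx : IsGenericPoint x (Set.univ : Set (Points X.obj)))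
    (y : Points Y.obj) (hy : IsGenericPoint y (Set.univ : Set (Points Y.obj)))
    (hsq : IsSeparatedMor f.hom ∨ IsQuasiCompactMor f.hom)
    (huniq : ∀ x' : Points X.obj, Points.map f.hom x' = y → x' = x) :
    ∃ (V : Over S) (b : (yon S).obj V ⟶ Y.obj) (U : Over S) (g : U ⟶ V) (a : (yon S).obj U ⟶ X.obj),
        IsAffine V.left ∧ Nonempty ↥V.left ∧ RepWith @IsOpenImmersion b ∧
          IsPullback a ((yon S).map g) f.hom b ∧ IsAffine U.left ∧ IsFinite g.left := by
  have hfx := map_generic hYi f hd x hx y hy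
  have hX0 : {x : Points X.obj | HasAt (fun U u => ringKrullDim ↥(U.presheaf.stalk u) = 0) X.obj x}.Finite :=
    (Set.finite_singleton x).subset (fun ξ hξ => DimF.eq_generic_of_codimZero X hXi x hx ξ hξ)
  have hY0 : {y : Points Y.obj | HasAt (fun U u => ringKrullDim ↥(U.presheaf.stalk u) = 0) Y.obj y}.Finite :=
    (Set.finite_singleton y).subset (fun ξ hξ => DimF.eq_generic_of_codimZero Y hYi y hy ξ hξ)
  have hpre : ∀ x' : Points X.obj, HasAt (fun U u => ringKrullDim ↥(U.presheaf.stalk u) = 0) X.obj x' ↔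
      HasAt (fun U u => ringKrullDim ↥(U.presheaf.stalk u) = 0) Y.obj (Points.map f.hom x') := by
    intro x'
    constructor
    · intro h
      have h1 := DimF.eq_generic_of_codimZero X hXi x hx x' h
      rw [h1, hfx]
      exact DimF.hasAt_dim_zero_of_isGenericPoint Y hYi y hy
    · intro h
      have h1 := DimF.eq_generic_of_codimZero Y hYi y hy _ h
      rw [huniq x' h1]
      exact DimF.hasAt_dim_zero_of_isGenericPoint X hXi x hx
  obtain ⟨V, X', j, fst, snd, hj, hjd, sq, hfin⟩ :=
    Groth.Agent.S10400.result f hft hYi.2.1 hX0 hY0 hpre hsq.symm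
  obtain ⟨Y', j', hj', hrep, hj'd⟩ := Groth.Agent.S10337.result Y hYi.2.1
  obtain ⟨M, ⟨e⟩⟩ := SchLocus.exists_iso_yon_of_isRepresentable hrep
  have hresp : (RepWith (S := S) @IsOpenImmersion).RespectsIso :=
    MorphismProperty.IsStableUnderBaseChange.respectsIso
  obtain ⟨t, htdef⟩ : ∃ t : (yon S).obj M ⟶ Y.obj, t = e.hom ≫ j'.hom := ⟨_, rfl⟩
  have ht : RepWith @IsOpenImmersion t := by
    rw [htdef]
    exact (MorphismProperty.cancel_left_of_respectsIso (RepWith (S := S) @IsOpenImmersion) e.hom j'.hom).2 hj'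
  have sqW := hj.rep.isPullback t
  have hp : RepWith @IsOpenImmersion (hj.rep.fst t) :=
    (RepWith (S := S) @IsOpenImmersion).of_isPullback sqW.flip ht
  have hne : Nonempty (Points Y.obj) := ⟨y⟩
  -- the generic point lies in both dense opens
  have hyj : y ∈ Set.range (Points.map j.hom) :=
    generic_mem_of_isOpen y hy _ (Thick.isOpenMap_points_of_openImmersion Y.property j.hom hj).isOpen_range
      hjd.nonempty
  have hyt : y ∈ Set.range (Points.map t) := by
    refine generic_mem_of_isOpen y hy _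
      (Thick.isOpenMap_points_of_openImmersion Y.property t ht).isOpen_range ?_
    obtain ⟨_, ⟨z, rfl⟩⟩ := hj'd.nonempty
    exact ⟨_, ⟨Points.map e.inv z, rfl⟩⟩
  obtain ⟨zj, hzj⟩ := hyj
  obtain ⟨zt, hzt⟩ := hyt
  obtain ⟨z, -, -⟩ := exists_point_of_isPullback sqW zj zt (hzj.trans hzt.symm)
  obtain ⟨W₀, hW₀, hw0, -⟩ := exists_isAffineOpen_mem_and_subset
    (x := Points.toScheme (hj.rep.pullback t) z) (U := ⊤) trivial
  have hV₀aff : IsAffine (overOpen (hj.rep.pullback t) W₀).left := hW₀
  have hV₀ne : Nonempty ↥(overOpen (hj.rep.pullback t) W₀).left := ⟨⟨_, hw0⟩⟩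
  have hι : RepWith @IsOpenImmersion ((yon S).map (overOpenι (hj.rep.pullback t) W₀)) :=
    (repWith_yon_map_iff _ _).2 (by change IsOpenImmersion W₀.ι; infer_instance)
  have hc : RepWith @IsOpenImmersion ((yon S).map (overOpenι (hj.rep.pullback t) W₀) ≫ hj.rep.fst t) :=
    (RepWith (S := S) @IsOpenImmersion).comp_mem _ _ hι hp
  have hb : RepWith @IsOpenImmersion
      (((yon S).map (overOpenι (hj.rep.pullback t) W₀) ≫ hj.rep.fst t) ≫ j.hom) :=
    (RepWith (S := S) @IsOpenImmersion).comp_mem _ _ hc hj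
  obtain ⟨U, i, fst', sqU, hUaff, hifin⟩ := hfin hV₀aff ((yon S).map (overOpenι (hj.rep.pullback t) W₀) ≫ hj.rep.fst t)
  exact ⟨_, _, U, i, fst' ≫ snd.hom, hV₀aff, hV₀ne, hb, sqU.paste_horiz sq.flip, hUaff, hifin⟩

end Groth.Agent.Lib.Helper16.GenFin
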