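import Groth.Agent.Lib.Helper16.GenFin
import Groth.Agent.Lib.Helper16.GenFinSch2

/-!
# Helper library (helper16): generic finiteness, affine-open form (no separatedness hypothesis)
-/

set_option autoImplicit false
universe u
open CategoryTheory CategoryTheory.Limits AlgebraicGeometry Opposite Topology TopologicalSpace

namespace Groth.Agent.Lib.Helper16.GenFin

open AlgSp Groth.Agent.Lib.Helper16 Groth.Agent.Lib.Helper16.QfAt

variable {S : Scheme.{u}}

/-- The generic point of an integral algebraic space lies in an affine open subscheme. -/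
theorem exists_affine_open_generic (X : AlgSp.Space S) (hXi : IsIntegralSp X.obj)
    (x : Points X.obj) (hx : IsGenericPoint x (Set.univ : Set (Points X.obj))) :
    ∃ (U : Over S) (a : (yon S).obj U ⟶ X.obj) (u : ↥U.left), IsAffine U.left ∧
      RepWith @IsOpenImmersion a ∧ Points.ofPt a u = x := by
  obtain ⟨Y', j', hj', hrep, hj'd⟩ := Groth.Agent.S10337.result X hXi.2.1
  obtain ⟨M, ⟨e⟩⟩ := SchLocus.exists_iso_yon_of_isRepresentable hrep
  have hresp : (RepWith (S := S) @IsOpenImmersion).RespectsIso :=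
    MorphismProperty.IsStableUnderBaseChange.respectsIso
  obtain ⟨t, htdef⟩ : ∃ t : (yon S).obj M ⟶ X.obj, t = e.hom ≫ j'.hom := ⟨_, rfl⟩
  have ht : RepWith @IsOpenImmersion t := by
    rw [htdef]
    exact (MorphismProperty.cancel_left_of_respectsIso (RepWith (S := S) @IsOpenImmersion) e.hom j'.hom).2 hj'
  have hne : Nonempty (Points X.obj) := ⟨x⟩
  have hxt : x ∈ Set.range (Points.map t) := by
    refine generic_mem_of_isOpen x hx _
      (Thick.isOpenMap_points_of_openImmersion X.property t ht).isOpen_range ?_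
    obtain ⟨_, ⟨z, rfl⟩⟩ := hj'd.nonempty
    exact ⟨_, ⟨Points.map e.inv z, rfl⟩⟩
  rw [SchLocus.range_map_yon] at hxt
  obtain ⟨m, hm⟩ := hxt
  obtain ⟨W₀, hW₀, hmW₀, -⟩ := exists_isAffineOpen_mem_and_subset (x := m) (U := ⊤) trivial
  refine ⟨overOpen M W₀, (yon S).map (overOpenι M W₀) ≫ t, ⟨m, hmW₀⟩, hW₀, ?_, ?_⟩
  · exact (RepWith (S := S) @IsOpenImmersion).comp_mem _ _
      ((repWith_yon_map_iff _ _).2 (by change IsOpenImmersion W₀.ι; infer_instance)) ht
  · rw [ofPt_restrict]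
    exact hm

/-- Compatible affine open subschemes through the generic points. -/
theorem exists_affine_chart_generic {X Y : AlgSp.Space S} (hXi : IsIntegralSp X.obj) (hYi : IsIntegralSp Y.obj)
    (f : X ⟶ Y) (hd : IsDominantMor f.hom)
    (x : Points X.obj) (hx : IsGenericPoint x (Set.univ : Set (Points X.obj)))
    (y : Points Y.obj) (hy : IsGenericPoint y (Set.univ : Set (Points Y.obj))) :
    ∃ (U V : Over S) (a : (yon S).obj U ⟶ X.obj) (b : (yon S).obj V ⟶ Y.obj) (m : U ⟶ V) (u : ↥U.left),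
      IsAffine U.left ∧ IsAffine V.left ∧ RepWith @IsOpenImmersion a ∧ RepWith @IsOpenImmersion b ∧
        a ≫ f.hom = (yon S).map m ≫ b ∧ Points.ofPt a u = x := by
  have hfx := map_generic hYi f hd x hx y hy
  obtain ⟨U₀, a₀, u₀, hU₀, ha₀, hu₀⟩ := exists_affine_open_generic X hXi x hx
  obtain ⟨V₁, b₁, v, hV₁, hb₁, hv⟩ := exists_affine_open_generic Y hYi y hy
  have sqP := hb₁.rep.isPullback (a₀ ≫ f.hom)
  have hp₂ : RepWith @IsOpenImmersion ((yon S).map (hb₁.rep.snd (a₀ ≫ f.hom))) :=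
    (RepWith (S := S) @IsOpenImmersion).of_isPullback sqP hb₁
  obtain ⟨q, -, hq⟩ := exists_point_of_isPullback_yon sqP (Points.ofScheme V₁ v) u₀ (by
    rw [← Points.ofPt_eq_map_ofScheme, hv, ← Points.map_ofPt, hu₀, hfx])
  obtain ⟨m₀, hm₀⟩ := (yon S).map_surjective (hb₁.rep.fst (a₀ ≫ f.hom))
  obtain ⟨W₀, hW₀, hqW₀, -⟩ := exists_isAffineOpen_mem_and_subset (x := q) (U := ⊤) trivial
  refine ⟨overOpen _ W₀, V₁, (yon S).map (overOpenι _ W₀) ≫ (yon S).map (hb₁.rep.snd (a₀ ≫ f.hom)) ≫ a₀, b₁,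
    overOpenι _ W₀ ≫ m₀, ⟨q, hqW₀⟩, hW₀, hV₁, ?_, hb₁, ?_, ?_⟩
  · exact (RepWith (S := S) @IsOpenImmersion).comp_mem _ _
      ((repWith_yon_map_iff _ _).2 (by change IsOpenImmersion W₀.ι; infer_instance))
      ((RepWith (S := S) @IsOpenImmersion).comp_mem _ _ hp₂ ha₀)
  · rw [Functor.map_comp, hm₀, Category.assoc, Category.assoc, Category.assoc, sqP.w]
  · rw [ofPt_restrict, ofPt_yon_map_comp]
    rw [← hu₀, ← hq]
    rfl

theorem exists_finite_affine_of_unique {X Y : AlgSp.Space S} (hXi : IsIntegralSp X.obj) (hYi : IsIntegralSp Y.obj)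
    (f : X ⟶ Y) (hft : LocP @LocallyOfFiniteType f.hom) (hd : IsDominantMor f.hom)
    (x : Points X.obj) (hx : IsGenericPoint x (Set.univ : Set (Points X.obj)))
    (y : Points Y.obj) (hy : IsGenericPoint y (Set.univ : Set (Points Y.obj)))
    (huniq : ∀ x' : Points X.obj, Points.map f.hom x' = y → x' = x) :
    ∃ (U V : Over S) (a : (yon S).obj U ⟶ X.obj) (b : (yon S).obj V ⟶ Y.obj) (g : U ⟶ V),
      IsAffine U.left ∧ IsAffine V.left ∧ Nonempty ↥U.left ∧
        RepWith @IsOpenImmersion a ∧ RepWith @IsOpenImmersion b ∧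
          a ≫ f.hom = (yon S).map g ≫ b ∧ IsFinite g.left := by
  have hfx := map_generic hYi f hd x hx y hy
  obtain ⟨U₁, V₁, a₁, b₁, m, u₁, hU₁, hV₁, ha₁, hb₁, hc₁, hu₁⟩ :=
    exists_affine_chart_generic hXi hYi f hd x hx y hy
  have ha₁e := repWith_mono SchLocus.isOpenImmersion_le_etale a₁ ha₁
  have hb₁e := repWith_mono SchLocus.isOpenImmersion_le_etale b₁ hb₁
  have hlft : LocallyOfFiniteType m.left := hft _ _ m ha₁e hb₁e hc₁
  have hyv : Points.ofPt b₁ (m.left u₁) = y := by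
    rw [← ofPt_yon_map_comp, ← hc₁, ← Points.map_ofPt, hu₁, hfx]
  have hv₁ : ringKrullDim ↥(V₁.left.presheaf.stalk (m.left u₁)) = 0 :=
    (DimF.hasAt_dim_iff b₁ hb₁e (m.left u₁) 0).1 (by
      rw [hyv]; exact DimF.hasAt_dim_zero_of_isGenericPoint Y hYi y hy)
  have hxq : x ∈ qfLocus f.hom :=
    (mem_qfLocus_iff_hasAtMor_open f.hom hft x).2
      ((Groth.Agent.S10485.result hXi hYi f hft hd x hx y hy).2 huniq)
  have h4 : ∀ t : ↥U₁.left, m.left t = m.left u₁ → m.left.QuasiFiniteAt t := by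
    intro t ht
    apply (mem_qfLocus_iff f.hom hft a₁ b₁ m ha₁e hb₁e hc₁ t).1
    have h5 : Points.ofPt a₁ t = x := huniq _ (by
      rw [Points.map_ofPt, hc₁, ofPt_yon_map_comp, ht]; exact hyv)
    rw [h5]
    exact hxq
  obtain ⟨V₂, hV₂, hv₁V₂, hfin⟩ :=
    GenFinSch.exists_isFinite_morphismRestrict_of_isAffine m.left (m.left u₁) hv₁ h4
  have hUaff : IsAffineOpen (m.left ⁻¹ᵁ V₂) := hV₂.preimage m.left
  refine ⟨overOpen U₁ (m.left ⁻¹ᵁ V₂), overOpen V₁ V₂, (yon S).map (overOpenι U₁ _) ≫ a₁,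
    (yon S).map (overOpenι V₁ V₂) ≫ b₁,
    Over.homMk (m.left ∣_ V₂) (by
      change (m.left ∣_ V₂) ≫ V₂.ι ≫ V₁.hom = (m.left ⁻¹ᵁ V₂).ι ≫ U₁.hom
      rw [← Category.assoc, morphismRestrict_ι, Category.assoc, Over.w m]),
    hUaff, hV₂, ⟨⟨u₁, hv₁V₂⟩⟩, ?_, ?_, ?_, hfin⟩
  · exact (RepWith (S := S) @IsOpenImmersion).comp_mem _ _
      ((repWith_yon_map_iff _ _).2 (by change IsOpenImmersion (m.left ⁻¹ᵁ V₂).ι; infer_instance)) ha₁
  · exact (RepWith (S := S) @IsOpenImmersion).comp_mem _ _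
      ((repWith_yon_map_iff _ _).2 (by change IsOpenImmersion V₂.ι; infer_instance)) hb₁
  · rw [Category.assoc, hc₁, ← Category.assoc, ← Category.assoc, ← Functor.map_comp, ← Functor.map_comp]
    congr 2
    ext1
    exact (morphismRestrict_ι m.left V₂).symm

theorem unique_of_finite_affine {X Y : AlgSp.Space S} (hXi : IsIntegralSp X.obj) (hYi : IsIntegralSp Y.obj)
    (f : X ⟶ Y) (hft : LocP @LocallyOfFiniteType f.hom) (hd : IsDominantMor f.hom)
    (x : Points X.obj) (hx : IsGenericPoint x (Set.univ : Set (Points X.obj)))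
    (y : Points Y.obj) (hy : IsGenericPoint y (Set.univ : Set (Points Y.obj)))
    {U V : Over S} (a : (yon S).obj U ⟶ X.obj) (b : (yon S).obj V ⟶ Y.obj) (g : U ⟶ V)
    [Nonempty ↥U.left] (ha : RepWith @IsOpenImmersion a) (hb : RepWith @IsOpenImmersion b)
    (hc : a ≫ f.hom = (yon S).map g ≫ b) [IsFinite g.left] :
    ∀ x' : Points X.obj, Points.map f.hom x' = y → x' = x := by
  have hae := repWith_mono SchLocus.isOpenImmersion_le_etale a ha
  have hbe := repWith_mono SchLocus.isOpenImmersion_le_etale b hb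
  exact unique_of_finite_chart hXi hYi f hft hd x hx y hy a b g hae hbe hc
    (generic_mem_range_ofPt x hx a hae)

end Groth.Agent.Lib.Helper16.GenFin
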