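import Mathlib

/-!
# Helper library (helper16): algebra behind generic finiteness

* `isIntegral_of_quasiFinite_of_local_dimZero`: a quasi-finite algebra over a zero-dimensional local ring is integral.
* `exists_forall_isIntegral_pow_smul`: if `A → B` is of finite type, `𝔭` is a prime of `A` with `A_𝔭` zero-dimensional
  and the fibre of `Spec B → Spec A` over `𝔭` is finite, then there is `s ∉ 𝔭` such that every element of `B`
  becomes integral over `A` after multiplication by a power of `s`.
-/

set_option autoImplicit false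
universe u v
open TensorProduct Polynomial

namespace Groth.Agent.Lib.Helper16.GenFinAlg

/-- A quasi-finite algebra over a zero-dimensional local ring is integral. -/
theorem isIntegral_of_quasiFinite_of_local_dimZero {A : Type u} {B : Type v} [CommRing A] [CommRing B] [Algebra A B]
    [IsLocalRing A] [Ring.KrullDimLE 0 A] [Algebra.QuasiFinite A B] : Algebra.IsIntegral A B := by
  let _ : Field (A ⧸ IsLocalRing.maximalIdeal A) := Ideal.Quotient.field _
  have hqf : Algebra.QuasiFinite (A ⧸ IsLocalRing.maximalIdeal A) ((A ⧸ IsLocalRing.maximalIdeal A) ⊗[A] B) :=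
    inferInstance
  have hfin : Module.Finite (A ⧸ IsLocalRing.maximalIdeal A) ((A ⧸ IsLocalRing.maximalIdeal A) ⊗[A] B) :=
    Module.Finite.of_quasiFinite
  have hint : Algebra.IsIntegral (A ⧸ IsLocalRing.maximalIdeal A) ((A ⧸ IsLocalRing.maximalIdeal A) ⊗[A] B) :=
    inferInstance
  refine ⟨fun b => ?_⟩
  obtain ⟨q, hq, hq0⟩ := hint.isIntegral ((1 : A ⧸ IsLocalRing.maximalIdeal A) ⊗ₜ[A] b)
  have hl : q ∈ Polynomial.lifts (Ideal.Quotient.mk (IsLocalRing.maximalIdeal A)) := by
    rw [Polynomial.lifts_iff_coeff_lifts]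
    intro n
    exact Ideal.Quotient.mk_surjective _
  obtain ⟨p, hpq, -, hp⟩ := Polynomial.lifts_and_degree_eq_and_monic hl hq
  have h1 : (1 : A ⧸ IsLocalRing.maximalIdeal A) ⊗ₜ[A] (aeval b p) = 0 := by
    have e1 : (1 : A ⧸ IsLocalRing.maximalIdeal A) ⊗ₜ[A] (aeval b p) =
        aeval ((1 : A ⧸ IsLocalRing.maximalIdeal A) ⊗ₜ[A] b) p := by
      rw [← Algebra.TensorProduct.includeRight_apply, ← Algebra.TensorProduct.includeRight_apply,
        Polynomial.aeval_algHom_apply]
    rw [e1, ← Polynomial.aeval_map_algebraMap (A ⧸ IsLocalRing.maximalIdeal A), Ideal.Quotient.algebraMap_eq, hpq]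
    exact hq0
  have h2 : Ideal.Quotient.mk ((IsLocalRing.maximalIdeal A).map (algebraMap A B)) (aeval b p) = 0 := by
    apply (Algebra.TensorProduct.quotIdealMapEquivQuotTensor B (IsLocalRing.maximalIdeal A)).injective
    rw [Algebra.TensorProduct.quotIdealMapEquivQuotTensor_mk, h1, map_zero]
  have h3 : aeval b p ∈ (IsLocalRing.maximalIdeal A).map (algebraMap A B) := Ideal.Quotient.eq_zero_iff_mem.1 h2
  have h4 : (IsLocalRing.maximalIdeal A).map (algebraMap A B) ≤ nilradical B := by
    rw [Ideal.map_le_iff_le_comap, ← Ring.KrullDimLE.nilradical_eq_maximalIdeal]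
    exact fun x hx => IsNilpotent.map hx _
  obtain ⟨N, hN⟩ : IsNilpotent (aeval b p) := h4 h3
  exact ⟨p ^ N, hp.pow N, by rw [← aeval_def, map_pow, hN]⟩


/-- In a zero-dimensional local ring every prime is the maximal ideal. -/
theorem eq_maximalIdeal_of_isPrime {A : Type u} [CommRing A] [IsLocalRing A] [Ring.KrullDimLE 0 A] (q : Ideal A)
    [q.IsPrime] : q = IsLocalRing.maximalIdeal A :=
  IsLocalRing.eq_maximalIdeal (Ideal.isMaximal_of_isPrime q)

/-- Spreading out integrality from the localization at a prime of dimension zero with finite fibre. -/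
theorem exists_forall_isIntegral_pow_smul {A B : Type u} [CommRing A] [CommRing B] [Algebra A B]
    [Algebra.FiniteType A B] (𝔭 : Ideal A) [h𝔭 : 𝔭.IsPrime] [Ring.KrullDimLE 0 (Localization.AtPrime 𝔭)]
    (hfin : (PrimeSpectrum.comap (algebraMap A B) ⁻¹' {(⟨𝔭, h𝔭⟩ : PrimeSpectrum A)}).Finite) :
    ∃ s : A, s ∉ 𝔭 ∧ ∀ b : B, ∃ n : ℕ, IsIntegral A (s ^ n • b) := by
  classical
  let M : Submonoid A := 𝔭.primeCompl
  let A' := Localization.AtPrime 𝔭
  let B' := Localization (Algebra.algebraMapSubmonoid B M)
  -- finite type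
  have hft : Algebra.FiniteType A' B' := by
    have h0 : (algebraMap A B).FiniteType := (RingHom.finiteType_algebraMap (A := A) (B := B)).2 inferInstance
    haveI : IsLocalization (Submonoid.map (algebraMap A B) M) B' :=
      inferInstanceAs (IsLocalization (Algebra.algebraMapSubmonoid B M) B')
    have := RingHom.finiteType_localizationPreserves (algebraMap A B) M A' B' h0
    rw [← RingHom.finiteType_algebraMap (A := A') (B := B')]
    exact this
  -- the spectrum of `B'` is finite
  have hfinB' : Finite (PrimeSpectrum B') := by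
    have hinj := PrimeSpectrum.localization_comap_injective B' (Algebra.algebraMapSubmonoid B M)
    have : Finite ↥(PrimeSpectrum.comap (algebraMap A B) ⁻¹' {(⟨𝔭, h𝔭⟩ : PrimeSpectrum A)}) := hfin.to_subtype
    have hmem : ∀ q : PrimeSpectrum B', PrimeSpectrum.comap (algebraMap B B') q ∈
        PrimeSpectrum.comap (algebraMap A B) ⁻¹' {(⟨𝔭, h𝔭⟩ : PrimeSpectrum A)} := by
      intro q
      rw [Set.mem_preimage, Set.mem_singleton_iff]
      ext1
      change Ideal.comap (algebraMap A B) (Ideal.comap (algebraMap B B') q.asIdeal) = 𝔭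
      rw [Ideal.comap_comap, ← IsScalarTower.algebraMap_eq, IsScalarTower.algebraMap_eq A A' B',
        ← Ideal.comap_comap]
      have := eq_maximalIdeal_of_isPrime (Ideal.comap (algebraMap A' B') q.asIdeal)
      rw [this]
      exact IsLocalization.AtPrime.comap_maximalIdeal A' 𝔭
    exact Finite.of_injective (fun q => (⟨_, hmem q⟩ :
      ↥(PrimeSpectrum.comap (algebraMap A B) ⁻¹' {(⟨𝔭, h𝔭⟩ : PrimeSpectrum A)})))
      (fun q q' h => hinj (Subtype.ext_iff.1 h))
  have hqf : Algebra.QuasiFinite A' B' :=
    Algebra.QuasiFinite.iff_finite_comap_preimage_singleton.2 fun x => Set.toFinite _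
  have hint : Algebra.IsIntegral A' B' := isIntegral_of_quasiFinite_of_local_dimZero
  -- each element becomes integral after multiplication by an element of `M`
  have key : ∀ b : B, ∃ m ∈ M, IsIntegral A (m • b) := by
    intro b
    obtain ⟨⟨m₁, hm₁⟩, h1⟩ := IsIntegral.exists_multiple_integral_of_isLocalization M (algebraMap B B' b)
      (hint.isIntegral _)
    have h1' : IsIntegral A (algebraMap B B' (m₁ • b)) := by
      have : algebraMap B B' (m₁ • b) = m₁ • algebraMap B B' b := by
        rw [Algebra.smul_def, map_mul, ← IsScalarTower.algebraMap_apply, Algebra.smul_def]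
      rw [this]
      exact h1
    obtain ⟨m₂, hm₂, h2⟩ := IsLocalization.exists_isIntegral_smul_of_isIntegral_map (R := A) (S := B) (Sₘ := B')
      M h1'
    exact ⟨m₂ * m₁, M.mul_mem hm₂ hm₁, by rw [mul_smul]; exact h2⟩
  choose m hmM hm using key
  obtain ⟨t, ht⟩ := (Algebra.FiniteType.out : (⊤ : Subalgebra A B).FG)
  refine ⟨∏ b ∈ t, m b, ?_, ?_⟩
  · exact M.prod_mem fun b _ => hmM b
  · have hgen : ∀ b ∈ t, IsIntegral A ((∏ b ∈ t, m b) • b) := by
      intro b hb
      rw [← Finset.mul_prod_erase t m hb, mul_comm, mul_smul]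
      exact (hm b).smul _
    intro b
    have hb : b ∈ Algebra.adjoin A (↑t : Set B) := by rw [ht]; trivial
    induction hb using Algebra.adjoin_induction with
    | mem x hx => exact ⟨1, by rw [pow_one]; exact hgen x hx⟩
    | algebraMap r => exact ⟨0, by rw [pow_zero, one_smul]; exact isIntegral_algebraMap⟩
    | add x y _ _ hx hy =>
      obtain ⟨n, hn⟩ := hx
      obtain ⟨k, hk⟩ := hy
      refine ⟨n + k, ?_⟩
      rw [smul_add]
      refine IsIntegral.add ?_ ?_
      · rw [pow_add, mul_comm, mul_smul]; exact hn.smul _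
      · rw [pow_add, mul_smul]; exact hk.smul _
    | mul x y _ _ hx hy =>
      obtain ⟨n, hn⟩ := hx
      obtain ⟨k, hk⟩ := hy
      refine ⟨n + k, ?_⟩
      rw [pow_add, ← smul_mul_smul_comm]
      exact hn.mul hk

end Groth.Agent.Lib.Helper16.GenFinAlg
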