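import Groth.Agent.Lib.Helper16.GenFinAlg
import Groth.Agent.Lib.Helper16.Codim0Qf
import Groth.Agent.Lib.Helper16.DimZeroSch
import Groth.Agent.Lib.Helper14.QCClosure

/-!
# Helper library (helper16): generic finiteness for schemes

`exists_isFinite_morphismRestrict_of_isAffine`: a quasi-compact quasi-separated morphism locally of finite type to an
affine scheme which is quasi-finite at all points over a point `η` of codimension 0 is finite over a basic open
neighbourhood of `η`.
-/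

set_option autoImplicit false
universe u
open CategoryTheory CategoryTheory.Limits AlgebraicGeometry Opposite Topology

namespace Groth.Agent.Lib.Helper16.GenFinSch

open Groth.Agent.Lib.Helper16 Groth.Agent.Lib.Helper16.Strata Groth.Agent.Lib.Helper16.DimZeroSch
  Groth.Agent.Lib.Helper16.Codim0Qf

variable {X Y : Scheme.{u}}

/-- The union of two disjoint affine opens is affine. -/
theorem isAffineOpen_sup_of_disjoint (A B : Y.Opens) (hA : IsAffineOpen A) (hB : IsAffineOpen B)
    (hd : Disjoint A B) : IsAffineOpen (A ⊔ B) := by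
  have hAaff : IsAffine A.toScheme := hA
  have hBaff : IsAffine B.toScheme := hB
  have hle1 : A ≤ A ⊔ B := le_sup_left
  have hle2 : B ≤ A ⊔ B := le_sup_right
  have hcompl : IsCompl (Y.homOfLE hle1).opensRange (Y.homOfLE hle2).opensRange := by
    simp only [isCompl_iff, disjoint_iff, codisjoint_iff, ← TopologicalSpace.Opens.coe_inj]
    constructor
    · ext t
      simp only [TopologicalSpace.Opens.coe_inf, Scheme.Hom.coe_opensRange, Set.mem_inter_iff,
        TopologicalSpace.Opens.coe_bot, Set.mem_empty_iff_false, iff_false, not_and]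
      intro h1 h2
      have h1' := (mem_range_homOfLE hle1 t).1 h1
      have h2' := (mem_range_homOfLE hle2 t).1 h2
      exact hd.le_bot ⟨h1', h2'⟩
    · ext t
      simp only [TopologicalSpace.Opens.coe_sup, Scheme.Hom.coe_opensRange, Set.mem_union,
        TopologicalSpace.Opens.coe_top, Set.mem_univ, iff_true]
      have := t.2
      rcases this with h | h
      · exact Or.inl ((mem_range_homOfLE hle1 t).2 h)
      · exact Or.inr ((mem_range_homOfLE hle2 t).2 h)
  obtain ⟨H⟩ := nonempty_isColimit_binaryCofanMk_of_isCompl (Y.homOfLE hle1) (Y.homOfLE hle2) hcompl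
  let e : A.toScheme ⨿ B.toScheme ≅ (A ⊔ B).toScheme := (colimit.isColimit _).coconePointUniqueUpToIso H
  exact IsAffine.of_isIso e.inv

/-- In a quasi-separated scheme, a point of codimension 0 outside a quasi-compact open has an open neighbourhood disjoint
from it. -/
theorem exists_open_nhd_disjoint [QuasiSeparatedSpace ↥X] (x : ↥X) (hx : ringKrullDim ↥(X.presheaf.stalk x) = 0)
    (V : X.Opens) (hV : IsCompact (V : Set ↥X)) (hxV : x ∉ V) : ∃ N : X.Opens, x ∈ N ∧ Disjoint N V := by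
  obtain ⟨W, hW, hxW⟩ := exists_affineOpen_mem' x
  have hWaff : IsAffine W.toScheme := hW
  obtain ⟨Z, hZdef⟩ : ∃ Z : Set ↥W.toScheme, Z = W.ι ⁻¹' (V : Set ↥X) := ⟨_, rfl⟩
  have hZo : IsOpen Z := by rw [hZdef]; exact V.isOpen.preimage W.ι.continuous
  have hZc : IsCompact Z := by
    rw [W.ι.isEmbedding.isCompact_iff, hZdef, Set.image_preimage_eq_inter_range, Scheme.Opens.range_ι]
    exact QuasiSeparatedSpace.inter_isCompact _ _ V.isOpen hV W.isOpen hW.isCompact
  have hxZ : (⟨x, hxW⟩ : ↥W) ∉ Z := by rw [hZdef]; exact hxV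
  have hd : ringKrullDim ↥(W.toScheme.presheaf.stalk (⟨x, hxW⟩ : ↥W)) = 0 :=
    (EtDim.ringKrullDim_stalk_eq_of_etale W.ι ⟨x, hxW⟩).trans hx
  have hncl := not_mem_closure_of_codim_zero (⟨x, hxW⟩ : ↥W.toScheme) hd Z hZo hZc hxZ
  rw [mem_closure_iff] at hncl
  push Not at hncl
  obtain ⟨N, hNo, hxN, hNZ⟩ := hncl
  refine ⟨⟨W.ι '' N, W.ι.isOpenEmbedding.isOpenMap N hNo⟩, ⟨_, hxN, rfl⟩, ?_⟩
  rw [disjoint_iff_inf_le]
  rintro y ⟨⟨n, hn, rfl⟩, hV'⟩
  exact (Set.not_nonempty_iff_eq_empty.2 hNZ ⟨n, hn, by rw [hZdef]; exact hV'⟩).elim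

/-- In a quasi-separated scheme, finitely many points of codimension 0 have a common affine open neighbourhood, which can
be chosen inside any given open containing them. -/
theorem exists_isAffineOpen_of_finite_codim_zero [QuasiSeparatedSpace ↥X] (F : Set ↥X) (hF : F.Finite)
    (hdim : ∀ x ∈ F, ringKrullDim ↥(X.presheaf.stalk x) = 0) (O : X.Opens) (hFO : F ⊆ (O : Set ↥X)) :
    ∃ W : X.Opens, IsAffineOpen W ∧ F ⊆ (W : Set ↥X) ∧ W ≤ O := by
  revert hdim O
  refine Set.Finite.induction_on (motive := fun (F : Set ↥X) _ =>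
    (∀ x ∈ F, ringKrullDim ↥(X.presheaf.stalk x) = 0) → ∀ O : X.Opens, F ⊆ (O : Set ↥X) →
      ∃ W : X.Opens, IsAffineOpen W ∧ F ⊆ (W : Set ↥X) ∧ W ≤ O) F hF ?_ ?_
  · intro _ O _
    exact ⟨⊥, isAffineOpen_bot X, Set.empty_subset _, bot_le⟩
  · intro a s _ _ ih hdim' O hO
    have hs_dim : ∀ x ∈ s, ringKrullDim ↥(X.presheaf.stalk x) = 0 :=
      fun x hx => hdim' x (Set.mem_insert_of_mem _ hx)
    have haO : a ∈ O := hO (Set.mem_insert _ _)
    obtain ⟨W₁, hW₁, hsW₁, hW₁O⟩ := ih hs_dim O ((Set.subset_insert _ _).trans hO)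
    by_cases haW : a ∈ W₁
    · exact ⟨W₁, hW₁, Set.insert_subset haW hsW₁, hW₁O⟩
    · obtain ⟨N, haN, hNW⟩ := exists_open_nhd_disjoint a (hdim' a (Set.mem_insert _ _)) W₁ hW₁.isCompact haW
      obtain ⟨U, hU, haU, hUle⟩ : ∃ U : X.Opens, IsAffineOpen U ∧ a ∈ U ∧ U ≤ O ⊓ N := by
        obtain ⟨_, ⟨U, hU, rfl⟩, haU, hUle⟩ := X.isBasis_affineOpens.exists_subset_of_mem_open
          (show a ∈ ((O ⊓ N : X.Opens) : Set ↥X) from ⟨haO, haN⟩) (O ⊓ N).isOpen
        exact ⟨U, hU, haU, hUle⟩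
      have hUW : Disjoint U W₁ := hNW.mono_left (hUle.trans inf_le_right)
      have hs_cl : ∀ x ∈ s, x ∉ closure (U : Set ↥X) := by
        intro x hx hcl
        have hxU : x ∉ U := fun h => hUW.le_bot ⟨h, hsW₁ hx⟩
        obtain ⟨Nx, hxN, hNU⟩ := exists_open_nhd_disjoint x (hs_dim x hx) U hU.isCompact hxU
        obtain ⟨z, hz1, hz2⟩ := mem_closure_iff.1 hcl Nx Nx.isOpen hxN
        exact hNU.le_bot ⟨hz1, hz2⟩
      obtain ⟨O', hO'⟩ : ∃ O' : X.Opens, (O' : Set ↥X) = (W₁ : Set ↥X) ∩ (closure (U : Set ↥X))ᶜ :=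
        ⟨⟨_, W₁.isOpen.inter isClosed_closure.isOpen_compl⟩, rfl⟩
      obtain ⟨W₂, hW₂, hsW₂, hW₂O'⟩ := ih hs_dim O' (fun x hx => by
        rw [hO']; exact ⟨hsW₁ hx, hs_cl x hx⟩)
      have hW₂' : ∀ z, z ∈ W₂ → z ∈ W₁ ∧ z ∉ closure (U : Set ↥X) := by
        intro z hz
        have : z ∈ (O' : Set ↥X) := hW₂O' hz
        rw [hO'] at this
        exact this
      have hd : Disjoint U W₂ := by
        rw [disjoint_iff_inf_le]
        rintro z ⟨hzU, hzW⟩
        exact ((hW₂' z hzW).2 (subset_closure hzU)).elim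
      refine ⟨U ⊔ W₂, isAffineOpen_sup_of_disjoint U W₂ hU hW₂ hd, ?_, ?_⟩
      · apply Set.insert_subset
        · exact (le_sup_left : U ≤ U ⊔ W₂) haU
        · exact fun x hx => (le_sup_right : W₂ ≤ U ⊔ W₂) (hsW₂ hx)
      · refine sup_le (hUle.trans inf_le_left) (fun z hz => hW₁O (hW₂' z hz).1)

/-- The closure of the image of a closed set under a quasi-compact morphism does not contain points of codimension 0
outside the image. -/
theorem not_mem_closure_image_of_codim_zero (f : X ⟶ Y) [QuasiCompact f] (C : Set ↥X) (hC : IsClosed C) (η : ↥Y)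
    (hη : ringKrullDim ↥(Y.presheaf.stalk η) = 0) (h : η ∉ f '' C) : η ∉ closure (f '' C) := by
  intro hmem
  obtain ⟨I, hI⟩ : ∃ I : X.IdealSheafData, (I.support : Set ↥X) = C :=
    ⟨Scheme.IdealSheafData.vanishingIdeal ⟨C, hC⟩, Scheme.IdealSheafData.coe_support_vanishingIdeal _⟩
  have hr : Set.range (I.subschemeι ≫ f) = f '' C := by
    ext y
    constructor
    · rintro ⟨z, rfl⟩
      refine ⟨I.subschemeι z, ?_, rfl⟩
      rw [← hI, ← Scheme.IdealSheafData.range_subschemeι]
      exact ⟨z, rfl⟩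
    · rintro ⟨x, hx, rfl⟩
      rw [← hI, ← Scheme.IdealSheafData.range_subschemeι] at hx
      obtain ⟨z, rfl⟩ := hx
      exact ⟨z, rfl⟩
  obtain ⟨z, hz⟩ := Groth.Agent.Lib.Helper14.exists_specializes_of_mem_closure_range (I.subschemeι ≫ f) η
    (by rw [hr]; exact hmem)
  have := eq_of_specializes_of_codim_zero hη hz
  exact h (hr ▸ ⟨z, this⟩)

/-- A quasi-compact morphism locally of finite type has finite fibres over points all of whose preimages are
quasi-finite points. -/
theorem finite_fibre_of_quasiFiniteAt (f : X ⟶ Y) [LocallyOfFiniteType f] [QuasiCompact f] (η : ↥Y)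
    (hqf : ∀ x, f x = η → f.QuasiFiniteAt x) : (f ⁻¹' {η}).Finite := by
  have hD : DiscreteTopology ↥(f.fiber η) := by
    rw [discreteTopology_iff_isOpen_singleton]
    intro z
    obtain ⟨⟨x, hfx⟩, hx⟩ : ∃ x : ↥(f ⁻¹' {η}), f.fiberHomeo η z = x := ⟨_, rfl⟩
    have hfx' : f x = η := hfx
    subst hfx'
    have hz : z = f.asFiber x := by
      apply (f.fiberHomeo (f x)).injective
      rw [hx]
      exact (Homeomorph.apply_symm_apply _ _).symm
    rw [hz]
    exact Scheme.Hom.quasiFiniteAt_iff_isOpen_singleton_asFiber.1 (hqf x rfl)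
  have : Finite ↥(f.fiber η) := finite_of_compact_of_discrete
  have : Finite ↥(f ⁻¹' {η}) := (f.fiberHomeo η).finite_iff.1 this
  exact Set.toFinite _

end Groth.Agent.Lib.Helper16.GenFinSch
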