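import Groth.Agent.Lib.Helper16.QsNoeth2
import Groth.Agent.Lib.Helper16.QsDecent
import Groth.Agent.Lib.Helper16.FiniteFibres
import Groth.Agent.Lib.Helper16.DecentPt
import Groth.Agent.Lib.Helper16.SchLocus

/-!
# Helper library (helper16): an algebraic space with a dense open subscheme having finitely many generic points, all
quasi-compact over the space, is decent
-/

set_option autoImplicit false
universe u
open CategoryTheory CategoryTheory.Limits AlgebraicGeometry Opposite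

namespace Groth.Agent.Lib.Helper16.Strata

open AlgSp

variable {S : Scheme.{u}} {F : Sp S}

section Bound

variable {U V R : Over S} {a : (yon S).obj U ⟶ F} {b : (yon S).obj V ⟶ F} {c : R ⟶ U} {sn : R ⟶ V}

/-- At a point represented by a quasi-compact monomorphism, the geometric degrees of the fibres of
`h_U ×_F h_V ⟶ h_V` are finite, for `U` quasi-compact and etale over `F`. -/
theorem exists_bound_hasDeg₂_of_point (sq : IsPullback ((yon S).map c) ((yon S).map sn) a b) (v : ↥V.left)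
    (hpt : ∃ p : FieldPt F, Points.mk p = Points.ofPt b v ∧ Mono p.toHom ∧ RepWith @QuasiCompact p.toHom)
    (ha : RepWith @Etale a) [CompactSpace ↥U.left] :
    ∃ N : ℕ, ∀ d, HasDeg sn.left v d → d ≤ N := by
  obtain ⟨p, hp, hm, hq⟩ := hpt
  have sqF := hq.rep.isPullback a
  obtain ⟨c₀, hc₀⟩ := (yon S).map_surjective (hq.rep.fst a)
  rw [← hc₀] at sqF
  have hqc : QuasiCompact (hq.rep.snd a).left := hq.property_snd a
  have hcet : Etale c₀.left := ha.property p.toHom _ c₀ sqF.flip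
  have hcpt : CompactSpace ↥(hq.rep.pullback a).left :=
    QuasiCompact.compactSpace_of_compactSpace (hq.rep.snd a).left
  obtain ⟨n, hn⟩ := UBF.hasUnivBddFibres_yon_map_of_etale c₀
  refine ⟨n, ?_⟩
  rintro d ⟨K, _, x, ρ, hx, hρ, hinj⟩
  have hR : sn.left ≫ V.hom = R.hom := Over.w sn
  let TK : Over S := Over.mk (x ≫ V.hom)
  let x' : TK ⟶ V := Over.homMk x rfl
  let ρ' : Fin d → (TK ⟶ R) := fun i => Over.homMk (ρ i) (by
    change ρ i ≫ R.hom = x ≫ V.hom
    rw [← hR, ← Category.assoc, hρ])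
  have hρ'sn : ∀ i, ρ' i ≫ sn = x' := fun i => Over.OverMorphism.ext (hρ i)
  have hqp : Points.mk (fieldPtOfHom K (x ≫ V.hom) ((yon S).map x' ≫ b)) = Points.mk p := by
    rw [mk_fieldPtOfHom_eq_ofPt, hp]
    exact (ofPt_yon_map_comp x' b _).trans (congrArg _ hx)
  obtain ⟨φ, hφ⟩ := exists_factor_of_mono_of_mk_eq p hm hq.rep (x ≫ V.hom) ((yon S).map x' ≫ b) hqp
  have hy : ∀ i, (yon S).map φ ≫ p.toHom = (yon S).map (ρ' i ≫ c) ≫ a := fun i => by
    rw [← hφ, Functor.map_comp, Category.assoc, sq.w, ← Category.assoc, ← Functor.map_comp, hρ'sn]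
  have hz : ∀ i, ∃ z : TK ⟶ hq.rep.pullback a, z ≫ c₀ = φ ∧ z ≫ hq.rep.snd a = ρ' i ≫ c := fun i => by
    refine ⟨(yon S).preimage (sqF.lift _ _ (hy i)), ?_, ?_⟩
    · apply (yon S).map_injective
      rw [Functor.map_comp, Functor.map_preimage, sqF.lift_fst]
    · apply (yon S).map_injective
      rw [Functor.map_comp, Functor.map_preimage, sqF.lift_snd]
  choose z hz1 hz2 using hz
  have sqP : IsPullback ((yon S).map (pullback.fst φ c₀)) ((yon S).map (pullback.snd φ c₀))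
      ((yon S).map φ) ((yon S).map c₀) := (IsPullback.of_hasPullback φ c₀).map (yon S)
  have hdeg := degFibresLE_apply_hom hn (x ≫ V.hom) ((yon S).map φ) (pullback φ c₀) (pullback.fst φ c₀)
    ((yon S).map (pullback.snd φ c₀)) sqP
  let τ : Fin d → (TK ⟶ pullback φ c₀) := fun i => pullback.lift (𝟙 TK) (z i) (by rw [Category.id_comp, hz1])
  refine card_sections_le (pullback.fst φ c₀).left hdeg (fun i => (τ i).left) (fun i => ?_) (fun i j hij => ?_)
  · have : τ i ≫ pullback.fst φ c₀ = 𝟙 TK := pullback.lift_fst _ _ _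
    exact congrArg CommaMorphism.left this
  · have h1 : τ i = τ j := Over.OverMorphism.ext hij
    have h2 : z i = z j := by
      have := congrArg (· ≫ pullback.snd φ c₀) h1
      simpa only [τ, pullback.lift_snd] using this
    have h3 : ρ' i ≫ c = ρ' j ≫ c := by rw [← hz2, ← hz2, h2]
    have h5 : ρ' i = ρ' j := hom_ext_R₂ sq h3 (by rw [hρ'sn, hρ'sn])
    exact hinj (congrArg CommaMorphism.left h5)

end Bound

section Generic

variable {X : Sp S} {M : Over S} (j : (yon S).obj M ⟶ X) (G : Set ↥M.left)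

include j G in
/-- Every nonempty open subset of an etale chart contains a point over one of the generic points. -/
theorem exists_generic_in_open (hj : RepWith @IsOpenImmersion j) (hdense : Dense (Set.range (Points.ofPt j)))
    (hG : ∀ m : ↥M.left, ∃ g ∈ G, g ⤳ m) {V : Over S} (b : (yon S).obj V ⟶ X) (hb : RepWith @Etale b)
    (O : Set ↥V.left) (hO : IsOpen O) (hne : O.Nonempty) :
    ∃ v ∈ O, ∃ g ∈ G, Points.ofPt b v = Points.ofPt j g := by
  have himg : IsOpen (Points.ofPt b '' O) := isOpenMap_ofPt_of_etale b hb O hO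
  obtain ⟨x, ⟨v₀, hv₀, rfl⟩, ⟨m, hm⟩⟩ := hdense.inter_open_nonempty _ himg (hne.image _)
  obtain ⟨g, hg, hgm⟩ := hG m
  have sqP := hj.rep.isPullback' b
  have het : Etale (hj.rep.fst' b).left := hb.property _ _ _ sqP.flip
  obtain ⟨p, hp1, hp2⟩ := exists_point_of_isPullback_yon_yon sqP m v₀ hm
  obtain ⟨p', hp'p, hp'g⟩ := Flat.generalizingMap (hj.rep.fst' b).left (a := p) (b := g) (by
    rw [hp1]
    exact hgm)
  refine ⟨(hj.rep.snd b).left p', ?_, g, hg, ?_⟩
  · have h1 : (hj.rep.snd b).left p' ⤳ (hj.rep.snd b).left p := hp'p.map (hj.rep.snd b).left.continuous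
    rw [hp2] at h1
    exact h1.mem_open hO hv₀
  · rw [← ofPt_yon_map_comp, ← sqP.w, ofPt_yon_map_comp, hp'g]

/-- The geometric degrees of `h_U ×_X h_V ⟶ h_V` are uniformly bounded, for affine etale charts `U`, `V`. -/
theorem exists_uniform_bound (hX : IsAlgSpace X) (hj : RepWith @IsOpenImmersion j)
    (hdense : Dense (Set.range (Points.ofPt j))) (hGfin : G.Finite) (hG : ∀ m : ↥M.left, ∃ g ∈ G, g ⤳ m)
    (hqc : ∀ g ∈ G, RepWith @QuasiCompact (FieldPt.ofPt j g).toHom)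
    {U V R : Over S} {a : (yon S).obj U ⟶ X} {b : (yon S).obj V ⟶ X} {c : R ⟶ U} {sn : R ⟶ V}
    (sq : IsPullback ((yon S).map c) ((yon S).map sn) a b) (ha : RepWith @Etale a) (hb : RepWith @Etale b)
    [IsAffine U.left] [CompactSpace ↥V.left] :
    ∃ N : ℕ, ∀ (v : ↥V.left) (d : ℕ), HasDeg sn.left v d → d ≤ N := by
  classical
  have het : Etale sn.left := ha.property b ((yon S).map c) sn sq
  have hsep : IsSeparated sn.left := isSeparated_sn₂ sq
  obtain ⟨Γ, hΓ⟩ : ∃ Γ : Set ↥V.left, Γ = ⋃ g ∈ G, Points.ofPt b ⁻¹' {Points.ofPt j g} := ⟨_, rfl⟩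
  have hΓfin : Γ.Finite := by
    rw [hΓ]
    exact hGfin.biUnion fun g hg => finite_fibre_of_quasiCompact_fieldPt (FieldPt.ofPt j g) (hqc g hg) b hb
  have hpt : ∀ v ∈ Γ, ∃ N : ℕ, ∀ d, HasDeg sn.left v d → d ≤ N := by
    intro v hv
    rw [hΓ] at hv
    obtain ⟨g, hg, hvg⟩ := Set.mem_iUnion₂.1 hv
    obtain ⟨p, hp, hm, hq⟩ := exists_qc_mono_point_of_qc_point hX (FieldPt.ofPt j g) (hqc g hg)
    exact exists_bound_hasDeg₂_of_point sq v ⟨p, hp.trans hvg.symm, hm, hq⟩ ha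
  choose Nf hNf using hpt
  let gf : ↥V.left → ℕ := fun v => if h : v ∈ Γ then Nf v h else 0
  refine ⟨hΓfin.toFinset.sup gf, fun v d hd => ?_⟩
  obtain ⟨v', hv'O, g, hg, hv'g⟩ := exists_generic_in_open j G hj hdense hG b hb {v | HasDeg sn.left v d}
    (isOpen_setOf_hasDeg d sn.left) ⟨v, hd⟩
  have hv'Γ : v' ∈ Γ := by
    rw [hΓ]
    exact Set.mem_iUnion₂.2 ⟨g, hg, hv'g⟩
  have h1 : d ≤ Nf v' hv'Γ := hNf v' hv'Γ d hv'O
  have h2 : gf v' ≤ hΓfin.toFinset.sup gf := Finset.le_sup (hΓfin.mem_toFinset.2 hv'Γ)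
  have h3 : gf v' = Nf v' hv'Γ := dif_pos hv'Γ
  omega

/-- An algebraic space with a dense open subscheme with finitely many generic points, all quasi-compact over the
space, is decent. -/
theorem isDecent_of_generic (hX : IsAlgSpace X) (hj : RepWith @IsOpenImmersion j)
    (hdense : Dense (Set.range (Points.ofPt j))) (hGfin : G.Finite) (hG : ∀ m : ↥M.left, ∃ g ∈ G, g ⤳ m)
    (hqc : ∀ g ∈ G, RepWith @QuasiCompact (FieldPt.ofPt j g).toHom) : IsDecent X := by
  apply isDecent_of_compact_affine_etale hX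
  intro q W ψ hWaff hψ R r₁ r₂ sqR
  -- an affine chart through the point of `q`
  obtain ⟨U₀, p₀, hp₀e, hp₀s⟩ := hX.atlas
  obtain ⟨u₀, hu₀⟩ := ofPt_surjective_of_surjective p₀ hp₀s (Points.mk q)
  obtain ⟨O, hOaff, hu₀O⟩ := exists_affineOpen_mem u₀
  have hW₀aff : IsAffine (overOpen U₀ O).left := hOaff
  have hψ₀ : RepWith @Etale ((yon S).map (overOpenι U₀ O) ≫ p₀) := repWith_etale_restrict p₀ hp₀e O
  have hw₀ : Points.ofPt ((yon S).map (overOpenι U₀ O) ≫ p₀) ⟨u₀, hu₀O⟩ = Points.mk q := by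
    rw [ofPt_restrict]
    exact hu₀
  obtain ⟨W₀, ψ₀, w₀, hW₀aff', hψ₀', hw₀'⟩ : ∃ (W₀ : Over S) (ψ₀ : (yon S).obj W₀ ⟶ X) (w₀ : ↥W₀.left),
      IsAffine W₀.left ∧ RepWith @Etale ψ₀ ∧ Points.ofPt ψ₀ w₀ = Points.mk q :=
    ⟨_, _, _, hW₀aff, hψ₀, hw₀⟩
  clear hw₀ hψ₀ hW₀aff
  -- the two-chart square
  have sq₂ := hψ.rep.isPullback' ψ₀
  obtain ⟨N, hN⟩ := exists_uniform_bound j G hX hj hdense hGfin hG hqc sq₂ hψ hψ₀'
  -- `R` is etale separated over the field
  have hr₁e : Etale r₁.left := hψ.property q.toHom _ r₁ sqR.flip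
  have hr₁s : IsSeparated r₁.left := isSeparated_sn₂ sqR.flip
  have hbound : ∀ v, ¬ HasDeg r₁.left v (N + 1) := by
    rintro v ⟨K', _, x, ρ, hx, hρ, hinj⟩
    let TK : Over S := Over.mk (x ≫ q.pt.hom)
    let x' : TK ⟶ q.pt := Over.homMk x rfl
    have hwρ : ∀ i, ρ i ≫ R.hom = x ≫ q.pt.hom := fun i => by
      rw [← Over.w r₁, ← Category.assoc, hρ]
    let ρ' : Fin (N + 1) → (TK ⟶ R) := fun i => Over.homMk (ρ i) (hwρ i)
    have hρ'r₁ : ∀ i, ρ' i ≫ r₁ = x' := fun i => Over.OverMorphism.ext (hρ i)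
    have hyψ : ∀ i, (yon S).map (ρ' i ≫ r₂) ≫ ψ = (yon S).map x' ≫ q.toHom := fun i => by
      rw [Functor.map_comp, Category.assoc, ← sqR.w, ← Category.assoc, ← Functor.map_comp, hρ'r₁]
    -- a common field extension with the chart point
    have hmk : Points.mk (fieldPtOfHom K' (x ≫ q.pt.hom) ((yon S).map x' ≫ q.toHom)) =
        Points.mk (FieldPt.ofPt ψ₀ w₀) := by
      rw [mk_fieldPtOfHom_eq_ofPt, ofPt_yon_map_comp]
      have h1 := Points.ofPt_toHom q (x'.left (IsLocalRing.closedPoint K'))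
      rw [h1]
      exact hw₀'.symm
    obtain ⟨Ω, _, w, α, β, hαβ⟩ := (rel_iff_toHom _ _).1 (Points.mk_eq_mk_iff.1 hmk)
    rw [fieldPtOfHom_toHom, FieldPt.toHom_ofPt] at hαβ
    let α' : Over.mk w ⟶ TK := α
    obtain ⟨z, hz⟩ : ∃ z : Over.mk w ⟶ W₀,
        z = β ≫ Over.homMk (W₀.left.fromSpecResidueField w₀) rfl := ⟨_, rfl⟩
    have hzψ₀ : (yon S).map α' ≫ (yon S).map x' ≫ q.toHom = (yon S).map z ≫ ψ₀ := by
      rw [hz, Functor.map_comp, Category.assoc]
      exact hαβ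
    have hlift : ∀ i, ∃ ρ₂ : Over.mk w ⟶ hψ.rep.pullback ψ₀,
        ρ₂ ≫ hψ.rep.fst' ψ₀ = α' ≫ ρ' i ≫ r₂ ∧ ρ₂ ≫ hψ.rep.snd ψ₀ = z := fun i =>
      exists_lift_R₂ sq₂ _ _ (by
        rw [Functor.map_comp, Category.assoc, hyψ]
        exact hzψ₀)
    choose ρ₂ hρ₂c hρ₂s using hlift
    have hzpt : z.left (IsLocalRing.closedPoint Ω) = w₀ := by
      rw [hz, Over.comp_left, Scheme.Hom.comp_apply]
      exact W₀.left.fromSpecResidueField_apply w₀ _
    have hdeg : HasDeg (hψ.rep.snd ψ₀).left w₀ (N + 1) := by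
      refine ⟨Ω, inferInstance, z.left, fun i => (ρ₂ i).left, hzpt, fun i => ?_, fun i l hil => ?_⟩
      · exact congrArg CommaMorphism.left (hρ₂s i)
      · apply hinj
        have h1 : ρ₂ i = ρ₂ l := Over.OverMorphism.ext hil
        have h2 : α' ≫ ρ' i ≫ r₂ = α' ≫ ρ' l ≫ r₂ := by rw [← hρ₂c, ← hρ₂c, h1]
        have h3 : α'.left ≫ (ρ' i ≫ r₂).left = α'.left ≫ (ρ' l ≫ r₂).left :=
          congrArg CommaMorphism.left h2
        have h4 : (ρ' i ≫ r₂).left = (ρ' l ≫ r₂).left := cancel_field_epi (K := K') (K' := Ω) α'.left h3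
        have h5 : ρ' i ≫ r₂ = ρ' l ≫ r₂ := Over.OverMorphism.ext h4
        have h6 : ρ' i = ρ' l := hom_ext_R₂ sqR.flip h5 (by rw [hρ'r₁, hρ'r₁])
        exact congrArg CommaMorphism.left h6
    have := hN w₀ (N + 1) hdeg
    omega
  have hnoeth : IsNoetherian q.pt.left := inferInstanceAs (IsNoetherian (Spec (CommRingCat.of q.K)))
  exact ⟨compactSpace_of_forall_not_hasDeg N r₁.left hbound⟩

end Generic

end Groth.Agent.Lib.Helper16.Strata
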