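import Mathlib
import Groth.Agent.Lib.Helper16.GeomConn

/-!
# Helper library (helper16): base change of an algebraic space over a separably closed field point along a field
extension induces a bijection on connected components (relative version over a general base)
-/

set_option autoImplicit false
set_option linter.style.haveILetI false
universe u
open CategoryTheory CategoryTheory.Limits AlgebraicGeometry Opposite Topology

namespace Groth.Agent.Lib.Helper16.GeomConn

open AlgSp Groth.Agent.Lib.Helper16 Groth.Agent.Lib.Helper16.FibreEmb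

variable {S : Scheme.{u}}

theorem bijective_connectedComponentsMap_bc_field {Z : Sp S} (hZ : IsAlgSpace Z) (k : Type u) [Field k]
    [IsSepClosed k] (str : Spec (CommRingCat.of k) ⟶ S) (p : Z ⟶ (yon S).obj (Over.mk str))
    (Ω : Type u) [Field Ω] (w : Spec (CommRingCat.of Ω) ⟶ S) (c : Over.mk w ⟶ Over.mk str)
    {ZΩ : Sp S} (π : ZΩ ⟶ Z) (q : ZΩ ⟶ (yon S).obj (Over.mk w))
    (sq : IsPullback π q p ((yon S).map c)) :
    Function.Bijective (Continuous.connectedComponentsMap (Points.continuous_map π)) := by
  have hu : IsUnivOpenMor ((yon S).map c) := isUnivOpenMor_of_field (IsAlgSpace.yon_obj _) str _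
  have hopen : IsOpenMap (Points.map π) := hu hZ p q π sq.flip
  refine bijective_connectedComponentsMap_of_open_of_fibres π hopen ?_
  intro r
  obtain ⟨ρ, hρ⟩ := (yon S).map_surjective (r.toHom ≫ p)
  obtain ⟨ι, hι⟩ : ∃ ι : k →+* Ω, Spec.map (CommRingCat.ofHom ι) = c.left :=
    ⟨(Spec.preimage c.left).hom, by rw [CommRingCat.ofHom_hom, Spec.map_preimage]⟩
  letI : Algebra k Ω := ι.toAlgebra
  have hc : c.left = Spec.map (CommRingCat.ofHom (algebraMap k Ω)) := hι.symm
  have sqT := (IsPullback.of_hasPullback ρ c).map (yon S)
  have hcond : ((yon S).map (pullback.fst ρ c) ≫ r.toHom) ≫ p =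
      (yon S).map (pullback.snd ρ c) ≫ (yon S).map c := by
    rw [Category.assoc, ← hρ]
    exact sqT.w
  refine ⟨(yon S).obj (pullback ρ c), sq.lift _ _ hcond, (yon S).map (pullback.fst ρ c), ?_, ?_⟩
  · refine (IsPullback.of_bot ?_ ?_ sq).flip
    · rw [sq.lift_snd, ← hρ]
      exact sqT
    · rw [sq.lift_fst]
  · have sqL := isPullback_left_forget ρ c
    haveI : ConnectedSpace ↥(pullback ρ.left c.left) := by
      rw [hc]
      exact connectedSpace_bc_of_isSepClosed k r.K ρ.left Ω
    haveI : ConnectedSpace ↥(pullback ρ c).left :=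
      (Scheme.homeoOfIso sqL.isoPullback).symm.surjective.connectedSpace
        (Scheme.homeoOfIso sqL.isoPullback).symm.continuous
    exact (Points.schemeHomeo _).surjective.connectedSpace (Points.schemeHomeo _).continuous

end Groth.Agent.Lib.Helper16.GeomConn
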