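import Mathlib
import Groth.Agent.Lib.Helper16.RelAbs
import Groth.Agent.Lib.Helper16.SchImgRed2
import Groth.Agent.Lib.Helper16.FibreProduct

/-!
# Helper library (helper16): geometric reducedness of fibres of morphisms of algebraic spaces does not depend
on the field point representing the point
-/

set_option autoImplicit false
set_option linter.style.haveILetI false
universe u
open CategoryTheory CategoryTheory.Limits AlgebraicGeometry Opposite Topology

namespace Groth.Agent.Lib.Helper16.GeomRedFib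

open AlgSp Groth.Agent.Lib.Helper16

variable {S : Scheme.{u}}

/-- Reducedness descends along a flat surjective base change of representable targets. -/
theorem isReducedSp_of_bc {Z ZE : Sp S} (hZ : IsAlgSpace Z) {V V' : Over S}
    (pZ : Z ⟶ (yon S).obj V) (m : V' ⟶ V) [Flat m.left] [Surjective m.left]
    (π : ZE ⟶ Z) (q : ZE ⟶ (yon S).obj V') (sq : IsPullback π q pZ ((yon S).map m))
    (hred : IsReducedSp ZE) : IsReducedSp Z := by
  obtain ⟨U, a, hae, has⟩ := hZ.atlas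
  obtain ⟨g, hg⟩ := (yon S).map_surjective (a ≫ pZ)
  obtain ⟨aE, -, -, he, -⟩ := RelAbs.exists_chart_bc pZ m π q sq a g hg
  haveI : IsReduced (pullback g.left m.left) :=
    SchImg.isReduced_of_etale_of_isReducedSp hred aE (he hae)
  haveI : Flat (pullback.fst g.left m.left) :=
    MorphismProperty.pullback_fst (P := @Flat) _ _ inferInstance
  haveI : Surjective (pullback.fst g.left m.left) :=
    MorphismProperty.pullback_fst (P := @Surjective) _ _ inferInstance
  exact ⟨U, a, hae, has,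
    Groth.Agent.Lib.Helper15.isReduced_of_flat_of_surjective (pullback.fst g.left m.left)⟩

/-- Geometric reducedness of the fibre over a field point (the form of the statement). -/
def GeomRedFibre {X Y : Sp S} (f : X ⟶ Y) (k : FieldPt Y) : Prop :=
  ∀ (k' : Type u) [Field k'] (φ : k.K →+* k') (Xk' : Sp S) (a : Xk' ⟶ X)
    (b : Xk' ⟶ (yon S).obj (Over.mk (Spec.map (CommRingCat.ofHom φ) ≫ k.str))),
    IsPullback a b f ((yon S).map (Over.homMk (Spec.map (CommRingCat.ofHom φ)) rfl :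
      Over.mk (Spec.map (CommRingCat.ofHom φ) ≫ k.str) ⟶ k.pt) ≫ k.toHom) →
    EtaleLocally (fun U => IsReduced U) Xk'

theorem geomRedFibre_of_rel {X Y : Sp S} (hX : IsAlgSpace X) (hY : IsAlgSpace Y) (f : X ⟶ Y)
    (k₁ k₂ : FieldPt Y) (hrel : FieldPt.Rel k₁ k₂) (h₁ : GeomRedFibre f k₁) : GeomRedFibre f k₂ := by
  intro k' _ φ Xk' a b sq
  have hXk' : IsAlgSpace Xk' := isAlgSpace_of_isPullback hX hY.diag (IsAlgSpace.yon_obj _) sq
  rw [rel_iff_toHom] at hrel
  obtain ⟨Ω, _, w, α, β, hαβ⟩ := hrel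
  obtain ⟨αr, hαr⟩ : ∃ αr : k₁.K →+* Ω, Spec.map (CommRingCat.ofHom αr) = α.left :=
    ⟨(Spec.preimage α.left).hom, by rw [CommRingCat.ofHom_hom, Spec.map_preimage]⟩
  obtain ⟨βr, hβr⟩ : ∃ βr : k₂.K →+* Ω, Spec.map (CommRingCat.ofHom βr) = β.left :=
    ⟨(Spec.preimage β.left).hom, by rw [CommRingCat.ofHom_hom, Spec.map_preimage]⟩
  obtain ⟨Ω', _, i₁, i₂, hi⟩ := FieldPt.exists_amalgamation βr φ
  -- the structure maps
  have hwα : α.left ≫ k₁.str = w := Over.w α
  have hwβ : β.left ≫ k₂.str = w := Over.w β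
  have hρ : Spec.map (CommRingCat.ofHom (i₁.comp αr)) = Spec.map (CommRingCat.ofHom i₁) ≫ α.left := by
    rw [CommRingCat.ofHom_comp, Spec.map_comp, hαr]
  have hφi : Spec.map (CommRingCat.ofHom i₂) ≫ Spec.map (CommRingCat.ofHom φ) =
      Spec.map (CommRingCat.ofHom i₁) ≫ β.left := by
    rw [← Spec.map_comp, ← CommRingCat.ofHom_comp, ← hi, CommRingCat.ofHom_comp, Spec.map_comp, hβr]
  have hi₁w : Spec.map (CommRingCat.ofHom i₁) ≫ w =
      Spec.map (CommRingCat.ofHom (i₁.comp αr)) ≫ k₁.str := by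
    rw [hρ, Category.assoc, hwα]
  have hmw : Spec.map (CommRingCat.ofHom i₂) ≫ (Spec.map (CommRingCat.ofHom φ) ≫ k₂.str) =
      Spec.map (CommRingCat.ofHom (i₁.comp αr)) ≫ k₁.str := by
    rw [← Category.assoc, hφi, Category.assoc, hwβ, hi₁w]
  obtain ⟨ρt, hρt⟩ : ∃ ρt : Over.mk (Spec.map (CommRingCat.ofHom (i₁.comp αr)) ≫ k₁.str) ⟶ k₁.pt,
      ρt = Over.homMk (Spec.map (CommRingCat.ofHom (i₁.comp αr))) rfl := ⟨_, rfl⟩
  obtain ⟨φt, hφt⟩ : ∃ φt : Over.mk (Spec.map (CommRingCat.ofHom φ) ≫ k₂.str) ⟶ k₂.pt,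
      φt = Over.homMk (Spec.map (CommRingCat.ofHom φ)) rfl := ⟨_, rfl⟩
  obtain ⟨m, hm⟩ : ∃ m : Over.mk (Spec.map (CommRingCat.ofHom (i₁.comp αr)) ≫ k₁.str) ⟶
      Over.mk (Spec.map (CommRingCat.ofHom φ) ≫ k₂.str),
      m.left = Spec.map (CommRingCat.ofHom i₂) := ⟨Over.homMk _ hmw, rfl⟩
  obtain ⟨it, hit⟩ : ∃ it : Over.mk (Spec.map (CommRingCat.ofHom (i₁.comp αr)) ≫ k₁.str) ⟶
      Over.mk w, it.left = Spec.map (CommRingCat.ofHom i₁) := ⟨Over.homMk _ hi₁w, rfl⟩
  have e1 : m ≫ φt = it ≫ β := by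
    apply Over.OverMorphism.ext
    rw [Over.comp_left, Over.comp_left, hm, hit, hφt]
    exact hφi
  have e2 : ρt = it ≫ α := by
    apply Over.OverMorphism.ext
    rw [Over.comp_left, hit, hρt]
    exact hρ
  have e3 : (yon S).map m ≫ ((yon S).map φt ≫ k₂.toHom) = (yon S).map ρt ≫ k₁.toHom := by
    rw [← Category.assoc, ← Functor.map_comp, e1, e2, Functor.map_comp, Functor.map_comp,
      Category.assoc, Category.assoc, hαβ]
  -- the fibre over the big field
  have sqP := IsPullback.of_hasPullback f ((yon S).map ρt ≫ k₁.toHom)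
  have hredP : IsReducedSp (pullback f ((yon S).map ρt ≫ k₁.toHom)) := by
    subst hρt
    exact h₁ Ω' (i₁.comp αr) _ _ _ sqP
  subst hφt
  have hcond : pullback.fst f ((yon S).map ρt ≫ k₁.toHom) ≫ f =
      (pullback.snd f ((yon S).map ρt ≫ k₁.toHom) ≫ (yon S).map m) ≫
        ((yon S).map (Over.homMk (Spec.map (CommRingCat.ofHom φ)) rfl :
          Over.mk (Spec.map (CommRingCat.ofHom φ) ≫ k₂.str) ⟶ k₂.pt) ≫ k₂.toHom) := by
    rw [Category.assoc, e3]
    exact sqP.w
  have hl1 : sq.lift _ _ hcond ≫ a = pullback.fst f ((yon S).map ρt ≫ k₁.toHom) :=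
    sq.lift_fst _ _ _
  have hl2 : sq.lift _ _ hcond ≫ b =
      pullback.snd f ((yon S).map ρt ≫ k₁.toHom) ≫ (yon S).map m := sq.lift_snd _ _ _
  have sqL : IsPullback (sq.lift _ _ hcond) (pullback.snd f ((yon S).map ρt ≫ k₁.toHom)) b
      ((yon S).map m) := by
    refine IsPullback.of_right ?_ hl2 sq
    rw [hl1, e3]
    exact sqP
  haveI : Flat m.left := by
    rw [hm, Flat.SpecMap_iff]
    letI : Algebra k' Ω' := i₂.toAlgebra
    show Module.Flat k' Ω'
    infer_instance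
  haveI : Surjective m.left := by
    rw [hm]
    haveI hsub : Subsingleton ↥(Over.mk (Spec.map (CommRingCat.ofHom φ) ≫ k₂.str)).left :=
      inferInstanceAs (Subsingleton (PrimeSpectrum k'))
    exact ⟨fun x => ⟨(IsLocalRing.closedPoint Ω' : ↥(Spec (CommRingCat.of Ω'))),
      hsub.elim _ _⟩⟩
  exact isReducedSp_of_bc hXk' b m (sq.lift _ _ hcond) _ sqL hredP

end Groth.Agent.Lib.Helper16.GeomRedFib
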