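import Mathlib
import Groth.Agent.Lib.Helper16.Charts
import Groth.Agent.Lib.Helper8.BranchNbhdMain
import Groth.Agent.Lib.Helper8.Hzl.Transfer
import Groth.Agent.Lib.Helper8.Hzl.IndEtaleFlat
import Groth.Agent.S2135

/-!
# Geometric unibranchness descends along flat local homomorphisms
-/

set_option autoImplicit false
universe u
open CategoryTheory CategoryTheory.Limits AlgebraicGeometry Opposite TensorProduct

namespace Groth.Agent.Lib.Helper16.GeomUnibranchFlat

section Ring

open IsLocalRing Groth.Agent.Lib.Helper8.Hzl Groth.Agent.Lib.Helper8.BranchNbhd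

/-- If `A → B` is a flat local homomorphism of local rings and `B` is geometrically unibranch, then
so is `A`. -/
theorem isGeomUnibranch_of_flat (A B : Type u) [CommRing A] [IsLocalRing A] [CommRing B]
    [IsLocalRing B] [Algebra A B] [IsLocalHom (algebraMap A B)] [Module.Flat A B]
    (hB : CAlg2.IsGeomUnibranch B) : CAlg2.IsGeomUnibranch A := by
  haveI hAs := isStrictHenselization A
  haveI hBs := isStrictHenselization B
  haveI : HenselianLocalRing (SHens B) := hBs.henselian
  letI algABs : Algebra A (SHens B) := ((algebraMap B (SHens B)).comp (algebraMap A B)).toAlgebra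
  haveI : IsScalarTower A B (SHens B) := IsScalarTower.of_algebraMap_eq (fun _ => rfl)
  haveI hlocf : IsLocalHom (algebraMap A (SHens B)) :=
    (RingHom.isLocalHom_comp (algebraMap B (SHens B)) (algebraMap A B) :
      IsLocalHom ((algebraMap B (SHens B)).comp (algebraMap A B)))
  haveI : IsSepClosure (ResidueField A) (ResidueField (SHens A)) := hAs.isSepClosure
  haveI : Algebra.IsSeparable (ResidueField A) (ResidueField (SHens A)) := IsSepClosure.separable
  haveI : IsSepClosure (ResidueField B) (ResidueField (SHens B)) := hBs.isSepClosure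
  haveI : IsSepClosed (ResidueField (SHens B)) := IsSepClosure.sep_closed (ResidueField B)
  let σ : ResidueField (SHens A) →ₐ[ResidueField A] ResidueField (SHens B) := IsSepClosed.lift
  have hτ : (σ : ResidueField (SHens A) →+* ResidueField (SHens B)).comp
      (ResidueField.map (algebraMap A (SHens A))) =
      ResidueField.map (algebraMap A (SHens B)) := by
    ext x
    obtain ⟨a, rfl⟩ := residue_surjective x
    show σ (ResidueField.map (algebraMap A (SHens A)) (residue A a)) =
      ResidueField.map (algebraMap A (SHens B)) (residue A a)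
    rw [ResidueField.map_residue, ResidueField.map_residue, ← ResidueField.algebraMap_residue,
      σ.commutes]
    rfl
  obtain ⟨g, ⟨hg1, hg2⟩, -⟩ := hAs.universal (SHens B) (algebraMap A (SHens B))
    (σ : ResidueField (SHens A) →+* ResidueField (SHens B)) hτ
  letI algAsBs : Algebra (SHens A) (SHens B) := g.toAlgebra
  haveI : IsScalarTower A (SHens A) (SHens B) :=
    IsScalarTower.of_algebraMap_eq (fun a => (RingHom.congr_fun hg1 a).symm)
  haveI hlocg : IsLocalHom (algebraMap (SHens A) (SHens B)) := by
    constructor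
    intro b hb
    have h1 : residue (SHens B) (g b) ≠ 0 := (residue_ne_zero_iff_isUnit _).mpr hb
    rw [hg2] at h1
    have h2 : residue (SHens A) b ≠ 0 := fun h0 => h1 (by rw [h0, map_zero])
    exact (residue_ne_zero_iff_isUnit _).mp h2
  haveI : Module.Flat B (SHens B) := strictHenselization_flat B (SHens B)
  haveI : Module.Flat A (SHens B) := Module.Flat.trans A B (SHens B)
  haveI : Module.Flat (SHens A) (SHens B) :=
    (strictHenselization_indEtaleLike A (SHens A)).flat_of_flat (SHens B)
  haveI : Module.FaithfullyFlat (SHens A) (SHens B) := Module.FaithfullyFlat.of_flat_of_isLocalHom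
  have h1 : CAlgX.HasUniqueMinimalPrime (SHens B) :=
    (Groth.Agent.S2135.result (A := B) (Ash := SHens B)).1 hB
  have h2 : (minimalPrimes (SHens A)).encard ≤ (minimalPrimes (SHens B)).encard :=
    encard_minimalPrimes_le_of_faithfullyFlat (SHens A) (SHens B)
  have h3 : CAlgX.HasUniqueMinimalPrime (SHens A) := by
    rw [hasUniqueMinimalPrime_iff_encard_eq_one] at h1 ⊢
    refine le_antisymm (h2.trans h1.le) ?_
    rw [Set.one_le_encard_iff_nonempty]
    obtain ⟨P, hP, -⟩ := Ideal.exists_minimalPrimes_le (I := ⊥)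
      (J := IsLocalRing.maximalIdeal (SHens A)) bot_le
    exact ⟨P, hP⟩
  exact (Groth.Agent.S2135.result (A := A) (Ash := SHens A)).2 h3

end Ring

section Main

open AlgSp Groth.Agent.Lib.Helper16

variable {S : Scheme.{u}}

theorem isGeomUnibranch_of_isFlatAtMor {X Y : AlgSp.Space S} (f : X ⟶ Y)
    (x : AlgSp.Points X.obj) (hf : AlgSp.IsFlatAtMor f.hom x)
    (hX : ∀ (U : Over S) (a : (AlgSp.yon S).obj U ⟶ X.obj) (v : ↥U.left), AlgSp.RepWith @Etale a →
      AlgSp.Points.ofPt a v = x → CAlg2.IsGeomUnibranch ↥(U.left.presheaf.stalk v))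
    (V : Over S) (b : (AlgSp.yon S).obj V ⟶ Y.obj) (w : ↥V.left) (hb : AlgSp.RepWith @Etale b)
    (hw : AlgSp.Points.ofPt b w = AlgSp.Points.map f.hom x) :
    CAlg2.IsGeomUnibranch ↥(V.left.presheaf.stalk w) := by
  obtain ⟨U₀, c, hce, hcs⟩ := X.property.atlas
  obtain ⟨u₀, hu₀⟩ := ofPt_surjective_of_surjective c hcs x
  obtain ⟨R, snd, fst, sq⟩ := hb.rep (c ≫ f.hom)
  obtain ⟨pr, rfl⟩ := (yon S).map_surjective fst
  have hsnd : Etale snd.left := hb.property _ _ _ sq
  have hpt : Points.ofPt b w = Points.ofPt (c ≫ f.hom) u₀ := by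
    rw [hw, ← hu₀]; rfl
  obtain ⟨r, hr1, hr2⟩ := exists_point_of_isPullback_yon_yon sq w u₀ hpt
  have hae : RepWith @Etale ((yon S).map snd ≫ c) :=
    (repWith_isMultiplicative (S := S) @Etale).comp_mem _ _
      ((repWith_yon_map_iff _ _).2 hsnd) hce
  have hax : Points.ofPt ((yon S).map snd ≫ c) r = x := by
    rw [ofPt_yon_map_comp, hr2, hu₀]
  have hcomm : ((yon S).map snd ≫ c) ≫ f.hom = (yon S).map pr ≫ b := by
    rw [Category.assoc]; exact sq.w.symm
  have hflat := hf ((yon S).map snd ≫ c) b pr r hae hb hcomm hax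
  have hgu := hX R ((yon S).map snd ≫ c) r hae hax
  subst hr1
  letI : Algebra ↥(V.left.presheaf.stalk (pr.left r)) ↥(R.left.presheaf.stalk r) :=
    (pr.left.stalkMap r).hom.toAlgebra
  haveI : IsLocalHom (algebraMap ↥(V.left.presheaf.stalk (pr.left r))
      ↥(R.left.presheaf.stalk r)) :=
    inferInstanceAs (IsLocalHom (pr.left.stalkMap r).hom)
  haveI : Module.Flat ↥(V.left.presheaf.stalk (pr.left r)) ↥(R.left.presheaf.stalk r) := hflat
  exact isGeomUnibranch_of_flat _ _ hgu

end Main

end Groth.Agent.Lib.Helper16.GeomUnibranchFlat
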