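import Groth.Agent.Lib.Helper13.NonAbTorsor
import Mathlib.Algebra.Category.Grp.FilteredColimits
import Mathlib.Algebra.Category.Grp.Limits
import Mathlib.CategoryTheory.Sites.Point.Conservative
import Mathlib.CategoryTheory.Category.ULift

/-!
# Helper16: Godement embedding of a sheaf of groups into a sheaf of groups with trivial torsors

For a site `(C, J)` (`C : Type (u+1)`, morphisms in `Type u`) with a family of points `Φ i`:
* `exists_groupGerm` / `GermData`: the stalk of a presheaf of groups along a fibre functor as a group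
  (filtered colimit in `GrpCat` along `AsSmall`), with the germ-equality criterion;
* `godementSheaf Φ A`: the sheaf `V ↦ ∏_{i, v ∈ Φ_i(V)} A i`;
* `toGodement`, `toGodement_injective`: the embedding of a sheaf of groups into the Godement sheaf of its
  stalks (injective when `Φ` detects covering sieves);
* `torsor_isTrivial`: every torsor under `(godementSheaf Φ A).over U` is trivial;
* `exists_mono_torsors_trivial`: the combination.
-/

set_option autoImplicit false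
universe u
open CategoryTheory CategoryTheory.Limits Opposite

namespace Groth.Agent.Lib.Helper16.GodementGrp

theorem exists_groupGerm {E : Type (u+1)} [Category.{u} E] [IsCofiltered E] (K : Eᵒᵖ ⥤ GrpCat.{u+1}) :
    ∃ (A : GrpCat.{u+1}) (germ : ∀ e : E, K.obj (op e) ⟶ A),
      (∀ {e e' : E} (f : e ⟶ e'), K.map f.op ≫ germ e = germ e') ∧
      (∀ (e : E) (s t : K.obj (op e)), germ e s = germ e t →
        ∃ (e' : E) (f : e' ⟶ e), K.map f.op s = K.map f.op t) := by
  let J := AsSmall.{u+1} Eᵒᵖ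
  have : IsFiltered J := IsFiltered.of_equivalence AsSmall.equiv
  let K' : J ⥤ GrpCat.{u+1} := AsSmall.down ⋙ K
  let c := GrpCat.FilteredColimits.colimitCocone.{u+1, u+1} K'
  let hc := GrpCat.FilteredColimits.colimitCoconeIsColimit.{u+1, u+1} K'
  let hc' := isColimitOfPreserves (forget GrpCat.{u+1}) hc
  refine ⟨c.pt, fun e => c.ι.app (AsSmall.up.obj (op e)), ?_, ?_⟩
  · intro e e' f
    exact c.w (AsSmall.up.map f.op)
  · intro e s t h
    obtain ⟨j, g, hg⟩ := (Types.FilteredColimit.isColimit_eq_iff' hc' s t).mp h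
    exact ⟨(AsSmall.down.obj j).unop, (AsSmall.down.map g).unop, hg⟩

variable {C : Type (u+1)} [Category.{u} C] {J : GrothendieckTopology C}

/-- Germ data for a presheaf of groups along a fibre functor. -/
structure GermData (F : Cᵒᵖ ⥤ GrpCat.{u+1}) (fib : C ⥤ Type u) where
  A : GrpCat.{u+1}
  germ : ∀ (V : C) (_ : fib.obj V), F.obj (op V) ⟶ A
  germ_map : ∀ {V W : C} (f : W ⟶ V) (w : fib.obj W) (s : F.obj (op V)),
    germ W w (F.map f.op s) = germ V (fib.map f w) s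
  germ_eq : ∀ (V : C) (v : fib.obj V) (s t : F.obj (op V)), germ V v s = germ V v t →
    ∃ (W : C) (f : W ⟶ V) (w : fib.obj W), fib.map f w = v ∧ F.map f.op s = F.map f.op t

theorem nonempty_germData (F : Cᵒᵖ ⥤ GrpCat.{u+1}) (fib : C ⥤ Type u) [IsCofiltered fib.Elements] :
    Nonempty (GermData F fib) := by
  obtain ⟨A, germ, h₁, h₂⟩ := exists_groupGerm ((CategoryOfElements.π fib).op ⋙ F)
  refine ⟨⟨A, fun V v => germ ⟨V, v⟩, ?_, ?_⟩⟩
  · intro V W f w s
    have := h₁ (CategoryOfElements.homMk ⟨W, w⟩ ⟨V, fib.map f w⟩ f rfl)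
    exact ConcreteCategory.congr_hom this s
  · intro V v s t h
    obtain ⟨e', f, hf⟩ := h₂ ⟨V, v⟩ s t h
    exact ⟨e'.1, f.1, e'.2, f.2, hf⟩

variable {ι : Type (u+1)} (Φ : ι → GrothendieckTopology.Point.{u} J) (A : ι → Type (u+1))
  [∀ i, Group (A i)]

/-- Sections of the Godement sheaf. -/
abbrev Sec (V : C) : Type (u+1) := ∀ (i : ι) (_ : (Φ i).fiber.obj V), A i

/-- Restriction of sections of the Godement sheaf. -/
def res {V W : C} (f : W ⟶ V) : Sec Φ A V →* Sec Φ A W where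
  toFun g := fun i w => g i ((Φ i).fiber.map f w)
  map_one' := rfl
  map_mul' _ _ := rfl

/-- The Godement presheaf of groups. -/
def godement : Cᵒᵖ ⥤ GrpCat.{u+1} where
  obj V := GrpCat.of (Sec Φ A V.unop)
  map f := GrpCat.ofHom (res Φ A f.unop)
  map_id V := by
    ext g i v
    change g i ((Φ i).fiber.map (𝟙 _) v) = g i v
    rw [Functor.map_id_apply]
  map_comp f g := by
    ext s i v
    change s i ((Φ i).fiber.map (g.unop ≫ f.unop) v) =
      s i ((Φ i).fiber.map f.unop ((Φ i).fiber.map g.unop v))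
    rw [Functor.map_comp_apply]

lemma compat_aux {V : C} (S : Sieve V)
    (x : Presieve.FamilyOfElements (godement Φ A ⋙ forget GrpCat) S.arrows) (hx : x.Compatible)
    (i : ι) {W₁ W₂ : C} (f₁ : W₁ ⟶ V) (f₂ : W₂ ⟶ V) (h₁ : S f₁) (h₂ : S f₂)
    (w₁ : (Φ i).fiber.obj W₁) (w₂ : (Φ i).fiber.obj W₂)
    (h : (Φ i).fiber.map f₁ w₁ = (Φ i).fiber.map f₂ w₂) :
    (x f₁ h₁ : Sec Φ A W₁) i w₁ = (x f₂ h₂ : Sec Φ A W₂) i w₂ := by
  let α₁ : (Φ i).fiber.elementsMk _ w₁ ⟶ (Φ i).fiber.elementsMk _ ((Φ i).fiber.map f₂ w₂) := ⟨f₁, h⟩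
  let α₂ : (Φ i).fiber.elementsMk _ w₂ ⟶ (Φ i).fiber.elementsMk _ ((Φ i).fiber.map f₂ w₂) := ⟨f₂, rfl⟩
  obtain ⟨z, q₁, q₂, fac⟩ := IsCofiltered.cospan α₁ α₂
  rw [Subtype.ext_iff] at fac
  have hc := hx q₁.1 q₂.1 h₁ h₂ fac
  have key : (x f₁ h₁ : Sec Φ A W₁) i ((Φ i).fiber.map q₁.1 z.2) =
      (x f₂ h₂ : Sec Φ A W₂) i ((Φ i).fiber.map q₂.1 z.2) := congr_fun (congr_fun hc i) z.2
  rw [q₁.2, q₂.2] at key
  exact key

lemma godement_isSheaf : Presheaf.IsSheaf J (godement Φ A) := by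
  rw [Presheaf.isSheaf_iff_isSheaf_forget J (godement Φ A) (forget GrpCat.{u+1}),
    isSheaf_iff_isSheaf_of_type]
  intro V S hS
  rw [← Presieve.isSeparatedFor_and_exists_isAmalgamation_iff_isSheafFor]
  constructor
  · intro x t₁ t₂ h₁ h₂
    funext i v
    obtain ⟨W, f, hf, w, rfl⟩ := (Φ i).jointly_surjective S hS v
    have := (h₁ f hf).trans (h₂ f hf).symm
    exact congr_fun (congr_fun this i) w
  · intro x hx
    choose W f hf w hw using fun (i : ι) (v : (Φ i).fiber.obj V) =>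
      (Φ i).jointly_surjective S hS v
    refine ⟨(fun i v => (x (f i v) (hf i v) : Sec Φ A (W i v)) i (w i v) : Sec Φ A V), ?_⟩
    intro W' f' hf'
    funext i w'
    exact compat_aux Φ A S x hx i (f i _) f' (hf i _) hf' (w i _) w' (hw i _)

/-- The Godement sheaf of groups. -/
def godementSheaf : Sheaf J GrpCat.{u+1} := ⟨godement Φ A, godement_isSheaf Φ A⟩

section Embedding

variable (F : Cᵒᵖ ⥤ GrpCat.{u+1}) (D : ∀ i, GermData F (Φ i).fiber)

/-- The canonical map from a presheaf of groups to the Godement presheaf of its germ groups. -/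
def toGodement : F ⟶ godement Φ (fun i => ((D i).A : Type (u+1))) where
  app V := GrpCat.ofHom
    { toFun := fun s i v => (D i).germ V.unop v s
      map_one' := by funext i v; exact map_one _
      map_mul' := fun s t => by funext i v; exact map_mul _ s t }
  naturality V W f := by
    ext s
    funext i w
    exact (D i).germ_map f.unop w s

theorem toGodement_injective
    (hcons : ∀ {V : C} (S : Sieve V), (∀ (i : ι) (v : (Φ i).fiber.obj V),
      ∃ (W : C) (g : W ⟶ V) (_ : S g) (w : (Φ i).fiber.obj W), (Φ i).fiber.map g w = v) → S ∈ J V)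
    (hF : Presheaf.IsSheaf J F) (V : Cᵒᵖ) :
    Function.Injective ((toGodement Φ F D).app V) := by
  intro s t h
  let S : Sieve V.unop :=
    { arrows := fun W f => F.map f.op s = F.map f.op t
      downward_closed := by
        intro Y Z f hf g
        rw [op_comp, Functor.map_comp_apply, Functor.map_comp_apply, hf] }
  have hS : S ∈ J V.unop := hcons S (fun i v => by
    have h' : (D i).germ V.unop v s = (D i).germ V.unop v t := congr_fun (congr_fun h i) v
    obtain ⟨W, f, w, hw, hf⟩ := (D i).germ_eq _ v s t h'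
    exact ⟨W, f, hf, w, hw⟩)
  have hF' : Presieve.IsSheaf J (F ⋙ forget GrpCat.{u+1}) :=
    (isSheaf_iff_isSheaf_of_type _ _).mp
      ((Presheaf.isSheaf_iff_isSheaf_forget J F (forget GrpCat.{u+1})).mp hF)
  exact (hF' S hS).isSeparatedFor.ext (fun W f hf => hf)

end Embedding

section Torsor

open NonAbH1 Groth.Agent.Lib.Helper13

variable (U : C)

/-- Evaluate a section of the restricted Godement sheaf. -/
def ev {Z : Over U} (g : ((godementSheaf Φ A).over U).obj.obj (op Z)) (i : ι)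
    (z : (Φ i).fiber.obj Z.left) : A i :=
  (show Sec Φ A Z.left from g) i z

/-- Build a section of the restricted Godement sheaf. -/
def mkSec {Z : Over U} (f : Sec Φ A Z.left) : ((godementSheaf Φ A).over U).obj.obj (op Z) := f

lemma ev_mkSec {Z : Over U} (f : Sec Φ A Z.left) (i : ι) (z : (Φ i).fiber.obj Z.left) :
    ev Φ A U (mkSec Φ A U f) i z = f i z := rfl

lemma ev_map {Z Z' : Over U} (a : Z' ⟶ Z) (g : ((godementSheaf Φ A).over U).obj.obj (op Z)) (i : ι)
    (z' : (Φ i).fiber.obj Z'.left) :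
    ev Φ A U (((godementSheaf Φ A).over U).obj.map a.op g) i z' =
      ev Φ A U g i ((Φ i).fiber.map a.left z') := rfl

lemma ev_mul {Z : Over U} (g g' : ((godementSheaf Φ A).over U).obj.obj (op Z)) (i : ι)
    (z : (Φ i).fiber.obj Z.left) : ev Φ A U (g * g') i z = ev Φ A U g i z * ev Φ A U g' i z := rfl

lemma ev_inv {Z : Over U} (g : ((godementSheaf Φ A).over U).obj.obj (op Z)) (i : ι)
    (z : (Φ i).fiber.obj Z.left) : ev Φ A U g⁻¹ i z = (ev Φ A U g i z)⁻¹ := rfl

lemma ev_ext {Z : Over U} {g g' : ((godementSheaf Φ A).over U).obj.obj (op Z)}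
    (h : ∀ i z, ev Φ A U g i z = ev Φ A U g' i z) : g = g' :=
  funext fun i => funext fun z => h i z

variable (P : GSheaf ((godementSheaf Φ A).over U))

lemma exists_local_section (hP : P.LocallyNonempty) (Y : Over U) (i : ι)
    (y : (Φ i).fiber.obj Y.left) :
    ∃ (Z : Over U) (a : Z ⟶ Y) (z : (Φ i).fiber.obj Z.left) (_ : P.P.obj.obj (op Z)),
      (Φ i).fiber.map a.left z = y := by
  obtain ⟨S, hS, hne⟩ := hP Y
  rw [GrothendieckTopology.mem_over_iff] at hS
  obtain ⟨W, g, hg, z, hz⟩ := (Φ i).jointly_surjective _ hS y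
  rw [Sieve.overEquiv_iff] at hg
  obtain ⟨σ⟩ := hne _ hg
  exact ⟨Over.mk (g ≫ Y.hom), Over.homMk g, z, σ, hz⟩

lemma exists_ref (hP : P.LocallyNonempty) (i : ι) (u : (Φ i).fiber.obj U) :
    ∃ (R : Over U) (w : (Φ i).fiber.obj R.left) (_ : P.P.obj.obj (op R)),
      (Φ i).fiber.map R.hom w = u := by
  obtain ⟨Z, a, z, σ, hz⟩ := exists_local_section Φ A U P hP (Over.mk (𝟙 U)) i u
  refine ⟨Z, z, σ, ?_⟩
  have h1 : a.left = Z.hom := by simpa using Over.w a
  rw [← h1]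
  exact hz

/-- `γ` is the value at the point `(i, y)` of the element of `G` carrying `p` to the reference section
`σ`, computed on some common refinement. -/
def IsH {i : ι} (R : Over U) (w : (Φ i).fiber.obj R.left) (σ : P.P.obj.obj (op R))
    (Y : Over U) (p : P.P.obj.obj (op Y)) (y : (Φ i).fiber.obj Y.left) (γ : A i) : Prop :=
  ∃ (Z : Over U) (a₁ : Z ⟶ Y) (a₂ : Z ⟶ R) (z : (Φ i).fiber.obj Z.left)
    (g : ((godementSheaf Φ A).over U).obj.obj (op Z)),
    (Φ i).fiber.map a₁.left z = y ∧ (Φ i).fiber.map a₂.left z = w ∧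
    P.smul g (P.P.obj.map a₁.op p) = P.P.obj.map a₂.op σ ∧ ev Φ A U g i z = γ

variable {Φ A U P}

lemma restrict_eq {Z T : Over U} (b : T ⟶ Z) (g : ((godementSheaf Φ A).over U).obj.obj (op Z))
    (q r : P.P.obj.obj (op Z)) (h : P.smul g q = r) :
    P.smul (((godementSheaf Φ A).over U).obj.map b.op g) (P.P.obj.map b.op q) = P.P.obj.map b.op r := by
  rw [← P.map_smul, h]

lemma map_map {Y Z T : Over U} (b : T ⟶ Z) (a : Z ⟶ Y) (p : P.P.obj.obj (op Y)) :
    P.P.obj.map b.op (P.P.obj.map a.op p) = P.P.obj.map (b ≫ a).op p := by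
  rw [op_comp, Functor.map_comp_apply]

theorem isH_exists (hpt : P.IsPseudoTorsor) {i : ι} (R : Over U) (w : (Φ i).fiber.obj R.left)
    (σ : P.P.obj.obj (op R)) (Y : Over U) (p : P.P.obj.obj (op Y)) (y : (Φ i).fiber.obj Y.left)
    (hy : (Φ i).fiber.map Y.hom y = (Φ i).fiber.map R.hom w) :
    ∃ γ, IsH Φ A U P R w σ Y p y γ := by
  let α₁ : (Φ i).fiber.elementsMk _ y ⟶ (Φ i).fiber.elementsMk _ ((Φ i).fiber.map R.hom w) :=
    ⟨Y.hom, hy⟩
  let α₂ : (Φ i).fiber.elementsMk _ w ⟶ (Φ i).fiber.elementsMk _ ((Φ i).fiber.map R.hom w) :=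
    ⟨R.hom, rfl⟩
  obtain ⟨z, q₁, q₂, fac⟩ := IsCofiltered.cospan α₁ α₂
  rw [Subtype.ext_iff] at fac
  have fac' : q₂.1 ≫ R.hom = q₁.1 ≫ Y.hom := fac.symm
  let Z : Over U := Over.mk (q₁.1 ≫ Y.hom)
  let a₁ : Z ⟶ Y := Over.homMk q₁.1 rfl
  let a₂ : Z ⟶ R := Over.homMk q₂.1 fac'
  obtain ⟨g, hg, -⟩ := hpt (op Z) (P.P.obj.map a₁.op p) (P.P.obj.map a₂.op σ)
  exact ⟨ev Φ A U g i z.2, Z, a₁, a₂, z.2, g, q₁.2, q₂.2, hg, rfl⟩

theorem isH_of_map {i : ι} {R : Over U} {w : (Φ i).fiber.obj R.left} {σ : P.P.obj.obj (op R)}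
    {Y Y' : Over U} (a : Y' ⟶ Y) (p : P.P.obj.obj (op Y)) (y' : (Φ i).fiber.obj Y'.left) (γ : A i)
    (h : IsH Φ A U P R w σ Y' (P.P.obj.map a.op p) y' γ) :
    IsH Φ A U P R w σ Y p ((Φ i).fiber.map a.left y') γ := by
  obtain ⟨Z, a₁, a₂, z, g, h1, h2, h3, h4⟩ := h
  refine ⟨Z, a₁ ≫ a, a₂, z, g, ?_, h2, ?_, h4⟩
  · rw [Over.comp_left, Functor.map_comp_apply, h1]
  · rw [← map_map]
    exact h3

theorem isH_smul {i : ι} {R : Over U} {w : (Φ i).fiber.obj R.left} {σ : P.P.obj.obj (op R)}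
    {Y : Over U} (p : P.P.obj.obj (op Y)) (y : (Φ i).fiber.obj Y.left) (γ : A i)
    (k : ((godementSheaf Φ A).over U).obj.obj (op Y))
    (h : IsH Φ A U P R w σ Y p y γ) :
    IsH Φ A U P R w σ Y (P.smul k p) y (γ * (ev Φ A U k i y)⁻¹) := by
  obtain ⟨Z, a₁, a₂, z, g, h1, h2, h3, h4⟩ := h
  refine ⟨Z, a₁, a₂, z, g * (((godementSheaf Φ A).over U).obj.map a₁.op k)⁻¹, h1, h2, ?_, ?_⟩
  · rw [P.map_smul, ← P.mul_smul, inv_mul_cancel_right]
    exact h3
  · rw [ev_mul, ev_inv, ev_map, h4, h1]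

theorem isH_unique (hpt : P.IsPseudoTorsor) {i : ι} {R : Over U} {w : (Φ i).fiber.obj R.left}
    {σ : P.P.obj.obj (op R)} {Y : Over U} {p : P.P.obj.obj (op Y)} {y : (Φ i).fiber.obj Y.left}
    {γ γ' : A i} (h : IsH Φ A U P R w σ Y p y γ) (h' : IsH Φ A U P R w σ Y p y γ') : γ = γ' := by
  obtain ⟨Z, a₁, a₂, z, g, h1, h2, h3, h4⟩ := h
  obtain ⟨Z', a₁', a₂', z', g', h1', h2', h3', h4'⟩ := h'
  let α : (Φ i).fiber.elementsMk _ z ⟶ (Φ i).fiber.elementsMk _ y := ⟨a₁.left, h1⟩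
  let α' : (Φ i).fiber.elementsMk _ z' ⟶ (Φ i).fiber.elementsMk _ y := ⟨a₁'.left, h1'⟩
  obtain ⟨t₁, c, c', fac⟩ := IsCofiltered.cospan α α'
  let β : (Φ i).fiber.elementsMk _ z ⟶ (Φ i).fiber.elementsMk _ w := ⟨a₂.left, h2⟩
  let β' : (Φ i).fiber.elementsMk _ z' ⟶ (Φ i).fiber.elementsMk _ w := ⟨a₂'.left, h2'⟩
  obtain ⟨t, d, hd⟩ : ∃ (t : (Φ i).fiber.Elements) (d : t ⟶ t₁), d ≫ (c ≫ β) = d ≫ (c' ≫ β') :=
    ⟨_, IsCofiltered.eqHom _ _, IsCofiltered.eq_condition _ _⟩
  rw [Subtype.ext_iff] at fac hd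
  have e1 : (d.1 ≫ c.1) ≫ a₁.left = (d.1 ≫ c'.1) ≫ a₁'.left := by
    rw [Category.assoc, Category.assoc]
    exact congrArg (fun q => d.1 ≫ q) fac
  have e2 : (d.1 ≫ c.1) ≫ a₂.left = (d.1 ≫ c'.1) ≫ a₂'.left := by
    rw [Category.assoc, Category.assoc]
    exact hd
  have e3 : (d.1 ≫ c'.1) ≫ Z'.hom = (d.1 ≫ c.1) ≫ Z.hom := by
    rw [← Over.w a₁', ← Over.w a₁, ← Category.assoc, ← Category.assoc, e1]
  let T : Over U := Over.mk ((d.1 ≫ c.1) ≫ Z.hom)
  let b : T ⟶ Z := Over.homMk (d.1 ≫ c.1) rfl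
  let b' : T ⟶ Z' := Over.homMk (d.1 ≫ c'.1) e3
  have E1 : b ≫ a₁ = b' ≫ a₁' := Over.OverMorphism.ext e1
  have E2 : b ≫ a₂ = b' ≫ a₂' := Over.OverMorphism.ext e2
  have k1 := restrict_eq b g _ _ h3
  have k2 := restrict_eq b' g' _ _ h3'
  rw [map_map, map_map] at k1 k2
  rw [← E1, ← E2] at k2
  obtain ⟨g₀, -, huniq⟩ := hpt (op T) (P.P.obj.map (b ≫ a₁).op p) (P.P.obj.map (b ≫ a₂).op σ)
  have hgg : ((godementSheaf Φ A).over U).obj.map b.op g =
      ((godementSheaf Φ A).over U).obj.map b'.op g' := (huniq _ k1).trans (huniq _ k2).symm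
  have key := congrArg (fun q => ev Φ A U q i t.2) hgg
  have hz : (Φ i).fiber.map (d.1 ≫ c.1) t.2 = z := (d ≫ c).2
  have hz' : (Φ i).fiber.map (d.1 ≫ c'.1) t.2 = z' := (d ≫ c').2
  change ev Φ A U g i ((Φ i).fiber.map (d.1 ≫ c.1) t.2) =
    ev Φ A U g' i ((Φ i).fiber.map (d.1 ≫ c'.1) t.2) at key
  rw [hz, hz'] at key
  rw [← h4, ← h4']
  exact key

variable (Φ A U P)

theorem torsor_hasSection (hpt : P.IsPseudoTorsor) (hne : P.LocallyNonempty) :
    (P.P.obj.sections).Nonempty := by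
  classical
  choose R w σ hw using exists_ref Φ A U P hne
  have hE : ∀ (Y : Over U) (p : P.P.obj.obj (op Y)) (i : ι) (y : (Φ i).fiber.obj Y.left),
      ∃ γ, IsH Φ A U P (R i ((Φ i).fiber.map Y.hom y)) (w i _) (σ i _) Y p y γ :=
    fun Y p i y => isH_exists hpt _ _ _ Y p y (hw i _).symm
  choose h hh using hE
  let r : ∀ Y : (Over U)ᵒᵖ, P.P.obj.obj Y → P.P.obj.obj Y :=
    fun Y p => P.smul (mkSec Φ A U (fun i y => h Y.unop p i y)) p
  have hnat : ∀ {Y Y' : (Over U)ᵒᵖ} (a : Y ⟶ Y') (x : P.P.obj.obj Y),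
      r Y' (P.P.obj.map a x) = P.P.obj.map a (r Y x) := by
    intro Y Y' a x
    change P.smul (mkSec Φ A U (fun i y => h Y'.unop (P.P.obj.map a x) i y)) (P.P.obj.map a x) =
      P.P.obj.map a (P.smul (mkSec Φ A U (fun i y => h Y.unop x i y)) x)
    rw [P.map_smul]
    congr 1
    refine ev_ext Φ A U (fun i y' => ?_)
    have A1 := isH_of_map a.unop x y' _ (hh Y'.unop (P.P.obj.map a x) i y')
    have A2 := hh Y.unop x i ((Φ i).fiber.map a.unop.left y')
    have hu : (Φ i).fiber.map Y.unop.hom ((Φ i).fiber.map a.unop.left y') =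
        (Φ i).fiber.map Y'.unop.hom y' := by
      rw [← Functor.map_comp_apply, Over.w a.unop]
    rw [hu] at A2
    exact isH_unique hpt A1 A2
  have hconst : ∀ (Y : (Over U)ᵒᵖ) (p p' : P.P.obj.obj Y), r Y p = r Y p' := by
    intro Y p p'
    obtain ⟨k, hk, -⟩ := hpt Y p p'
    subst hk
    have key : mkSec Φ A U (fun i y => h Y.unop (P.smul k p) i y) =
        mkSec Φ A U (fun i y => h Y.unop p i y) * k⁻¹ := by
      refine ev_ext Φ A U (fun i y => ?_)
      exact isH_unique hpt (hh Y.unop (P.smul k p) i y) (isH_smul p y _ k (hh Y.unop p i y))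
    change P.smul (mkSec Φ A U (fun i y => h Y.unop p i y)) p =
      P.smul (mkSec Φ A U (fun i y => h Y.unop (P.smul k p) i y)) (P.smul k p)
    rw [key, ← P.mul_smul, inv_mul_cancel_right]
  obtain ⟨c, -⟩ := NonAbTorsor.exists_section_of_const (P := P.P) (R := P.P) hne r hnat hconst
  exact ⟨c.1, c.2⟩

theorem torsor_isTrivial [(J.over U).HasSheafCompose (forget GrpCat.{u+1})]
    (P : NonAbH1.Torsor ((godementSheaf Φ A).over U)) : P.IsTrivial :=
  (NonAbTorsor.isTrivial_iff_hasSection P.toGSheaf P.isTorsor.1).mpr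
    (torsor_hasSection Φ A U P.toGSheaf P.isTorsor.1 P.isTorsor.2)

end Torsor

/-- **Godement embedding for sheaves of groups.**  On a site with a family of points `Φ` which detects
covering sieves, every sheaf of groups `F` embeds into a sheaf of groups `G` (the product of the skyscraper
sheaves of the stalks of `F`) all of whose torsors over every object are trivial. -/
theorem exists_mono_torsors_trivial
    (hcons : ∀ {V : C} (S : Sieve V), (∀ (i : ι) (v : (Φ i).fiber.obj V),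
      ∃ (W : C) (g : W ⟶ V) (_ : S g) (w : (Φ i).fiber.obj W), (Φ i).fiber.map g w = v) → S ∈ J V)
    [∀ U : C, (J.over U).HasSheafCompose (forget GrpCat.{u+1})] (F : Sheaf J GrpCat.{u+1}) :
    ∃ (G : Sheaf J GrpCat.{u+1}) (φ : F ⟶ G),
      (∀ U : Cᵒᵖ, Function.Injective (φ.hom.app U)) ∧
      ∀ (U : C) (P : NonAbH1.Torsor (G.over U)), P.IsTrivial := by
  classical
  let D : ∀ i, GermData F.obj (Φ i).fiber := fun i => (nonempty_germData F.obj (Φ i).fiber).some
  refine ⟨godementSheaf Φ (fun i => ((D i).A : Type (u+1))),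
    ObjectProperty.homMk (toGodement Φ F.obj D), ?_, ?_⟩
  · intro V
    exact toGodement_injective Φ F.obj D hcons F.property V
  · intro U P
    exact torsor_isTrivial Φ _ U P

/-- A sieve on which all the fibre functors of a small conservative family of points are jointly
surjective is covering. -/
lemma mem_of_jointly_surjective [LocallySmall.{u} C] [HasSheafify J (Type u)]
    [J.WEqualsLocallyBijective (Type u)]
    {P : ObjectProperty (GrothendieckTopology.Point.{u} J)} [ObjectProperty.Small.{u} P]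
    (hP : P.IsConservativeFamilyOfPoints) {V : C} (S : Sieve V)
    (h : ∀ (Ψ : P.FullSubcategory) (v : Ψ.obj.fiber.obj V),
      ∃ (W : C) (g : W ⟶ V) (_ : S g) (w : Ψ.obj.fiber.obj W), Ψ.obj.fiber.map g w = v) :
    S ∈ J V := by
  obtain ⟨α, T, f, rfl⟩ := S.exists_eq_ofArrows
  rw [hP.jointly_reflect_ofArrows_mem_of_small]
  intro Ψ v
  obtain ⟨W, g, ⟨Z, p, _, ⟨a⟩, rfl⟩, y, rfl⟩ := h Ψ v
  exact ⟨a, Ψ.obj.fiber.map p y, by simp⟩

end Groth.Agent.Lib.Helper16.GodementGrp
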