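import Mathlib
import Groth.Prelude
import Groth.Agent.Lib.Helper8.Hzl.TensorSHens
import Groth.Agent.Lib.Helper8.Hzl.Noeth2
import Groth.Agent.Lib.Helper8.BranchFibre
import Groth.Agent.Lib.Helper4.GorFlat
import Groth.Agent.Lib.Helper4.CMHom

/-!
# Helper library (helper16): Gorenstein local homomorphisms and strict henselizations
-/

set_option autoImplicit false
set_option linter.style.haveILetI false
universe u
open IsLocalRing TensorProduct

namespace Groth.Agent.Lib.Helper16.GorSH

open Groth.Agent.Lib.Helper8.Hzl Groth.Agent.Lib.Helper8.BranchSumGeom Groth.Agent.Lib.Helper8.BranchFibre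
  Groth.Agent.Lib.Helper4.GorFlat

section SH

variable (R S : Type u) [CommRing R] [IsLocalRing R] [CommRing S] [IsLocalRing S] [Algebra R S]
  [IsLocalHom (algebraMap R S)] [Hensel.IsStrictHenselization R S]

/-- A local ring is Gorenstein iff its strict henselization is. -/
theorem gor_strictHenselization_iff :
    LocCoh.IsGorensteinLocalRing R ↔ LocCoh.IsGorensteinLocalRing S := by
  haveI hfl : Module.Flat R S := strictHenselization_flat R S
  have hm := strictHenselization_map_maximalIdeal R S
  have hN := strictHenselization_isNoetherianRing_iff R S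
  have hker : RingHom.ker (residue S) = (maximalIdeal R).map (algebraMap R S) := by
    rw [IsLocalRing.ker_residue, hm]
  constructor
  · intro h
    haveI : IsNoetherianRing R := by haveI := h; infer_instance
    haveI : IsNoetherianRing S := hN.1 inferInstance
    exact (gor_flat_iff R S (ResidueField S) (residue S) residue_surjective hker).2
      ⟨h, gor_field _⟩
  · intro h
    haveI : IsNoetherianRing S := by haveI := h; infer_instance
    haveI : IsNoetherianRing R := hN.2 inferInstance
    exact ((gor_flat_iff R S (ResidueField S) (residue S) residue_surjective hker).1 h).1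

theorem gor_quot_strictHenselization_iff (I : Ideal R) (hI : I ≠ ⊤) :
    LocCoh.IsGorensteinLocalRing (R ⧸ I) ↔
      LocCoh.IsGorensteinLocalRing (S ⧸ I.map (algebraMap R S)) := by
  haveI : Nontrivial (R ⧸ I) := Ideal.Quotient.nontrivial_iff.mpr hI
  haveI : IsLocalRing (R ⧸ I) :=
    IsLocalRing.of_surjective' (Ideal.Quotient.mk I) Ideal.Quotient.mk_surjective
  have hI' : I.map (algebraMap R S) ≠ ⊤ := map_ne_top R S I hI
  haveI : Nontrivial (S ⧸ I.map (algebraMap R S)) := Ideal.Quotient.nontrivial_iff.mpr hI'
  haveI : IsLocalRing (S ⧸ I.map (algebraMap R S)) :=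
    IsLocalRing.of_surjective' (Ideal.Quotient.mk _) Ideal.Quotient.mk_surjective
  haveI := isLocalHom_quotientMap R S I
  haveI := isStrictHenselization_quotient R S I
  exact gor_strictHenselization_iff (R ⧸ I) (S ⧸ I.map (algebraMap R S))

end SH

section CA

variable (A B A' B' : Type u) [CommRing A] [IsLocalRing A] [CommRing B] [IsLocalRing B]
  [CommRing A'] [IsLocalRing A'] [CommRing B'] [IsLocalRing B']
  [Algebra A A'] [IsLocalHom (algebraMap A A')] [Hensel.IsStrictHenselization A A']
  [Algebra B B'] [IsLocalHom (algebraMap B B')] [Hensel.IsStrictHenselization B B']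
  (ψ : A →+* B) [IsLocalHom ψ] (φ : A' →+* B') [IsLocalHom φ]
  (hφ : φ.comp (algebraMap A A') = (algebraMap B B').comp ψ)

include hφ in
theorem flat_of_flat_sh (h : φ.Flat) : ψ.Flat := by
  have h1 : (algebraMap A A').Flat := by
    rw [RingHom.flat_algebraMap_iff]
    exact strictHenselization_flat A A'
  have h2 : (φ.comp (algebraMap A A')).Flat := RingHom.Flat.comp h1 h
  rw [hφ] at h2
  have h3 : (algebraMap B B').Flat := by
    rw [RingHom.flat_algebraMap_iff]
    exact strictHenselization_flat B B'
  exact Groth.Agent.Lib.Helper4.CMHom.flat_of_comp_of_flat ψ (algebraMap B B') h3 h2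

include hφ in
theorem flat_sh_of_flat (h : ψ.Flat) : φ.Flat := by
  letI algAB : Algebra A B := ψ.toAlgebra
  letI algAB' : Algebra A B' := ((algebraMap B B').comp ψ).toAlgebra
  letI algA'B' : Algebra A' B' := φ.toAlgebra
  haveI : IsScalarTower A B B' := IsScalarTower.of_algebraMap_eq (fun _ => rfl)
  haveI : IsScalarTower A A' B' :=
    IsScalarTower.of_algebraMap_eq (fun a => (DFunLike.congr_fun hφ a).symm)
  haveI : Module.Flat A B := h
  haveI hlo : (maximalIdeal B).LiesOver (maximalIdeal A) :=
    ⟨(IsLocalRing.maximalIdeal_comap ψ).symm⟩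
  -- `A` and `B` are their own localizations at the maximal ideals
  let eA : A ≃ₐ[A] Localization.AtPrime (maximalIdeal A) :=
    IsLocalization.atUnits A (maximalIdeal A).primeCompl (fun x hx => by
      have hx' : x ∉ maximalIdeal A := hx
      rw [mem_maximalIdeal, mem_nonunits_iff, not_not] at hx'
      exact hx')
  let eB : B ≃ₐ[B] Localization.AtPrime (maximalIdeal B) :=
    IsLocalization.atUnits B (maximalIdeal B).primeCompl (fun x hx => by
      have hx' : x ∉ maximalIdeal B := hx
      rw [mem_maximalIdeal, mem_nonunits_iff, not_not] at hx'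
      exact hx')
  letI algLA : Algebra (Localization.AtPrime (maximalIdeal A)) A' :=
    ((algebraMap A A').comp (eA.symm.toRingEquiv : Localization.AtPrime (maximalIdeal A) →+* A)).toAlgebra
  haveI : IsScalarTower A (Localization.AtPrime (maximalIdeal A)) A' :=
    IsScalarTower.of_algebraMap_eq (fun a => by
      show algebraMap A A' a = algebraMap A A' (eA.symm (algebraMap A _ a))
      rw [eA.symm.commutes]
      rfl)
  haveI : IsLocalHom (algebraMap (Localization.AtPrime (maximalIdeal A)) A') := by
    haveI : IsLocalHom (eA.symm.toRingEquiv : Localization.AtPrime (maximalIdeal A) →+* A) :=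
      isLocalHom_ringEquiv _
    exact RingHom.isLocalHom_comp _ _
  haveI : Hensel.IsStrictHenselization (Localization.AtPrime (maximalIdeal A)) A' :=
    isStrictHenselization_of_ringEquiv (R := Localization.AtPrime (maximalIdeal A)) (R' := A) (S := A')
      eA.symm.toRingEquiv rfl
  letI algLB : Algebra (Localization.AtPrime (maximalIdeal B)) B' :=
    ((algebraMap B B').comp (eB.symm.toRingEquiv : Localization.AtPrime (maximalIdeal B) →+* B)).toAlgebra
  haveI : IsScalarTower B (Localization.AtPrime (maximalIdeal B)) B' :=
    IsScalarTower.of_algebraMap_eq (fun a => by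
      show algebraMap B B' a = algebraMap B B' (eB.symm (algebraMap B _ a))
      rw [eB.symm.commutes]
      rfl)
  haveI : IsLocalHom (algebraMap (Localization.AtPrime (maximalIdeal B)) B') := by
    haveI : IsLocalHom (eB.symm.toRingEquiv : Localization.AtPrime (maximalIdeal B) →+* B) :=
      isLocalHom_ringEquiv _
    exact RingHom.isLocalHom_comp _ _
  haveI : Hensel.IsStrictHenselization (Localization.AtPrime (maximalIdeal B)) B' :=
    isStrictHenselization_of_ringEquiv (R := Localization.AtPrime (maximalIdeal B)) (R' := B) (S := B')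
      eB.symm.toRingEquiv rfl
  -- `B'` is the strict henselization of the local ring of `A' ⊗ B`
  letI : Algebra (Localization.AtPrime (tensorPrime A B A' B')) B' := (locTo A B A' B').toAlgebra
  haveI : IsLocalHom (algebraMap (Localization.AtPrime (tensorPrime A B A' B')) B') :=
    isLocalHom_locTo A B A' B'
  letI : Algebra (Localization.AtPrime (maximalIdeal B)) (Localization.AtPrime (tensorPrime A B A' B')) :=
    (fromLoc A B (maximalIdeal B) A' B').toAlgebra
  haveI : IsLocalHom (algebraMap (Localization.AtPrime (maximalIdeal B))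
      (Localization.AtPrime (tensorPrime A B A' B'))) :=
    isLocalHom_fromLoc A B (maximalIdeal B) A' B'
  haveI : IsScalarTower (Localization.AtPrime (maximalIdeal B))
      (Localization.AtPrime (tensorPrime A B A' B')) B' :=
    IsScalarTower.of_algebraMap_eq' (locTo_comp_fromLoc A B (maximalIdeal B) A' B').symm
  haveI : Hensel.IsStrictHenselization (Localization.AtPrime (tensorPrime A B A' B')) B' :=
    isStrictHenselization_of_factor (Localization.AtPrime (maximalIdeal B)) B' _
      (fun T _ _ g hg τ hτ h hh hres =>
        comp_locTo_eq_strict A B (maximalIdeal A) (maximalIdeal B) A' B' T g hg τ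
          (fun d => DFunLike.congr_fun hτ (residue _ d)) h hh hres)
  haveI : Module.Flat (Localization.AtPrime (tensorPrime A B A' B')) B' :=
    strictHenselization_flat _ _
  haveI : Module.Flat A' (A' ⊗[A] B) := inferInstance
  haveI : Module.Flat A' (Localization.AtPrime (tensorPrime A B A' B')) := inferInstance
  haveI : IsScalarTower A' (Localization.AtPrime (tensorPrime A B A' B')) B' :=
    IsScalarTower.of_algebraMap_eq (fun y => by
      show φ y = locTo A B A' B' (algebraMap A' (Localization.AtPrime _) y)
      rw [IsScalarTower.algebraMap_apply A' (A' ⊗[A] B) (Localization.AtPrime _),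
        Algebra.TensorProduct.algebraMap_apply, locTo_algebraMap, tensorTo_tmul, map_one, mul_one]
      rfl)
  exact Module.Flat.trans A' (Localization.AtPrime (tensorPrime A B A' B')) B'

include hφ in
/-- A local homomorphism is flat with Gorenstein closed fibre iff the induced map on strict henselizations is. -/
theorem gor_sh_iff :
    (ψ.Flat ∧ LocCoh.IsGorensteinLocalRing (B ⧸ (maximalIdeal A).map ψ)) ↔
      (φ.Flat ∧ LocCoh.IsGorensteinLocalRing (B' ⧸ (maximalIdeal A').map φ)) := by
  have hI : (maximalIdeal A).map ψ ≠ ⊤ := by
    intro htop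
    have h1 : (maximalIdeal A).map ψ ≤ maximalIdeal B := IsLocalRing.map_maximalIdeal_le ψ
    rw [htop] at h1
    exact (Ideal.IsPrime.ne_top inferInstance : maximalIdeal B ≠ ⊤) (top_le_iff.mp h1)
  have hid : (maximalIdeal A').map φ = ((maximalIdeal A).map ψ).map (algebraMap B B') := by
    rw [← strictHenselization_map_maximalIdeal A A', Ideal.map_map, hφ, ← Ideal.map_map]
  rw [gor_congr_ideal hid, ← gor_quot_strictHenselization_iff B B' _ hI]
  exact and_congr ⟨flat_sh_of_flat A B A' B' ψ φ hφ, flat_of_flat_sh A B A' B' ψ φ hφ⟩ Iff.rfl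

end CA

end Groth.Agent.Lib.Helper16.GorSH
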