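import Mathlib
import Groth.Agent.Lib.Helper16.FlatBC3
import Groth.Agent.Lib.Helper16.LocPGen
import Groth.Agent.Lib.Helper4.GorHomSch
import Groth.Agent.S3627

/-!
# Helper library (helper16): Gorenstein morphisms of algebraic spaces at a point — chart independence
-/

set_option autoImplicit false
set_option linter.style.haveILetI false
universe u
open CategoryTheory CategoryTheory.Limits AlgebraicGeometry Opposite Topology

namespace Groth.Agent.Lib.Helper16.GorSp

open AlgSp Groth.Agent.Lib.Helper16 Groth.Agent.Lib.Helper16.DimF Groth.Agent.Lib.Helper16.FlatBC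

/-! ### Scheme level -/

theorem gor_of_isField {R : Type u} [CommRing R] (h : IsField R) : LocCoh.IsGorensteinLocalRing R := by
  letI := h.toField
  exact Groth.Agent.Lib.Helper4.GorFlat.gor_field R

/-- An etale morphism is Gorenstein at every point. -/
theorem isGorensteinAt_of_etale {X Y : Scheme.{u}} (f : X ⟶ Y) [Etale f] (x : X) :
    Dual3.IsGorensteinAt f x := by
  rw [Groth.Agent.Lib.Helper4.GorHomSch.isGorensteinAt_iff]
  refine ⟨Flat.stalkMap f x, ?_⟩
  algebraize [(f.stalkMap x).hom]
  haveI : IsLocalHom (algebraMap (Y.presheaf.stalk (f x)) (X.presheaf.stalk x)) :=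
    inferInstanceAs <| IsLocalHom (f.stalkMap x).hom
  haveI : Algebra.EssFiniteType (Y.presheaf.stalk (f x)) (X.presheaf.stalk x) := by
    rw [← RingHom.essFiniteType_algebraMap, RingHom.algebraMap_toAlgebra]
    exact LocallyOfFiniteType.stalkMap f x
  haveI : Algebra.FormallyUnramified (Y.presheaf.stalk (f x)) (X.presheaf.stalk x) := by
    rw [← RingHom.formallyUnramified_algebraMap, RingHom.algebraMap_toAlgebra]
    exact FormallyUnramified.stalkMap f x
  have hF := Algebra.FormallyUnramified.isField_quotient_map_maximalIdeal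
    (R := Y.presheaf.stalk (f x)) (S := X.presheaf.stalk x)
  exact gor_of_isField hF

/-- The fibres of an etale morphism are locally Noetherian. -/
theorem isLocallyNoetherian_fiber_of_etale {X Y : Scheme.{u}} (f : X ⟶ Y) [Etale f] (y : Y) :
    IsLocallyNoetherian (f.fiber y) := by
  haveI : LocallyOfFiniteType (f.fiberToSpecResidueField y) := by
    change LocallyOfFiniteType (Limits.pullback.snd f (Y.fromSpecResidueField _))
    infer_instance
  exact LocallyOfFiniteType.isLocallyNoetherian (f.fiberToSpecResidueField y)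

theorem isGorensteinAt_congr {X Y : Scheme.{u}} {f f' : X ⟶ Y} (e : f = f') (x : X) :
    Dual3.IsGorensteinAt f x ↔ Dual3.IsGorensteinAt f' x := by
  subst e
  rfl

/-- Being Gorenstein at a point is invariant under etale changes of source and target, when the fibres are locally
Noetherian. -/
theorem isGorensteinAt_square {W W' U V : Scheme.{u}} (p : W ⟶ U) (g : W ⟶ W') (π : W' ⟶ V) (h : U ⟶ V)
    [Etale p] [Etale π] (comm : g ≫ π = p ≫ h) (w : W)
    (hg : ∀ y, IsLocallyNoetherian (g.fiber y)) (hh : ∀ y, IsLocallyNoetherian (h.fiber y))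
    (hc : ∀ y, IsLocallyNoetherian ((p ≫ h).fiber y)) :
    Dual3.IsGorensteinAt g w ↔ Dual3.IsGorensteinAt h (p w) := by
  have hc' : ∀ y, IsLocallyNoetherian ((g ≫ π).fiber y) := by rw [comm]; exact hc
  have A := Groth.Agent.S3627.result W U V p h (isLocallyNoetherian_fiber_of_etale p) hh hc w
  have B := Groth.Agent.S3627.result W W' V g π hg (isLocallyNoetherian_fiber_of_etale π) hc' w
  have hpE : Dual3.IsGorensteinAt p w := isGorensteinAt_of_etale p w
  have hπE : Dual3.IsGorensteinAt π (g w) := isGorensteinAt_of_etale π (g w)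
  constructor
  · intro H
    have h1 : Dual3.IsGorensteinAt (g ≫ π) w := B.1 H hπE
    have h2 : Dual3.IsGorensteinAt (p ≫ h) w := (isGorensteinAt_congr comm w).1 h1
    exact (A.2 h2 (Flat.stalkMap p w)).2
  · intro H
    have h2 : Dual3.IsGorensteinAt (p ≫ h) w := A.1 hpE H
    have h1 : Dual3.IsGorensteinAt (g ≫ π) w := (isGorensteinAt_congr comm w).2 h2
    have hfl : (g.stalkMap w).hom.Flat := (flatAt_square p g π h comm w).2 H.1
    exact (B.2 h1 hfl).1

/-! ### Fibres of chart diagrams -/

variable {S : Scheme.{u}}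

/-- The fibres of `f` over field points are locally Noetherian algebraic spaces. -/
def HasLocNoethFibres {X Y : Sp S} (f : X ⟶ Y) : Prop :=
  ∀ (k : FieldPt Y) (Xk : Sp S) (a : Xk ⟶ X) (b : Xk ⟶ (yon S).obj k.pt),
    IsPullback a b f k.toHom → IsLocNoethSp Xk

/-- The top arrow of a chart diagram of a morphism with locally Noetherian fibres has locally Noetherian fibres. -/
theorem isLocallyNoetherian_chart_fiber {X Y : Sp S} (f : X ⟶ Y) (hf : HasLocNoethFibres f)
    {U V : Over S} (a : (yon S).obj U ⟶ X) (b : (yon S).obj V ⟶ Y) (h : U ⟶ V)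
    (ha : RepWith @Etale a) (hb : RepWith @Etale b) (hc : a ≫ f = (yon S).map h ≫ b) (v : ↥V.left) :
    IsLocallyNoetherian (h.left.fiber v) := by
  -- the field point of `Y` defined by `v`
  let vpt : (FieldPt.ofPt b v).pt ⟶ V := Over.homMk (V.left.fromSpecResidueField v) rfl
  have hkp : (FieldPt.ofPt b v).toHom = (yon S).map vpt ≫ b := FieldPt.toHom_ofPt b v
  -- the fibre of `f` over it
  have hXk : IsLocNoethSp (pullback f (FieldPt.ofPt b v).toHom) :=
    hf (FieldPt.ofPt b v) _ _ _ (IsPullback.of_hasPullback f (FieldPt.ofPt b v).toHom)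
  -- `X ×_Y V`
  have hfst : RepWith @Etale (pullback.fst f b) :=
    (RepWith @Etale).of_isPullback (IsPullback.of_hasPullback f b).flip hb
  have hl : RepWith @Etale (pullback.lift a ((yon S).map h) hc) := by
    apply repWith_etale_of_comp _ (pullback.fst f b) hfst
    rw [pullback.lift_fst]
    exact ha
  -- the map from the fibre to `X ×_Y V`
  have hθc : pullback.fst f (FieldPt.ofPt b v).toHom ≫ f =
      (pullback.snd f (FieldPt.ofPt b v).toHom ≫ (yon S).map vpt) ≫ b := by
    rw [Category.assoc, ← hkp]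
    exact pullback.condition
  have sqC : IsPullback (pullback.lift _ _ hθc) (pullback.snd f (FieldPt.ofPt b v).toHom)
      (pullback.snd f b) ((yon S).map vpt) := by
    refine IsPullback.of_right ?_ (pullback.lift_snd _ _ _) (IsPullback.of_hasPullback f b)
    rw [pullback.lift_fst, ← hkp]
    exact IsPullback.of_hasPullback f (FieldPt.ofPt b v).toHom
  obtain ⟨a', -, sqa⟩ := chart_baseChange sqC (pullback.lift a ((yon S).map h) hc) h
    (pullback.lift_snd _ _ _)
  have ha'e : RepWith @Etale a' := (RepWith @Etale).of_isPullback sqa.flip hl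
  have hN : IsLocallyNoetherian (pullback h vpt).left := isLocallyNoetherian_of_chart hXk a' ha'e
  have sqL := isPullback_left_forget h vpt
  have hiso : IsIso (sqL.isoPullback.inv) := inferInstance
  exact isLocallyNoetherian_of_isOpenImmersion sqL.isoPullback.inv

/-! ### Chart independence -/

/-- For a morphism with locally Noetherian fibres, being Gorenstein at a point does not depend on the chart diagram. -/
theorem gor_transfer {X Y : Sp S} (f : X ⟶ Y) (hf : HasLocNoethFibres f) {U V U₁ V₁ : Over S}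
    (a : (yon S).obj U ⟶ X) (b : (yon S).obj V ⟶ Y) (h : U ⟶ V)
    (a₁ : (yon S).obj U₁ ⟶ X) (b₁ : (yon S).obj V₁ ⟶ Y) (m : U₁ ⟶ V₁)
    (ha : RepWith @Etale a) (hb : RepWith @Etale b) (ha₁ : RepWith @Etale a₁) (hb₁ : RepWith @Etale b₁)
    (hc : a ≫ f = (yon S).map h ≫ b) (hc₁ : a₁ ≫ f = (yon S).map m ≫ b₁)
    (u : ↥U.left) (u₁ : ↥U₁.left) (hu : Points.ofPt a u = Points.ofPt a₁ u₁) :
    Dual3.IsGorensteinAt h.left u ↔ Dual3.IsGorensteinAt m.left u₁ := by
  obtain ⟨W, p, q₀, sqW⟩ := ha₁.rep a
  obtain ⟨q, rfl⟩ := (yon S).map_surjective q₀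
  have hp : Etale p.left := ha₁.property _ _ _ sqW
  have hq' : Etale q.left := ha.property _ _ _ sqW.flip
  obtain ⟨w, hw1, hw2⟩ := exists_point_of_isPullback_yon_yon sqW u₁ u hu.symm
  obtain ⟨V'', π, π₁₀, sqV⟩ := hb₁.rep b
  obtain ⟨π₁, rfl⟩ := (yon S).map_surjective π₁₀
  have hπ : Etale π.left := hb₁.property _ _ _ sqV
  have hπ₁ : Etale π₁.left := hb.property _ _ _ sqV.flip
  have hcomm : (yon S).map (q ≫ m) ≫ b₁ = (yon S).map (p ≫ h) ≫ b := by
    rw [Functor.map_comp, Functor.map_comp, Category.assoc, Category.assoc, ← hc₁, ← hc,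
      ← Category.assoc, ← Category.assoc, sqW.w]
  obtain ⟨g, hg⟩ := (yon S).map_surjective (sqV.lift _ _ hcomm)
  have hg1 : g ≫ π₁ = q ≫ m := by
    apply (yon S).map_injective
    rw [Functor.map_comp, hg, sqV.lift_fst]
  have hg2 : g ≫ π = p ≫ h := by
    apply (yon S).map_injective
    rw [Functor.map_comp, hg, sqV.lift_snd]
  have hg1' : g.left ≫ π₁.left = q.left ≫ m.left := by rw [← Over.comp_left, hg1, Over.comp_left]
  have hg2' : g.left ≫ π.left = p.left ≫ h.left := by rw [← Over.comp_left, hg2, Over.comp_left]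
  -- the chart diagrams involved
  have hpa : RepWith @Etale ((yon S).map p ≫ a) :=
    (RepWith @Etale).comp_mem _ _ ((repWith_yon_map_iff _ _).2 hp) ha
  have hπb : RepWith @Etale ((yon S).map π ≫ b) :=
    (RepWith @Etale).comp_mem _ _ ((repWith_yon_map_iff _ _).2 hπ) hb
  have hcg : ((yon S).map p ≫ a) ≫ f = (yon S).map g ≫ ((yon S).map π ≫ b) := by
    rw [Category.assoc, hc, ← Category.assoc, ← Functor.map_comp, ← hg2, Functor.map_comp,
      Category.assoc]
  have hcph : ((yon S).map p ≫ a) ≫ f = (yon S).map (p ≫ h) ≫ b := by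
    rw [Category.assoc, hc, ← Category.assoc, ← Functor.map_comp]
  have hqa : RepWith @Etale ((yon S).map q ≫ a₁) :=
    (RepWith @Etale).comp_mem _ _ ((repWith_yon_map_iff _ _).2 hq') ha₁
  have hcqm : ((yon S).map q ≫ a₁) ≫ f = (yon S).map (q ≫ m) ≫ b₁ := by
    rw [Category.assoc, hc₁, ← Category.assoc, ← Functor.map_comp]
  have Fg := isLocallyNoetherian_chart_fiber f hf _ _ g hpa hπb hcg
  have Fh := isLocallyNoetherian_chart_fiber f hf a b h ha hb hc
  have Fm := isLocallyNoetherian_chart_fiber f hf a₁ b₁ m ha₁ hb₁ hc₁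
  have Fph : ∀ y, IsLocallyNoetherian ((p.left ≫ h.left).fiber y) :=
    isLocallyNoetherian_chart_fiber f hf _ b (p ≫ h) hpa hb hcph
  have Fqm : ∀ y, IsLocallyNoetherian ((q.left ≫ m.left).fiber y) :=
    isLocallyNoetherian_chart_fiber f hf _ b₁ (q ≫ m) hqa hb₁ hcqm
  subst hw1 hw2
  rw [← isGorensteinAt_square p.left g.left π.left h.left hg2' w Fg Fh Fph,
    ← isGorensteinAt_square q.left g.left π₁.left m.left hg1' w Fg Fm Fqm]

/-- Being Gorenstein at a point can be tested on any chart diagram through the point. -/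
theorem locPAt_gor_iff {X Y : Sp S} (f : X ⟶ Y) (hf : HasLocNoethFibres f) {U V : Over S}
    (a : (yon S).obj U ⟶ X) (b : (yon S).obj V ⟶ Y) (h : U ⟶ V)
    (ha : RepWith @Etale a) (hb : RepWith @Etale b) (hc : a ≫ f = (yon S).map h ≫ b) (u : ↥U.left) :
    LocPAt (fun h u => Dual3.IsGorensteinAt h u) f (Points.ofPt a u) ↔ Dual3.IsGorensteinAt h.left u := by
  constructor
  · intro H
    exact H a b h u ha hb hc rfl
  · intro H U' V' a' b' h' u' ha' hb' hc' hu'
    exact (gor_transfer f hf a' b' h' a b h ha' hb' ha hb hc' hc u' u hu').2 H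

end Groth.Agent.Lib.Helper16.GorSp
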