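import Mathlib
import Groth.Agent.Lib.Helper16.GorSp
import Groth.Agent.Lib.Helper16.NoethDescent
import Groth.Agent.Lib.Helper4.GorHom

/-!
# Helper library (helper16): Gorenstein schemes are etale local; charts of Gorenstein algebraic spaces
-/

set_option autoImplicit false
set_option linter.style.haveILetI false
universe u
open CategoryTheory CategoryTheory.Limits AlgebraicGeometry Opposite Topology

namespace Groth.Agent.Lib.Helper16.GorSp

open AlgSp Groth.Agent.Lib.Helper16 Groth.Agent.Lib.Helper16.DimF

/-- Along an etale morphism of locally Noetherian schemes the local rings are Gorenstein simultaneously. -/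
theorem gor_stalk_iff_of_etale {A B : Scheme.{u}} (g : A ⟶ B) [Etale g] (a : A)
    [IsNoetherianRing (A.presheaf.stalk a)] [IsNoetherianRing (B.presheaf.stalk (g a))] :
    LocCoh.IsGorensteinLocalRing (A.presheaf.stalk a) ↔
      LocCoh.IsGorensteinLocalRing (B.presheaf.stalk (g a)) := by
  algebraize [(g.stalkMap a).hom]
  haveI : IsLocalHom (algebraMap (B.presheaf.stalk (g a)) (A.presheaf.stalk a)) :=
    inferInstanceAs <| IsLocalHom (g.stalkMap a).hom
  haveI : Module.Flat (B.presheaf.stalk (g a)) (A.presheaf.stalk a) := Flat.stalkMap g a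
  haveI : Algebra.EssFiniteType (B.presheaf.stalk (g a)) (A.presheaf.stalk a) := by
    rw [← RingHom.essFiniteType_algebraMap, RingHom.algebraMap_toAlgebra]
    exact LocallyOfFiniteType.stalkMap g a
  haveI : Algebra.FormallyUnramified (B.presheaf.stalk (g a)) (A.presheaf.stalk a) := by
    rw [← RingHom.formallyUnramified_algebraMap, RingHom.algebraMap_toAlgebra]
    exact FormallyUnramified.stalkMap g a
  have hF := Algebra.FormallyUnramified.isField_quotient_map_maximalIdeal
    (R := B.presheaf.stalk (g a)) (S := A.presheaf.stalk a)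
  have key := Groth.Agent.Lib.Helper4.GorHom.gor_iff_of_flat (A := B.presheaf.stalk (g a))
    (B := A.presheaf.stalk a) _ rfl
  exact ⟨fun h => (key.1 h).1, fun h => key.2 ⟨h, gor_of_isField hF⟩⟩

/-- A scheme etale over a Gorenstein scheme is Gorenstein. -/
theorem isGorenstein_of_etale {A B : Scheme.{u}} (g : A ⟶ B) [Etale g] (hB : Dual3.IsGorenstein B) :
    Dual3.IsGorenstein A := by
  obtain ⟨hBN, hBG⟩ := hB
  haveI := hBN
  haveI : IsLocallyNoetherian A := LocallyOfFiniteType.isLocallyNoetherian g
  exact ⟨inferInstance, fun a => (gor_stalk_iff_of_etale g a).2 (hBG (g a))⟩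

/-- The target of a surjective etale morphism from a Gorenstein scheme is Gorenstein. -/
theorem isGorenstein_of_etale_surjective {A B : Scheme.{u}} (g : A ⟶ B) [Etale g] [Surjective g]
    (hA : Dual3.IsGorenstein A) : Dual3.IsGorenstein B := by
  obtain ⟨hAN, hAG⟩ := hA
  haveI := hAN
  haveI : IsLocallyNoetherian B := isLocallyNoetherian_of_fppf_surjective g
  refine ⟨inferInstance, fun b => ?_⟩
  obtain ⟨a, rfl⟩ := g.surjective b
  exact (gor_stalk_iff_of_etale g a).1 (hAG a)

variable {S : Scheme.{u}}

/-- Every etale chart of a Gorenstein algebraic space is a Gorenstein scheme. -/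
theorem isGorenstein_of_chart {Y : Sp S} (hY : EtaleLocally Dual3.IsGorenstein Y) {V : Over S}
    (b : (yon S).obj V ⟶ Y) (hb : RepWith @Etale b) : Dual3.IsGorenstein V.left := by
  obtain ⟨V₀, p, hp, hps, hG⟩ := hY
  obtain ⟨W, snd, fst₀, sq⟩ := hp.rep b
  obtain ⟨fst, rfl⟩ := (yon S).map_surjective fst₀
  haveI h1 : Etale snd.left := hp.property _ _ _ sq
  haveI h2 : Surjective snd.left := hps.property _ _ _ sq
  haveI h3 : Etale fst.left := hb.property _ _ _ sq.flip
  have hW : Dual3.IsGorenstein W.left := isGorenstein_of_etale fst.left hG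
  exact isGorenstein_of_etale_surjective snd.left hW

end Groth.Agent.Lib.Helper16.GorSp
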