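import Mathlib
import Groth.Agent.Lib.Helper16.GorSp2

/-!
# Helper library (helper16): fibres of chart diagrams as charts of the fibres of a morphism of algebraic spaces
-/

set_option autoImplicit false
set_option linter.style.haveILetI false
universe u
open CategoryTheory CategoryTheory.Limits AlgebraicGeometry Opposite Topology

namespace Groth.Agent.Lib.Helper16.GorSp

open AlgSp Groth.Agent.Lib.Helper16 Groth.Agent.Lib.Helper16.DimF

/-- If `h` is Gorenstein at all points over `v` and the fibre over `v` is locally Noetherian, the fibre is a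
Gorenstein scheme. -/
theorem isGorenstein_fiber_of_isGorensteinAt {U V : Scheme.{u}} (h : U ⟶ V) (v : V)
    [IsLocallyNoetherian (h.fiber v)] (H : ∀ u, h u = v → Dual3.IsGorensteinAt h u) :
    Dual3.IsGorenstein (h.fiber v) := by
  refine ⟨inferInstance, fun z => ?_⟩
  have hz : h (h.fiberι v z) = v := (h.fiberHomeo v z).2
  obtain ⟨u, hu⟩ : ∃ u, u = h.fiberι v z := ⟨_, rfl⟩
  rw [← hu] at hz
  subst hz
  have hzu : z = h.asFiber u := by
    apply (h.fiberHomeo (h u)).injective
    apply Subtype.ext
    rw [Scheme.Hom.fiberHomeo_apply, Scheme.Hom.fiberHomeo_apply, Scheme.Hom.fiberι_asFiber]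
    exact hu.symm
  rw [hzu]
  exact (H u rfl).2

variable {S : Scheme.{u}}

/-- The fibre of the top arrow of a pullback chart diagram is an etale chart of the fibre of the morphism. -/
theorem exists_fibre_chart {X Y : Sp S} (f : X ⟶ Y) {U U₀ V : Over S} (b : (yon S).obj V ⟶ Y)
    (a₀ : (yon S).obj U₀ ⟶ X) (h : U ⟶ V) (c : U ⟶ U₀)
    (sq : IsPullback ((yon S).map h) ((yon S).map c) b (a₀ ≫ f)) (ha₀ : RepWith @Etale a₀)
    (v : ↥V.left) {Xv : Sp S} (av : Xv ⟶ X)
    (cv : Xv ⟶ (yon S).obj (Over.mk (V.left.fromSpecResidueField v ≫ V.hom)))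
    (sqv : IsPullback av cv f ((yon S).map (Over.homMk (V.left.fromSpecResidueField v) rfl :
      Over.mk (V.left.fromSpecResidueField v ≫ V.hom) ⟶ V) ≫ b)) :
    ∃ a' : (yon S).obj (pullback h (Over.homMk (V.left.fromSpecResidueField v) rfl :
        Over.mk (V.left.fromSpecResidueField v ≫ V.hom) ⟶ V)) ⟶ Xv,
      RepWith @Etale a' ∧ (RepWith @Surjective a₀ → RepWith @Surjective a') := by
  have hcl : ((yon S).map c ≫ a₀) ≫ f = (yon S).map h ≫ b := by
    rw [Category.assoc]
    exact sq.w.symm
  have sql : IsPullback ((yon S).map c) (pullback.lift ((yon S).map c ≫ a₀) ((yon S).map h) hcl) a₀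
      (pullback.fst f b) := by
    refine IsPullback.of_bot ?_ ?_ (IsPullback.of_hasPullback f b)
    · rw [pullback.lift_snd]
      exact sq.flip
    · rw [pullback.lift_fst]
  have hl : RepWith @Etale (pullback.lift ((yon S).map c ≫ a₀) ((yon S).map h) hcl) :=
    (RepWith @Etale).of_isPullback sql ha₀
  have hθc : av ≫ f = (cv ≫ (yon S).map (Over.homMk (V.left.fromSpecResidueField v) rfl :
      Over.mk (V.left.fromSpecResidueField v ≫ V.hom) ⟶ V)) ≫ b := by
    rw [Category.assoc]
    exact sqv.w
  have sqC : IsPullback (pullback.lift _ _ hθc) cv (pullback.snd f b)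
      ((yon S).map (Over.homMk (V.left.fromSpecResidueField v) rfl :
        Over.mk (V.left.fromSpecResidueField v ≫ V.hom) ⟶ V)) := by
    refine IsPullback.of_right ?_ (pullback.lift_snd _ _ _) (IsPullback.of_hasPullback f b)
    rw [pullback.lift_fst]
    exact sqv
  obtain ⟨a', -, sqa⟩ := chart_baseChange sqC
    (pullback.lift ((yon S).map c ≫ a₀) ((yon S).map h) hcl) h (pullback.lift_snd _ _ _)
  refine ⟨a', (RepWith @Etale).of_isPullback sqa.flip hl, fun hs => ?_⟩
  have hls : RepWith @Surjective (pullback.lift ((yon S).map c ≫ a₀) ((yon S).map h) hcl) :=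
    (RepWith @Surjective).of_isPullback sql hs
  exact (RepWith @Surjective).of_isPullback sqa.flip hls

end Groth.Agent.Lib.Helper16.GorSp
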