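import Mathlib
import Groth.Agent.Lib.Helper15.GrpSp
import Groth.Agent.Lib.Helper16.DimF6
import Groth.Agent.Lib.Helper16.Points
import Groth.Agent.Lib.Helper16.Charts
import Groth.Agent.Lib.Helper9.TopDim
import Groth.Agent.Lib.Helper12.SchemeDimFT

/-!
# Helper library (helper16): homogeneity of the dimension of a group algebraic space over a field

* `shear`, `isPullback_mul_snd`: the multiplication of a group object is a base change of the structure morphism.
* `hasAtMor_fibreDimAt_iff_unit`: the relative dimension of `G ⟶ B` at a point `x` is the one at the unit point below `x`.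
* `hasAtMor_fibreDimAt_iff_localDim`: over a field, relative dimension at a chart point = local dimension of the chart.
* `localDim_const`: all chart points of a group algebraic space l.f.t. over a field have the same local dimension.
* `dim_eq_localDim`: that common value is the dimension.
-/

set_option autoImplicit false
set_option linter.style.haveILetI false
set_option linter.unusedSectionVars false
universe u v
open CategoryTheory CategoryTheory.Limits AlgebraicGeometry Opposite MonoidalCategory
  CartesianMonoidalCategory MonObj

namespace Groth.Agent.Lib.Helper16.GrpDim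

section abstract

variable {C : Type u} [Category.{v} C] [CartesianMonoidalCategory C]

theorem isPullback_fst_snd (G X : C) : IsPullback (fst G X) (snd G X) (toUnit G) (toUnit X) where
  w := by simp
  isLimit' := Nonempty.intro <| PullbackCone.IsLimit.mk _
    (fun s => lift s.fst s.snd)
    (fun s => by simp)
    (fun s => by simp)
    (fun s m hm₁ hm₂ => by
      refine CartesianMonoidalCategory.hom_ext _ _ (by simpa using hm₁) (by simpa using hm₂))

variable (G : C) [GrpObj G]

/-- The shear `(g, h) ↦ (g h, h)`. -/
noncomputable def shear : G ⊗ G ≅ G ⊗ G where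
  hom := lift (fst G G * snd G G) (snd G G)
  inv := lift (fst G G * (snd G G)⁻¹) (snd G G)
  hom_inv_id := by
    apply CartesianMonoidalCategory.hom_ext
    · rw [Category.assoc, lift_fst, Category.id_comp, MonObj.comp_mul, GrpObj.comp_inv, lift_fst,
        lift_snd, mul_inv_cancel_right]
    · rw [Category.assoc, lift_snd, lift_snd, Category.id_comp]
  inv_hom_id := by
    apply CartesianMonoidalCategory.hom_ext
    · rw [Category.assoc, lift_fst, Category.id_comp, MonObj.comp_mul, lift_fst,
        lift_snd, inv_mul_cancel_right]
    · rw [Category.assoc, lift_snd, lift_snd, Category.id_comp]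

theorem shear_hom_fst : (shear G).hom ≫ fst G G = fst G G * snd G G := lift_fst _ _

theorem shear_hom_snd : (shear G).hom ≫ snd G G = snd G G := lift_snd _ _

/-- The multiplication is a base change of the structure morphism. -/
theorem isPullback_mul_snd :
    IsPullback (fst G G * snd G G) (snd G G) (toUnit G) (toUnit G) := by
  refine IsPullback.of_iso (isPullback_fst_snd G G) (shear G).symm (Iso.refl _) (Iso.refl _)
    (Iso.refl _) ?_ ?_ (by simp) (by simp)
  · simp only [Iso.symm_hom, Iso.refl_hom, Category.comp_id]
    rw [Iso.eq_inv_comp, shear_hom_fst]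
  · simp only [Iso.symm_hom, Iso.refl_hom, Category.comp_id]
    rw [Iso.eq_inv_comp, shear_hom_snd]

/-- The section `g ↦ (e, g)`. -/
noncomputable def unitSec : G ⟶ G ⊗ G := lift (toUnit G ≫ η[G]) (𝟙 G)

theorem unitSec_fst : unitSec G ≫ fst G G = toUnit G ≫ η[G] := lift_fst _ _

theorem unitSec_snd : unitSec G ≫ snd G G = 𝟙 G := lift_snd _ _

theorem unitSec_mul : unitSec G ≫ (fst G G * snd G G) = 𝟙 G := by
  rw [MonObj.comp_mul, unitSec_fst, unitSec_snd, ← Hom.one_def, _root_.one_mul]

end abstract

open AlgSp Groth.Agent.Lib.Helper16 Groth.Agent.Lib.Helper16.DimF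

variable {S : Scheme.{u}}

section grp

variable {B : Sp S} (G : Over B) [GrpObj G]

theorem toUnit_left : (toUnit G).left = G.hom := by
  have h := Over.w (toUnit G)
  exact (Category.comp_id _).symm.trans h

theorem isPullback_fst_snd_left : IsPullback (fst G G).left (snd G G).left G.hom G.hom := by
  have h := (isPullback_fst_snd G G).map (Over.forget B)
  simp only [Over.forget_map] at h
  rw [toUnit_left] at h
  exact h

theorem isPullback_mul_snd_left :
    IsPullback (fst G G * snd G G).left (snd G G).left G.hom G.hom := by
  have h := (isPullback_mul_snd G).map (Over.forget B)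
  simp only [Over.forget_map] at h
  rw [toUnit_left] at h
  exact h

/-- Homogeneity: the relative dimension of `G ⟶ B` at `x` equals the one at the unit point below `x`. -/
theorem hasAtMor_fibreDimAt_iff_unit (R : WithBot ℕ∞ → Prop) (hB : IsAlgSpace B)
    (hG : IsAlgSpace G.left) (hlft : LocP @LocallyOfFiniteType G.hom) (x : Points G.left) :
    HasAtMor (fun _ _ h u => R (FlatMor.fibreDimAt h u)) G.hom x ↔
      HasAtMor (fun _ _ h u => R (FlatMor.fibreDimAt h u)) G.hom
        (Points.map (η[G]).left (Points.map G.hom x)) := by
  have e0 := hasAtMor_fibreDimAt_baseChange R hG hB hG (isPullback_fst_snd_left G) hlft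
    (Points.map (unitSec G).left x)
  have eM := hasAtMor_fibreDimAt_baseChange R hG hB hG (isPullback_mul_snd_left G) hlft
    (Points.map (unitSec G).left x)
  have h1 : Points.map (fst G G * snd G G).left (Points.map (unitSec G).left x) = x := by
    rw [← Points.map_comp, ← Over.comp_left, unitSec_mul]
    exact Points.map_id x
  have h2 : Points.map (fst G G).left (Points.map (unitSec G).left x) =
      Points.map (η[G]).left (Points.map G.hom x) := by
    rw [← Points.map_comp, ← Over.comp_left, unitSec_fst, Over.comp_left, Points.map_comp,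
      toUnit_left]
  rw [h1] at eM
  rw [h2] at e0
  exact eM.symm.trans e0

end grp

/-- when the base is a point, the local dimension of the fibre is the local dimension. -/
theorem fibreDimAt_eq_localDim_of_subsingleton {X T : Scheme.{u}} (f : X ⟶ T) [Subsingleton T]
    (x : X) : FlatMor.fibreDimAt f x = FlatMor.localDim X x := by
  have hrange : Set.range (f.fiberι (f x)) = Set.univ := by
    rw [Scheme.Hom.range_fiberι]
    ext y
    simp only [Set.mem_preimage, Set.mem_singleton_iff, Set.mem_univ, iff_true]
    exact Subsingleton.elim _ _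
  have hopen : Topology.IsOpenEmbedding (f.fiberι (f x)) :=
    ⟨(f.fiberι (f x)).isEmbedding, by rw [hrange]; exact isOpen_univ⟩
  unfold FlatMor.fibreDimAt
  rw [Groth.Agent.Lib.Helper12.SchemeDimFT.localDim_eq_of_isOpenEmbedding _ hopen,
    f.fiberι_asFiber]

/-- The points of `h_T` for a one-point scheme `T`. -/
theorem subsingleton_points_yon (T : Over S) [Subsingleton ↥T.left] :
    Subsingleton (Points ((yon S).obj T)) := by
  refine ⟨fun x y => ?_⟩
  obtain ⟨t, rfl⟩ := ofPt_surjective_of_surjective (𝟙 ((yon S).obj T)) (repWith_id @Surjective T) x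
  obtain ⟨t', rfl⟩ := ofPt_surjective_of_surjective (𝟙 ((yon S).obj T)) (repWith_id @Surjective T) y
  rw [Subsingleton.elim t t']

section field

variable (k : Type u) [Field k]
  (G : Over ((AlgSp.yon (Spec (CommRingCat.of k))).obj (Over.mk (𝟙 _)))) [GrpObj G]

/-- Over a field, the relative dimension at a chart point is the local dimension of the chart. -/
theorem hasAtMor_fibreDimAt_iff_localDim (R : WithBot ℕ∞ → Prop)
    (hlft : LocP @LocallyOfFiniteType G.hom) {U : Over (Spec (CommRingCat.of k))}
    (a : (yon (Spec (CommRingCat.of k))).obj U ⟶ G.left) (ha : RepWith @Etale a) (u : ↥U.left) :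
    HasAtMor (fun _ _ h u => R (FlatMor.fibreDimAt h u)) G.hom (Points.ofPt a u) ↔
      R (FlatMor.localDim ↥U.left u) := by
  obtain ⟨h, hh⟩ := (yon (Spec (CommRingCat.of k))).map_surjective (a ≫ G.hom)
  have hc : a ≫ G.hom = (yon (Spec (CommRingCat.of k))).map h ≫ 𝟙 _ := by
    rw [hh, Category.comp_id]
  haveI : Subsingleton ↥(Over.mk (𝟙 (Spec (CommRingCat.of k)))).left :=
    inferInstanceAs (Subsingleton (PrimeSpectrum k))
  rw [hasAtMor_fibreDimAt_iff R G.hom hlft a (𝟙 _) h ha (repWith_id @Etale _) hc u,
    fibreDimAt_eq_localDim_of_subsingleton h.left u]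

/-- All chart points of a group algebraic space locally of finite type over a field have the same local dimension. -/
theorem localDim_const (hG : IsAlgSpace G.left) (hlft : LocP @LocallyOfFiniteType G.hom)
    {U U' : Over (Spec (CommRingCat.of k))}
    (a : (yon (Spec (CommRingCat.of k))).obj U ⟶ G.left) (ha : RepWith @Etale a) (u : ↥U.left)
    (a' : (yon (Spec (CommRingCat.of k))).obj U' ⟶ G.left) (ha' : RepWith @Etale a') (u' : ↥U'.left) :
    FlatMor.localDim ↥U.left u = FlatMor.localDim ↥U'.left u' := by
  haveI : Subsingleton ↥(Over.mk (𝟙 (Spec (CommRingCat.of k)))).left :=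
    inferInstanceAs (Subsingleton (PrimeSpectrum k))
  haveI := subsingleton_points_yon (S := Spec (CommRingCat.of k)) (Over.mk (𝟙 _))
  have hB : IsAlgSpace ((AlgSp.yon (Spec (CommRingCat.of k))).obj (Over.mk (𝟙 _))) :=
    IsAlgSpace.yon_obj _
  have e1 := hasAtMor_fibreDimAt_iff_unit G (fun d => d = FlatMor.localDim ↥U'.left u') hB hG hlft
    (Points.ofPt a u)
  have e2 := hasAtMor_fibreDimAt_iff_unit G (fun d => d = FlatMor.localDim ↥U'.left u') hB hG hlft
    (Points.ofPt a' u')
  rw [Subsingleton.elim (Points.map G.hom (Points.ofPt a u))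
    (Points.map G.hom (Points.ofPt a' u'))] at e1
  have e3 := e1.trans e2.symm
  have h1 := hasAtMor_fibreDimAt_iff_localDim k G (fun d => d = FlatMor.localDim ↥U'.left u') hlft a ha u
  have h2 := hasAtMor_fibreDimAt_iff_localDim k G (fun d => d = FlatMor.localDim ↥U'.left u') hlft a' ha' u'
  exact h1.1 (e3.2 (h2.2 rfl))

/-- The dimension of a group algebraic space locally of finite type over a field is the local dimension at any
chart point. -/
theorem dim_eq_localDim (hG : IsAlgSpace G.left) (hlft : LocP @LocallyOfFiniteType G.hom)
    {U : Over (Spec (CommRingCat.of k))}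
    (a : (yon (Spec (CommRingCat.of k))).obj U ⟶ G.left) (ha : RepWith @Etale a) (u : ↥U.left) :
    AlgSp.dim G.left = FlatMor.localDim ↥U.left u := by
  unfold AlgSp.dim
  apply le_antisymm
  · refine iSup_le fun U' => iSup_le fun a' => iSup_le fun ha' => ?_
    rw [Groth.Agent.Lib.Helper9.topologicalKrullDim_eq_iSup_localDim]
    exact iSup_le fun u' => (localDim_const k G hG hlft a' ha' u' a ha u).le
  · exact (Groth.Agent.Lib.Helper9.localDim_le_topologicalKrullDim u).trans
      (le_iSup_of_le U (le_iSup_of_le a (le_iSup_of_le ha le_rfl)))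

end field

end Groth.Agent.Lib.Helper16.GrpDim
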