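import Mathlib
import Groth.Agent.Lib.Helper15.GroupoidPts
import Groth.Agent.Lib.Helper16.GrpDim

/-!
# Helper library (helper16): homogeneity of the dimension of the arrows of a groupoid over a field

For a groupoid in algebraic spaces `(U, R, s, t, c)` with `U` the spectrum of a field and `s` locally of finite type,
all chart points of `R` have the same local dimension, which is the dimension of `R`.
-/

set_option autoImplicit false
set_option linter.style.haveILetI false
set_option linter.unusedSectionVars false
universe u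
open CategoryTheory CategoryTheory.Limits AlgebraicGeometry Opposite

namespace Groth.Agent.Lib.Helper16.GpdDim

open AlgSp Groth.Agent.Lib.Helper16 Groth.Agent.Lib.Helper16.DimF Groth.Agent.Lib.Helper15

variable {S : Scheme.{u}} {B : Sp S} (G : AlgSp.GroupoidSp B)

/-- The section `β ↦ (e (t β), β)`. -/
noncomputable def unitSec : G.R ⟶ pullback G.s G.t :=
  pullback.lift (𝟙 G.R ≫ G.t ≫ G.e) (𝟙 G.R)
    (by rw [Category.assoc, Category.assoc, G.e_s, Category.comp_id])

theorem unitSec_c : unitSec G ≫ G.c = 𝟙 G.R := G.e_comp (𝟙 G.R)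

theorem unitSec_fst : unitSec G ≫ pullback.fst G.s G.t = G.t ≫ G.e := by
  unfold unitSec
  rw [pullback.lift_fst, Category.id_comp]

/-- Homogeneity: the relative dimension of `s` at `r` equals the one at the identity arrow of the target of `r`. -/
theorem hasAtMor_fibreDimAt_iff_unit (R' : WithBot ℕ∞ → Prop) (hU : IsAlgSpace G.U)
    (hR : IsAlgSpace G.R) (hs : LocP @LocallyOfFiniteType G.s) (r : Points G.R) :
    HasAtMor (fun _ _ h u => R' (FlatMor.fibreDimAt h u)) G.s r ↔
      HasAtMor (fun _ _ h u => R' (FlatMor.fibreDimAt h u)) G.s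
        (Points.map G.e (Points.map G.t r)) := by
  have e0 := hasAtMor_fibreDimAt_baseChange R' hR hU hR (IsPullback.of_hasPullback G.s G.t) hs
    (Points.map (unitSec G) r)
  have eM := hasAtMor_fibreDimAt_baseChange R' hR hU hR (GroupoidSp.isPullback_c_snd G) hs
    (Points.map (unitSec G) r)
  have h1 : Points.map G.c (Points.map (unitSec G) r) = r := by
    rw [← Points.map_comp, unitSec_c]
    exact Points.map_id r
  have h2 : Points.map (pullback.fst G.s G.t) (Points.map (unitSec G) r) =
      Points.map G.e (Points.map G.t r) := by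
    rw [← Points.map_comp, unitSec_fst, Points.map_comp]
  rw [h1] at eM
  rw [h2] at e0
  exact eM.symm.trans e0

section field

variable (k : Type u) [Field k] (σ : Spec (CommRingCat.of k) ⟶ S)

theorem subsingleton_points_of_iso {U : Sp S} (eU : U ≅ (AlgSp.yon S).obj (Over.mk σ)) :
    Subsingleton (Points U) := by
  haveI : Subsingleton ↥(Over.mk σ).left := inferInstanceAs (Subsingleton (PrimeSpectrum k))
  haveI := GrpDim.subsingleton_points_yon (S := S) (Over.mk σ)
  refine ⟨fun x y => ?_⟩
  have h : Points.map eU.hom x = Points.map eU.hom y := Subsingleton.elim _ _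
  have h' := congrArg (Points.map eU.inv) h
  rw [← Points.map_comp, ← Points.map_comp, eU.hom_inv_id, Points.map_id, Points.map_id] at h'
  exact h'

/-- Over a field, the relative dimension at a chart point is the local dimension of the chart. -/
theorem hasAtMor_fibreDimAt_iff_localDim (R' : WithBot ℕ∞ → Prop) {F U : Sp S} (s : F ⟶ U)
    (eU : U ≅ (AlgSp.yon S).obj (Over.mk σ))
    (hs : LocP @LocallyOfFiniteType s) {W : Over S}
    (a : (yon S).obj W ⟶ F) (ha : RepWith @Etale a) (w : ↥W.left) :
    HasAtMor (fun _ _ h u => R' (FlatMor.fibreDimAt h u)) s (Points.ofPt a w) ↔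
      R' (FlatMor.localDim ↥W.left w) := by
  obtain ⟨h, hh⟩ := (yon S).map_surjective (a ≫ s ≫ eU.hom)
  have hc : a ≫ s = (yon S).map h ≫ eU.inv := by
    rw [hh, Category.assoc, Category.assoc, eU.hom_inv_id, Category.comp_id]
  have hb : RepWith @Etale eU.inv := by
    have := (MorphismProperty.cancel_right_of_respectsIso (RepWith @Etale)
      (𝟙 ((yon S).obj (Over.mk σ))) eU.inv).2 (repWith_id @Etale _)
    rwa [Category.id_comp] at this
  haveI : Subsingleton ↥(Over.mk σ).left := inferInstanceAs (Subsingleton (PrimeSpectrum k))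
  rw [hasAtMor_fibreDimAt_iff R' s hs a eU.inv h ha hb hc w,
    GrpDim.fibreDimAt_eq_localDim_of_subsingleton h.left w]

variable (eU : G.U ≅ (AlgSp.yon S).obj (Over.mk σ))
include eU

/-- All chart points of the arrows of a groupoid over a field have the same local dimension. -/
theorem localDim_const (hR : IsAlgSpace G.R) (hs : LocP @LocallyOfFiniteType G.s)
    {W W' : Over S}
    (a : (yon S).obj W ⟶ G.R) (ha : RepWith @Etale a) (w : ↥W.left)
    (a' : (yon S).obj W' ⟶ G.R) (ha' : RepWith @Etale a') (w' : ↥W'.left) :
    FlatMor.localDim ↥W.left w = FlatMor.localDim ↥W'.left w' := by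
  haveI := subsingleton_points_of_iso k σ eU
  have hU : IsAlgSpace G.U := (IsAlgSpace.yon_obj (Over.mk σ)).of_iso eU.symm
  have e1 := hasAtMor_fibreDimAt_iff_unit G (fun d => d = FlatMor.localDim ↥W'.left w') hU hR hs
    (Points.ofPt a w)
  have e2 := hasAtMor_fibreDimAt_iff_unit G (fun d => d = FlatMor.localDim ↥W'.left w') hU hR hs
    (Points.ofPt a' w')
  rw [Subsingleton.elim (Points.map G.t (Points.ofPt a w))
    (Points.map G.t (Points.ofPt a' w'))] at e1
  have e3 := e1.trans e2.symm
  have h1 := hasAtMor_fibreDimAt_iff_localDim k σ (fun d => d = FlatMor.localDim ↥W'.left w') G.s eU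
    hs a ha w
  have h2 := hasAtMor_fibreDimAt_iff_localDim k σ (fun d => d = FlatMor.localDim ↥W'.left w') G.s eU
    hs a' ha' w'
  exact h1.1 (e3.2 (h2.2 rfl))

/-- The dimension of the arrows of a groupoid over a field is the local dimension at any chart point. -/
theorem dim_eq_localDim (hR : IsAlgSpace G.R) (hs : LocP @LocallyOfFiniteType G.s)
    {W : Over S} (a : (yon S).obj W ⟶ G.R) (ha : RepWith @Etale a) (w : ↥W.left) :
    AlgSp.dim G.R = FlatMor.localDim ↥W.left w := by
  unfold AlgSp.dim
  apply le_antisymm
  · refine iSup_le fun W' => iSup_le fun a' => iSup_le fun ha' => ?_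
    rw [Groth.Agent.Lib.Helper9.topologicalKrullDim_eq_iSup_localDim]
    exact iSup_le fun w' => (localDim_const G k σ eU hR hs a' ha' w' a ha w).le
  · exact (Groth.Agent.Lib.Helper9.localDim_le_topologicalKrullDim w).trans
      (le_iSup_of_le W (le_iSup_of_le a (le_iSup_of_le ha le_rfl)))

end field

end Groth.Agent.Lib.Helper16.GpdDim
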