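import Groth.Agent.Lib.Helper16.GrpDecent
import Groth.Agent.Lib.Helper16.ClosedPtAlg
import Groth.Agent.Lib.Helper16.ZmtSp1
import Groth.Agent.Lib.Helper15.GroupoidStab

/-!
# Helper library (helper16): the arrows of a groupoid over a field form a separated space when decent

* `ClosedPt.isClosed_mk_of_retraction`: a quasi-compact field-valued point admitting a retraction has closed image.
* `GpdSep.repWith_isClosedImmersion_e`: the identity section of a groupoid on a field with decent arrows is a closed immersion.
* `GpdSep.isSeparatedMor_j`, `GpdSep.isSeparatedSp_R`.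
-/

set_option autoImplicit false
set_option linter.style.haveILetI false
universe u
open CategoryTheory CategoryTheory.Limits AlgebraicGeometry Opposite Topology

namespace Groth.Agent.Lib.Helper16.ClosedPt

open AlgSp Groth.Agent.Lib.Helper16

variable {S : Scheme.{u}}

theorem isClosed_mk_of_retraction {X : Sp S} (hX : IsAlgSpace X) (p : FieldPt X)
    (hq : RepWith @QuasiCompact p.toHom) (ρ : X ⟶ (yon S).obj p.pt) (hρ : p.toHom ≫ ρ = 𝟙 _) :
    IsClosed ({Points.mk p} : Set (Points X)) := by
  obtain ⟨V, b, hbe, hbs⟩ := hX.atlas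
  obtain ⟨T, snd, fst, sq⟩ := hq.rep b
  obtain ⟨c, rfl⟩ := (yon S).map_surjective fst
  obtain ⟨hV, hhV⟩ := (yon S).map_surjective (b ≫ ρ)
  have hce : Etale c.left := hbe.property _ _ _ sq.flip
  have hsv : snd ≫ hV = c := by
    apply (yon S).map_injective
    rw [Functor.map_comp, hhV, ← Category.assoc, ← sq.w, Category.assoc, hρ, Category.comp_id]
  have hrange : Set.range snd.left = Points.ofPt b ⁻¹' {Points.mk p} := by
    ext v
    constructor
    · rintro ⟨t, rfl⟩
      show Points.ofPt b (snd.left t) = Points.mk p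
      rw [← ofPt_yon_map_comp, ← sq.w, ← Points.map_ofPt]
      exact FibreEmb.points_map_toHom_eq p _
    · intro hv
      obtain ⟨t, ht, -⟩ := exists_point_of_isPullback_yon_yon sq.flip v (IsLocalRing.closedPoint p.K)
        (hv.trans (Points.ofPt_toHom p _).symm)
      exact ⟨t, ht⟩
  have hptcl : ∀ w : ↥T.left, IsClosed ({snd.left w} : Set ↥V.left) := by
    intro w
    have h1 : T.left.fromSpecResidueField w ≫ c.left =
        Spec.map (c.left.residueFieldMap w) ≫ (p.pt.left).fromSpecResidueField (c.left w) :=
      (Scheme.Hom.SpecMap_residueFieldMap_fromSpecResidueField c.left w).symm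
    have hint : IsIntegralHom (Spec.map (c.left.residueFieldMap w)) := by
      rw [IsIntegralHom.SpecMap_iff]
      let : Algebra (p.pt.left.residueField (c.left w)) (T.left.residueField w) :=
        (c.left.residueFieldMap w).hom.toAlgebra
      have hsep : Algebra.IsSeparable (p.pt.left.residueField (c.left w)) (T.left.residueField w) :=
        inferInstance
      have hint' : Algebra.IsIntegral (p.pt.left.residueField (c.left w)) (T.left.residueField w) :=
        inferInstance
      exact fun y => Algebra.IsIntegral.isIntegral y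
    have hci : IsClosedImmersion ((p.pt.left).fromSpecResidueField (c.left w)) := by
      rw [← isClosed_singleton_iff_isClosedImmersion]
      have hsub : Subsingleton ↥p.pt.left := inferInstanceAs (Subsingleton ↥(Spec (CommRingCat.of p.K)))
      have : ({c.left w} : Set ↥p.pt.left) = Set.univ := by
        ext z
        simp only [Set.mem_singleton_iff, Set.mem_univ, iff_true]
        exact Subsingleton.elim _ _
      rw [this]
      exact isClosed_univ
    have huc1 : UniversallyClosed (T.left.fromSpecResidueField w ≫ c.left) := by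
      rw [h1]; infer_instance
    have huc2 : UniversallyClosed ((T.left.fromSpecResidueField w ≫ snd.left) ≫ hV.left) := by
      have e : (T.left.fromSpecResidueField w ≫ snd.left) ≫ hV.left =
          T.left.fromSpecResidueField w ≫ c.left := by
        rw [Category.assoc, ← Over.comp_left, hsv]
      rw [e]
      exact huc1
    have := isClosed_singleton_of_universallyClosed_comp (T.left.residueField w)
      (T.left.fromSpecResidueField w ≫ snd.left) hV.left
    rwa [Scheme.Hom.comp_apply, Scheme.fromSpecResidueField_apply] at this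
  have hT : IsClosed (Points.ofPt b ⁻¹' {Points.mk p}) := by
    rw [TopologicalSpace.IsOpenCover.isClosed_iff_coe_preimage (iSup_affineOpens_eq_top V.left)]
    intro W
    have hfin := FibreEmb.finite_fibre_inter_affine_of_qc p hq b hbe W.1 W.2
    have hcl : IsClosed ((Points.ofPt b ⁻¹' {Points.mk p}) ∩ (W.1 : Set ↥V.left)) := by
      rw [← Set.biUnion_of_singleton ((Points.ofPt b ⁻¹' {Points.mk p}) ∩ (W.1 : Set ↥V.left))]
      refine hfin.isClosed_biUnion fun v hv => ?_
      obtain ⟨w, rfl⟩ := hrange.ge hv.1
      exact hptcl w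
    have e : ((↑) : (W.1 : Set ↥V.left) → ↥V.left) ⁻¹' (Points.ofPt b ⁻¹' {Points.mk p}) =
        (↑) ⁻¹' ((Points.ofPt b ⁻¹' {Points.mk p}) ∩ (W.1 : Set ↥V.left)) := by
      ext z
      simp only [Set.mem_preimage, Set.mem_inter_iff]
      exact ⟨fun h => ⟨h, z.2⟩, fun h => h.1⟩
    exact e ▸ hcl.preimage continuous_subtype_val
  exact (FtPt.isQuotientMap_ofPt b hbe hbs).isClosed_preimage.1 hT

end Groth.Agent.Lib.Helper16.ClosedPt

namespace Groth.Agent.Lib.Helper16.GpdSep

open AlgSp Groth.Agent.Lib.Helper16 Groth.Agent.Lib.Helper15 Groth.Agent.Lib.Helper16.ClosedPt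
  Groth.Agent.Lib.Helper16.ZmtSp Groth.Agent.Lib.Helper16.GrpDecent

variable {S : Scheme.{u}} {B : Sp S} (G : AlgSp.GroupoidSp B)

/-- The identity section of a groupoid on a field with decent arrows is a closed immersion. -/
theorem repWith_isClosedImmersion_e (hR : IsAlgSpace G.R) (k : Type u) [Field k]
    (σ : Spec (CommRingCat.of k) ⟶ S) (eU : G.U ≅ (AlgSp.yon S).obj (Over.mk σ))
    (hd : IsDecent G.R) : RepWith @IsClosedImmersion G.e := by
  let p : FieldPt G.R := fieldPtOfHom k σ (eU.inv ≫ G.e)
  have hpe : p.toHom = eU.inv ≫ G.e := fieldPtOfHom_toHom _ _ _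
  have h0 : (eU.inv ≫ G.e) ≫ (G.s ≫ eU.hom) = 𝟙 ((yon S).obj (Over.mk σ)) := by
    rw [Category.assoc, ← Category.assoc G.e, G.e_s, Category.id_comp, eU.inv_hom_id]
  have hρ : p.toHom ≫ (G.s ≫ eU.hom) = 𝟙 _ := by
    rw [hpe]
    exact h0
  have hm : Mono p.toHom := by
    rw [hpe]
    have hid : Mono (𝟙 ((yon S).obj (Over.mk σ))) :=
      ⟨fun a b h => by simpa only [Category.comp_id] using h⟩
    exact @mono_of_mono_fac _ _ _ _ _ _ _ _ hid h0
  obtain ⟨p', hp', hm', hq'⟩ := hd (Points.mk p)
  obtain ⟨c, hc⟩ := exists_factor_of_rel_of_mono p' p hm' hq'.rep (Points.mk_eq_mk_iff.1 hp'.symm)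
  haveI : IsAffine p.pt.left := inferInstanceAs (IsAffine (Spec (CommRingCat.of k)))
  haveI : IsAffine p'.pt.left := inferInstanceAs (IsAffine (Spec (CommRingCat.of p'.K)))
  have hq : RepWith @QuasiCompact p.toHom := by
    rw [hc]
    exact (RepWith @QuasiCompact).comp_mem _ _
      ((repWith_yon_map_iff _ c).2 (inferInstance : QuasiCompact c.left)) hq'
  have hcl : IsClosed ({Points.mk p} : Set (Points G.R)) :=
    isClosed_mk_of_retraction hR p hq (G.s ≫ eU.hom) hρ
  have hci : RepWith @IsClosedImmersion p.toHom := repWith_isClosedImmersion_of_isClosed hR p hm hq hcl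
  rw [hpe] at hci
  exact (MorphismProperty.cancel_left_of_respectsIso (RepWith @IsClosedImmersion) eU.inv G.e).1 hci

/-- The unit section of the stabilizer. -/
noncomputable def eG : G.U ⟶ G.stabilizer :=
  pullback.lift G.e (𝟙 G.U) (by
    apply pullback.hom_ext
    · rw [Category.assoc, AlgSp.GroupoidSp.j_fst, G.e_t, Category.id_comp]
      exact (pullback.lift_fst _ _ _).symm
    · rw [Category.assoc, AlgSp.GroupoidSp.j_snd, G.e_s, Category.id_comp]
      exact (pullback.lift_snd _ _ _).symm)

theorem eG_ι : eG G ≫ G.stabilizerι = G.e := pullback.lift_fst _ _ _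

instance mono_diag : Mono G.diag :=
  mono_of_mono_fac (pullback.lift_fst _ _ _ : G.diag ≫ pullback.fst G.pU G.pU = 𝟙 G.U)

instance mono_stabilizerι : Mono G.stabilizerι := by
  unfold AlgSp.GroupoidSp.stabilizerι
  haveI := mono_diag G
  exact pullback.fst_of_mono

theorem isPullback_eG : IsPullback (𝟙 G.U) (eG G) G.e G.stabilizerι := by
  apply GroupoidSp.isPullback_of_exists_lift'
  · rw [Category.id_comp, eG_ι]
  · intro Q a b hab
    refine ⟨a, Category.comp_id a, ?_⟩
    rw [← cancel_mono G.stabilizerι, Category.assoc, eG_ι, hab]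
  · intro Q l l' h1 _
    simpa only [Category.comp_id] using h1

/-- `j = (t, s)` is separated as soon as the identity section is a closed immersion. -/
theorem isSeparatedMor_j (he : RepWith @IsClosedImmersion G.e) : IsSeparatedMor G.j := by
  have h1 : RepWith @IsClosedImmersion (eG G) :=
    (RepWith (S := S) @IsClosedImmersion).of_isPullback (isPullback_eG G) he
  exact (GroupoidSp.diagonal_j_tfae G (RepWith @IsClosedImmersion) (eG G) (eG_ι G)).2.1.2 h1

/-- The arrows of a groupoid on a field form a separated space as soon as the identity section is a closed immersion. -/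
theorem isSeparatedSp_R_of_e (k : Type u) [Field k]
    (σ : Spec (CommRingCat.of k) ⟶ S) (eU : G.U ≅ (AlgSp.yon S).obj (Over.mk σ))
    (he : RepWith @IsClosedImmersion G.e) : IsSeparatedSp G.R := by
  have hT := SpCoprod.isTerminalOne S
  let uT : G.U ⟶ (yon S).obj (SpCoprod.one S) := hT.from G.U
  -- `U ⟶ h_S` is separated
  have huT : IsSeparatedMor uT := by
    let g : Over.mk σ ⟶ SpCoprod.one S := Over.homMk σ (by simp)
    have e1 : uT = eU.hom ≫ (yon S).map g := hT.hom_ext _ _
    rw [e1]
    refine isSeparatedMor_comp _ _ (isSeparatedMor_of_mono _) ?_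
    rw [isSeparatedMor_yon_map_iff]
    show IsSeparated σ
    infer_instance
  -- `U ×_B U ⟶ U × U` is a monomorphism
  let m : pullback G.pU G.pU ⟶ pullback uT uT :=
    pullback.lift (pullback.fst G.pU G.pU) (pullback.snd G.pU G.pU) (hT.hom_ext _ _)
  haveI : Mono m := by
    refine ⟨fun {Q} a b hab => ?_⟩
    apply pullback.hom_ext
    · have := congrArg (· ≫ pullback.fst uT uT) hab
      simpa only [Category.assoc, m, pullback.lift_fst] using this
    · have := congrArg (· ≫ pullback.snd uT uT) hab
      simpa only [Category.assoc, m, pullback.lift_snd] using this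
  have h1 : IsSeparatedMor (pullback.fst uT uT) :=
    isSeparatedMor_of_isPullback (IsPullback.of_hasPullback uT uT).flip huT
  have hall : IsSeparatedMor (G.j ≫ m ≫ pullback.fst uT uT ≫ uT) :=
    isSeparatedMor_comp _ _ (isSeparatedMor_j G he)
      (isSeparatedMor_comp _ _ (isSeparatedMor_of_mono m) (isSeparatedMor_comp _ _ h1 huT))
  exact repWith_diag_of_diagonal_of_isTerminal @IsClosedImmersion hT _ hall

end Groth.Agent.Lib.Helper16.GpdSep
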