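import Mathlib
import Groth.Agent.Lib.Helper15.GrpSp
import Groth.Agent.Lib.Helper16.ClosedPtSp
import Groth.Agent.Lib.Helper16.ClosedPtAlg
import Groth.Agent.Lib.Helper16.SpCoprod
import Groth.Agent.Lib.Helper16.MonoPt
import Groth.Agent.Lib.Helper16.Points

/-!
# Helper library (helper16): decent group algebraic spaces over a field are separated
-/

set_option autoImplicit false
universe u
open CategoryTheory CategoryTheory.Limits AlgebraicGeometry Opposite MonoidalCategory
  CartesianMonoidalCategory MonObj

namespace Groth.Agent.Lib.Helper16.GrpDecent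

open AlgSp Groth.Agent.Lib.Helper16 Groth.Agent.Lib.Helper15 Groth.Agent.Lib.Helper16.ClosedPt

/-- Over a terminal base, a closed-immersion relative diagonal gives a closed-immersion diagonal. -/
theorem repWith_diag_of_diagonal_of_isTerminal {S : Scheme.{u}} (P : MorphismProperty Scheme.{u})
    [P.IsStableUnderBaseChange] {F B : Sp S} (t : IsTerminal B) (f : F ⟶ B)
    (h : RepWith P (pullback.diagonal f)) : RepWith P (Limits.diag F) := by
  have w : (prod.fst : F ⨯ F ⟶ F) ≫ f = prod.snd ≫ f := t.hom_ext _ _
  have hj1 : prod.lift (pullback.fst f f) (pullback.snd f f) ≫ pullback.lift prod.fst prod.snd w =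
      𝟙 _ := by
    apply pullback.hom_ext
    · rw [Category.assoc, pullback.lift_fst, prod.lift_fst, Category.id_comp]
    · rw [Category.assoc, pullback.lift_snd, prod.lift_snd, Category.id_comp]
  have hj2 : pullback.lift prod.fst prod.snd w ≫ prod.lift (pullback.fst f f) (pullback.snd f f) =
      𝟙 _ := by
    apply Limits.prod.hom_ext
    · rw [Category.assoc, prod.lift_fst, pullback.lift_fst, Category.id_comp]
    · rw [Category.assoc, prod.lift_snd, pullback.lift_snd, Category.id_comp]
  haveI : IsIso (prod.lift (pullback.fst f f) (pullback.snd f f)) :=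
    ⟨pullback.lift prod.fst prod.snd w, hj1, hj2⟩
  have hdiag : Limits.diag F =
      pullback.diagonal f ≫ prod.lift (pullback.fst f f) (pullback.snd f f) := by
    apply Limits.prod.hom_ext
    · rw [Category.assoc, prod.lift_fst, prod.lift_fst, pullback.diagonal_fst]
    · rw [Category.assoc, prod.lift_snd, prod.lift_snd, pullback.diagonal_snd]
  rw [hdiag]
  exact (MorphismProperty.cancel_right_of_respectsIso (RepWith P) _
    (prod.lift (pullback.fst f f) (pullback.snd f f))).2 h

theorem isSeparatedSp_of_isDecent_field (k : Type u) [Field k]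
    (G : Over ((AlgSp.yon (Spec (CommRingCat.of k))).obj (Over.mk (𝟙 _)))) [GrpObj G]
    (hG : AlgSp.IsAlgSpace G.left) (hd : AlgSp.IsDecent G.left) : AlgSp.IsSeparatedSp G.left := by
  obtain ⟨e, he⟩ : ∃ e : (AlgSp.yon (Spec (CommRingCat.of k))).obj (Over.mk (𝟙 _)) ⟶ G.left,
      e = (η[G]).left := ⟨_, rfl⟩
  have heh : e ≫ G.hom = 𝟙 _ := by rw [he]; exact GrpSp.unit_hom G
  let p : FieldPt G.left := fieldPtOfHom k (𝟙 (Spec (CommRingCat.of k))) e
  have hpe : p.toHom = e := fieldPtOfHom_toHom _ _ _
  have hm : Mono p.toHom := by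
    rw [hpe]
    haveI : Mono (e ≫ G.hom) := by rw [heh]; infer_instance
    exact mono_of_mono e G.hom
  obtain ⟨p', hp', hm', hq'⟩ := hd (Points.mk p)
  obtain ⟨c, hc⟩ := exists_factor_of_rel_of_mono p' p hm' hq'.rep (Points.mk_eq_mk_iff.1 hp'.symm)
  haveI : IsAffine p.pt.left := inferInstanceAs (IsAffine (Spec (CommRingCat.of k)))
  haveI : IsAffine p'.pt.left := inferInstanceAs (IsAffine (Spec (CommRingCat.of p'.K)))
  have hq : RepWith @QuasiCompact p.toHom := by
    rw [hc]
    exact (RepWith @QuasiCompact).comp_mem _ _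
      ((repWith_yon_map_iff _ c).2 (inferInstance : QuasiCompact c.left)) hq'
  have huc : UniversallyClosed p.str :=
    inferInstanceAs (UniversallyClosed (𝟙 (Spec (CommRingCat.of k))))
  have hcl : IsClosed ({Points.mk p} : Set (Points G.left)) :=
    isClosed_mk_of_universallyClosed_str hG p hq huc
  have hci : RepWith @IsClosedImmersion p.toHom := repWith_isClosedImmersion_of_isClosed hG p hm hq hcl
  rw [hpe, he] at hci
  have hΔ : RepWith @IsClosedImmersion (pullback.diagonal G.hom) :=
    (GrpSp.diagonal_iff_unit G (RepWith @IsClosedImmersion)).2 hci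
  exact repWith_diag_of_diagonal_of_isTerminal @IsClosedImmersion
    (SpCoprod.isTerminalOne (Spec (CommRingCat.of k))) G.hom hΔ

end Groth.Agent.Lib.Helper16.GrpDecent
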