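import Mathlib
import Groth.Agent.Lib.Helper16.ElemNbhd
import Groth.Agent.Lib.Helper16.LocPGen
import Groth.Agent.Lib.Helper8.EssEtOfUnram
import Groth.Agent.Lib.Helper5.HenselLift
import Groth.Agent.S2778

/-!
# Henselization along morphisms of elementary etale neighbourhoods
-/

set_option autoImplicit false
universe u
open CategoryTheory CategoryTheory.Limits AlgebraicGeometry Opposite TensorProduct

namespace Groth.Agent.Lib.Helper16.HensNbhd

section Field

/-- An epimorphic extension of fields is trivial. -/
theorem surjective_of_isEpi_field (K L : Type*) [Field K] [Field L] [Algebra K L]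
    [hepi : Algebra.IsEpi K L] : Function.Surjective (algebraMap K L) := by
  intro x
  obtain ⟨ψ, hψ⟩ := LinearMap.exists_leftInverse_of_injective (Algebra.linearMap K L)
    (LinearMap.ker_eq_bot.2 (algebraMap K L).injective)
  have h1 : ψ 1 = 1 := by
    have := LinearMap.congr_fun hψ 1
    simpa using this
  let Φ : L ⊗[K] L →ₗ[K] L := (TensorProduct.lid K L).toLinearMap ∘ₗ LinearMap.rTensor L ψ
  have h2 := congrArg Φ ((Algebra.isEpi_iff_forall_one_tmul_eq K L).1 hepi x)
  have h3 : Φ ((1 : L) ⊗ₜ[K] x) = x := by
    show (TensorProduct.lid K L) (LinearMap.rTensor L ψ ((1 : L) ⊗ₜ[K] x)) = x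
    rw [LinearMap.rTensor_tmul, TensorProduct.lid_tmul, h1, one_smul]
  have h4 : Φ (x ⊗ₜ[K] (1 : L)) = algebraMap K L (ψ x) := by
    show (TensorProduct.lid K L) (LinearMap.rTensor L ψ (x ⊗ₜ[K] (1 : L))) = _
    rw [LinearMap.rTensor_tmul, TensorProduct.lid_tmul, Algebra.algebraMap_eq_smul_one]
  rw [h3, h4] at h2
  exact ⟨ψ x, h2.symm⟩

end Field

section Ring

open IsLocalRing

/-- If `A → B` is a flat, essentially finite type, formally unramified local homomorphism with
surjective residue field map, then a henselization of `B` is a henselization of `A`. -/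
theorem isHenselization_of_essEtale (A B R : Type u) [CommRing A] [IsLocalRing A] [CommRing B]
    [IsLocalRing B] [Algebra A B] [IsLocalHom (algebraMap A B)] [Module.Flat A B]
    [Algebra.EssFiniteType A B] [Algebra.FormallyUnramified A B]
    (hres : Function.Surjective (IsLocalRing.ResidueField.map (algebraMap A B)))
    [CommRing R] [IsLocalRing R] [Algebra B R] [IsLocalHom (algebraMap B R)]
    [hR : Hensel.IsHenselization B R] [Algebra A R] [IsScalarTower A B R] :
    ∃ (_ : IsLocalHom (algebraMap A R)), Hensel.IsHenselization A R := by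
  have hloc : IsLocalHom (algebraMap A R) := by
    rw [IsScalarTower.algebraMap_eq A B R]
    exact RingHom.isLocalHom_comp _ _
  haveI : IsLocalHom (algebraMap B B) := ⟨fun a h => h⟩
  have hess : EGA4loc.IsEssentiallyEtale A B :=
    Groth.Agent.Lib.Helper8.EssEtOfUnram.isEssentiallyEtale A B B
  have hstrict : EGA4loc.IsStrictlyEssentiallyEtale A B :=
    ⟨hess, (IsLocalRing.ResidueField.map (algebraMap A B)).injective, hres⟩
  refine ⟨hloc, hR.henselian, ?_⟩
  intro T _ _ f hf
  haveI : IsLocalHom f := hf
  obtain ⟨f', ⟨hf'loc, hf'c⟩, hf'u⟩ := Groth.Agent.S2778.result A B hstrict T f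
  obtain ⟨g, hg, hgu⟩ := hR.universal T f' hf'loc
  refine ⟨g, ?_, ?_⟩
  · show g.comp (algebraMap A R) = f
    rw [IsScalarTower.algebraMap_eq A B R, ← RingHom.comp_assoc, hg, hf'c]
  · intro g' hg'
    have hg'c : (g'.comp (algebraMap B R)).comp (algebraMap A B) = f := by
      rw [RingHom.comp_assoc, ← IsScalarTower.algebraMap_eq A B R]
      exact hg'
    letI : Algebra A T := f.toAlgebra
    haveI : IsLocalHom (algebraMap A T) := hf
    let ψ : B →ₐ[A] T :=
      { g'.comp (algebraMap B R) with
        commutes' := fun r => RingHom.congr_fun hg'c r }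
    have hψloc : IsLocalHom ψ.toRingHom :=
      Groth.Agent.Lib.Helper5.isLocalHom_algHom_of_isEssentiallyEtale A B hess ψ
    have h1 : g'.comp (algebraMap B R) = f' := hf'u _ ⟨hψloc, hg'c⟩
    exact hgu g' h1

end Ring

section Scheme

variable {X Y : Scheme.{u}}

theorem flat_stalkMap (f : X ⟶ Y) [Flat f] (x : X) :
    letI := (f.stalkMap x).hom.toAlgebra
    Module.Flat (Y.presheaf.stalk (f x)) (X.presheaf.stalk x) :=
  Flat.stalkMap f x

theorem essFiniteType_stalkMap (f : X ⟶ Y) [LocallyOfFiniteType f] (x : X) :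
    letI := (f.stalkMap x).hom.toAlgebra
    Algebra.EssFiniteType (Y.presheaf.stalk (f x)) (X.presheaf.stalk x) := by
  letI := (f.stalkMap x).hom.toAlgebra
  rw [← RingHom.essFiniteType_algebraMap, RingHom.algebraMap_toAlgebra]
  exact LocallyOfFiniteType.stalkMap f x

theorem formallyUnramified_stalkMap (f : X ⟶ Y) [FormallyUnramified f] (x : X) :
    letI := (f.stalkMap x).hom.toAlgebra
    Algebra.FormallyUnramified (Y.presheaf.stalk (f x)) (X.presheaf.stalk x) := by
  letI := (f.stalkMap x).hom.toAlgebra
  rw [← RingHom.formallyUnramified_algebraMap, RingHom.algebraMap_toAlgebra]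
  exact FormallyUnramified.stalkMap f x

/-- If `Spec κ(x) ⟶ Spec κ(f x)` is a monomorphism, the residue field extension is trivial. -/
theorem residueField_map_surjective_of_mono (f : X ⟶ Y) (x : X)
    (hm : Mono (Spec.map (f.residueFieldMap x))) :
    Function.Surjective (IsLocalRing.ResidueField.map (f.stalkMap x).hom) := by
  have hm' : Mono (Scheme.Spec.map (f.residueFieldMap x).op) := hm
  have hm'' : Mono (f.residueFieldMap x).op := Scheme.Spec.mono_of_mono_map hm'
  have hepi : Epi (f.residueFieldMap x) := unop_epi_of_mono (f.residueFieldMap x).op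
  letI := (f.residueFieldMap x).hom.toAlgebra
  have h2 : Algebra.IsEpi (Y.residueField (f x)) (X.residueField x) :=
    CommRingCat.epi_iff_epi.1 hepi
  exact surjective_of_isEpi_field (Y.residueField (f x)) (X.residueField x)

end Scheme

section Main

open AlgSp Groth.Agent.Lib.Helper16.ElemNbhd

variable {S : Scheme.{u}}

theorem mono_resMap {F : Sp S} {U U' : Over S} (a : (yon S).obj U ⟶ F)
    (a' : (yon S).obj U' ⟶ F) (g : U' ⟶ U) (u' : ↥U'.left)
    (hg : (yon S).map g ≫ a = a') (hm : Mono (FieldPt.ofPt a' u').toHom) :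
    Mono (Spec.map (g.left.residueFieldMap u')) := by
  have e2 : (FieldPt.ofPt a (g.left u')).toHom = (yon S).map (kappa U (g.left u')) ≫ a :=
    FieldPt.toHom_ofPt a _
  have e3 : (FieldPt.ofPt a' u').toHom = (yon S).map (kappa U' u') ≫ a' :=
    FieldPt.toHom_ofPt a' _
  have key : (yon S).map (resMap g u') ≫ (FieldPt.ofPt a (g.left u')).toHom =
      (FieldPt.ofPt a' u').toHom := by
    rw [e2, e3, ← Category.assoc, ← Functor.map_comp, resMap_kappa, Functor.map_comp,
      Category.assoc, hg]
  have h1 : Mono ((yon S).map (resMap g u') ≫ (FieldPt.ofPt a (g.left u')).toHom) := by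
    rw [key]; exact hm
  have h2 : Mono ((yon S).map (resMap g u')) := mono_of_mono _ (FieldPt.ofPt a (g.left u')).toHom
  have h3 : Mono (resMap g u') := (yon S).mono_of_mono_map h2
  have h4 : Mono (resMap g u').left := inferInstance
  exact h4

/-- The henselization of the local ring of an elementary etale neighbourhood does not depend on the
neighbourhood. -/
theorem isHenselization_of_elemNbhd {F : Sp S} {U U' : Over S} (a : (yon S).obj U ⟶ F)
    (a' : (yon S).obj U' ⟶ F) (g : U' ⟶ U) (u' : ↥U'.left)
    (hg : (yon S).map g ≫ a = a') (ha : RepWith @Etale a) (ha' : RepWith @Etale a')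
    (hm : Mono (FieldPt.ofPt a' u').toHom) (R : Type u) [CommRing R] [IsLocalRing R]
    [Algebra ↥(U'.left.presheaf.stalk u') R]
    [IsLocalHom (algebraMap ↥(U'.left.presheaf.stalk u') R)]
    [Hensel.IsHenselization ↥(U'.left.presheaf.stalk u') R] :
    letI : Algebra ↥(U.left.presheaf.stalk (g.left.base u')) R :=
      ((algebraMap ↥(U'.left.presheaf.stalk u') R).comp (g.left.stalkMap u').hom).toAlgebra
    ∃ (_ : IsLocalHom (algebraMap ↥(U.left.presheaf.stalk (g.left.base u')) R)),
      Hensel.IsHenselization ↥(U.left.presheaf.stalk (g.left.base u')) R := by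
  have hge : Etale g.left := by
    have h1 : RepWith @Etale ((yon S).map g) :=
      Groth.Agent.Lib.Helper16.repWith_etale_of_comp ((yon S).map g) a ha (by rw [hg]; exact ha')
    exact (repWith_yon_map_iff _ _).1 h1
  letI : Algebra ↥(U.left.presheaf.stalk (g.left.base u')) R :=
    ((algebraMap ↥(U'.left.presheaf.stalk u') R).comp (g.left.stalkMap u').hom).toAlgebra
  letI algAB : Algebra ↥(U.left.presheaf.stalk (g.left.base u')) ↥(U'.left.presheaf.stalk u') :=
    (g.left.stalkMap u').hom.toAlgebra
  haveI : IsScalarTower ↥(U.left.presheaf.stalk (g.left.base u')) ↥(U'.left.presheaf.stalk u') R :=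
    IsScalarTower.of_algebraMap_eq (fun r => rfl)
  haveI : IsLocalHom (algebraMap ↥(U.left.presheaf.stalk (g.left.base u'))
      ↥(U'.left.presheaf.stalk u')) :=
    inferInstanceAs (IsLocalHom (g.left.stalkMap u').hom)
  haveI := flat_stalkMap g.left u'
  haveI := essFiniteType_stalkMap g.left u'
  haveI := formallyUnramified_stalkMap g.left u'
  have hres := residueField_map_surjective_of_mono g.left u' (mono_resMap a a' g u' hg hm)
  exact isHenselization_of_essEtale _ _ R hres

end Main

end Groth.Agent.Lib.Helper16.HensNbhd
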