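import Mathlib
import Groth.Agent.Lib.Helper16.HensNbhd
import Groth.Agent.Lib.Helper16.Charts
import Groth.Agent.Lib.Helper8.BranchNbhdMain
import Groth.Agent.Lib.Helper8.Hzl.TensorHens
import Groth.Agent.S10420
import Groth.Agent.S2052
import Groth.Agent.S9781
import Groth.Agent.S9752
import Groth.Agent.S9237

/-!
# Branches of a decent algebraic space at a point via elementary etale neighbourhoods
-/

set_option autoImplicit false
universe u
open CategoryTheory CategoryTheory.Limits AlgebraicGeometry Opposite TensorProduct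

namespace Groth.Agent.Lib.Helper16.HensNbhd

section Ring

open IsLocalRing

/-- If `A → B` is a flat, essentially finite type, formally unramified local homomorphism with
surjective residue field map, then a henselization of `A` is a henselization of `B`. -/
theorem exists_isHenselization_up_ring (A B R : Type u) [CommRing A] [IsLocalRing A] [CommRing B]
    [IsLocalRing B] [Algebra A B] [IsLocalHom (algebraMap A B)] [Module.Flat A B]
    [Algebra.EssFiniteType A B] [Algebra.FormallyUnramified A B]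
    (hres : Function.Surjective (IsLocalRing.ResidueField.map (algebraMap A B)))
    [CommRing R] [IsLocalRing R] [Algebra A R] [IsLocalHom (algebraMap A R)]
    [hR : Hensel.IsHenselization A R] :
    ∃ (_ : Algebra B R) (_ : IsLocalHom (algebraMap B R)), Hensel.IsHenselization B R := by
  haveI : IsLocalHom (algebraMap B B) := ⟨fun a h => h⟩
  have hess : EGA4loc.IsEssentiallyEtale A B :=
    Groth.Agent.Lib.Helper8.EssEtOfUnram.isEssentiallyEtale A B B
  have hstrict : EGA4loc.IsStrictlyEssentiallyEtale A B :=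
    ⟨hess, (IsLocalRing.ResidueField.map (algebraMap A B)).injective, hres⟩
  haveI hRh : HenselianLocalRing R := hR.henselian
  obtain ⟨ψ', ⟨hloc, hcomp⟩, -⟩ := Groth.Agent.S2778.result A B hstrict R (algebraMap A R)
  letI algBR : Algebra B R := ψ'.toAlgebra
  haveI : IsScalarTower A B R :=
    IsScalarTower.of_algebraMap_eq (fun r => (RingHom.congr_fun hcomp r).symm)
  haveI hloc' : IsLocalHom (algebraMap B R) := hloc
  refine ⟨algBR, hloc', ?_⟩
  refine Groth.Agent.Lib.Helper8.Hzl.isHenselization_of_factor A R B ?_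
  intro T _ _ g hg h hh
  haveI : IsLocalHom g := hg
  haveI : IsLocalHom (g.comp (algebraMap A B)) := RingHom.isLocalHom_comp _ _
  obtain ⟨ψ'', -, hu⟩ := Groth.Agent.S2778.result A B hstrict T (g.comp (algebraMap A B))
  have e1 : g = ψ'' := hu g ⟨hg, rfl⟩
  have hc : (h.comp (algebraMap B R)).comp (algebraMap A B) = g.comp (algebraMap A B) := by
    rw [RingHom.comp_assoc, ← IsScalarTower.algebraMap_eq A B R]
    exact hh
  letI : Algebra A T := (g.comp (algebraMap A B)).toAlgebra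
  haveI : IsLocalHom (algebraMap A T) :=
    (inferInstance : IsLocalHom (g.comp (algebraMap A B)))
  let ψ : B →ₐ[A] T :=
    { h.comp (algebraMap B R) with
      commutes' := fun r => RingHom.congr_fun hc r }
  have hψloc : IsLocalHom ψ.toRingHom :=
    Groth.Agent.Lib.Helper5.isLocalHom_algHom_of_isEssentiallyEtale A B hess ψ
  have e2 : h.comp (algebraMap B R) = ψ'' := hu _ ⟨hψloc, hc⟩
  rw [e1, e2]

end Ring

section Main

open AlgSp Groth.Agent.Lib.Helper16 Groth.Agent.Lib.Helper16.ElemNbhd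

variable {S : Scheme.{u}}

/-- Going up along a morphism of elementary etale neighbourhoods. -/
theorem exists_isHenselization_up {F : Sp S} {U U' : Over S} (a : (yon S).obj U ⟶ F)
    (a' : (yon S).obj U' ⟶ F) (g : U' ⟶ U) (u' : ↥U'.left)
    (hg : (yon S).map g ≫ a = a') (ha : RepWith @Etale a) (ha' : RepWith @Etale a')
    (hm : Mono (FieldPt.ofPt a' u').toHom) (R : Type u) [CommRing R] [IsLocalRing R]
    [Algebra ↥(U.left.presheaf.stalk (g.left.base u')) R]
    [IsLocalHom (algebraMap ↥(U.left.presheaf.stalk (g.left.base u')) R)]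
    [Hensel.IsHenselization ↥(U.left.presheaf.stalk (g.left.base u')) R] :
    ∃ (_ : Algebra ↥(U'.left.presheaf.stalk u') R)
      (_ : IsLocalHom (algebraMap ↥(U'.left.presheaf.stalk u') R)),
      Hensel.IsHenselization ↥(U'.left.presheaf.stalk u') R := by
  have hge : Etale g.left := by
    have h1 : RepWith @Etale ((yon S).map g) :=
      Groth.Agent.Lib.Helper16.repWith_etale_of_comp ((yon S).map g) a ha (by rw [hg]; exact ha')
    exact (repWith_yon_map_iff _ _).1 h1
  letI algAB : Algebra ↥(U.left.presheaf.stalk (g.left.base u')) ↥(U'.left.presheaf.stalk u') :=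
    (g.left.stalkMap u').hom.toAlgebra
  haveI : IsLocalHom (algebraMap ↥(U.left.presheaf.stalk (g.left.base u'))
      ↥(U'.left.presheaf.stalk u')) :=
    inferInstanceAs (IsLocalHom (g.left.stalkMap u').hom)
  haveI := flat_stalkMap g.left u'
  haveI := essFiniteType_stalkMap g.left u'
  haveI := formallyUnramified_stalkMap g.left u'
  have hres := residueField_map_surjective_of_mono g.left u' (mono_resMap a a' g u' hg hm)
  exact exists_isHenselization_up_ring _ _ R hres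

/-- Composing an elementary etale neighbourhood with an etale neighbourhood of schemes. -/
theorem isElemEtaleNbhd_comp {F : Sp S} {U : Over S} (a : (yon S).obj U ⟶ F) (u : ↥U.left)
    (x : Points F) (h : IsElemEtaleNbhd a u x) {W : Scheme.{u}} (g : W ⟶ U.left) (w : W)
    (hg : Hens2.IsEtaleNbhd g w u) :
    IsElemEtaleNbhd (U := Over.mk (g ≫ U.hom))
      ((yon S).map (Over.homMk g rfl : Over.mk (g ≫ U.hom) ⟶ U) ≫ a) w x := by
  obtain ⟨hge, rfl, hbij⟩ := hg
  let G : Over.mk (g ≫ U.hom) ⟶ U := Over.homMk g rfl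
  refine ⟨?_, ?_, ?_⟩
  · exact (repWith_isMultiplicative (S := S) @Etale).comp_mem _ _
      ((repWith_yon_map_iff _ _).2 hge) h.etale
  · rw [ofPt_yon_map_comp]; exact h.ofPt_eq
  · have e1 : (FieldPt.ofPt ((yon S).map G ≫ a) w).toHom =
        (yon S).map (kappa (Over.mk (g ≫ U.hom)) w) ≫ (yon S).map G ≫ a :=
      FieldPt.toHom_ofPt _ _
    have e2 : (FieldPt.ofPt a (G.left w)).toHom = (yon S).map (kappa U (G.left w)) ≫ a :=
      FieldPt.toHom_ofPt a _
    have e3 : (FieldPt.ofPt ((yon S).map G ≫ a) w).toHom =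
        (yon S).map (resMap G w) ≫ (FieldPt.ofPt a (G.left w)).toHom := by
      rw [e1, e2, ← Category.assoc, ← Functor.map_comp, ← resMap_kappa, Functor.map_comp,
        Category.assoc]
    haveI : IsIso (g.residueFieldMap w) :=
      (ConcreteCategory.isIso_iff_bijective _).2 hbij
    haveI : IsIso (Spec.map (g.residueFieldMap w)) := inferInstance
    haveI : IsIso ((Over.forget S).map (resMap G w)) :=
      (inferInstance : IsIso (Spec.map (g.residueFieldMap w)))
    haveI : IsIso (resMap G w) := isIso_of_reflects_iso (resMap G w) (Over.forget S)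
    haveI hiso : IsIso ((yon S).map (resMap G w)) := Functor.map_isIso (yon S) (resMap G w)
    haveI hm1 : Mono ((yon S).map (resMap G w)) := IsIso.mono_of_iso _
    haveI hm2 : Mono (FieldPt.ofPt a (G.left w)).toHom := h.mono
    show Mono (FieldPt.ofPt ((yon S).map G ≫ a) w).toHom
    rw [e3]
    exact @mono_comp _ _ _ _ _ _ hm1 _ hm2

/-- A henselization of the local ring of one elementary etale neighbourhood is a henselization of
the local ring of every elementary etale neighbourhood. -/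
theorem exists_isHenselization_of_elemNbhd (X : AlgSp.Space S) (hX : AlgSp.IsDecent X.obj)
    (x : AlgSp.Points X.obj) {U₀ : Over S} (a₀ : (yon S).obj U₀ ⟶ X.obj) (u₀ : ↥U₀.left)
    (h₀ : IsElemEtaleNbhd a₀ u₀ x) (R : Type u) [CommRing R] [IsLocalRing R]
    [Algebra ↥(U₀.left.presheaf.stalk u₀) R]
    [IsLocalHom (algebraMap ↥(U₀.left.presheaf.stalk u₀) R)]
    [Hensel.IsHenselization ↥(U₀.left.presheaf.stalk u₀) R]
    {U : Over S} (a : (yon S).obj U ⟶ X.obj) (u : ↥U.left) (h : IsElemEtaleNbhd a u x) :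
    ∃ (_ : Algebra ↥(U.left.presheaf.stalk u) R)
      (_ : IsLocalHom (algebraMap ↥(U.left.presheaf.stalk u) R)),
      Hensel.IsHenselization ↥(U.left.presheaf.stalk u) R := by
  obtain ⟨U'', a'', v, h₁, h₂, hv, e₁, e₂, hv₁, hv₂⟩ :=
    (Groth.Agent.S10420.result X hX x).1 U₀ U a₀ a u₀ u h₀ h
  subst hv₁ hv₂
  obtain ⟨alg, loc, hens⟩ :=
    exists_isHenselization_up a₀ a'' h₁ v e₁ h₀.etale hv.etale hv.mono R
  have key := isHenselization_of_elemNbhd a a'' h₂ v e₂ h.etale hv.etale hv.mono R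
  exact ⟨_, key⟩

end Main

section Branch

open AlgSp Groth.Agent.Lib.Helper16 Groth.Agent.Lib.Helper16.ElemNbhd
open Groth.Agent.Lib.Helper8.BranchNbhd

variable {S : Scheme.{u}}

theorem isEtaleNbhd_id (U : Scheme.{u}) (u : U) : Hens2.IsEtaleNbhd (𝟙 U) u u := by
  refine ⟨inferInstance, rfl, ?_⟩
  have e : (𝟙 U : U ⟶ U).residueFieldMap u = 𝟙 _ := Scheme.residueFieldMap_id u
  rw [e]
  exact Function.bijective_id

theorem unibranch_conditions (X : AlgSp.Space S)
    (hX : AlgSp.IsDecent X.obj) (x : AlgSp.Points X.obj) {U₀ : Over S}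
    (a₀ : (AlgSp.yon S).obj U₀ ⟶ X.obj) (u₀ : ↥U₀.left) (h₀ : AlgSp.IsElemEtaleNbhd a₀ u₀ x)
    (R : Type u) [CommRing R] [IsLocalRing R] [Algebra ↥(U₀.left.presheaf.stalk u₀) R]
    [IsLocalHom (algebraMap ↥(U₀.left.presheaf.stalk u₀) R)]
    [Hensel.IsHenselization ↥(U₀.left.presheaf.stalk u₀) R] :
    ((∀ (U : Over S) (a : (AlgSp.yon S).obj U ⟶ X.obj) (u : ↥U.left), AlgSp.IsElemEtaleNbhd a u x →
        CAlgX.HasUniqueMinimalPrime ↥(U.left.presheaf.stalk u)) ↔
      (∀ (U : Over S) (a : (AlgSp.yon S).obj U ⟶ X.obj) (u : ↥U.left), AlgSp.IsElemEtaleNbhd a u x →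
        {Z : Set ↥U.left | Z ∈ irreducibleComponents ↥U.left ∧ u ∈ Z}.encard = 1)) ∧
    ((∀ (U : Over S) (a : (AlgSp.yon S).obj U ⟶ X.obj) (u : ↥U.left), AlgSp.IsElemEtaleNbhd a u x →
        {Z : Set ↥U.left | Z ∈ irreducibleComponents ↥U.left ∧ u ∈ Z}.encard = 1) ↔
      (∀ (U : Over S) (a : (AlgSp.yon S).obj U ⟶ X.obj) (u : ↥U.left), AlgSp.IsElemEtaleNbhd a u x →
        CAlg2.IsUnibranch ↥(U.left.presheaf.stalk u))) ∧
    ((∀ (U : Over S) (a : (AlgSp.yon S).obj U ⟶ X.obj) (u : ↥U.left), AlgSp.IsElemEtaleNbhd a u x →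
        CAlg2.IsUnibranch ↥(U.left.presheaf.stalk u)) ↔ CAlgX.HasUniqueMinimalPrime R) := by
  have um_iff : ∀ (U : Over S) (u : ↥U.left),
      CAlgX.HasUniqueMinimalPrime ↥(U.left.presheaf.stalk u) ↔
        {Z : Set ↥U.left | Z ∈ irreducibleComponents ↥U.left ∧ u ∈ Z}.encard = 1 := by
    intro U u
    rw [encard_irreducibleComponents_mem, hasUniqueMinimalPrime_iff_encard_eq_one]
  have T : ∀ (U : Over S) (a : (AlgSp.yon S).obj U ⟶ X.obj) (u : ↥U.left),
      AlgSp.IsElemEtaleNbhd a u x →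
        (CAlg2.IsUnibranch ↥(U.left.presheaf.stalk u) ↔ CAlgX.HasUniqueMinimalPrime R) := by
    intro U a u h
    obtain ⟨alg, loc, hens⟩ := exists_isHenselization_of_elemNbhd X hX x a₀ u₀ h₀ R a u h
    exact Groth.Agent.S2052.result
  refine ⟨⟨fun H U a u h => (um_iff U u).1 (H U a u h), fun H U a u h => (um_iff U u).2 (H U a u h)⟩,
    ⟨?_, ?_⟩, ⟨?_, ?_⟩⟩
  · intro H U a u h
    rw [Groth.Agent.S9781.result U.left u]
    intro W g w hg
    exact H (Over.mk (g ≫ U.hom)) _ w (isElemEtaleNbhd_comp a u x h g w hg)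
  · intro H U a u h
    exact (Groth.Agent.S9781.result U.left u).1 (H U a u h) U.left (𝟙 _) u (isEtaleNbhd_id _ _)
  · intro H
    exact (T U₀ a₀ u₀ h₀).1 (H U₀ a₀ u₀ h₀)
  · intro H U a u h
    exact (T U a u h).2 H

theorem enat_le_pred {c : ℕ∞} {n : ℕ} (h1 : c ≤ n) (h2 : c ≠ n) : c ≤ ((n - 1 : ℕ) : ℕ∞) := by
  have hc : c ≠ ⊤ := ne_top_of_le_ne_top (ENat.coe_ne_top n) h1
  lift c to ℕ using hc
  norm_cast at *
  omega

theorem numBranches_conditions (X : AlgSp.Space S)
    (hX : AlgSp.IsDecent X.obj) (x : AlgSp.Points X.obj) (n : ℕ) (hn : 1 ≤ n) {U₀ : Over S}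
    (a₀ : (AlgSp.yon S).obj U₀ ⟶ X.obj) (u₀ : ↥U₀.left) (h₀ : AlgSp.IsElemEtaleNbhd a₀ u₀ x)
    (R : Type u) [CommRing R] [IsLocalRing R] [Algebra ↥(U₀.left.presheaf.stalk u₀) R]
    [IsLocalHom (algebraMap ↥(U₀.left.presheaf.stalk u₀) R)]
    [Hensel.IsHenselization ↥(U₀.left.presheaf.stalk u₀) R] :
    (((∀ (U : Over S) (a : (AlgSp.yon S).obj U ⟶ X.obj) (u : ↥U.left), AlgSp.IsElemEtaleNbhd a u x →
        (minimalPrimes ↥(U.left.presheaf.stalk u)).encard ≤ n) ∧
      (∃ (U : Over S) (a : (AlgSp.yon S).obj U ⟶ X.obj) (u : ↥U.left), AlgSp.IsElemEtaleNbhd a u x ∧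
        (minimalPrimes ↥(U.left.presheaf.stalk u)).encard = n)) ↔
     ((∀ (U : Over S) (a : (AlgSp.yon S).obj U ⟶ X.obj) (u : ↥U.left), AlgSp.IsElemEtaleNbhd a u x →
        {Z : Set ↥U.left | Z ∈ irreducibleComponents ↥U.left ∧ u ∈ Z}.encard ≤ n) ∧
      (∃ (U : Over S) (a : (AlgSp.yon S).obj U ⟶ X.obj) (u : ↥U.left), AlgSp.IsElemEtaleNbhd a u x ∧
        {Z : Set ↥U.left | Z ∈ irreducibleComponents ↥U.left ∧ u ∈ Z}.encard = n))) ∧
    (((∀ (U : Over S) (a : (AlgSp.yon S).obj U ⟶ X.obj) (u : ↥U.left), AlgSp.IsElemEtaleNbhd a u x →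
        {Z : Set ↥U.left | Z ∈ irreducibleComponents ↥U.left ∧ u ∈ Z}.encard ≤ n) ∧
      (∃ (U : Over S) (a : (AlgSp.yon S).obj U ⟶ X.obj) (u : ↥U.left), AlgSp.IsElemEtaleNbhd a u x ∧
        {Z : Set ↥U.left | Z ∈ irreducibleComponents ↥U.left ∧ u ∈ Z}.encard = n)) ↔
     ((∀ (U : Over S) (a : (AlgSp.yon S).obj U ⟶ X.obj) (u : ↥U.left), AlgSp.IsElemEtaleNbhd a u x →
        Brnch.numBranchesAt U.left u ≤ n) ∧
      (∃ (U : Over S) (a : (AlgSp.yon S).obj U ⟶ X.obj) (u : ↥U.left), AlgSp.IsElemEtaleNbhd a u x ∧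
        Brnch.numBranchesAt U.left u = n))) ∧
    (((∀ (U : Over S) (a : (AlgSp.yon S).obj U ⟶ X.obj) (u : ↥U.left), AlgSp.IsElemEtaleNbhd a u x →
        Brnch.numBranchesAt U.left u ≤ n) ∧
      (∃ (U : Over S) (a : (AlgSp.yon S).obj U ⟶ X.obj) (u : ↥U.left), AlgSp.IsElemEtaleNbhd a u x ∧
        Brnch.numBranchesAt U.left u = n)) ↔
     (minimalPrimes R).encard = n) := by
  have c_eq : ∀ (U : Over S) (u : ↥U.left),
      {Z : Set ↥U.left | Z ∈ irreducibleComponents ↥U.left ∧ u ∈ Z}.encard =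
        (minimalPrimes ↥(U.left.presheaf.stalk u)).encard :=
    fun U u => encard_irreducibleComponents_mem U.left u
  have T : ∀ (U : Over S) (a : (AlgSp.yon S).obj U ⟶ X.obj) (u : ↥U.left),
      AlgSp.IsElemEtaleNbhd a u x → Brnch.numBranchesAt U.left u = (minimalPrimes R).encard := by
    intro U a u h
    obtain ⟨alg, loc, hens⟩ := exists_isHenselization_of_elemNbhd X hX x a₀ u₀ h₀ R a u h
    exact (Groth.Agent.S9237.result ↥(U.left.presheaf.stalk u) R).symm
  have le_of : ∀ (U : Over S) (a : (AlgSp.yon S).obj U ⟶ X.obj) (u : ↥U.left),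
      AlgSp.IsElemEtaleNbhd a u x →
        {Z : Set ↥U.left | Z ∈ irreducibleComponents ↥U.left ∧ u ∈ Z}.encard ≤
          Brnch.numBranchesAt U.left u := by
    intro U a u h
    rw [Groth.Agent.S9752.result U.left u]
    exact le_iSup_of_le U.left (le_iSup_of_le (𝟙 _) (le_iSup_of_le u
      (le_iSup_of_le (isEtaleNbhd_id _ _) le_rfl)))
  have sup_le : ∀ (m : ℕ∞), (∀ (U : Over S) (a : (AlgSp.yon S).obj U ⟶ X.obj) (u : ↥U.left),
      AlgSp.IsElemEtaleNbhd a u x →
        {Z : Set ↥U.left | Z ∈ irreducibleComponents ↥U.left ∧ u ∈ Z}.encard ≤ m) →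
      (minimalPrimes R).encard ≤ m := by
    intro m H
    rw [← T U₀ a₀ u₀ h₀, Groth.Agent.S9752.result U₀.left u₀]
    exact iSup_le fun W => iSup_le fun g => iSup_le fun w => iSup_le fun hg =>
      H (Over.mk (g ≫ U₀.hom)) _ w (isElemEtaleNbhd_comp a₀ u₀ x h₀ g w hg)
  refine ⟨⟨?_, ?_⟩, ⟨?_, ?_⟩, ⟨?_, ?_⟩⟩
  · rintro ⟨H1, U, a, u, h, e⟩
    exact ⟨fun U' a' u' h' => by rw [c_eq]; exact H1 U' a' u' h', U, a, u, h, by rw [c_eq]; exact e⟩
  · rintro ⟨H1, U, a, u, h, e⟩
    exact ⟨fun U' a' u' h' => by rw [← c_eq]; exact H1 U' a' u' h', U, a, u, h,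
      by rw [← c_eq]; exact e⟩
  · rintro ⟨H1, U, a, u, h, e⟩
    have hN1 : (minimalPrimes R).encard ≤ n := sup_le n H1
    have hN2 : (n : ℕ∞) ≤ (minimalPrimes R).encard := by
      rw [← T U a u h, ← e]; exact le_of U a u h
    have hN : (minimalPrimes R).encard = n := le_antisymm hN1 hN2
    exact ⟨fun U' a' u' h' => le_of_eq (by rw [T U' a' u' h', hN]), U₀, a₀, u₀, h₀,
      by rw [T U₀ a₀ u₀ h₀, hN]⟩
  · rintro ⟨H1, U, a, u, h, e⟩
    have hN : (minimalPrimes R).encard = n := by rw [← T U a u h]; exact e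
    have hle : ∀ (U' : Over S) (a' : (AlgSp.yon S).obj U' ⟶ X.obj) (u' : ↥U'.left),
        AlgSp.IsElemEtaleNbhd a' u' x →
          {Z : Set ↥U'.left | Z ∈ irreducibleComponents ↥U'.left ∧ u' ∈ Z}.encard ≤ n :=
      fun U' a' u' h' => (le_of U' a' u' h').trans (le_of_eq (by rw [T U' a' u' h', hN]))
    refine ⟨hle, ?_⟩
    by_contra hne
    have hne' : ∀ (U' : Over S) (a' : (AlgSp.yon S).obj U' ⟶ X.obj) (u' : ↥U'.left),
        AlgSp.IsElemEtaleNbhd a' u' x →
          {Z : Set ↥U'.left | Z ∈ irreducibleComponents ↥U'.left ∧ u' ∈ Z}.encard ≠ n :=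
      fun U' a' u' h' he => hne ⟨U', a', u', h', he⟩
    have hN' : (minimalPrimes R).encard ≤ ((n - 1 : ℕ) : ℕ∞) :=
      sup_le _ fun U' a' u' h' => enat_le_pred (hle U' a' u' h') (hne' U' a' u' h')
    rw [hN] at hN'
    have : n ≤ n - 1 := by exact_mod_cast hN'
    omega
  · rintro ⟨H1, U, a, u, h, e⟩
    rw [← T U a u h]; exact e
  · intro hN
    exact ⟨fun U a u h => le_of_eq (by rw [T U a u h, hN]), U₀, a₀, u₀, h₀,
      by rw [T U₀ a₀ u₀ h₀, hN]⟩

end Branch

end Groth.Agent.Lib.Helper16.HensNbhd
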