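import Groth.Agent.Lib.Helper15.HpullBC
import Groth.Agent.Lib.Helper13.FlatPullback
import Groth.Prelude.Def_LefMon

/-!
# Helper16: functoriality of `EtAdic.Hmap` (pullback on `H^i(-, Z/ℓ^ν)`) and pullback of primitive
classes along a sum of homomorphisms of commutative group schemes.
-/

set_option autoImplicit false
set_option backward.isDefEq.respectTransparency false
universe u
open CategoryTheory CategoryTheory.Limits AlgebraicGeometry Opposite
open MonoidalCategory CartesianMonoidalCategory MonObj GrpObj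

namespace Groth.Agent.Lib.Helper16.HmapFunct

open EtCore Groth.Agent.Lib.Helper2.EtMV Groth.Agent.Lib.Helper15.HpullTrans
  Groth.Agent.Lib.Helper15.HpullBC

variable {X Y Z : Scheme.{u}}

lemma Hmap_apply (ℓ : ℕ) (f : Y ⟶ X) (hf : PreservesFiniteLimits (EtCoh.pull f)) (i ν : ℕ)
    (x : EtAdic.Hmod X ℓ i ν) :
    EtAdic.Hmap ℓ f hf i ν x =
      haveI := hf
      Abelian.Ext.comp (Hpull f (EtCoh.const X (ZMod (ℓ ^ ν))) i x)
        (Abelian.Ext.mk₀ (pullConst f (ZMod (ℓ ^ ν))).hom) (add_zero i) := rfl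

/-- `Hmap` is independent of the proof of exactness. -/
lemma Hmap_congr (ℓ : ℕ) {f g : Y ⟶ X} (h : f = g) (hf : PreservesFiniteLimits (EtCoh.pull f))
    (hg : PreservesFiniteLimits (EtCoh.pull g)) (i ν : ℕ) (x : EtAdic.Hmod X ℓ i ν) :
    EtAdic.Hmap ℓ f hf i ν x = EtAdic.Hmap ℓ g hg i ν x := by
  subst h
  rfl

/-- Functoriality of `Hmap`. -/
theorem Hmap_comp (ℓ : ℕ) (f : X ⟶ Y) (t : Y ⟶ Z) (f₀ : X ⟶ Z) (w : f ≫ t = f₀)
    (hf : PreservesFiniteLimits (EtCoh.pull f)) (ht : PreservesFiniteLimits (EtCoh.pull t))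
    (h₀ : PreservesFiniteLimits (EtCoh.pull f₀)) (i ν : ℕ) (x : EtAdic.Hmod Z ℓ i ν) :
    EtAdic.Hmap ℓ f₀ h₀ i ν x = EtAdic.Hmap ℓ f hf i ν (EtAdic.Hmap ℓ t ht i ν x) := by
  have := hf
  have := ht
  have := h₀
  rw [Hmap_apply ℓ f₀, Hmap_apply ℓ f, Hmap_apply ℓ t]
  rw [← HpullVia_Hpull f t f₀ w (EtCoh.const Z (ZMod (ℓ ^ ν))) i x, HpullVia_apply]
  rw [Groth.Agent.Lib.Helper15.HpullBC.Hpull_natural f (pullConst t (ZMod (ℓ ^ ν))).hom i
    (Hpull t (EtCoh.const Z (ZMod (ℓ ^ ν))) i x)]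
  rw [Abelian.Ext.comp_assoc_of_third_deg_zero, Abelian.Ext.comp_assoc_of_third_deg_zero,
    Abelian.Ext.mk₀_comp_mk₀, Abelian.Ext.mk₀_comp_mk₀]
  have h := pullConst_via f t w (ZMod (ℓ ^ ν))
  have key : (((pullComp f t).symm ≪≫ pullCongr w).app (EtCoh.const Z (ZMod (ℓ ^ ν)))).hom ≫
      (pullConst f₀ (ZMod (ℓ ^ ν))).hom =
      (EtCoh.pull f).map (pullConst t (ZMod (ℓ ^ ν))).hom ≫ (pullConst f (ZMod (ℓ ^ ν))).hom := by
    rw [← cancel_mono (pullConst f₀ (ZMod (ℓ ^ ν))).inv, Category.assoc, Iso.hom_inv_id,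
      Category.comp_id, ← h]
    simp only [Category.assoc, Iso.hom_inv_id_assoc]
    rw [← Functor.map_comp_assoc, Iso.hom_inv_id, CategoryTheory.Functor.map_id, Category.id_comp]
  rw [key]

/-- Pullback of a primitive class along a sum of homomorphisms. -/
theorem main (k : Type u) [Field k] (ℓ ν r : ℕ)
    (G G' : Over (Spec (CommRingCat.of k))) [GrpObj G] [GrpObj G'] [IsCommMonObj G]
    [IsCommMonObj G'] (φ ψ : G ⟶ G') [IsMonHom φ] [IsMonHom ψ]
    (hm : PreservesFiniteLimits (EtCoh.pull (μ[G']).left))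
    (h1 : PreservesFiniteLimits (EtCoh.pull (fst G' G').left))
    (h2 : PreservesFiniteLimits (EtCoh.pull (snd G' G').left))
    (hφ : PreservesFiniteLimits (EtCoh.pull φ.left))
    (hψ : PreservesFiniteLimits (EtCoh.pull ψ.left))
    (hs : PreservesFiniteLimits (EtCoh.pull (φ * ψ).left))
    (x : EtAdic.Hmod G'.left ℓ r ν)
    (hx : EtAdic.Hmap ℓ (μ[G']).left hm r ν x =
      EtAdic.Hmap ℓ (fst G' G').left h1 r ν x + EtAdic.Hmap ℓ (snd G' G').left h2 r ν x) :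
    EtAdic.Hmap ℓ (φ * ψ).left hs r ν x =
      EtAdic.Hmap ℓ φ.left hφ r ν x + EtAdic.Hmap ℓ ψ.left hψ r ν x := by
  have hl : PreservesFiniteLimits (EtCoh.pull (lift φ ψ).left) := inferInstance
  have e0 : (lift φ ψ).left ≫ (μ[G']).left = (φ * ψ).left := by
    rw [← Over.comp_left]; rfl
  have e1 : (lift φ ψ).left ≫ (fst G' G').left = φ.left := by
    rw [← Over.comp_left, lift_fst]
  have e2 : (lift φ ψ).left ≫ (snd G' G').left = ψ.left := by
    rw [← Over.comp_left, lift_snd]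
  rw [Hmap_comp ℓ _ _ _ e0 hl hm hs, hx, map_add, ← Hmap_comp ℓ _ _ _ e1 hl h1 hφ,
    ← Hmap_comp ℓ _ _ _ e2 hl h2 hψ]

end Groth.Agent.Lib.Helper16.HmapFunct
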