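import Mathlib
import Groth.Prelude
import Groth.Agent.Lib.Helper16.CechFilt

/-!
# Helper16: degree zero Čech cohomology of a (site) hypercovering is the group of global sections
-/

set_option autoImplicit false
universe u
open CategoryTheory CategoryTheory.Limits Opposite

namespace Groth.Agent.Lib.Helper16.HyperH0

open Groth.Agent.Lib.Helper16.CechFilt

noncomputable section

variable {C : Type u} [SmallCategory C]

section FC

variable (Z : FormalCoproduct.{u} C) (P : Cᵒᵖ ⥤ AddCommGrpCat.{u})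

/-- evaluation of `P` on the formal coproduct `Z` -/
abbrev EvX : AddCommGrpCat.{u} :=
  ((FormalCoproduct.evalOp.{u} C AddCommGrpCat.{u}).obj P).obj (op Z)

/-- projections -/
def pr (i : Z.I) : EvX Z P ⟶ P.obj (op (Z.obj i)) :=
  Pi.π (fun i : Z.I => P.obj (op (Z.obj i))) i

lemma ext_elem {x y : EvX Z P} (h : ∀ i, (pr Z P i).hom x = (pr Z P i).hom y) : x = y := by
  apply (Concrete.productEquiv (fun i : Z.I => P.obj (op (Z.obj i)))).injective
  funext i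
  have hx := Concrete.productEquiv_apply_apply (fun i : Z.I => P.obj (op (Z.obj i)))
    (x : ToType (∏ᶜ fun i : Z.I => P.obj (op (Z.obj i)))) i
  have hy := Concrete.productEquiv_apply_apply (fun i : Z.I => P.obj (op (Z.obj i)))
    (y : ToType (∏ᶜ fun i : Z.I => P.obj (op (Z.obj i)))) i
  exact hx.trans ((h i).trans hy.symm)

variable {Z} in
/-- pullback of families along a morphism of formal coproducts -/
def pull {Z' : FormalCoproduct.{u} C} (f : Z' ⟶ Z) : EvX Z P ⟶ EvX Z' P :=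
  ((FormalCoproduct.evalOp.{u} C AddCommGrpCat.{u}).obj P).map f.op

lemma pull_pr {Z' : FormalCoproduct.{u} C} (f : Z' ⟶ Z) (j : Z'.I) :
    pull P f ≫ pr Z' P j = pr Z P (f.f j) ≫ P.map (f.φ j).op := by
  have : pull P f = Pi.lift (fun j : Z'.I =>
      Pi.π (fun i : Z.I => P.obj (op (Z.obj i))) (f.f j) ≫ P.map (f.φ j).op) := rfl
  rw [this]
  exact Pi.lift_π _ _

/-- the map from global sections -/
def ΦZ : limit P ⟶ EvX Z P :=
  Pi.lift (fun i : Z.I => limit.π P (op (Z.obj i)))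

lemma ΦZ_pr (i : Z.I) : ΦZ Z P ≫ pr Z P i = limit.π P (op (Z.obj i)) := Pi.lift_π _ _

lemma ΦZ_pull {Z' : FormalCoproduct.{u} C} (f : Z' ⟶ Z) : ΦZ Z P ≫ pull P f = ΦZ Z' P := by
  refine Pi.hom_ext (f := fun j : Z'.I => P.obj (op (Z'.obj j))) _ _ (fun j => ?_)
  change (ΦZ Z P ≫ pull P f) ≫ pr Z' P j = ΦZ Z' P ≫ pr Z' P j
  rw [Category.assoc, pull_pr, ← Category.assoc, ΦZ_pr, ΦZ_pr]
  exact limit.w P (f.φ j).op

lemma Φ_comp_sub {Z' : FormalCoproduct.{u} C} (f g : Z' ⟶ Z) :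
    ΦZ Z P ≫ (pull P f - pull P g) = 0 := by
  rw [Preadditive.comp_sub, ΦZ_pull, ΦZ_pull, sub_self]

/-- the presheaf of types underlying `P` -/
abbrev Fs : Cᵒᵖ ⥤ Type u := P ⋙ forget AddCommGrpCat.{u}

/-- coprojections of the coproduct of representables -/
def ι (i : Z.I) : yoneda.obj (Z.obj i) ⟶ FormalCoproduct.yoneda.obj Z :=
  Sigma.ι (fun i : Z.I => yoneda.obj (Z.obj i)) i

/-- the morphism of presheaves of types attached to a family -/
def θ (s : EvX Z P) : FormalCoproduct.yoneda.obj Z ⟶ Fs P :=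
  Sigma.desc (f := fun i : Z.I => yoneda.obj (Z.obj i))
    (fun i : Z.I => yonedaEquiv.symm ((pr Z P i).hom s))

lemma ι_θ (s : EvX Z P) (i : Z.I) : ι Z i ≫ θ Z P s = yonedaEquiv.symm ((pr Z P i).hom s) :=
  Sigma.ι_desc _ _

lemma ι_map {Z' : FormalCoproduct.{u} C} (f : Z' ⟶ Z) (j : Z'.I) :
    ι Z' j ≫ FormalCoproduct.yoneda.map f = yoneda.map (f.φ j) ≫ ι Z (f.f j) := by
  have : FormalCoproduct.yoneda.map f = Sigma.desc (f := fun j : Z'.I => yoneda.obj (Z'.obj j))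
      (fun j : Z'.I => yoneda.map (f.φ j) ≫ Sigma.ι (fun i : Z.I => yoneda.obj (Z.obj i)) (f.f j)) :=
    rfl
  rw [this]
  exact Sigma.ι_desc _ _

lemma map_θ {Z' : FormalCoproduct.{u} C} (f : Z' ⟶ Z) (s : EvX Z P) :
    FormalCoproduct.yoneda.map f ≫ θ Z P s = θ Z' P ((pull P f).hom s) := by
  refine Sigma.hom_ext (f := fun j : Z'.I => yoneda.obj (Z'.obj j)) _ _ (fun j => ?_)
  change ι Z' j ≫ FormalCoproduct.yoneda.map f ≫ θ Z P s = ι Z' j ≫ θ Z' P ((pull P f).hom s)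
  rw [← Category.assoc, ι_map, Category.assoc, ι_θ, ι_θ, yonedaEquiv_symm_naturality_left]
  congr 1
  exact (ConcreteCategory.congr_hom (pull_pr Z P f j) s).symm

/-- a global section as a morphism from any presheaf of types -/
def κ (G : Cᵒᵖ ⥤ Type u) (ξ : ToType (limit P)) : G ⟶ Fs P where
  app V := TypeCat.ofHom (fun _ => (limit.π P V).hom ξ)
  naturality _ _ g := ConcreteCategory.hom_ext _ _ (fun _ =>
    (ConcreteCategory.congr_hom (limit.w P g) ξ).symm)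

lemma θ_Φ (ξ : ToType (limit P)) :
    θ Z P ((ΦZ Z P).hom ξ) = κ P (FormalCoproduct.yoneda.obj Z) ξ := by
  refine Sigma.hom_ext (f := fun j : Z.I => yoneda.obj (Z.obj j)) _ _ (fun j => ?_)
  change ι Z j ≫ θ Z P _ = ι Z j ≫ κ P _ ξ
  rw [ι_θ]
  apply yonedaEquiv.injective
  rw [Equiv.apply_symm_apply, yonedaEquiv_comp]
  exact ConcreteCategory.congr_hom (ΦZ_pr Z P j) ξ

lemma exists_limit_elem (τ : ∀ W : Cᵒᵖ, P.obj W)
    (hτ : ∀ {W W' : Cᵒᵖ} (g : W ⟶ W'), (P.map g).hom (τ W) = τ W') :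
    ∃ ξ : ToType (limit P), ∀ W, (limit.π P W).hom ξ = τ W := by
  let t := isLimitOfPreserves (forget AddCommGrpCat.{u}) (limit.isLimit P)
  let x : (P ⋙ forget AddCommGrpCat.{u}).sections := ⟨fun W => τ W, fun g => hτ g⟩
  refine ⟨(Types.isLimitEquivSections t).symm x, fun W => ?_⟩
  exact Types.isLimitEquivSections_symm_apply t x W

end FC

section Site

variable (J : GrothendieckTopology C) (P : Cᵒᵖ ⥤ AddCommGrpCat.{u})

lemma isSheaf_Fs (F : Sheaf J AddCommGrpCat.{u}) : Presieve.IsSheaf J (Fs F.obj) := by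
  rw [← isSheaf_iff_isSheaf_of_type]
  exact ((sheafCompose J (forget AddCommGrpCat.{u})).obj F).2

/-- the sieve of arrows whose source carries a section of `G` -/
def Sv (G : Cᵒᵖ ⥤ Type u) (W : C) : Sieve W where
  arrows V _ := Nonempty (G.obj (op V))
  downward_closed := by
    rintro V V' f ⟨t⟩ g
    exact ⟨G.map g.op t⟩

lemma Sv_mem (G : Cᵒᵖ ⥤ Type u) (hG : Presheaf.IsLocallySurjective J (terminal.from G)) (W : C) :
    Sv G W ∈ J W := by
  let s₀ : (⊤_ (Cᵒᵖ ⥤ Type u)).obj (op W) := (terminal.from (yoneda.obj W)).app (op W) (𝟙 W)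
  refine J.superset_covering ?_ (hG.imageSieve_mem s₀)
  rintro V f ⟨t, -⟩
  exact ⟨t⟩

lemma θ_const (hsep : Presieve.IsSeparated J (Fs P)) (G₀ G₁ : Cᵒᵖ ⥤ Type u) (d₀ d₁ : G₁ ⟶ G₀)
    (hψ : Presheaf.IsLocallySurjective J (prod.lift d₁ d₀))
    (ϑ : G₀ ⟶ Fs P) (hϑ : d₀ ≫ ϑ = d₁ ≫ ϑ) (V : C) (t t' : G₀.obj (op V)) :
    ϑ.app (op V) t = ϑ.app (op V) t' := by
  let z : (G₀ ⨯ G₀).obj (op V) :=
    yonedaEquiv (prod.lift (yonedaEquiv.symm t) (yonedaEquiv.symm t'))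
  have hz1 : (prod.fst : G₀ ⨯ G₀ ⟶ G₀).app (op V) z = t := by
    have : yonedaEquiv (prod.lift (yonedaEquiv.symm t) (yonedaEquiv.symm t') ≫ prod.fst) = t := by
      rw [prod.lift_fst, Equiv.apply_symm_apply]
    exact this
  have hz2 : (prod.snd : G₀ ⨯ G₀ ⟶ G₀).app (op V) z = t' := by
    have : yonedaEquiv (prod.lift (yonedaEquiv.symm t) (yonedaEquiv.symm t') ≫ prod.snd) = t' := by
      rw [prod.lift_snd, Equiv.apply_symm_apply]
    exact this
  refine (hsep _ (hψ.imageSieve_mem z)).ext ?_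
  rintro V' g ⟨w, hw⟩
  have e1 : d₁.app (op V') w = G₀.map g.op t := by
    calc d₁.app (op V') w = (prod.lift d₁ d₀ ≫ prod.fst).app (op V') w := by rw [prod.lift_fst]
      _ = (prod.fst : G₀ ⨯ G₀ ⟶ G₀).app (op V') ((prod.lift d₁ d₀).app (op V') w) := rfl
      _ = (prod.fst : G₀ ⨯ G₀ ⟶ G₀).app (op V') ((G₀ ⨯ G₀).map g.op z) := by rw [hw]
      _ = G₀.map g.op ((prod.fst : G₀ ⨯ G₀ ⟶ G₀).app (op V) z) :=
          NatTrans.naturality_apply _ _ _
      _ = G₀.map g.op t := by rw [hz1]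
  have e0 : d₀.app (op V') w = G₀.map g.op t' := by
    calc d₀.app (op V') w = (prod.lift d₁ d₀ ≫ prod.snd).app (op V') w := by rw [prod.lift_snd]
      _ = (prod.snd : G₀ ⨯ G₀ ⟶ G₀).app (op V') ((prod.lift d₁ d₀).app (op V') w) := rfl
      _ = (prod.snd : G₀ ⨯ G₀ ⟶ G₀).app (op V') ((G₀ ⨯ G₀).map g.op z) := by rw [hw]
      _ = G₀.map g.op ((prod.snd : G₀ ⨯ G₀ ⟶ G₀).app (op V) z) :=
          NatTrans.naturality_apply _ _ _
      _ = G₀.map g.op t' := by rw [hz2]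
  calc (Fs P).map g.op (ϑ.app (op V) t) = ϑ.app (op V') (G₀.map g.op t) :=
        (NatTrans.naturality_apply ϑ g.op t).symm
    _ = ϑ.app (op V') (d₁.app (op V') w) := by rw [e1]
    _ = (d₁ ≫ ϑ).app (op V') w := rfl
    _ = (d₀ ≫ ϑ).app (op V') w := by rw [hϑ]
    _ = ϑ.app (op V') (d₀.app (op V') w) := rfl
    _ = ϑ.app (op V') (G₀.map g.op t') := by rw [e0]
    _ = (Fs P).map g.op (ϑ.app (op V) t') := NatTrans.naturality_apply ϑ g.op t'

variable {J P}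
variable (hFs : Presieve.IsSheaf J (Fs P)) (G₀ : Cᵒᵖ ⥤ Type u) (hcov : ∀ W, Sv G₀ W ∈ J W)
  (ϑ : G₀ ⟶ Fs P) (hc : ∀ (V : C) (t t' : G₀.obj (op V)), ϑ.app (op V) t = ϑ.app (op V) t')

/-- the family to be glued -/
def fam (W : C) : Presieve.FamilyOfElements (Fs P) (Sv G₀ W).arrows :=
  fun V _ hf => ϑ.app (op V) (Nonempty.some (α := G₀.obj (op V)) hf)

include hc in
lemma fam_compat (W : C) : (fam G₀ ϑ W).Compatible := by
  intro Y₁ Y₂ Z' g₁ g₂ f₁ f₂ h₁ h₂ _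
  exact ((NatTrans.naturality_apply ϑ g₁.op _).symm.trans (hc _ _ _)).trans
    (NatTrans.naturality_apply ϑ g₂.op _)

/-- the glued section -/
def glue (W : C) : (Fs P).obj (op W) :=
  (hFs (Sv G₀ W) (hcov W)).amalgamate (fam G₀ ϑ W) (fam_compat G₀ ϑ hc W)

lemma glue_spec {W V : C} (f : V ⟶ W) (t : G₀.obj (op V)) :
    (Fs P).map f.op (glue hFs G₀ hcov ϑ hc W) = ϑ.app (op V) t :=
  ((hFs (Sv G₀ W) (hcov W)).valid_glue (fam_compat G₀ ϑ hc W) f ⟨t⟩).trans (hc _ _ _)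

lemma glue_nat {W W' : C} (h : W' ⟶ W) :
    (Fs P).map h.op (glue hFs G₀ hcov ϑ hc W) = glue hFs G₀ hcov ϑ hc W' := by
  refine ((hFs.isSeparated) _ (hcov W')).ext ?_
  rintro V f ⟨t⟩
  refine ((Functor.map_comp_apply (Fs P) h.op f.op _).symm.trans ?_).trans
    (glue_spec hFs G₀ hcov ϑ hc f t).symm
  exact glue_spec hFs G₀ hcov ϑ hc (f ≫ h) t

end Site

section Core

variable (J : GrothendieckTopology C) (F : Sheaf J AddCommGrpCat.{u})
  (Z₀ Z₁ : FormalCoproduct.{u} C) (d0 d1 : Z₁ ⟶ Z₀)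
  (h0 : Presheaf.IsLocallySurjective J (terminal.from (FormalCoproduct.yoneda.obj Z₀)))
  (h1 : Presheaf.IsLocallySurjective J
    (prod.lift (FormalCoproduct.yoneda.map d1) (FormalCoproduct.yoneda.map d0)))

lemma θ_Φ_app (ξ : ToType (limit F.obj)) (V : C)
    (t : (FormalCoproduct.yoneda.obj Z₀).obj (op V)) :
    (θ Z₀ F.obj ((ΦZ Z₀ F.obj).hom ξ)).app (op V) t = (limit.π F.obj (op V)).hom ξ :=
  congrArg (fun k : FormalCoproduct.yoneda.obj Z₀ ⟶ Fs F.obj => k.app (op V) t)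
    (θ_Φ Z₀ F.obj ξ)

include h0 in
lemma Φ_inj : Function.Injective (ΦZ Z₀ F.obj).hom := by
  have hsep : Presieve.IsSeparated J (Fs F.obj) := (isSheaf_Fs J F).isSeparated
  have hcov := Sv_mem J _ h0
  intro ξ ξ' h
  apply Concrete.limit_ext
  intro W
  refine (hsep _ (hcov W.unop)).ext ?_
  rintro V f ⟨t⟩
  have e : ∀ ζ : ToType (limit F.obj),
      (Fs F.obj).map f.op ((limit.π F.obj W).hom ζ) = (limit.π F.obj (op V)).hom ζ :=
    fun ζ => ConcreteCategory.congr_hom (limit.w F.obj f.op) ζ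
  exact (e ξ).trans (((θ_Φ_app J F Z₀ ξ V t).symm.trans
    ((congrArg (fun s => (θ Z₀ F.obj s).app (op V) t) h).trans (θ_Φ_app J F Z₀ ξ' V t))).trans
      (e ξ').symm)

include h0 h1 in
lemma Φ_surj (s : EvX Z₀ F.obj) (coc : (pull F.obj d0).hom s = (pull F.obj d1).hom s) :
    ∃ ξ : ToType (limit F.obj), (ΦZ Z₀ F.obj).hom ξ = s := by
  have hFs := isSheaf_Fs J F
  have hsep : Presieve.IsSeparated J (Fs F.obj) := hFs.isSeparated
  have hcov := Sv_mem J _ h0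
  have hϑ : FormalCoproduct.yoneda.map d0 ≫ θ Z₀ F.obj s =
      FormalCoproduct.yoneda.map d1 ≫ θ Z₀ F.obj s := by
    rw [map_θ, map_θ, coc]
  have hc := θ_const J F.obj hsep _ _ (FormalCoproduct.yoneda.map d0)
    (FormalCoproduct.yoneda.map d1) h1 (θ Z₀ F.obj s) hϑ
  obtain ⟨ξ, hξ⟩ := exists_limit_elem F.obj
    (fun W => glue hFs _ hcov (θ Z₀ F.obj s) hc W.unop)
    (fun g => glue_nat hFs _ hcov (θ Z₀ F.obj s) hc g.unop)
  refine ⟨ξ, ?_⟩
  apply ext_elem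
  intro i
  have e1 : (pr Z₀ F.obj i).hom ((ΦZ Z₀ F.obj).hom ξ) =
      (limit.π F.obj (op (Z₀.obj i))).hom ξ :=
    ConcreteCategory.congr_hom (ΦZ_pr Z₀ F.obj i) ξ
  have e2 := glue_spec hFs _ hcov (θ Z₀ F.obj s) hc (𝟙 (Z₀.obj i))
    ((ι Z₀ i).app (op (Z₀.obj i)) (𝟙 _))
  have e3 : (θ Z₀ F.obj s).app (op (Z₀.obj i)) ((ι Z₀ i).app (op (Z₀.obj i)) (𝟙 _)) =
      (pr Z₀ F.obj i).hom s := by
    have : yonedaEquiv (ι Z₀ i ≫ θ Z₀ F.obj s) = (pr Z₀ F.obj i).hom s := by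
      rw [ι_θ, Equiv.apply_symm_apply]
    exact this
  rw [e1, hξ, ← e3, ← e2]
  exact (Functor.map_id_apply (Fs F.obj) _ _).symm

end Core

section Main

theorem main (J : GrothendieckTopology C) (K : SimplicialObject (FormalCoproduct.{u} C))
    (F : Sheaf J AddCommGrpCat.{u})
    (h0 : Presheaf.IsLocallySurjective J
      (terminal.from (FormalCoproduct.yoneda.obj (K.obj (op (SimplexCategory.mk 0))))))
    (h1 : Presheaf.IsLocallySurjective J
      (prod.lift (FormalCoproduct.yoneda.map (K.δ (1 : Fin 2)))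
        (FormalCoproduct.yoneda.map (K.δ (0 : Fin 2))))) :
    Nonempty ((Hyper.cechCxSite K F.obj).homology 0 ≅ limit F.obj) := by
  let L := Hyper.cechCxSite K F.obj
  have hd : L.d 0 1 = pull F.obj (K.δ (0 : Fin 2)) - pull F.obj (K.δ (1 : Fin 2)) := by
    have h1 : L.d 0 1 = AlgebraicTopology.AlternatingCofaceMapComplex.objD
        ((FormalCoproduct.cosimplicialObjectFunctor K).obj F.obj) 0 := by
      change CochainComplex.of.d
        (fun n => ((FormalCoproduct.cosimplicialObjectFunctor K).obj F.obj).obj (SimplexCategory.mk n))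
        (AlgebraicTopology.AlternatingCofaceMapComplex.objD
          ((FormalCoproduct.cosimplicialObjectFunctor K).obj F.obj)) 0 (0 + 1) = _
      exact CochainComplex.of_d _ _ 0
    have e0 : ((FormalCoproduct.cosimplicialObjectFunctor K).obj F.obj).δ (0 : Fin 2) =
        pull F.obj (K.δ (0 : Fin 2)) := rfl
    have e1 : ((FormalCoproduct.cosimplicialObjectFunctor K).obj F.obj).δ (1 : Fin 2) =
        pull F.obj (K.δ (1 : Fin 2)) := rfl
    rw [h1, AlgebraicTopology.AlternatingCofaceMapComplex.objD, Fin.sum_univ_two, e0, e1]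
    simp only [Fin.val_zero, Fin.val_one, pow_zero, pow_one]
    abel
  let Φ₀ : limit F.obj ⟶ L.X 0 := ΦZ (K.obj (op (SimplexCategory.mk 0))) F.obj
  have hΦd : Φ₀ ≫ L.d 0 1 = 0 := by
    rw [hd]
    exact Φ_comp_sub (K.obj (op (SimplexCategory.mk 0))) F.obj (K.δ (0 : Fin 2)) (K.δ (1 : Fin 2))
  let Φc : limit F.obj ⟶ L.cycles 0 := L.liftCycles Φ₀ 1 (by simp) hΦd
  have hΦc : ∀ ξ : ToType (limit F.obj), (L.iCycles 0).hom (Φc.hom ξ) = Φ₀.hom ξ := fun ξ =>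
    ConcreteCategory.congr_hom (L.liftCycles_i Φ₀ 1 (by simp) hΦd) ξ
  let Ψ : limit F.obj ⟶ L.homology 0 := Φc ≫ L.homologyπ 0
  have hinj : Function.Injective Ψ.hom := by
    rw [injective_iff_map_eq_zero]
    intro ξ hξ
    obtain ⟨y, hy⟩ := HC.exists_of_homologyπ_eq_zero L 0 (Φc.hom ξ) hξ
    have h0' : Φ₀.hom ξ = 0 := by
      rw [← hΦc, ← hy, HC.toCycles_i_apply]
      have : L.d ((ComplexShape.up ℕ).prev 0) 0 = 0 := L.shape _ _ (by simp)
      rw [this]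
      rfl
    exact Φ_inj J F _ h0 (h0'.trans (map_zero Φ₀.hom).symm)
  have hsurj : Function.Surjective Ψ.hom := by
    intro c
    obtain ⟨z, rfl⟩ := HC.homologyπ_surj L 0 c
    have hs : (L.d 0 1).hom ((L.iCycles 0).hom z) = 0 :=
      ConcreteCategory.congr_hom (L.iCycles_d 0 1) z
    have coc : (pull F.obj (K.δ (0 : Fin 2))).hom ((L.iCycles 0).hom z) =
        (pull F.obj (K.δ (1 : Fin 2))).hom ((L.iCycles 0).hom z) := by
      rw [hd] at hs
      have hs' : (pull F.obj (K.δ (0 : Fin 2))).hom ((L.iCycles 0).hom z) -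
          (pull F.obj (K.δ (1 : Fin 2))).hom ((L.iCycles 0).hom z) = 0 := hs
      exact sub_eq_zero.1 hs'
    obtain ⟨ξ, hξ⟩ := Φ_surj J F _ _ (K.δ (0 : Fin 2)) (K.δ (1 : Fin 2)) h0 h1
      ((L.iCycles 0).hom z) coc
    refine ⟨ξ, ?_⟩
    have hz : Φc.hom ξ = z := HC.iCycles_inj L 0 ((hΦc ξ).trans hξ)
    change (L.homologyπ 0).hom (Φc.hom ξ) = _
    rw [hz]
  have : IsIso Ψ := (ConcreteCategory.isIso_iff_bijective Ψ).2 ⟨hinj, hsurj⟩
  exact ⟨(asIso Ψ).symm⟩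

end Main

end

end Groth.Agent.Lib.Helper16.HyperH0
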