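import Mathlib
import Groth.Prelude
import Groth.Agent.Lib.Helper16.HyperH0
import Groth.Agent.Lib.Helper23.CoskHtpyE
import Groth.Agent.Lib.Helper1.TruncKan

/-!
# Helper16: degree zero Čech cohomology of a hypercovering of an object `X` is `F(X)`
-/

set_option autoImplicit false
universe u
open CategoryTheory CategoryTheory.Limits Opposite

namespace Groth.Agent.Lib.Helper16.HyperH0Over

open Groth.Agent.Lib.Helper16.CechFilt Groth.Agent.Lib.Helper16.HyperH0
  Groth.Agent.Lib.Helper1.TruncKan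

noncomputable section

variable {D : Type u} [SmallCategory D]

section Hom

variable (Z : FormalCoproduct.{u} D) (P : Dᵒᵖ ⥤ AddCommGrpCat.{u})

/-- the presheaf of generalized points of a formal coproduct -/
abbrev hZ : Dᵒᵖ ⥤ Type u := (FormalCoproduct.incl.{u} D).op ⋙ yoneda.obj Z

omit Z in
lemma map_comp_apply' {A B C' : D} (g : A ⟶ B) (h : B ⟶ C') (x : P.obj (op C')) :
    (P.map (g ≫ h).op).hom x = (P.map g.op).hom ((P.map h.op).hom x) := by
  rw [op_comp, P.map_comp]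
  rfl

omit Z in
lemma map_id_apply' (A : D) (x : P.obj (op A)) : (P.map (𝟙 A).op).hom x = x := by
  rw [op_id, P.map_id]
  rfl

omit Z in
lemma limit_w_apply {A B : D} (h : A ⟶ B) (ξ : ToType (limit P)) :
    (P.map h.op).hom ((limit.π P (op B)).hom ξ) = (limit.π P (op A)).hom ξ :=
  ConcreteCategory.congr_hom (limit.w P h.op) ξ

lemma pr_pull_apply {Z' : FormalCoproduct.{u} D} (f : Z' ⟶ Z) (j : Z'.I) (s : EvX Z P) :
    (pr Z' P j).hom ((pull P f).hom s) =
      (P.map (f.φ j).op).hom ((pr Z P (f.f j)).hom s) :=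
  ConcreteCategory.congr_hom (pull_pr Z P f j) s

lemma pr_Φ_apply (i : Z.I) (ξ : ToType (limit P)) :
    (pr Z P i).hom ((ΦZ Z P).hom ξ) = (limit.π P (op (Z.obj i))).hom ξ :=
  ConcreteCategory.congr_hom (ΦZ_pr Z P i) ξ

lemma ϑ_nat_aux (s : EvX Z P) {V V' : D} (g : V' ⟶ V)
    (a : (FormalCoproduct.incl.{u} D).obj V ⟶ Z) :
    (P.map (((FormalCoproduct.incl.{u} D).map g ≫ a).φ PUnit.unit).op).hom
        ((pr Z P (((FormalCoproduct.incl.{u} D).map g ≫ a).f PUnit.unit)).hom s) =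
      (P.map g.op).hom ((P.map (a.φ PUnit.unit).op).hom ((pr Z P (a.f PUnit.unit)).hom s)) :=
  map_comp_apply' P g (a.φ PUnit.unit) _

/-- the morphism of presheaves of types attached to a family -/
def ϑ (s : EvX Z P) : hZ Z ⟶ Fs P where
  app V := TypeCat.ofHom (fun a : ((FormalCoproduct.incl.{u} D).obj V.unop ⟶ Z) =>
    (P.map (a.φ PUnit.unit).op).hom ((pr Z P (a.f PUnit.unit)).hom s))
  naturality _ _ g := ConcreteCategory.hom_ext _ _ (fun a => ϑ_nat_aux Z P s g.unop a)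

lemma hmap_ϑ {Z' : FormalCoproduct.{u} D} (f : Z' ⟶ Z) (s : EvX Z P) {V : D}
    (a : (FormalCoproduct.incl.{u} D).obj V ⟶ Z') :
    (ϑ Z P s).app (op V) (a ≫ f) = (ϑ Z' P ((pull P f).hom s)).app (op V) a :=
  (map_comp_apply' P (a.φ PUnit.unit) (f.φ (a.f PUnit.unit)) _).trans
    (congrArg (fun x => (P.map (a.φ PUnit.unit).op).hom x)
      (pr_pull_apply Z P f (a.f PUnit.unit) s).symm)

lemma ϑ_Φ_app (ξ : ToType (limit P)) {V : D} (a : (FormalCoproduct.incl.{u} D).obj V ⟶ Z) :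
    (ϑ Z P ((ΦZ Z P).hom ξ)).app (op V) a = (limit.π P (op V)).hom ξ :=
  (congrArg (fun x => (P.map (a.φ PUnit.unit).op).hom x)
    (pr_Φ_apply Z P (a.f PUnit.unit) ξ)).trans (limit_w_apply P (a.φ PUnit.unit) ξ)

lemma ϑ_unit (s : EvX Z P) (i : Z.I) :
    (ϑ Z P s).app (op (Z.obj i)) (FormalCoproduct.Hom.fromIncl i (𝟙 (Z.obj i))) =
      (pr Z P i).hom s :=
  map_id_apply' P (Z.obj i) _

end Hom

section CoreHom

variable (J : GrothendieckTopology D) (P : Dᵒᵖ ⥤ AddCommGrpCat.{u})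
  (hFs : Presieve.IsSheaf J (Fs P))
  (Z₀ Z₁ : FormalCoproduct.{u} D) (d0 d1 : Z₁ ⟶ Z₀)
  (hcov : ∀ W, Sv (hZ Z₀) W ∈ J W)
  (hstar : ∀ (V : D) (a b : (FormalCoproduct.incl.{u} D).obj V ⟶ Z₀), ∃ S ∈ J V,
    ∀ (V' : D) (g : V' ⟶ V), S g → ∃ w : (FormalCoproduct.incl.{u} D).obj V' ⟶ Z₁,
      w ≫ d1 = (FormalCoproduct.incl.{u} D).map g ≫ a ∧
      w ≫ d0 = (FormalCoproduct.incl.{u} D).map g ≫ b)

include hFs hcov in
lemma Φ_inj' : Function.Injective (ΦZ Z₀ P).hom := by
  have hsep : Presieve.IsSeparated J (Fs P) := hFs.isSeparated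
  intro ξ ξ' h
  apply Concrete.limit_ext
  intro W
  refine (hsep _ (hcov W.unop)).ext ?_
  rintro V f ⟨t⟩
  have e : ∀ ζ : ToType (limit P),
      (Fs P).map f.op ((limit.π P W).hom ζ) = (limit.π P (op V)).hom ζ :=
    fun ζ => ConcreteCategory.congr_hom (limit.w P f.op) ζ
  exact (e ξ).trans (((ϑ_Φ_app Z₀ P ξ t).symm.trans
    ((congrArg (fun s => (ϑ Z₀ P s).app (op V) t) h).trans (ϑ_Φ_app Z₀ P ξ' t))).trans
      (e ξ').symm)

include hFs hstar in
lemma ϑ_const (s : EvX Z₀ P) (coc : (pull P d0).hom s = (pull P d1).hom s) (V : D)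
    (t t' : (hZ Z₀).obj (op V)) : (ϑ Z₀ P s).app (op V) t = (ϑ Z₀ P s).app (op V) t' := by
  have hsep : Presieve.IsSeparated J (Fs P) := hFs.isSeparated
  obtain ⟨S, hS, h⟩ := hstar V t t'
  refine (hsep S hS).ext ?_
  intro V' g hg
  obtain ⟨w, hw1, hw0⟩ := h V' g hg
  have n1 : (Fs P).map g.op ((ϑ Z₀ P s).app (op V) t) =
      (ϑ Z₀ P s).app (op V') ((FormalCoproduct.incl.{u} D).map g ≫ t) :=
    (NatTrans.naturality_apply (ϑ Z₀ P s) g.op t).symm
  have n0 : (Fs P).map g.op ((ϑ Z₀ P s).app (op V) t') =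
      (ϑ Z₀ P s).app (op V') ((FormalCoproduct.incl.{u} D).map g ≫ t') :=
    (NatTrans.naturality_apply (ϑ Z₀ P s) g.op t').symm
  exact n1.trans ((congrArg (fun x => (ϑ Z₀ P s).app (op V') x) hw1.symm).trans
    ((hmap_ϑ Z₀ P d1 s w).trans
      ((congrArg (fun x => (ϑ Z₁ P x).app (op V') w) coc.symm).trans
        ((hmap_ϑ Z₀ P d0 s w).symm.trans
          ((congrArg (fun x => (ϑ Z₀ P s).app (op V') x) hw0).trans n0.symm)))))

include hFs hcov hstar in
lemma Φ_surj' (s : EvX Z₀ P) (coc : (pull P d0).hom s = (pull P d1).hom s) :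
    ∃ ξ : ToType (limit P), (ΦZ Z₀ P).hom ξ = s := by
  have hc := ϑ_const J P hFs Z₀ Z₁ d0 d1 hstar s coc
  obtain ⟨ξ, hξ⟩ := exists_limit_elem P
    (fun W => glue hFs _ hcov (ϑ Z₀ P s) hc W.unop)
    (fun g => glue_nat hFs _ hcov (ϑ Z₀ P s) hc g.unop)
  refine ⟨ξ, ?_⟩
  apply ext_elem
  intro i
  have e1 : (pr Z₀ P i).hom ((ΦZ Z₀ P).hom ξ) = (limit.π P (op (Z₀.obj i))).hom ξ :=
    ConcreteCategory.congr_hom (ΦZ_pr Z₀ P i) ξ
  have e2 := glue_spec hFs _ hcov (ϑ Z₀ P s) hc (𝟙 (Z₀.obj i))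
    (FormalCoproduct.Hom.fromIncl i (𝟙 (Z₀.obj i)))
  exact e1.trans ((hξ _).trans (((Functor.map_id_apply (Fs P) _ _).symm.trans e2).trans
    (ϑ_unit Z₀ P s i)))

end CoreHom

section Homological

theorem main_aux (K : SimplicialObject (FormalCoproduct.{u} D)) (P : Dᵒᵖ ⥤ AddCommGrpCat.{u})
    (hinj : Function.Injective (ΦZ (K.obj (op (SimplexCategory.mk 0))) P).hom)
    (hsurj : ∀ s : EvX (K.obj (op (SimplexCategory.mk 0))) P,
      (pull P (K.δ (0 : Fin 2))).hom s = (pull P (K.δ (1 : Fin 2))).hom s →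
        ∃ ξ : ToType (limit P), (ΦZ (K.obj (op (SimplexCategory.mk 0))) P).hom ξ = s) :
    Nonempty (((FormalCoproduct.cochainComplexFunctor K).obj P).homology 0 ≅ limit P) := by
  let L := (FormalCoproduct.cochainComplexFunctor K).obj P
  have hd : L.d 0 1 = pull P (K.δ (0 : Fin 2)) - pull P (K.δ (1 : Fin 2)) := by
    have h1 : L.d 0 1 = AlgebraicTopology.AlternatingCofaceMapComplex.objD
        ((FormalCoproduct.cosimplicialObjectFunctor K).obj P) 0 := by
      change CochainComplex.of.d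
        (fun n => ((FormalCoproduct.cosimplicialObjectFunctor K).obj P).obj (SimplexCategory.mk n))
        (AlgebraicTopology.AlternatingCofaceMapComplex.objD
          ((FormalCoproduct.cosimplicialObjectFunctor K).obj P)) 0 (0 + 1) = _
      exact CochainComplex.of_d _ _ 0
    have e0 : ((FormalCoproduct.cosimplicialObjectFunctor K).obj P).δ (0 : Fin 2) =
        pull P (K.δ (0 : Fin 2)) := rfl
    have e1 : ((FormalCoproduct.cosimplicialObjectFunctor K).obj P).δ (1 : Fin 2) =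
        pull P (K.δ (1 : Fin 2)) := rfl
    rw [h1, AlgebraicTopology.AlternatingCofaceMapComplex.objD, Fin.sum_univ_two, e0, e1]
    simp only [Fin.val_zero, Fin.val_one, pow_zero, pow_one]
    abel
  let Φ₀ : limit P ⟶ L.X 0 := ΦZ (K.obj (op (SimplexCategory.mk 0))) P
  have hΦd : Φ₀ ≫ L.d 0 1 = 0 := by
    rw [hd]
    exact Φ_comp_sub (K.obj (op (SimplexCategory.mk 0))) P (K.δ (0 : Fin 2)) (K.δ (1 : Fin 2))
  let Φc : limit P ⟶ L.cycles 0 := L.liftCycles Φ₀ 1 (by simp) hΦd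
  have hΦc : ∀ ξ : ToType (limit P), (L.iCycles 0).hom (Φc.hom ξ) = Φ₀.hom ξ := fun ξ =>
    ConcreteCategory.congr_hom (L.liftCycles_i Φ₀ 1 (by simp) hΦd) ξ
  let Ψ : limit P ⟶ L.homology 0 := Φc ≫ L.homologyπ 0
  have hinj' : Function.Injective Ψ.hom := by
    rw [injective_iff_map_eq_zero]
    intro ξ hξ
    obtain ⟨y, hy⟩ := HC.exists_of_homologyπ_eq_zero L 0 (Φc.hom ξ) hξ
    have h0' : Φ₀.hom ξ = 0 := by
      rw [← hΦc, ← hy, HC.toCycles_i_apply]
      have : L.d ((ComplexShape.up ℕ).prev 0) 0 = 0 := L.shape _ _ (by simp)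
      rw [this]
      rfl
    exact hinj (h0'.trans (map_zero Φ₀.hom).symm)
  have hsurj' : Function.Surjective Ψ.hom := by
    intro c
    obtain ⟨z, rfl⟩ := HC.homologyπ_surj L 0 c
    have hs : (L.d 0 1).hom ((L.iCycles 0).hom z) = 0 :=
      ConcreteCategory.congr_hom (L.iCycles_d 0 1) z
    have coc : (pull P (K.δ (0 : Fin 2))).hom ((L.iCycles 0).hom z) =
        (pull P (K.δ (1 : Fin 2))).hom ((L.iCycles 0).hom z) := by
      rw [hd] at hs
      have hs' : (pull P (K.δ (0 : Fin 2))).hom ((L.iCycles 0).hom z) -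
          (pull P (K.δ (1 : Fin 2))).hom ((L.iCycles 0).hom z) = 0 := hs
      exact sub_eq_zero.1 hs'
    obtain ⟨ξ, hξ⟩ := hsurj ((L.iCycles 0).hom z) coc
    refine ⟨ξ, ?_⟩
    have hz : Φc.hom ξ = z := HC.iCycles_inj L 0 ((hΦc ξ).trans hξ)
    change (L.homologyπ 0).hom (Φc.hom ξ) = _
    rw [hz]
  have : IsIso Ψ := (ConcreteCategory.isIso_iff_bijective Ψ).2 ⟨hinj', hsurj'⟩
  exact ⟨(asIso Ψ).symm⟩

end Homological

section CoskOne

variable {E : Type*} [Category E] (T : SimplicialObject E)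

/-- the object `⦋0⦌` of the truncated simplex category -/
def pt0 : (SimplexCategory.Truncated 0)ᵒᵖ := op ⟨SimplexCategory.mk 0, le_refl _⟩

/-- structured arrows from `⦋1⦌` -/
abbrev SA1 := StructuredArrow (op (SimplexCategory.mk (0 + 1)))
  (SimplexCategory.Truncated.inclusion 0).op

/-- the vertex of `⦋1⦌` hit by a structured arrow -/
def vtx (g : SA1) : Fin 2 := g.hom.unop.toOrderHom 0

/-- the map to the point -/
def cst (g : SA1) :
    op (SimplexCategory.mk 0) ⟶ (SimplexCategory.Truncated.inclusion 0).op.obj g.right :=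
  (SimplexCategory.const g.right.unop.obj (SimplexCategory.mk 0) 0).op

lemma vtx_eq {g₁ g₂ : SA1} (φ : g₁ ⟶ g₂) : vtx g₂ = vtx g₁ := by
  have hw : g₁.hom ≫ (SimplexCategory.Truncated.inclusion 0).op.map φ.right = g₂.hom :=
    StructuredArrow.w φ
  have hu : g₂.hom.unop =
      ((SimplexCategory.Truncated.inclusion 0).map φ.right.unop) ≫ g₁.hom.unop := by
    rw [← hw]; rfl
  have key : ∀ x : Fin (g₁.right.unop.obj.len + 1), x = 0 := fun x => by
    have h2 : g₁.right.unop.obj.len ≤ 0 := g₁.right.unop.property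
    apply Fin.ext
    have h1 := x.isLt
    simp only [Fin.val_zero]
    omega
  unfold vtx
  rw [hu, SimplexCategory.comp_toOrderHom]
  change g₁.hom.unop.toOrderHom
    (((SimplexCategory.Truncated.inclusion 0).map φ.right.unop).toOrderHom 0) = _
  rw [key (((SimplexCategory.Truncated.inclusion 0).map φ.right.unop).toOrderHom 0)]

lemma cst_comp {g₁ g₂ : SA1} (φ : g₁ ⟶ g₂) :
    cst g₁ ≫ (SimplexCategory.Truncated.inclusion 0).op.map φ.right = cst g₂ := by
  apply Quiver.Hom.unop_inj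
  exact SimplexCategory.isTerminalZero.hom_ext _ _

/-- the structured arrow given by a face -/
def gk (k : Fin 2) : SA1 := StructuredArrow.mk (Y := pt0)
  (f := show op (SimplexCategory.mk (0 + 1)) ⟶
      (SimplexCategory.Truncated.inclusion 0).op.obj pt0 from (SimplexCategory.δ k).op)

lemma cst_gk (k : Fin 2) : cst (gk k) = 𝟙 (op (SimplexCategory.mk 0)) := by
  apply Quiver.Hom.unop_inj
  exact SimplexCategory.isTerminalZero.hom_ext _ _

lemma vtx_g1 : vtx (gk 1) = 0 := by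
  change (SimplexCategory.δ (1 : Fin 2)).toOrderHom 0 = 0
  simp [SimplexCategory.δ]

lemma vtx_g0 : vtx (gk 0) = 1 := by
  change (SimplexCategory.δ (0 : Fin 2)).toOrderHom 0 = 1
  simp [SimplexCategory.δ]

lemma π_gk (k : Fin 2) {Z : E} (x : Z ⟶ T.obj (op (SimplexCategory.mk 0))) :
    x ≫ T.map (cst (gk k)) = x := by
  have e : T.map (cst (gk k)) = 𝟙 (T.obj (op (SimplexCategory.mk 0))) :=
    (congrArg (fun f : op (SimplexCategory.mk 0) ⟶ op (SimplexCategory.mk 0) => T.map f)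
      (cst_gk k)).trans (T.map_id _)
  exact (congrArg (fun f => x ≫ f) e).trans (Category.comp_id x)

variable (hT : IsPRKE (SimplexCategory.Truncated.inclusion 0).op T)

include hT in
lemma exists_edge {Z : E} (a b : Z ⟶ T.obj (op (SimplexCategory.mk 0))) :
    ∃ q : Z ⟶ T.obj (op (SimplexCategory.mk (0 + 1))),
      q ≫ T.δ (1 : Fin 2) = a ∧ q ≫ T.δ (0 : Fin 2) = b := by
  let π : ∀ g : SA1, Z ⟶ T.obj ((SimplexCategory.Truncated.inclusion 0).op.obj g.right) :=
    fun g => (if vtx g = 0 then a else b) ≫ T.map (cst g)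
  have hπ : ∀ (g₁ g₂ : SA1) (φ : g₁ ⟶ g₂),
      π g₁ ≫ T.map ((SimplexCategory.Truncated.inclusion 0).op.map φ.right) = π g₂ := by
    intro g₁ g₂ φ
    simp only [π]
    rw [Category.assoc, ← T.map_comp, cst_comp φ, vtx_eq φ]
  obtain ⟨l, hl⟩ := hT.exists_lift (op (SimplexCategory.mk (0 + 1))) Z π hπ
  refine ⟨l, ?_, ?_⟩
  · have h := hl (gk 1)
    have e : (if vtx (gk 1) = 0 then a else b) = a := by simp [vtx_g1]
    exact h.trans ((π_gk T 1 _).trans e)
  · have h := hl (gk 0)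
    have e : (if vtx (gk 0) = 0 then a else b) = b := by simp [vtx_g0]
    exact h.trans ((π_gk T 0 _).trans e)

end CoskOne

section Star

variable (J' : GrothendieckTopology D) (K T : SimplicialObject (FormalCoproduct.{u} D))
  (η : K ⟶ T) [IsIso (η.app (op (SimplexCategory.mk 0)))]
  (hT : IsPRKE (SimplexCategory.Truncated.inclusion 0).op T)
  (hu : Hyper.IsSRCovering J' (η.app (op (SimplexCategory.mk (0 + 1)))))

include hT hu in
lemma hstar_of_cosk (V : D)
    (a b : (FormalCoproduct.incl.{u} D).obj V ⟶ K.obj (op (SimplexCategory.mk 0))) :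
    ∃ S ∈ J' V, ∀ (V' : D) (g : V' ⟶ V), S g →
      ∃ w : (FormalCoproduct.incl.{u} D).obj V' ⟶ K.obj (op (SimplexCategory.mk (0 + 1))),
        w ≫ K.δ (1 : Fin 2) = (FormalCoproduct.incl.{u} D).map g ≫ a ∧
        w ≫ K.δ (0 : Fin 2) = (FormalCoproduct.incl.{u} D).map g ≫ b := by
  obtain ⟨q, hq1, hq0⟩ := exists_edge T hT (a ≫ η.app (op (SimplexCategory.mk 0)))
    (b ≫ η.app (op (SimplexCategory.mk 0)))
  refine ⟨Sieve.pullback (show V ⟶ _ from q.φ PUnit.unit) (Sieve.ofArrows _ _),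
    J'.pullback_stable _ (hu (q.f PUnit.unit)), ?_⟩
  intro V' g hg
  obtain ⟨W, c, k, hk, hc⟩ := hg
  obtain ⟨l⟩ := hk
  let w : (FormalCoproduct.incl.{u} D).obj V' ⟶ K.obj (op (SimplexCategory.mk (0 + 1))) :=
    FormalCoproduct.Hom.fromIncl l.1 c
  have hwu : w ≫ η.app (op (SimplexCategory.mk (0 + 1))) =
      (FormalCoproduct.incl.{u} D).map g ≫ q := by
    refine FormalCoproduct.hom_ext (funext fun _ => l.2) (fun _ => ?_)
    exact (Category.assoc _ _ _).trans hc
  have nat1 : K.δ (1 : Fin 2) ≫ η.app (op (SimplexCategory.mk 0)) =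
      η.app (op (SimplexCategory.mk (0 + 1))) ≫ T.δ (1 : Fin 2) :=
    η.naturality (SimplexCategory.δ (1 : Fin 2)).op
  have nat0 : K.δ (0 : Fin 2) ≫ η.app (op (SimplexCategory.mk 0)) =
      η.app (op (SimplexCategory.mk (0 + 1))) ≫ T.δ (0 : Fin 2) :=
    η.naturality (SimplexCategory.δ (0 : Fin 2)).op
  refine ⟨w, ?_, ?_⟩
  · apply (cancel_mono (η.app (op (SimplexCategory.mk 0)))).1
    calc (w ≫ K.δ (1 : Fin 2)) ≫ η.app (op (SimplexCategory.mk 0))
        = w ≫ (K.δ (1 : Fin 2) ≫ η.app (op (SimplexCategory.mk 0))) := Category.assoc _ _ _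
      _ = w ≫ (η.app (op (SimplexCategory.mk (0 + 1))) ≫ T.δ (1 : Fin 2)) :=
          congrArg (fun k => w ≫ k) nat1
      _ = (w ≫ η.app (op (SimplexCategory.mk (0 + 1)))) ≫ T.δ (1 : Fin 2) :=
          (Category.assoc _ _ _).symm
      _ = ((FormalCoproduct.incl.{u} D).map g ≫ q) ≫ T.δ (1 : Fin 2) :=
          congrArg (fun k => k ≫ T.δ (1 : Fin 2)) hwu
      _ = (FormalCoproduct.incl.{u} D).map g ≫ (q ≫ T.δ (1 : Fin 2)) := Category.assoc _ _ _
      _ = (FormalCoproduct.incl.{u} D).map g ≫ (a ≫ η.app (op (SimplexCategory.mk 0))) :=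
          congrArg (fun k => (FormalCoproduct.incl.{u} D).map g ≫ k) hq1
      _ = ((FormalCoproduct.incl.{u} D).map g ≫ a) ≫ η.app (op (SimplexCategory.mk 0)) :=
          (Category.assoc _ _ _).symm
  · apply (cancel_mono (η.app (op (SimplexCategory.mk 0)))).1
    calc (w ≫ K.δ (0 : Fin 2)) ≫ η.app (op (SimplexCategory.mk 0))
        = w ≫ (K.δ (0 : Fin 2) ≫ η.app (op (SimplexCategory.mk 0))) := Category.assoc _ _ _
      _ = w ≫ (η.app (op (SimplexCategory.mk (0 + 1))) ≫ T.δ (0 : Fin 2)) :=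
          congrArg (fun k => w ≫ k) nat0
      _ = (w ≫ η.app (op (SimplexCategory.mk (0 + 1)))) ≫ T.δ (0 : Fin 2) :=
          (Category.assoc _ _ _).symm
      _ = ((FormalCoproduct.incl.{u} D).map g ≫ q) ≫ T.δ (0 : Fin 2) :=
          congrArg (fun k => k ≫ T.δ (0 : Fin 2)) hwu
      _ = (FormalCoproduct.incl.{u} D).map g ≫ (q ≫ T.δ (0 : Fin 2)) := Category.assoc _ _ _
      _ = (FormalCoproduct.incl.{u} D).map g ≫ (b ≫ η.app (op (SimplexCategory.mk 0))) :=
          congrArg (fun k => (FormalCoproduct.incl.{u} D).map g ≫ k) hq0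
      _ = ((FormalCoproduct.incl.{u} D).map g ≫ b) ≫ η.app (op (SimplexCategory.mk 0)) :=
          (Category.assoc _ _ _).symm

end Star

section Over

variable {C : Type u} [SmallCategory C]

lemma Sv_mem_over (J : GrothendieckTopology C) (X : C) (Z : FormalCoproduct.{u} (Over X))
    (h : Sieve.ofArrows (fun i => (Z.obj i).left) (fun i => (Z.obj i).hom) ∈ J X) (W : Over X) :
    Sv (hZ Z) W ∈ (J.over X) W := by
  rw [GrothendieckTopology.mem_over_iff]
  refine J.superset_covering ?_ (J.pullback_stable W.hom h)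
  intro V' g hg
  obtain ⟨_, c, _, ⟨i⟩, hc⟩ := hg
  rw [Sieve.overEquiv_iff]
  exact ⟨FormalCoproduct.Hom.fromIncl i (Over.homMk c hc)⟩

lemma isIso_unit_zero {E : Type*} [Category E] [HasFiniteLimits E]
    [∀ (F : (SimplexCategory.Truncated 0)ᵒᵖ ⥤ E),
      (SimplexCategory.Truncated.inclusion 0).op.HasRightKanExtension F]
    (K : SimplicialObject E) :
    IsIso (((SimplicialObject.coskAdj 0).unit.app K).app (op (SimplexCategory.mk 0))) := by
  have hp : ∀ (G : (SimplexCategory.Truncated 0)ᵒᵖ ⥤ E),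
      (SimplexCategory.Truncated.inclusion 0).op.HasPointwiseRightKanExtension G :=
    fun G => hasPointwiseRightKanExtension 0 G
  have hiso : IsIso (SimplicialObject.coskAdj (C := E) 0).counit := inferInstance
  have tri := (SimplicialObject.coskAdj (C := E) 0).left_triangle_components K
  have h1 : IsIso ((SimplicialObject.truncation 0).map ((SimplicialObject.coskAdj 0).unit.app K) ≫
      (SimplicialObject.coskAdj 0).counit.app ((SimplicialObject.truncation 0).obj K)) := by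
    rw [tri]; exact IsIso.id _
  have h2 : IsIso ((SimplicialObject.truncation 0).map ((SimplicialObject.coskAdj 0).unit.app K)) :=
    IsIso.of_isIso_comp_right _
      ((SimplicialObject.coskAdj 0).counit.app ((SimplicialObject.truncation 0).obj K))
  exact NatIso.isIso_app_of_isIso
    ((SimplicialObject.truncation 0).map ((SimplicialObject.coskAdj 0).unit.app K)) pt0

theorem main_over [HasPullbacks C] (J : GrothendieckTopology C) (X : C)
    (K : SimplicialObject (FormalCoproduct.{u} (Over X)))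
    [∀ (n : ℕ) (F : (SimplexCategory.Truncated n)ᵒᵖ ⥤ FormalCoproduct.{u} (Over X)),
      (SimplexCategory.Truncated.inclusion n).op.HasRightKanExtension F]
    (hK : Hyper.IsHypercovering J X K) (F : Sheaf J AddCommGrpCat.{u}) :
    Nonempty (Hyper.cechH X K F.obj 0 ≅ F.obj.obj (op X)) := by
  have : HasFiniteLimits (FormalCoproduct.{u} (Over X)) :=
    hasFiniteLimits_of_hasTerminal_and_pullbacks
  have hp : ∀ (G : (SimplexCategory.Truncated 0)ᵒᵖ ⥤ FormalCoproduct.{u} (Over X)),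
      (SimplexCategory.Truncated.inclusion 0).op.HasPointwiseRightKanExtension G :=
    fun G => hasPointwiseRightKanExtension 0 G
  have hck : ((SimplicialObject.cosk 0).obj K).IsCoskeletal 0 :=
    Groth.Agent.Lib.Helper23.CoskHtpyE.isCoskeletal_cosk 0 K
  have hT : IsPRKE (SimplexCategory.Truncated.inclusion 0).op ((SimplicialObject.cosk 0).obj K) :=
    IsPRKE.of_isPointwise _ _
      (Functor.isPointwiseRightKanExtensionOfIsRightKanExtension
        ((SimplicialObject.cosk 0).obj K) (𝟙 _))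
  have hη0 := isIso_unit_zero K
  have hFs : Presieve.IsSheaf (J.over X) (Fs ((Over.forget X).op ⋙ F.obj)) :=
    isSheaf_Fs (J.over X) ((J.overPullback AddCommGrpCat.{u} X).obj F)
  have hcov := Sv_mem_over J X (K.obj (op (SimplexCategory.mk 0))) hK.1
  have hstar := hstar_of_cosk (J.over X) K ((SimplicialObject.cosk 0).obj K)
    ((SimplicialObject.coskAdj 0).unit.app K) hT (hK.2 0)
  obtain ⟨e⟩ := main_aux K ((Over.forget X).op ⋙ F.obj)
    (Φ_inj' (J.over X) _ hFs _ hcov)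
    (fun s coc => Φ_surj' (J.over X) _ hFs _ _ (K.δ (0 : Fin 2)) (K.δ (1 : Fin 2)) hcov hstar s coc)
  exact ⟨e ≪≫ (limit.isLimit ((Over.forget X).op ⋙ F.obj)).conePointUniqueUpToIso
    (limitOfDiagramInitial (initialOpOfTerminal Over.mkIdTerminal) ((Over.forget X).op ⋙ F.obj))⟩

end Over

end

end Groth.Agent.Lib.Helper16.HyperH0Over
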