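import Mathlib
import Groth.Prelude
import Groth.Agent.Lib.Helper16.HyperH0Over

/-!
# Helper16: a hypercovering of `X` is a hypercovering of the final object of the site `C/X`
-/

set_option autoImplicit false
universe u
open CategoryTheory CategoryTheory.Limits Opposite

namespace Groth.Agent.Lib.Helper16.HyperSiteOver

open Groth.Agent.Lib.Helper16.CechFilt Groth.Agent.Lib.Helper16.HyperH0
  Groth.Agent.Lib.Helper16.HyperH0Over Groth.Agent.Lib.Helper1.TruncKan

noncomputable section

variable {D : Type u} [SmallCategory D]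

section Tau

variable (Z : FormalCoproduct.{u} D)

lemma τ_nat_aux {V V' : D} (g : V' ⟶ V) (a : (FormalCoproduct.incl.{u} D).obj V ⟶ Z) :
    (ι Z (((FormalCoproduct.incl.{u} D).map g ≫ a).f PUnit.unit)).app (op V')
        (((FormalCoproduct.incl.{u} D).map g ≫ a).φ PUnit.unit) =
      (FormalCoproduct.yoneda.obj Z).map g.op
        ((ι Z (a.f PUnit.unit)).app (op V) (a.φ PUnit.unit)) :=
  NatTrans.naturality_apply (ι Z (a.f PUnit.unit)) g.op (a.φ PUnit.unit)

/-- generalized points of a formal coproduct as sections of the coproduct of representables -/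
def τ : hZ Z ⟶ FormalCoproduct.yoneda.obj Z where
  app V := TypeCat.ofHom (fun a : ((FormalCoproduct.incl.{u} D).obj V.unop ⟶ Z) =>
    (ι Z (a.f PUnit.unit)).app V (a.φ PUnit.unit))
  naturality _ _ g := ConcreteCategory.hom_ext _ _ (fun a => τ_nat_aux Z g.unop a)

lemma τ_map {V V' : D} (g : V' ⟶ V) (a : (FormalCoproduct.incl.{u} D).obj V ⟶ Z) :
    (τ Z).app (op V') ((FormalCoproduct.incl.{u} D).map g ≫ a) =
      (FormalCoproduct.yoneda.obj Z).map g.op ((τ Z).app (op V) a) :=
  τ_nat_aux Z g a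

lemma τ_comp {Z' : FormalCoproduct.{u} D} (f : Z' ⟶ Z) {V : D}
    (a : (FormalCoproduct.incl.{u} D).obj V ⟶ Z') :
    (τ Z).app (op V) (a ≫ f) =
      (FormalCoproduct.yoneda.map f).app (op V) ((τ Z').app (op V) a) :=
  (congrArg (fun k : yoneda.obj (Z'.obj (a.f PUnit.unit)) ⟶ FormalCoproduct.yoneda.obj Z =>
    k.app (op V) (a.φ PUnit.unit)) (ι_map Z f (a.f PUnit.unit))).symm

lemma exists_ι (V : D) (t : (FormalCoproduct.yoneda.obj Z).obj (op V)) :
    ∃ (i : Z.I) (x : V ⟶ Z.obj i), (ι Z i).app (op V) x = t := by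
  have hc : IsColimit (((evaluation Dᵒᵖ (Type u)).obj (op V)).mapCocone
      (colimit.cocone (Discrete.functor (fun i : Z.I => yoneda.obj (Z.obj i))))) :=
    isColimitOfPreserves _ (colimit.isColimit _)
  obtain ⟨⟨i⟩, y, hy⟩ := Types.jointly_surjective_of_isColimit hc t
  exact ⟨i, y, hy⟩

lemma τ_surj (V : D) (t : (FormalCoproduct.yoneda.obj Z).obj (op V)) :
    ∃ a : (FormalCoproduct.incl.{u} D).obj V ⟶ Z, (τ Z).app (op V) a = t := by
  obtain ⟨i, x, hx⟩ := exists_ι Z V t
  exact ⟨FormalCoproduct.Hom.fromIncl i x, hx⟩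

lemma ι_eq {i j : Z.I} (e : i = j) {V : D} (y : V ⟶ Z.obj i) :
    (ι Z i).app (op V) y = (ι Z j).app (op V) (y ≫ eqToHom (congrArg Z.obj e)) := by
  subst e
  rw [eqToHom_refl, Category.comp_id]

end Tau

section Elements

lemma subsingleton_terminal (V : D) : Subsingleton ((⊤_ (Dᵒᵖ ⥤ Type u)).obj (op V)) :=
  ⟨fun _ _ => yonedaEquiv.symm.injective (Subsingleton.elim _ _)⟩

lemma prod_ext {A B : Dᵒᵖ ⥤ Type u} {V : D} (x y : (A ⨯ B).obj (op V))
    (h1 : (prod.fst : A ⨯ B ⟶ A).app (op V) x = (prod.fst : A ⨯ B ⟶ A).app (op V) y)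
    (h2 : (prod.snd : A ⨯ B ⟶ B).app (op V) x = (prod.snd : A ⨯ B ⟶ B).app (op V) y) :
    x = y := by
  apply yonedaEquiv.symm.injective
  apply Limits.prod.hom_ext
  · exact (yonedaEquiv_symm_naturality_right V _ x).trans
      ((congrArg (fun s => yonedaEquiv.symm s) h1).trans
        (yonedaEquiv_symm_naturality_right V _ y).symm)
  · exact (yonedaEquiv_symm_naturality_right V _ x).trans
      ((congrArg (fun s => yonedaEquiv.symm s) h2).trans
        (yonedaEquiv_symm_naturality_right V _ y).symm)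

end Elements

section LocSurj

variable (J' : GrothendieckTopology D)

lemma locSurj_terminal (Z : FormalCoproduct.{u} D) (hcov : ∀ W, Sv (hZ Z) W ∈ J' W) :
    Presheaf.IsLocallySurjective J' (terminal.from (FormalCoproduct.yoneda.obj Z)) where
  imageSieve_mem {W} s := by
    refine J'.superset_covering ?_ (hcov W)
    rintro V g ⟨a⟩
    exact ⟨(τ Z).app (op V) a, (subsingleton_terminal V).elim _ _⟩

lemma locSurj_prod (Z₀ Z₁ : FormalCoproduct.{u} D) (d1 d0 : Z₁ ⟶ Z₀)
    (hstar : ∀ (V : D) (a b : (FormalCoproduct.incl.{u} D).obj V ⟶ Z₀), ∃ S ∈ J' V,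
      ∀ (V' : D) (g : V' ⟶ V), S g → ∃ w : (FormalCoproduct.incl.{u} D).obj V' ⟶ Z₁,
        w ≫ d1 = (FormalCoproduct.incl.{u} D).map g ≫ a ∧
        w ≫ d0 = (FormalCoproduct.incl.{u} D).map g ≫ b) :
    Presheaf.IsLocallySurjective J'
      (prod.lift (FormalCoproduct.yoneda.map d1) (FormalCoproduct.yoneda.map d0)) where
  imageSieve_mem {V} z := by
    obtain ⟨a, ha⟩ := τ_surj Z₀ V
      ((prod.fst : FormalCoproduct.yoneda.obj Z₀ ⨯ FormalCoproduct.yoneda.obj Z₀ ⟶ _).app (op V) z)
    obtain ⟨b, hb⟩ := τ_surj Z₀ V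
      ((prod.snd : FormalCoproduct.yoneda.obj Z₀ ⨯ FormalCoproduct.yoneda.obj Z₀ ⟶ _).app (op V) z)
    obtain ⟨S, hS, h⟩ := hstar V a b
    refine J'.superset_covering ?_ hS
    intro V' g hg
    obtain ⟨w, hw1, hw0⟩ := h V' g hg
    refine ⟨(τ Z₁).app (op V') w, prod_ext _ _ ?_ ?_⟩
    · have s1 : (prod.fst : FormalCoproduct.yoneda.obj Z₀ ⨯ FormalCoproduct.yoneda.obj Z₀ ⟶ _).app
          (op V') ((prod.lift (FormalCoproduct.yoneda.map d1)
            (FormalCoproduct.yoneda.map d0)).app (op V') ((τ Z₁).app (op V') w)) =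
          (FormalCoproduct.yoneda.map d1).app (op V') ((τ Z₁).app (op V') w) :=
        congrArg (fun k : FormalCoproduct.yoneda.obj Z₁ ⟶ FormalCoproduct.yoneda.obj Z₀ =>
          k.app (op V') ((τ Z₁).app (op V') w)) (prod.lift_fst _ _)
      exact s1.trans ((τ_comp Z₀ d1 w).symm.trans
        ((congrArg (fun x => (τ Z₀).app (op V') x) hw1).trans ((τ_map Z₀ g a).trans
          ((congrArg (fun x => (FormalCoproduct.yoneda.obj Z₀).map g.op x) ha).trans
            (NatTrans.naturality_apply (prod.fst :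
              FormalCoproduct.yoneda.obj Z₀ ⨯ FormalCoproduct.yoneda.obj Z₀ ⟶ _) g.op z).symm))))
    · have s1 : (prod.snd : FormalCoproduct.yoneda.obj Z₀ ⨯ FormalCoproduct.yoneda.obj Z₀ ⟶ _).app
          (op V') ((prod.lift (FormalCoproduct.yoneda.map d1)
            (FormalCoproduct.yoneda.map d0)).app (op V') ((τ Z₁).app (op V') w)) =
          (FormalCoproduct.yoneda.map d0).app (op V') ((τ Z₁).app (op V') w) :=
        congrArg (fun k : FormalCoproduct.yoneda.obj Z₁ ⟶ FormalCoproduct.yoneda.obj Z₀ =>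
          k.app (op V') ((τ Z₁).app (op V') w)) (prod.lift_snd _ _)
      exact s1.trans ((τ_comp Z₀ d0 w).symm.trans
        ((congrArg (fun x => (τ Z₀).app (op V') x) hw0).trans ((τ_map Z₀ g b).trans
          ((congrArg (fun x => (FormalCoproduct.yoneda.obj Z₀).map g.op x) hb).trans
            (NatTrans.naturality_apply (prod.snd :
              FormalCoproduct.yoneda.obj Z₀ ⨯ FormalCoproduct.yoneda.obj Z₀ ⟶ _) g.op z).symm))))

lemma locSurj_of_isSRCovering {K' L : FormalCoproduct.{u} D} (f : K' ⟶ L)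
    (hf : Hyper.IsSRCovering J' f) :
    Presheaf.IsLocallySurjective J' (FormalCoproduct.yoneda.map f) where
  imageSieve_mem {V} s := by
    obtain ⟨j, x, hx⟩ := exists_ι L V s
    refine J'.superset_covering ?_ (J'.pullback_stable x (hf j))
    intro V' g hg
    obtain ⟨W, c, k, hk, hc⟩ := hg
    obtain ⟨l⟩ := hk
    refine ⟨(ι K' l.1).app (op V') c, ?_⟩
    have e1 : (FormalCoproduct.yoneda.map f).app (op V') ((ι K' l.1).app (op V') c) =
        (ι L (f.f l.1)).app (op V') (c ≫ f.φ l.1) :=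
      congrArg (fun k : yoneda.obj (K'.obj l.1) ⟶ FormalCoproduct.yoneda.obj L =>
        k.app (op V') c) (ι_map L f l.1)
    have e2 : (ι L (f.f l.1)).app (op V') (c ≫ f.φ l.1) =
        (ι L j).app (op V') ((c ≫ f.φ l.1) ≫ eqToHom (congrArg L.obj l.2)) := ι_eq L l.2 _
    have e3 : (c ≫ f.φ l.1) ≫ eqToHom (congrArg L.obj l.2) = g ≫ x :=
      (Category.assoc _ _ _).trans hc
    have e4 : (ι L j).app (op V') (g ≫ x) =
        (FormalCoproduct.yoneda.obj L).map g.op ((ι L j).app (op V) x) :=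
      NatTrans.naturality_apply (ι L j) g.op x
    exact e1.trans (e2.trans ((congrArg (fun y => (ι L j).app (op V') y) e3).trans
      (e4.trans (congrArg (fun y => (FormalCoproduct.yoneda.obj L).map g.op y) hx))))

end LocSurj

section Over

variable {C : Type u} [SmallCategory C]

theorem main_site [HasPullbacks C] (J : GrothendieckTopology C) (X : C)
    (K : SimplicialObject (FormalCoproduct.{u} (Over X)))
    [∀ (n : ℕ) (F : (SimplexCategory.Truncated n)ᵒᵖ ⥤ FormalCoproduct.{u} (Over X)),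
      (SimplexCategory.Truncated.inclusion n).op.HasRightKanExtension F]
    (hK : Hyper.IsHypercovering J X K) : Hyper.IsHypercoveringSite (J.over X) K := by
  have : HasFiniteLimits (FormalCoproduct.{u} (Over X)) :=
    hasFiniteLimits_of_hasTerminal_and_pullbacks
  have hp : ∀ (G : (SimplexCategory.Truncated 0)ᵒᵖ ⥤ FormalCoproduct.{u} (Over X)),
      (SimplexCategory.Truncated.inclusion 0).op.HasPointwiseRightKanExtension G :=
    fun G => hasPointwiseRightKanExtension 0 G
  have hck : ((SimplicialObject.cosk 0).obj K).IsCoskeletal 0 :=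
    Groth.Agent.Lib.Helper23.CoskHtpyE.isCoskeletal_cosk 0 K
  have hT : IsPRKE (SimplexCategory.Truncated.inclusion 0).op ((SimplicialObject.cosk 0).obj K) :=
    IsPRKE.of_isPointwise _ _
      (Functor.isPointwiseRightKanExtensionOfIsRightKanExtension
        ((SimplicialObject.cosk 0).obj K) (𝟙 _))
  have hη0 := isIso_unit_zero K
  have hcov := Sv_mem_over J X (K.obj (op (SimplexCategory.mk 0))) hK.1
  have hstar := hstar_of_cosk (J.over X) K ((SimplicialObject.cosk 0).obj K)
    ((SimplicialObject.coskAdj 0).unit.app K) hT (hK.2 0)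
  unfold Hyper.IsHypercoveringSite
  exact ⟨locSurj_terminal (J.over X) _ hcov,
    locSurj_prod (J.over X) _ _ (K.δ (1 : Fin 2)) (K.δ (0 : Fin 2)) hstar,
    fun n _ => locSurj_of_isSRCovering (J.over X) _ (hK.2 n)⟩

end Over

end

end Groth.Agent.Lib.Helper16.HyperSiteOver
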