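import Groth.Agent.Lib.Helper16.ImmDesc1

set_option autoImplicit false
universe u
open CategoryTheory CategoryTheory.Limits AlgebraicGeometry Opposite Topology

namespace Groth.Agent.Lib.Helper16.ImmDesc

open AlgSp Groth.Agent.Lib.Helper16

variable {S : Scheme.{u}}

/-- A morphism from an algebraic space to a scheme whose image on points lies in an open factors through the open. -/
theorem exists_factor_open {T : Sp S} (hT : IsAlgSpace T) {Z : Over S} (π : T ⟶ (yon S).obj Z) (Z₀ : Z.left.Opens)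
    (h : imageSet π ⊆ (Z₀ : Set ↥Z.left)) :
    ∃ π₀ : T ⟶ (yon S).obj (overOpen Z Z₀), π₀ ≫ (yon S).map (overOpenι Z Z₀) = π := by
  let X : Space S := ⟨(yon S).obj Z, IsAlgSpace.yon_obj Z⟩
  let X' : Space S := ⟨(yon S).obj (overOpen Z Z₀), IsAlgSpace.yon_obj _⟩
  let Y : Space S := ⟨T, hT⟩
  let j : X' ⟶ X := ObjectProperty.homMk ((yon S).map (overOpenι Z Z₀))
  let f : Y ⟶ X := ObjectProperty.homMk π
  have hj : RepWith @IsOpenImmersion j.hom :=
    (repWith_yon_map_iff @IsOpenImmersion (overOpenι Z Z₀)).2 (inferInstanceAs (IsOpenImmersion Z₀.ι))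
  obtain ⟨g, hg⟩ := (Groth.Agent.S10194.result j hj f).2 (by
    rintro _ ⟨x, rfl⟩
    have hz : Points.toScheme Z (Points.map π x) ∈ imageSet π := ⟨x, (Points.ofScheme_toScheme Z _).symm⟩
    obtain ⟨z₀, hz₀⟩ : ∃ z₀ : ↥(overOpen Z Z₀).left, Z₀.ι z₀ = Points.toScheme Z (Points.map π x) :=
      ⟨⟨_, h hz⟩, rfl⟩
    refine ⟨Points.ofScheme _ z₀, ?_⟩
    show Points.map ((yon S).map (overOpenι Z Z₀)) (Points.ofScheme _ z₀) = Points.map π x
    rw [map_yon_map_ofScheme]
    show Points.ofScheme Z (Z₀.ι z₀) = _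
    rw [hz₀, Points.ofScheme_toScheme])
  exact ⟨g.hom, congrArg (fun k => k.hom) hg⟩

end Groth.Agent.Lib.Helper16.ImmDesc
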