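import Groth.Agent.Lib.Helper16.ImmDesc2

set_option autoImplicit false
universe u
open CategoryTheory CategoryTheory.Limits AlgebraicGeometry Opposite Topology

namespace Groth.Agent.Lib.Helper16.ImmDesc

open AlgSp Groth.Agent.Lib.Helper16

variable {S : Scheme.{u}}

/-- The restriction of a standard fpqc covering of an affine scheme to an open subscheme satisfies the refinement
clause of fpqc coverings. -/
theorem fpqcRefines_restrict {Z : Over S} (hZ : IsAffine Z.left) {m : ℕ} (W : Fin m → Over S) (c : ∀ j, W j ⟶ Z)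
    (hWa : ∀ j, IsAffine (W j).left) (hcf : ∀ j, Flat (c j).left)
    (hcs : ∀ z : ↥Z.left, ∃ j, z ∈ Set.range (c j).left) (Z₀ : Z.left.Opens) :
    FpqcRefines (fun j : ULift.{u} (Fin m) => (yon S).obj (overOpen (W j.down) ((c j.down).left ⁻¹ᵁ Z₀)))
      (fun j => (yon S).map (overRestrict (c j.down) Z₀)) := by
  intro Z' hZ' h
  obtain ⟨h₀, rfl⟩ := (yon S).map_surjective h
  have hh₀ : h₀.left ≫ Z₀.ι ≫ Z.hom = Z'.hom := Over.w h₀
  refine ⟨m, fun j => Over.mk (pullback.fst (h₀.left ≫ Z₀.ι) (c j).left ≫ Z'.hom),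
    fun j => Over.homMk (pullback.fst (h₀.left ≫ Z₀.ι) (c j).left) rfl, fun j => ?_, fun j => ?_, fun z' => ?_,
    fun j => ?_⟩
  · have := hWa j
    show IsAffine (pullback (h₀.left ≫ Z₀.ι) (c j).left)
    infer_instance
  · have := hcf j
    show Flat (pullback.fst (h₀.left ≫ Z₀.ι) (c j).left)
    infer_instance
  · obtain ⟨j, w, hw⟩ := hcs ((h₀.left ≫ Z₀.ι) z')
    obtain ⟨p, hp, -⟩ := Scheme.Pullback.exists_preimage_pullback z' w hw.symm
    exact ⟨j, p, hp⟩
  · have hrange : Set.range (pullback.snd (h₀.left ≫ Z₀.ι) (c j).left) ⊆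
        Set.range ((c j).left ⁻¹ᵁ Z₀).ι := by
      rintro _ ⟨p, rfl⟩
      rw [Scheme.Opens.range_ι]
      show (c j).left (pullback.snd (h₀.left ≫ Z₀.ι) (c j).left p) ∈ Z₀
      rw [← Scheme.Hom.comp_apply, ← pullback.condition, Scheme.Hom.comp_apply, Scheme.Hom.comp_apply]
      exact (h₀.left (pullback.fst (h₀.left ≫ Z₀.ι) (c j).left p)).2
    let l₀ : pullback (h₀.left ≫ Z₀.ι) (c j).left ⟶ ((c j).left ⁻¹ᵁ Z₀).toScheme :=
      IsOpenImmersion.lift ((c j).left ⁻¹ᵁ Z₀).ι (pullback.snd (h₀.left ≫ Z₀.ι) (c j).left) hrange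
    have hl₀ : l₀ ≫ ((c j).left ⁻¹ᵁ Z₀).ι = pullback.snd (h₀.left ≫ Z₀.ι) (c j).left :=
      IsOpenImmersion.lift_fac _ _ _
    refine ⟨⟨j⟩, (yon S).map (Over.homMk l₀ ?_), ?_⟩
    · simp only [overOpen, Over.mk_hom]
      rw [← Category.assoc, hl₀, ← Over.w (c j), ← Category.assoc, ← pullback.condition, Category.assoc,
        Category.assoc, hh₀]
    · rw [← Functor.map_comp, ← Functor.map_comp]
      congr 1
      ext1
      show l₀ ≫ ((c j).left ∣_ Z₀) = pullback.fst (h₀.left ≫ Z₀.ι) (c j).left ≫ h₀.left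
      rw [← cancel_mono Z₀.ι, Category.assoc, morphismRestrict_ι, ← Category.assoc, hl₀, Category.assoc,
        pullback.condition]

end Groth.Agent.Lib.Helper16.ImmDesc
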