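import Groth.Agent.Lib.Helper16.ImmDesc3

set_option autoImplicit false
universe u
open CategoryTheory CategoryTheory.Limits AlgebraicGeometry Opposite Topology

namespace Groth.Agent.Lib.Helper16.ImmDesc

open AlgSp Groth.Agent.Lib.Helper16

variable {S : Scheme.{u}}

/-- **Descent of immersions along a standard fppf covering of an affine scheme**: an algebraic space `T` over an affine
scheme `Z` whose base changes to the members of a standard fppf covering of `Z` are immersions is a scheme immersed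
in `Z`. -/
theorem exists_immersion_of_fppf_cover {Z : Over S} (hZ : IsAffine Z.left) {T : Sp S} (hT : IsAlgSpace T)
    (π : T ⟶ (yon S).obj Z) {m : ℕ} (W V : Fin m → Over S) (c : ∀ j, W j ⟶ Z)
    (hWa : ∀ j, IsAffine (W j).left) (hcf : ∀ j, Flat (c j).left)
    (hcp : ∀ j, LocallyOfFinitePresentation (c j).left)
    (hcs : ∀ z : ↥Z.left, ∃ j, z ∈ Set.range (c j).left)
    (i : ∀ j, V j ⟶ W j) (hi : ∀ j, IsImmersion (i j).left) (fst : ∀ j, (yon S).obj (V j) ⟶ T)
    (sq : ∀ j, IsPullback (fst j) ((yon S).map (i j)) π ((yon S).map (c j))) :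
    ∃ (T₀ : Over S) (i₀ : T₀ ⟶ Z) (e : (yon S).obj T₀ ⟶ T),
      IsIso e ∧ e ≫ π = (yon S).map i₀ ∧ IsImmersion i₀.left := by
  have hA : ∀ j, (c j).left ⁻¹' imageSet π = Set.range (i j).left := fun j =>
    preimage_imageSet π (c j) (i j) (fst j) (sq j)
  have hopen : IsOpen (coborder (imageSet π)) := by
    refine isOpen_coborder_of_open_cover (fun j => ((c j).left : ↥(W j).left → ↥Z.left))
      (fun j => (c j).left.continuous) (fun j => ?_) hcs _ (fun j => ?_)
    · have := hcf j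
      have := hcp j
      exact (c j).left.isOpenMap
    · rw [hA j]
      have := hi j
      exact (i j).left.isLocallyClosed_range
  let Z₀ : Z.left.Opens := ⟨coborder (imageSet π), hopen⟩
  obtain ⟨π₀, hπ₀⟩ := exists_factor_open hT π Z₀ subset_coborder
  have hrange : ∀ j, Set.range (i j).left ⊆ Set.range ((c j).left ⁻¹ᵁ Z₀).ι := by
    intro j
    rw [Scheme.Opens.range_ι, ← hA j]
    exact Set.preimage_mono subset_coborder
  let i₁ : ∀ j, (V j).left ⟶ ((c j).left ⁻¹ᵁ Z₀).toScheme := fun j =>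
    IsOpenImmersion.lift ((c j).left ⁻¹ᵁ Z₀).ι (i j).left (hrange j)
  have hi₁ : ∀ j, i₁ j ≫ ((c j).left ⁻¹ᵁ Z₀).ι = (i j).left := fun j => IsOpenImmersion.lift_fac _ _ _
  let i' : ∀ j, V j ⟶ overOpen (W j) ((c j).left ⁻¹ᵁ Z₀) := fun j => Over.homMk (i₁ j) (by
    simp only [overOpen, Over.mk_hom]
    rw [← Category.assoc, hi₁, Over.w])
  have hi' : ∀ j, i' j ≫ overOpenι (W j) ((c j).left ⁻¹ᵁ Z₀) = i j := fun j => Over.OverMorphism.ext (hi₁ j)
  have hcl : ∀ j, IsClosedImmersion (i' j).left := by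
    intro j
    show IsClosedImmersion (i₁ j)
    have := hi j
    have h1 : IsPreimmersion (i₁ j ≫ ((c j).left ⁻¹ᵁ Z₀).ι) := by rw [hi₁]; infer_instance
    have h2 : IsPreimmersion (i₁ j) := .of_comp (i₁ j) ((c j).left ⁻¹ᵁ Z₀).ι
    refine .of_isPreimmersion _ ?_
    have h3 : Set.range (i₁ j) = (((c j).left ⁻¹ᵁ Z₀).ι ≫ (c j).left) ⁻¹' closure (imageSet π) := by
      ext u
      constructor
      · rintro ⟨v, rfl⟩
        apply subset_closure
        have h4 : (i j).left v ∈ (c j).left ⁻¹' imageSet π := by rw [hA j]; exact ⟨v, rfl⟩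
        rw [← hi₁ j] at h4
        exact h4
      · intro hu
        have h4 : (c j).left (((c j).left ⁻¹ᵁ Z₀).ι u) ∈ coborder (imageSet π) ∩ closure (imageSet π) :=
          ⟨u.2, hu⟩
        rw [coborder_inter_closure] at h4
        have h5 : ((c j).left ⁻¹ᵁ Z₀).ι u ∈ Set.range (i j).left := by rw [← hA j]; exact h4
        obtain ⟨v, hv⟩ := h5
        refine ⟨v, ?_⟩
        apply ((c j).left ⁻¹ᵁ Z₀).ι.isOpenEmbedding.injective
        rw [← Scheme.Hom.comp_apply, hi₁ j, hv]
    rw [h3]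
    exact isClosed_closure.preimage (Scheme.Hom.continuous _)
  have sq' : ∀ j, IsPullback (fst j) ((yon S).map (i' j)) π₀ ((yon S).map (overRestrict (c j) Z₀)) := by
    intro j
    have : Mono (overOpenι (W j) ((c j).left ⁻¹ᵁ Z₀)) :=
      (Over.forget S).mono_of_mono_map (inferInstanceAs (Mono ((c j).left ⁻¹ᵁ Z₀).ι))
    have : Mono (overOpenι Z Z₀) := (Over.forget S).mono_of_mono_map (inferInstanceAs (Mono Z₀.ι))
    refine isPullback_of_mono_factor (ιY := (yon S).map (overOpenι (W j) ((c j).left ⁻¹ᵁ Z₀)))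
      (ιZ := (yon S).map (overOpenι Z Z₀)) (g := (yon S).map (c j)) ?_ ?_
    · rw [← Functor.map_comp, ← Functor.map_comp, (isPullback_overRestrict (c j) Z₀).w]
    · rw [← Functor.map_comp, hi', hπ₀]
      exact sq j
  have hrep : RepWith @IsClosedImmersion π₀ := by
    have := Groth.Agent.S0083.result.{u}
    exact repWith_of_fpqcRefines_of_le_isAffineHom
      (fun _ _ f hf => by have : IsClosedImmersion f := hf; infer_instance)
      (IsAlgSpace.yon_obj _) _ _ (fpqcRefines_restrict hZ W c hWa hcf hcs Z₀) hT π₀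
      (fun j => (yon S).obj (V j.down)) (fun j => (yon S).map (i' j.down)) (fun j => fst j.down)
      (fun j => sq' j.down) (fun j => (repWith_yon_map_iff _ _).2 (hcl j.down))
  obtain ⟨T₀, i₀, e, sqT⟩ := hrep.rep (𝟙 _)
  have hi₀ : IsClosedImmersion i₀.left := hrep.property _ _ _ sqT
  refine ⟨T₀, i₀ ≫ overOpenι Z Z₀, e, sqT.isIso_fst_of_isIso, ?_, ?_⟩
  · rw [← hπ₀, ← Category.assoc, sqT.w, Category.comp_id, Functor.map_comp]
  · show IsImmersion (i₀.left ≫ Z₀.ι)
    infer_instance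

end Groth.Agent.Lib.Helper16.ImmDesc
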