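import Groth.Agent.Lib.Helper16.FiltCore3
import Groth.Agent.Lib.Helper16.DenseFin3
import Groth.Agent.Lib.Helper16.QcOpen
import Groth.Agent.Lib.Helper16.QuasiCompact
import Groth.Agent.Lib.Helper16.ThickOpen
import Groth.Agent.Lib.Helper16.SchLocus
import Groth.Agent.Lib.Helper15.AlgSpLocSpectral
import Groth.Agent.S10192

/-!
# Helper library (helper16): the induction principle for quasi-compact quasi-separated algebraic spaces
-/

set_option autoImplicit false
universe u
open CategoryTheory CategoryTheory.Limits AlgebraicGeometry Opposite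

namespace Groth.Agent.Lib.Helper16.IndPrin

open AlgSp Strata Tuple QuotFin Groth.Agent.Lib.Helper15 Groth.Agent.Lib.Helper16 Groth.Agent.Lib.Helper16.Filt

variable {S : Scheme.{u}}

/-- The elementary distinguished square attached to an etale chart which is injective away from an open. -/
theorem isElemDistSq_step {X W₁ W₂ : Sp S} (hX : IsAlgSpace X) (hW₂ : IsAlgSpace W₂)
    (O₁ : Set (Points X)) {A : Over S} (g : (yon S).obj A ⟶ X) (hge : RepWith @Etale g)
    (hM : ∀ (T : Over S) (v v' : T ⟶ A), (yon S).map v ≫ g = (yon S).map v' ≫ g →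
        (∀ t : T.left, Points.ofPt ((yon S).map v ≫ g) t ∉ O₁) → v = v')
    (j₁ : W₁ ⟶ X) (j₂ : W₂ ⟶ X) (k : W₁ ⟶ W₂) (hk : k ≫ j₂ = j₁)
    (hj₁ : RepWith @IsOpenImmersion j₁) (hj₂ : RepWith @IsOpenImmersion j₂)
    (hr₁ : Set.range (Points.map j₁) = O₁)
    (hr₂ : Set.range (Points.map j₂) = O₁ ∪ Set.range (Points.ofPt g))
    (f : (yon S).obj A ⟶ W₂) (hf : f ≫ j₂ = g) :
    IsElemDistSq k f := by
  haveI : Mono j₂ := mono_of_repWith_isOpenImmersion j₂ hj₂
  have hinj : Function.Injective (Points.map j₂) := points_map_injective_of_mono j₂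
  have hko : RepWith @IsOpenImmersion k := repWith_of_comp_mono _ k j₂ (by rw [hk]; exact hj₁)
  have hfe : RepWith @Etale f := repWith_of_comp_mono _ f j₂ (by rw [hf]; exact hge)
  have hrk : Set.range (Points.map k) = Points.map j₂ ⁻¹' O₁ := by
    ext y
    constructor
    · rintro ⟨z, rfl⟩
      show Points.map j₂ (Points.map k z) ∈ O₁
      rw [← Points.map_comp, hk, ← hr₁]
      exact ⟨z, rfl⟩
    · intro hy
      have hy' : Points.map j₂ y ∈ O₁ := hy
      rw [← hr₁] at hy'
      obtain ⟨z, hz⟩ := hy'
      refine ⟨z, hinj ?_⟩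
      rw [← Points.map_comp, hk, hz]
  have hO₁open : IsOpen O₁ := by
    rw [← hr₁]
    exact (Thick.isOpenMap_points_of_openImmersion hX j₁ hj₁).isOpen_range
  have hclosed : IsClosed (Set.range (Points.map k))ᶜ := by
    rw [hrk, isClosed_compl_iff]
    exact hO₁open.preimage (Points.continuous_map _)
  obtain ⟨T', i, hi⟩ := Groth.Agent.S10192.result ⟨W₂, hW₂⟩ _ hclosed
  have sqP := IsPullback.of_hasPullback i.hom f
  refine ⟨hko, fun U φ hφ => (RepWith (S := S) @Etale).comp_mem _ _ hφ hfe, T'.obj, pullback i.hom f, i.hom,
    pullback.fst i.hom f, pullback.snd i.hom f, hi, sqP, ?_⟩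
  have hp₁e : RepWith @Etale (pullback.fst i.hom f) := (RepWith (S := S) @Etale).of_isPullback sqP.flip hfe
  have hnotk : ∀ y : Points T'.obj, Points.map j₂ (Points.map i.hom y) ∉ O₁ := by
    intro y h
    have hx : Points.map i.hom y ∈ (Set.range (Points.map k))ᶜ := by
      rw [← hi.2.1]
      exact ⟨y, rfl⟩
    exact hx (hrk.superset h)
  have hp₁s : RepWith @Surjective (pullback.fst i.hom f) := by
    rw [repWith_surjective_iff _ hp₁e.1]
    intro y
    have hx2 : Points.map j₂ (Points.map i.hom y) ∈ O₁ ∪ Set.range (Points.ofPt g) := by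
      rw [← hr₂]
      exact ⟨_, rfl⟩
    rcases hx2 with h | ⟨a₀, ha₀⟩
    · exact absurd h (hnotk y)
    · have h3 : Points.ofPt f a₀ = Points.map i.hom y := by
        apply hinj
        rw [Points.map_ofPt, hf, ha₀]
      obtain ⟨v, hv1, -⟩ := exists_point_of_isPullback sqP y (Points.ofScheme A a₀)
        (by rw [← Points.ofPt_eq_map_ofScheme, h3])
      exact ⟨v, hv1⟩
  have hepi : Epi (pullback.fst i.hom f) := by
    have : Sheaf.IsLocallySurjective (pullback.fst i.hom f) :=
      isLocallySurjective_of_repWith_fppf _
        (MorphismProperty.relative_monotone (fun A B m hm => by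
          have : Etale m.left := hm
          exact (inferInstance : Flat m.left)) _ hp₁e)
        (MorphismProperty.relative_monotone (fun A B m hm => by
          have : Etale m.left := hm
          exact (inferInstance : LocallyOfFinitePresentation m.left)) _ hp₁e) hp₁s
    infer_instance
  have hmono : Mono (pullback.fst i.hom f) := by
    constructor
    intro Z α β hαβ
    apply sp_hom_ext
    intro T'' z
    apply sqP.hom_ext
    · rw [Category.assoc, Category.assoc, hαβ]
    · obtain ⟨v, hv⟩ := (yon S).map_surjective ((z ≫ α) ≫ pullback.snd i.hom f)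
      obtain ⟨v', hv'⟩ := (yon S).map_surjective ((z ≫ β) ≫ pullback.snd i.hom f)
      have key : ∀ γ : (yon S).obj T'' ⟶ pullback i.hom f,
          (γ ≫ pullback.snd i.hom f) ≫ g = (γ ≫ pullback.fst i.hom f) ≫ i.hom ≫ j₂ := fun γ => by
        rw [← hf, Category.assoc, ← Category.assoc (pullback.snd i.hom f), ← sqP.w]
        simp only [Category.assoc]
      have hfst : (z ≫ α) ≫ pullback.fst i.hom f = (z ≫ β) ≫ pullback.fst i.hom f := by
        rw [Category.assoc, Category.assoc, hαβ]
      have h1 : (yon S).map v ≫ g = (yon S).map v' ≫ g := by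
        rw [hv, hv', key, key, hfst]
      have h2 : ∀ t : T''.left, Points.ofPt ((yon S).map v ≫ g) t ∉ O₁ := by
        intro t ht
        rw [hv, key, ← Points.map_ofPt, Points.map_comp] at ht
        exact hnotk _ ht
      rw [← hv, ← hv', hM T'' v v' h1 h2]
  exact isIso_of_mono_of_epi _

/-- The topological form of the induction principle: a property of open subsets which is inherited by the union with
the image of an affine etale chart injective away from the open holds for the whole space as soon as it holds for one
open. -/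
theorem induction_opens [QuasiSeparatedSpace ↥S] (X : AlgSp.Space S)
    (hqc : IsQuasiCompactSp X.obj) (hqs : IsQuasiSeparatedSp X.obj)
    (Q : Set (Points X.obj) → Prop)
    (hstep : ∀ (O : Set (Points X.obj)), IsOpen O → Q O → ∀ (A : Over S) (g : (yon S).obj A ⟶ X.obj),
      IsAffine A.left → RepWith @Etale g →
      (∀ (T : Over S) (v v' : T ⟶ A), (yon S).map v ≫ g = (yon S).map v' ≫ g →
        (∀ t : T.left, Points.ofPt ((yon S).map v ≫ g) t ∉ O) → v = v') →
      Q (O ∪ Set.range (Points.ofPt g)))
    (O₀ : Set (Points X.obj)) (hO₀ : IsOpen O₀) (h₀ : Q O₀) : Q Set.univ := by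
  classical
  obtain ⟨U, a, hU, hae, has⟩ := DenseFin.exists_affine_chart_of_isQuasiCompactSp hqc
  have : IsAffine U.left := hU
  have hrep := X.property.representable_from_yon a
  obtain ⟨R, sn, fstR, sqR⟩ := hrep a
  obtain ⟨c, rfl⟩ := (yon S).map_surjective fstR
  have haq : RepWith @QuasiCompact a :=
    repWith_quasiCompact_of_isQuasiCompactMor a hrep
      (QcOpen.isQuasiCompactMor_of_isQuasiCompactSp (IsAlgSpace.yon_obj U) X.property
        (isQuasiCompactSp_yon_of_compactSpace U) hqs a)
  have hsnet : Etale sn.left := hae.property _ _ _ sqR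
  have hsnqc : QuasiCompact sn.left := haq.property _ _ _ sqR
  have hRc : CompactSpace ↥R.left := QuasiCompact.compactSpace_of_compactSpace sn.left
  have hsnsep : IsSeparated sn.left := isSeparated_sn sqR
  obtain ⟨n, hn⟩ := UBF.hasUnivBddFibres_yon_map_of_etale sn
  have hDopen : ∀ d, IsOpen (degGE a sn d) := fun d => isOpen_degGE hae d
  have hD1 : degGE a sn 1 = Set.univ := degGE_one has sqR
  have hDn : degGE a sn (n + 1) = ∅ := by
    ext x
    simp only [Set.mem_empty_iff_false, iff_false]
    rintro ⟨u, -, hu⟩
    have := Filt.hasDeg_le_of_degFibresLE sn hn u (n + 1) hu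
    omega
  have key : ∀ m k : ℕ, k + m = n → Q (O₀ ∪ degGE a sn (k + 1)) := by
    intro m
    induction m with
    | zero =>
      intro k hk
      rw [Nat.add_zero] at hk
      rw [hk, hDn, Set.union_empty]
      exact h₀
    | succ m ih =>
      intro k hk
      have ih' : Q (O₀ ∪ degGE a sn (k + 1 + 1)) := ih (k + 1) (by omega)
      obtain ⟨V, f', hVsep, hf'et, hf'range, hM, hVc⟩ := exists_quotient_tuple X.property hae sqR k
      haveI : CompactSpace ↥V.left := hVc haq
      obtain ⟨s, hsfin, hsU⟩ := (isCompact_and_isOpen_iff_finite_and_eq_biUnion_affineOpens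
        (X := V.left) (U := Set.univ)).1 ⟨isCompact_univ, isOpen_univ⟩
      have inner : ∀ t : Finset V.left.affineOpens,
          Q (O₀ ∪ degGE a sn (k + 1 + 1) ∪
            ⋃ b ∈ t, Points.ofPt f' '' ((b : V.left.Opens) : Set ↥V.left)) := by
        intro t
        induction t using Finset.induction_on with
        | empty => simpa using ih'
        | insert b t hb iht =>
          have hopen : IsOpen (O₀ ∪ degGE a sn (k + 1 + 1) ∪
              ⋃ b ∈ t, Points.ofPt f' '' ((b : V.left.Opens) : Set ↥V.left)) :=
            (hO₀.union (hDopen _)).union (isOpen_biUnion fun b _ =>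
              isOpenMap_ofPt_of_etale f' hf'et _ (b : V.left.Opens).isOpen)
          have hthis := hstep _ hopen iht (overOpen V b.1) ((yon S).map (overOpenι V b.1) ≫ f') b.2
            (repWith_etale_restrict f' hf'et b.1) (by
              intro T v v' h1 h2
              have hvv : v ≫ overOpenι V b.1 = v' ≫ overOpenι V b.1 := by
                apply hM T (v ≫ overOpenι V b.1) (v' ≫ overOpenι V b.1)
                · rw [Functor.map_comp, Functor.map_comp, Category.assoc, Category.assoc]
                  exact h1
                · intro t' ht'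
                  apply h2 t'
                  rw [Functor.map_comp, Category.assoc] at ht'
                  exact Or.inl (Or.inr ht')
              haveI : Mono (overOpenι V b.1).left := by
                show Mono b.1.ι
                infer_instance
              haveI : Mono (overOpenι V b.1) := Over.mono_of_mono_left _
              exact (cancel_mono (overOpenι V b.1)).1 hvv)
          rw [Groth.Agent.Lib.Helper15.AlgSpLocSpectral.range_ofPt_restrict] at hthis
          rw [Finset.set_biUnion_insert]
          have hset : O₀ ∪ degGE a sn (k + 1 + 1) ∪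
              (Points.ofPt f' '' ((b : V.left.Opens) : Set ↥V.left) ∪
                ⋃ x ∈ t, Points.ofPt f' '' ((x : V.left.Opens) : Set ↥V.left)) =
              O₀ ∪ degGE a sn (k + 1 + 1) ∪
                (⋃ x ∈ t, Points.ofPt f' '' ((x : V.left.Opens) : Set ↥V.left)) ∪
                  Points.ofPt f' '' ((b : V.left.Opens) : Set ↥V.left) := by
            ext x
            simp only [Set.mem_union]
            tauto
          rw [hset]
          exact hthis
      have hfin := inner hsfin.toFinset
      have hUn : (⋃ b ∈ hsfin.toFinset, Points.ofPt f' '' ((b : V.left.Opens) : Set ↥V.left)) =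
          degGE a sn (k + 1) := by
        rw [← hf'range, SchLocus.range_map_yon, ← Set.image_univ, hsU, Set.image_iUnion₂]
        ext x
        simp only [Set.mem_iUnion, Set.Finite.mem_toFinset]
      rw [hUn] at hfin
      have hlast : O₀ ∪ degGE a sn (k + 1 + 1) ∪ degGE a sn (k + 1) = O₀ ∪ degGE a sn (k + 1) := by
        rw [Set.union_assoc, Set.union_eq_self_of_subset_left (degGE_anti (Nat.le_succ (k + 1)))]
      rw [hlast] at hfin
      exact hfin
  have hfinal := key n 0 (by omega)
  rwa [hD1, Set.union_univ] at hfinal

end Groth.Agent.Lib.Helper16.IndPrin
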