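import Groth.Agent.Lib.Helper16.IndPrin
import Groth.Agent.Lib.Helper15.OpenLocusInst
import Groth.Agent.Lib.Helper6.LimSp21
import Groth.Prelude.Def_AlgSpEt

/-!
# Helper library (helper16): the induction principle for quasi-compact quasi-separated algebraic spaces, family form
-/

set_option autoImplicit false
universe u
open CategoryTheory CategoryTheory.Limits AlgebraicGeometry Opposite

namespace Groth.Agent.Lib.Helper16.IndPrin

open AlgSp Groth.Agent.Lib.Helper15 Groth.Agent.Lib.Helper16 Groth.Agent.Lib.Helper16.Filt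

variable {S : Scheme.{u}}

/-- The pullback of a monomorphism along a chart is an open subscheme as soon as it is so on points. -/
theorem isPullback_of_openImmersion {F' F : Sp S} (j : F' ⟶ F) [Mono j] {T T' : Over S}
    (a : (yon S).obj T ⟶ F) (m : T' ⟶ T) [IsOpenImmersion m.left]
    (hV : ∀ t : T.left, Points.ofPt a t ∈ Set.range (Points.map j) → t ∈ Set.range m.left)
    (fst : (yon S).obj T' ⟶ F') (hfst : fst ≫ j = (yon S).map m ≫ a) :
    IsPullback fst ((yon S).map m) j a := by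
  have hιo : RepWith @IsOpenImmersion ((yon S).map m) :=
    (repWith_yon_map_iff _ _).2 (inferInstanceAs (IsOpenImmersion m.left))
  have hmι : Mono ((yon S).map m) := mono_of_repWith_isOpenImmersion _ hιo
  let c : (yon S).obj T' ⟶ pullback j a := pullback.lift fst _ hfst
  have hc1 : c ≫ pullback.fst _ _ = fst := pullback.lift_fst _ _ _
  have hc2 : c ≫ pullback.snd _ _ = (yon S).map m := pullback.lift_snd _ _ _
  have hmono : Mono c := mono_of_mono_fac hc2
  have hlift : ∀ (T'' : Over S) (y : (yon S).obj T'' ⟶ pullback j a),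
      ∃ x : (yon S).obj T'' ⟶ (yon S).obj T', x ≫ c = y := by
    intro T'' y
    obtain ⟨β, hβ⟩ := (yon S).map_surjective (y ≫ pullback.snd _ _)
    have hw : (y ≫ pullback.fst _ _) ≫ j = (yon S).map β ≫ a := by
      rw [Category.assoc, pullback.condition, ← Category.assoc, hβ]
    have hmem : ∀ t', β.left t' ∈ Set.range m.left := by
      intro t'
      apply hV
      rw [← ofPt_yon_map_comp, ← hw, ← Points.map_ofPt]
      exact ⟨_, rfl⟩
    have hr : Set.range β.left ⊆ Set.range m.left := by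
      rintro _ ⟨t', rfl⟩
      exact hmem t'
    let β' : T'' ⟶ T' := Over.homMk (IsOpenImmersion.lift m.left β.left hr) (by
      rw [← Over.w m, ← Category.assoc, IsOpenImmersion.lift_fac]
      exact Over.w β)
    have hβ' : β' ≫ m = β := by
      ext
      exact IsOpenImmersion.lift_fac _ _ _
    refine ⟨(yon S).map β', ?_⟩
    apply pullback.hom_ext
    · rw [Category.assoc, hc1, ← cancel_mono j, Category.assoc, hfst, ← Category.assoc,
        ← Functor.map_comp, hβ', hw]
    · rw [Category.assoc, hc2, ← Functor.map_comp, hβ', hβ]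
  have hepi : Epi c := by
    rw [epi_iff_locally_lift]
    intro T'' y
    refine ⟨⊤, (J S).top_mem T'', ?_⟩
    intro T''' g _
    exact hlift T''' _
  have hiso : IsIso c := isIso_of_mono_of_epi c
  exact IsPullback.of_iso_pullback ⟨hfst⟩ (asIso c) hc1 hc2

section Obj

variable {X : AlgSp.Space S} (W₀ : EtSpOver X)

/-- A scheme etale over an object of the site of spaces etale over `X`, as an object of that site. -/
noncomputable def chartObj {A : Over S} (g : (yon S).obj A ⟶ W₀.obj.left.obj) (hg : RepWith @Etale g) :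
    EtSpOver X :=
  ⟨Over.mk (Y := (⟨(yon S).obj A, IsAlgSpace.yon_obj A⟩ : AlgSp.Space S))
    ((ObjectProperty.homMk g : (⟨(yon S).obj A, IsAlgSpace.yon_obj A⟩ : AlgSp.Space S) ⟶ W₀.obj.left) ≫
      W₀.obj.hom),
    fun U φ hφ => by
      have := W₀.property (φ ≫ g) ((RepWith (S := S) @Etale).comp_mem _ _ hφ hg)
      rw [Category.assoc] at this
      exact this⟩

/-- A morphism of charts. -/
noncomputable def chartMap {A A' : Over S} (g : (yon S).obj A ⟶ W₀.obj.left.obj) (hg : RepWith @Etale g)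
    (g' : (yon S).obj A' ⟶ W₀.obj.left.obj) (hg' : RepWith @Etale g') (m : A' ⟶ A)
    (hm : (yon S).map m ≫ g = g') : chartObj W₀ g' hg' ⟶ chartObj W₀ g hg :=
  ObjectProperty.homMk (Over.homMk
    (ObjectProperty.homMk ((yon S).map m) :
      (⟨(yon S).obj A', IsAlgSpace.yon_obj A'⟩ : AlgSp.Space S) ⟶ ⟨(yon S).obj A, IsAlgSpace.yon_obj A⟩) (by
    apply ObjectProperty.hom_ext
    show (yon S).map m ≫ g ≫ W₀.obj.hom.hom = g' ≫ W₀.obj.hom.hom
    rw [← Category.assoc, hm]))

/-- An open subspace of an object of the site of spaces etale over `X`, as an object of that site. -/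
noncomputable def openObj (O : Set (Points W₀.obj.left.obj)) (hO : IsOpen O) : EtSpOver X :=
  ⟨Over.mk (Y := (⟨openSub W₀.obj.left.obj O, isAlgSpace_openSub W₀.obj.left.property O hO⟩ : AlgSp.Space S))
    ((ObjectProperty.homMk (openSubι W₀.obj.left.obj O) :
      (⟨openSub W₀.obj.left.obj O, isAlgSpace_openSub W₀.obj.left.property O hO⟩ : AlgSp.Space S) ⟶
        W₀.obj.left) ≫ W₀.obj.hom),
    fun U φ hφ => by
      have hι : RepWith @Etale (openSubι W₀.obj.left.obj O) :=
        repWith_etale_of_isOpenImmersion _ (repWith_isOpenImmersion_openSubι O hO)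
      have := W₀.property (φ ≫ openSubι _ O) ((RepWith (S := S) @Etale).comp_mem _ _ hφ hι)
      rw [Category.assoc] at this
      exact this⟩

/-- The inclusion of an open subspace. -/
noncomputable def openHom (O : Set (Points W₀.obj.left.obj)) (hO : IsOpen O) : openObj W₀ O hO ⟶ W₀ :=
  ObjectProperty.homMk (Over.homMk
    (ObjectProperty.homMk (openSubι W₀.obj.left.obj O) :
      (⟨openSub W₀.obj.left.obj O, isAlgSpace_openSub W₀.obj.left.property O hO⟩ : AlgSp.Space S) ⟶
        W₀.obj.left) rfl)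

end Obj

section Opens

variable (A₀ : Over S)

/-- The inclusion of open subschemes, over `S`. -/
noncomputable def incl {Z₁ Z₂ : A₀.left.Opens} (h : Z₁ ≤ Z₂) : overOpen A₀ Z₁ ⟶ overOpen A₀ Z₂ :=
  Over.homMk (A₀.left.homOfLE h) (by
    show A₀.left.homOfLE h ≫ Z₂.ι ≫ A₀.hom = Z₁.ι ≫ A₀.hom
    rw [Scheme.homOfLE_ι_assoc])

instance {Z₁ Z₂ : A₀.left.Opens} (h : Z₁ ≤ Z₂) : IsOpenImmersion (incl A₀ h).left := by
  show IsOpenImmersion (A₀.left.homOfLE h)
  infer_instance

theorem incl_ι {Z₁ Z₂ : A₀.left.Opens} (h : Z₁ ≤ Z₂) : incl A₀ h ≫ overOpenι A₀ Z₂ = overOpenι A₀ Z₁ := by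
  ext
  exact Scheme.homOfLE_ι _ h

theorem incl_comp {Z₁ Z₂ Z₃ : A₀.left.Opens} (h : Z₁ ≤ Z₂) (h' : Z₂ ≤ Z₃) :
    incl A₀ h ≫ incl A₀ h' = incl A₀ (h.trans h') := by
  ext
  exact Scheme.homOfLE_homOfLE _ h h'

theorem incl_left_apply {Z₁ Z₂ : A₀.left.Opens} (h : Z₁ ≤ Z₂) (z : ↥(overOpen A₀ Z₁).left) :
    ((incl A₀ h).left z).1 = z.1 :=
  Scheme.homOfLE_apply h z

theorem incl_chart {F : Sp S} (g₀ : (yon S).obj A₀ ⟶ F) {Z₁ Z₂ : A₀.left.Opens} (h : Z₁ ≤ Z₂) :
    (yon S).map (incl A₀ h) ≫ ((yon S).map (overOpenι A₀ Z₂) ≫ g₀) = (yon S).map (overOpenι A₀ Z₁) ≫ g₀ := by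
  rw [← Category.assoc, ← Functor.map_comp, incl_ι]

theorem mono_incl {Z₁ Z₂ : A₀.left.Opens} (h : Z₁ ≤ Z₂) : Mono (incl A₀ h) := by
  haveI : Mono (incl A₀ h).left := by
    show Mono (A₀.left.homOfLE h)
    infer_instance
  exact Over.mono_of_mono_left _

end Opens

theorem ofPt_yon_map {T T' : Over S} (φ : T ⟶ T') (t : ↥T.left) :
    Points.ofPt ((yon S).map φ) t = Points.ofScheme T' (φ.left t) := by
  have := ofPt_yon_map_comp φ (𝟙 ((yon S).obj T')) t
  rwa [Category.comp_id] at this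

theorem hM_of_mono {A A' : Over S} (m : A' ⟶ A) [Mono m] (O : Set (Points ((yon S).obj A))) :
    ∀ (T : Over S) (v v' : T ⟶ A'), (yon S).map v ≫ (yon S).map m = (yon S).map v' ≫ (yon S).map m →
      (∀ t : T.left, Points.ofPt ((yon S).map v ≫ (yon S).map m) t ∉ O) → v = v' := by
  intro T v v' h _
  rw [← Functor.map_comp, ← Functor.map_comp] at h
  exact (cancel_mono m).1 ((yon S).map_injective h)

section Family

variable {X : AlgSp.Space S} (B P : EtSpOver X → Prop)

/-- Mayer-Vietoris induction: the property holds for all quasi-compact opens of an affine etale chart. -/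
theorem mv
    (h2 : ∀ (W U : EtSpOver X) (j : U ⟶ W), B W → RepWith @IsOpenImmersion j.hom.left.hom →
      IsQuasiCompactSp U.obj.left.obj → B U)
    (h3 : ∀ (V : EtSpOver X) (T : Over S), IsAffine T.left →
      Nonempty ((yon S).obj T ≅ V.obj.left.obj) → B V ∧ P V)
    (h4 : ∀ (W U V UV : EtSpOver X) (j : U ⟶ W) (f : V ⟶ W) (p : UV ⟶ U) (q : UV ⟶ V),
      B W → IsQuasiCompactSp U.obj.left.obj →
      (∃ T : Over S, IsAffine T.left ∧ Nonempty ((yon S).obj T ≅ V.obj.left.obj)) →
      IsElemDistSq j.hom.left.hom f.hom.left.hom →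
      IsPullback p.hom.left.hom q.hom.left.hom j.hom.left.hom f.hom.left.hom →
      P U → P V → P UV → P W)
    (W₀ : EtSpOver X) {A₀ : Over S} (hA₀ : IsAffine A₀.left) (g₀ : (yon S).obj A₀ ⟶ W₀.obj.left.obj)
    (hg₀ : RepWith @Etale g₀) :
    ∀ (n : ℕ) (t : Finset A₀.left.affineOpens), t.card ≤ n → ∀ Z : A₀.left.Opens,
      Z = ⨆ b ∈ t, (b : A₀.left.Opens) →
      P (chartObj W₀ ((yon S).map (overOpenι A₀ Z) ≫ g₀) (repWith_etale_restrict g₀ hg₀ Z)) := by
  classical
  haveI := hA₀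
  have hE : ∀ Z, RepWith @Etale ((yon S).map (overOpenι A₀ Z) ≫ g₀) := fun Z =>
    repWith_etale_restrict g₀ hg₀ Z
  have hcompact : ∀ (t : Finset A₀.left.affineOpens) (Z : A₀.left.Opens),
      Z = ⨆ b ∈ t, (b : A₀.left.Opens) → CompactSpace ↥(overOpen A₀ Z).left := by
    intro t Z hZ
    have hc : IsCompact (Z : Set ↥A₀.left) := by
      rw [hZ]
      have : ((⨆ b ∈ t, (b : A₀.left.Opens) : A₀.left.Opens) : Set ↥A₀.left) =
          ⋃ b ∈ t, ((b : A₀.left.Opens) : Set ↥A₀.left) := by simp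
      rw [this]
      exact t.isCompact_biUnion fun b _ => b.2.isCompact
    exact isCompact_iff_compactSpace.1 hc
  have hBZ : ∀ (t : Finset A₀.left.affineOpens) (Z : A₀.left.Opens),
      Z = ⨆ b ∈ t, (b : A₀.left.Opens) →
      B (chartObj W₀ ((yon S).map (overOpenι A₀ Z) ≫ g₀) (hE Z)) := by
    intro t Z hZ
    haveI := hcompact t Z hZ
    refine h2 (chartObj W₀ g₀ hg₀) _ (chartMap W₀ g₀ hg₀ _ (hE Z) (overOpenι A₀ Z) rfl)
      (h3 _ A₀ hA₀ ⟨Iso.refl _⟩).1 ?_ (isQuasiCompactSp_yon_of_compactSpace (overOpen A₀ Z))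
    exact (repWith_yon_map_iff _ _).2 (by show IsOpenImmersion Z.ι; infer_instance)
  have hempty : ∀ Z : A₀.left.Opens, Z = ⊥ →
      P (chartObj W₀ ((yon S).map (overOpenι A₀ Z) ≫ g₀) (hE Z)) := by
    intro Z hZ
    subst hZ
    exact (h3 _ (overOpen A₀ ⊥) (isAffineOpen_bot A₀.left) ⟨Iso.refl _⟩).2
  intro n
  induction n with
  | zero =>
    intro t ht Z hZ
    have ht0 : t = ∅ := Finset.card_eq_zero.1 (Nat.le_zero.1 ht)
    apply hempty
    rw [hZ, ht0]
    simp
  | succ n ih =>
    intro t ht Z hZ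
    rcases t.eq_empty_or_nonempty with ht0 | ⟨b, hb⟩
    · apply hempty
      rw [hZ, ht0]
      simp
    · have hins : insert b (t.erase b) = t := Finset.insert_erase hb
      have hcard : (t.erase b).card ≤ n := by
        have := Finset.card_erase_of_mem hb
        omega
      obtain ⟨Z', hZ'⟩ : ∃ Z' : A₀.left.Opens, Z' = ⨆ c ∈ t.erase b, (c : A₀.left.Opens) := ⟨_, rfl⟩
      have hZeq : Z = (b : A₀.left.Opens) ⊔ Z' := by
        rw [hZ, hZ', ← Finset.iSup_insert, hins]
      have hbZ : (b : A₀.left.Opens) ≤ Z := hZeq ▸ le_sup_left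
      have hZ'Z : Z' ≤ Z := hZeq ▸ le_sup_right
      obtain ⟨Zb, hZb⟩ : ∃ Zb : A₀.left.Opens, Zb = (b : A₀.left.Opens) ⊓ Z' := ⟨_, rfl⟩
      have hZbb : Zb ≤ (b : A₀.left.Opens) := hZb ▸ inf_le_left
      have hZbZ' : Zb ≤ Z' := hZb ▸ inf_le_right
      let tb : Finset A₀.left.affineOpens := (t.erase b).image
        (fun c : A₀.left.affineOpens =>
          (⟨(b : A₀.left.Opens) ⊓ (c : A₀.left.Opens), b.2.inf c.2⟩ : A₀.left.affineOpens))
      have htb : tb.card ≤ n := Finset.card_image_le.trans hcard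
      have hZbeq : Zb = ⨆ c ∈ tb, (c : A₀.left.Opens) := by
        rw [hZb, hZ', Finset.iSup_finset_image, inf_iSup₂_eq]
      have hP' := ih (t.erase b) hcard Z' hZ'
      have hPb : P (chartObj W₀ ((yon S).map (overOpenι A₀ (b : A₀.left.Opens)) ≫ g₀) (hE _)) :=
        (h3 _ (overOpen A₀ b) b.2 ⟨Iso.refl _⟩).2
      have hPZb := ih tb htb Zb hZbeq
      haveI := hcompact (t.erase b) Z' hZ'
      haveI hmZ' : Mono ((yon S).map (incl A₀ hZ'Z)) :=
        mono_of_repWith_isOpenImmersion _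
          ((repWith_yon_map_iff _ _).2 (inferInstanceAs (IsOpenImmersion (incl A₀ hZ'Z).left)))
      haveI := mono_incl A₀ hbZ
      -- covering
      have hcover : Set.range (Points.map (𝟙 ((yon S).obj (overOpen A₀ Z)))) =
          Set.range (Points.map ((yon S).map (incl A₀ hZ'Z))) ∪
            Set.range (Points.ofPt ((yon S).map (incl A₀ hbZ))) := by
        refine Set.Subset.antisymm ?_ (fun x _ => Set.mem_range.2 ⟨x, Points.map_id x⟩)
        rintro x -
        obtain ⟨z, rfl⟩ : ∃ z, Points.ofScheme (overOpen A₀ Z) z = x :=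
          ⟨Points.toScheme (overOpen A₀ Z) x, Points.ofScheme_toScheme (overOpen A₀ Z) x⟩
        have hz : z.1 ∈ (b : A₀.left.Opens) ⊔ Z' := hZeq ▸ z.2
        rcases hz with hz | hz
        · right
          refine ⟨⟨z.1, hz⟩, ?_⟩
          rw [ofPt_yon_map]
          congr 1
          exact Subtype.ext (incl_left_apply A₀ hbZ _)
        · left
          rw [SchLocus.range_map_yon]
          refine ⟨⟨z.1, hz⟩, ?_⟩
          rw [ofPt_yon_map]
          congr 1
          exact Subtype.ext (incl_left_apply A₀ hZ'Z _)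
      have hsq : IsElemDistSq ((yon S).map (incl A₀ hZ'Z)) ((yon S).map (incl A₀ hbZ)) :=
        isElemDistSq_step (IsAlgSpace.yon_obj _) (IsAlgSpace.yon_obj _)
          (Set.range (Points.map ((yon S).map (incl A₀ hZ'Z)))) ((yon S).map (incl A₀ hbZ))
          ((repWith_yon_map_iff _ _).2 (by
            show Etale (A₀.left.homOfLE hbZ)
            infer_instance))
          (hM_of_mono (incl A₀ hbZ) _) ((yon S).map (incl A₀ hZ'Z)) (𝟙 _) ((yon S).map (incl A₀ hZ'Z))
          (Category.comp_id _)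
          ((repWith_yon_map_iff _ _).2 (inferInstanceAs (IsOpenImmersion (incl A₀ hZ'Z).left)))
          (Groth.Agent.Lib.Helper17.repWith_of_isIso @IsOpenImmersion (𝟙 _)) rfl hcover
          ((yon S).map (incl A₀ hbZ)) (Category.comp_id _)
      have hpb : IsPullback ((yon S).map (incl A₀ hZbZ')) ((yon S).map (incl A₀ hZbb))
          ((yon S).map (incl A₀ hZ'Z)) ((yon S).map (incl A₀ hbZ)) := by
        refine isPullback_of_openImmersion _ _ (incl A₀ hZbb) ?_ _ ?_
        · intro w hw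
          rw [SchLocus.range_map_yon] at hw
          obtain ⟨z', hz'⟩ := hw
          rw [ofPt_yon_map, ofPt_yon_map] at hz'
          have h5 := congrArg (Points.toScheme _) hz'
          rw [Points.toScheme_ofScheme, Points.toScheme_ofScheme] at h5
          have h6 : z'.1 = w.1 := by
            have := congrArg Subtype.val h5
            rwa [incl_left_apply, incl_left_apply] at this
          have hwZ' : w.1 ∈ Z' := h6 ▸ z'.2
          have hwZb : w.1 ∈ Zb := by
            rw [hZb]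
            exact ⟨w.2, hwZ'⟩
          exact ⟨⟨w.1, hwZb⟩, Subtype.ext (incl_left_apply A₀ hZbb _)⟩
        · rw [← Functor.map_comp, ← Functor.map_comp, incl_comp, incl_comp]
      exact h4 _ _ _ _
        (chartMap W₀ _ (hE Z) _ (hE Z') (incl A₀ hZ'Z) (incl_chart A₀ g₀ hZ'Z))
        (chartMap W₀ _ (hE Z) _ (hE _) (incl A₀ hbZ) (incl_chart A₀ g₀ hbZ))
        (chartMap W₀ _ (hE Z') _ (hE Zb) (incl A₀ hZbZ') (incl_chart A₀ g₀ hZbZ'))
        (chartMap W₀ _ (hE _) _ (hE Zb) (incl A₀ hZbb) (incl_chart A₀ g₀ hZbb))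
        (hBZ t Z hZ) (isQuasiCompactSp_yon_of_compactSpace (overOpen A₀ Z'))
        ⟨overOpen A₀ b, b.2, ⟨Iso.refl _⟩⟩ hsq hpb hP' hPb hPZb

end Family

/-- An open subspace with quasi-compact set of points is quasi-compact. -/
theorem isQuasiCompactSp_openSub_of_isCompact {Y : Sp S} (hY : IsAlgSpace Y) (O : Set (Points Y))
    (hO : IsOpen O) (hc : IsCompact O) : IsQuasiCompactSp (openSub Y O) := by
  have hj : RepWith @IsOpenImmersion (openSubι Y O) := repWith_isOpenImmersion_openSubι O hO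
  haveI : Mono (openSubι Y O) := mono_of_repWith_isOpenImmersion _ hj
  have hemb : Topology.IsOpenEmbedding (Points.map (openSubι Y O)) :=
    .of_continuous_injective_isOpenMap (Points.continuous_map _) (points_map_injective_of_mono _)
      (Thick.isOpenMap_points_of_openImmersion hY _ hj)
  refine (isQuasiCompactSp_iff_compactSpace (isAlgSpace_openSub hY O hO)).2 ⟨?_⟩
  rw [hemb.isInducing.isCompact_iff, Set.image_univ, range_map_openSubι]
  exact hc

/-- The empty open subspace is an affine scheme. -/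
theorem exists_iso_yon_openSub_empty {Y : Sp S} (hY : IsAlgSpace Y) :
    ∃ T : Over S, IsAffine T.left ∧ Nonempty ((yon S).obj T ≅ openSub Y ∅) := by
  obtain ⟨U₀, a, hae, has⟩ := hY.atlas
  have hsub : ∀ (Z : Sp S) (α β : Z ⟶ (yon S).obj (overOpen U₀ ⊥)), α = β := by
    intro Z α β
    apply sp_hom_ext
    intro T' z
    obtain ⟨v, hv⟩ := (yon S).map_surjective (z ≫ α)
    obtain ⟨v', hv'⟩ := (yon S).map_surjective (z ≫ β)
    rw [← hv, ← hv']
    congr 1
    haveI : IsEmpty ↥(overOpen U₀ ⊥).left := by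
      show IsEmpty ↥(⊥ : U₀.left.Opens)
      exact ⟨fun x => x.2⟩
    haveI : IsEmpty ↥T'.left := ⟨fun t => IsEmpty.false (v.left t)⟩
    exact Over.OverMorphism.ext ((isInitialOfIsEmpty (X := T'.left)).hom_ext _ _)
  obtain ⟨fst, hfst⟩ := (exists_factor_openSub_iff (∅ : Set (Points Y))
    ((yon S).map (overOpenι U₀ ⊥) ≫ a)).2 (fun v => absurd v.2 (by exact fun h => h))
  have sq : IsPullback fst ((yon S).map (overOpenι U₀ ⊥)) (openSubι Y ∅) a :=
    isPullback_openSub ∅ a ⊥ (fun t => by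
      constructor
      · intro h; exact absurd h (by exact fun h => h)
      · intro h; exact absurd h (Set.notMem_empty _)) fst hfst
  have hfe : RepWith @Etale fst := (RepWith (S := S) @Etale).of_isPullback sq.flip hae
  have hfs : RepWith @Surjective fst := (RepWith (S := S) @Surjective).of_isPullback sq.flip has
  have hepi : Epi fst := by
    have : Sheaf.IsLocallySurjective fst :=
      isLocallySurjective_of_repWith_fppf fst
        (MorphismProperty.relative_monotone (fun A B m hm => by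
          have : Etale m.left := hm
          exact (inferInstance : Flat m.left)) _ hfe)
        (MorphismProperty.relative_monotone (fun A B m hm => by
          have : Etale m.left := hm
          exact (inferInstance : LocallyOfFinitePresentation m.left)) _ hfe) hfs
    infer_instance
  have hmono : Mono fst := ⟨fun α β _ => hsub _ α β⟩
  have : IsIso fst := isIso_of_mono_of_epi fst
  exact ⟨overOpen U₀ ⊥, isAffineOpen_bot U₀.left, ⟨asIso fst⟩⟩

section Main

variable [QuasiSeparatedSpace ↥S] {X : AlgSp.Space S} (B P : EtSpOver X → Prop)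

/-- One step of the induction: enlarging an open subspace by the image of an affine etale chart. -/
theorem step_family
    (h3 : ∀ (V : EtSpOver X) (T : Over S), IsAffine T.left →
      Nonempty ((yon S).obj T ≅ V.obj.left.obj) → B V ∧ P V)
    (h4 : ∀ (W U V UV : EtSpOver X) (j : U ⟶ W) (f : V ⟶ W) (p : UV ⟶ U) (q : UV ⟶ V),
      B W → IsQuasiCompactSp U.obj.left.obj →
      (∃ T : Over S, IsAffine T.left ∧ Nonempty ((yon S).obj T ≅ V.obj.left.obj)) →
      IsElemDistSq j.hom.left.hom f.hom.left.hom →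
      IsPullback p.hom.left.hom q.hom.left.hom j.hom.left.hom f.hom.left.hom →
      P U → P V → P UV → P W)
    (W₀ : EtSpOver X) (hW₀qs : IsQuasiSeparatedSp W₀.obj.left.obj)
    (U : EtSpOver X) (J₁ : U ⟶ W₀) (hJ₁ : RepWith @IsOpenImmersion J₁.hom.left.hom)
    (O₁ : Set (Points W₀.obj.left.obj)) (hr₁ : Set.range (Points.map J₁.hom.left.hom) = O₁)
    (hUc : IsQuasiCompactSp U.obj.left.obj) (hP₁ : P U)
    {A : Over S} (hA : IsAffine A.left) (g : (yon S).obj A ⟶ W₀.obj.left.obj) (hge : RepWith @Etale g)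
    (hM : ∀ (T : Over S) (v v' : T ⟶ A), (yon S).map v ≫ g = (yon S).map v' ≫ g →
        (∀ t : T.left, Points.ofPt ((yon S).map v ≫ g) t ∉ O₁) → v = v')
    (E₂ : EtSpOver X) (J₂ : E₂ ⟶ W₀) (hJ₂ : RepWith @IsOpenImmersion J₂.hom.left.hom)
    (hr₂ : Set.range (Points.map J₂.hom.left.hom) = O₁ ∪ Set.range (Points.ofPt g)) (hB₂ : B E₂)
    (hMV : ∀ Z : A.left.Opens, IsCompact (Z : Set ↥A.left) →
      P (chartObj W₀ ((yon S).map (overOpenι A Z) ≫ g) (repWith_etale_restrict g hge Z))) :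
    P E₂ := by
  have hY := W₀.obj.left.property
  haveI : Mono J₂.hom.left.hom := mono_of_repWith_isOpenImmersion _ hJ₂
  haveI : Mono J₁.hom.left.hom := mono_of_repWith_isOpenImmersion _ hJ₁
  have hO₁ : IsOpen O₁ := by
    rw [← hr₁]
    exact (Thick.isOpenMap_points_of_openImmersion hY _ hJ₁).isOpen_range
  obtain ⟨k₀, hk₀⟩ := exists_factor_of_range_subset J₂.hom.left.hom hJ₂ J₁.hom.left.hom (by
    rw [hr₁, hr₂]
    exact Set.subset_union_left)
  obtain ⟨f₀, hf₀⟩ := exists_factor_of_range_subset J₂.hom.left.hom hJ₂ g (by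
    rw [SchLocus.range_map_yon, hr₂]
    exact Set.subset_union_right)
  let Z : A.left.Opens := ⟨Points.ofPt g ⁻¹' O₁, hO₁.preimage (Points.continuous_ofPt g)⟩
  obtain ⟨fst₀, hfst₀⟩ := exists_factor_of_range_subset J₁.hom.left.hom hJ₁
    ((yon S).map (overOpenι A Z) ≫ g) (by
      rw [SchLocus.range_map_yon, hr₁]
      rintro _ ⟨v, rfl⟩
      rw [ofPt_yon_map_comp]
      exact v.2)
  haveI : IsOpenImmersion (overOpenι A Z).left := by
    show IsOpenImmersion Z.ι
    infer_instance
  have sq₀ : IsPullback fst₀ ((yon S).map (overOpenι A Z)) J₁.hom.left.hom g :=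
    isPullback_of_openImmersion J₁.hom.left.hom g (overOpenι A Z) (by
      intro t ht
      rw [hr₁] at ht
      have : Set.range (overOpenι A Z).left = (Z : Set ↥A.left) := Scheme.Opens.range_ι Z
      rw [this]
      exact ht) fst₀ hfst₀
  have sq : IsPullback fst₀ ((yon S).map (overOpenι A Z)) k₀ f₀ := by
    apply Groth.Agent.Lib.Helper15.isPullback_of_comp_mono J₂.hom.left.hom
    rw [hk₀, hf₀]
    exact sq₀
  haveI : IsAffine A.left := hA
  have hqcm : IsQuasiCompactMor J₁.hom.left.hom :=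
    QcOpen.isQuasiCompactMor_of_isQuasiCompactSp U.obj.left.property hY hUc hW₀qs _
  have hqc : RepWith @QuasiCompact J₁.hom.left.hom :=
    repWith_quasiCompact_of_isQuasiCompactMor _ hJ₁.1 hqcm
  have hZqc : QuasiCompact (overOpenι A Z).left := hqc.property _ _ _ sq₀
  have hZc : IsCompact (Z : Set ↥A.left) := by
    haveI : CompactSpace ↥(overOpen A Z).left :=
      QuasiCompact.compactSpace_of_compactSpace (overOpenι A Z).left
    exact isCompact_iff_compactSpace.2 (inferInstanceAs (CompactSpace ↥(overOpen A Z).left))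
  have hsq : IsElemDistSq k₀ f₀ :=
    isElemDistSq_step hY E₂.obj.left.property O₁ g hge hM J₁.hom.left.hom J₂.hom.left.hom k₀ hk₀ hJ₁ hJ₂
      hr₁ hr₂ f₀ hf₀
  have hE₂ : J₂.hom.left.hom ≫ W₀.obj.hom.hom = E₂.obj.hom.hom :=
    congrArg (fun m => m.hom) (Over.w J₂.hom)
  have hU : J₁.hom.left.hom ≫ W₀.obj.hom.hom = U.obj.hom.hom :=
    congrArg (fun m => m.hom) (Over.w J₁.hom)
  let j : U ⟶ E₂ := ObjectProperty.homMk (Over.homMk
    (ObjectProperty.homMk k₀ : U.obj.left ⟶ E₂.obj.left) (by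
      apply ObjectProperty.hom_ext
      show k₀ ≫ E₂.obj.hom.hom = U.obj.hom.hom
      rw [← hE₂, ← Category.assoc, hk₀, hU]))
  let f : chartObj W₀ g hge ⟶ E₂ := ObjectProperty.homMk (Over.homMk
    (ObjectProperty.homMk f₀ : (chartObj W₀ g hge).obj.left ⟶ E₂.obj.left) (by
      apply ObjectProperty.hom_ext
      show f₀ ≫ E₂.obj.hom.hom = g ≫ W₀.obj.hom.hom
      rw [← hE₂, ← Category.assoc, hf₀]))
  let p : chartObj W₀ ((yon S).map (overOpenι A Z) ≫ g) (repWith_etale_restrict g hge Z) ⟶ U :=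
    ObjectProperty.homMk (Over.homMk
      (ObjectProperty.homMk fst₀ :
        (chartObj W₀ ((yon S).map (overOpenι A Z) ≫ g) (repWith_etale_restrict g hge Z)).obj.left ⟶
          U.obj.left) (by
        apply ObjectProperty.hom_ext
        show fst₀ ≫ U.obj.hom.hom = ((yon S).map (overOpenι A Z) ≫ g) ≫ W₀.obj.hom.hom
        rw [← hU, ← Category.assoc, hfst₀]))
  exact h4 E₂ U (chartObj W₀ g hge) _ j f p
    (chartMap W₀ g hge _ (repWith_etale_restrict g hge Z) (overOpenι A Z) rfl)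
    hB₂ hUc ⟨A, hA, ⟨Iso.refl _⟩⟩ hsq sq hP₁ (h3 _ A hA ⟨Iso.refl _⟩).2 (hMV Z hZc)

/-- The induction principle, family form. -/
theorem main_family
    (h1 : ∀ W, B W → IsQuasiCompactSp W.obj.left.obj ∧ IsQuasiSeparatedSp W.obj.left.obj)
    (h2 : ∀ (W U : EtSpOver X) (j : U ⟶ W), B W → RepWith @IsOpenImmersion j.hom.left.hom →
      IsQuasiCompactSp U.obj.left.obj → B U)
    (h3 : ∀ (V : EtSpOver X) (T : Over S), IsAffine T.left →
      Nonempty ((yon S).obj T ≅ V.obj.left.obj) → B V ∧ P V)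
    (h4 : ∀ (W U V UV : EtSpOver X) (j : U ⟶ W) (f : V ⟶ W) (p : UV ⟶ U) (q : UV ⟶ V),
      B W → IsQuasiCompactSp U.obj.left.obj →
      (∃ T : Over S, IsAffine T.left ∧ Nonempty ((yon S).obj T ≅ V.obj.left.obj)) →
      IsElemDistSq j.hom.left.hom f.hom.left.hom →
      IsPullback p.hom.left.hom q.hom.left.hom j.hom.left.hom f.hom.left.hom →
      P U → P V → P UV → P W) :
    ∀ W₀ : EtSpOver X, B W₀ → P W₀ := by
  classical
  intro W₀ hB
  obtain ⟨hW₀c, hW₀qs⟩ := h1 W₀ hB
  have hY := W₀.obj.left.property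
  have hMV : ∀ {A : Over S} (hA : IsAffine A.left) (g : (yon S).obj A ⟶ W₀.obj.left.obj)
      (hge : RepWith @Etale g) (Z : A.left.Opens), IsCompact (Z : Set ↥A.left) →
      P (chartObj W₀ ((yon S).map (overOpenι A Z) ≫ g) (repWith_etale_restrict g hge Z)) := by
    intro A hA g hge Z hZ
    obtain ⟨s, hsfin, hsU⟩ := (isCompact_and_isOpen_iff_finite_and_eq_biUnion_affineOpens
      (X := A.left) (U := (Z : Set ↥A.left))).1 ⟨hZ, Z.isOpen⟩
    refine mv B P h2 h3 h4 W₀ hA g hge hsfin.toFinset.card hsfin.toFinset le_rfl Z ?_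
    apply TopologicalSpace.Opens.ext
    rw [hsU]
    simp [Set.Finite.mem_toFinset]
  let Q : Set (Points W₀.obj.left.obj) → Prop := fun O => ∃ (U : EtSpOver X) (J₁ : U ⟶ W₀),
    RepWith @IsOpenImmersion J₁.hom.left.hom ∧ Set.range (Points.map J₁.hom.left.hom) = O ∧
      IsQuasiCompactSp U.obj.left.obj ∧ P U
  have hbase : Q ∅ := by
    obtain ⟨T, hT, ⟨e⟩⟩ := exists_iso_yon_openSub_empty hY
    refine ⟨openObj W₀ ∅ isOpen_empty, openHom W₀ ∅ isOpen_empty,
      repWith_isOpenImmersion_openSubι ∅ isOpen_empty, range_map_openSubι ∅,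
      isQuasiCompactSp_openSub_of_isCompact hY ∅ isOpen_empty isCompact_empty, (h3 _ T hT ⟨e⟩).2⟩
  have hQ : Q Set.univ := by
    refine induction_opens W₀.obj.left hW₀c hW₀qs Q (fun O hO hQO A g hA hge hM => ?_) ∅ isOpen_empty hbase
    obtain ⟨U, J₁, hJ₁, hr₁, hUc, hPU⟩ := hQO
    have hO₂open : IsOpen (O ∪ Set.range (Points.ofPt g)) :=
      hO.union (isOpenMap_ofPt_of_etale g hge).isOpen_range
    have hcomp : IsCompact (O ∪ Set.range (Points.ofPt g)) := by
      haveI := compactSpace_points_of_isQuasiCompactSp hUc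
      have h1' : IsCompact (Set.range (Points.map J₁.hom.left.hom)) :=
        isCompact_range (Points.continuous_map _)
      haveI : IsAffine A.left := hA
      have h2' : IsCompact (Set.range (Points.ofPt g)) := isCompact_range (Points.continuous_ofPt g)
      rw [hr₁] at h1'
      exact h1'.union h2'
    have hE₂c : IsQuasiCompactSp (openObj W₀ _ hO₂open).obj.left.obj :=
      isQuasiCompactSp_openSub_of_isCompact hY _ hO₂open hcomp
    have hJ₂ : RepWith @IsOpenImmersion (openHom W₀ _ hO₂open).hom.left.hom :=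
      repWith_isOpenImmersion_openSubι _ hO₂open
    have hB₂ : B (openObj W₀ _ hO₂open) := h2 W₀ _ (openHom W₀ _ hO₂open) hB hJ₂ hE₂c
    refine ⟨openObj W₀ _ hO₂open, openHom W₀ _ hO₂open, hJ₂, range_map_openSubι _, hE₂c, ?_⟩
    exact step_family B P h3 h4 W₀ hW₀qs U J₁ hJ₁ O hr₁ hUc hPU hA g hge hM _ (openHom W₀ _ hO₂open) hJ₂
      (range_map_openSubι _) hB₂ (hMV hA g hge)
  obtain ⟨U, J₁, hJ₁, hr₁, hUc, hPU⟩ := hQ
  obtain ⟨U₀, a, hU₀, hae, has⟩ := DenseFin.exists_affine_chart_of_isQuasiCompactSp hW₀c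
  refine step_family B P h3 h4 W₀ hW₀qs U J₁ hJ₁ Set.univ hr₁ hUc hPU hU₀ a hae ?_ W₀ (𝟙 W₀)
    (Groth.Agent.Lib.Helper17.repWith_of_isIso @IsOpenImmersion (𝟙 W₀.obj.left.obj)) ?_ hB (hMV hU₀ a hae)
  · intro T v v' _ h2'
    by_cases hT : Nonempty ↥T.left
    · obtain ⟨t⟩ := hT
      exact absurd (Set.mem_univ _) (h2' t)
    · haveI : IsEmpty ↥T.left := not_nonempty_iff.1 hT
      exact Over.OverMorphism.ext ((isInitialOfIsEmpty (X := T.left)).hom_ext _ _)
  · rw [Set.univ_union]
    ext x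
    simp only [Set.mem_range, Set.mem_univ, iff_true]
    exact ⟨x, Points.map_id x⟩

end Main

end Groth.Agent.Lib.Helper16.IndPrin
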