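import Groth.Agent.Lib.Helper16.IndPrin2
import Groth.Agent.Lib.Helper16.DimF2

/-!
# Helper library (helper16): enlarging a dense open of a Noetherian algebraic space by an elementary distinguished square
-/

set_option autoImplicit false
universe u
open CategoryTheory CategoryTheory.Limits AlgebraicGeometry Opposite

namespace Groth.Agent.Lib.Helper16.IndPrin

open AlgSp Groth.Agent.Lib.Helper15 Groth.Agent.Lib.Helper16 Groth.Agent.Lib.Helper16.Filt

variable {S : Scheme.{u}}

/-- A morphism from a finite coproduct of schemes to an algebraic space is etale as soon as its restrictions to the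
summands are. -/
theorem repWith_etale_of_ovSigma {ι : Type} [Finite ι] {X : Sp S} (hX : IsAlgSpace X) (W : ι → Over S)
    (gV : (yon S).obj (ovSigma W) ⟶ X)
    (h : ∀ b, RepWith @Etale ((yon S).map (ovSigmaι W b) ≫ gV)) : RepWith @Etale gV := by
  refine (repWith_iff _ _).2 ⟨hX.representable_from_yon gV, fun T R t fst' c sq => ?_⟩
  obtain ⟨w, rfl⟩ := (yon S).map_surjective fst'
  show Etale c.left
  have hopen : ∀ b, IsOpenImmersion (ovSigmaι W b).left := fun b => by
    show IsOpenImmersion (Sigma.ι (fun j => (W j).left) b)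
    infer_instance
  let Z : ι → R.left.Opens := fun b => w.left ⁻¹ᵁ (ovSigmaι W b).left.opensRange
  have hZ : iSup Z = ⊤ := by
    rw [eq_top_iff]
    intro r _
    obtain ⟨b, y, hy⟩ := (sigmaOpenCover (fun j => (W j).left)).exists_eq (w.left r)
    rw [TopologicalSpace.Opens.mem_iSup]
    exact ⟨b, y, hy⟩
  apply IsZariskiLocalAtSource.of_iSup_eq_top (P := @Etale) Z hZ
  intro b
  haveI := hopen b
  have hjb : RepWith @IsOpenImmersion ((yon S).map (ovSigmaι W b)) :=
    (repWith_yon_map_iff _ _).2 (hopen b)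
  haveI : Mono ((yon S).map (ovSigmaι W b)) := mono_of_repWith_isOpenImmersion _ hjb
  haveI : IsOpenImmersion (overOpenι R (Z b)).left := by
    show IsOpenImmersion (Z b).ι
    infer_instance
  have hmem : ∀ r : R.left, Points.ofPt ((yon S).map w) r ∈
      Set.range (Points.map ((yon S).map (ovSigmaι W b))) → r ∈ Set.range (overOpenι R (Z b)).left := by
    intro r hr
    rw [SchLocus.range_map_yon] at hr
    obtain ⟨y, hy⟩ := hr
    rw [ofPt_yon_map, ofPt_yon_map] at hy
    have hy' := ofScheme_injective _ hy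
    have : Set.range (overOpenι R (Z b)).left = ((Z b : R.left.Opens) : Set ↥R.left) := Scheme.Opens.range_ι (Z b)
    rw [this]
    exact ⟨y, hy'⟩
  obtain ⟨fst₀, hfst₀⟩ := exists_factor_of_range_subset ((yon S).map (ovSigmaι W b)) hjb
    ((yon S).map (overOpenι R (Z b)) ≫ (yon S).map w) (by
      rw [SchLocus.range_map_yon, SchLocus.range_map_yon]
      rintro _ ⟨z, rfl⟩
      obtain ⟨y, hy⟩ := z.2
      refine ⟨y, ?_⟩
      rw [ofPt_yon_map_comp, ofPt_yon_map, ofPt_yon_map]
      congr 1)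
  have sq₀ : IsPullback fst₀ ((yon S).map (overOpenι R (Z b))) ((yon S).map (ovSigmaι W b)) ((yon S).map w) :=
    isPullback_of_openImmersion _ _ (overOpenι R (Z b)) hmem fst₀ hfst₀
  have sq₁ := sq₀.paste_vert sq
  rw [← Functor.map_comp] at sq₁
  have h1 : Etale (overOpenι R (Z b) ≫ c).left := ((repWith_iff _ _).1 (h b)).2 _ _ _ sq₁
  exact h1

/-- A proper subset of the points of a quasi-compact quasi-separated algebraic space admits an affine etale chart,
injective away from the subset, whose image is not contained in it. -/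
theorem exists_chart_enlarging [QuasiSeparatedSpace ↥S] (X : AlgSp.Space S)
    (hqc : IsQuasiCompactSp X.obj) (hqs : IsQuasiSeparatedSp X.obj)
    (O₁ : Set (Points X.obj)) (hne : O₁ ≠ Set.univ) :
    ∃ (A : Over S) (g : (yon S).obj A ⟶ X.obj), IsAffine A.left ∧ RepWith @Etale g ∧
      (∀ (T : Over S) (v v' : T ⟶ A), (yon S).map v ≫ g = (yon S).map v' ≫ g →
        (∀ t : T.left, Points.ofPt ((yon S).map v ≫ g) t ∉ O₁) → v = v') ∧
      ¬ Set.range (Points.ofPt g) ⊆ O₁ := by
  let Q : Set (Points X.obj) → Prop := fun O =>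
    (∃ (A : Over S) (g : (yon S).obj A ⟶ X.obj), IsAffine A.left ∧ RepWith @Etale g ∧
      (∀ (T : Over S) (v v' : T ⟶ A), (yon S).map v ≫ g = (yon S).map v' ≫ g →
        (∀ t : T.left, Points.ofPt ((yon S).map v ≫ g) t ∉ O₁) → v = v') ∧
      ¬ Set.range (Points.ofPt g) ⊆ O₁) ∨ O ⊆ O₁
  have hstep : ∀ (O : Set (Points X.obj)), IsOpen O → Q O → ∀ (A : Over S) (g : (yon S).obj A ⟶ X.obj),
      IsAffine A.left → RepWith @Etale g →
      (∀ (T : Over S) (v v' : T ⟶ A), (yon S).map v ≫ g = (yon S).map v' ≫ g →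
        (∀ t : T.left, Points.ofPt ((yon S).map v ≫ g) t ∉ O) → v = v') →
      Q (O ∪ Set.range (Points.ofPt g)) := by
    intro O _ hQ A g hA hge hM
    rcases hQ with h | h
    · exact Or.inl h
    · by_cases hr : Set.range (Points.ofPt g) ⊆ O₁
      · exact Or.inr (Set.union_subset h hr)
      · exact Or.inl ⟨A, g, hA, hge, fun T v v' e hv => hM T v v' e (fun t ht => hv t (h ht)), hr⟩
  rcases induction_opens X hqc hqs Q hstep ∅ isOpen_empty (Or.inr (Set.empty_subset _)) with h | h
  · exact h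
  · exact absurd (Set.eq_univ_of_univ_subset h) hne

/-- Every set of points of a quasi-compact locally Noetherian sheaf is quasi-compact. -/
theorem isCompact_points_of_locNoeth {X : Sp S} (hqc : IsQuasiCompactSp X) (hN : IsLocNoethSp X)
    (O : Set (Points X)) : IsCompact O := by
  obtain ⟨W, q, hqe, hqs, hW⟩ := hqc
  haveI : CompactSpace ↥W.left := hW
  haveI : IsLocallyNoetherian W.left := Groth.Agent.Lib.Helper16.DimF.isLocallyNoetherian_of_chart hN q hqe
  haveI : IsNoetherian W.left := {}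
  have hsurj : Function.Surjective (Points.ofPt q) := by
    rw [← Set.range_eq_univ, ← SchLocus.range_map_yon, Set.range_eq_univ]
    exact (repWith_surjective_iff q hqe.1).1 hqs
  have h1 : IsCompact (Points.ofPt q ⁻¹' O) := TopologicalSpace.NoetherianSpace.isCompact _
  have h2 := h1.image (Points.continuous_ofPt q)
  rwa [Set.image_preimage_eq _ hsurj] at h2

/-- An open subspace with quasi-compact image is quasi-compact. -/
theorem isQuasiCompactSp_of_openImm_of_isCompact {U X : Sp S} (hU : IsAlgSpace U) (hX : IsAlgSpace X)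
    (j : U ⟶ X) (hj : RepWith @IsOpenImmersion j) (hc : IsCompact (Set.range (Points.map j))) :
    IsQuasiCompactSp U := by
  haveI : Mono j := mono_of_repWith_isOpenImmersion _ hj
  have hemb : Topology.IsOpenEmbedding (Points.map j) :=
    .of_continuous_injective_isOpenMap (Points.continuous_map _) (points_map_injective_of_mono _)
      (Thick.isOpenMap_points_of_openImmersion hX _ hj)
  refine (isQuasiCompactSp_iff_compactSpace hU).2 ⟨?_⟩
  rw [hemb.isInducing.isCompact_iff, Set.image_univ]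
  exact hc

/-- The two-member family of schemes over `S`. -/
def fam (A A₂ : Over S) : Bool → Over S := fun b => Bool.rec A₂ A b

/-- The coproduct of two affine etale charts of an algebraic space. -/
theorem exists_coprod_chart {X : Sp S} (hX : IsAlgSpace X) {A A₂ : Over S} (hA : IsAffine A.left)
    (hA₂ : IsAffine A₂.left) (g : (yon S).obj A ⟶ X) (g₂ : (yon S).obj A₂ ⟶ X) (hg : RepWith @Etale g)
    (hg₂ : RepWith @Etale g₂) :
    ∃ (V : Over S) (i₁ : A ⟶ V) (i₂ : A₂ ⟶ V) (gV : (yon S).obj V ⟶ X), IsAffine V.left ∧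
      IsOpenImmersion i₁.left ∧ IsOpenImmersion i₂.left ∧
      (∀ x : V.left, x ∈ Set.range i₁.left ∨ x ∈ Set.range i₂.left) ∧
      (yon S).map i₁ ≫ gV = g ∧ (yon S).map i₂ ≫ gV = g₂ ∧ RepWith @Etale gV := by
  obtain ⟨hc⟩ := isColimit_cofan_yon_ovSigma (fam A A₂)
  let cmp : ∀ b, (yon S).obj (fam A A₂ b) ⟶ X := fun b =>
    Bool.rec (motive := fun b => (yon S).obj (fam A A₂ b) ⟶ X) g₂ g b
  have hfac : ∀ b, (yon S).map (ovSigmaι (fam A A₂) b) ≫ Cofan.IsColimit.desc hc cmp = cmp b := fun b =>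
    Cofan.IsColimit.fac hc cmp b
  have haff : ∀ b, IsAffine (fam A A₂ b).left := fun b => by
    cases b
    · exact hA₂
    · exact hA
  have hopen : ∀ b, IsOpenImmersion (ovSigmaι (fam A A₂) b).left := fun b => by
    show IsOpenImmersion (Sigma.ι (fun j => (fam A A₂ j).left) b)
    infer_instance
  refine ⟨ovSigma (fam A A₂), ovSigmaι (fam A A₂) true, ovSigmaι (fam A A₂) false,
    Cofan.IsColimit.desc hc cmp, ?_, hopen true, hopen false, ?_, hfac true, hfac false, ?_⟩
  · show IsAffine (∐ fun j => (fam A A₂ j).left)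
    infer_instance
  · intro x
    obtain ⟨b, y, hy⟩ := (sigmaOpenCover (fun j => (fam A A₂ j).left)).exists_eq x
    cases b
    · exact Or.inr ⟨y, hy⟩
    · exact Or.inl ⟨y, hy⟩
  · refine repWith_etale_of_ovSigma hX (fam A A₂) _ (fun b => ?_)
    rw [hfac]
    cases b
    · exact hg₂
    · exact hg

/-- Enlarging a dense open subspace of a Noetherian algebraic space by an elementary distinguished square. -/
theorem main10708 [QuasiSeparatedSpace ↥S] {X U : AlgSp.Space S}
    (hqc : IsQuasiCompactSp X.obj) (hqs : IsQuasiSeparatedSp X.obj) (hN : IsLocNoethSp X.obj)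
    (j : U ⟶ X) (hj : RepWith @IsOpenImmersion j.hom)
    (hne : Set.range (Points.map j.hom) ≠ Set.univ) :
    ∃ (V : Over S) (_ : IsAffine V.left) (W : AlgSp.Space S) (jW : W ⟶ X) (jU : U ⟶ W)
      (φ : (AlgSp.ofScheme S).obj V ⟶ W)
      (P : AlgSp.Space S) (p : P ⟶ U) (q : P ⟶ (AlgSp.ofScheme S).obj V),
      RepWith @Etale (φ ≫ jW).hom ∧ RepWith @IsOpenImmersion jW.hom ∧ jU ≫ jW = j ∧
        Set.range (Points.map jW.hom) =
          Set.range (Points.map j.hom) ∪ Set.range (Points.map (φ ≫ jW).hom) ∧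
        Set.range (Points.map jW.hom) ≠ Set.range (Points.map j.hom) ∧
        IsElemDistSq jU.hom φ.hom ∧ IsPullback p.hom q.hom jU.hom φ.hom ∧ IsDominantMor p.hom := by
  classical
  have hX := X.property
  haveI : Mono j.hom := mono_of_repWith_isOpenImmersion _ hj
  obtain ⟨O₁, hO₁def⟩ : ∃ O₁, O₁ = Set.range (Points.map j.hom) := ⟨_, rfl⟩
  have hO₁ : IsOpen O₁ := by
    rw [hO₁def]
    exact (Thick.isOpenMap_points_of_openImmersion hX _ hj).isOpen_range
  obtain ⟨A, g, hA, hge, hM, hnot⟩ := exists_chart_enlarging X hqc hqs O₁ (by rw [hO₁def]; exact hne)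
  have hUqc : IsQuasiCompactSp U.obj :=
    isQuasiCompactSp_of_openImm_of_isCompact U.property hX j.hom hj (isCompact_points_of_locNoeth hqc hN _)
  obtain ⟨A₂, a₂, hA₂, ha₂e, ha₂s⟩ := DenseFin.exists_affine_chart_of_isQuasiCompactSp hUqc
  have ha₂surj : Function.Surjective (Points.ofPt a₂) := by
    rw [← Set.range_eq_univ, ← SchLocus.range_map_yon, Set.range_eq_univ]
    exact (repWith_surjective_iff a₂ ha₂e.1).1 ha₂s
  obtain ⟨V, i₁, i₂, gV, hV, hi₁, hi₂, hcov, hgV₁, hgV₂, hgVe⟩ :=
    exists_coprod_chart hX hA hA₂ g (a₂ ≫ j.hom) hge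
      ((RepWith (S := S) @Etale).comp_mem _ _ ha₂e (repWith_etale_of_isOpenImmersion j.hom hj))
  have hpt₁ : ∀ a : A.left, Points.ofPt gV (i₁.left a) = Points.ofPt g a := fun a => by
    rw [← ofPt_yon_map_comp, hgV₁]
  have hpt₂ : ∀ a : A₂.left, Points.ofPt gV (i₂.left a) = Points.map j.hom (Points.ofPt a₂ a) := fun a => by
    rw [← ofPt_yon_map_comp, hgV₂, Points.map_ofPt]
  have hin₂ : ∀ a : A₂.left, Points.ofPt gV (i₂.left a) ∈ O₁ := fun a => by
    rw [hpt₂, hO₁def]
    exact ⟨_, rfl⟩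
  have hMV : ∀ (T : Over S) (v v' : T ⟶ V), (yon S).map v ≫ gV = (yon S).map v' ≫ gV →
      (∀ t : T.left, Points.ofPt ((yon S).map v ≫ gV) t ∉ O₁) → v = v' := by
    intro T v v' e hv
    have hfac : ∀ (w : T ⟶ V), (∀ t : T.left, Points.ofPt ((yon S).map w ≫ gV) t ∉ O₁) →
        ∃ w₁ : T ⟶ A, w₁ ≫ i₁ = w := by
      intro w hw
      have hr : Set.range w.left ⊆ Set.range i₁.left := by
        rintro _ ⟨t, rfl⟩
        rcases hcov (w.left t) with h | ⟨a, ha⟩
        · exact h
        · exfalso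
          apply hw t
          rw [ofPt_yon_map_comp, ← ha]
          exact hin₂ a
      refine ⟨Over.homMk (IsOpenImmersion.lift i₁.left w.left hr) ?_, ?_⟩
      · rw [← Over.w i₁, ← Category.assoc, IsOpenImmersion.lift_fac]
        exact Over.w w
      · ext
        exact IsOpenImmersion.lift_fac _ _ _
    obtain ⟨v₁, rfl⟩ := hfac v hv
    obtain ⟨v₁', rfl⟩ := hfac v' (by rw [← e]; exact hv)
    have e' : (yon S).map v₁ ≫ g = (yon S).map v₁' ≫ g := by
      rw [← hgV₁, ← Category.assoc, ← Category.assoc, ← Functor.map_comp, ← Functor.map_comp]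
      exact e
    have hv' : ∀ t : T.left, Points.ofPt ((yon S).map v₁ ≫ g) t ∉ O₁ := by
      intro t
      have := hv t
      rwa [Functor.map_comp, Category.assoc, hgV₁] at this
    rw [hM T v₁ v₁' e' hv']
  obtain ⟨O₂, hO₂def⟩ : ∃ O₂, O₂ = O₁ ∪ Set.range (Points.ofPt gV) := ⟨_, rfl⟩
  have hO₂ : IsOpen O₂ := by
    rw [hO₂def]
    exact hO₁.union (isOpenMap_ofPt_of_etale gV hgVe).isOpen_range
  have hjW : RepWith @IsOpenImmersion (openSubι X.obj O₂) := repWith_isOpenImmersion_openSubι O₂ hO₂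
  have hrW : Set.range (Points.map (openSubι X.obj O₂)) = O₁ ∪ Set.range (Points.ofPt gV) := by
    rw [range_map_openSubι, hO₂def]
  have hWalg : IsAlgSpace (openSub X.obj O₂) := isAlgSpace_openSub hX O₂ hO₂
  obtain ⟨k₀, hk₀⟩ := exists_factor_of_range_subset (openSubι X.obj O₂) hjW j.hom (by
    rw [hrW, ← hO₁def]
    exact Set.subset_union_left)
  obtain ⟨f₀, hf₀⟩ := exists_factor_of_range_subset (openSubι X.obj O₂) hjW gV (by
    rw [SchLocus.range_map_yon, hrW]
    exact Set.subset_union_right)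
  have hsq : IsElemDistSq k₀ f₀ :=
    isElemDistSq_step hX hWalg O₁ gV hgVe hMV j.hom (openSubι X.obj O₂) k₀ hk₀ hj hjW hO₁def.symm hrW f₀ hf₀
  let Z : V.left.Opens := ⟨Points.ofPt gV ⁻¹' O₁, hO₁.preimage (Points.continuous_ofPt gV)⟩
  obtain ⟨fst₀, hfst₀⟩ := exists_factor_of_range_subset j.hom hj
    ((yon S).map (overOpenι V Z) ≫ gV) (by
      rw [SchLocus.range_map_yon, ← hO₁def]
      rintro _ ⟨v, rfl⟩
      rw [ofPt_yon_map_comp]
      exact v.2)
  haveI : IsOpenImmersion (overOpenι V Z).left := by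
    show IsOpenImmersion Z.ι
    infer_instance
  have sq₀ : IsPullback fst₀ ((yon S).map (overOpenι V Z)) j.hom gV :=
    isPullback_of_openImmersion j.hom gV (overOpenι V Z) (by
      intro t ht
      rw [← hO₁def] at ht
      have : Set.range (overOpenι V Z).left = (Z : Set ↥V.left) := Scheme.Opens.range_ι Z
      rw [this]
      exact ht) fst₀ hfst₀
  have sq : IsPullback fst₀ ((yon S).map (overOpenι V Z)) k₀ f₀ := by
    haveI : Mono (openSubι X.obj O₂) := mono_of_repWith_isOpenImmersion _ hjW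
    apply Groth.Agent.Lib.Helper15.isPullback_of_comp_mono (openSubι X.obj O₂)
    rw [hk₀, hf₀]
    exact sq₀
  let W : AlgSp.Space S := ⟨openSub X.obj O₂, hWalg⟩
  refine ⟨V, hV, W, (ObjectProperty.homMk (openSubι X.obj O₂) : W ⟶ X), (ObjectProperty.homMk k₀ : U ⟶ W),
    (ObjectProperty.homMk f₀ : (AlgSp.ofScheme S).obj V ⟶ W), (AlgSp.ofScheme S).obj (overOpen V Z),
    (ObjectProperty.homMk fst₀ : (AlgSp.ofScheme S).obj (overOpen V Z) ⟶ U),
    (AlgSp.ofScheme S).map (overOpenι V Z), ?_, hjW, ?_, ?_, ?_, hsq, sq, ?_⟩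
  · show RepWith @Etale (f₀ ≫ openSubι X.obj O₂)
    rw [hf₀]
    exact hgVe
  · apply ObjectProperty.hom_ext
    exact hk₀
  · show Set.range (Points.map (openSubι X.obj O₂)) =
      Set.range (Points.map j.hom) ∪ Set.range (Points.map (f₀ ≫ openSubι X.obj O₂))
    rw [hf₀, hrW, hO₁def, SchLocus.range_map_yon]
  · show Set.range (Points.map (openSubι X.obj O₂)) ≠ Set.range (Points.map j.hom)
    rw [hrW, ← hO₁def]
    intro h
    apply hnot
    rintro _ ⟨a, rfl⟩
    rw [← h, ← hpt₁]
    exact Or.inr ⟨_, rfl⟩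
  · show DenseRange (Points.map fst₀)
    apply Function.Surjective.denseRange
    intro u
    obtain ⟨t, rfl⟩ := ha₂surj u
    obtain ⟨z, hz, -⟩ := exists_point_of_isPullback_yon sq₀ (Points.ofPt a₂ t) (i₂.left t) (hpt₂ t).symm
    exact ⟨Points.ofScheme _ z, by rw [← Points.ofPt_eq_map_ofScheme]; exact hz⟩

end Groth.Agent.Lib.Helper16.IndPrin
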