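import Groth.Agent.Lib.Helper16.DenseFin3
import Groth.Agent.Lib.Helper16.UnivClosed
import Groth.Agent.Lib.Helper16.Charts
import Groth.Agent.Lib.Helper29.InvFun
import Groth.Prelude.Def_AlgSpOX
import Mathlib.AlgebraicGeometry.Morphisms.Integral

/-!
# Helper library (helper16): global functions of a quasi-compact universally closed space over an affine base

Every global function of an algebraic space quasi-compact and universally closed over an affine scheme `V` satisfies a
monic polynomial over `Γ(V, O_V)`.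
-/

set_option autoImplicit false
universe u
open CategoryTheory CategoryTheory.Limits AlgebraicGeometry Opposite Topology

namespace Groth.Agent.Lib.Helper16.IntegralSect

open AlgSp Groth.Agent.Lib.Helper16

variable {S : Scheme.{u}}

section ring
open Polynomial PrimeSpectrum

/-- The core of "universally closed implies integral" (after Mathlib's
`PrimeSpectrum.isIntegral_of_isClosedMap_comap_mapRingHom`): only the closedness of one image is used. -/
theorem isIntegral_of_isClosed_image {R S : Type*} [CommRing R] [CommRing S] (f : R →+* S) (r : S)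
    (H : IsClosed (comap (mapRingHom f) '' zeroLocus {C r * X - 1})) :
    ∃ p : R[X], p.Monic ∧ p.eval₂ f r = 0 := by
  by_cases hS : Subsingleton S
  · exact ⟨X, monic_X, Subsingleton.elim _ _⟩
  have hSn : Nontrivial S := not_subsingleton_iff_nontrivial.1 hS
  have hRn : Nontrivial R := f.domain_nontrivial
  algebraize [f]
  let p : S[X] := C r * X - 1
  have h1 : (1 : R[X]) ∈ Ideal.span {X} ⊔ (Ideal.span {p}).comap (mapRingHom f) := by
    have H' : IsClosed (comap (mapRingHom f) '' zeroLocus {p}) := H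
    rw [← zeroLocus_span, ← closure_eq_iff_isClosed, closure_image_comap_zeroLocus] at H'
    rw [← Ideal.eq_top_iff_one, sup_comm, ← zeroLocus_empty_iff_eq_top, zeroLocus_sup, H']
    suffices ∀ (a : PrimeSpectrum S[X]), p ∈ a.asIdeal → X ∉ a.asIdeal by
      simpa [Set.eq_empty_iff_forall_notMem]
    intro q hpq hXq
    have : 1 ∈ q.asIdeal := by simpa [p] using! (sub_mem (q.asIdeal.mul_mem_left (C r) hXq) hpq)
    exact q.2.ne_top (q.asIdeal.eq_top_iff_one.mpr this)
  obtain ⟨a, b, hb, e⟩ := Ideal.mem_span_singleton_sup.mp h1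
  obtain ⟨c, hc : b.map (algebraMap R S) = _⟩ := Ideal.mem_span_singleton.mp hb
  refine ⟨b.reverse * X ^ (1 + c.natDegree), ?_, ?_⟩
  · refine Monic.mul ?_ (by simp)
    have h : b.coeff 0 = 1 := by simpa using! congr(($e).coeff 0)
    have : b.natTrailingDegree = 0 := by simp [h]
    rw [Monic.def, reverse_leadingCoeff, trailingCoeff, this, h]
  · show eval₂ (algebraMap R S) r (b.reverse * X ^ (1 + c.natDegree)) = 0
    have : p.natDegree ≤ 1 := by simpa using! natDegree_linear_le (a := r) (b := -1)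
    rw [eval₂_eq_eval_map, reverse, Polynomial.map_mul, ← reflect_map, Polynomial.map_pow,
      map_X, ← revAt_zero (1 + _), ← reflect_monomial,
      ← reflect_mul _ _ natDegree_map_le (by simp), pow_zero, mul_one, hc,
      ← add_assoc, reflect_mul _ _ (this.trans (by simp)) le_rfl,
      eval_mul, reflect_sub, reflect_mul _ _ (by simp) (by simp)]
    simp [← pow_succ']

end ring

/-- The image of a saturated closed set under an open surjection is closed. -/
theorem isClosed_image_of_saturated {α β : Type*} [TopologicalSpace α] [TopologicalSpace β] (e : α → β)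
    (ho : IsOpenMap e) (hs : Function.Surjective e) (Z : Set α) (hZ : IsClosed Z)
    (hsat : ∀ w w', e w = e w' → w ∈ Z → w' ∈ Z) : IsClosed (e '' Z) := by
  rw [← isOpen_compl_iff]
  have : (e '' Z)ᶜ = e '' Zᶜ := by
    ext y
    constructor
    · intro hy
      obtain ⟨w, rfl⟩ := hs y
      exact ⟨w, fun hw => hy ⟨w, hw, rfl⟩, rfl⟩
    · rintro ⟨w, hw, rfl⟩ ⟨w', hw', h⟩
      exact hw (hsat w' w h hw')
  rw [this]
  exact ho _ hZ.isOpen_compl

/-- `A[X]` as an object of `CommRingCat`. -/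
noncomputable abbrev polyRing (A : CommRingCat.{u}) : CommRingCat.{u} := CommRingCat.of (Polynomial A)

/-- `A ⟶ A[X]`. -/
noncomputable abbrev polyC (A : CommRingCat.{u}) : A ⟶ polyRing A := CommRingCat.ofHom Polynomial.C

/-- `A[X] ⟶ B[X]`. -/
noncomputable abbrev polyMap {A B : CommRingCat.{u}} (φ : A ⟶ B) : polyRing A ⟶ polyRing B :=
  CommRingCat.ofHom (Polynomial.mapRingHom φ.hom)

theorem isPullback_Spec_poly {A B : CommRingCat.{u}} (φ : A ⟶ B) :
    IsPullback (Spec.map (polyC B)) (Spec.map (polyMap φ)) (Spec.map φ) (Spec.map (polyC A)) := by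
  algebraize [φ.hom, Polynomial.mapRingHom φ.hom]
  exact isPullback_SpecMap_of_isPushout _ _ _ _
    (CommRingCat.isPushout_of_isPushout A B (Polynomial A) (Polynomial B))

/-- Restriction of the components of a global function. -/
theorem gsect_map {X : Sp S} (s : ↥(gsectEt (OEt X) : CommRingCat.{u + 1})) {E' E : EtOver X} (m : E' ⟶ E) :
    m.hom.left.left.appTop.hom ((limit.π (OEt X).obj (op E)) s).down =
      ((limit.π (OEt X).obj (op E')) s).down := by
  have := congrArg (fun t => (t.hom s).down) (limit.w (OEt X).obj m.op)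
  exact this

theorem preimage_comp {X : Sp S} {V : Over S} (f : X ⟶ (yon S).obj V) {E' E : EtOver X} (m : E' ⟶ E) :
    (yon S).preimage (E'.obj.hom ≫ f) = m.hom.left ≫ (yon S).preimage (E.obj.hom ≫ f) := by
  apply (yon S).map_injective
  rw [Functor.map_comp, Functor.map_preimage, Functor.map_preimage, ← EtOver.w m, Category.assoc]

theorem eval_map {X : Sp S} {V : Over S} (f : X ⟶ (yon S).obj V)
    (s : ↥(gsectEt (OEt X) : CommRingCat.{u + 1})) (p : Polynomial Γ(V.left, ⊤)) {E' E : EtOver X}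
    (m : E' ⟶ E) :
    m.hom.left.left.appTop.hom
      (Polynomial.eval₂ ((yon S).preimage (E.obj.hom ≫ f)).left.appTop.hom
        ((limit.π (OEt X).obj (op E)) s).down p) =
    Polynomial.eval₂ ((yon S).preimage (E'.obj.hom ≫ f)).left.appTop.hom
      ((limit.π (OEt X).obj (op E')) s).down p := by
  rw [Polynomial.hom_eval₂, gsect_map s m, preimage_comp f m, Over.comp_left, Scheme.Hom.comp_appTop,
    CommRingCat.hom_comp]

/-- The component of a global function on an etale chart takes the same value along two maps into the chart that agree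
in the space. -/
theorem gsect_compat {X : Sp S} {U : Over S} (a : (yon S).obj U ⟶ X) (hae : RepWith @Etale a)
    (s : ↥(gsectEt (OEt X) : CommRingCat.{u + 1})) {T : Over S} (m₁ m₂ : T ⟶ U)
    (h : (yon S).map m₁ ≫ a = (yon S).map m₂ ≫ a) :
    m₁.left.appTop.hom ((limit.π (OEt X).obj (op (EtOver.mk a hae))) s).down =
      m₂.left.appTop.hom ((limit.π (OEt X).obj (op (EtOver.mk a hae))) s).down := by
  obtain ⟨R, q₂, q₁₀, sqR⟩ := hae.rep a
  obtain ⟨q₁, rfl⟩ := (yon S).map_surjective q₁₀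
  have hq₁e : Etale q₁.left := hae.property _ _ _ sqR.flip
  have hRe : RepWith @Etale ((yon S).map q₁ ≫ a) :=
    (RepWith @Etale).comp_mem _ _ ((repWith_yon_map_iff _ _).2 hq₁e) hae
  obtain ⟨k₁, hk₁⟩ : ∃ k₁ : EtOver.mk ((yon S).map q₁ ≫ a) hRe ⟶ EtOver.mk a hae, k₁.hom.left = q₁ :=
    ⟨EtOver.homMk q₁ rfl, rfl⟩
  obtain ⟨k₂, hk₂⟩ : ∃ k₂ : EtOver.mk ((yon S).map q₁ ≫ a) hRe ⟶ EtOver.mk a hae, k₂.hom.left = q₂ :=
    ⟨EtOver.homMk q₂ sqR.w.symm, rfl⟩
  have c₁ := gsect_map s k₁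
  have c₂ := gsect_map s k₂
  rw [hk₁] at c₁
  rw [hk₂] at c₂
  obtain ⟨ρ, hρ⟩ := (yon S).map_surjective (sqR.lift ((yon S).map m₁) ((yon S).map m₂) h)
  have hρ1 : ρ ≫ q₁ = m₁ := (yon S).map_injective (by
    rw [Functor.map_comp, hρ]; exact sqR.lift_fst _ _ _)
  have hρ2 : ρ ≫ q₂ = m₂ := (yon S).map_injective (by
    rw [Functor.map_comp, hρ]; exact sqR.lift_snd _ _ _)
  rw [← hρ1, ← hρ2, Over.comp_left, Over.comp_left, Scheme.Hom.comp_appTop, Scheme.Hom.comp_appTop,
    CommRingCat.hom_comp, CommRingCat.hom_comp, RingHom.comp_apply, RingHom.comp_apply, c₁, c₂]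

/-- A polynomial relation satisfied on one etale surjective chart is satisfied on the whole small etale site. -/
theorem eval_eq_zero_of_chart {X : Sp S} {V : Over S} (f : X ⟶ (yon S).obj V) {U : Over S}
    (a : (yon S).obj U ⟶ X) (hae : RepWith @Etale a) (has : RepWith @Surjective a)
    (s : ↥(gsectEt (OEt X) : CommRingCat.{u + 1})) (p : Polynomial Γ(V.left, ⊤))
    (h0 : Polynomial.eval₂ ((yon S).preimage (a ≫ f)).left.appTop.hom
      ((limit.π (OEt X).obj (op (EtOver.mk a hae))) s).down p = 0) (E : EtOver X) :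
    Polynomial.eval₂ ((yon S).preimage (E.obj.hom ≫ f)).left.appTop.hom
      ((limit.π (OEt X).obj (op E)) s).down p = 0 := by
  obtain ⟨W, snd, fst₀, sq⟩ := hae.rep E.obj.hom
  obtain ⟨fst, rfl⟩ := (yon S).map_surjective fst₀
  have hsnd_e : Etale snd.left := hae.property _ _ _ sq
  have hsnd_s : Surjective snd.left := has.property _ _ _ sq
  have hWe : RepWith @Etale ((yon S).map snd ≫ E.obj.hom) :=
    (RepWith @Etale).comp_mem _ _ ((repWith_yon_map_iff _ _).2 hsnd_e) E.property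
  obtain ⟨m₁, hm₁⟩ : ∃ m₁ : EtOver.mk ((yon S).map snd ≫ E.obj.hom) hWe ⟶ E, m₁.hom.left = snd :=
    ⟨EtOver.homMk snd rfl, rfl⟩
  obtain ⟨m₂, hm₂⟩ : ∃ m₂ : EtOver.mk ((yon S).map snd ≫ E.obj.hom) hWe ⟶ EtOver.mk a hae,
      m₂.hom.left = fst := ⟨EtOver.homMk fst sq.w, rfl⟩
  have e1 := eval_map f s p m₁
  have e2 := eval_map f s p m₂
  have h0' : Polynomial.eval₂ ((yon S).preimage ((EtOver.mk a hae).obj.hom ≫ f)).left.appTop.hom
      ((limit.π (OEt X).obj (op (EtOver.mk a hae))) s).down p = 0 := h0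
  rw [h0', map_zero] at e2
  rw [← e2, hm₁] at e1
  haveI : Flat snd.left := inferInstance
  haveI : Epi snd.left := Flat.epi_of_flat_of_surjective snd.left
  have hinj := Groth.Agent.Lib.Helper29.InvFun.appTop_injective_of_epi snd.left
  exact hinj (e1.trans (map_zero snd.left.appTop.hom).symm)

/-- Every global function of a space quasi-compact and universally closed over an affine scheme is integral over the
functions of the base. -/
theorem exists_monic_of_univClosed {X : Sp S} (V : Over S) [IsAffine V.left]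
    (f : X ⟶ (yon S).obj V) (hqc : IsQuasiCompactMor f) (huc : IsUnivClosedMor f)
    (s : ↥(gsectEt (OEt X) : CommRingCat.{u + 1})) :
    ∃ p : Polynomial Γ(V.left, ⊤), p.Monic ∧ ∀ E : EtOver X,
      Polynomial.eval₂ ((yon S).preimage (E.obj.hom ≫ f)).left.appTop.hom
        ((limit.π (OEt X).obj (op E)) s).down p = 0 := by
  have hVq : IsQuasiCompactSp ((yon S).obj V) :=
    ⟨V, 𝟙 _, repWith_id @Etale V, repWith_id @Surjective V, inferInstance⟩
  have hXqc : IsQuasiCompactSp X :=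
    hqc (IsAlgSpace.yon_obj V) hVq (𝟙 _) (𝟙 X) f (IsPullback.id_horiz f)
  obtain ⟨U, a, hUaff, hae, has⟩ := DenseFin.exists_affine_chart_of_isQuasiCompactSp hXqc
  haveI := hUaff
  obtain ⟨g₀, hg₀def⟩ : ∃ g₀ : U ⟶ V, g₀ = (yon S).preimage (a ≫ f) := ⟨_, rfl⟩
  have hg₀ : (yon S).map g₀ = a ≫ f := by rw [hg₀def]; exact Functor.map_preimage _ _
  obtain ⟨b, hb⟩ : ∃ b : Γ(U.left, ⊤), b = ((limit.π (OEt X).obj (op (EtOver.mk a hae))) s).down :=
    ⟨_, rfl⟩
  suffices hcl : IsClosed (PrimeSpectrum.comap (Polynomial.mapRingHom g₀.left.appTop.hom) ''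
      PrimeSpectrum.zeroLocus {Polynomial.C b * Polynomial.X - 1}) by
    obtain ⟨p, hp, hpe⟩ := isIntegral_of_isClosed_image g₀.left.appTop.hom b hcl
    refine ⟨p, hp, fun E => eval_eq_zero_of_chart f a hae has s p ?_ E⟩
    rw [← hg₀def, ← hb]
    exact hpe
  -- the affine lines over `V` and `U`
  obtain ⟨tl, htl⟩ : ∃ tl : Spec (polyRing Γ(V.left, ⊤)) ⟶ V.left,
      tl = Spec.map (polyC _) ≫ V.left.isoSpec.inv := ⟨_, rfl⟩
  obtain ⟨wl, hwl⟩ : ∃ wl : Spec (polyRing Γ(U.left, ⊤)) ⟶ U.left,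
      wl = Spec.map (polyC _) ≫ U.left.isoSpec.inv := ⟨_, rfl⟩
  have sqL : IsPullback wl (Spec.map (polyMap g₀.left.appTop)) g₀.left tl := by
    refine IsPullback.of_iso (isPullback_Spec_poly g₀.left.appTop) (Iso.refl _) U.left.isoSpec.symm
      (Iso.refl _) V.left.isoSpec.symm ?_ ?_ ?_ ?_
    · simp [hwl]
    · simp
    · simpa using Scheme.isoSpec_inv_naturality g₀.left
    · simp [htl]
  obtain ⟨tV, htV⟩ : ∃ tV : Over.mk (tl ≫ V.hom) ⟶ V, tV.left = tl := ⟨Over.homMk tl rfl, rfl⟩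
  obtain ⟨p₁, hp₁⟩ : ∃ p₁ : Over.mk (wl ≫ U.hom) ⟶ U, p₁.left = wl := ⟨Over.homMk wl rfl, rfl⟩
  obtain ⟨p₂, hp₂⟩ : ∃ p₂ : Over.mk (wl ≫ U.hom) ⟶ Over.mk (tl ≫ V.hom),
      p₂.left = Spec.map (polyMap g₀.left.appTop) :=
    ⟨Over.homMk (Spec.map (polyMap g₀.left.appTop)) (by
      show Spec.map (polyMap g₀.left.appTop) ≫ tl ≫ V.hom = wl ≫ U.hom
      rw [← Over.w g₀, ← Category.assoc, ← sqL.w, Category.assoc]), rfl⟩
  have sqO : IsPullback p₁ p₂ g₀ tV := by
    refine IsPullback.of_map (Over.forget S) (Over.OverMorphism.ext ?_) ?_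
    · show p₁.left ≫ g₀.left = p₂.left ≫ tV.left
      rw [hp₁, hp₂, htV]; exact sqL.w
    · show IsPullback p₁.left p₂.left g₀.left tV.left
      rw [hp₁, hp₂, htV]; exact sqL
  -- the base change of `f` to the affine line over `V`
  obtain ⟨P, π₁, π₂, sqP⟩ : ∃ (P : Sp S) (π₁ : P ⟶ X) (π₂ : P ⟶ (yon S).obj (Over.mk (tl ≫ V.hom))),
      IsPullback π₁ π₂ f ((yon S).map tV) := ⟨_, _, _, IsPullback.of_hasPullback _ _⟩
  have hclosed : IsClosedMap (Points.map π₂) := huc (IsAlgSpace.yon_obj _) _ _ _ sqP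
  have hcomm : ((yon S).map p₁ ≫ a) ≫ f = (yon S).map p₂ ≫ (yon S).map tV := by
    rw [Category.assoc, ← hg₀, ← Functor.map_comp, ← Functor.map_comp, sqO.w]
  obtain ⟨e, he₁, he₂⟩ : ∃ e : (yon S).obj (Over.mk (wl ≫ U.hom)) ⟶ P,
      e ≫ π₁ = (yon S).map p₁ ≫ a ∧ e ≫ π₂ = (yon S).map p₂ :=
    ⟨sqP.lift _ _ hcomm, sqP.lift_fst _ _ _, sqP.lift_snd _ _ _⟩
  have sqE : IsPullback ((yon S).map p₁) e a π₁ := by
    refine IsPullback.of_bot ?_ he₁.symm sqP
    rw [he₂, ← hg₀]
    exact sqO.map (yon S)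
  have hee : RepWith @Etale e := (RepWith @Etale).of_isPullback sqE hae
  have hes : RepWith @Surjective e := (RepWith @Surjective).of_isPullback sqE has
  -- the function `b x - 1` on the affine line over `U`
  obtain ⟨xT, hxT⟩ : ∃ xT : Γ(Spec (polyRing Γ(V.left, ⊤)), ⊤),
      xT = (Scheme.ΓSpecIso (polyRing Γ(V.left, ⊤))).inv.hom Polynomial.X := ⟨_, rfl⟩
  have hiso : U.left.isoSpec.inv.appTop = (Scheme.ΓSpecIso Γ(U.left, ⊤)).inv := by
    rw [← cancel_mono (Scheme.ΓSpecIso Γ(U.left, ⊤)).hom, Iso.inv_hom_id, ← Scheme.toSpecΓ_appTop,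
      ← Scheme.isoSpec_hom, ← Scheme.Hom.comp_appTop, Iso.hom_inv_id]
    rfl
  obtain ⟨F, hFdef⟩ : ∃ F : Γ(Spec (polyRing Γ(U.left, ⊤)), ⊤),
      F = wl.appTop.hom b * (Spec.map (polyMap g₀.left.appTop)).appTop.hom xT - 1 := ⟨_, rfl⟩
  have hFeq : (Scheme.ΓSpecIso (polyRing Γ(U.left, ⊤))).inv.hom (Polynomial.C b * Polynomial.X - 1) = F := by
    have h1 : (Scheme.ΓSpecIso (polyRing Γ(U.left, ⊤))).inv.hom (Polynomial.C b) = wl.appTop.hom b := by
      have := congrArg (fun t => t.hom b) (Scheme.ΓSpecIso_inv_naturality (polyC Γ(U.left, ⊤)))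
      rw [hwl, Scheme.Hom.comp_appTop, hiso]
      exact this
    have h2 : (Scheme.ΓSpecIso (polyRing Γ(U.left, ⊤))).inv.hom Polynomial.X =
        (Spec.map (polyMap g₀.left.appTop)).appTop.hom xT := by
      have := congrArg (fun t => t.hom Polynomial.X)
        (Scheme.ΓSpecIso_inv_naturality (polyMap g₀.left.appTop))
      have hX : (polyMap g₀.left.appTop).hom Polynomial.X = Polynomial.X := Polynomial.map_X _
      rw [hxT, ← hX]
      exact this
    rw [hFdef, map_sub, map_mul, map_one, h1, h2]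
  have hFO : ∀ w : ↥(Spec (polyRing Γ(U.left, ⊤))), w ∈ (Spec (polyRing Γ(U.left, ⊤))).basicOpen F ↔
      (w : PrimeSpectrum (Polynomial Γ(U.left, ⊤))) ∉
        PrimeSpectrum.zeroLocus {Polynomial.C b * Polynomial.X - 1} := by
    intro w
    have hbo := basicOpen_eq_of_affine (R := polyRing Γ(U.left, ⊤)) (Polynomial.C b * Polynomial.X - 1)
    rw [← hFeq]
    show w ∈ (Spec (polyRing Γ(U.left, ⊤))).basicOpen
      ((Scheme.ΓSpecIso (polyRing Γ(U.left, ⊤))).inv (Polynomial.C b * Polynomial.X - 1)) ↔ _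
    rw [hbo]
    exact (PrimeSpectrum.mem_basicOpen _ w).trans
      (not_congr ((PrimeSpectrum.mem_zeroLocus w _).trans Set.singleton_subset_iff)).symm
  have hsat : ∀ w w' : PrimeSpectrum (Polynomial Γ(U.left, ⊤)), Points.ofPt e w = Points.ofPt e w' →
      w ∈ PrimeSpectrum.zeroLocus {Polynomial.C b * Polynomial.X - 1} →
      w' ∈ PrimeSpectrum.zeroLocus {Polynomial.C b * Polynomial.X - 1} := by
    intro w w' h hw
    obtain ⟨R', r₂, r₁₀, sqK⟩ := hee.rep e
    obtain ⟨r₁, rfl⟩ := (yon S).map_surjective r₁₀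
    obtain ⟨r, hr1, hr2⟩ := exists_point_of_isPullback_yon_yon sqK w w' h
    have hm : (yon S).map (r₁ ≫ p₁) ≫ a = (yon S).map (r₂ ≫ p₁) ≫ a := by
      rw [Functor.map_comp, Functor.map_comp, Category.assoc, Category.assoc, ← he₁, ← Category.assoc,
        ← Category.assoc, sqK.w]
    have hb12 := gsect_compat a hae s (r₁ ≫ p₁) (r₂ ≫ p₁) hm
    rw [← hb] at hb12
    have hp12 : r₁ ≫ p₂ = r₂ ≫ p₂ := (yon S).map_injective (by
      rw [Functor.map_comp, Functor.map_comp, ← he₂, ← Category.assoc, ← Category.assoc, sqK.w])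
    have e1 : ∀ r' : R' ⟶ Over.mk (wl ≫ U.hom), r'.left.appTop.hom F =
        (r' ≫ p₁).left.appTop.hom b * (r' ≫ p₂).left.appTop.hom xT - 1 := by
      intro r'
      rw [hFdef, map_sub, map_mul, map_one, Over.comp_left, Over.comp_left, hp₁, hp₂]
      rfl
    have hF : r₁.left.appTop.hom F = r₂.left.appTop.hom F := by rw [e1 r₁, e1 r₂, hb12, hp12]
    have hF' : r₁.left.appTop F = r₂.left.appTop F := hF
    have k1 : r₁.left ⁻¹ᵁ (Over.mk (wl ≫ U.hom)).left.basicOpen F = R'.left.basicOpen (r₁.left.appTop F) :=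
      Scheme.preimage_basicOpen_top r₁.left F
    have k2 : r₂.left ⁻¹ᵁ (Over.mk (wl ≫ U.hom)).left.basicOpen F = R'.left.basicOpen (r₂.left.appTop F) :=
      Scheme.preimage_basicOpen_top r₂.left F
    have k12 : r₁.left ⁻¹ᵁ (Over.mk (wl ≫ U.hom)).left.basicOpen F =
        r₂.left ⁻¹ᵁ (Over.mk (wl ≫ U.hom)).left.basicOpen F := by rw [k1, k2, hF']
    by_contra hw'
    have h1 : w' ∈ (Spec (polyRing Γ(U.left, ⊤))).basicOpen F := (hFO w').2 hw'
    have h2 : r ∈ r₂.left ⁻¹ᵁ (Over.mk (wl ≫ U.hom)).left.basicOpen F := by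
      show r₂.left r ∈ (Over.mk (wl ≫ U.hom)).left.basicOpen F
      rw [hr2]; exact h1
    rw [← k12] at h2
    have h3 : w ∈ (Spec (polyRing Γ(U.left, ⊤))).basicOpen F := by
      have h3' : r₁.left r ∈ (Over.mk (wl ≫ U.hom)).left.basicOpen F := h2
      rw [hr1] at h3'; exact h3'
    exact (hFO w).1 h3 hw
  have hZcl : IsClosed (PrimeSpectrum.zeroLocus {Polynomial.C b * Polynomial.X - 1} :
      Set (PrimeSpectrum (Polynomial Γ(U.left, ⊤)))) := PrimeSpectrum.isClosed_zeroLocus _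
  have h1 : IsClosed (Points.ofPt e '' (PrimeSpectrum.zeroLocus {Polynomial.C b * Polynomial.X - 1} :
      Set (PrimeSpectrum (Polynomial Γ(U.left, ⊤))))) :=
    isClosed_image_of_saturated (Points.ofPt e) (isOpenMap_ofPt_of_etale e hee)
      (ofPt_surjective_of_surjective e hes) _ hZcl hsat
  have h2 := hclosed _ h1
  have h3 : Points.map π₂ '' (Points.ofPt e '' (PrimeSpectrum.zeroLocus {Polynomial.C b * Polynomial.X - 1} :
      Set (PrimeSpectrum (Polynomial Γ(U.left, ⊤))))) =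
      (Points.schemeHomeo (Over.mk (tl ≫ V.hom))) ''
        (PrimeSpectrum.comap (Polynomial.mapRingHom g₀.left.appTop.hom) ''
          PrimeSpectrum.zeroLocus {Polynomial.C b * Polynomial.X - 1}) := by
    rw [Set.image_image, Set.image_image]
    refine Set.image_congr fun w _ => ?_
    rw [Points.map_ofPt, he₂, Points.ofPt_eq_map_ofScheme, map_yon_map_ofScheme, hp₂]
    rfl
  rw [h3] at h2
  exact (Points.schemeHomeo (Over.mk (tl ≫ V.hom))).isClosed_image.1 h2

end Groth.Agent.Lib.Helper16.IntegralSect
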