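import Mathlib

/-!
# Helper library (helper16): finiteness of the set of irreducible components along dense maps and open embeddings
-/

set_option autoImplicit false
universe u v
open Topology TopologicalSpace

namespace Groth.Agent.Lib.Helper16.IrredFinite

variable {A : Type u} {B : Type v} [TopologicalSpace A] [TopologicalSpace B]

/-- A space receiving a continuous map with dense image from a space with finitely many irreducible components has
finitely many irreducible components. -/
theorem finite_of_dense_range (f : A → B) (hf : Continuous f) (hd : Dense (Set.range f))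
    (hA : (irreducibleComponents A).Finite) : (irreducibleComponents B).Finite := by
  classical
  refine (hA.image fun Z => closure (f '' Z)).subset ?_
  intro T hT
  have hTirr : IsIrreducible T := hT.1
  have hcov : (Set.univ : Set B) = ⋃₀ ((fun Z => closure (f '' Z)) '' irreducibleComponents A) := by
    have h1 : (Set.univ : Set A) = ⋃₀ irreducibleComponents A := by
      apply Set.eq_of_subset_of_subset
      · intro a _
        exact ⟨irreducibleComponent a, irreducibleComponent_mem_irreducibleComponents a, mem_irreducibleComponent⟩
      · exact Set.subset_univ _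
    have h2 : Set.range f = ⋃₀ ((fun Z => f '' Z) '' irreducibleComponents A) := by
      rw [← Set.image_univ, h1, Set.image_sUnion]
    have h3 : closure (Set.range f) = Set.univ := hd.closure_eq
    rw [← h3, h2]
    rw [Set.sUnion_image, Set.sUnion_image]
    rw [hA.closure_biUnion]
  obtain ⟨W, hW, hTW⟩ := (isIrreducible_iff_sUnion_isClosed.1 hTirr) (hA.image fun Z => closure (f '' Z)).toFinset
    (by
      intro z hz
      rw [Set.Finite.mem_toFinset] at hz
      obtain ⟨Z, -, rfl⟩ := hz
      exact isClosed_closure)
    (by
      rw [Set.Finite.coe_toFinset, ← hcov]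
      exact Set.subset_univ _)
  rw [Set.Finite.mem_toFinset] at hW
  obtain ⟨Z, hZ, rfl⟩ := hW
  refine ⟨Z, hZ, ?_⟩
  have hZirr : IsIrreducible (closure (f '' Z)) := (hZ.1.image f hf.continuousOn).closure
  exact (hT.eq_of_subset hZirr hTW).symm

/-- A space openly embedded into a space with finitely many irreducible components has finitely many irreducible
components. -/
theorem finite_of_isOpenEmbedding (f : A → B) (hf : IsOpenEmbedding f)
    (hB : (irreducibleComponents B).Finite) : (irreducibleComponents A).Finite := by
  refine (hB.image fun Z => f ⁻¹' Z).subset ?_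
  intro T hT
  have hTirr : IsIrreducible T := hT.1
  have himg : IsIrreducible (f '' T) := hTirr.image f hf.continuous.continuousOn
  obtain ⟨Z, hZ, hTZ, hmax⟩ := exists_preirreducible (f '' T) himg.isPreirreducible
  have hZne : Z.Nonempty := himg.nonempty.mono hTZ
  have hZmem : Z ∈ irreducibleComponents B := by
    refine ⟨⟨hZne, hZ⟩, ?_⟩
    intro u hu hZu
    exact (hmax u hu.isPreirreducible hZu).le
  refine ⟨Z, hZmem, ?_⟩
  have hpre : IsPreirreducible (f ⁻¹' Z) := hZ.preimage hf
  have hsub : T ⊆ f ⁻¹' Z := fun t ht => hTZ ⟨t, ht, rfl⟩
  have hirr : IsIrreducible (f ⁻¹' Z) := ⟨hTirr.nonempty.mono hsub, hpre⟩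
  exact (hT.eq_of_subset hirr hsub).symm

end Groth.Agent.Lib.Helper16.IrredFinite
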