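import Groth.Agent.Lib.Helper16.JacobsonDecent

/-!
# Helper library (helper16): a decent algebraic space is Jacobson iff its space of points is
-/

set_option autoImplicit false
universe u
open CategoryTheory CategoryTheory.Limits AlgebraicGeometry Opposite

namespace Groth.Agent.Lib.Helper16.FtPt

open AlgSp Groth.Agent.Lib.Helper16

variable {S : Scheme.{u}}

/-- The image of a locally closed point under a morphism locally of finite type is a locally closed point. -/
theorem isLocallyClosed_singleton_map_of_lft {W U : Scheme.{u}} (h : W ⟶ U) [LocallyOfFiniteType h] (w : W)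
    (hw : IsLocallyClosed ({w} : Set W)) : IsLocallyClosed ({h w} : Set U) := by
  obtain ⟨O, C, hO, hC, hOC⟩ := hw
  let O' : W.Opens := ⟨O, hO⟩
  have hwOC : w ∈ O ∩ C := hOC ▸ Set.mem_singleton w
  have hr : w ∈ Set.range O'.ι := by rw [Scheme.Opens.range_ι]; exact hwOC.1
  obtain ⟨w', hw'⟩ := hr
  have hcl : IsClosed ({w'} : Set O'.toScheme) := by
    have : ({w'} : Set O'.toScheme) = O'.ι ⁻¹' C := by
      ext y
      simp only [Set.mem_singleton_iff, Set.mem_preimage]
      constructor
      · rintro rfl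
        rw [hw']; exact hwOC.2
      · intro hy
        have hyO : O'.ι y ∈ O := by
          have : O'.ι y ∈ Set.range O'.ι := ⟨y, rfl⟩
          rwa [Scheme.Opens.range_ι] at this
        have h2 : O'.ι y ∈ ({w} : Set W) := hOC ▸ ⟨hyO, hy⟩
        exact O'.ι.isOpenEmbedding.injective (by rw [hw']; exact h2)
    rw [this]; exact hC.preimage O'.ι.continuous
  obtain ⟨U', j, hj, u', hu', hcl'⟩ := exists_isOpenImmersion_isClosed_singleton (O'.ι ≫ h) w' hcl
  rw [Scheme.Hom.comp_apply, hw'] at hu'
  rw [← hu', ← Set.image_singleton]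
  exact hcl'.isLocallyClosed.image j.isOpenEmbedding.isInducing
    j.isOpenEmbedding.isOpen_range.isLocallyClosed

/-- On a decent sheaf whose space of points is Jacobson, locally closed points of etale charts are closed. -/
theorem isClosed_singleton_of_isLocallyClosed_of_jacobsonSpace_points {X : Sp S} (hd : IsDecent X)
    [JacobsonSpace (Points X)] {V : Over S} (b : (yon S).obj V ⟶ X) (hbe : RepWith @Etale b)
    (v₁ : ↥V.left) (hv₁ : IsLocallyClosed ({v₁} : Set ↥V.left)) : IsClosed ({v₁} : Set ↥V.left) := by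
  set x := Points.ofPt b v₁ with hx
  set F := Points.ofPt b ⁻¹' {x} with hF
  have h1 : ∀ z ∈ F, IsLocallyClosed ({z} : Set ↥V.left) := by
    intro z hz
    obtain ⟨R, p₂, p₁', sq⟩ := hbe.rep b
    obtain ⟨p₁, rfl⟩ := (yon S).map_surjective p₁'
    have hp₂ : Etale p₂.left := hbe.property _ _ _ sq
    have hp₁ : Etale p₁.left := hbe.property _ _ _ sq.flip
    obtain ⟨r, hr1, hr2⟩ := exists_point_of_isPullback_yon_yon sq v₁ z (Eq.symm hz)
    have : LocallyQuasiFinite p₁.left := locallyQuasiFinite_of_etale _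
    have hrlc := isLocallyClosed_singleton_of_lqf p₁.left r (by rw [hr1]; exact hv₁)
    rw [← hr2]
    exact isLocallyClosed_singleton_map_of_lft p₂.left r hrlc
  obtain ⟨_, ⟨V', hV', rfl⟩, hvV', -⟩ :=
    V.left.isBasis_affineOpens.exists_subset_of_mem_open (Set.mem_univ v₁) isOpen_univ
  have hfin : (F ∩ (V' : Set ↥V.left)).Finite := finite_fibre_inter_affine hd b hbe x V' hV'
  set F' := F ∩ (V' : Set ↥V.left) with hF'
  let N : Set ↥V.left := (V' : Set ↥V.left) ∩ ⋂ z ∈ F', coborder {z}
  have hNopen : IsOpen N :=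
    V'.2.inter (hfin.isOpen_biInter fun z hz => (h1 z hz.1).isOpen_coborder)
  have hF'N : F' ⊆ N := by
    intro z' hz'
    refine ⟨hz'.2, Set.mem_iInter₂.2 fun z hz => ?_⟩
    intro hmem
    have hspec : z ⤳ z' := specializes_iff_mem_closure.2 hmem.1
    have := eq_of_specializes_of_isDecent hd b hbe z' z (hz'.1.trans hz.1.symm) hspec
    exact hmem.2 this
  have hNF : N ∩ closure F' ⊆ F' := by
    rintro t ⟨htN, htcl⟩
    rw [← Set.biUnion_of_singleton F', hfin.closure_biUnion] at htcl
    obtain ⟨z, hz, htz⟩ := Set.mem_iUnion₂.1 htcl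
    have hco : t ∈ coborder {z} := Set.mem_iInter₂.1 htN.2 z hz
    by_contra hne
    exact hco ⟨htz, fun h => hne (by rw [Set.mem_singleton_iff] at h; rw [h]; exact hz)⟩
  have hxlc : IsLocallyClosed ({x} : Set (Points X)) := by
    have hopen := isOpenMap_ofPt_of_etale b hbe
    have hM : IsOpen (Points.ofPt b '' N) := hopen _ hNopen
    have hQ : IsOpen (Points.ofPt b '' (N ∩ (closure F')ᶜ)) :=
      hopen _ (hNopen.inter isClosed_closure.isOpen_compl)
    have : ({x} : Set (Points X)) =
        (Points.ofPt b '' N) ∩ (Points.ofPt b '' (N ∩ (closure F')ᶜ))ᶜ := by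
      ext y
      constructor
      · rintro rfl
        refine ⟨⟨v₁, hF'N ⟨rfl, hvV'⟩, rfl⟩, ?_⟩
        rintro ⟨t, ⟨htN, htc⟩, htx⟩
        exact htc (subset_closure ⟨htx, htN.1⟩)
      · rintro ⟨⟨t, htN, rfl⟩, hnot⟩
        by_cases htc : t ∈ closure F'
        · exact (hNF ⟨htN, htc⟩).1
        · exact absurd ⟨t, ⟨htN, htc⟩, rfl⟩ hnot
    rw [this]
    exact hM.isLocallyClosed.inter hQ.isClosed_compl.isLocallyClosed
  have hxcl : IsClosed ({x} : Set (Points X)) := isClosed_singleton_of_isLocallyClosed_singleton hxlc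
  have hFcl : IsClosed F := hxcl.preimage (Points.continuous_ofPt b)
  rw [← closure_subset_iff_isClosed]
  intro t ht
  have htF : t ∈ F := (hFcl.closure_subset_iff.2 (Set.singleton_subset_iff.2 rfl)) ht
  have hspec : v₁ ⤳ t := specializes_iff_mem_closure.2 ht
  exact eq_of_specializes_of_isDecent hd b hbe t v₁ htF hspec

/-- A decent algebraic space is Jacobson iff its space of points is. -/
theorem jacobson_iff_jacobsonSpace_points {X : Sp S} (hXa : IsAlgSpace X) (hd : IsDecent X) :
    EtaleLocally (fun U => JacobsonSpace ↥U) X ↔ JacobsonSpace (Points X) := by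
  constructor
  · intro hX
    rw [jacobsonSpace_iff_locallyClosed]
    intro Z hZne hZ
    obtain ⟨x, hxZ, hx⟩ := exists_isFtPt_of_isLocallyClosed hXa Z hZ hZne
    obtain ⟨U, φ, u, hφ, hu, rfl⟩ := exists_isClosed_of_isFtPt hXa hx
    exact ⟨_, hxZ, isClosed_singleton_of_hasAt_isClosed hd hX _ ⟨U, φ, u, hφ, rfl, hu⟩⟩
  · intro hJ
    obtain ⟨V, b, hbe, hbs⟩ := hXa.atlas
    refine ⟨V, b, hbe, hbs, ?_⟩
    show JacobsonSpace ↥V.left
    rw [jacobsonSpace_iff_locallyClosed]
    intro Z hZne hZ
    obtain ⟨V₀, j, hj, v, hvZ, hv⟩ := exists_open_closedPoint_of_isLocallyClosed V.left Z hZ hZne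
    refine ⟨j v, hvZ, ?_⟩
    apply isClosed_singleton_of_isLocallyClosed_of_jacobsonSpace_points hd b hbe
    rw [← Set.image_singleton]
    exact hv.isLocallyClosed.image j.isOpenEmbedding.isInducing
      j.isOpenEmbedding.isOpen_range.isLocallyClosed

end Groth.Agent.Lib.Helper16.FtPt
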