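import Groth.Agent.Lib.Helper16.FtPt

/-!
# Helper library (helper16): the Jacobson property descends along flat, locally quasi-finite surjections
-/

set_option autoImplicit false
universe u
open CategoryTheory CategoryTheory.Limits AlgebraicGeometry Opposite

namespace Groth.Agent.Lib.Helper16.FtPt

open AlgSp Groth.Agent.Lib.Helper16

/-- If `c : U ⟶ W` is flat, locally quasi-finite and surjective and `U` is Jacobson, then `W` is Jacobson. -/
theorem jacobsonSpace_of_flat_lqf_surjective {U W : Scheme.{u}} (c : U ⟶ W) [Flat c] [LocallyQuasiFinite c]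
    [Surjective c] [JacobsonSpace U] : JacobsonSpace W := by
  rw [jacobsonSpace_iff_locallyClosed]
  intro Z hZne hZ
  obtain ⟨W₀, j, hj, z, hzZ, hzcl⟩ := exists_open_closedPoint_of_isLocallyClosed W Z hZ hZne
  refine ⟨j z, hzZ, ?_⟩
  rw [mem_closedPoints_iff, ← closure_subset_iff_isClosed]
  intro t ht
  obtain ⟨t', rfl⟩ := c.surjective t
  have hspec : j z ⤳ c t' := specializes_iff_mem_closure.mpr ht
  obtain ⟨z', hz't', hz'⟩ := Flat.generalizingMap c hspec
  have hjz : IsLocallyClosed ({j z} : Set W) := by
    rw [← Set.image_singleton]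
    exact hzcl.isLocallyClosed.image j.isOpenEmbedding.isInducing
      j.isOpenEmbedding.isOpen_range.isLocallyClosed
  obtain ⟨O, hO, hOz⟩ := isOpen_inter_eq_singleton_of_mem_discrete
    (c.isDiscrete_preimage_singleton (j z)) (x := z') hz'
  have hlc : IsLocallyClosed ({z'} : Set U) := by
    rw [← hOz]
    exact hO.isLocallyClosed.inter (hjz.preimage c.continuous)
  have hcl : IsClosed ({z'} : Set U) := isClosed_singleton_of_isLocallyClosed_singleton hlc
  have : t' ∈ ({z'} : Set U) := by
    rw [← hcl.closure_eq]
    exact specializes_iff_mem_closure.mp hz't'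
  rw [Set.mem_singleton_iff] at this
  subst this
  exact hz'

end Groth.Agent.Lib.Helper16.FtPt
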