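import Groth.Statements.S2946
import Groth.Agent.Lib.Helper3.ModBasic
import Groth.Agent.Lib.Helper3.QCSec
import Groth.Agent.Lib.Helper3.InvGen
import Groth.Agent.Lib.Helper24.ClopenIdem
import Groth.Agent.Lib.Helper26.FinPush

/-!
# The Lefschetz condition and connectedness (helper16)
-/

set_option autoImplicit false
universe u
open CategoryTheory CategoryTheory.Limits AlgebraicGeometry TopologicalSpace Opposite
open Scheme.Modules

noncomputable section

namespace Groth.Helper16.LefConn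

open Groth.Agent.Lib.Helper3 Groth.Agent.Lib.Helper3.QCSec Groth.Agent.Lib.Helper3.InvGen
open Groth.Agent.Lib.Helper24.ClopenIdem

section UnitHom

variable {V : Scheme.{u}}

/-- the compatible family of sections defined by a global section. -/
def globalSec (M : V.Modules) (m : Γ(M, ⊤)) : M.sections :=
  PresheafOfModules.sectionsMk (fun W => (show Γ(M, W.unop) from QCSec.res M le_top m))
    (fun _ _ f => QCSec.res_res M (leOfHom f.unop) le_top m)

/-- the morphism `O ⟶ M` with `1 ↦ m`. -/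
def ofGlobal (M : V.Modules) (m : Γ(M, ⊤)) : Coh.structureModule V ⟶ M :=
  M.unitHomEquiv.symm (globalSec M m)

theorem ofGlobal_app_top_one (M : V.Modules) (m : Γ(M, ⊤)) :
    (ofGlobal M m).app ⊤ (1 : Γ(V, ⊤)) = m := by
  have h := M.unitHomEquiv.apply_symm_apply (globalSec M m)
  have h2 := congrArg (fun σ => σ.val (op ⊤)) h
  refine h2.trans ?_
  exact QCSec.res_self M le_rfl m

theorem unit_hom_ext {M : V.Modules} (φ ψ : Coh.structureModule V ⟶ M)
    (h : φ.app ⊤ (1 : Γ(V, ⊤)) = ψ.app ⊤ (1 : Γ(V, ⊤))) : φ = ψ := by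
  apply Scheme.Modules.hom_ext
  intro W
  ext (r : Γ(V, W))
  change φ.app W r = ψ.app W r
  rw [ModBasic.unit_hom_app_apply φ W r, ModBasic.unit_hom_app_apply ψ W r, h]

end UnitHom

section Formal

variable {V : Scheme.{u}} (J : V.IdealSheafData)

/-- injectivity part of the Lefschetz condition for the structure sheaf, on global sections -/
theorem inj_of_lef
    (hinj : ∀ φ ψ : Coh.structureModule V ⟶ Coh.structureModule V,
      (∀ n : ℕ, φ ≫ ClSub.toSubscheme (J ^ (n + 1)) = ψ ≫ ClSub.toSubscheme (J ^ (n + 1))) → φ = ψ)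
    (a b : Γ(V, ⊤))
    (h : ∀ n : ℕ, ((J ^ (n + 1)).subschemeι.app ⊤).hom a = ((J ^ (n + 1)).subschemeι.app ⊤).hom b) :
    a = b := by
  have key := hinj (ofGlobal _ (ofFun ⊤ a)) (ofGlobal _ (ofFun ⊤ b)) (fun n => by
    apply unit_hom_ext
    change (ClSub.toSubscheme (J ^ (n + 1))).app ⊤ ((ofGlobal _ (ofFun ⊤ a)).app ⊤ (1 : Γ(V, ⊤))) =
      (ClSub.toSubscheme (J ^ (n + 1))).app ⊤ ((ofGlobal _ (ofFun ⊤ b)).app ⊤ (1 : Γ(V, ⊤)))
    rw [ofGlobal_app_top_one, ofGlobal_app_top_one]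
    exact h n)
  have h2 := congrArg (fun φ : Coh.structureModule V ⟶ Coh.structureModule V =>
    φ.app ⊤ (1 : Γ(V, ⊤))) key
  simp only [ofGlobal_app_top_one] at h2
  exact h2

/-- surjectivity part of the Lefschetz condition for the structure sheaf, on global sections -/
theorem surj_of_lef
    (hsurj : ∀ y : ∀ n : ℕ, Coh.structureModule V ⟶ ClSub.quotMod (J ^ (n + 1)),
      Lef.IsFormalHom J (Coh.structureModule V) y →
      ∃ φ : Coh.structureModule V ⟶ Coh.structureModule V,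
        ∀ n : ℕ, φ ≫ ClSub.toSubscheme (J ^ (n + 1)) = y n)
    (r : ∀ n : ℕ, Γ(ClSub.quotMod (J ^ (n + 1)), ⊤))
    (hr : ∀ n : ℕ, (Lef.quotMap (Lef.pow_succ_le J n)).app ⊤ (r (n + 1)) = r n) :
    ∃ a : Γ(V, ⊤), ∀ n : ℕ, (ClSub.toSubscheme (J ^ (n + 1))).app ⊤ (ofFun ⊤ a) = r n := by
  obtain ⟨φ, hφ⟩ := hsurj (fun n => ofGlobal _ (r n)) (fun n => by
    apply unit_hom_ext
    change (Lef.quotMap (Lef.pow_succ_le J n)).app ⊤ ((ofGlobal _ (r (n + 1))).app ⊤ (1 : Γ(V, ⊤))) =
      (ofGlobal _ (r n)).app ⊤ (1 : Γ(V, ⊤))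
    rw [ofGlobal_app_top_one, ofGlobal_app_top_one]
    exact hr n)
  refine ⟨toFun ⊤ (φ.app ⊤ (1 : Γ(V, ⊤))), fun n => ?_⟩
  have h2 := congrArg (fun ψ : Coh.structureModule V ⟶ ClSub.quotMod (J ^ (n + 1)) =>
    ψ.app ⊤ (1 : Γ(V, ⊤))) (hφ n)
  simp only [ofGlobal_app_top_one] at h2
  exact h2

end Formal

section Bridge

variable {V : Scheme.{u}}

/-- a global section of `O_V/K` as a function on the closed subscheme -/
def qFun (K : V.IdealSheafData) (s : Γ(ClSub.quotMod K, ⊤)) : Γ(K.subscheme, ⊤) :=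
  toFun (K.subschemeι ⁻¹ᵁ ⊤) s

/-- a function on the closed subscheme as a global section of `O_V/K` -/
def qSec (K : V.IdealSheafData) (e : Γ(K.subscheme, ⊤)) : Γ(ClSub.quotMod K, ⊤) :=
  ofFun (K.subschemeι ⁻¹ᵁ ⊤) e

theorem qFun_qSec (K : V.IdealSheafData) (e : Γ(K.subscheme, ⊤)) : qFun K (qSec K e) = e := rfl

theorem qSec_qFun (K : V.IdealSheafData) (s : Γ(ClSub.quotMod K, ⊤)) : qSec K (qFun K s) = s := rfl

theorem tS_eq (K : V.IdealSheafData) (a : Γ(V, ⊤)) :
    (ClSub.toSubscheme K).app ⊤ (ofFun ⊤ a) = qSec K (K.subschemeι.app ⊤ a) := rfl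

/-- the transition map on functions -/
def trans {I J' : V.IdealSheafData} (h : I ≤ J') (e : Γ(I.subscheme, ⊤)) : Γ(J'.subscheme, ⊤) :=
  qFun J' ((Lef.quotMap h).app ⊤ (qSec I e))

theorem trans_spec {I J' : V.IdealSheafData} (h : I ≤ J') :
    ∃ (i : J'.subschemeι ⁻¹ᵁ ⊤ ⟶ (Scheme.IdealSheafData.inclusion h) ⁻¹ᵁ ⊤),
      ∀ e : Γ(I.subscheme, ⊤), trans h e =
        (J'.subscheme.presheaf.map i.op).hom (((Scheme.IdealSheafData.inclusion h).app ⊤).hom e) := by
  refine ⟨eqToHom rfl, fun e => ?_⟩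
  rfl

theorem trans_idem {I J' : V.IdealSheafData} (h : I ≤ J') {e : Γ(I.subscheme, ⊤)}
    (he : IsIdempotentElem e) : IsIdempotentElem (trans h e) := by
  obtain ⟨i, hi⟩ := trans_spec h
  rw [hi e]
  exact (he.map ((Scheme.IdealSheafData.inclusion h).app ⊤).hom).map
    (J'.subscheme.presheaf.map i.op).hom

theorem trans_basicOpen {I J' : V.IdealSheafData} (h : I ≤ J') (e : Γ(I.subscheme, ⊤)) :
    (J'.subscheme.basicOpen (trans h e) : Set J'.subscheme) =
      (Scheme.IdealSheafData.inclusion h) ⁻¹' (I.subscheme.basicOpen e : Set I.subscheme) := by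
  obtain ⟨i, hi⟩ := trans_spec h
  rw [hi e]
  have h1 := Scheme.basicOpen_res J'.subscheme
    (((Scheme.IdealSheafData.inclusion h).app ⊤).hom e) i.op
  have h2 := Scheme.preimage_basicOpen (Scheme.IdealSheafData.inclusion h) e
  have h3 := congrArg (fun O : J'.subscheme.Opens => (O : Set J'.subscheme)) h1
  have h4 := congrArg (fun O : J'.subscheme.Opens => (O : Set J'.subscheme)) h2
  simp only [Opens.coe_inf, Opens.map_coe, Opens.coe_top, Set.preimage_univ,
    Set.univ_inter] at h3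
  exact h3.trans h4.symm

end Bridge

section Top

variable {V : Scheme.{u}} (J : V.IdealSheafData)

/-- the `n`-th infinitesimal neighbourhood -/
abbrev Zn (n : ℕ) : Scheme.{u} := (J ^ (n + 1)).subscheme

/-- its inclusion -/
abbrev ιn (n : ℕ) : Zn J n ⟶ V := (J ^ (n + 1)).subschemeι

/-- the transition inclusion -/
abbrev incl (n : ℕ) : Zn J n ⟶ Zn J (n + 1) :=
  Scheme.IdealSheafData.inclusion (Lef.pow_succ_le J n)

lemma incl_ιn (n : ℕ) : incl J n ≫ ιn J (n + 1) = ιn J n :=
  Scheme.IdealSheafData.inclusion_subschemeι _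

lemma range_ιn (n : ℕ) : Set.range (ιn J n) = (J.support : Set V) := by
  rw [Scheme.IdealSheafData.range_subschemeι, Scheme.IdealSheafData.support_pow_succ]

lemma exists_ιn_eq (n m : ℕ) (x : Zn J n) : ∃ y : Zn J m, ιn J m y = ιn J n x := by
  have h : ιn J n x ∈ Set.range (ιn J m) := by
    rw [range_ιn, ← range_ιn J n]
    exact ⟨x, rfl⟩
  exact h

lemma ιn_injective (n : ℕ) : Function.Injective (ιn J n) :=
  (ιn J n).isClosedEmbedding.injective

/-- the clopen subset of `Z n` corresponding to a subset of `Z 0` -/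
def sn (s0 : Set (Zn J 0)) (n : ℕ) : Set (Zn J n) := (ιn J n) ⁻¹' ((ιn J 0) '' s0)

lemma sn_zero (s0 : Set (Zn J 0)) : sn J s0 0 = s0 :=
  Set.preimage_image_eq _ (ιn_injective J 0)

lemma sn_compl (s0 : Set (Zn J 0)) (n : ℕ) : sn J s0 n = (sn J s0ᶜ n)ᶜ := by
  ext x
  simp only [sn, Set.mem_preimage, Set.mem_image, Set.mem_compl_iff]
  constructor
  · rintro ⟨y, hy, hyx⟩ ⟨y', hy', hyx'⟩
    have : y = y' := ιn_injective J 0 (hyx.trans hyx'.symm)
    exact hy' (this ▸ hy)
  · intro hx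
    obtain ⟨y, hy⟩ := exists_ιn_eq J n 0 x
    by_cases hys : y ∈ s0
    · exact ⟨y, hys, hy⟩
    · exact (hx ⟨y, hys, hy⟩).elim

lemma isClosed_sn {s0 : Set (Zn J 0)} (hs : IsClosed s0) (n : ℕ) : IsClosed (sn J s0 n) :=
  ((ιn J 0).isClosedEmbedding.isClosedMap _ hs).preimage (ιn J n).continuous

lemma isClopen_sn {s0 : Set (Zn J 0)} (hs : IsClopen s0) (n : ℕ) : IsClopen (sn J s0 n) := by
  refine ⟨isClosed_sn J hs.1 n, ?_⟩
  rw [sn_compl]
  exact (isClosed_sn J hs.compl.1 n).isOpen_compl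

lemma incl_preimage_sn (s0 : Set (Zn J 0)) (n : ℕ) :
    (incl J n) ⁻¹' (sn J s0 (n + 1)) = sn J s0 n := by
  ext x
  simp only [sn, Set.mem_preimage]
  rw [← Scheme.Hom.comp_apply, incl_ιn]

lemma preimage_eq_empty {s : Set V} (h : (ιn J 0) ⁻¹' s = ∅) (n : ℕ) : (ιn J n) ⁻¹' s = ∅ := by
  rw [Set.eq_empty_iff_forall_notMem]
  intro x hx
  obtain ⟨y, hy⟩ := exists_ιn_eq J n 0 x
  have : y ∈ (ιn J 0) ⁻¹' s := by
    show ιn J 0 y ∈ s
    rw [hy]; exact hx
  rw [h] at this
  exact this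

lemma preimage_eq_univ {s : Set V} (h : (ιn J 0) ⁻¹' s = Set.univ) (n : ℕ) :
    (ιn J n) ⁻¹' s = Set.univ := by
  rw [Set.eq_univ_iff_forall]
  intro x
  obtain ⟨y, hy⟩ := exists_ιn_eq J n 0 x
  have : y ∈ (ιn J 0) ⁻¹' s := by rw [h]; trivial
  show ιn J n x ∈ s
  rw [← hy]; exact this

end Top

section Idem

variable (Y : Scheme.{u})

lemma idem_eq_zero {e : Γ(Y, ⊤)} (he : IsIdempotentElem e)
    (h : (Y.basicOpen e : Set Y) = ∅) : e = 0 := by
  refine eq_of_basicOpen_eq Y he IsIdempotentElem.zero ?_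
  apply Opens.ext
  rw [h, Scheme.basicOpen_zero]
  rfl

lemma idem_eq_one {e : Γ(Y, ⊤)} (he : IsIdempotentElem e)
    (h : (Y.basicOpen e : Set Y) = Set.univ) : e = 1 := by
  refine eq_of_basicOpen_eq Y he IsIdempotentElem.one ?_
  apply Opens.ext
  rw [h, Scheme.basicOpen_one]
  rfl

end Idem

section Main

variable {V : Scheme.{u}} (J : V.IdealSheafData)

/-- restriction of functions to the `n`-th neighbourhood -/
def ρ (n : ℕ) : Γ(V, ⊤) →+* Γ(Zn J n, ⊤) := ((ιn J n).app ⊤).hom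

lemma ρ_basicOpen (n : ℕ) (a : Γ(V, ⊤)) :
    ((Zn J n).basicOpen (ρ J n a) : Set (Zn J n)) = (ιn J n) ⁻¹' (V.basicOpen a : Set V) :=
  (congrArg (fun O : (Zn J n).Opens => (O : Set (Zn J n)))
    (Scheme.preimage_basicOpen (ιn J n) a)).symm

theorem forward
    (hinj : ∀ φ ψ : Coh.structureModule V ⟶ Coh.structureModule V,
      (∀ n : ℕ, φ ≫ ClSub.toSubscheme (J ^ (n + 1)) = ψ ≫ ClSub.toSubscheme (J ^ (n + 1))) → φ = ψ)
    [ConnectedSpace (Zn J 0)] : ConnectedSpace V := by
  have hne : Nonempty V := ⟨ιn J 0 (Classical.arbitrary _)⟩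
  have hI : ∀ a b : Γ(V, ⊤), (∀ n, ρ J n a = ρ J n b) → a = b :=
    fun a b h => inj_of_lef J hinj a b h
  have hpre : PreconnectedSpace V := by
    rw [preconnectedSpace_iff_clopen]
    intro s hs
    obtain ⟨a, ha, has⟩ := exists_idem_basicOpen_eq V hs
    have hidem : ∀ n, IsIdempotentElem (ρ J n a) := fun n => ha.map (ρ J n)
    have hbo : ∀ n, ((Zn J n).basicOpen (ρ J n a) : Set (Zn J n)) = (ιn J n) ⁻¹' s := by
      intro n
      rw [ρ_basicOpen, has]
    rcases isClopen_iff.mp (isClopen_basicOpen (Zn J 0) (hidem 0)) with h0 | h1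
    · left
      rw [hbo 0] at h0
      have hall : ∀ n, ρ J n a = ρ J n 0 := fun n => by
        rw [map_zero]
        exact idem_eq_zero _ (hidem n) (by rw [hbo n]; exact preimage_eq_empty J h0 n)
      have h3 := hI a 0 hall
      rw [← has, h3, Scheme.basicOpen_zero]
      rfl
    · right
      rw [hbo 0] at h1
      have hall : ∀ n, ρ J n a = ρ J n 1 := fun n => by
        rw [map_one]
        exact idem_eq_one _ (hidem n) (by rw [hbo n]; exact preimage_eq_univ J h1 n)
      have h3 := hI a 1 hall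
      rw [← has, h3, Scheme.basicOpen_one]
      rfl
  exact { toPreconnectedSpace := hpre, toNonempty := hne }

theorem backward (hlef : Lef.HomToFormalBijective J (Coh.structureModule V)) [ConnectedSpace V] :
    ConnectedSpace (Zn J 0) := by
  obtain ⟨hinj, hsurj⟩ := hlef
  have hI : ∀ a b : Γ(V, ⊤), (∀ n, ρ J n a = ρ J n b) → a = b :=
    fun a b h => inj_of_lef J hinj a b h
  have hne : Nonempty (Zn J 0) := by
    by_contra hE
    rw [not_nonempty_iff] at hE
    have hsub : ∀ n, Subsingleton Γ(Zn J n, ⊤) := fun n => by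
      have h1 : (⊤ : (Zn J n).Opens) = ⊥ := by
        ext x
        obtain ⟨y, -⟩ := exists_ιn_eq J n 0 x
        exact (hE.false y).elim
      rw [h1]
      infer_instance
    have h10 : (1 : Γ(V, ⊤)) = 0 := hI 1 0 (fun n => (hsub n).elim _ _)
    have h5 : (⊤ : V.Opens) = ⊥ := by
      rw [← Scheme.basicOpen_one (X := V) (U := ⊤), h10, Scheme.basicOpen_zero]
    obtain ⟨x⟩ := (inferInstance : Nonempty V)
    have hx : x ∈ (⊥ : V.Opens) := h5 ▸ (trivial : x ∈ (⊤ : V.Opens))
    exact hx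
  have hpre : PreconnectedSpace (Zn J 0) := by
    rw [preconnectedSpace_iff_clopen]
    intro s0 hs0
    have hex : ∀ n, ∃ e : Γ(Zn J n, ⊤), IsIdempotentElem e ∧
        ((Zn J n).basicOpen e : Set (Zn J n)) = sn J s0 n :=
      fun n => exists_idem_basicOpen_eq (Zn J n) (isClopen_sn J hs0 n)
    choose e he hes using hex
    have hcompat : ∀ n, trans (Lef.pow_succ_le J n) (e (n + 1)) = e n := by
      intro n
      refine eq_of_basicOpen_eq (Zn J n) (trans_idem _ (he (n + 1))) (he n) ?_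
      apply Opens.ext
      rw [trans_basicOpen, hes (n + 1), hes n]
      exact incl_preimage_sn J s0 n
    obtain ⟨a, ha⟩ := surj_of_lef J hsurj (fun n => qSec (J ^ (n + 1)) (e n)) (fun n => by
      have := congrArg (qSec (J ^ (n + 1))) (hcompat n)
      exact this)
    have hρ : ∀ n, ρ J n a = e n := fun n => by
      have h1 := ha n
      rw [tS_eq] at h1
      exact congrArg (qFun (J ^ (n + 1))) h1
    have hidem : IsIdempotentElem a := hI (a * a) a (fun n => by
      rw [map_mul, hρ n]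
      exact he n)
    rcases isClopen_iff.mp (isClopen_basicOpen V hidem) with h0 | h1
    · left
      have ha0 : a = 0 := idem_eq_zero V hidem h0
      have h2 : e 0 = 0 := by rw [← hρ 0, ha0, map_zero]
      rw [← sn_zero J s0, ← hes 0, h2, Scheme.basicOpen_zero]
      rfl
    · right
      have ha1 : a = 1 := idem_eq_one V hidem h1
      have h2 : e 0 = 1 := by rw [← hρ 0, ha1, map_one]
      rw [← sn_zero J s0, ← hes 0, h2, Scheme.basicOpen_one]
      rfl
  exact { toPreconnectedSpace := hpre, toNonempty := hne }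

theorem connected_iff (hlef : Lef.HomToFormalBijective J (Coh.structureModule V)) :
    ConnectedSpace (Zn J 0) ↔ ConnectedSpace V :=
  ⟨fun _ => forward J hlef.1, fun _ => backward J hlef⟩

end Main

theorem main (X : Scheme.{u}) (𝓘 : X.IdealSheafData) (h : Lef.LefCond X 𝓘) (U : X.Opens)
    (hU : (𝓘.support : Set X) ⊆ (U : Set X)) :
    ConnectedSpace (𝓘.support : Set X) ↔ ConnectedSpace U := by
  have hlef := h U hU (Coh.structureModule (U : Scheme.{u}))
    (Groth.Agent.Lib.Helper26.FinPush.isFinLocFree_structureModule _)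
  have h1 := connected_iff (𝓘.comap U.ι) hlef
  -- the embedding of `Z 0` into `X`
  let c : Zn (𝓘.comap U.ι) 0 → X := fun z => U.ι (ιn (𝓘.comap U.ι) 0 z)
  have hc : Topology.IsInducing c :=
    (U.ι.isOpenEmbedding.isInducing).comp (ιn (𝓘.comap U.ι) 0).isClosedEmbedding.isInducing
  have hrange : Set.range c = (𝓘.support : Set X) := by
    have h2 : Set.range c = U.ι '' Set.range (ιn (𝓘.comap U.ι) 0) := by
      rw [← Set.range_comp]
      rfl
    rw [h2, range_ιn, Scheme.IdealSheafData.support_comap]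
    rw [TopologicalSpace.Closeds.coe_preimage, Set.image_preimage_eq_inter_range,
      Scheme.Opens.range_ι]
    exact Set.inter_eq_left.mpr hU
  have h3 : ConnectedSpace (𝓘.support : Set X) ↔ ConnectedSpace (Zn (𝓘.comap U.ι) 0) := by
    rw [← isConnected_iff_connectedSpace, connectedSpace_iff_univ, ← hrange, ← Set.image_univ]
    constructor
    · intro hconn
      exact ⟨Set.image_nonempty.mp hconn.1, hc.isPreconnected_image.mp hconn.2⟩
    · intro hconn
      exact ⟨hconn.1.image c, hc.isPreconnected_image.mpr hconn.2⟩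
  exact h3.trans h1

end Groth.Helper16.LefConn
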