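import Mathlib

/-!
# Helper library (helper16): a morphism to a locally Noetherian scheme whose image consists of pairwise
non-specializing points is locally constant
-/

set_option autoImplicit false
universe u
open CategoryTheory CategoryTheory.Limits AlgebraicGeometry Opposite Topology TopologicalSpace

namespace Groth.Agent.Lib.Helper16.LocConst

/-- In a spectral space, the members of a pairwise disjoint cover by closed sets with quasi-compact complements are open. -/
theorem isOpen_of_disjoint_closed_cover {Y : Type*} [TopologicalSpace Y] [CompactSpace Y] [QuasiSober Y]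
    [PrespectralSpace Y] [QuasiSeparatedSpace Y] {ι : Type*} (F : ι → Set Y) (hcl : ∀ i, IsClosed (F i))
    (hco : ∀ i, IsCompact (F i)ᶜ) (hdisj : ∀ i j, i ≠ j → Disjoint (F i) (F j)) (hcov : ∀ y, ∃ i, y ∈ F i)
    (i : ι) : IsOpen (F i) := by
  classical
  have hG : ∀ j, IsOpen (WithTopology.ofTopology (t := constructibleTopology Y) ⁻¹' (F j)) := by
    intro j
    rw [WithTopology.isOpen_iff]
    exact (hco j).isOpen_constructibleTopology_of_isClosed (hcl j)
  obtain ⟨s, hs⟩ := isCompact_univ.elim_finite_subcover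
    (fun j => WithTopology.ofTopology (t := constructibleTopology Y) ⁻¹' (F j)) hG (by
      intro y _
      obtain ⟨j, hj⟩ := hcov (WithTopology.ofTopology y)
      exact Set.mem_iUnion.2 ⟨j, hj⟩)
  have hcompl : F i = (⋃ j ∈ s.erase i, F j)ᶜ := by
    ext y
    constructor
    · intro hy hy'
      simp only [Set.mem_iUnion] at hy'
      obtain ⟨j, hj, hyj⟩ := hy'
      have hne : j ≠ i := (Finset.mem_erase.1 hj).1
      exact Set.disjoint_left.1 (hdisj j i hne) hyj hy
    · intro hy
      have := hs (Set.mem_univ (WithTopology.toTopology (constructibleTopology Y) y))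
      simp only [Set.mem_iUnion] at this
      obtain ⟨j, hj, hyj⟩ := this
      by_cases hji : j = i
      · subst hji; exact hyj
      · exact (hy (Set.mem_iUnion₂.2 ⟨j, Finset.mem_erase.2 ⟨hji, hj⟩, hyj⟩)).elim
  rw [hcompl]
  exact (Set.Finite.isClosed_biUnion (Finset.finite_toSet _) fun j _ => hcl j).isOpen_compl

/-- A morphism of affine schemes to a Noetherian one whose image consists of pairwise non-specializing points has
open fibres. -/
theorem isOpen_preimage_singleton_of_affine {Y W : Scheme.{u}} [IsAffine Y] [IsAffine W] [NoetherianSpace W]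
    (h : Y ⟶ W) (hT : ∀ y y' : Y, h y' ⤳ h y → h y = h y') (y : Y) : IsOpen (h ⁻¹' {h y}) := by
  let F : Set.range h → Set Y := fun t => h ⁻¹' {t.1}
  have hFeq : ∀ t : Set.range h, F t = h ⁻¹' (closure {t.1}) := by
    intro t
    ext z
    constructor
    · intro hz
      exact subset_closure hz
    · intro hz
      obtain ⟨y', hy'⟩ := t.2
      have hs : h y' ⤳ h z := by rw [hy']; exact specializes_iff_mem_closure.2 hz
      show h z = t.1
      rw [← hy']
      exact hT z y' hs
  have hcl : ∀ t, IsClosed (F t) := fun t => by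
    rw [hFeq]; exact isClosed_closure.preimage h.continuous
  have hco : ∀ t, IsCompact (F t)ᶜ := by
    intro t
    rw [hFeq, ← Set.preimage_compl]
    exact QuasiCompact.isCompact_preimage (f := h) _ isClosed_closure.isOpen_compl
      (NoetherianSpace.isCompact _)
  have hdisj : ∀ t t' : Set.range h, t ≠ t' → Disjoint (F t) (F t') := by
    intro t t' hne
    rw [Set.disjoint_left]
    intro z hz hz'
    exact hne (Subtype.ext ((show h z = t.1 from hz).symm.trans hz'))
  exact isOpen_of_disjoint_closed_cover F hcl hco hdisj (fun z => ⟨⟨h z, z, rfl⟩, rfl⟩) ⟨h y, y, rfl⟩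

/-- A morphism to a locally Noetherian scheme whose image consists of pairwise non-specializing points is locally
constant. -/
theorem exists_open_nhd_const {U V : Scheme.{u}} [IsLocallyNoetherian V] (h : U ⟶ V)
    (hT : ∀ u u' : U, h u' ⤳ h u → h u = h u') (u : U) :
    ∃ N : U.Opens, u ∈ N ∧ ∀ z ∈ N, h z = h u := by
  obtain ⟨_, ⟨W₀, hW₀, rfl⟩, huW, -⟩ :=
    V.isBasis_affineOpens.exists_subset_of_mem_open (Set.mem_univ (h u)) isOpen_univ
  let W : V.Opens := W₀
  have hW : IsAffineOpen W := hW₀
  obtain ⟨_, ⟨U₀, hU₀, rfl⟩, huU, hUW⟩ :=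
    U.isBasis_affineOpens.exists_subset_of_mem_open (show u ∈ ((h ⁻¹ᵁ W : U.Opens) : Set U) from huW)
      (h ⁻¹ᵁ W).2
  let U'' : U.Opens := U₀
  have hU'' : IsAffineOpen U'' := hU₀
  have hUaff : IsAffine U''.toScheme := hU''
  have hWaff : IsAffine W.toScheme := hW
  have hWN : NoetherianSpace ↥W.toScheme := by
    have : IsNoetherianRing Γ(V, W) := IsLocallyNoetherian.component_noetherian ⟨W, hW⟩
    exact noetherianSpace_of_isAffineOpen W hW
  have hrange : Set.range (U''.ι ≫ h) ⊆ Set.range W.ι := by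
    rintro _ ⟨z, rfl⟩
    rw [Scheme.Opens.range_ι]
    exact hUW z.2
  let h'' := IsOpenImmersion.lift W.ι (U''.ι ≫ h) hrange
  have hfac : h'' ≫ W.ι = U''.ι ≫ h := IsOpenImmersion.lift_fac _ _ _
  have hfac' : ∀ z : U''.toScheme, W.ι (h'' z) = h (U''.ι z) := fun z => by
    rw [← Scheme.Hom.comp_apply, hfac, Scheme.Hom.comp_apply]
  have hT'' : ∀ z z' : U''.toScheme, h'' z' ⤳ h'' z → h'' z = h'' z' := by
    intro z z' hs
    apply W.ι.injective
    have hs' : W.ι (h'' z') ⤳ W.ι (h'' z) := hs.map W.ι.continuous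
    rw [hfac', hfac'] at hs' ⊢
    exact hT _ _ hs'
  have hopen := isOpen_preimage_singleton_of_affine h'' hT'' ⟨u, huU⟩
  let N' : U''.toScheme.Opens := ⟨_, hopen⟩
  refine ⟨U''.ι ''ᵁ N', ⟨⟨u, huU⟩, rfl, rfl⟩, ?_⟩
  rintro _ ⟨z, hz, rfl⟩
  have hz' : h'' z = h'' ⟨u, huU⟩ := hz
  have h1 := hfac' z
  have h2 := hfac' ⟨u, huU⟩
  rw [hz'] at h1
  exact h1.symm.trans h2

end Groth.Agent.Lib.Helper16.LocConst
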