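import Groth.Agent.Lib.Helper16.LocP

/-!
# Helper library (helper16): descent of `LocP @LocallyOfFiniteType` along an etale surjective chart of the target
-/

set_option autoImplicit false
universe u
open CategoryTheory CategoryTheory.Limits AlgebraicGeometry Opposite Topology

namespace Groth.Agent.Lib.Helper16

open AlgSp

variable {S : Scheme.{u}}

theorem locP_lft_of_chart {X Y : Sp S} (f : X ⟶ Y) {V : Over S} (p : (yon S).obj V ⟶ Y)
    (hp : RepWith @Etale p) (hps : RepWith @Surjective p) {P : Sp S} (fst : P ⟶ X)
    (snd : P ⟶ (yon S).obj V) (sq : IsPullback fst snd f p) (h : LocP @LocallyOfFiniteType snd) :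
    LocP @LocallyOfFiniteType f := by
  intro U V₁ a b m ha hb hcomm
  obtain ⟨V₁', π, w₀, sqV⟩ := hp.rep b
  obtain ⟨w, rfl⟩ := (yon S).map_surjective w₀
  have hπe : Etale π.left := hp.property _ _ _ sqV
  have hπs : Surjective π.left := hps.property _ _ _ sqV
  refine P_of_fppf_cover m π hπs inferInstance inferInstance ?_
  have sqU : IsPullback ((yon S).map (pullback.snd m π)) ((yon S).map (pullback.fst m π)) ((yon S).map π)
      ((yon S).map m) := ((IsPullback.of_hasPullback m π).map (yon S)).flip
  have R1 : IsPullback ((yon S).map (pullback.snd m π) ≫ (yon S).map w) ((yon S).map (pullback.fst m π)) p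
      (a ≫ f) := by
    rw [hcomm]
    exact sqU.paste_horiz sqV
  have hl1 : sq.lift ((yon S).map (pullback.fst m π) ≫ a) ((yon S).map (pullback.snd m π) ≫ (yon S).map w)
      (by rw [Category.assoc, R1.w]) ≫ fst = (yon S).map (pullback.fst m π) ≫ a := sq.lift_fst _ _ _
  have sqa : IsPullback (sq.lift ((yon S).map (pullback.fst m π) ≫ a)
      ((yon S).map (pullback.snd m π) ≫ (yon S).map w) (by rw [Category.assoc, R1.w]))
      ((yon S).map (pullback.fst m π)) fst a := by
    refine IsPullback.of_right ?_ hl1 sq.flip
    rw [sq.lift_snd]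
    exact R1
  have ha' : RepWith @Etale (sq.lift ((yon S).map (pullback.fst m π) ≫ a)
      ((yon S).map (pullback.snd m π) ≫ (yon S).map w) (by rw [Category.assoc, R1.w])) :=
    (RepWith @Etale).of_isPullback sqa.flip ha
  have h3 : LocallyOfFiniteType (pullback.snd m π ≫ w).left := by
    refine h _ (𝟙 _) (pullback.snd m π ≫ w) ha' (repWith_id _ V) ?_
    rw [sq.lift_snd, Category.comp_id, Functor.map_comp]
  rw [Over.comp_left] at h3
  exact locallyOfFiniteType_of_comp _ w.left

end Groth.Agent.Lib.Helper16
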