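import Mathlib

/-!
# The total presheaf on schemes of a presheaf on schemes over `S`, and its sheaf property
-/

namespace Groth.Agent.Lib.Helper16.LocRep

open CategoryTheory CategoryTheory.Limits AlgebraicGeometry Opposite

universe w u
variable {S : Scheme.{u}} (F : (Over S)ᵒᵖ ⥤ Type u)

/-- restriction of a section along `h : T' ⟶ T` -/
def res {T T' : Scheme.{u}} (h : T' ⟶ T) (t : T ⟶ S) (t' : T' ⟶ S) (hh : h ≫ t = t')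
    (ξ : F.obj (op (Over.mk t))) : F.obj (op (Over.mk t')) :=
  F.map (Over.homMk h hh : Over.mk t' ⟶ Over.mk t).op ξ

lemma res_res {T T' T'' : Scheme.{u}} (h : T' ⟶ T) (h' : T'' ⟶ T') (t : T ⟶ S) (t' : T' ⟶ S)
    (t'' : T'' ⟶ S) (hh : h ≫ t = t') (hh' : h' ≫ t' = t'')
    (ξ : F.obj (op (Over.mk t))) :
    res F h' t' t'' hh' (res F h t t' hh ξ) =
      res F (h' ≫ h) t t'' (by rw [Category.assoc, hh, hh']) ξ := by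
  unfold res
  rw [← Functor.map_comp_apply, ← op_comp]
  rfl

lemma res_id {T : Scheme.{u}} (t : T ⟶ S) (hh : 𝟙 T ≫ t = t) (ξ : F.obj (op (Over.mk t))) :
    res F (𝟙 T) t t hh ξ = ξ := by
  unfold res
  have : (Over.homMk (𝟙 T) hh : Over.mk t ⟶ Over.mk t) = 𝟙 _ := rfl
  rw [this, op_id, F.map_id_apply]

lemma res_congr {T T' : Scheme.{u}} {h h₂ : T' ⟶ T} (e : h = h₂) (t : T ⟶ S) (t' : T' ⟶ S)
    (hh : h ≫ t = t') (hh₂ : h₂ ≫ t = t') (ξ : F.obj (op (Over.mk t))) :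
    res F h t t' hh ξ = res F h₂ t t' hh₂ ξ := by
  subst e; rfl

lemma res_congr' {T T' : Scheme.{u}} {h h₂ : T' ⟶ T} (e : h = h₂) (t : T ⟶ S) (t' : T' ⟶ S)
    (hh : h ≫ t = t') (ξ : F.obj (op (Over.mk t))) :
    res F h t t' hh ξ = res F h₂ t t' (e ▸ hh) ξ := by
  subst e; rfl

lemma map_eq_res {T T' : Scheme.{u}} {t : T ⟶ S} {t' : T' ⟶ S} (φ : Over.mk t' ⟶ Over.mk t)
    (ξ : F.obj (op (Over.mk t))) : F.map φ.op ξ = res F φ.left t t' (Over.w φ) ξ := rfl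

lemma tot_ext {T : Scheme.{u}} {a b : Σ t : T ⟶ S, F.obj (op (Over.mk t))} (h1 : a.1 = b.1)
    (h2 : res F (𝟙 T) b.1 a.1 (by rw [Category.id_comp, h1]) b.2 = a.2) : a = b := by
  obtain ⟨t, ξ⟩ := a
  obtain ⟨t', ξ'⟩ := b
  dsimp only at h1
  subst h1
  rw [res_id] at h2
  subst h2
  rfl

lemma res_eq_of_tot_eq {T T' : Scheme.{u}} {a b : Σ t : T ⟶ S, F.obj (op (Over.mk t))}
    (e : a = b) (h : T' ⟶ T) (t' : T' ⟶ S) (ha : h ≫ a.1 = t') (hb : h ≫ b.1 = t') :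
    res F h a.1 t' ha a.2 = res F h b.1 t' hb b.2 := by
  subst e; rfl

/-- the total presheaf on schemes -/
def tot : Scheme.{u}ᵒᵖ ⥤ Type u where
  obj T := Σ t : T.unop ⟶ S, F.obj (op (Over.mk t))
  map {T T'} h := ↾(fun p => ⟨h.unop ≫ p.1, res F h.unop p.1 _ rfl p.2⟩)
  map_id T := by
    apply ConcreteCategory.hom_ext
    intro p
    refine tot_ext F (Category.id_comp _) ?_
    rfl
  map_comp {T T' T''} h h' := by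
    apply ConcreteCategory.hom_ext
    intro p
    refine tot_ext F (Category.assoc _ _ _) ?_
    show res F (𝟙 _) (h'.unop ≫ h.unop ≫ p.1) ((h'.unop ≫ h.unop) ≫ p.1) _
      (res F h'.unop (h.unop ≫ p.1) _ rfl (res F h.unop p.1 _ rfl p.2)) =
      res F (h'.unop ≫ h.unop) p.1 _ rfl p.2
    rw [res_res, res_res]
    exact res_congr F (by simp) _ _ _ _ _

/-- Zariski sheaf condition for a presheaf on `Over S`, in terms of open covers -/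
def IsZarSheaf : Prop :=
  ∀ (T : Scheme.{u}) (t : T ⟶ S) (𝒰 : Scheme.OpenCover.{w} T)
    (ξ : ∀ j, F.obj (op (Over.mk (𝒰.f j ≫ t)))),
    (∀ (i j : 𝒰.I₀) (Z : Scheme.{u}) (g₁ : Z ⟶ 𝒰.X i) (g₂ : Z ⟶ 𝒰.X j)
      (hg : g₁ ≫ 𝒰.f i = g₂ ≫ 𝒰.f j),
      res F g₁ (𝒰.f i ≫ t) (g₁ ≫ 𝒰.f i ≫ t) rfl (ξ i) =
        res F g₂ (𝒰.f j ≫ t) (g₁ ≫ 𝒰.f i ≫ t)
          (by rw [← Category.assoc, ← hg, Category.assoc]) (ξ j)) →
    ∃! ξ₀ : F.obj (op (Over.mk t)), ∀ j, res F (𝒰.f j) t (𝒰.f j ≫ t) rfl ξ₀ = ξ j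

theorem tot_isSheaf (hF : IsZarSheaf.{u + 1} F) :
    Presieve.IsSheaf Scheme.zariskiTopology (tot F) := by
  rw [Precoverage.isSheaf_toGrothendieck_iff_of_isStableUnderBaseChange]
  rintro Y R hR x hx
  obtain ⟨(𝓤 : Scheme.OpenCover.{u + 1} Y), rfl⟩ := Scheme.exists_cover_of_mem_pretopology hR
  have hcomp : ∀ (i j : 𝓤.I₀) (Z : Scheme.{u}) (g₁ : Z ⟶ 𝓤.X i) (g₂ : Z ⟶ 𝓤.X j)
      (_ : g₁ ≫ 𝓤.f i = g₂ ≫ 𝓤.f j),
      (tot F).map g₁.op (x (𝓤.f i) (.mk i)) = (tot F).map g₂.op (x (𝓤.f j) (.mk j)) :=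
    fun i j Z g₁ g₂ hg => hx g₁ g₂ (.mk i) (.mk j) hg
  have hcomp1 : ∀ (i j : 𝓤.I₀) (Z : Scheme.{u}) (g₁ : Z ⟶ 𝓤.X i) (g₂ : Z ⟶ 𝓤.X j)
      (_ : g₁ ≫ 𝓤.f i = g₂ ≫ 𝓤.f j),
      g₁ ≫ (x (𝓤.f i) (.mk i)).1 = g₂ ≫ (x (𝓤.f j) (.mk j)).1 :=
    fun i j Z g₁ g₂ hg => congrArg Sigma.fst (hcomp i j Z g₁ g₂ hg)
  let t : Y ⟶ S := 𝓤.glueMorphisms (fun j => (x (𝓤.f j) (.mk j)).1)
    (fun i j => hcomp1 i j _ _ _ pullback.condition)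
  have ht : ∀ j, 𝓤.f j ≫ t = (x (𝓤.f j) (.mk j)).1 := fun j => 𝓤.ι_glueMorphisms _ _ j
  let ξ : ∀ j, F.obj (op (Over.mk (𝓤.f j ≫ t))) := fun j =>
    res F (𝟙 _) (x (𝓤.f j) (.mk j)).1 (𝓤.f j ≫ t) (by rw [Category.id_comp, ht])
      (x (𝓤.f j) (.mk j)).2
  have hξ : ∀ (i j : 𝓤.I₀) (Z : Scheme.{u}) (g₁ : Z ⟶ 𝓤.X i) (g₂ : Z ⟶ 𝓤.X j)
      (hg : g₁ ≫ 𝓤.f i = g₂ ≫ 𝓤.f j),
      res F g₁ (𝓤.f i ≫ t) (g₁ ≫ 𝓤.f i ≫ t) rfl (ξ i) =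
        res F g₂ (𝓤.f j ≫ t) (g₁ ≫ 𝓤.f i ≫ t)
          (by rw [← Category.assoc, ← hg, Category.assoc]) (ξ j) := by
    intro i j Z g₁ g₂ hg
    have e := res_eq_of_tot_eq F (hcomp i j Z g₁ g₂ hg) (𝟙 Z) (g₁ ≫ 𝓤.f i ≫ t)
      (by rw [Category.id_comp, ht]; rfl)
      (by rw [Category.id_comp, ← Category.assoc, hg, Category.assoc, ht]; rfl)
    have e' : res F (𝟙 Z) (g₁ ≫ (x (𝓤.f i) (.mk i)).1) (g₁ ≫ 𝓤.f i ≫ t)
        (by rw [Category.id_comp, ht])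
        (res F g₁ (x (𝓤.f i) (.mk i)).1 _ rfl (x (𝓤.f i) (.mk i)).2) =
      res F (𝟙 Z) (g₂ ≫ (x (𝓤.f j) (.mk j)).1) (g₁ ≫ 𝓤.f i ≫ t)
        (by rw [Category.id_comp, ← Category.assoc, hg, Category.assoc, ht])
        (res F g₂ (x (𝓤.f j) (.mk j)).1 _ rfl (x (𝓤.f j) (.mk j)).2) := e
    rw [res_res, res_res] at e'
    show res F g₁ (𝓤.f i ≫ t) (g₁ ≫ 𝓤.f i ≫ t) rfl
        (res F (𝟙 _) (x (𝓤.f i) (.mk i)).1 (𝓤.f i ≫ t) _ (x (𝓤.f i) (.mk i)).2) =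
      res F g₂ (𝓤.f j ≫ t) (g₁ ≫ 𝓤.f i ≫ t) _
        (res F (𝟙 _) (x (𝓤.f j) (.mk j)).1 (𝓤.f j ≫ t) _ (x (𝓤.f j) (.mk j)).2)
    rw [res_res, res_res]
    rw [res_congr' F (Category.id_comp g₁), res_congr' F (Category.id_comp g₂)] at e'
    rw [res_congr' F (Category.comp_id g₁), res_congr' F (Category.comp_id g₂)]
    exact e'
  obtain ⟨ξ₀, hξ₀, huniq⟩ := hF Y t 𝓤 ξ hξ
  refine ⟨⟨t, ξ₀⟩, ?_, ?_⟩
  · rintro Z e ⟨j⟩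
    refine tot_ext F (ht j) ?_
    exact (hξ₀ j).symm
  · rintro ⟨t', ξ'⟩ hy
    have h1 : t' = t := by
      apply 𝓤.hom_ext
      intro j
      rw [ht]
      exact congrArg Sigma.fst (hy (𝓤.f j) (.mk j))
    subst h1
    congr 1
    apply huniq
    intro j
    have e := res_eq_of_tot_eq F (hy (𝓤.f j) (.mk j)) (𝟙 _) (𝓤.f j ≫ t)
      (Category.id_comp _) (by rw [Category.id_comp]; exact (ht j).symm)
    have e' : res F (𝟙 _) (𝓤.f j ≫ t) (𝓤.f j ≫ t) (Category.id_comp _)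
        (res F (𝓤.f j) t (𝓤.f j ≫ t) rfl ξ') = ξ j := e
    rw [res_id] at e'
    exact e'

end Groth.Agent.Lib.Helper16.LocRep
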