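import Mathlib
import Groth.Agent.Lib.Helper16.LocRepTot

/-!
# Representability of a presheaf on `Over S` is Zariski local on `S`
-/

namespace Groth.Agent.Lib.Helper16.LocRep

open CategoryTheory CategoryTheory.Limits AlgebraicGeometry Opposite TopologicalSpace

universe u
variable {S : Scheme.{u}}

/-- `t` factors through the open `V` -/
def LandsIn {T : Scheme.{u}} (t : T ⟶ S) (V : S.Opens) : Prop := ∀ x : T, t x ∈ V

lemma landsIn_comp {T T' : Scheme.{u}} (a : T' ⟶ T) {t : T ⟶ S} {V : S.Opens}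
    (h : LandsIn t V) : LandsIn (a ≫ t) V := fun x => by
  rw [Scheme.Hom.comp_apply]; exact h (a x)

lemma landsIn_pre {T : Scheme.{u}} (t : T ⟶ S) (V : S.Opens) :
    LandsIn ((t ⁻¹ᵁ V).ι ≫ t) V := fun x => by
  rw [Scheme.Hom.comp_apply]; exact x.2

variable (F : (Over S)ᵒᵖ ⥤ Type u)

/-- local representability data over an open cover of the base -/
structure LocalRep where
  ι : Type u
  V : ι → S.Opens
  hV : ∀ s : S, ∃ i, s ∈ V i
  X : ι → Scheme.{u}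
  p : ∀ i, X i ⟶ S
  hp : ∀ i, LandsIn (p i) (V i)
  e : ∀ (i : ι) (T : Scheme.{u}) (t : T ⟶ S), LandsIn t (V i) →
    ((Over.mk t ⟶ Over.mk (p i)) ≃ F.obj (op (Over.mk t)))
  nat : ∀ (i : ι) (T T' : Scheme.{u}) (t : T ⟶ S) (t' : T' ⟶ S) (ht : LandsIn t (V i))
    (ht' : LandsIn t' (V i)) (a : T' ⟶ T) (ha : a ≫ t = t') (c : Over.mk t ⟶ Over.mk (p i)),
    e i T' t' ht' ((Over.homMk a ha : Over.mk t' ⟶ Over.mk t) ≫ c) =
      res F a t t' ha (e i T t ht c)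

variable {F} (L : LocalRep F)

/-- the morphism of presheaves `h_{X i} ⟶ tot F` -/
def phi (i : L.ι) : yoneda.obj (L.X i) ⟶ tot F where
  app T := ↾(fun a : T.unop ⟶ L.X i =>
    (⟨a ≫ L.p i, L.e i _ (a ≫ L.p i) (landsIn_comp a (L.hp i)) (Over.homMk a rfl)⟩ :
      Σ t : T.unop ⟶ S, F.obj (op (Over.mk t))))
  naturality T T' h := by
    apply ConcreteCategory.hom_ext
    intro a
    refine tot_ext F (Category.assoc _ _ _) ?_
    show res F (𝟙 _) (h.unop ≫ a ≫ L.p i) ((h.unop ≫ a) ≫ L.p i) _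
        (res F h.unop (a ≫ L.p i) _ rfl
          (L.e i _ _ (landsIn_comp a (L.hp i)) (Over.homMk a rfl))) =
      L.e i _ ((h.unop ≫ a) ≫ L.p i) (landsIn_comp _ (L.hp i)) (Over.homMk (h.unop ≫ a) rfl)
    rw [res_res, ← L.nat i _ _ _ _ _ (landsIn_comp _ (L.hp i))]
    congr 1

/-- the classifying map of the restriction of a section to `t⁻¹ V i` -/
noncomputable def cl (i : L.ι) {T : Scheme.{u}} (t : T ⟶ S) (ξ : F.obj (op (Over.mk t))) :
    Over.mk ((t ⁻¹ᵁ L.V i).ι ≫ t) ⟶ Over.mk (L.p i) :=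
  (L.e i _ ((t ⁻¹ᵁ L.V i).ι ≫ t) (landsIn_pre t (L.V i))).symm
    (res F (t ⁻¹ᵁ L.V i).ι t _ rfl ξ)

lemma e_cl (i : L.ι) {T : Scheme.{u}} (t : T ⟶ S) (ξ : F.obj (op (Over.mk t))) :
    L.e i _ _ (landsIn_pre t (L.V i)) (cl L i t ξ) = res F (t ⁻¹ᵁ L.V i).ι t _ rfl ξ :=
  Equiv.apply_symm_apply _ _

lemma phi_cl (i : L.ι) {T T' : Scheme.{u}} (t : T ⟶ S) (ξ : F.obj (op (Over.mk t)))
    (u : T' ⟶ (t ⁻¹ᵁ L.V i).toScheme) :
    (phi L i).app (op T') (u ≫ (cl L i t ξ).left) =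
      (tot F).map (u ≫ (t ⁻¹ᵁ L.V i).ι).op ⟨t, ξ⟩ := by
  have hw : (cl L i t ξ).left ≫ L.p i = (t ⁻¹ᵁ L.V i).ι ≫ t := Over.w (cl L i t ξ)
  have hu : u ≫ ((t ⁻¹ᵁ L.V i).ι ≫ t) = (u ≫ (cl L i t ξ).left) ≫ L.p i := by
    rw [Category.assoc, hw]
  refine tot_ext F ?_ ?_
  · show (u ≫ (cl L i t ξ).left) ≫ L.p i = (u ≫ (t ⁻¹ᵁ L.V i).ι) ≫ t
    rw [Category.assoc, Category.assoc, hw]
  · show res F (𝟙 _) ((u ≫ (t ⁻¹ᵁ L.V i).ι) ≫ t) ((u ≫ (cl L i t ξ).left) ≫ L.p i) _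
        (res F (u ≫ (t ⁻¹ᵁ L.V i).ι) t _ rfl ξ) =
      L.e i _ ((u ≫ (cl L i t ξ).left) ≫ L.p i) (landsIn_comp _ (L.hp i))
        (Over.homMk (u ≫ (cl L i t ξ).left) rfl)
    have hc : (Over.homMk (u ≫ (cl L i t ξ).left) rfl :
        Over.mk ((u ≫ (cl L i t ξ).left) ≫ L.p i) ⟶ Over.mk (L.p i)) =
        Over.homMk u hu ≫ cl L i t ξ := by
      apply Over.OverMorphism.ext
      simp
    rw [hc, L.nat i _ _ _ _ (landsIn_pre t (L.V i)) (landsIn_comp _ (L.hp i)) u hu (cl L i t ξ),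
      e_cl, res_res, res_res]
    exact res_congr F (Category.id_comp _) _ _ _ _ _

set_option maxHeartbeats 400000 in
lemma phi_relative (i : L.ι) : IsOpenImmersion.presheaf (phi L i) := by
  apply MorphismProperty.relative.of_exists
  intro T γ
  obtain ⟨⟨t, ξ⟩, rfl⟩ := yonedaEquiv.symm.surjective γ
  refine ⟨(t ⁻¹ᵁ L.V i).toScheme, yoneda.map (cl L i t ξ).left, (t ⁻¹ᵁ L.V i).ι, ?_,
    inferInstance⟩
  apply IsPullback.of_forall_isPullback_app
  intro T'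
  rw [Types.isPullback_iff]
  refine ⟨?_, ?_, ?_⟩
  · apply ConcreteCategory.hom_ext
    intro (u : T'.unop ⟶ (t ⁻¹ᵁ L.V i).toScheme)
    show (phi L i).app T' (u ≫ (cl L i t ξ).left) =
      (tot F).map (u ≫ (t ⁻¹ᵁ L.V i).ι).op ⟨t, ξ⟩
    exact phi_cl L i t ξ u
  · rintro u₁ u₂ ⟨-, h2⟩
    exact (cancel_mono (t ⁻¹ᵁ L.V i).ι).1 h2
  · intro (a : T'.unop ⟶ L.X i) (h : T'.unop ⟶ T) hah
    have hah' : (phi L i).app T' a = (tot F).map h.op ⟨t, ξ⟩ := hah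
    have h1 : a ≫ L.p i = h ≫ t := congrArg Sigma.fst hah'
    have hrange : Set.range h ⊆ Set.range (t ⁻¹ᵁ L.V i).ι := by
      rintro _ ⟨x, rfl⟩
      rw [Scheme.Opens.range_ι]
      show t (h x) ∈ L.V i
      rw [← Scheme.Hom.comp_apply, ← h1, Scheme.Hom.comp_apply]
      exact L.hp i (a x)
    obtain ⟨u, hu⟩ : ∃ u : T'.unop ⟶ (t ⁻¹ᵁ L.V i).toScheme, u ≫ (t ⁻¹ᵁ L.V i).ι = h :=
      ⟨IsOpenImmersion.lift _ h hrange, IsOpenImmersion.lift_fac _ _ _⟩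
    refine ⟨u, ?_, hu⟩
    have hu' : u ≫ ((t ⁻¹ᵁ L.V i).ι ≫ t) = a ≫ L.p i := by rw [← Category.assoc, hu, h1]
    have key : (Over.homMk u hu' : Over.mk (a ≫ L.p i) ⟶ Over.mk ((t ⁻¹ᵁ L.V i).ι ≫ t)) ≫
        cl L i t ξ = Over.homMk a rfl := by
      apply (L.e i _ _ (landsIn_comp a (L.hp i))).injective
      rw [L.nat i _ _ _ _ (landsIn_pre t (L.V i)) (landsIn_comp a (L.hp i)) _ hu' (cl L i t ξ),
        e_cl, res_res]
      have e2 := res_eq_of_tot_eq F hah' (𝟙 _) (a ≫ L.p i) (Category.id_comp _)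
        (by rw [Category.id_comp]; exact h1.symm)
      have e2' : res F (𝟙 _) (a ≫ L.p i) (a ≫ L.p i) (Category.id_comp _)
          (L.e i _ _ (landsIn_comp a (L.hp i)) (Over.homMk a rfl)) =
          res F (𝟙 _) (h ≫ t) (a ≫ L.p i) (by rw [Category.id_comp]; exact h1.symm)
            (res F h t _ rfl ξ) := e2
      rw [res_id, res_res] at e2'
      rw [e2']
      exact res_congr F (by rw [Category.id_comp, hu]) _ _ _ _ _
    show u ≫ (cl L i t ξ).left = a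
    exact congrArg CommaMorphism.left key

lemma phi_locallySurjective :
    Presheaf.IsLocallySurjective Scheme.zariskiTopology (Sigma.desc (phi L)) where
  imageSieve_mem {T} s := by
    obtain ⟨t, ξ⟩ := s
    have hcov : IsOpenCover (fun i => t ⁻¹ᵁ L.V i) := by
      apply IsOpenCover.mk
      rw [eq_top_iff]
      intro x _
      obtain ⟨i, hi⟩ := L.hV (t x)
      exact Opens.mem_iSup.2 ⟨i, hi⟩
    refine Scheme.zariskiTopology.superset_covering ?_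
      (T.openCoverOfIsOpenCover _ hcov).mem_grothendieckTopology
    rw [Sieve.ofArrows, Sieve.generate_le_iff]
    rintro V f ⟨i⟩
    have h1 : (Sigma.desc (phi L)).app _
        ((Sigma.ι (fun i => yoneda.obj (L.X i)) i).app _ (cl L i t ξ).left) =
        (phi L i).app _ (cl L i t ξ).left :=
      congrArg (fun ν => ν.app (op (t ⁻¹ᵁ L.V i).toScheme) (cl L i t ξ).left)
        (Sigma.ι_desc (phi L) i)
    have h2 := phi_cl L i t ξ (𝟙 _)
    simp only [Category.id_comp] at h2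
    exact Exists.intro _ (h1.trans h2)

end Groth.Agent.Lib.Helper16.LocRep
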