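import Mathlib
import Groth.Agent.Lib.Helper16.LocRepBase

/-!
# Representability of a presheaf on `Over S` is Zariski local on `S`: main theorem
-/

namespace Groth.Agent.Lib.Helper16.LocRep

open CategoryTheory CategoryTheory.Limits AlgebraicGeometry Opposite TopologicalSpace

universe u
variable {S : Scheme.{u}} (F : (Over S)ᵒᵖ ⥤ Type u)

lemma homEquiv_eq (W₀ : Scheme.{u}) (rep : (tot F).RepresentableBy W₀) {T : Scheme.{u}}
    (a : T ⟶ W₀) :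
    rep.homEquiv a = ⟨a ≫ (rep.homEquiv (𝟙 W₀)).1,
      res F a (rep.homEquiv (𝟙 W₀)).1 _ rfl (rep.homEquiv (𝟙 W₀)).2⟩ := by
  have := rep.homEquiv_comp a (𝟙 W₀)
  rw [Category.comp_id] at this
  rw [this]
  rfl

set_option maxHeartbeats 400000 in
/-- a representation of `tot F` yields a representation of `F` -/
theorem rep_of_tot (W₀ : Scheme.{u}) (rep : (tot F).RepresentableBy W₀) :
    ∃ w : W₀ ⟶ S, Nonempty (F.RepresentableBy (Over.mk w)) := by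
  obtain ⟨w, ξ₀, hw⟩ : ∃ (w : W₀ ⟶ S) (ξ₀ : F.obj (op (Over.mk w))),
      ∀ {T : Scheme.{u}} (a : T ⟶ W₀), rep.homEquiv a = ⟨a ≫ w, res F a w _ rfl ξ₀⟩ :=
    ⟨_, _, fun a => homEquiv_eq F W₀ rep a⟩
  have hinv : ∀ (T : Over S) (ξ : F.obj (op (Over.mk T.hom))),
      rep.homEquiv.symm ⟨T.hom, ξ⟩ ≫ w = T.hom := by
    intro T ξ
    have h := hw (rep.homEquiv.symm ⟨T.hom, ξ⟩)
    rw [Equiv.apply_symm_apply] at h
    exact (congrArg Sigma.fst h).symm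
  refine ⟨w, ⟨{
    homEquiv := fun {T} =>
      { toFun := fun ψ => F.map ψ.op ξ₀
        invFun := fun ξ => Over.homMk (rep.homEquiv.symm ⟨T.hom, ξ⟩) (hinv T ξ)
        left_inv := ?_
        right_inv := ?_ }
    homEquiv_comp := ?_ }⟩⟩
  · intro ψ
    apply Over.OverMorphism.ext
    show rep.homEquiv.symm ⟨T.hom, F.map ψ.op ξ₀⟩ = ψ.left
    rw [Equiv.symm_apply_eq, hw ψ.left]
    refine tot_ext F (Over.w ψ).symm ?_
    show res F (𝟙 _) (ψ.left ≫ w) T.hom _ (res F ψ.left w _ rfl ξ₀) =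
      res F ψ.left w T.hom (Over.w ψ) ξ₀
    rw [res_res]
    exact res_congr F (Category.id_comp _) _ _ _ _ _
  · intro ξ
    have h := hw (rep.homEquiv.symm ⟨T.hom, ξ⟩)
    rw [Equiv.apply_symm_apply] at h
    have e := res_eq_of_tot_eq F h (𝟙 _) T.hom (Category.id_comp _)
      (by rw [Category.id_comp]; exact hinv T ξ)
    have e' : res F (𝟙 _) T.hom T.hom (Category.id_comp _) ξ =
        res F (𝟙 _) (rep.homEquiv.symm ⟨T.hom, ξ⟩ ≫ w) T.hom
          (by rw [Category.id_comp]; exact hinv T ξ)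
          (res F (rep.homEquiv.symm ⟨T.hom, ξ⟩) w _ rfl ξ₀) := e
    rw [res_id, res_res] at e'
    show res F (rep.homEquiv.symm ⟨T.hom, ξ⟩) w T.hom (hinv T ξ) ξ₀ = ξ
    exact (res_congr F (Category.id_comp _).symm _ _ _ _ _).trans e'.symm
  · intro T T' f ψ
    show F.map (f ≫ ψ).op ξ₀ = F.map f.op (F.map ψ.op ξ₀)
    rw [op_comp, Functor.map_comp_apply]

variable {F}

set_option maxHeartbeats 400000 in
theorem preimage_iso (L : LocalRep F) {W₀ : Scheme.{u}} (w : W₀ ⟶ S)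
    (r : F.RepresentableBy (Over.mk w)) (i : L.ι) :
    Nonempty ((w ⁻¹ᵁ L.V i).toScheme ≅ L.X i) := by
  have R : ∀ {T : Scheme.{u}} {t : T ⟶ S} (ψ : Over.mk t ⟶ Over.mk w),
      r.homEquiv ψ = res F ψ.left w t (Over.w ψ) (r.homEquiv (𝟙 (Over.mk w))) := by
    intro T t ψ
    have := r.homEquiv_comp ψ (𝟙 _)
    rw [Category.comp_id] at this
    exact this
  let incl : Over.mk ((w ⁻¹ᵁ L.V i).ι ≫ w) ⟶ Over.mk w := Over.homMk (w ⁻¹ᵁ L.V i).ι rfl
  let α : Over.mk ((w ⁻¹ᵁ L.V i).ι ≫ w) ⟶ Over.mk (L.p i) :=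
    (L.e i _ ((w ⁻¹ᵁ L.V i).ι ≫ w) (landsIn_pre w _)).symm (r.homEquiv incl)
  have hα : L.e i _ _ (landsIn_pre w (L.V i)) α = r.homEquiv incl := Equiv.apply_symm_apply _ _
  let β' : Over.mk (L.p i) ⟶ Over.mk w := r.homEquiv.symm (L.e i _ (L.p i) (L.hp i) (𝟙 _))
  have h2 : r.homEquiv β' = L.e i _ (L.p i) (L.hp i) (𝟙 _) := Equiv.apply_symm_apply _ _
  have hβ' : β'.left ≫ w = L.p i := Over.w β'
  have hrange : Set.range β'.left ⊆ Set.range (w ⁻¹ᵁ L.V i).ι := by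
    rintro _ ⟨x, rfl⟩
    rw [Scheme.Opens.range_ι]
    show w (β'.left x) ∈ L.V i
    rw [← Scheme.Hom.comp_apply, hβ']
    exact L.hp i x
  obtain ⟨β, hβ⟩ : ∃ β : L.X i ⟶ (w ⁻¹ᵁ L.V i).toScheme, β ≫ (w ⁻¹ᵁ L.V i).ι = β'.left :=
    ⟨IsOpenImmersion.lift _ β'.left hrange, IsOpenImmersion.lift_fac _ _ _⟩
  have hβo : β ≫ ((w ⁻¹ᵁ L.V i).ι ≫ w) = L.p i := by rw [← Category.assoc, hβ, hβ']
  have k1 : α ≫ β' = incl := by
    apply r.homEquiv.injective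
    rw [r.homEquiv_comp, h2]
    have e1 : F.map α.op (L.e i _ (L.p i) (L.hp i) (𝟙 _)) =
        res F α.left (L.p i) ((w ⁻¹ᵁ L.V i).ι ≫ w) (Over.w α)
          (L.e i _ (L.p i) (L.hp i) (𝟙 _)) := rfl
    rw [e1, ← L.nat i _ _ _ _ (L.hp i) (landsIn_pre w (L.V i)), ← hα]
    congr 1
  have k2 : (Over.homMk β hβo : Over.mk (L.p i) ⟶ Over.mk ((w ⁻¹ᵁ L.V i).ι ≫ w)) ≫ α =
      𝟙 _ := by
    apply (L.e i _ (L.p i) (L.hp i)).injective
    rw [L.nat i _ _ _ _ (landsIn_pre w _) (L.hp i) β hβo α, hα, R incl, res_res, ← h2, R β']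
    exact res_congr F hβ _ _ _ _ _
  refine ⟨⟨α.left, β, ?_, ?_⟩⟩
  · rw [← cancel_mono (w ⁻¹ᵁ L.V i).ι, Category.assoc, hβ, Category.id_comp]
    exact congrArg CommaMorphism.left k1
  · exact congrArg CommaMorphism.left k2

theorem representable_of_localRep (hF : IsZarSheaf.{u + 1} F) (L : LocalRep F) :
    ∃ W : Over S, Nonempty (F.RepresentableBy W) ∧
      ∀ i, Nonempty ((W.hom ⁻¹ᵁ L.V i).toScheme ≅ L.X i) := by
  let G : Sheaf Scheme.zariskiTopology (Type u) :=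
    ⟨tot F, (isSheaf_iff_isSheaf_of_type _ _).2 (tot_isSheaf F hF)⟩
  haveI : Presheaf.IsLocallySurjective Scheme.zariskiTopology (Sigma.desc (phi L)) :=
    phi_locallySurjective L
  have hrep : (tot F).IsRepresentable :=
    Scheme.LocalRepresentability.isRepresentable (F := G) (f := phi L) (phi_relative L)
  obtain ⟨W₀, ⟨rep⟩⟩ := hrep.has_representation
  obtain ⟨w, ⟨r⟩⟩ := rep_of_tot F W₀ rep
  exact ⟨Over.mk w, ⟨r⟩, fun i => preimage_iso L w r i⟩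

end Groth.Agent.Lib.Helper16.LocRep
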