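import Mathlib
import Groth.Agent.Lib.Helper16.LocRepMain

/-!
# Representability of a Zariski sheaf on `Over S` covered by representable open subfunctors
-/

namespace Groth.Agent.Lib.Helper16.LocRep

open CategoryTheory CategoryTheory.Limits AlgebraicGeometry Opposite TopologicalSpace

universe u
variable {S : Scheme.{u}} (F : (Over S)ᵒᵖ ⥤ Type u)

/-- a cover of `F` by representable open subfunctors, given by universal elements -/
structure OpenRep where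
  ι : Type u
  X : ι → Scheme.{u}
  p : ∀ i, X i ⟶ S
  η : ∀ i, F.obj (op (Over.mk (p i)))
  O : ∀ (_ : ι) (T : Scheme.{u}) (t : T ⟶ S) (_ : F.obj (op (Over.mk t))), T.Opens
  hO : ∀ (T : Scheme.{u}) (t : T ⟶ S) (ξ : F.obj (op (Over.mk t))) (x : T), ∃ i, x ∈ O i T t ξ
  cl : ∀ (i : ι) (T : Scheme.{u}) (t : T ⟶ S) (ξ : F.obj (op (Over.mk t))),
    (O i T t ξ).toScheme ⟶ X i
  cl_w : ∀ (i : ι) (T : Scheme.{u}) (t : T ⟶ S) (ξ : F.obj (op (Over.mk t))),
    cl i T t ξ ≫ p i = (O i T t ξ).ι ≫ t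
  cl_η : ∀ (i : ι) (T : Scheme.{u}) (t : T ⟶ S) (ξ : F.obj (op (Over.mk t))),
    res F (cl i T t ξ) (p i) ((O i T t ξ).ι ≫ t) (cl_w i T t ξ) (η i) =
      res F (O i T t ξ).ι t _ rfl ξ
  fac : ∀ (i : ι) (T : Scheme.{u}) (t : T ⟶ S) (ξ : F.obj (op (Over.mk t))) (T' : Scheme.{u})
    (a : T' ⟶ T) (c : T' ⟶ X i) (t' : T' ⟶ S) (hc : c ≫ p i = t') (ha : a ≫ t = t'),
    res F c (p i) t' hc (η i) = res F a t t' ha ξ → ∀ x : T', a x ∈ O i T t ξ
  uniq : ∀ (i : ι) (T' : Scheme.{u}) (c₁ c₂ : T' ⟶ X i) (t' : T' ⟶ S) (h₁ : c₁ ≫ p i = t')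
    (h₂ : c₂ ≫ p i = t'), res F c₁ (p i) t' h₁ (η i) = res F c₂ (p i) t' h₂ (η i) → c₁ = c₂

variable {F} (L : OpenRep F)

/-- the morphism of presheaves `h_{X i} ⟶ tot F` classified by the universal element -/
def ophi (i : L.ι) : yoneda.obj (L.X i) ⟶ tot F where
  app T := ↾(fun a : T.unop ⟶ L.X i =>
    (⟨a ≫ L.p i, res F a (L.p i) _ rfl (L.η i)⟩ : Σ t : T.unop ⟶ S, F.obj (op (Over.mk t))))
  naturality T T' h := by
    apply ConcreteCategory.hom_ext
    intro a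
    refine tot_ext F (Category.assoc _ _ _) ?_
    show res F (𝟙 _) (h.unop ≫ a ≫ L.p i) ((h.unop ≫ a) ≫ L.p i) _
        (res F h.unop (a ≫ L.p i) _ rfl (res F a (L.p i) _ rfl (L.η i))) =
      res F (h.unop ≫ a) (L.p i) _ rfl (L.η i)
    rw [res_res, res_res]
    exact res_congr F (by simp) _ _ _ _ _

lemma ophi_cl (i : L.ι) {T T' : Scheme.{u}} (t : T ⟶ S) (ξ : F.obj (op (Over.mk t)))
    (u : T' ⟶ (L.O i T t ξ).toScheme) :
    (ophi L i).app (op T') (u ≫ L.cl i T t ξ) =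
      (tot F).map (u ≫ (L.O i T t ξ).ι).op ⟨t, ξ⟩ := by
  have hw := L.cl_w i T t ξ
  have hu : u ≫ ((L.O i T t ξ).ι ≫ t) = (u ≫ L.cl i T t ξ) ≫ L.p i := by
    rw [Category.assoc, hw]
  refine tot_ext F ?_ ?_
  · show (u ≫ L.cl i T t ξ) ≫ L.p i = (u ≫ (L.O i T t ξ).ι) ≫ t
    rw [Category.assoc, Category.assoc, hw]
  · show res F (𝟙 _) ((u ≫ (L.O i T t ξ).ι) ≫ t) ((u ≫ L.cl i T t ξ) ≫ L.p i) _
        (res F (u ≫ (L.O i T t ξ).ι) t _ rfl ξ) =
      res F (u ≫ L.cl i T t ξ) (L.p i) _ rfl (L.η i)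
    rw [← res_res F (L.cl i T t ξ) u (L.p i) ((L.O i T t ξ).ι ≫ t) _ hw hu (L.η i), L.cl_η,
      res_res, res_res]
    exact res_congr F (Category.id_comp _) _ _ _ _ _

set_option maxHeartbeats 400000 in
lemma ophi_relative (i : L.ι) : IsOpenImmersion.presheaf (ophi L i) := by
  apply MorphismProperty.relative.of_exists
  intro T γ
  obtain ⟨⟨t, ξ⟩, rfl⟩ := yonedaEquiv.symm.surjective γ
  refine ⟨(L.O i T t ξ).toScheme, yoneda.map (L.cl i T t ξ), (L.O i T t ξ).ι, ?_,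
    inferInstance⟩
  apply IsPullback.of_forall_isPullback_app
  intro T'
  rw [Types.isPullback_iff]
  refine ⟨?_, ?_, ?_⟩
  · apply ConcreteCategory.hom_ext
    intro (u : T'.unop ⟶ (L.O i T t ξ).toScheme)
    show (ophi L i).app T' (u ≫ L.cl i T t ξ) =
      (tot F).map (u ≫ (L.O i T t ξ).ι).op ⟨t, ξ⟩
    exact ophi_cl L i t ξ u
  · rintro u₁ u₂ ⟨-, h2⟩
    exact (cancel_mono (L.O i T t ξ).ι).1 h2
  · intro (a : T'.unop ⟶ L.X i) (h : T'.unop ⟶ T) hah
    have hah' : (ophi L i).app T' a = (tot F).map h.op ⟨t, ξ⟩ := hah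
    have h1 : a ≫ L.p i = h ≫ t := congrArg Sigma.fst hah'
    have e2 := res_eq_of_tot_eq F hah' (𝟙 _) (a ≫ L.p i) (Category.id_comp _)
      (by rw [Category.id_comp]; exact h1.symm)
    have e2' : res F (𝟙 _) (a ≫ L.p i) (a ≫ L.p i) (Category.id_comp _)
        (res F a (L.p i) _ rfl (L.η i)) =
        res F (𝟙 _) (h ≫ t) (a ≫ L.p i) (by rw [Category.id_comp]; exact h1.symm)
          (res F h t _ rfl ξ) := e2
    rw [res_id, res_res] at e2'
    have hkey : res F a (L.p i) (a ≫ L.p i) rfl (L.η i) = res F h t (a ≫ L.p i) h1.symm ξ :=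
      e2'.trans (res_congr F (Category.id_comp _) _ _ _ _ _)
    have hfac : ∀ x : T'.unop, h x ∈ L.O i T t ξ :=
      L.fac i T t ξ T'.unop h a (a ≫ L.p i) rfl h1.symm hkey
    have hrange : Set.range h ⊆ Set.range (L.O i T t ξ).ι := by
      rintro _ ⟨x, rfl⟩
      rw [Scheme.Opens.range_ι]
      exact hfac x
    obtain ⟨u, hu⟩ : ∃ u : T'.unop ⟶ (L.O i T t ξ).toScheme, u ≫ (L.O i T t ξ).ι = h :=
      ⟨IsOpenImmersion.lift _ h hrange, IsOpenImmersion.lift_fac _ _ _⟩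
    refine ⟨u, ?_, hu⟩
    have hu' : u ≫ ((L.O i T t ξ).ι ≫ t) = a ≫ L.p i := by rw [← Category.assoc, hu, h1]
    have hw₁ : (u ≫ L.cl i T t ξ) ≫ L.p i = a ≫ L.p i := by
      rw [Category.assoc, L.cl_w, hu']
    have k : res F (u ≫ L.cl i T t ξ) (L.p i) (a ≫ L.p i) hw₁ (L.η i) =
        res F a (L.p i) (a ≫ L.p i) rfl (L.η i) := by
      rw [hkey, ← res_res F (L.cl i T t ξ) u (L.p i) ((L.O i T t ξ).ι ≫ t) (a ≫ L.p i)
        (L.cl_w i T t ξ) hu' (L.η i), L.cl_η, res_res]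
      exact res_congr F hu _ _ _ _ _
    show u ≫ L.cl i T t ξ = a
    exact L.uniq i T'.unop _ _ (a ≫ L.p i) hw₁ rfl k

lemma ophi_locallySurjective :
    Presheaf.IsLocallySurjective Scheme.zariskiTopology (Sigma.desc (ophi L)) where
  imageSieve_mem {T} s := by
    obtain ⟨t, ξ⟩ := s
    have hcov : IsOpenCover (fun i => L.O i T t ξ) := by
      apply IsOpenCover.mk
      rw [eq_top_iff]
      intro x _
      obtain ⟨i, hi⟩ := L.hO T t ξ x
      exact Opens.mem_iSup.2 ⟨i, hi⟩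
    refine Scheme.zariskiTopology.superset_covering ?_
      (T.openCoverOfIsOpenCover _ hcov).mem_grothendieckTopology
    rw [Sieve.ofArrows, Sieve.generate_le_iff]
    rintro V f ⟨i⟩
    have h1 : (Sigma.desc (ophi L)).app _
        ((Sigma.ι (fun i => yoneda.obj (L.X i)) i).app _ (L.cl i T t ξ)) =
        (ophi L i).app _ (L.cl i T t ξ) :=
      congrArg (fun ν => ν.app (op (L.O i T t ξ).toScheme) (L.cl i T t ξ))
        (Sigma.ι_desc (ophi L) i)
    have h2 := ophi_cl L i t ξ (𝟙 _)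
    simp only [Category.id_comp] at h2
    exact Exists.intro _ (h1.trans h2)

theorem representable_of_openRep (hF : IsZarSheaf.{u + 1} F) (L : OpenRep F) :
    ∃ W : Over S, Nonempty (F.RepresentableBy W) := by
  let G : Sheaf Scheme.zariskiTopology (Type u) :=
    ⟨tot F, (isSheaf_iff_isSheaf_of_type _ _).2 (tot_isSheaf F hF)⟩
  haveI : Presheaf.IsLocallySurjective Scheme.zariskiTopology (Sigma.desc (ophi L)) :=
    ophi_locallySurjective L
  have hrep : (tot F).IsRepresentable :=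
    Scheme.LocalRepresentability.isRepresentable (F := G) (f := ophi L) (ophi_relative L)
  obtain ⟨W₀, ⟨rep⟩⟩ := hrep.has_representation
  obtain ⟨w, ⟨r⟩⟩ := rep_of_tot F W₀ rep
  exact ⟨Over.mk w, ⟨r⟩⟩

end Groth.Agent.Lib.Helper16.LocRep
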