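import Groth.Agent.Lib.Helper16.LocSepCore
import Groth.Agent.Lib.Helper16.DiagMap
import Groth.Agent.Lib.Helper16.QsDecent
import Groth.Agent.Lib.Helper16.ClosedPt
import Groth.Agent.Lib.Helper16.Rep

/-!
# Helper library (helper16): a locally separated algebraic space is decent
-/

set_option autoImplicit false
universe u
open CategoryTheory CategoryTheory.Limits AlgebraicGeometry Opposite Topology TopologicalSpace

namespace Groth.Agent.Lib.Helper16

open AlgSp

variable {S : Scheme.{u}}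

/-- Key finiteness: for a sheaf `X` whose diagonal is representable by immersions, the fibre product of a point with
values in an algebraically closed field and an affine etale chart is a finite scheme. -/
theorem finite_of_isPullback_of_locallySeparated {X : Sp S} (hls : RepWith @IsImmersion (Limits.diag X))
    (K : Type u) [Field K] [IsAlgClosed K] (str : Spec (CommRingCat.of K) ⟶ S)
    (q : (yon S).obj (Over.mk str) ⟶ X) {W : Over S} [IsAffine W.left] (ψ : (yon S).obj W ⟶ X)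
    (hψ : RepWith @Etale ψ) {E : Over S} (r₁ : E ⟶ Over.mk str) (r₂ : E ⟶ W)
    (sqE : IsPullback ((yon S).map r₁) ((yon S).map r₂) q ψ) : Finite ↥E.left := by
  obtain ⟨a, ha⟩ : ∃ a : E.left ⟶ Spec (CommRingCat.of K), a = r₁.left := ⟨_, rfl⟩
  have hae : Etale a := by rw [ha]; exact hψ.property _ _ _ sqE.flip
  have hdisc : DiscreteTopology ↥E.left := ClosedPt.discreteTopology_of_etale_field K a
  -- sections through every point
  have hsec : ∀ e : ↥E.left, ∃ σ : Over.mk str ⟶ E, σ ≫ r₁ = 𝟙 _ ∧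
      σ.left (IsLocalRing.closedPoint K : ↥(Spec (CommRingCat.of K))) = e := by
    intro e
    have hcl : IsClosed ({e} : Set ↥E.left) := isClosed_discrete _
    have h1 : E.hom = a ≫ str := by rw [ha]; exact (Over.w r₁).symm
    refine ⟨Over.homMk (pointOfClosedPoint a e hcl) ?_, ?_, ?_⟩
    · show pointOfClosedPoint a e hcl ≫ E.hom = str
      rw [h1, ← Category.assoc, pointOfClosedPoint_comp, Category.id_comp]
    · ext
      show pointOfClosedPoint a e hcl ≫ r₁.left = 𝟙 _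
      rw [← ha]; exact pointOfClosedPoint_comp a e hcl
    · exact pointOfClosedPoint_apply a e hcl _
  choose σ hσ1 hσ2 using hsec
  let τ : ↥E.left → (Over.mk str ⟶ W) := fun e => σ e ≫ r₂
  have hτq : ∀ e, (yon S).map (τ e) ≫ ψ = q := by
    intro e
    show (yon S).map (σ e ≫ r₂) ≫ ψ = q
    rw [Functor.map_comp, Category.assoc, ← sqE.w, ← Category.assoc, ← Functor.map_comp, hσ1, yon_map_id,
      Category.id_comp]
  -- the relation
  obtain ⟨RW, s, t', sqW⟩ := hψ.rep ψ
  obtain ⟨t, rfl⟩ := (yon S).map_surjective t'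
  have hte : Etale t.left := hψ.property _ _ _ sqW.flip
  obtain ⟨Δ, hΔ⟩ := (yon S).map_surjective (sqW.lift (𝟙 _) (𝟙 _) rfl)
  have hΔt : Δ ≫ t = 𝟙 W :=
    (yon S).map_injective (by rw [Functor.map_comp, hΔ, sqW.lift_fst, yon_map_id])
  have hΔs : Δ ≫ s = 𝟙 W :=
    (yon S).map_injective (by rw [Functor.map_comp, hΔ, sqW.lift_snd, yon_map_id])
  have hρex : ∀ e e' : ↥E.left, ∃ ρ : Over.mk str ⟶ RW, ρ ≫ t = τ e ∧ ρ ≫ s = τ e' := by
    intro e e'
    obtain ⟨ρ, hρ⟩ := (yon S).map_surjective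
      (sqW.lift ((yon S).map (τ e)) ((yon S).map (τ e')) (by rw [hτq, hτq]))
    exact ⟨ρ, (yon S).map_injective (by rw [Functor.map_comp, hρ, sqW.lift_fst]),
      (yon S).map_injective (by rw [Functor.map_comp, hρ, sqW.lift_snd])⟩
  choose ρ hρt hρs using hρex
  have hρd : ∀ e, ρ e e = τ e ≫ Δ := by
    intro e
    apply (yon S).map_injective
    apply sqW.hom_ext
    · rw [← Functor.map_comp, ← Functor.map_comp, hρt, Category.assoc, hΔt, Category.comp_id]
    · rw [← Functor.map_comp, ← Functor.map_comp, hρs, Category.assoc, hΔs, Category.comp_id]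
  have hτinj : Function.Injective (fun e => ((τ e).left : Spec (CommRingCat.of K) ⟶ W.left)) := by
    intro e e' h
    have h' : τ e = τ e' := Over.OverMorphism.ext h
    have hσ : σ e = σ e' := by
      apply (yon S).map_injective
      apply sqE.hom_ext
      · rw [← Functor.map_comp, ← Functor.map_comp, hσ1, hσ1]
      · rw [← Functor.map_comp, ← Functor.map_comp]
        exact congrArg _ h'
    rw [← hσ2 e, ← hσ2 e', hσ]
  -- the immersion into an affine scheme with two coordinates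
  obtain ⟨W₀, hW₀⟩ : ∃ W₀ : W ⟶ Over.mk (𝟙 S), W₀.left = W.hom := ⟨Over.homMk W.hom, rfl⟩
  obtain ⟨m, hm1, hm2, hmi⟩ := exists_map_to_prod_of_diag @IsImmersion hls ψ ψ t s sqW W₀ W₀
  have sqS : IsPullback (pullback.fst W₀ W₀).left (pullback.snd W₀ W₀).left W₀.left W₀.left :=
    (IsPullback.of_hasPullback W₀ W₀).map (Over.forget S)
  obtain ⟨i, hi⟩ : ∃ i : S ⟶ Spec Γ(S, ⊤), i = S.toSpecΓ := ⟨_, rfl⟩
  obtain ⟨w₀, hw₀⟩ : ∃ w₀ : W.left ⟶ S, w₀ = W₀.left := ⟨_, rfl⟩
  have sqS' : IsPullback (pullback.fst W₀ W₀).left (pullback.snd W₀ W₀).left w₀ w₀ := by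
    rw [hw₀]; exact sqS
  obtain ⟨j', hj'⟩ : ∃ j' : RW.left ⟶ pullback (w₀ ≫ i) (w₀ ≫ i),
      j' = m.left ≫ sqS'.isoPullback.hom ≫ pullback.mapDesc w₀ w₀ i := ⟨_, rfl⟩
  have hj'imm : IsImmersion j' := by
    rw [hj']
    have : IsImmersion m.left := hmi
    infer_instance
  have hj1 : j' ≫ pullback.fst (w₀ ≫ i) (w₀ ≫ i) = t.left := by
    rw [hj', Category.assoc, Category.assoc]
    have h1 : pullback.mapDesc w₀ w₀ i ≫ pullback.fst (w₀ ≫ i) (w₀ ≫ i) = pullback.fst w₀ w₀ := by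
      unfold pullback.mapDesc pullback.map
      rw [pullback.lift_fst, Category.comp_id]
    rw [h1, IsPullback.isoPullback_hom_fst, ← Over.comp_left, hm1]
  have hj2 : j' ≫ pullback.snd (w₀ ≫ i) (w₀ ≫ i) = s.left := by
    rw [hj', Category.assoc, Category.assoc]
    have h1 : pullback.mapDesc w₀ w₀ i ≫ pullback.snd (w₀ ≫ i) (w₀ ≫ i) = pullback.snd w₀ w₀ := by
      unfold pullback.mapDesc pullback.map
      rw [pullback.lift_snd, Category.comp_id]
    rw [h1, IsPullback.isoPullback_hom_snd, ← Over.comp_left, hm2]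
  have hpush := isPushout_appTop_of_isPullback (IsPullback.of_hasPullback (w₀ ≫ i) (w₀ ≫ i))
  have hgen : ∀ Q : Subring Γ(pullback (w₀ ≫ i) (w₀ ≫ i), ⊤),
      (∀ x, (pullback.fst (w₀ ≫ i) (w₀ ≫ i)).appTop.hom x ∈ Q) →
      (∀ x, (pullback.snd (w₀ ≫ i) (w₀ ≫ i)).appTop.hom x ∈ Q) → Q = ⊤ :=
    fun Q hl hr => LocSepAlg.subring_eq_top_of_isPushout hpush Q hl hr
  have hΔt' : Δ.left ≫ t.left = 𝟙 W.left := by rw [← Over.comp_left, hΔt]; rfl
  have hΔs' : Δ.left ≫ s.left = 𝟙 W.left := by rw [← Over.comp_left, hΔs]; rfl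
  exact LocSepCore.finite_of_immersion_core (K := K) (I := ↥E.left) s.left t.left Δ.left hΔt' hΔs'
    (pullback.fst (w₀ ≫ i) (w₀ ≫ i)) (pullback.snd (w₀ ≫ i) (w₀ ≫ i)) hgen j' hj1 hj2
    (fun e => ((τ e).left : Spec (CommRingCat.of K) ⟶ W.left)) hτinj
    (fun e e' => ((ρ e e').left : Spec (CommRingCat.of K) ⟶ RW.left))
    (fun e e' => by show (ρ e e' ≫ t).left = _; rw [hρt])
    (fun e e' => by show (ρ e e' ≫ s).left = _; rw [hρs])
    (fun e => by show (ρ e e).left = (τ e ≫ Δ).left; rw [hρd])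

/-- **A locally separated algebraic space is decent.** -/
theorem isDecent_of_locallySeparated {X : Sp S} (hX : IsAlgSpace X)
    (hls : RepWith @IsImmersion (Limits.diag X)) : IsDecent X := by
  intro x
  obtain ⟨U, φ, hφ, hφs⟩ := hX.atlas
  obtain ⟨u, hu⟩ := ofPt_surjective_of_surjective φ hφs x
  obtain ⟨p₀, hp₀⟩ : ∃ p₀ : FieldPt X, p₀ = FieldPt.ofPt φ u := ⟨_, rfl⟩
  let Ω := AlgebraicClosure p₀.K
  let w : Spec (CommRingCat.of Ω) ⟶ S := Spec.map (CommRingCat.ofHom (algebraMap p₀.K Ω)) ≫ p₀.str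
  let a : Over.mk w ⟶ p₀.pt := Over.homMk (Spec.map (CommRingCat.ofHom (algebraMap p₀.K Ω))) rfl
  obtain ⟨q', hq'⟩ : ∃ q' : FieldPt X, q' = fieldPtOfHom Ω w ((yon S).map a ≫ p₀.toHom) := ⟨_, rfl⟩
  have hq'x : Points.mk q' = x := by
    rw [hq', mk_fieldPtOfHom_comp p₀ Ω w a, hp₀]; exact hu
  have hqc : RepWith @QuasiCompact q'.toHom := by
    refine repWith_quasiCompact_of_compact_affine_etale hX q' ?_
    intro W ψ haff hψ R r₁ r₂ sqR
    subst hq'
    have hfin : Finite ↥R.left :=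
      finite_of_isPullback_of_locallySeparated hls Ω w _ ψ hψ r₁ r₂ sqR
    exact Finite.compactSpace
  obtain ⟨p, hp, hm, hq⟩ := exists_qc_mono_point_of_qc_point hX q' hqc
  exact ⟨p, hp.trans hq'x, hm, hq⟩

end Groth.Agent.Lib.Helper16
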