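import Mathlib

/-!
# Helper library (helper16): algebra for "locally separated implies decent"

* functions of two variables of finite rank form a subring;
* a finite rank function which is "diagonal with nonzero diagonal" on a set forces the set to be finite;
* a pushout of commutative rings is generated by the two images.
-/

set_option autoImplicit false
universe u v w
open CategoryTheory CategoryTheory.Limits

namespace Groth.Agent.Lib.Helper16.LocSepAlg

/-- Functions `I → J → K` of the form `∑ i, α i e * β i e'` (finite rank). -/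
def finRankFun (I : Type v) (J : Type w) (K : Type u) [CommRing K] : Subring (I → J → K) where
  carrier := {M | ∃ (ι : Type) (_ : Fintype ι) (α : ι → I → K) (β : ι → J → K),
    ∀ e e', M e e' = ∑ i, α i e * β i e'}
  mul_mem' := by
    rintro M N ⟨ι, _, α, β, h⟩ ⟨ι', _, α', β', h'⟩
    refine ⟨ι × ι', inferInstance, fun p e => α p.1 e * α' p.2 e, fun p e' => β p.1 e' * β' p.2 e', ?_⟩
    intro e e'
    show M e e' * N e e' = _
    rw [h, h', Fintype.sum_prod_type, Finset.sum_mul_sum]
    refine Finset.sum_congr rfl fun i _ => Finset.sum_congr rfl fun j _ => ?_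
    ring
  one_mem' := ⟨Unit, inferInstance, fun _ _ => 1, fun _ _ => 1, fun e e' => by simp⟩
  add_mem' := by
    rintro M N ⟨ι, _, α, β, h⟩ ⟨ι', _, α', β', h'⟩
    refine ⟨ι ⊕ ι', inferInstance, Sum.elim α α', Sum.elim β β', ?_⟩
    intro e e'
    show M e e' + N e e' = _
    rw [h, h', Fintype.sum_sum_type]
    rfl
  zero_mem' := ⟨Empty, inferInstance, fun i => i.elim, fun i => i.elim, fun e e' => by simp⟩
  neg_mem' := by
    rintro M ⟨ι, _, α, β, h⟩
    refine ⟨ι, inferInstance, fun i e => - α i e, β, ?_⟩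
    intro e e'
    show - M e e' = _
    rw [h, ← Finset.sum_neg_distrib]
    refine Finset.sum_congr rfl fun i _ => ?_
    ring

theorem mem_finRankFun_of_left {I : Type v} {J : Type w} {K : Type u} [CommRing K] (a : I → K) :
    (fun e (_ : J) => a e) ∈ finRankFun I J K :=
  ⟨Unit, inferInstance, fun _ e => a e, fun _ _ => 1, fun e e' => by simp⟩

theorem mem_finRankFun_of_right {I : Type v} {J : Type w} {K : Type u} [CommRing K] (b : J → K) :
    (fun (_ : I) e' => b e') ∈ finRankFun I J K :=
  ⟨Unit, inferInstance, fun _ _ => 1, fun _ e' => b e', fun e e' => by simp⟩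

/-- A finite rank function which is diagonal with nonvanishing diagonal on `F × F` forces `F` to be finite. -/
theorem finite_of_diagonal {I : Type v} {K : Type u} [Field K] (M : I → I → K) (hM : M ∈ finRankFun I I K)
    (F : Set I) (hd : ∀ e ∈ F, M e e ≠ 0) (ho : ∀ e ∈ F, ∀ e' ∈ F, e ≠ e' → M e e' = 0) : F.Finite := by
  obtain ⟨ι, _, α, β, h⟩ := hM
  have hli : LinearIndependent K (fun e : F => (fun i => α i e.1 : ι → K)) := by
    rw [linearIndependent_iff']
    intro s g hg e₀ he₀
    have h1 : ∀ i, ∑ e ∈ s, g e * α i e.1 = 0 := by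
      intro i
      have := congrFun hg i
      simpa [Finset.sum_apply, Pi.smul_apply, smul_eq_mul] using this
    have h2 : ∑ i, (∑ e ∈ s, g e * α i e.1) * β i e₀.1 = 0 := by
      refine Finset.sum_eq_zero fun i _ => ?_
      rw [h1 i, zero_mul]
    have h3 : ∑ i, (∑ e ∈ s, g e * α i e.1) * β i e₀.1 = ∑ e ∈ s, g e * M e.1 e₀.1 := by
      simp_rw [Finset.sum_mul]
      rw [Finset.sum_comm]
      refine Finset.sum_congr rfl fun e _ => ?_
      rw [h, Finset.mul_sum]
      refine Finset.sum_congr rfl fun i _ => ?_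
      ring
    have h4 : ∑ e ∈ s, g e * M e.1 e₀.1 = g e₀ * M e₀.1 e₀.1 := by
      refine Finset.sum_eq_single_of_mem e₀ he₀ ?_
      intro e _ hne
      rw [ho e.1 e.2 e₀.1 e₀.2 (fun hh => hne (Subtype.ext hh)), mul_zero]
    rw [h3, h4] at h2
    exact (mul_eq_zero.1 h2).resolve_right (hd e₀.1 e₀.2)
  have : Finite F := hli.finite_of_isNoetherian
  exact Set.toFinite F

/-- A pushout of commutative rings is generated by the images of the two maps. -/
theorem subring_eq_top_of_isPushout {C A B P : CommRingCat.{u}} {f : C ⟶ A} {g : C ⟶ B} {inl : A ⟶ P}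
    {inr : B ⟶ P} (h : IsPushout f g inl inr) (Q : Subring P) (hl : ∀ a, inl.hom a ∈ Q)
    (hr : ∀ b, inr.hom b ∈ Q) : Q = ⊤ := by
  let ι : CommRingCat.of Q ⟶ P := CommRingCat.ofHom Q.subtype
  let inl' : A ⟶ CommRingCat.of Q := CommRingCat.ofHom (inl.hom.codRestrict Q hl)
  let inr' : B ⟶ CommRingCat.of Q := CommRingCat.ofHom (inr.hom.codRestrict Q hr)
  have hιl : inl' ≫ ι = inl := by ext a; rfl
  have hιr : inr' ≫ ι = inr := by ext b; rfl
  have hcomm : f ≫ inl' = g ≫ inr' := by
    ext c
    have := congrArg (fun m => m.hom c) h.w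
    exact this
  let d : P ⟶ CommRingCat.of Q := h.desc inl' inr' hcomm
  have hd : d ≫ ι = 𝟙 P := by
    apply h.hom_ext
    · rw [← Category.assoc, h.inl_desc, hιl, Category.comp_id]
    · rw [← Category.assoc, h.inr_desc, hιr, Category.comp_id]
  rw [eq_top_iff]
  intro x _
  have hx : x = ι.hom (d.hom x) := by
    have := congrArg (fun m => m.hom x) hd
    exact this.symm
  rw [hx]
  exact (d.hom x).2

end Groth.Agent.Lib.Helper16.LocSepAlg
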