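import Groth.Agent.Lib.Helper16.DimZero

/-!
# Helper library (helper16): locally quasi-finite iff discrete fibres
-/

set_option autoImplicit false
universe u
open CategoryTheory CategoryTheory.Limits AlgebraicGeometry Opposite

namespace Groth.Agent.Lib.Helper16.DimZero

open AlgSp Groth.Agent.Lib.Helper16

variable {S : Scheme.{u}}

/-- A scheme locally quasi-finite over the spectrum of a field is discrete. -/
theorem discreteTopology_of_lqf_over_field {k : Type u} [Field k] {W : Scheme.{u}}
    (m : W ⟶ Spec (CommRingCat.of k)) [LocallyQuasiFinite m] : DiscreteTopology W := by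
  have hdisc : _root_.IsDiscrete (m ⁻¹' {IsLocalRing.closedPoint k}) :=
    m.isDiscrete_preimage_singleton _
  have huniv : m ⁻¹' {IsLocalRing.closedPoint k} = Set.univ := by
    ext z
    simp only [Set.mem_preimage, Set.mem_univ, iff_true]
    exact Subsingleton.elim (α := PrimeSpectrum k) _ _
  rwa [huniv, isDiscrete_univ_iff] at hdisc

/-- An algebraic space locally quasi-finite over the spectrum of a field has a discrete space of points. -/
theorem discreteTopology_points_of_locP_lqf {P : Sp S} (hP : IsAlgSpace P) {k : Type u} [Field k]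
    {str : Spec (CommRingCat.of k) ⟶ S} (snd : P ⟶ (yon S).obj (Over.mk str))
    (h : LocP (@LocallyQuasiFinite ⊓ @LocallyOfFiniteType) snd) : DiscreteTopology (Points P) := by
  obtain ⟨W, c, hce, hcs⟩ := hP.atlas
  obtain ⟨m, hm⟩ := (yon S).map_surjective (c ≫ snd)
  have h1 := h c (𝟙 _) m hce (repWith_id _ _) (by rw [hm, Category.comp_id])
  have : LocallyQuasiFinite m.left := h1.1
  have : DiscreteTopology ↥W.left := discreteTopology_of_lqf_over_field (k := k) m.left
  exact discreteTopology_points_of_atlas c hce hcs

/-- A morphism locally of finite type with discrete fibres is locally quasi-finite. -/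
theorem locP_lqf_of_discrete_fibres {X Y : Sp S} (hX : IsAlgSpace X) (hY : IsAlgSpace Y) (f : X ⟶ Y)
    (hf : LocP @LocallyOfFiniteType f)
    (H : ∀ (k : Type u) [Field k] (str : Spec (CommRingCat.of k) ⟶ S)
        (y : (yon S).obj (Over.mk str) ⟶ Y) (P : Sp S) (fst : P ⟶ X)
        (snd : P ⟶ (yon S).obj (Over.mk str)), IsPullback fst snd f y → DiscreteTopology (Points P)) :
    LocP (@LocallyQuasiFinite ⊓ @LocallyOfFiniteType) f := by
  intro U V a b m ha hb hcomm
  have hm : LocallyOfFiniteType m.left := hf a b m ha hb hcomm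
  refine ⟨?_, hm⟩
  rw [locallyQuasiFinite_iff_isDiscrete_preimage_singleton]
  intro v
  -- the base change of `X` to `V`
  have sqXV : IsPullback (pullback.fst f b) (pullback.snd f b) f b := IsPullback.of_hasPullback f b
  set pr₁ := pullback.fst f b with hpr₁def
  set pr₂ := pullback.snd f b with hpr₂def
  let l : (yon S).obj U ⟶ pullback f b := sqXV.lift a ((yon S).map m) hcomm
  have hpr₁ : RepWith @Etale pr₁ := (RepWith @Etale).of_isPullback sqXV.flip hb
  have hl : RepWith @Etale l := repWith_etale_of_comp l pr₁ hpr₁ (by rw [sqXV.lift_fst]; exact ha)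
  have hlc : l ≫ pr₂ = (yon S).map m := sqXV.lift_snd _ _ _
  -- the point
  let κv : Over.mk (V.left.fromSpecResidueField v ≫ V.hom) ⟶ V :=
    Over.homMk (V.left.fromSpecResidueField v) rfl
  have sq' : IsPullback (pullback.fst pr₂ ((yon S).map κv)) (pullback.snd pr₂ ((yon S).map κv)) pr₂
      ((yon S).map κv) := IsPullback.of_hasPullback _ _
  set P' := pullback pr₂ ((yon S).map κv) with hP'def
  set fst' := pullback.fst pr₂ ((yon S).map κv) with hfst'def
  set φ' := pullback.snd pr₂ ((yon S).map κv) with hφ'def
  obtain ⟨a', ha'₁, sqa⟩ := chart_baseChange sq' l m hlc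
  have ha' : RepWith @Etale a' := (RepWith @Etale).of_isPullback sqa.flip hl
  have sqP : IsPullback (fst' ≫ pr₁) φ' f ((yon S).map κv ≫ b) := sq'.paste_horiz sqXV
  have hdisc : DiscreteTopology (Points P') := by
    have sqP' : IsPullback (fst' ≫ pr₁) φ' f (FieldPt.ofPt b v).toHom := by
      rw [FieldPt.toHom_ofPt]; exact sqP
    exact H (FieldPt.ofPt b v).K (FieldPt.ofPt b v).str (FieldPt.ofPt b v).toHom P' (fst' ≫ pr₁) φ' sqP'
  have hP'alg : IsAlgSpace P' := isAlgSpace_of_isPullback hX hY.diag (IsAlgSpace.yon_obj _) sqP
  have hφ' : LocP @LocallyOfFiniteType φ' :=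
    locP_of_isPullback etLocalST_locallyOfFiniteType hX hY sqP hf
  have hK : IsLocallyNoetherian (Over.mk (V.left.fromSpecResidueField v ≫ V.hom)).left := by
    show IsLocallyNoetherian (Spec (V.left.residueField v))
    infer_instance
  have hP'N : IsLocNoethSp P' :=
    etaleLocally_of_locP_lft hP'alg φ' hφ' IsLocallyNoetherian
      (fun A B g hg hB => by
        have : LocallyOfFiniteType g := hg
        have : IsLocallyNoetherian B := hB
        exact LocallyOfFiniteType.isLocallyNoetherian g)
      ⟨_, 𝟙 _, repWith_id _ _, repWith_id _ _, hK⟩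
  -- no specializations in the fibre
  have hspec : ∀ z z' : ↥(pullback m κv).left, z' ⤳ z → z' = z := by
    intro z z' hs
    have he : Points.ofPt a' z = Points.ofPt a' z' :=
      ((hs.map (Points.continuous_ofPt a')).eq).symm
    exact (eq_of_specializes_of_isLocNoethSp hP'N a' ha' z z' he hs).symm
  have hsq := isPullback_left_forget m κv
  have hsndlft : LocallyOfFiniteType (pullback.snd m κv).left :=
    MorphismProperty.of_isPullback (P := @LocallyOfFiniteType) hsq hm
  have : IsLocallyNoetherian (pullback m κv).left :=
    LocallyOfFiniteType.isLocallyNoetherian (pullback.snd m κv).left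
  have hD : DiscreteTopology ↥(pullback m κv).left := discreteTopology_of_forall_specializes_eq _ hspec
  -- transfer to the fibre
  let e : (pullback m κv).left ≅ m.left.fiber v := hsq.isoPullback
  have hD' : DiscreteTopology ↥(m.left.fiber v) := (Scheme.homeoOfIso e).discreteTopology
  exact isDiscrete_iff_discreteTopology.mpr (m.left.fiberHomeo v).discreteTopology

end Groth.Agent.Lib.Helper16.DimZero
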