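import Groth.Prelude.Def_LocCohZ

/-!
# Mayer–Vietoris for cohomology with supports (helper16)

The short exact sequence `0 → ℤ/ℤ_{U∩U'} → ℤ/ℤ_U ⊕ ℤ/ℤ_{U'} → ℤ/ℤ_{U∪U'} → 0` of abelian sheaves on a
topological space.
-/

set_option autoImplicit false
universe u
open CategoryTheory CategoryTheory.Limits TopologicalSpace Opposite
open LocCohZ

namespace Groth.Agent.Lib.Helper16.MVSupp

section Abstract

variable {𝒜 : Type*} [Category 𝒜] [Abelian 𝒜] [EnoughInjectives 𝒜]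

lemma shortExact_of_hom (T : ShortComplex 𝒜)
    (h1 : ∀ {R : 𝒜} (φ : T.X₃ ⟶ R), T.g ≫ φ = 0 → φ = 0)
    (h2 : ∀ {R : 𝒜} (ψ : T.X₂ ⟶ R), T.f ≫ ψ = 0 → ∃ φ : T.X₃ ⟶ R, T.g ≫ φ = ψ)
    (h3 : ∀ (I : 𝒜) [Injective I] (χ : T.X₁ ⟶ I), ∃ ψ : T.X₂ ⟶ I, T.f ≫ ψ = χ) :
    T.ShortExact := by
  have : Epi T.g := Preadditive.epi_of_cancel_zero _ (fun φ h => h1 φ h)
  have hex : T.Exact := by
    apply ShortComplex.exact_of_g_is_cokernel
    exact CokernelCofork.IsColimit.ofπ T.g T.zero (fun g' eq' => (h2 g' eq').choose)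
      (fun g' eq' => (h2 g' eq').choose_spec)
      (fun g' eq' m hm => (cancel_epi T.g).1 (hm.trans (h2 g' eq').choose_spec.symm))
  have : Mono T.f := by
    obtain ⟨ψ, hψ⟩ := h3 (Injective.under T.X₁) (Injective.ι T.X₁)
    exact mono_of_mono_fac hψ
  exact { exact := hex, mono_f := inferInstance, epi_g := inferInstance }

end Abstract

section Sheaf

variable {X : TopCat.{u}}

lemma res_res (F : CohTop.Ab X) {A B C : Opens X} (hAB : A ≤ B) (hBC : B ≤ C)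
    (s : F.obj.obj (op C)) :
    (F.obj.map (homOfLE hAB).op).hom ((F.obj.map (homOfLE hBC).op).hom s) =
      (F.obj.map (homOfLE (hAB.trans hBC)).op).hom s := by
  have e : F.obj.map (homOfLE (hAB.trans hBC)).op =
      F.obj.map (homOfLE hBC).op ≫ F.obj.map (homOfLE hAB).op := by
    rw [← Functor.map_comp]; rfl
  exact (congrArg (fun κ : F.obj.obj (op C) ⟶ F.obj.obj (op A) => κ.hom s) e).symm

/-- Sections attached to morphisms out of `ℤ_V/ℤ_W`. -/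
noncomputable def Γ (F : CohTop.Ab X) {W V : Opens X} (h : W ≤ V) :
    (zq h ⟶ F) →+ F.obj.obj (op V) :=
  (CohFree.evalGen (Opens.grothendieckTopology X) V F).comp
    (Preadditive.leftComp F
      (cokernel.π (CohCx.freeSheafMap (Opens.grothendieckTopology X) (homOfLE h))))

lemma Γ_apply (F : CohTop.Ab X) {W V : Opens X} (h : W ≤ V) (φ : zq h ⟶ F) :
    Γ F h φ = CohFree.evalGen (Opens.grothendieckTopology X) V F
      (cokernel.π (CohCx.freeSheafMap (Opens.grothendieckTopology X) (homOfLE h)) ≫ φ) := rfl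

lemma Γ_inj (F : CohTop.Ab X) {W V : Opens X} (h : W ≤ V) : Function.Injective (Γ F h) := by
  intro φ ψ e
  have e' : cokernel.π (CohCx.freeSheafMap (Opens.grothendieckTopology X) (homOfLE h)) ≫ φ =
      cokernel.π (CohCx.freeSheafMap (Opens.grothendieckTopology X) (homOfLE h)) ≫ ψ :=
    (CohFree.homEquivSect (Opens.grothendieckTopology X) V F).injective e
  exact (cancel_epi _).1 e'

lemma Γ_res (F : CohTop.Ab X) {W V : Opens X} (h : W ≤ V) (φ : zq h ⟶ F) :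
    (F.obj.map (homOfLE h).op).hom (Γ F h φ) = 0 := by
  rw [Γ_apply, ← CohFree.evalGen_freeSheafMap_comp, cokernel.condition_assoc, zero_comp, map_zero]

lemma Γ_surj (F : CohTop.Ab X) {W V : Opens X} (h : W ≤ V) (s : F.obj.obj (op V))
    (hs : (F.obj.map (homOfLE h).op).hom s = 0) : ∃ φ : zq h ⟶ F, Γ F h φ = s := by
  have hs0 : CohCx.freeSheafMap (Opens.grothendieckTopology X) (homOfLE h) ≫
      CohFree.ofSect (Opens.grothendieckTopology X) V F s = 0 := by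
    apply (CohFree.homEquivSect (Opens.grothendieckTopology X) W F).injective
    rw [map_zero, CohFree.homEquivSect_apply, CohFree.evalGen_freeSheafMap_comp,
      CohFree.evalGen_ofSect]
    exact hs
  refine ⟨cokernel.desc _ (CohFree.ofSect (Opens.grothendieckTopology X) V F s) hs0, ?_⟩
  rw [Γ_apply, cokernel.π_desc]
  exact CohFree.evalGen_ofSect _ _ _ _

lemma π_zqMap {W W' V : Opens X} (h : W ≤ V) (h' : W' ≤ V) (hW : W' ≤ W) :
    cokernel.π (CohCx.freeSheafMap (Opens.grothendieckTopology X) (homOfLE h')) ≫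
        zqMap h h' hW le_rfl =
      cokernel.π (CohCx.freeSheafMap (Opens.grothendieckTopology X) (homOfLE h)) := by
  have e : CohCx.freeSheafMap (Opens.grothendieckTopology X) (homOfLE (le_rfl : V ≤ V)) = 𝟙 _ :=
    CohFree.freeSheafMap_id _ V
  unfold zqMap
  rw [cokernel.π_desc, e, Category.id_comp]

lemma π_zqMap_assoc {W W' V : Opens X} (h : W ≤ V) (h' : W' ≤ V) (hW : W' ≤ W)
    {Z : CohTop.Ab X} (φ : zq h ⟶ Z) :
    cokernel.π (CohCx.freeSheafMap (Opens.grothendieckTopology X) (homOfLE h')) ≫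
        zqMap h h' hW le_rfl ≫ φ =
      cokernel.π (CohCx.freeSheafMap (Opens.grothendieckTopology X) (homOfLE h)) ≫ φ := by
  rw [← Category.assoc, π_zqMap]

instance epi_zqMap {W W' V : Opens X} (h : W ≤ V) (h' : W' ≤ V) (hW : W' ≤ W) :
    Epi (zqMap h h' hW le_rfl) :=
  epi_of_epi_fac (π_zqMap h h' hW)

lemma Γ_zqMap (F : CohTop.Ab X) {W W' V : Opens X} (h : W ≤ V) (h' : W' ≤ V) (hW : W' ≤ W)
    (φ : zq h ⟶ F) : Γ F h' (zqMap h h' hW le_rfl ≫ φ) = Γ F h φ := by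
  rw [Γ_apply, Γ_apply, π_zqMap_assoc]

lemma flasque (I : CohTop.Ab X) [Injective I] {W V : Opens X} (h : W ≤ V)
    (t : I.obj.obj (op W)) : ∃ s : I.obj.obj (op V), (I.obj.map (homOfLE h).op).hom s = t := by
  have : Mono (CohCx.freeSheafMap (Opens.grothendieckTopology X) (homOfLE h)) :=
    (zqSeq_shortExact h).mono_f
  refine ⟨CohFree.evalGen (Opens.grothendieckTopology X) V I
    (Injective.factorThru (CohFree.ofSect (Opens.grothendieckTopology X) W I t)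
      (CohCx.freeSheafMap (Opens.grothendieckTopology X) (homOfLE h))), ?_⟩
  rw [← CohFree.evalGen_freeSheafMap_comp, Injective.comp_factorThru, CohFree.evalGen_ofSect]

lemma glue2 (F : CohTop.Ab X) (U U' : Opens X) (s₁ : F.obj.obj (op U)) (s₂ : F.obj.obj (op U'))
    (hc : (F.obj.map (homOfLE (inf_le_left : U ⊓ U' ≤ U)).op).hom s₁ =
      (F.obj.map (homOfLE (inf_le_right : U ⊓ U' ≤ U')).op).hom s₂) :
    ∃ t : F.obj.obj (op (U ⊔ U')),
      (F.obj.map (homOfLE (le_sup_left : U ≤ U ⊔ U')).op).hom t = s₁ ∧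
      (F.obj.map (homOfLE (le_sup_right : U' ≤ U ⊔ U')).op).hom t = s₂ := by
  let Uf : Bool → Opens X := fun b => cond b U U'
  let iUV : ∀ b, Uf b ⟶ U ⊔ U' := fun b => match b with
    | true => (homOfLE (le_sup_left : U ≤ U ⊔ U') : U ⟶ U ⊔ U')
    | false => (homOfLE (le_sup_right : U' ≤ U ⊔ U') : U' ⟶ U ⊔ U')
  let sf : ∀ b, ToType (F.obj.obj (op (Uf b))) := fun b => match b with
    | true => s₁
    | false => s₂
  have hcov : U ⊔ U' ≤ iSup Uf := sup_le (le_iSup Uf true) (le_iSup Uf false)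
  have hcompat : TopCat.Presheaf.IsCompatible F.obj Uf sf := by
    intro b b'
    cases b <;> cases b'
    · rfl
    · have := congrArg (F.obj.map (homOfLE (le_of_eq (inf_comm U' U))).op).hom hc
      rw [res_res, res_res] at this
      exact this.symm
    · exact hc
    · rfl
  obtain ⟨t, ht, -⟩ := TopCat.Sheaf.existsUnique_gluing' (F : TopCat.Sheaf AddCommGrpCat.{u} X)
    Uf (U ⊔ U') iUV hcov sf hcompat
  exact ⟨t, ht true, ht false⟩

lemma res_sup_zero (F : CohTop.Ab X) {U U' V : Opens X} (hU : U ≤ V) (hU' : U' ≤ V)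
    (s : F.obj.obj (op V))
    (h1 : (F.obj.map (homOfLE hU).op).hom s = 0) (h2 : (F.obj.map (homOfLE hU').op).hom s = 0) :
    (F.obj.map (homOfLE (sup_le hU hU')).op).hom s = 0 := by
  apply TopCat.Sheaf.eq_of_locally_eq₂ (F : TopCat.Sheaf AddCommGrpCat.{u} X)
    (homOfLE (le_sup_left : U ≤ U ⊔ U')) (homOfLE (le_sup_right : U' ≤ U ⊔ U')) le_rfl
  · exact (res_res F le_sup_left (sup_le hU hU') s).trans
      (h1.trans (map_zero (F.obj.map (homOfLE (le_sup_left : U ≤ U ⊔ U')).op).hom).symm)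
  · exact (res_res F le_sup_right (sup_le hU hU') s).trans
      (h2.trans (map_zero (F.obj.map (homOfLE (le_sup_right : U' ≤ U ⊔ U')).op).hom).symm)

variable (U U' : Opens X)

noncomputable abbrev a₁ : zq (le_top : U ⊓ U' ≤ ⊤) ⟶ zq (le_top : U ≤ ⊤) :=
  zqMap (le_top : U ≤ ⊤) (le_top : U ⊓ U' ≤ ⊤) inf_le_left le_rfl

noncomputable abbrev a₂ : zq (le_top : U ⊓ U' ≤ ⊤) ⟶ zq (le_top : U' ≤ ⊤) :=
  zqMap (le_top : U' ≤ ⊤) (le_top : U ⊓ U' ≤ ⊤) inf_le_right le_rfl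

noncomputable abbrev b₁ : zq (le_top : U ≤ ⊤) ⟶ zq (le_top : U ⊔ U' ≤ ⊤) :=
  zqMap (le_top : U ⊔ U' ≤ ⊤) (le_top : U ≤ ⊤) le_sup_left le_rfl

noncomputable abbrev b₂ : zq (le_top : U' ≤ ⊤) ⟶ zq (le_top : U ⊔ U' ≤ ⊤) :=
  zqMap (le_top : U ⊔ U' ≤ ⊤) (le_top : U' ≤ ⊤) le_sup_right le_rfl

lemma ab_comm : a₁ U U' ≫ b₁ U U' = a₂ U U' ≫ b₂ U U' := by
  apply (cancel_epi (cokernel.π (CohCx.freeSheafMap (Opens.grothendieckTopology X)
    (homOfLE (le_top : U ⊓ U' ≤ ⊤))))).1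
  exact ((π_zqMap_assoc _ _ _ _).trans (π_zqMap _ _ _)).trans
    ((π_zqMap_assoc _ _ _ _).trans (π_zqMap _ _ _)).symm

/-- The Mayer–Vietoris short complex `ℤ/ℤ_{U∩U'} ⟶ ℤ/ℤ_U ⊞ ℤ/ℤ_{U'} ⟶ ℤ/ℤ_{U∪U'}`. -/
noncomputable abbrev mvT : ShortComplex (CohTop.Ab X) :=
  ShortComplex.mk (biprod.lift (a₁ U U') (-(a₂ U U'))) (biprod.desc (b₁ U U') (b₂ U U')) (by
    rw [biprod.lift_desc, Preadditive.neg_comp, ab_comm]
    exact add_neg_cancel _)

theorem mvT_shortExact : (mvT U U').ShortExact := by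
  apply shortExact_of_hom
  · intro R φ hφ
    have hφ' : biprod.desc (b₁ U U') (b₂ U U') ≫ φ = 0 := hφ
    have h0 : b₁ U U' ≫ φ = 0 := by
      calc b₁ U U' ≫ φ = (biprod.inl ≫ biprod.desc (b₁ U U') (b₂ U U')) ≫ φ := by
            rw [biprod.inl_desc]
        _ = biprod.inl ≫ (biprod.desc (b₁ U U') (b₂ U U') ≫ φ) := Category.assoc _ _ _
        _ = 0 := by rw [hφ', comp_zero]
    apply Γ_inj R (le_top : U ⊔ U' ≤ ⊤)
    exact ((Γ_zqMap R (le_top : U ⊔ U' ≤ ⊤) (le_top : U ≤ ⊤) le_sup_left φ).symm.trans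
      ((congrArg (Γ R (le_top : U ≤ ⊤)) h0).trans (map_zero _))).trans (map_zero _).symm
  · intro R ψ hψ
    have e12 : a₁ U U' ≫ biprod.inl ≫ ψ = a₂ U U' ≫ biprod.inr ≫ ψ := by
      have h0 : biprod.lift (a₁ U U') (-(a₂ U U')) ≫ ψ = 0 := hψ
      rw [biprod.lift_eq, Preadditive.add_comp, Category.assoc, Category.assoc,
        Preadditive.neg_comp] at h0
      exact add_neg_eq_zero.1 h0
    have hs12 : Γ R (le_top : U' ≤ ⊤) (biprod.inr ≫ ψ) = Γ R (le_top : U ≤ ⊤) (biprod.inl ≫ ψ) :=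
      ((Γ_zqMap R (le_top : U' ≤ ⊤) (le_top : U ⊓ U' ≤ ⊤) inf_le_right (biprod.inr ≫ ψ)).symm.trans
        (congrArg (Γ R (le_top : U ⊓ U' ≤ ⊤)) e12.symm)).trans
        (Γ_zqMap R (le_top : U ≤ ⊤) (le_top : U ⊓ U' ≤ ⊤) inf_le_left (biprod.inl ≫ ψ))
    have hsU : (R.obj.map (homOfLE (le_top : U ≤ ⊤)).op).hom
        (Γ R (le_top : U ≤ ⊤) (biprod.inl ≫ ψ)) = 0 := Γ_res R _ _
    have hsU' : (R.obj.map (homOfLE (le_top : U' ≤ ⊤)).op).hom
        (Γ R (le_top : U ≤ ⊤) (biprod.inl ≫ ψ)) = 0 := by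
      rw [← hs12]
      exact Γ_res R _ _
    obtain ⟨φ, hφ⟩ := Γ_surj R (le_top : U ⊔ U' ≤ ⊤) (Γ R (le_top : U ≤ ⊤) (biprod.inl ≫ ψ))
      (res_sup_zero R le_top le_top _ hsU hsU')
    refine ⟨φ, ?_⟩
    change biprod.desc (b₁ U U') (b₂ U U') ≫ φ = ψ
    apply biprod.hom_ext'
    · rw [biprod.inl_desc_assoc]
      apply Γ_inj R (le_top : U ≤ ⊤)
      exact (Γ_zqMap R (le_top : U ⊔ U' ≤ ⊤) (le_top : U ≤ ⊤) le_sup_left φ).trans hφ
    · rw [biprod.inr_desc_assoc]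
      apply Γ_inj R (le_top : U' ≤ ⊤)
      exact (Γ_zqMap R (le_top : U ⊔ U' ≤ ⊤) (le_top : U' ≤ ⊤) le_sup_right φ).trans
        (hφ.trans hs12.symm)
  · intro I _ χ
    have hs : (I.obj.map (homOfLE (le_top : U ⊓ U' ≤ ⊤)).op).hom
        (Γ I (le_top : U ⊓ U' ≤ ⊤) χ) = 0 := Γ_res I _ _
    obtain ⟨t, ht1, ht2⟩ := glue2 I U U'
      ((I.obj.map (homOfLE (le_top : U ≤ ⊤)).op).hom (Γ I (le_top : U ⊓ U' ≤ ⊤) χ)) 0
      ((res_res I inf_le_left le_top _).trans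
        (hs.trans (map_zero (I.obj.map (homOfLE (inf_le_right : U ⊓ U' ≤ U')).op).hom).symm))
    obtain ⟨tt, htt⟩ := flasque I (le_top : U ⊔ U' ≤ ⊤) t
    have htU : (I.obj.map (homOfLE (le_top : U ≤ ⊤)).op).hom tt =
        (I.obj.map (homOfLE (le_top : U ≤ ⊤)).op).hom (Γ I (le_top : U ⊓ U' ≤ ⊤) χ) :=
      (res_res I le_sup_left le_top tt).symm.trans
        ((congrArg (I.obj.map (homOfLE (le_sup_left : U ≤ U ⊔ U')).op).hom htt).trans ht1)
    have htU' : (I.obj.map (homOfLE (le_top : U' ≤ ⊤)).op).hom tt = 0 :=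
      (res_res I le_sup_right le_top tt).symm.trans
        ((congrArg (I.obj.map (homOfLE (le_sup_right : U' ≤ U ⊔ U')).op).hom htt).trans ht2)
    obtain ⟨ψ₁, hψ₁⟩ := Γ_surj I (le_top : U ≤ ⊤) (Γ I (le_top : U ⊓ U' ≤ ⊤) χ - tt) (by
      rw [map_sub, htU, sub_self])
    obtain ⟨ψ₂, hψ₂⟩ := Γ_surj I (le_top : U' ≤ ⊤) (-tt) (by
      rw [map_neg, htU', neg_zero])
    refine ⟨biprod.desc ψ₁ ψ₂, ?_⟩
    change biprod.lift (a₁ U U') (-(a₂ U U')) ≫ biprod.desc ψ₁ ψ₂ = χ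
    rw [biprod.lift_desc, Preadditive.neg_comp]
    apply Γ_inj I (le_top : U ⊓ U' ≤ ⊤)
    rw [← sub_eq_add_neg, map_sub, Γ_zqMap, Γ_zqMap, hψ₁, hψ₂]
    abel

variable {U U'}

lemma mk₀_f_comp (F : CohTop.Ab X) (i : ℕ)
    (x₂ : Abelian.Ext.{u} (zq (le_top : U ≤ ⊤) ⊞ zq (le_top : U' ≤ ⊤)) F i) :
    (Abelian.Ext.mk₀ (mvT U U').f).comp x₂ (zero_add i) =
      (Abelian.Ext.mk₀ (a₁ U U')).comp ((Abelian.Ext.mk₀ biprod.inl).comp x₂ (zero_add i))
          (zero_add i) -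
        (Abelian.Ext.mk₀ (a₂ U U')).comp ((Abelian.Ext.mk₀ biprod.inr).comp x₂ (zero_add i))
          (zero_add i) := by
  have e : (mvT U U').f = a₁ U U' ≫ biprod.inl + (-(a₂ U U' ≫ biprod.inr)) := by
    change biprod.lift (a₁ U U') (-(a₂ U U')) = _
    rw [biprod.lift_eq, Preadditive.neg_comp]
  rw [e, Abelian.Ext.mk₀_add, Abelian.Ext.add_comp, Abelian.Ext.mk₀_neg, Abelian.Ext.neg_comp,
    ← Abelian.Ext.mk₀_comp_mk₀_assoc, ← Abelian.Ext.mk₀_comp_mk₀_assoc, sub_eq_add_neg]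

lemma inl_g_comp (F : CohTop.Ab X) (i : ℕ)
    (x₃ : Abelian.Ext.{u} (zq (le_top : U ⊔ U' ≤ ⊤)) F i) :
    (Abelian.Ext.mk₀ biprod.inl).comp ((Abelian.Ext.mk₀ (mvT U U').g).comp x₃ (zero_add i))
        (zero_add i) =
      (Abelian.Ext.mk₀ (b₁ U U')).comp x₃ (zero_add i) := by
  have e : biprod.inl ≫ (mvT U U').g = b₁ U U' := biprod.inl_desc _ _
  rw [Abelian.Ext.mk₀_comp_mk₀_assoc, e]

lemma inr_g_comp (F : CohTop.Ab X) (i : ℕ)
    (x₃ : Abelian.Ext.{u} (zq (le_top : U ⊔ U' ≤ ⊤)) F i) :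
    (Abelian.Ext.mk₀ biprod.inr).comp ((Abelian.Ext.mk₀ (mvT U U').g).comp x₃ (zero_add i))
        (zero_add i) =
      (Abelian.Ext.mk₀ (b₂ U U')).comp x₃ (zero_add i) := by
  have e : biprod.inr ≫ (mvT U U').g = b₂ U U' := biprod.inr_desc _ _
  rw [Abelian.Ext.mk₀_comp_mk₀_assoc, e]

end Sheaf

end Groth.Agent.Lib.Helper16.MVSupp
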