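import Groth.Agent.Lib.Helper16.MonoPt
import Groth.Agent.Lib.Helper16.Charts

/-!
# Helper library (helper16): monomorphic points along representable morphisms
-/

set_option autoImplicit false
universe u
open CategoryTheory CategoryTheory.Limits AlgebraicGeometry Opposite

namespace Groth.Agent.Lib.Helper16

open AlgSp

variable {S : Scheme.{u}}

/-- The field-valued point of `h_T` at a point `t` of `T` has a monomorphic classifying map. -/
theorem mono_toHom_ofPt_yon_map {T T' : Over S} (φ : T ⟶ T') [Mono φ] (t : ↥T.left) :
    Mono (FieldPt.ofPt ((yon S).map φ) t).toHom := by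
  rw [FieldPt.toHom_ofPt]
  have : Mono (Over.homMk (T.left.fromSpecResidueField t) rfl :
      Over.mk (T.left.fromSpecResidueField t ≫ T.hom) ⟶ T) :=
    Over.mono_of_mono_left _
  have h1 : Mono ((yon S).map (Over.homMk (T.left.fromSpecResidueField t) rfl :
      Over.mk (T.left.fromSpecResidueField t ≫ T.hom) ⟶ T)) := @mono_yon_map _ _ _ _ this
  have h2 : Mono ((yon S).map φ) := mono_yon_map φ
  exact @mono_comp _ _ _ _ _ _ h1 _ h2

/-- For `g : h_T ⟶ F` a monomorphism, every point of `T` gives a monomorphic field-valued point of `F`. -/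
theorem mono_toHom_ofPt_of_mono {T : Over S} {F : Sp S} (g : (yon S).obj T ⟶ F) [Mono g] (t : ↥T.left) :
    Mono (FieldPt.ofPt g t).toHom := by
  rw [FieldPt.toHom_ofPt]
  have : Mono (Over.homMk (T.left.fromSpecResidueField t) rfl :
      Over.mk (T.left.fromSpecResidueField t ≫ T.hom) ⟶ T) :=
    Over.mono_of_mono_left _
  have h1 : Mono ((yon S).map (Over.homMk (T.left.fromSpecResidueField t) rfl :
      Over.mk (T.left.fromSpecResidueField t ≫ T.hom) ⟶ T)) := @mono_yon_map _ _ _ _ this
  exact @mono_comp _ _ _ _ _ _ h1 _ inferInstance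

/-- If `f : F ⟶ G` is representable and the image of `x` is represented by a monomorphic field-valued point, then so is
`x`. -/
theorem exists_mono_point_of_representable {F G : Sp S} (f : F ⟶ G) (hf : Representable f) (x : Points F)
    (q : FieldPt G) (hq : Points.mk q = Points.map f x) (hm : Mono q.toHom) :
    ∃ p : FieldPt F, Points.mk p = x ∧ Mono p.toHom := by
  have sq := hf.isPullback q.toHom
  have hmono : Mono (hf.fst q.toHom) :=
    MorphismProperty.of_isPullback (P := MorphismProperty.monomorphisms _) sq.flip
      (MorphismProperty.monomorphisms.infer_property _)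
  obtain ⟨v, hv, -⟩ := exists_point_of_isPullback_yon sq x (IsLocalRing.closedPoint q.K)
    (by rw [Points.ofPt_toHom, hq])
  exact ⟨FieldPt.ofPt (hf.fst q.toHom) v, hv, mono_toHom_ofPt_of_mono _ v⟩

end Groth.Agent.Lib.Helper16
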