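import Groth.Agent.Lib.Helper16.DecentPt
import Groth.Agent.Lib.Helper16.FibreProduct
import Groth.Agent.Lib.Helper16.FiniteFibres
import Groth.Agent.Lib.Helper16.QuasiCompactMor
import Groth.Agent.Lib.Helper15.SmoothLocalST

/-!
# Helper library (helper16): monomorphic points descend along quasi-compact etale surjective morphisms
-/

set_option autoImplicit false
universe u
open CategoryTheory CategoryTheory.Limits AlgebraicGeometry Opposite Topology TopologicalSpace

namespace Groth.Agent.Lib.Helper16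

open AlgSp

variable {S : Scheme.{u}}

/-- Let `f : X ⟶ Y` be quasi-compact and etale, and `a : Spec K ⟶ X` a point which factors through a monomorphism
`Spec k ⟶ X`.  Then the kernel pair of `a ≫ f` is a quasi-compact scheme. -/
theorem compactSpace_kernelPair_of_qc_etale {X Y : Sp S} (hX : IsAlgSpace X) (hY : IsAlgSpace Y) (f : X ⟶ Y)
    (hq : IsQuasiCompactMor f) (he : IsEtaleMor f)
    (K : Type u) [Field K] (str : Spec (CommRingCat.of K) ⟶ S) (a : (yon S).obj (Over.mk str) ⟶ X)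
    (k : Type u) [Field k] (str' : Spec (CommRingCat.of k) ⟶ S) (p : (yon S).obj (Over.mk str') ⟶ X)
    (hp : Mono p) (c : Over.mk str ⟶ Over.mk str') (hc : a = (yon S).map c ≫ p)
    {F : Over S} (s t : F ⟶ Over.mk str)
    (hF : IsPullback ((yon S).map s) ((yon S).map t) (a ≫ f) (a ≫ f)) : CompactSpace ↥F.left := by
  obtain ⟨q₀, hq₀⟩ : ∃ q₀ : (yon S).obj (Over.mk str) ⟶ Y, q₀ = a ≫ f := ⟨_, rfl⟩
  rw [← hq₀] at hF
  have sqA := IsPullback.of_hasPullback q₀ f
  obtain ⟨E, e₁, e₂, sqA⟩ : ∃ (E : Sp S) (e₁ : E ⟶ (yon S).obj (Over.mk str)) (e₂ : E ⟶ X),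
      IsPullback e₁ e₂ q₀ f := ⟨_, _, _, sqA⟩
  have hE : IsAlgSpace E := isAlgSpace_of_isPullback (IsAlgSpace.yon_obj _) hY.diag hX sqA
  have hcK : CompactSpace ↥(Over.mk str).left := inferInstanceAs (CompactSpace ↥(Spec (CommRingCat.of K)))
  have hEqc : IsQuasiCompactSp E :=
    hq (IsAlgSpace.yon_obj _) (isQuasiCompactSp_yon_of_compactSpace _) q₀ e₂ e₁ sqA.flip
  obtain ⟨W, w, hwe, hws, hWc⟩ := hEqc
  have he₁ : IsEtaleMor e₁ :=
    Groth.Agent.Lib.Helper15.isEtaleMor_of_isPullback hX hY (IsAlgSpace.yon_obj _) sqA.flip he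
  obtain ⟨w₁, hw₁⟩ := (yon S).map_surjective (w ≫ e₁)
  have hw₁e : Etale w₁.left := (repWith_yon_map_iff _ _).1 (by rw [hw₁]; exact he₁ w hwe)
  have hWfin : Finite ↥W.left := by
    obtain ⟨w₂, hw₂⟩ : ∃ w₂ : W.left ⟶ Spec (CommRingCat.of K), w₂ = w₁.left := ⟨_, rfl⟩
    have : Etale w₂ := by rw [hw₂]; exact hw₁e
    exact finite_of_etale_over_field w₂
  -- `F = E ×_X Spec K`
  have hgw : (yon S).map s ≫ q₀ = ((yon S).map t ≫ a) ≫ f := by
    rw [Category.assoc, ← hq₀]; exact hF.w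
  obtain ⟨g, hg1, hg2⟩ : ∃ g : (yon S).obj F ⟶ E, g ≫ e₁ = (yon S).map s ∧ g ≫ e₂ = (yon S).map t ≫ a :=
    ⟨sqA.lift _ _ hgw, sqA.lift_fst _ _ _, sqA.lift_snd _ _ _⟩
  have sqC : IsPullback g ((yon S).map t) e₂ a := by
    refine IsPullback.of_right ?_ hg2 sqA
    rw [hg1, ← hq₀]
    exact hF
  -- `FW = W ×_X Spec K`
  obtain ⟨FW, fa, fb, sqD⟩ : ∃ (FW : Over S) (fa : FW ⟶ W) (fb : FW ⟶ Over.mk str),
      IsPullback ((yon S).map fa) ((yon S).map fb) (w ≫ e₂) a :=
    ⟨_, _, _, (hX.representable_from_yon (w ≫ e₂)).isPullback' a⟩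
  have hlw : ((yon S).map fa ≫ w) ≫ e₂ = (yon S).map fb ≫ a := by
    rw [Category.assoc]; exact sqD.w
  obtain ⟨l, hl⟩ := (yon S).map_surjective (sqC.lift _ _ hlw)
  have hl1 : (yon S).map l ≫ g = (yon S).map fa ≫ w := by rw [hl, sqC.lift_fst]
  have hl2 : (yon S).map l ≫ (yon S).map t = (yon S).map fb := by rw [hl, sqC.lift_snd]
  have sqE : IsPullback ((yon S).map l) ((yon S).map fa) g w := by
    refine IsPullback.of_right ?_ hl1 sqC.flip
    rw [hl2]
    exact sqD.flip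
  have hlsurj : Surjective l.left := hws.property _ _ _ sqE.flip
  -- `M = W ×_X Spec k`
  obtain ⟨M, m₁, m₂, sqM⟩ : ∃ (M : Over S) (m₁ : M ⟶ W) (m₂ : M ⟶ Over.mk str'),
      IsPullback ((yon S).map m₁) ((yon S).map m₂) (w ≫ e₂) p :=
    ⟨_, _, _, (hX.representable_from_yon (w ≫ e₂)).isPullback' p⟩
  have hm₁m : Mono ((yon S).map m₁) := sqM.mono_fst_of_mono
  have hm₁m' : Mono m₁ := (yon S).mono_of_mono_map hm₁m
  have hm₁l : Mono m₁.left := inferInstance
  have hMfin : Finite ↥M.left := Finite.of_injective _ m₁.left.injective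
  have hMc : CompactSpace ↥M.left := Finite.compactSpace
  have hκw : (yon S).map fa ≫ (w ≫ e₂) = ((yon S).map fb ≫ (yon S).map c) ≫ p := by
    rw [Category.assoc, ← hc]; exact sqD.w
  obtain ⟨κ, hκ⟩ := (yon S).map_surjective (sqM.lift _ _ hκw)
  have hκ1 : (yon S).map κ ≫ (yon S).map m₁ = (yon S).map fa := by rw [hκ, sqM.lift_fst]
  have hκ2 : (yon S).map κ ≫ (yon S).map m₂ = (yon S).map fb ≫ (yon S).map c := by rw [hκ, sqM.lift_snd]
  have sqL : IsPullback ((yon S).map κ) ((yon S).map fb) ((yon S).map m₂) ((yon S).map c) := by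
    refine IsPullback.of_right ?_ hκ2 sqM
    rw [hκ1, ← hc]
    exact sqD
  have sqL' : IsPullback κ.left fb.left m₂.left c.left := isPullback_left_of_yon sqL
  have hcqc : QuasiCompact c.left := by
    obtain ⟨c₁, hc₁⟩ : ∃ c₁ : Spec (CommRingCat.of K) ⟶ (Over.mk str').left, c₁ = c.left := ⟨_, rfl⟩
    rw [← hc₁]
    exact quasiCompact_of_field_source c₁
  have hκqc : QuasiCompact κ.left := MorphismProperty.of_isPullback (P := @QuasiCompact) sqL'.flip hcqc
  have hFWc : CompactSpace ↥FW.left := QuasiCompact.compactSpace_of_compactSpace κ.left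
  exact Function.Surjective.compactSpace (f := l.left) l.left.continuous l.left.surjective

end Groth.Agent.Lib.Helper16
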