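import Mathlib

/-!
# A finite locally free morphism is, locally on the base, finite free on global sections
-/

namespace Groth.Agent.Lib.Helper16.MorSFree

open CategoryTheory CategoryTheory.Limits AlgebraicGeometry TensorProduct

universe u

/-- if `M_r` is free over `R_r` and `r` is invertible in `T`, then `T ⊗ M` is free over `T` -/
lemma free_tensor_of_isUnit {R : Type u} [CommRing R] (M : Type u) [AddCommGroup M] [Module R M]
    (r : R) (T : Type u) [CommRing T] [Algebra R T] (hr : IsUnit (algebraMap R T r))
    [Module.Free (Localization.Away r) (LocalizedModule.Away r M)] :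
    Module.Free T (T ⊗[R] M) := by
  letI : Algebra (Localization.Away r) T := (IsLocalization.Away.lift r hr).toAlgebra
  haveI : IsScalarTower R (Localization.Away r) T := IsScalarTower.of_algebraMap_eq' (by
    rw [RingHom.algebraMap_toAlgebra, IsLocalization.Away.lift_comp])
  let e1 : Localization.Away r ⊗[R] M ≃ₗ[Localization.Away r] LocalizedModule.Away r M :=
    (LocalizedModule.isBaseChange (Submonoid.powers r) M).equiv
  haveI : Module.Free (Localization.Away r) (Localization.Away r ⊗[R] M) :=
    Module.Free.of_equiv e1.symm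
  exact Module.Free.of_equiv
    (AlgebraTensorModule.cancelBaseChange R (Localization.Away r) T T M)

/-- a finite flat finitely presented algebra is free after inverting one element outside a given
prime -/
lemma exists_free_away {R S : Type u} [CommRing R] [CommRing S] [Algebra R S]
    [Module.Finite R S] [Module.Flat R S] [Algebra.FinitePresentation R S]
    (p : PrimeSpectrum R) :
    ∃ r : R, r ∉ p.asIdeal ∧
      Module.Free (Localization.Away r) (LocalizedModule.Away r S) := by
  haveI : Module.FinitePresentation R S :=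
    Module.FinitePresentation.of_finite_of_finitePresentation R S
  have hx : p ∈ Module.freeLocus R S := by
    rw [Module.freeLocus_eq_univ]; trivial
  have : Module.Free (Localization.AtPrime p.asIdeal)
      (LocalizedModule p.asIdeal.primeCompl S) := hx
  obtain ⟨r, hr, hr', _⟩ := Module.FinitePresentation.exists_free_localizedModule_powers
    p.asIdeal.primeCompl (LocalizedModule.mkLinearMap p.asIdeal.primeCompl S)
    (Localization.AtPrime p.asIdeal)
  exact ⟨r, hr, hr'⟩

lemma finite_free_of_isPushout {R S T P : CommRingCat.{u}} {f : R ⟶ S} {g : R ⟶ T}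
    {inl : S ⟶ P} {inr : T ⟶ P} (h : IsPushout f g inl inr) (hfin : f.hom.Finite) (r : R)
    (hr : IsUnit (g.hom r))
    (hfree : letI := f.hom.toAlgebra
      Module.Free (Localization.Away r) (LocalizedModule.Away r S)) :
    letI := inr.hom.toAlgebra
    Module.Finite T P ∧ Module.Free T P := by
  algebraize [f.hom, g.hom, inl.hom, inr.hom, inl.hom.comp f.hom]
  have : IsScalarTower R T P := .of_algebraMap_eq' <| congr($(h.1.1).hom)
  have h1 : Algebra.IsPushout R S T P := CommRingCat.isPushout_iff_isPushout.mp h
  have h2 : Algebra.IsPushout R T S P := Algebra.IsPushout.symm h1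
  let e : T ⊗[R] S ≃ₗ[T] P := h2.out.equiv
  haveI : Module.Free (Localization.Away r) (LocalizedModule.Away r S) := hfree
  haveI : Module.Free T (T ⊗[R] S) := free_tensor_of_isUnit S r T hr
  exact ⟨Module.Finite.equiv e, Module.Free.of_equiv e⟩

lemma isUnit_of_basicOpen_eq_top {Y : Scheme.{u}} (a : Γ(Y, ⊤)) (h : Y.basicOpen a = ⊤) :
    IsUnit a := by
  apply Y.toRingedSpace.isUnit_of_isUnit_germ ⊤ a
  intro y hy
  have hy' : y ∈ Y.basicOpen a := by rw [h]; trivial
  exact (Y.mem_basicOpen a y hy).mp hy'

theorem exists_free_nbhd {Z S : Scheme.{u}} (g : Z ⟶ S) [IsFinite g] [Flat g]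
    [LocallyOfFinitePresentation g] (s : S) :
    ∃ (S' : Scheme.{u}) (h : S' ⟶ S), IsOpenImmersion h ∧ IsAffine S' ∧ s ∈ Set.range h ∧
      (letI := (pullback.snd g h).appTop.hom.toAlgebra
       Module.Finite Γ(S', ⊤) Γ(pullback g h, ⊤) ∧ Module.Free Γ(S', ⊤) Γ(pullback g h, ⊤)) := by
  obtain ⟨R, i, hi, x, rfl⟩ := S.exists_Spec_apply_eq s
  have hfin : (pullback.snd g i).appTop.hom.Finite := (pullback.snd g i).finite_appTop
  have hflat : (pullback.snd g i).appTop.hom.Flat := (pullback.snd g i).flat_appTop
  have hfp : (pullback.snd g i).appTop.hom.FinitePresentation :=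
    (pullback.snd g i).finitePresentation_appTop
  obtain ⟨r, hr, hfree⟩ : ∃ r : Γ(Spec R, ⊤), r ∉ ((Spec R).toSpecΓ x).asIdeal ∧
      (letI := (pullback.snd g i).appTop.hom.toAlgebra
       Module.Free (Localization.Away r) (LocalizedModule.Away r Γ(pullback g i, ⊤))) := by
    algebraize [(pullback.snd g i).appTop.hom]
    exact exists_free_away _
  haveI : IsAffine ((Spec R).basicOpen r).toScheme := (isAffineOpen_top (Spec R)).basicOpen r
  have hx : x ∈ (Spec R).basicOpen r := by
    rw [← Scheme.toSpecΓ_preimage_basicOpen]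
    exact hr
  refine ⟨((Spec R).basicOpen r).toScheme, ((Spec R).basicOpen r).ι ≫ i, inferInstance,
    inferInstance, ⟨⟨x, hx⟩, rfl⟩, ?_⟩
  let a : pullback g (((Spec R).basicOpen r).ι ≫ i) ⟶ pullback g i :=
    pullback.lift (pullback.fst g _) (pullback.snd g _ ≫ ((Spec R).basicOpen r).ι)
      (by rw [pullback.condition, Category.assoc])
  have ha1 : a ≫ pullback.fst g i = pullback.fst g _ := pullback.lift_fst _ _ _
  have ha2 : a ≫ pullback.snd g i = pullback.snd g _ ≫ ((Spec R).basicOpen r).ι :=
    pullback.lift_snd _ _ _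
  have hsq : IsPullback a (pullback.snd g (((Spec R).basicOpen r).ι ≫ i)) (pullback.snd g i)
      ((Spec R).basicOpen r).ι := by
    refine IsPullback.of_right ?_ ha2 (IsPullback.of_hasPullback g i)
    rw [ha1]
    exact IsPullback.of_hasPullback g _
  have hpo := isPushout_appTop_of_isPullback hsq
  have hunit : IsUnit (((Spec R).basicOpen r).ι.appTop.hom r) := by
    apply isUnit_of_basicOpen_eq_top
    rw [← Scheme.preimage_basicOpen_top]
    exact Scheme.Opens.ι_preimage_self _
  exact finite_free_of_isPushout hpo hfin r hunit hfree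

end Groth.Agent.Lib.Helper16.MorSFree
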