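import Mathlib
import Groth.Prelude.Def_Flatn
import Groth.Agent.Lib.Helper16.LocRepTot

/-!
# The functor `Mor_S(Z, X)` is a Zariski sheaf on schemes over `S`
-/

namespace Groth.Agent.Lib.Helper16.MorSSheaf

open CategoryTheory CategoryTheory.Limits AlgebraicGeometry Opposite
open Groth.Agent.Lib.Helper16.LocRep

universe w u
variable {S Z X : Scheme.{u}} (g : Z ⟶ S) (f : X ⟶ S)

/-- the base change of `h : T' ⟶ T` to `T' ×_S Z ⟶ T ×_S Z` -/
noncomputable def pm {T T' : Scheme.{u}} (h : T' ⟶ T) (t : T ⟶ S) (t' : T' ⟶ S)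
    (hh : h ≫ t = t') : pullback t' g ⟶ pullback t g :=
  pullback.lift (pullback.fst t' g ≫ h) (pullback.snd t' g)
    (by rw [Category.assoc, hh, pullback.condition])

@[reassoc]
lemma pm_fst {T T' : Scheme.{u}} (h : T' ⟶ T) (t : T ⟶ S) (t' : T' ⟶ S) (hh : h ≫ t = t') :
    pm g h t t' hh ≫ pullback.fst t g = pullback.fst t' g ≫ h := pullback.lift_fst _ _ _

@[reassoc]
lemma pm_snd {T T' : Scheme.{u}} (h : T' ⟶ T) (t : T ⟶ S) (t' : T' ⟶ S) (hh : h ≫ t = t') :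
    pm g h t t' hh ≫ pullback.snd t g = pullback.snd t' g := pullback.lift_snd _ _ _

variable {g f}

/-- the underlying morphism `T ×_S Z ⟶ X` of a section -/
noncomputable def lft {T : Scheme.{u}} {t : T ⟶ S} (ξ : (Flatn.morS g f).obj (op (Over.mk t))) :
    pullback t g ⟶ X :=
  CommaMorphism.left (ξ : (Over.map g).obj ((Over.pullback g).obj (Over.mk t)) ⟶ Over.mk f)

lemma lft_w {T : Scheme.{u}} {t : T ⟶ S} (ξ : (Flatn.morS g f).obj (op (Over.mk t))) :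
    lft ξ ≫ f = pullback.snd t g ≫ g :=
  Over.w (ξ : (Over.map g).obj ((Over.pullback g).obj (Over.mk t)) ⟶ Over.mk f)

/-- a section from its underlying morphism -/
noncomputable def mkSec {T : Scheme.{u}} {t : T ⟶ S} (b : pullback t g ⟶ X)
    (hb : b ≫ f = pullback.snd t g ≫ g) : (Flatn.morS g f).obj (op (Over.mk t)) :=
  (Over.homMk b hb : (Over.map g).obj ((Over.pullback g).obj (Over.mk t)) ⟶ Over.mk f)

lemma lft_mkSec {T : Scheme.{u}} {t : T ⟶ S} (b : pullback t g ⟶ X)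
    (hb : b ≫ f = pullback.snd t g ≫ g) : lft (mkSec b hb) = b := rfl

lemma sec_ext {T : Scheme.{u}} {t : T ⟶ S} {ξ ξ' : (Flatn.morS g f).obj (op (Over.mk t))}
    (h : lft ξ = lft ξ') : ξ = ξ' :=
  Over.OverMorphism.ext h

lemma lft_res {T T' : Scheme.{u}} (h : T' ⟶ T) (t : T ⟶ S) (t' : T' ⟶ S) (hh : h ≫ t = t')
    (ξ : (Flatn.morS g f).obj (op (Over.mk t))) :
    lft (res (Flatn.morS g f) h t t' hh ξ) = pm g h t t' hh ≫ lft ξ := rfl

variable (g f)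

set_option backward.isDefEq.respectTransparency false in
set_option backward.isDefEq.respectTransparency.types false in
theorem morS_isZarSheaf : IsZarSheaf.{w} (Flatn.morS g f) := by
  intro T t 𝒰 ξ hξ
  let 𝒱 := Scheme.Pullback.openCoverOfLeft 𝒰 t g
  have h𝒱 : ∀ j : 𝒰.I₀, 𝒱.f j = pm g (𝒰.f j) t (𝒰.f j ≫ t) rfl := by
    intro j
    apply pullback.hom_ext
    · rw [pm_fst]
      simp [𝒱]
    · rw [pm_snd]
      simp [𝒱]
  have hcompat : ∀ i j : 𝒰.I₀, pullback.fst (𝒱.f i) (𝒱.f j) ≫ lft (ξ i) =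
      pullback.snd (𝒱.f i) (𝒱.f j) ≫ lft (ξ j) := by
    intro i j
    have hq : pullback.fst (𝒱.f i) (𝒱.f j) ≫ 𝒱.f i = pullback.snd (𝒱.f i) (𝒱.f j) ≫ 𝒱.f j :=
      pullback.condition
    have e1 : pullback.fst (𝒰.f i ≫ t) g ≫ 𝒰.f i = 𝒱.f i ≫ pullback.fst t g := by
      rw [h𝒱, pm_fst]
    have e2 : pullback.fst (𝒰.f j ≫ t) g ≫ 𝒰.f j = 𝒱.f j ≫ pullback.fst t g := by
      rw [h𝒱, pm_fst]
    have e3 : pullback.snd (𝒰.f i ≫ t) g = 𝒱.f i ≫ pullback.snd t g := by rw [h𝒱, pm_snd]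
    have e4 : pullback.snd (𝒰.f j ≫ t) g = 𝒱.f j ≫ pullback.snd t g := by rw [h𝒱, pm_snd]
    have hg : (pullback.fst (𝒱.f i) (𝒱.f j) ≫ pullback.fst (𝒰.f i ≫ t) g) ≫ 𝒰.f i =
        (pullback.snd (𝒱.f i) (𝒱.f j) ≫ pullback.fst (𝒰.f j ≫ t) g) ≫ 𝒰.f j := by
      rw [Category.assoc, Category.assoc, e1, e2, ← Category.assoc, hq, Category.assoc]
    have key := congrArg lft (hξ i j _ _ _ hg)
    rw [lft_res, lft_res] at key
    let σ : pullback (𝒱.f i) (𝒱.f j) ⟶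
        pullback ((pullback.fst (𝒱.f i) (𝒱.f j) ≫ pullback.fst (𝒰.f i ≫ t) g) ≫ 𝒰.f i ≫ t) g :=
      pullback.lift (𝟙 _) (pullback.fst (𝒱.f i) (𝒱.f j) ≫ pullback.snd (𝒰.f i ≫ t) g) (by
        rw [Category.id_comp, Category.assoc, Category.assoc, pullback.condition])
    have hσ₁ : ∀ hh, σ ≫ pm g (pullback.fst (𝒱.f i) (𝒱.f j) ≫ pullback.fst (𝒰.f i ≫ t) g)
        (𝒰.f i ≫ t) _ hh = pullback.fst (𝒱.f i) (𝒱.f j) := by
      intro hh
      apply pullback.hom_ext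
      · rw [Category.assoc, pm_fst, ← Category.assoc, pullback.lift_fst, Category.id_comp]
      · rw [Category.assoc, pm_snd, pullback.lift_snd]
    have hσ₂ : ∀ hh, σ ≫ pm g (pullback.snd (𝒱.f i) (𝒱.f j) ≫ pullback.fst (𝒰.f j ≫ t) g)
        (𝒰.f j ≫ t) _ hh = pullback.snd (𝒱.f i) (𝒱.f j) := by
      intro hh
      apply pullback.hom_ext
      · rw [Category.assoc, pm_fst, ← Category.assoc, pullback.lift_fst, Category.id_comp]
      · rw [Category.assoc, pm_snd, pullback.lift_snd, e3, e4, ← Category.assoc, hq,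
          Category.assoc]
    calc pullback.fst (𝒱.f i) (𝒱.f j) ≫ lft (ξ i)
        = (σ ≫ pm g _ (𝒰.f i ≫ t) _ rfl) ≫ lft (ξ i) := by rw [hσ₁]
      _ = σ ≫ (pm g _ (𝒰.f i ≫ t) _ rfl ≫ lft (ξ i)) := Category.assoc _ _ _
      _ = σ ≫ (pm g _ (𝒰.f j ≫ t) _ _ ≫ lft (ξ j)) := by rw [key]
      _ = (σ ≫ pm g _ (𝒰.f j ≫ t) _ _) ≫ lft (ξ j) := (Category.assoc _ _ _).symm
      _ = pullback.snd (𝒱.f i) (𝒱.f j) ≫ lft (ξ j) := by rw [hσ₂]
  let b : pullback t g ⟶ X := 𝒱.glueMorphisms (fun j => lft (ξ j)) hcompat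
  have hb : ∀ j, 𝒱.f j ≫ b = lft (ξ j) := fun j => 𝒱.ι_glueMorphisms _ _ j
  have hbw : b ≫ f = pullback.snd t g ≫ g := by
    apply 𝒱.hom_ext
    intro j
    rw [← Category.assoc, hb, lft_w, ← Category.assoc]
    congr 1
    rw [h𝒱, pm_snd]
  refine ⟨mkSec b hbw, ?_, ?_⟩
  · intro j
    apply sec_ext
    rw [lft_res, lft_mkSec, ← h𝒱, hb]
  · intro ξ' hξ'
    apply sec_ext
    rw [lft_mkSec]
    apply 𝒱.hom_ext
    intro j
    rw [hb, h𝒱, ← lft_res, hξ']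

end Groth.Agent.Lib.Helper16.MorSSheaf
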