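import Mathlib

/-!
# Weil restriction algebra (finite free case), coordinate formulation

`R`-algebras `A`, `B`, with `b : Basis ι R B`, `ι` finite.  We build an `R`-algebra `WC A b` with
generators `gen a i` such that for every "base change datum" `(D, E, ρ, α, β)` (`E` plays the role of
`D ⊗_R B`: the coordinate map `kmap α β b : (ι → D) → E` is bijective), ring maps `WC A b → D` over `R`
correspond to ring maps `A → E` over `R`.
-/

namespace Groth.Agent.Lib.Helper16.WRes

open MvPolynomial

universe u

section Kmap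

variable {B : Type*} [CommRing B] {ι : Type*} [Fintype ι]

/-- coordinate map `(x_i) ↦ Σ α(x_i) β(b_i)`. -/
def kmap {D E : Type*} [CommRing D] [CommRing E] (α : D →+* E) (β : B →+* E) (bb : ι → B)
    (x : ι → D) : E :=
  ∑ i, α (x i) * β (bb i)

variable {D E D' E' : Type*} [CommRing D] [CommRing E] [CommRing D'] [CommRing E']
  (α : D →+* E) (β : B →+* E) (bb : ι → B)

theorem kmap_add (x y : ι → D) : kmap α β bb (x + y) = kmap α β bb x + kmap α β bb y := by
  simp [kmap, add_mul, Finset.sum_add_distrib]

theorem kmap_nat {α' : D' →+* E'} {β' : B →+* E'} (e : E →+* E') (d : D →+* D')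
    (hα : e.comp α = α'.comp d) (hβ : e.comp β = β') (x : ι → D) :
    e (kmap α β bb x) = kmap α' β' bb (fun i => d (x i)) := by
  simp only [kmap, map_sum, map_mul]
  refine Finset.sum_congr rfl fun i _ => ?_
  rw [← hβ]
  have := RingHom.congr_fun hα (x i)
  simp only [RingHom.comp_apply] at this ⊢
  rw [this]

end Kmap

section Alg

variable {R : Type u} (A : Type u) {B : Type u} [CommRing R] [CommRing A] [CommRing B]
  [Algebra R A] [Algebra R B] {ι : Type u} [Fintype ι] (b : Module.Basis ι R B)

section KmapB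

variable {A}
variable {D E : Type*} [CommRing D] [CommRing E] (ρ : R →+* D) (α : D →+* E) (β : B →+* E)
  (hαβ : α.comp ρ = β.comp (algebraMap R B))

include hαβ

theorem beta_eq (z : B) : β z = ∑ l, α (ρ (b.repr z l)) * β (b l) := by
  conv_lhs => rw [← b.sum_repr z]
  rw [map_sum]
  refine Finset.sum_congr rfl fun l _ => ?_
  rw [Algebra.smul_def, map_mul]
  congr 1
  exact (RingHom.congr_fun hαβ _).symm

theorem kmap_mul (x y : ι → D) :
    kmap α β b x * kmap α β b y =
      kmap α β b (fun l => ∑ j, ∑ k, ρ (b.repr (b j * b k) l) * x j * y k) := by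
  unfold kmap
  rw [Finset.sum_mul_sum]
  calc ∑ j, ∑ k, α (x j) * β (b j) * (α (y k) * β (b k))
      = ∑ j, ∑ k, ∑ l, α (ρ (b.repr (b j * b k) l) * x j * y k) * β (b l) := by
        refine Finset.sum_congr rfl fun j _ => Finset.sum_congr rfl fun k _ => ?_
        have h1 : α (x j) * β (b j) * (α (y k) * β (b k)) = α (x j) * α (y k) * β (b j * b k) := by
          rw [map_mul]; ring
        rw [h1, beta_eq b ρ α β hαβ (b j * b k), Finset.mul_sum]
        refine Finset.sum_congr rfl fun l _ => ?_
        simp only [map_mul]; ring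
    _ = ∑ j, ∑ l, ∑ k, α (ρ (b.repr (b j * b k) l) * x j * y k) * β (b l) :=
        Finset.sum_congr rfl fun j _ => Finset.sum_comm
    _ = ∑ l, ∑ j, ∑ k, α (ρ (b.repr (b j * b k) l) * x j * y k) * β (b l) := Finset.sum_comm
    _ = _ := by
        refine Finset.sum_congr rfl fun l _ => ?_
        simp only [map_sum, Finset.sum_mul]

theorem kmap_unit (r : R) : kmap α β b (fun l => ρ (r * b.repr 1 l)) = α (ρ r) := by
  unfold kmap
  have h1 := beta_eq b ρ α β hαβ 1
  rw [map_one] at h1
  calc ∑ l, α (ρ (r * b.repr 1 l)) * β (b l)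
      = α (ρ r) * ∑ l, α (ρ (b.repr 1 l)) * β (b l) := by
        rw [Finset.mul_sum]
        refine Finset.sum_congr rfl fun l _ => ?_
        simp only [map_mul]; ring
    _ = α (ρ r) := by rw [← h1, mul_one]

end KmapB

/-- The relations defining the Weil restriction algebra. -/
inductive Rel : MvPolynomial (A × ι) R → Prop
  | add (a a' : A) (l : ι) : Rel (X (a + a', l) - X (a, l) - X (a', l))
  | alg (r : R) (l : ι) : Rel (X (algebraMap R A r, l) - C (r * b.repr 1 l))
  | mul (a a' : A) (l : ι) :
      Rel (X (a * a', l) - ∑ j, ∑ k, C (b.repr (b j * b k) l) * X (a, j) * X (a', k))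

/-- The ideal of relations. -/
noncomputable def J : Ideal (MvPolynomial (A × ι) R) := Ideal.span {p | Rel A b p}

/-- The Weil restriction algebra. -/
abbrev WC : Type u := MvPolynomial (A × ι) R ⧸ J A b

variable {A}

/-- generators -/
noncomputable def gen (a : A) (i : ι) : WC A b := Ideal.Quotient.mk (J A b) (X (a, i))

theorem mk_C (r : R) : (Ideal.Quotient.mk (J A b) (C r) : WC A b) = algebraMap R (WC A b) r := rfl

theorem gen_add (a a' : A) (l : ι) : gen b (a + a') l = gen b a l + gen b a' l := by
  have h : (Ideal.Quotient.mk (J A b)) (X (a + a', l) - X (a, l) - X (a', l)) = 0 :=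
    Ideal.Quotient.eq_zero_iff_mem.mpr (Ideal.subset_span (Rel.add a a' l))
  simp only [map_sub] at h
  exact sub_eq_iff_eq_add'.mp (sub_eq_zero.mp h)

theorem gen_alg (r : R) (l : ι) :
    gen b (algebraMap R A r) l = algebraMap R (WC A b) (r * b.repr 1 l) := by
  have h : (Ideal.Quotient.mk (J A b)) (X (algebraMap R A r, l) - C (r * b.repr 1 l)) = 0 :=
    Ideal.Quotient.eq_zero_iff_mem.mpr (Ideal.subset_span (Rel.alg r l))
  simp only [map_sub] at h
  exact sub_eq_zero.mp h

theorem gen_mul (a a' : A) (l : ι) :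
    gen b (a * a') l =
      ∑ j, ∑ k, algebraMap R (WC A b) (b.repr (b j * b k) l) * gen b a j * gen b a' k := by
  have h : (Ideal.Quotient.mk (J A b))
      (X (a * a', l) - ∑ j, ∑ k, C (b.repr (b j * b k) l) * X (a, j) * X (a', k)) = 0 :=
    Ideal.Quotient.eq_zero_iff_mem.mpr (Ideal.subset_span (Rel.mul a a' l))
  simp only [map_sub, map_sum, map_mul] at h
  exact sub_eq_zero.mp h

section Chi

variable {D E : Type u} [CommRing D] [CommRing E] (ρ : R →+* D) (α : D →+* E) (β : B →+* E)
  (hαβ : α.comp ρ = β.comp (algebraMap R B))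

/-- the underlying function of `chi`. -/
noncomputable def chiFun (c : WC A b →+* D) (a : A) : E := kmap α β b (fun i => c (gen b a i))

include hαβ in
theorem chiFun_algebraMap (c : WC A b →+* D) (hc : c.comp (algebraMap R (WC A b)) = ρ) (r : R) :
    chiFun b α β c (algebraMap R A r) = α (ρ r) := by
  unfold chiFun
  rw [← kmap_unit b ρ α β hαβ r]
  congr 1
  funext l
  rw [gen_alg, ← hc]
  rfl

/-- The ring hom `A → E` attached to `c : WC A b → D`. -/
noncomputable def chi (c : WC A b →+* D) (hc : c.comp (algebraMap R (WC A b)) = ρ) : A →+* E where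
  toFun := chiFun b α β c
  map_one' := by
    have := chiFun_algebraMap b ρ α β hαβ c hc 1
    simpa using this
  map_mul' a a' := by
    unfold chiFun
    rw [kmap_mul b ρ α β hαβ]
    congr 1
    funext l
    rw [gen_mul, map_sum]
    refine Finset.sum_congr rfl fun j _ => ?_
    rw [map_sum]
    refine Finset.sum_congr rfl fun k _ => ?_
    rw [map_mul, map_mul, ← hc]
    rfl
  map_zero' := by
    have := chiFun_algebraMap b ρ α β hαβ c hc 0
    simpa using this
  map_add' a a' := by
    unfold chiFun
    rw [← kmap_add]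
    congr 1
    funext l
    simp [gen_add]

theorem chi_apply (c : WC A b →+* D) (hc : c.comp (algebraMap R (WC A b)) = ρ) (a : A) :
    chi b ρ α β hαβ c hc a = kmap α β b (fun i => c (gen b a i)) := rfl

theorem chi_comp_algebraMap (c : WC A b →+* D) (hc : c.comp (algebraMap R (WC A b)) = ρ) :
    (chi b ρ α β hαβ c hc).comp (algebraMap R A) = α.comp ρ := by
  ext r
  exact chiFun_algebraMap b ρ α β hαβ c hc r

theorem ringHom_ext_WC {c c' : WC A b →+* D}
    (h1 : c.comp (algebraMap R (WC A b)) = c'.comp (algebraMap R (WC A b)))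
    (h2 : ∀ a i, c (gen b a i) = c' (gen b a i)) : c = c' := by
  apply Ideal.Quotient.ringHom_ext
  apply MvPolynomial.ringHom_ext
  · intro r
    exact RingHom.congr_fun h1 r
  · rintro ⟨a, i⟩
    exact h2 a i

/-- The main bijection of the Weil restriction algebra. -/
theorem chi_bijective (hk : Function.Bijective (kmap α β b : (ι → D) → E)) :
    Function.Bijective
      (fun c : {c : WC A b →+* D // c.comp (algebraMap R (WC A b)) = ρ} =>
        (⟨chi b ρ α β hαβ c.1 c.2, chi_comp_algebraMap b ρ α β hαβ c.1 c.2⟩ :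
          {χ : A →+* E // χ.comp (algebraMap R A) = α.comp ρ})) := by
  constructor
  · rintro ⟨c, hc⟩ ⟨c', hc'⟩ h
    have h' : ∀ a, kmap α β b (fun i => c (gen b a i)) = kmap α β b (fun i => c' (gen b a i)) :=
      fun a => RingHom.congr_fun (congrArg Subtype.val h) a
    apply Subtype.ext
    apply ringHom_ext_WC b (hc.trans hc'.symm)
    intro a i
    exact congrFun (hk.1 (h' a)) i
  · rintro ⟨χ, hχ⟩
    obtain ⟨kinv, hk1, hk2⟩ := Function.bijective_iff_has_inverse.mp hk
    let φ : A → ι → D := fun a => kinv (χ a)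
    have hφ : ∀ a, kmap α β b (φ a) = χ a := fun a => hk2 (χ a)
    let c₀ : MvPolynomial (A × ι) R →+* D := MvPolynomial.eval₂Hom ρ (fun p => φ p.1 p.2)
    have hker : ∀ p ∈ J A b, c₀ p = 0 := by
      intro p hp
      have hle : J A b ≤ RingHom.ker c₀ := by
        refine Ideal.span_le.mpr ?_
        rintro p (⟨a, a', l⟩ | ⟨r, l⟩ | ⟨a, a', l⟩)
        · have : φ (a + a') = φ a + φ a' := by
            apply hk.1
            rw [kmap_add, hφ, hφ, hφ, map_add]
          simp [c₀, RingHom.mem_ker, this]
        · have : φ (algebraMap R A r) = fun l => ρ (r * b.repr 1 l) := by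
            apply hk.1
            rw [kmap_unit b ρ α β hαβ, hφ]
            exact RingHom.congr_fun hχ r
          simp [c₀, RingHom.mem_ker, this]
        · have : φ (a * a') = fun l => ∑ j, ∑ k, ρ (b.repr (b j * b k) l) * φ a j * φ a' k := by
            apply hk.1
            rw [← kmap_mul b ρ α β hαβ, hφ, hφ, hφ, map_mul]
          simp [c₀, RingHom.mem_ker, this]
      exact hle hp
    let c : WC A b →+* D := Ideal.Quotient.lift (J A b) c₀ hker
    have hcgen : ∀ a i, c (gen b a i) = φ a i := by
      intro a i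
      simp [c, gen, c₀]
    have hc : c.comp (algebraMap R (WC A b)) = ρ := by
      ext r
      rw [RingHom.comp_apply, ← mk_C]
      simp [c, c₀]
    refine ⟨⟨c, hc⟩, Subtype.ext ?_⟩
    ext a
    change kmap α β b (fun i => c (gen b a i)) = χ a
    rw [← hφ a]
    congr 1
    funext i
    exact hcgen a i

theorem chi_congr {c c' : WC A b →+* D} (h : c = c')
    (hc : c.comp (algebraMap R (WC A b)) = ρ) (hc' : c'.comp (algebraMap R (WC A b)) = ρ) :
    chi b ρ α β hαβ c hc = chi b ρ α β hαβ c' hc' := by
  subst h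
  rfl

/-- Naturality of `chi`. -/
theorem chi_nat {D' E' : Type u} [CommRing D'] [CommRing E'] (ρ' : R →+* D') (α' : D' →+* E')
    (β' : B →+* E') (hαβ' : α'.comp ρ' = β'.comp (algebraMap R B))
    (e : E →+* E') (d : D →+* D') (hα : e.comp α = α'.comp d) (hβ : e.comp β = β')
    (c : WC A b →+* D) (hc : c.comp (algebraMap R (WC A b)) = ρ)
    (hc' : (d.comp c).comp (algebraMap R (WC A b)) = ρ') :
    chi b ρ' α' β' hαβ' (d.comp c) hc' = e.comp (chi b ρ α β hαβ c hc) := by
  ext a
  rw [RingHom.comp_apply, chi_apply, chi_apply, kmap_nat α β b e d hα hβ]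
  rfl

end Chi

end Alg

end Groth.Agent.Lib.Helper16.WRes
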