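import Mathlib
import Groth.Agent.Lib.Helper16.WResAlg

/-!
# `Γ(T ×_S Z) ≅ Γ(T)^ι` for `Z → S` affine with `Γ(Z)` finite free over `Γ(S)` (coordinates form)
-/

namespace Groth.Agent.Lib.Helper16.WRes

open CategoryTheory CategoryTheory.Limits AlgebraicGeometry TopologicalSpace Opposite

universe u

section Glue

theorem map_map_apply (X : Scheme.{u}) {U V W : X.Opens} (i : U ⟶ V) (j : V ⟶ W) (k : U ⟶ W)
    (x : Γ(X, W)) :
    (X.presheaf.map i.op).hom ((X.presheaf.map j.op).hom x) = (X.presheaf.map k.op).hom x := by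
  rw [← RingHom.comp_apply, ← CommRingCat.hom_comp, ← Functor.map_comp]
  rfl

theorem presheaf_comp_eq (X : Scheme.{u}) {A B C D : (TopologicalSpace.Opens X)ᵒᵖ}
    (m1 : A ⟶ B) (m2 : B ⟶ D) (m3 : A ⟶ C) (m4 : C ⟶ D) :
    X.presheaf.map m1 ≫ X.presheaf.map m2 = X.presheaf.map m3 ≫ X.presheaf.map m4 := by
  rw [← Functor.map_comp, ← Functor.map_comp]
  congr 1

theorem presheaf_eq_comp (X : Scheme.{u}) {A B C : (TopologicalSpace.Opens X)ᵒᵖ}
    (m : A ⟶ C) (m1 : A ⟶ B) (m2 : B ⟶ C) :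
    X.presheaf.map m = X.presheaf.map m1 ≫ X.presheaf.map m2 := by
  rw [← Functor.map_comp]
  congr 1

/-- Gluing sections given on all affine opens, compatible with restriction. -/
theorem glue_aff (X : Scheme.{u}) (s : ∀ U : X.affineOpens, Γ((U.1 : X.Opens).toScheme, ⊤))
    (hs : ∀ (U V : X.affineOpens) (h : V.1 ≤ U.1), (X.homOfLE h).appTop.hom (s U) = s V) :
    ∃ t : Γ(X, ⊤), ∀ U : X.affineOpens, U.1.ι.appTop.hom t = s U := by
  classical
  let sf : ∀ U : X.affineOpens, Γ(X, U.1) := fun U => U.1.topIso.hom.hom (s U)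
  have hsf : ∀ (U V : X.affineOpens) (h : V.1 ≤ U.1),
      (X.presheaf.map (homOfLE h).op).hom (sf U) = sf V := by
    intro U V h
    have key : U.1.topIso.hom ≫ X.presheaf.map (homOfLE h).op =
        (X.homOfLE h).appTop ≫ V.1.topIso.hom := by
      rw [Scheme.homOfLE_appTop, Scheme.Opens.topIso_hom, Scheme.Opens.topIso_hom]
      exact presheaf_comp_eq X _ _ _ _
    simp only [sf]
    rw [← hs U V h]
    exact congrArg (fun m => m.hom (s U)) key
  have hcompat : TopCat.Presheaf.IsCompatible X.presheaf (fun U : X.affineOpens => U.1) sf := by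
    intro U V
    refine X.sheaf.eq_of_locally_eq'
      (fun W : {W : X.affineOpens // W.1 ≤ U.1 ⊓ V.1} => W.1.1) (U.1 ⊓ V.1)
      (fun W => homOfLE W.2) ?_ _ _ ?_
    · intro x hx
      obtain ⟨W, hW, hxW, hWle⟩ := (Opens.isBasis_iff_nbhd.mp X.isBasis_affineOpens) hx
      exact Opens.mem_iSup.mpr ⟨⟨⟨W, hW⟩, hWle⟩, hxW⟩
    · intro W
      have h1 := hsf U W.1 (W.2.trans inf_le_left)
      have h2 := hsf V W.1 (W.2.trans inf_le_right)
      exact (map_map_apply X (homOfLE W.2) (Opens.infLELeft _ _)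
        (homOfLE (W.2.trans inf_le_left)) (sf U)).trans (h1.trans (h2.symm.trans
          (map_map_apply X (homOfLE W.2) (Opens.infLERight _ _)
            (homOfLE (W.2.trans inf_le_right)) (sf V)).symm))
  obtain ⟨t, ht, -⟩ := X.sheaf.existsUnique_gluing' (fun U : X.affineOpens => U.1) ⊤
    (fun U => homOfLE le_top) (iSup_affineOpens_eq_top X).ge sf hcompat
  refine ⟨t, fun U => ?_⟩
  have h := ht U
  have h2 : U.1.topIso.inv.hom (sf U) = s U := by
    simp only [sf]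
    rw [← RingHom.comp_apply, ← CommRingCat.hom_comp, Iso.hom_inv_id]
    rfl
  rw [← h2, ← h]
  have key2 : U.1.ι.appTop = X.presheaf.map (homOfLE le_top).op ≫ U.1.topIso.inv := by
    rw [Scheme.Opens.ι_appTop, Scheme.Opens.topIso_inv]
    exact presheaf_eq_comp X _ _ _
  exact congrArg (fun m => m.hom t) key2

end Glue

section Geom

variable {S Z : Scheme.{u}} (g : Z ⟶ S) {ι : Type u} [Fintype ι]

/-- coordinate map for `t : T ⟶ S`. -/
noncomputable def kT (bb : ι → Γ(Z, ⊤)) {T : Scheme.{u}} (t : T ⟶ S) (x : ι → Γ(T, ⊤)) :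
    Γ(pullback t g, ⊤) :=
  kmap (pullback.fst t g).appTop.hom (pullback.snd t g).appTop.hom bb x

theorem kT_nat (bb : ι → Γ(Z, ⊤)) {T T' : Scheme.{u}} (t : T ⟶ S) (t' : T' ⟶ S) (φ : T' ⟶ T)
    (q : pullback t' g ⟶ pullback t g) (h1 : q ≫ pullback.fst t g = pullback.fst t' g ≫ φ)
    (h2 : q ≫ pullback.snd t g = pullback.snd t' g) (x : ι → Γ(T, ⊤)) :
    q.appTop.hom (kT g bb t x) = kT g bb t' (fun i => φ.appTop.hom (x i)) := by
  unfold kT
  refine kmap_nat _ _ bb q.appTop.hom φ.appTop.hom ?_ ?_ x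
  · rw [← CommRingCat.hom_comp, ← CommRingCat.hom_comp, ← Scheme.Hom.comp_appTop,
      ← Scheme.Hom.comp_appTop, h1]
  · rw [← CommRingCat.hom_comp, ← Scheme.Hom.comp_appTop, h2]

theorem kT_bijective_of_isAffine [IsAffine S] [IsAffine Z]
    (b : @Module.Basis ι Γ(S, ⊤) Γ(Z, ⊤) _ _ g.appTop.hom.toAlgebra.toModule)
    {T : Scheme.{u}} [IsAffine T] (t : T ⟶ S) : Function.Bijective (kT g (⇑b) t) := by
  have hpo := isPushout_appTop_of_isPullback (IsPullback.of_hasPullback t g)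
  algebraize [g.appTop.hom, t.appTop.hom, (pullback.fst t g).appTop.hom,
    (pullback.snd t g).appTop.hom, ((pullback.fst t g).appTop.hom.comp t.appTop.hom)]
  have i1 : IsScalarTower Γ(S, ⊤) Γ(T, ⊤) Γ(pullback t g, ⊤) := .of_algebraMap_eq' rfl
  have i2 : IsScalarTower Γ(S, ⊤) Γ(Z, ⊤) Γ(pullback t g, ⊤) :=
    .of_algebraMap_eq' (congr($(hpo.w).hom))
  have hP : Algebra.IsPushout Γ(S, ⊤) Γ(T, ⊤) Γ(Z, ⊤) Γ(pullback t g, ⊤) :=
    CommRingCat.isPushout_iff_isPushout.mp hpo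
  let bE := hP.out.basis b
  have hbE : ∀ i, bE i = (pullback.snd t g).appTop.hom (b i) := fun i => hP.out.basis_apply b i
  have : kT g (⇑b) t = bE.equivFun.symm := by
    funext x
    rw [Module.Basis.equivFun_symm_apply]
    unfold kT kmap
    refine Finset.sum_congr rfl fun i _ => ?_
    rw [hbE, Algebra.smul_def]
    rfl
  rw [this]
  exact bE.equivFun.symm.bijective

theorem kT_bijective [IsAffine S] [IsAffine Z]
    (b : @Module.Basis ι Γ(S, ⊤) Γ(Z, ⊤) _ _ g.appTop.hom.toAlgebra.toModule)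
    {T : Scheme.{u}} (t : T ⟶ S) : Function.Bijective (kT g (⇑b) t) := by
  classical
  have haff : ∀ U : T.affineOpens, Function.Bijective (kT g (⇑b) (U.1.ι ≫ t)) := fun U =>
    haveI : IsAffine U.1.toScheme := U.2
    kT_bijective_of_isAffine g b (U.1.ι ≫ t)
  let 𝒰 : T.OpenCover :=
    T.openCoverOfIsOpenCover (fun U : T.affineOpens => U.1) (iSup_affineOpens_eq_top T)
  let 𝒱 := Scheme.Pullback.openCoverOfLeft 𝒰 t g
  let qU : ∀ U : T.affineOpens, pullback (U.1.ι ≫ t) g ⟶ pullback t g := fun U =>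
    pullback.map (U.1.ι ≫ t) g t g U.1.ι (𝟙 Z) (𝟙 S) (by simp) (by simp)
  have hqU1 : ∀ U : T.affineOpens,
      qU U ≫ pullback.fst t g = pullback.fst (U.1.ι ≫ t) g ≫ U.1.ι := fun U =>
    pullback.lift_fst _ _ _
  have hqU2 : ∀ U : T.affineOpens,
      qU U ≫ pullback.snd t g = pullback.snd (U.1.ι ≫ t) g := fun U =>
    (pullback.lift_snd _ _ _).trans (Category.comp_id _)
  have hnat : ∀ (U : T.affineOpens) (x : ι → Γ(T, ⊤)),
      (qU U).appTop.hom (kT g (⇑b) t x) =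
        kT g (⇑b) (U.1.ι ≫ t) (fun i => U.1.ι.appTop.hom (x i)) := fun U x =>
    kT_nat g b t (U.1.ι ≫ t) U.1.ι (qU U) (hqU1 U) (hqU2 U) x
  have hnat2 : ∀ (U V : T.affineOpens) (h : V.1 ≤ U.1) (x : ι → Γ(U.1.toScheme, ⊤)),
      ∃ q : pullback (V.1.ι ≫ t) g ⟶ pullback (U.1.ι ≫ t) g, q ≫ qU U = qU V ∧
        q.appTop.hom (kT g (⇑b) (U.1.ι ≫ t) x) =
          kT g (⇑b) (V.1.ι ≫ t) (fun i => (T.homOfLE h).appTop.hom (x i)) := by
    intro U V h x
    let q : pullback (V.1.ι ≫ t) g ⟶ pullback (U.1.ι ≫ t) g :=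
      pullback.map (V.1.ι ≫ t) g (U.1.ι ≫ t) g (T.homOfLE h) (𝟙 Z) (𝟙 S) (by simp) (by simp)
    have hq1 : q ≫ pullback.fst (U.1.ι ≫ t) g = pullback.fst (V.1.ι ≫ t) g ≫ T.homOfLE h :=
      pullback.lift_fst _ _ _
    have hq2 : q ≫ pullback.snd (U.1.ι ≫ t) g = pullback.snd (V.1.ι ≫ t) g :=
      (pullback.lift_snd _ _ _).trans (Category.comp_id _)
    refine ⟨q, ?_, ?_⟩
    · apply pullback.hom_ext
      · rw [Category.assoc, hqU1, ← Category.assoc, hq1, Category.assoc, Scheme.homOfLE_ι, hqU1]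
      · rw [Category.assoc, hqU2, hq2, hqU2]
    · exact kT_nat g b _ _ (T.homOfLE h) q hq1 hq2 x
  refine ⟨fun x x' hxx' => ?_, fun y => ?_⟩
  · funext i
    refine 𝒰.ext_elem _ _ fun (U : T.affineOpens) => ?_
    have h1 : (qU U).appTop.hom (kT g (⇑b) t x) = (qU U).appTop.hom (kT g (⇑b) t x') := by
      rw [hxx']
    rw [hnat, hnat] at h1
    exact congrFun ((haff U).1 h1) i
  · choose xU hxU using fun U : T.affineOpens => (haff U).2 ((qU U).appTop.hom y)
    have hcompat : ∀ (U V : T.affineOpens) (h : V.1 ≤ U.1) (i : ι),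
        (T.homOfLE h).appTop.hom (xU U i) = xU V i := by
      intro U V h i
      obtain ⟨q, hq1, hq2⟩ := hnat2 U V h (xU U)
      have : (fun i => (T.homOfLE h).appTop.hom (xU U i)) = xU V := by
        apply (haff V).1
        rw [← hq2, hxU U, hxU V, ← hq1, Scheme.Hom.comp_appTop]
        rfl
      exact congrFun this i
    choose x hx using fun i => glue_aff T (fun U => xU U i) (fun U V h => hcompat U V h i)
    refine ⟨x, 𝒱.ext_elem _ _ fun (U : T.affineOpens) => ?_⟩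
    have h1 := hnat U x
    have h2 : (fun i => U.1.ι.appTop.hom (x i)) = xU U := funext fun i => hx i U
    rw [h2, hxU U] at h1
    exact h1

end Geom

end Groth.Agent.Lib.Helper16.WRes
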