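import Mathlib
import Groth.Prelude.Def_Flatn
import Groth.Agent.Lib.Helper16.WResGeom

/-!
# Representability of `Mor_S(Z, X)` for `S, Z, X` affine and `Γ(Z)` finite free over `Γ(S)`
-/

namespace Groth.Agent.Lib.Helper16.WRes

open CategoryTheory CategoryTheory.Limits AlgebraicGeometry Opposite

universe u

section AffLift

/-- lift a ring map to a morphism into an affine scheme -/
noncomputable def affLift (Q Y : Scheme.{u}) [IsAffine Y] (χ : Γ(Y, ⊤) ⟶ Γ(Q, ⊤)) : Q ⟶ Y :=
  Q.toSpecΓ ≫ Spec.map χ ≫ Y.isoSpec.inv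

theorem affLift_appTop (Q Y : Scheme.{u}) [IsAffine Y] (χ : Γ(Y, ⊤) ⟶ Γ(Q, ⊤)) :
    (affLift Q Y χ).appTop = χ := by
  have h1 : Y.isoSpec.inv.appTop ≫ (Scheme.ΓSpecIso Γ(Y, ⊤)).hom = 𝟙 _ := by
    rw [← Scheme.toSpecΓ_appTop, ← Scheme.Hom.comp_appTop, Scheme.toSpecΓ_isoSpec_inv]
    rfl
  unfold affLift
  rw [Scheme.Hom.comp_appTop, Scheme.Hom.comp_appTop, Scheme.toSpecΓ_appTop, Category.assoc,
    Scheme.ΓSpecIso_naturality, ← Category.assoc, h1, Category.id_comp]

end AffLift

section C1

variable {S : Scheme.{u}} [IsAffine S] {C' : Type u} [CommRing C'] (r : Γ(S, ⊤) →+* C')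

/-- the affine `S`-scheme attached to a ring map `Γ(S) → C'` -/
noncomputable def specOver : Over S :=
  Over.mk (affLift (Spec (CommRingCat.of C')) S
    (CommRingCat.ofHom r ≫ (Scheme.ΓSpecIso (CommRingCat.of C')).inv))

instance : IsAffine (specOver r).left := inferInstanceAs (IsAffine (Spec (CommRingCat.of C')))

theorem specOver_hom_appTop : (specOver r).hom.appTop =
    CommRingCat.ofHom r ≫ (Scheme.ΓSpecIso (CommRingCat.of C')).inv := affLift_appTop _ _ _

/-- ring maps `C' → Γ(T)` over `r`. -/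
abbrev CSub (T : Over S) := {c : C' →+* Γ(T.left, ⊤) // c.comp r = T.hom.appTop.hom}

/-- `T ⟶ specOver r` gives a ring map `C' → Γ(T)` over `r`. -/
noncomputable def E1fun (T : Over S) (m : T ⟶ specOver r) : CSub r T :=
  ⟨((Scheme.ΓSpecIso (CommRingCat.of C')).inv ≫ m.left.appTop).hom, by
    have h2 : T.hom.appTop = (specOver r).hom.appTop ≫ m.left.appTop := by
      rw [← Scheme.Hom.comp_appTop, Over.w m]
    rw [h2, specOver_hom_appTop]
    rfl⟩

theorem E1fun_bijective (T : Over S) : Function.Bijective (E1fun r T) := by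
  constructor
  · intro m m' h
    have h1 : ((Scheme.ΓSpecIso (CommRingCat.of C')).inv ≫ m.left.appTop) =
        ((Scheme.ΓSpecIso (CommRingCat.of C')).inv ≫ m'.left.appTop) :=
      CommRingCat.hom_ext (congrArg Subtype.val h)
    have h2 : m.left.appTop = m'.left.appTop := (cancel_epi _).mp h1
    exact Over.OverMorphism.ext (ext_of_isAffine h2)
  · rintro ⟨c, hc⟩
    have w : affLift T.left (Spec (CommRingCat.of C'))
        ((Scheme.ΓSpecIso (CommRingCat.of C')).hom ≫ CommRingCat.ofHom c) ≫ (specOver r).hom =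
          T.hom := by
      apply ext_of_isAffine
      rw [Scheme.Hom.comp_appTop, specOver_hom_appTop, affLift_appTop, Category.assoc,
        Iso.inv_hom_id_assoc]
      apply CommRingCat.hom_ext
      exact hc
    refine ⟨Over.homMk (affLift T.left (Spec (CommRingCat.of C'))
        ((Scheme.ΓSpecIso (CommRingCat.of C')).hom ≫ CommRingCat.ofHom c)) w, Subtype.ext ?_⟩
    change ((Scheme.ΓSpecIso (CommRingCat.of C')).inv ≫ (affLift T.left (Spec (CommRingCat.of C'))
        ((Scheme.ΓSpecIso (CommRingCat.of C')).hom ≫ CommRingCat.ofHom c)).appTop).hom = c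
    rw [affLift_appTop, Iso.inv_hom_id_assoc]
    rfl

theorem E1fun_nat {T T' : Over S} (φ : T' ⟶ T) (ψ : T ⟶ specOver r) :
    (E1fun r T' (φ ≫ ψ)).1 = φ.left.appTop.hom.comp (E1fun r T ψ).1 := by
  change ((Scheme.ΓSpecIso (CommRingCat.of C')).inv ≫ (φ ≫ ψ).left.appTop).hom = _
  rw [Over.comp_left, Scheme.Hom.comp_appTop]
  rfl

end C1

section C3

variable {S Z X : Scheme.{u}} [IsAffine S] [IsAffine X] (g : Z ⟶ S) (f : X ⟶ S)

/-- sections of `morS` as `Over`-morphisms -/
abbrev morSHom (T : Over S) := (Over.map g).obj ((Over.pullback g).obj T) ⟶ Over.mk f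

/-- ring maps `Γ(X) → Γ(T ×_S Z)` over `Γ(S)`. -/
abbrev XSub (T : Over S) := {χ : Γ(X, ⊤) →+* Γ(pullback T.hom g, ⊤) //
  χ.comp f.appTop.hom = (pullback.fst T.hom g).appTop.hom.comp T.hom.appTop.hom}

theorem morSHom_w (T : Over S) (m : morSHom g f T) :
    m.left ≫ f = pullback.fst T.hom g ≫ T.hom := by
  have h := Over.w m
  rw [pullback.condition]
  exact h

/-- a section of `morS` gives a ring map. -/
noncomputable def E3fun (T : Over S) (m : (Flatn.morS g f).obj (op T)) : XSub g f T :=
  ⟨(show morSHom g f T from m).left.appTop.hom, by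
    have h := congrArg (fun k => k.appTop.hom) (morSHom_w g f T m)
    exact h⟩

theorem E3fun_bijective (T : Over S) : Function.Bijective (E3fun g f T) := by
  constructor
  · intro m m' h
    have h1 : (show morSHom g f T from m).left.appTop = (show morSHom g f T from m').left.appTop :=
      CommRingCat.hom_ext (congrArg Subtype.val h)
    have h2 : (show morSHom g f T from m).left = (show morSHom g f T from m').left :=
      ext_of_isAffine (Y := X) h1
    exact Over.OverMorphism.ext h2
  · rintro ⟨χ, hχ⟩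
    have w : affLift (pullback T.hom g) X (CommRingCat.ofHom χ) ≫ f =
        pullback.snd T.hom g ≫ g := by
      rw [← pullback.condition]
      apply ext_of_isAffine
      rw [Scheme.Hom.comp_appTop, Scheme.Hom.comp_appTop, affLift_appTop]
      apply CommRingCat.hom_ext
      exact hχ
    refine ⟨(Over.homMk (affLift (pullback T.hom g) X (CommRingCat.ofHom χ)) w :
      morSHom g f T), Subtype.ext ?_⟩
    change (affLift (pullback T.hom g) X (CommRingCat.ofHom χ)).appTop.hom = χ
    rw [affLift_appTop]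
    rfl

theorem E3fun_nat {T T' : Over S} (φ : T' ⟶ T) (m : (Flatn.morS g f).obj (op T)) :
    (E3fun g f T' ((Flatn.morS g f).map φ.op m)).1 =
      ((Over.pullback g).map φ).left.appTop.hom.comp (E3fun g f T m).1 := by
  rw [Flatn.morS_map]
  change ((Over.map g).map ((Over.pullback g).map φ) ≫
    (show morSHom g f T from m)).left.appTop.hom = _
  rw [Over.comp_left, Scheme.Hom.comp_appTop]
  rfl

end C3

section Main

theorem weil_representable {S Z X : Scheme.{u}} [IsAffine Z] [IsAffine X] [IsAffine S]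
    (g : Z ⟶ S) (f : X ⟶ S)
    (hfree : letI := (g.appTop).hom.toAlgebra
      Module.Finite Γ(S, ⊤) Γ(Z, ⊤) ∧ Module.Free Γ(S, ⊤) Γ(Z, ⊤)) :
    ∃ W : Over S, IsAffine W.left ∧ Nonempty ((Flatn.morS g f).RepresentableBy W) := by
  letI algB : Algebra Γ(S, ⊤) Γ(Z, ⊤) := g.appTop.hom.toAlgebra
  letI algA : Algebra Γ(S, ⊤) Γ(X, ⊤) := f.appTop.hom.toAlgebra
  obtain ⟨hfin, hfr⟩ := hfree
  let b : Module.Basis (Module.Free.ChooseBasisIndex Γ(S, ⊤) Γ(Z, ⊤)) Γ(S, ⊤) Γ(Z, ⊤) :=
    Module.Free.chooseBasis _ _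
  let r : Γ(S, ⊤) →+* WC Γ(X, ⊤) b := algebraMap _ _
  refine ⟨specOver r, inferInstance, ⟨?_⟩⟩
  have hαβ : ∀ T : Over S, (pullback.fst T.hom g).appTop.hom.comp T.hom.appTop.hom =
      (pullback.snd T.hom g).appTop.hom.comp (algebraMap Γ(S, ⊤) Γ(Z, ⊤)) := by
    intro T
    change _ = (pullback.snd T.hom g).appTop.hom.comp g.appTop.hom
    rw [← CommRingCat.hom_comp, ← CommRingCat.hom_comp, ← Scheme.Hom.comp_appTop,
      ← Scheme.Hom.comp_appTop, pullback.condition]
  have hE2 : ∀ T : Over S, Function.Bijective (fun c : CSub r T =>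
      (⟨chi b T.hom.appTop.hom (pullback.fst T.hom g).appTop.hom (pullback.snd T.hom g).appTop.hom
          (hαβ T) c.1 c.2,
        chi_comp_algebraMap b T.hom.appTop.hom (pullback.fst T.hom g).appTop.hom
          (pullback.snd T.hom g).appTop.hom (hαβ T) c.1 c.2⟩ : XSub g f T)) := fun T =>
    chi_bijective b _ _ _ (hαβ T) (kT_bijective g b T.hom)
  let hE : ∀ T : Over S, (T ⟶ specOver r) ≃ (Flatn.morS g f).obj (op T) := fun T =>
    (Equiv.ofBijective _ (E1fun_bijective r T)).trans
      ((Equiv.ofBijective _ (hE2 T)).trans (Equiv.ofBijective _ (E3fun_bijective g f T)).symm)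
  have hchar : ∀ (T : Over S) (ψ : T ⟶ specOver r), (E3fun g f T (hE T ψ)).1 =
      chi b T.hom.appTop.hom (pullback.fst T.hom g).appTop.hom (pullback.snd T.hom g).appTop.hom
        (hαβ T) (E1fun r T ψ).1 (E1fun r T ψ).2 := by
    intro T ψ
    simp only [hE, Equiv.trans_apply, Equiv.ofBijective_apply, Equiv.ofBijective_apply_symm_apply]
  exact
    { homEquiv := fun {T} => hE T
      homEquiv_comp := by
        intro T' T φ ψ
        apply (E3fun_bijective g f T').1
        apply Subtype.ext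
        rw [E3fun_nat, hchar, hchar]
        have hc' : (φ.left.appTop.hom.comp (E1fun r T ψ).1).comp
            (algebraMap Γ(S, ⊤) (WC Γ(X, ⊤) b)) = T'.hom.appTop.hom := by
          rw [← E1fun_nat]
          exact (E1fun r T' (φ ≫ ψ)).2
        refine (chi_congr b _ _ _ (hαβ T') (E1fun_nat r φ ψ) _ hc').trans ?_
        refine chi_nat b T.hom.appTop.hom (pullback.fst T.hom g).appTop.hom
          (pullback.snd T.hom g).appTop.hom (hαβ T) T'.hom.appTop.hom
          (pullback.fst T'.hom g).appTop.hom (pullback.snd T'.hom g).appTop.hom (hαβ T')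
          ((Over.pullback g).map φ).left.appTop.hom φ.left.appTop.hom ?_ ?_ _ _ hc'
        · rw [← CommRingCat.hom_comp, ← CommRingCat.hom_comp, ← Scheme.Hom.comp_appTop,
            ← Scheme.Hom.comp_appTop]
          congr 2
          exact pullback.lift_fst _ _ _
        · rw [← CommRingCat.hom_comp, ← Scheme.Hom.comp_appTop]
          congr 2
          exact pullback.lift_snd _ _ _ }

end Main

end Groth.Agent.Lib.Helper16.WRes
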