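import Mathlib
import Groth.Prelude.Def_Flatn
import Groth.Agent.Lib.Helper16.LocRepMain
import Groth.Agent.Lib.Helper16.MorSSheaf
import Groth.Agent.Lib.Helper16.MorSFree
import Groth.Agent.Lib.Helper16.WResRep

/-!
# `Mor_S(Z, X)` for `Z` finite locally free and `X` affine over `S`: representability
-/

namespace Groth.Agent.Lib.Helper16.MorSLocal

open CategoryTheory CategoryTheory.Limits AlgebraicGeometry Opposite
open Groth.Agent.Lib.Helper16.LocRep Groth.Agent.Lib.Helper16.MorSSheaf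

universe u
variable {S Z X S' : Scheme.{u}} (g : Z ⟶ S) (f : X ⟶ S) (h : S' ⟶ S)

section Theta

variable {T : Scheme.{u}} (t₀ : T ⟶ S') (t : T ⟶ S) (ht : t₀ ≫ h = t)

include ht in
lemma θ_cond : pullback.fst t₀ (pullback.snd g h) ≫ t =
    (pullback.snd t₀ (pullback.snd g h) ≫ pullback.fst g h) ≫ g := by
  subst ht
  have c1 : pullback.fst t₀ (pullback.snd g h) ≫ t₀ =
      pullback.snd t₀ (pullback.snd g h) ≫ pullback.snd g h := pullback.condition
  have c2 : pullback.fst g h ≫ g = pullback.snd g h ≫ h := pullback.condition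
  rw [← Category.assoc, c1, Category.assoc, Category.assoc, c2]

/-- the comparison `T ×_{S'} (Z ×_S S') ⟶ T ×_S Z` -/
noncomputable def θ : pullback t₀ (pullback.snd g h) ⟶ pullback t g :=
  pullback.lift (pullback.fst t₀ (pullback.snd g h))
    (pullback.snd t₀ (pullback.snd g h) ≫ pullback.fst g h) (θ_cond g h t₀ t ht)

include ht in
lemma θi_cond1 : pullback.snd t g ≫ g = (pullback.fst t g ≫ t₀) ≫ h := by
  subst ht
  rw [Category.assoc]
  exact pullback.condition.symm

/-- the inverse comparison -/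
noncomputable def θi : pullback t g ⟶ pullback t₀ (pullback.snd g h) :=
  pullback.lift (pullback.fst t g)
    (pullback.lift (pullback.snd t g) (pullback.fst t g ≫ t₀) (θi_cond1 g h t₀ t ht))
    (pullback.lift_snd _ _ _).symm

@[reassoc]
lemma θ_fst : θ g h t₀ t ht ≫ pullback.fst t g = pullback.fst t₀ (pullback.snd g h) :=
  pullback.lift_fst _ _ _

@[reassoc]
lemma θ_snd : θ g h t₀ t ht ≫ pullback.snd t g =
    pullback.snd t₀ (pullback.snd g h) ≫ pullback.fst g h :=
  pullback.lift_snd _ _ _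

@[reassoc]
lemma θi_fst : θi g h t₀ t ht ≫ pullback.fst t₀ (pullback.snd g h) = pullback.fst t g :=
  pullback.lift_fst _ _ _

lemma θi_snd : θi g h t₀ t ht ≫ pullback.snd t₀ (pullback.snd g h) =
    pullback.lift (pullback.snd t g) (pullback.fst t g ≫ t₀) (θi_cond1 g h t₀ t ht) :=
  pullback.lift_snd _ _ _

@[reassoc]
lemma θi_snd_fst : θi g h t₀ t ht ≫ pullback.snd t₀ (pullback.snd g h) ≫ pullback.fst g h =
    pullback.snd t g := by
  rw [← Category.assoc, θi_snd, pullback.lift_fst]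

@[reassoc]
lemma θi_snd_snd : θi g h t₀ t ht ≫ pullback.snd t₀ (pullback.snd g h) ≫ pullback.snd g h =
    pullback.fst t g ≫ t₀ := by
  rw [← Category.assoc, θi_snd, pullback.lift_snd]

lemma θ_θi : θ g h t₀ t ht ≫ θi g h t₀ t ht = 𝟙 _ := by
  apply pullback.hom_ext
  · simp only [Category.assoc, Category.id_comp]
    rw [θi_fst, θ_fst]
  · apply pullback.hom_ext
    · simp only [Category.assoc, Category.id_comp]
      rw [θi_snd_fst, θ_snd]
    · simp only [Category.assoc, Category.id_comp]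
      rw [θi_snd_snd, θ_fst_assoc]
      exact pullback.condition

lemma θi_θ : θi g h t₀ t ht ≫ θ g h t₀ t ht = 𝟙 _ := by
  apply pullback.hom_ext
  · simp only [Category.assoc, Category.id_comp]
    rw [θ_fst, θi_fst]
  · simp only [Category.assoc, Category.id_comp]
    rw [θ_snd, θi_snd_fst]

lemma θ_nat {T' : Scheme.{u}} (a : T' ⟶ T) (t₀' : T' ⟶ S') (t' : T' ⟶ S) (ht' : t₀' ≫ h = t')
    (ha₀ : a ≫ t₀ = t₀') (ha : a ≫ t = t') :
    θ g h t₀' t' ht' ≫ pm g a t t' ha =
      pm (pullback.snd g h) a t₀ t₀' ha₀ ≫ θ g h t₀ t ht := by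
  apply pullback.hom_ext
  · simp only [Category.assoc]
    rw [pm_fst, θ_fst_assoc, θ_fst, pm_fst]
  · simp only [Category.assoc]
    rw [pm_snd, θ_snd, θ_snd, pm_snd_assoc]

lemma dn_cond (β : (Flatn.morS g f).obj (op (Over.mk t))) :
    (θ g h t₀ t ht ≫ lft β) ≫ f =
      (pullback.snd t₀ (pullback.snd g h) ≫ pullback.snd g h) ≫ h := by
  have c2 : pullback.fst g h ≫ g = pullback.snd g h ≫ h := pullback.condition
  rw [Category.assoc, lft_w, θ_snd_assoc, Category.assoc, c2]

lemma up_cond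
    (β' : (Flatn.morS (pullback.snd g h) (pullback.snd f h)).obj (op (Over.mk t₀))) :
    (θi g h t₀ t ht ≫ lft β' ≫ pullback.fst f h) ≫ f = pullback.snd t g ≫ g := by
  have c1 : pullback.fst f h ≫ f = pullback.snd f h ≫ h := pullback.condition
  have c2 : pullback.fst g h ≫ g = pullback.snd g h ≫ h := pullback.condition
  have c3 : lft β' ≫ pullback.snd f h =
      pullback.snd t₀ (pullback.snd g h) ≫ pullback.snd g h := lft_w β'
  simp only [Category.assoc]
  rw [c1, ← Category.assoc (lft β'), c3, Category.assoc, ← c2, θi_snd_fst_assoc]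

/-- sections over `t` restrict to sections of the base-changed functor over `t₀` -/
noncomputable def dnFun (β : (Flatn.morS g f).obj (op (Over.mk t))) :
    (Flatn.morS (pullback.snd g h) (pullback.snd f h)).obj (op (Over.mk t₀)) :=
  mkSec (pullback.lift (θ g h t₀ t ht ≫ lft β)
    (pullback.snd t₀ (pullback.snd g h) ≫ pullback.snd g h) (dn_cond g f h t₀ t ht β))
    (pullback.lift_snd _ _ _)

/-- the inverse of `dnFun` -/
noncomputable def upFun
    (β' : (Flatn.morS (pullback.snd g h) (pullback.snd f h)).obj (op (Over.mk t₀))) :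
    (Flatn.morS g f).obj (op (Over.mk t)) :=
  mkSec (θi g h t₀ t ht ≫ lft β' ≫ pullback.fst f h) (up_cond g f h t₀ t ht β')

lemma lft_dnFun (β : (Flatn.morS g f).obj (op (Over.mk t))) :
    lft (dnFun g f h t₀ t ht β) = pullback.lift (θ g h t₀ t ht ≫ lft β)
      (pullback.snd t₀ (pullback.snd g h) ≫ pullback.snd g h) (dn_cond g f h t₀ t ht β) := rfl

lemma lft_upFun
    (β' : (Flatn.morS (pullback.snd g h) (pullback.snd f h)).obj (op (Over.mk t₀))) :
    lft (upFun g f h t₀ t ht β') = θi g h t₀ t ht ≫ lft β' ≫ pullback.fst f h := rfl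

/-- the equivalence between sections over `t` and sections of the base change over `t₀` -/
noncomputable def dn : (Flatn.morS g f).obj (op (Over.mk t)) ≃
    (Flatn.morS (pullback.snd g h) (pullback.snd f h)).obj (op (Over.mk t₀)) where
  toFun := dnFun g f h t₀ t ht
  invFun := upFun g f h t₀ t ht
  left_inv β := by
    apply sec_ext
    rw [lft_upFun, lft_dnFun, pullback.lift_fst, ← Category.assoc, θi_θ, Category.id_comp]
  right_inv β' := by
    apply sec_ext
    rw [lft_dnFun]
    apply pullback.hom_ext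
    · rw [pullback.lift_fst, lft_upFun, ← Category.assoc, θ_θi, Category.id_comp]
    · rw [pullback.lift_snd]
      exact (lft_w β').symm

lemma lft_dn (β : (Flatn.morS g f).obj (op (Over.mk t))) :
    lft (dn g f h t₀ t ht β) = pullback.lift (θ g h t₀ t ht ≫ lft β)
      (pullback.snd t₀ (pullback.snd g h) ≫ pullback.snd g h) (dn_cond g f h t₀ t ht β) := rfl

@[reassoc]
lemma lft_dn_fst (β : (Flatn.morS g f).obj (op (Over.mk t))) :
    lft (dn g f h t₀ t ht β) ≫ pullback.fst f h = θ g h t₀ t ht ≫ lft β := by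
  rw [lft_dn, pullback.lift_fst]

@[reassoc]
lemma lft_dn_snd (β : (Flatn.morS g f).obj (op (Over.mk t))) :
    lft (dn g f h t₀ t ht β) ≫ pullback.snd f h =
      pullback.snd t₀ (pullback.snd g h) ≫ pullback.snd g h := by
  rw [lft_dn, pullback.lift_snd]

lemma dn_nat {T' : Scheme.{u}} (a : T' ⟶ T) (t₀' : T' ⟶ S') (t' : T' ⟶ S) (ht' : t₀' ≫ h = t')
    (ha₀ : a ≫ t₀ = t₀') (ha : a ≫ t = t') (β : (Flatn.morS g f).obj (op (Over.mk t))) :
    dn g f h t₀' t' ht' (res (Flatn.morS g f) a t t' ha β) =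
      res (Flatn.morS (pullback.snd g h) (pullback.snd f h)) a t₀ t₀' ha₀
        (dn g f h t₀ t ht β) := by
  apply sec_ext
  refine Eq.trans ?_ (lft_res a t₀ t₀' ha₀ (dn g f h t₀ t ht β)).symm
  apply pullback.hom_ext
  · rw [lft_dn_fst, Category.assoc, lft_dn_fst, lft_res, ← Category.assoc,
      θ_nat g h t₀ t ht a t₀' t' ht' ha₀ ha, Category.assoc]
  · rw [lft_dn_snd, Category.assoc, lft_dn_snd, pm_snd_assoc]

variable (W' : Over S') [Mono h]

/-- morphisms over `S` into `W' ⟶ S' ⟶ S` are morphisms over `S'` into `W'` -/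
noncomputable def E0 : (Over.mk t ⟶ Over.mk (W'.hom ≫ h)) ≃ (Over.mk t₀ ⟶ W') where
  toFun c := Over.homMk c.left (by
    have hc : c.left ≫ W'.hom ≫ h = t := Over.w c
    show c.left ≫ W'.hom = t₀
    rw [← cancel_mono h, Category.assoc, hc]
    exact ht.symm)
  invFun d := Over.homMk d.left (by
    have hd : d.left ≫ W'.hom = t₀ := Over.w d
    show d.left ≫ W'.hom ≫ h = t
    rw [← Category.assoc, hd, ht])
  left_inv c := by
    apply Over.OverMorphism.ext
    rfl
  right_inv d := by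
    apply Over.OverMorphism.ext
    rfl

variable (rep : (Flatn.morS (pullback.snd g h) (pullback.snd f h)).RepresentableBy W')

/-- the local representability equivalence -/
noncomputable def eqv :
    (Over.mk t ⟶ Over.mk (W'.hom ≫ h)) ≃ (Flatn.morS g f).obj (op (Over.mk t)) :=
  (E0 h t₀ t ht W').trans (rep.homEquiv.trans (dn g f h t₀ t ht).symm)

lemma dn_eqv (c : Over.mk t ⟶ Over.mk (W'.hom ≫ h)) :
    dn g f h t₀ t ht (eqv g f h t₀ t ht W' rep c) = rep.homEquiv (E0 h t₀ t ht W' c) := by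
  simp only [eqv, Equiv.trans_apply, Equiv.apply_symm_apply]

lemma eqv_nat {T' : Scheme.{u}} (a : T' ⟶ T) (t₀' : T' ⟶ S') (t' : T' ⟶ S) (ht' : t₀' ≫ h = t')
    (ha : a ≫ t = t') (c : Over.mk t ⟶ Over.mk (W'.hom ≫ h)) :
    eqv g f h t₀' t' ht' W' rep ((Over.homMk a ha : Over.mk t' ⟶ Over.mk t) ≫ c) =
      res (Flatn.morS g f) a t t' ha (eqv g f h t₀ t ht W' rep c) := by
  have ha₀ : a ≫ t₀ = t₀' := by
    rw [← cancel_mono h, Category.assoc, ht, ha, ht']
  apply (dn g f h t₀' t' ht').injective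
  rw [dn_eqv, dn_nat g f h t₀ t ht a t₀' t' ht' ha₀ ha, dn_eqv]
  have hE : E0 h t₀' t' ht' W' ((Over.homMk a ha : Over.mk t' ⟶ Over.mk t) ≫ c) =
      (Over.homMk a ha₀ : Over.mk t₀' ⟶ Over.mk t₀) ≫ E0 h t₀ t ht W' c := by
    apply Over.OverMorphism.ext
    rfl
  rw [hE, rep.homEquiv_comp]
  rfl

end Theta

section Assemble

variable (ι : Type u) (S'' : ι → Scheme.{u}) (hh : ∀ i, S'' i ⟶ S)
  [∀ i, IsOpenImmersion (hh i)] (hcov : ∀ s : S, ∃ i, s ∈ Set.range (hh i))
  (W' : ∀ i, Over (S'' i))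
  (rep : ∀ i, (Flatn.morS (pullback.snd g (hh i)) (pullback.snd f (hh i))).RepresentableBy (W' i))

lemma range_sub {i : ι} {T : Scheme.{u}} {t : T ⟶ S} (ht : LandsIn t (hh i).opensRange) :
    Set.range t ⊆ Set.range (hh i) := by
  rintro _ ⟨x, rfl⟩
  exact ht x

/-- the local representability data of `Mor_S(Z, X)` -/
noncomputable def localRep : LocalRep (Flatn.morS g f) where
  ι := ι
  V i := (hh i).opensRange
  hV s := hcov s
  X i := (W' i).left
  p i := (W' i).hom ≫ hh i
  hp i := fun x => ⟨(W' i).hom x, by rw [Scheme.Hom.comp_apply]⟩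
  e i T t ht := eqv g f (hh i) (IsOpenImmersion.lift (hh i) t (range_sub ι S'' hh ht)) t
    (IsOpenImmersion.lift_fac _ _ _) (W' i) (rep i)
  nat i T T' t t' ht ht' a ha c := eqv_nat g f (hh i) _ t (IsOpenImmersion.lift_fac _ _ _) (W' i)
    (rep i) a _ t' (IsOpenImmersion.lift_fac _ _ _) ha c

end Assemble

theorem main (g : Z ⟶ S) (f : X ⟶ S) [IsFinite g] [Flat g] [LocallyOfFinitePresentation g]
    [IsAffineHom f] :
    ∃ W : Over S, IsAffineHom W.hom ∧ Nonempty ((Flatn.morS g f).RepresentableBy W) := by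
  choose S'' hh hopen haff hmem hfree using fun s => MorSFree.exists_free_nbhd g s
  haveI : ∀ s, IsOpenImmersion (hh s) := hopen
  haveI : ∀ s, IsAffine (S'' s) := haff
  have hW : ∀ s, ∃ W' : Over (S'' s), IsAffine W'.left ∧
      Nonempty ((Flatn.morS (pullback.snd g (hh s)) (pullback.snd f (hh s))).RepresentableBy W') :=
    fun s => WRes.weil_representable (pullback.snd g (hh s)) (pullback.snd f (hh s)) (hfree s)
  choose W' hW'aff hW'rep using hW
  let L : LocalRep (Flatn.morS g f) :=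
    localRep g f S S'' hh (fun s => ⟨s, hmem s⟩) W' (fun s => (hW'rep s).some)
  obtain ⟨W, ⟨r⟩, hiso⟩ := representable_of_localRep (morS_isZarSheaf.{u + 1} g f) L
  refine ⟨W, ?_, ⟨r⟩⟩
  apply isAffineHom_of_forall_exists_isAffineOpen
  intro s
  refine ⟨(hh s).opensRange, hmem s, isAffineOpen_opensRange (hh s), ?_⟩
  obtain ⟨e⟩ := hiso s
  haveI : IsAffine (L.X s) := hW'aff s
  exact IsAffine.of_isIso e.hom

end Groth.Agent.Lib.Helper16.MorSLocal
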