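import Mathlib
import Groth.Prelude.Def_Flatn
import Groth.Agent.Lib.Helper16.LocRepOpen
import Groth.Agent.Lib.Helper16.MorSSheaf
import Groth.Agent.Lib.Helper16.MorSLocal

/-!
# `Mor_S(Z, X)` for `Z` finite locally free: the open subfunctors `Mor_S(Z, U)` and representability
-/

namespace Groth.Agent.Lib.Helper16.MorSOpen

open CategoryTheory CategoryTheory.Limits AlgebraicGeometry Opposite TopologicalSpace
open Groth.Agent.Lib.Helper16.LocRep Groth.Agent.Lib.Helper16.MorSSheaf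

universe u
variable {S Z X : Scheme.{u}} {g : Z ⟶ S} {f : X ⟶ S}

section Inc

variable (U : X.Opens)

/-- postcomposition with the open immersion `U ⟶ X` -/
noncomputable def inc {T : Scheme.{u}} {t : T ⟶ S}
    (ξ : (Flatn.morS g (U.ι ≫ f)).obj (op (Over.mk t))) :
    (Flatn.morS g f).obj (op (Over.mk t)) :=
  mkSec (lft ξ ≫ U.ι) (by rw [Category.assoc]; exact lft_w ξ)

lemma lft_inc {T : Scheme.{u}} {t : T ⟶ S}
    (ξ : (Flatn.morS g (U.ι ≫ f)).obj (op (Over.mk t))) : lft (inc U ξ) = lft ξ ≫ U.ι := rfl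

lemma inc_injective {T : Scheme.{u}} {t : T ⟶ S}
    {ξ ξ' : (Flatn.morS g (U.ι ≫ f)).obj (op (Over.mk t))} (h : inc U ξ = inc U ξ') :
    ξ = ξ' := by
  apply sec_ext
  have h2 := congrArg lft h
  rw [lft_inc, lft_inc] at h2
  exact (cancel_mono U.ι).1 h2

lemma inc_res {T T' : Scheme.{u}} (a : T' ⟶ T) (t : T ⟶ S) (t' : T' ⟶ S) (ha : a ≫ t = t')
    (ξ : (Flatn.morS g (U.ι ≫ f)).obj (op (Over.mk t))) :
    inc U (res (Flatn.morS g (U.ι ≫ f)) a t t' ha ξ) =
      res (Flatn.morS g f) a t t' ha (inc U ξ) := by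
  apply sec_ext
  rw [lft_inc, lft_res, lft_res, lft_inc, Category.assoc]

end Inc

section Points

lemma isPullback_pm {T T' : Scheme.{u}} (a : T' ⟶ T) (t : T ⟶ S) (t' : T' ⟶ S)
    (ha : a ≫ t = t') :
    IsPullback (pm g a t t' ha) (pullback.fst t' g) (pullback.fst t g) a := by
  subst ha
  refine IsPullback.of_right ?_ (pm_fst g a t _ rfl) (IsPullback.of_hasPullback t g).flip
  rw [pm_snd]
  exact (IsPullback.of_hasPullback (a ≫ t) g).flip

lemma exists_lift_point {T T' : Scheme.{u}} (a : T' ⟶ T) (t : T ⟶ S) (t' : T' ⟶ S)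
    (ha : a ≫ t = t') (z : ↥(pullback t g)) (x' : ↥T') (hz : pullback.fst t g z = a x') :
    ∃ z' : ↥(pullback t' g), pm g a t t' ha z' = z := by
  obtain ⟨w, hw1, -⟩ := Scheme.Pullback.exists_preimage_pullback
    (f := pullback.fst t g) (g := a) z x' hz
  refine ⟨(isPullback_pm a t t' ha).isoPullback.inv w, ?_⟩
  rw [← Scheme.Hom.comp_apply, IsPullback.isoPullback_inv_fst]
  exact hw1

end Points

section Locus

variable [IsFinite g]

lemma isClosed_bad (U : X.Opens) {T : Scheme.{u}} (t : T ⟶ S)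
    (ξ : (Flatn.morS g f).obj (op (Over.mk t))) :
    IsClosed (Set.image (pullback.fst t g) (Set.preimage (lft ξ) ((U : Set X)ᶜ))) :=
  (pullback.fst t g).isClosedMap _
    (IsClosed.preimage (lft ξ).continuous U.isOpen.isClosed_compl)

/-- the open locus of `T` over which the section `ξ` factors through `U` -/
noncomputable def locus (U : X.Opens) {T : Scheme.{u}} (t : T ⟶ S)
    (ξ : (Flatn.morS g f).obj (op (Over.mk t))) : T.Opens :=
  ⟨(Set.image (pullback.fst t g) (Set.preimage (lft ξ) ((U : Set X)ᶜ)))ᶜ,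
    (isClosed_bad U t ξ).isOpen_compl⟩

lemma mem_locus (U : X.Opens) {T : Scheme.{u}} (t : T ⟶ S)
    (ξ : (Flatn.morS g f).obj (op (Over.mk t))) (x : T) :
    x ∈ locus U t ξ ↔ ∀ z : ↥(pullback t g), pullback.fst t g z = x → lft ξ z ∈ U := by
  constructor
  · intro hx z hz
    by_contra hU
    have hx' : x ∉ Set.image (pullback.fst t g) (Set.preimage (lft ξ) ((U : Set X)ᶜ)) := hx
    exact hx' ⟨z, hU, hz⟩
  · intro h
    show x ∉ Set.image (pullback.fst t g) (Set.preimage (lft ξ) ((U : Set X)ᶜ))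
    rintro ⟨z, hzU, hz⟩
    exact hzU (h z hz)

end Locus

section PerU

variable [IsFinite g] (U : X.Opens) (W : Over S)
  (rep : (Flatn.morS g (U.ι ≫ f)).RepresentableBy W)

/-- the universal element of the open subfunctor, as a section of `Mor_S(Z, X)` -/
noncomputable def univ : (Flatn.morS g f).obj (op (Over.mk W.hom)) :=
  inc U (rep.homEquiv (𝟙 W) : (Flatn.morS g (U.ι ≫ f)).obj (op (Over.mk W.hom)))

lemma res_univ {T' : Scheme.{u}} (c : T' ⟶ W.left) (t' : T' ⟶ S) (hc : c ≫ W.hom = t') :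
    res (Flatn.morS g f) c W.hom t' hc (univ U W rep) =
      inc U (rep.homEquiv (Over.homMk c hc : Over.mk t' ⟶ W)) := by
  unfold univ
  rw [← inc_res]
  congr 1
  have h1 := rep.homEquiv_comp (Over.homMk c hc : Over.mk t' ⟶ W) (𝟙 W)
  rw [Category.comp_id] at h1
  exact h1.symm

lemma lands_in_U {T : Scheme.{u}} (t : T ⟶ S) (ξ : (Flatn.morS g f).obj (op (Over.mk t))) :
    Set.range (pm g (locus U t ξ).ι t ((locus U t ξ).ι ≫ t) rfl ≫ lft ξ) ⊆ Set.range U.ι := by
  rintro _ ⟨z', rfl⟩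
  rw [Scheme.Opens.range_ι]
  show (pm g (locus U t ξ).ι t _ rfl ≫ lft ξ) z' ∈ U
  rw [Scheme.Hom.comp_apply]
  have h1 : pullback.fst t g (pm g (locus U t ξ).ι t _ rfl z') =
      (locus U t ξ).ι (pullback.fst ((locus U t ξ).ι ≫ t) g z') := by
    rw [← Scheme.Hom.comp_apply, ← Scheme.Hom.comp_apply, pm_fst]
  refine (mem_locus U t ξ _).1 ?_ _ rfl
  rw [h1]
  exact (pullback.fst ((locus U t ξ).ι ≫ t) g z').2

lemma exists_cl {T : Scheme.{u}} (t : T ⟶ S) (ξ : (Flatn.morS g f).obj (op (Over.mk t))) :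
    ∃ (c : (locus U t ξ).toScheme ⟶ W.left) (hw : c ≫ W.hom = (locus U t ξ).ι ≫ t),
      res (Flatn.morS g f) c W.hom _ hw (univ U W rep) =
        res (Flatn.morS g f) (locus U t ξ).ι t _ rfl ξ := by
  obtain ⟨b, hb⟩ : ∃ b : pullback ((locus U t ξ).ι ≫ t) g ⟶ U.toScheme,
      b ≫ U.ι = pm g (locus U t ξ).ι t _ rfl ≫ lft ξ :=
    ⟨IsOpenImmersion.lift U.ι _ (lands_in_U U t ξ), IsOpenImmersion.lift_fac _ _ _⟩
  have hbw : b ≫ (U.ι ≫ f) = pullback.snd ((locus U t ξ).ι ≫ t) g ≫ g := by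
    rw [← Category.assoc, hb, ← lft_res, lft_w]
  let ξU : (Flatn.morS g (U.ι ≫ f)).obj (op (Over.mk ((locus U t ξ).ι ≫ t))) := mkSec b hbw
  have hinc : inc U ξU = res (Flatn.morS g f) (locus U t ξ).ι t _ rfl ξ := by
    apply sec_ext
    rw [lft_inc, lft_res]
    exact hb
  refine ⟨(rep.homEquiv.symm ξU).left, Over.w (rep.homEquiv.symm ξU), ?_⟩
  rw [res_univ, ← hinc]
  congr 1
  have h2 : (Over.homMk (rep.homEquiv.symm ξU).left (Over.w (rep.homEquiv.symm ξU)) :
      Over.mk ((locus U t ξ).ι ≫ t) ⟶ W) = rep.homEquiv.symm ξU := by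
    apply Over.OverMorphism.ext
    rfl
  rw [h2, Equiv.apply_symm_apply]

lemma fac_U {T : Scheme.{u}} (t : T ⟶ S) (ξ : (Flatn.morS g f).obj (op (Over.mk t)))
    {T' : Scheme.{u}} (a : T' ⟶ T) (c : T' ⟶ W.left) (t' : T' ⟶ S) (hc : c ≫ W.hom = t')
    (ha : a ≫ t = t')
    (heq : res (Flatn.morS g f) c W.hom t' hc (univ U W rep) =
      res (Flatn.morS g f) a t t' ha ξ) (x : T') : a x ∈ locus U t ξ := by
  rw [mem_locus]
  intro z hz
  obtain ⟨z', rfl⟩ := exists_lift_point a t t' ha z x hz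
  have h1 : lft (res (Flatn.morS g f) a t t' ha ξ) z' = lft ξ (pm g a t t' ha z') := by
    rw [lft_res, Scheme.Hom.comp_apply]
  rw [← h1, ← heq, res_univ, lft_inc, Scheme.Hom.comp_apply]
  exact (lft (rep.homEquiv (Over.homMk c hc : Over.mk t' ⟶ W)) z').2

lemma uniq_U {T' : Scheme.{u}} (c₁ c₂ : T' ⟶ W.left) (t' : T' ⟶ S) (h₁ : c₁ ≫ W.hom = t')
    (h₂ : c₂ ≫ W.hom = t')
    (heq : res (Flatn.morS g f) c₁ W.hom t' h₁ (univ U W rep) =
      res (Flatn.morS g f) c₂ W.hom t' h₂ (univ U W rep)) : c₁ = c₂ := by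
  rw [res_univ, res_univ] at heq
  have h3 := rep.homEquiv.injective (inc_injective U heq)
  exact congrArg CommaMorphism.left h3

end PerU

theorem representable_of_AFF (g : Z ⟶ S) (f : X ⟶ S) [IsFinite g] [Flat g]
    [LocallyOfFinitePresentation g]
    (hAFF : ∀ (s : S) (A : Set X), A.Finite → (∀ x ∈ A, f x = s) →
      ∃ U : X.Opens, IsAffineHom (U.ι ≫ f) ∧ A ⊆ (U : Set X)) :
    ∃ W : Over S, Nonempty ((Flatn.morS g f).RepresentableBy W) := by
  have hW : ∀ U : {U : X.Opens // IsAffineHom (U.ι ≫ f)},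
      ∃ W : Over S, Nonempty ((Flatn.morS g (U.1.ι ≫ f)).RepresentableBy W) := by
    rintro ⟨U, hU⟩
    haveI := hU
    obtain ⟨W, -, hr⟩ := MorSLocal.main g (U.ι ≫ f)
    exact ⟨W, hr⟩
  choose W hWrep using hW
  have hcl := fun (U : {U : X.Opens // IsAffineHom (U.ι ≫ f)}) (T : Scheme.{u}) (t : T ⟶ S)
    (ξ : (Flatn.morS g f).obj (op (Over.mk t))) => exists_cl U.1 (W U) (hWrep U).some t ξ
  choose c hcw hcη using hcl
  have hcover : ∀ (T : Scheme.{u}) (t : T ⟶ S) (ξ : (Flatn.morS g f).obj (op (Over.mk t)))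
      (x : T), ∃ U : {U : X.Opens // IsAffineHom (U.ι ≫ f)}, x ∈ locus U.1 t ξ := by
    intro T t ξ x
    have hfin : (Set.preimage (pullback.fst t g) {x}).Finite :=
      (pullback.fst t g).finite_preimage_singleton x
    obtain ⟨U, hU, hsub⟩ := hAFF (t x) (Set.image (lft ξ) (Set.preimage (pullback.fst t g) {x}))
      (hfin.image _) (by
        rintro _ ⟨z, hz, rfl⟩
        have hz' : pullback.fst t g z = x := hz
        rw [← Scheme.Hom.comp_apply, lft_w, ← pullback.condition, Scheme.Hom.comp_apply, hz'])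
    refine ⟨⟨U, hU⟩, ?_⟩
    rw [mem_locus]
    intro z hz
    exact hsub ⟨z, hz, rfl⟩
  let L : OpenRep (Flatn.morS g f) :=
    { ι := {U : X.Opens // IsAffineHom (U.ι ≫ f)}
      X := fun U => (W U).left
      p := fun U => (W U).hom
      η := fun U => univ U.1 (W U) (hWrep U).some
      O := fun U T t ξ => locus U.1 t ξ
      hO := hcover
      cl := c
      cl_w := hcw
      cl_η := hcη
      fac := fun U T t ξ T' a c' t' hc ha heq x =>
        fac_U U.1 (W U) (hWrep U).some t ξ a c' t' hc ha heq x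
      uniq := fun U T' c₁ c₂ t' h₁ h₂ heq =>
        uniq_U U.1 (W U) (hWrep U).some c₁ c₂ t' h₁ h₂ heq }
  exact representable_of_openRep (morS_isZarSheaf.{u + 1} g f) L

end Groth.Agent.Lib.Helper16.MorSOpen
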