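import Mathlib
import Groth.Prelude.Def_Flatn
import Groth.Agent.Lib.Helper16.MorSOpen
import Groth.Agent.Lib.Helper16.Norm.QAff

/-!
# `Mor_S(Z, X)` is representable when finite sets of points in a fibre of `X → S` lie in affine opens
-/

namespace Groth.Agent.Lib.Helper16.MorSAF

open CategoryTheory CategoryTheory.Limits AlgebraicGeometry Opposite TopologicalSpace
open Groth.Agent.Lib.Helper16.LocRep Groth.Agent.Lib.Helper16.MorSSheaf

universe u
variable {S Z X : Scheme.{u}}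

/-- the AF property, for finite sets of points -/
def AFset (f : X ⟶ S) : Prop :=
  ∀ (s : S) (A : Set X), A.Finite → (∀ x ∈ A, f x = s) →
    ∃ U : X.Opens, IsAffineOpen U ∧ A ⊆ (U : Set X)

lemma afset_of_AF (f : X ⟶ S)
    (hAF : ∀ (s : S) (d : ℕ) (x : Fin d → ↥X), (∀ k, f (x k) = s) →
      ∃ U : X.Opens, IsAffineOpen U ∧ ∀ k, x k ∈ U) : AFset f := by
  intro s A hA hs
  obtain ⟨n, e, -, hrange⟩ := hA.fin_param
  obtain ⟨U, hU, hk⟩ := hAF s n e (fun k => hs (e k) (hrange ▸ Set.mem_range_self k))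
  refine ⟨U, hU, ?_⟩
  intro x hx
  rw [← hrange] at hx
  obtain ⟨k, rfl⟩ := hx
  exact hk k

lemma aff_of_AFset (f : X ⟶ S) (hAF : AFset f) (V : S.Opens) (hV : IsAffineOpen V) :
    ∀ (s : V.toScheme) (A : Set ↥(pullback f V.ι)), A.Finite →
      (∀ x ∈ A, pullback.snd f V.ι x = s) →
      ∃ U : (pullback f V.ι).Opens, IsAffineHom (U.ι ≫ pullback.snd f V.ι) ∧
        A ⊆ (U : Set ↥(pullback f V.ι)) := by
  intro s A hA hs
  have hq : ∀ x ∈ A, f (pullback.fst f V.ι x) = V.ι s := by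
    intro x hx
    rw [← Scheme.Hom.comp_apply, pullback.condition, Scheme.Hom.comp_apply, hs x hx]
  obtain ⟨U₀, hU₀, hsub₀⟩ := hAF (V.ι s) (Set.image (pullback.fst f V.ι) A) (hA.image _)
    (by rintro _ ⟨x, hx, rfl⟩; exact hq x hx)
  haveI : IsAffine U₀.toScheme := hU₀
  have hA₀ : (Set.preimage U₀.ι (Set.image (pullback.fst f V.ι) A)).Finite :=
    (hA.image _).preimage (U₀.ι.isOpenEmbedding.injective.injOn)
  have hA₀W : Set.preimage U₀.ι (Set.image (pullback.fst f V.ι) A) ⊆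
      ((U₀.ι ⁻¹ᵁ (pullback.fst f V.ι).opensRange : U₀.toScheme.Opens) : Set ↥U₀.toScheme) := by
    rintro y ⟨x, -, hxy⟩
    exact ⟨x, hxy⟩
  obtain ⟨h₀, hh1, hh2⟩ := H16QAff.exists_basicOpen_between U₀.toScheme
    (U₀.ι ⁻¹ᵁ (pullback.fst f V.ι).opensRange) _ hA₀ hA₀W
  have hD : IsAffineOpen (U₀.ι ''ᵁ (U₀.toScheme.basicOpen h₀)) :=
    ((isAffineOpen_top U₀.toScheme).basicOpen h₀).image_of_isOpenImmersion U₀.ι
  have hDq : U₀.ι ''ᵁ (U₀.toScheme.basicOpen h₀) ≤ (pullback.fst f V.ι).opensRange := by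
    rintro _ ⟨y, hy, rfl⟩
    exact hh2 hy
  have hU' : IsAffineOpen ((pullback.fst f V.ι) ⁻¹ᵁ (U₀.ι ''ᵁ (U₀.toScheme.basicOpen h₀))) := by
    rw [← (pullback.fst f V.ι).isAffineOpen_iff_of_isOpenImmersion,
      (pullback.fst f V.ι).image_preimage_eq_opensRange_inf, inf_eq_right.2 hDq]
    exact hD
  refine ⟨(pullback.fst f V.ι) ⁻¹ᵁ (U₀.ι ''ᵁ (U₀.toScheme.basicOpen h₀)), ?_, ?_⟩
  · haveI : IsAffine ((pullback.fst f V.ι) ⁻¹ᵁ
        (U₀.ι ''ᵁ (U₀.toScheme.basicOpen h₀))).toScheme := hU'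
    haveI : IsAffine V.toScheme := hV
    infer_instance
  · intro x hx
    have hqx : pullback.fst f V.ι x ∈ U₀ := hsub₀ ⟨x, hx, rfl⟩
    show pullback.fst f V.ι x ∈ U₀.ι ''ᵁ (U₀.toScheme.basicOpen h₀)
    exact ⟨⟨pullback.fst f V.ι x, hqx⟩, hh1 ⟨x, hx, rfl⟩, rfl⟩

theorem representable_of_AFset (g : Z ⟶ S) (f : X ⟶ S) [IsFinite g] [Flat g]
    [LocallyOfFinitePresentation g] (hAF : AFset f) :
    ∃ W : Over S, Nonempty ((Flatn.morS g f).RepresentableBy W) := by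
  have hW : ∀ V : S.affineOpens, ∃ W' : Over V.1.toScheme,
      Nonempty ((Flatn.morS (pullback.snd g V.1.ι) (pullback.snd f V.1.ι)).RepresentableBy W') :=
    fun V => MorSOpen.representable_of_AFF (pullback.snd g V.1.ι) (pullback.snd f V.1.ι)
      (aff_of_AFset f hAF V.1 V.2)
  choose W' hW' using hW
  have hcov : ∀ s : S, ∃ V : S.affineOpens, s ∈ Set.range V.1.ι := by
    intro s
    obtain ⟨V, hV, hsV, -⟩ := exists_isAffineOpen_mem_and_subset (x := s) (U := ⊤) trivial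
    exact ⟨⟨V, hV⟩, by rw [Scheme.Opens.range_ι]; exact hsV⟩
  let L : LocalRep (Flatn.morS g f) :=
    MorSLocal.localRep g f S.affineOpens (fun V => V.1.toScheme) (fun V => V.1.ι) hcov W'
      (fun V => (hW' V).some)
  obtain ⟨W, hr, -⟩ := representable_of_localRep (morS_isZarSheaf.{u + 1} g f) L
  exact ⟨W, hr⟩

end Groth.Agent.Lib.Helper16.MorSAF
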