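import Mathlib
import Groth.Prelude.Def_Flatn
import Groth.Agent.Lib.Helper16.MorSAF

/-!
# Finite sets of points in a fibre of a separated locally quasi-finite morphism lie in an affine open
-/

namespace Groth.Agent.Lib.Helper16.MorSAF

open CategoryTheory CategoryTheory.Limits AlgebraicGeometry Opposite TopologicalSpace

universe u
variable {S X : Scheme.{u}}

lemma exists_affine_of_zmt {W V : Scheme.{u}} [IsAffine V] (φ : W ⟶ V) [IsSeparated φ]
    [LocallyQuasiFinite φ] [LocallyOfFiniteType φ] [QuasiCompact φ] (B : Set W) (hB : B.Finite) :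
    ∃ U : W.Opens, IsAffineOpen U ∧ B ⊆ (U : Set W) := by
  haveI : IsAffine φ.normalization := isAffine_of_isAffineHom φ.fromNormalization
  have hsubN : Set.image φ.toNormalization B ⊆
      ((φ.toNormalization.opensRange : φ.normalization.Opens) : Set ↥φ.normalization) := by
    rintro _ ⟨y, -, rfl⟩
    exact ⟨y, rfl⟩
  obtain ⟨h₀, hh1, hh2⟩ := H16QAff.exists_basicOpen_between φ.normalization
    φ.toNormalization.opensRange _ (hB.image _) hsubN
  refine ⟨φ.toNormalization ⁻¹ᵁ (φ.normalization.basicOpen h₀), ?_, ?_⟩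
  · rw [← φ.toNormalization.isAffineOpen_iff_of_isOpenImmersion,
      φ.toNormalization.image_preimage_eq_opensRange_inf, inf_eq_right.2 hh2]
    exact (isAffineOpen_top _).basicOpen h₀
  · intro y hy
    exact hh1 ⟨y, hy, rfl⟩

theorem afset_of_sep_lqf (f : X ⟶ S) [IsSeparated f] [LocallyQuasiFinite f]
    [LocallyOfFiniteType f] : AFset f := by
  intro s A hA hs
  obtain ⟨V, hV, hsV, -⟩ := exists_isAffineOpen_mem_and_subset (x := s) (U := ⊤) trivial
  have hx : ∀ x : A, ∃ U : X.Opens, IsAffineOpen U ∧ x.1 ∈ U ∧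
      U.1 ⊆ ((f ⁻¹ᵁ V : X.Opens) : Set X) := by
    intro x
    have h1 : x.1 ∈ f ⁻¹ᵁ V := by
      show f x.1 ∈ V
      rw [hs x.1 x.2]
      exact hsV
    exact exists_isAffineOpen_mem_and_subset h1
  choose U hU hxU hUV using hx
  haveI : Finite A := hA.to_subtype
  have hWV : (⨆ x : A, U x) ≤ f ⁻¹ᵁ V := iSup_le fun x => by
    intro a ha
    exact hUV x ha
  have hAW : ∀ x (_ : x ∈ A), x ∈ (⨆ x : A, U x) := fun x hx =>
    Opens.mem_iSup.2 ⟨⟨x, hx⟩, hxU ⟨x, hx⟩⟩
  have hc : CompactSpace (⨆ x : A, U x).toScheme :=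
    (isCompact_iff_compactSpace (s := ((⨆ x : A, U x : X.Opens) : Set X))).1 (by
      rw [Opens.coe_iSup]
      exact isCompact_iUnion fun x => (hU x).isCompact)
  haveI : IsAffine V.toScheme := hV
  haveI : QuasiCompact (f.resLE V (⨆ x : A, U x) hWV) :=
    (HasAffineProperty.iff_of_isAffine (P := @QuasiCompact)).2 hc
  obtain ⟨U', hU', hsub⟩ := exists_affine_of_zmt (f.resLE V (⨆ x : A, U x) hWV)
    (Set.preimage (⨆ x : A, U x).ι A)
    (hA.preimage ((⨆ x : A, U x).ι.isOpenEmbedding.injective.injOn))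
  refine ⟨(⨆ x : A, U x).ι ''ᵁ U', hU'.image_of_isOpenImmersion _, ?_⟩
  intro x hx
  exact ⟨⟨x, hAW x hx⟩, hsub hx, rfl⟩

end Groth.Agent.Lib.Helper16.MorSAF
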