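import Mathlib

/-!
# Generators along a flag of closed subsets (algebra part of S17867)
-/

set_option autoImplicit false
universe u
open TensorProduct

namespace Groth.Agent.Lib.Helper16.NisGenAlg

variable {R : Type u} [CommRing R] {M : Type u} [AddCommGroup M] [Module R M]

theorem top_le_smul_top_quot (L : Submodule R M) (I : Ideal R)
    (h : L ⊔ I • (⊤ : Submodule R M) = ⊤) :
    (⊤ : Submodule R (M ⧸ L)) ≤ I • (⊤ : Submodule R (M ⧸ L)) := by
  intro q _
  obtain ⟨m, rfl⟩ := L.mkQ_surjective q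
  have hm : m ∈ L ⊔ I • (⊤ : Submodule R M) := by rw [h]; exact Submodule.mem_top
  obtain ⟨l, hl, z, hz, rfl⟩ := Submodule.mem_sup.1 hm
  have h1 : L.mkQ (l + z) = L.mkQ z := by
    rw [map_add, (Submodule.mkQ_apply L l), (Submodule.Quotient.mk_eq_zero L).2 hl, zero_add]
  rw [h1]
  have h2 : L.mkQ z ∈ Submodule.map L.mkQ (I • (⊤ : Submodule R M)) := ⟨z, hz, rfl⟩
  rw [Submodule.map_smul''] at h2
  exact Submodule.smul_mono le_rfl le_top h2

/-- from generators of `A ⊗ M` (with `R → A` surjective) to elements of `M` generating modulo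
the kernel -/
theorem exists_gens_mod_ker {A : Type u} [CommRing A] [Algebra R A]
    (hsurj : Function.Surjective (algebraMap R A)) (N : ℕ)
    (e : Fin N → A ⊗[R] M) (he : Submodule.span A (Set.range e) = ⊤) :
    ∃ y : Fin N → M, Submodule.span R (Set.range y) ⊔
      (RingHom.ker (algebraMap R A)) • (⊤ : Submodule R M) = ⊤ := by
  have hsurj' : Function.Surjective (Algebra.ofId R A) := hsurj
  have hker : RingHom.ker (Algebra.ofId R A) = RingHom.ker (algebraMap R A) := rfl
  rw [← hker]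
  set I := RingHom.ker (Algebra.ofId R A) with hI
  let ε : (R ⧸ I) ≃ₐ[R] A := Ideal.quotientKerAlgEquivOfSurjective hsurj'
  let θ : A ⊗[R] M ≃ₗ[R] M ⧸ (I • (⊤ : Submodule R M)) :=
    (TensorProduct.congr ε.symm.toLinearEquiv (LinearEquiv.refl R M)) ≪≫ₗ
      quotTensorEquivQuotSMul M I
  have h1 : Submodule.span R (Set.range e) = ⊤ := by
    have h2 := Submodule.restrictScalars_span R A hsurj (Set.range e)
    rw [he] at h2
    rw [← h2]
    rfl
  choose y hy using fun i => (I • (⊤ : Submodule R M)).mkQ_surjective (θ (e i))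
  refine ⟨y, ?_⟩
  rw [sup_comm, ← Submodule.map_mkQ_eq_top, Submodule.map_span, ← Set.range_comp]
  have h3 : (⇑(I • (⊤ : Submodule R M)).mkQ ∘ y) = (⇑θ ∘ e) := funext hy
  rw [h3, Set.range_comp]
  rw [show (⇑θ '' Set.range e) = (⇑θ.toLinearMap '' Set.range e) from rfl, ← Submodule.map_span,
    h1, Submodule.map_top, LinearMap.range_eq_top]
  exact θ.surjective

theorem step [Module.Finite R M] {A : Type u} [CommRing A] [Algebra R A]
    (hsurj : Function.Surjective (algebraMap R A)) (N : ℕ)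
    (e : Fin N → A ⊗[R] M) (he : Submodule.span A (Set.range e) = ⊤)
    (I₀ : Ideal R)
    (h4 : ∀ p : PrimeSpectrum R, I₀ ≤ p.asIdeal →
      ∃ q : PrimeSpectrum A, q.comap (algebraMap R A) = p)
    (L : Submodule R M) (hL : I₀ • (⊤ : Submodule R M) ≤ L) :
    ∃ y : Fin N → M, L ⊔ Submodule.span R (Set.range y) = ⊤ := by
  obtain ⟨y, hy⟩ := exists_gens_mod_ker hsurj N e he
  refine ⟨y, ?_⟩
  set I := RingHom.ker (algebraMap R A) with hI
  set L'' := L ⊔ Submodule.span R (Set.range y) with hL''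
  have hrad : I ≤ I₀.radical := by
    rw [Ideal.radical_eq_sInf]
    refine le_sInf ?_
    rintro p ⟨hp, hpp⟩
    obtain ⟨q, hq⟩ := h4 ⟨p, hpp⟩ hp
    intro x hx
    have h1 : x ∈ (q.comap (algebraMap R A)).asIdeal := by
      rw [PrimeSpectrum.comap_asIdeal, Ideal.mem_comap, (RingHom.mem_ker).1 hx]
      exact q.asIdeal.zero_mem
    rw [hq] at h1
    exact h1
  have h1 : L'' ⊔ I • (⊤ : Submodule R M) = ⊤ := by
    apply top_le_iff.1
    calc (⊤ : Submodule R M) = Submodule.span R (Set.range y) ⊔ I • (⊤ : Submodule R M) := hy.symm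
      _ ≤ L'' ⊔ I • (⊤ : Submodule R M) := sup_le_sup_right le_sup_right _
  have hQ := top_le_smul_top_quot L'' I h1
  obtain ⟨r, hr1, hr2⟩ := Submodule.exists_sub_one_mem_and_smul_eq_zero_of_fg_of_le_smul I
    (⊤ : Submodule R (M ⧸ L'')) Module.Finite.fg_top hQ
  obtain ⟨k, hk⟩ := hrad hr1
  have hk2 : ∀ q : M ⧸ L'', (r - 1) ^ k • q = 0 := by
    intro q
    obtain ⟨m, rfl⟩ := L''.mkQ_surjective q
    rw [← map_smul, Submodule.mkQ_apply, Submodule.Quotient.mk_eq_zero]
    exact (le_sup_left : L ≤ L'') (hL (Submodule.smul_mem_smul hk Submodule.mem_top))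
  have hcop : IsCoprime r ((r - 1) ^ k) :=
    IsCoprime.pow_right ⟨1, -1, by ring⟩
  obtain ⟨u, v, huv⟩ := hcop
  have hz : ∀ q : M ⧸ L'', q = 0 := fun q => by
    calc q = (u * r + v * (r - 1) ^ k) • q := by rw [huv, one_smul]
      _ = 0 := by
        rw [add_smul, mul_smul, mul_smul, hr2 q Submodule.mem_top, hk2 q, smul_zero, smul_zero,
          add_zero]
  rw [eq_top_iff]
  intro m _
  have := hz (L''.mkQ m)
  rw [Submodule.mkQ_apply, Submodule.Quotient.mk_eq_zero] at this
  exact this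

theorem exists_nakayama_elt [Module.Finite R M] (L : Submodule R M) (I : Ideal R)
    (h : L ⊔ I • (⊤ : Submodule R M) = ⊤) :
    ∃ r : R, r - 1 ∈ I ∧ ∀ m : M, r • m ∈ L := by
  have hQ := top_le_smul_top_quot L I h
  obtain ⟨r, hr1, hr2⟩ := Submodule.exists_sub_one_mem_and_smul_eq_zero_of_fg_of_le_smul I
    (⊤ : Submodule R (M ⧸ L)) Module.Finite.fg_top hQ
  refine ⟨r, hr1, fun m => ?_⟩
  have := hr2 (L.mkQ m) Submodule.mem_top
  rw [← map_smul, Submodule.mkQ_apply, Submodule.Quotient.mk_eq_zero] at this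
  exact this

theorem range_append {α : Type*} {a b : ℕ} (s : Fin a → α) (t : Fin b → α) :
    Set.range (Fin.append s t) = Set.range s ∪ Set.range t := by
  ext x
  constructor
  · rintro ⟨i, rfl⟩
    refine Fin.addCases (fun j => ?_) (fun j => ?_) i
    · left; exact ⟨j, by rw [Fin.append_left]⟩
    · right; exact ⟨j, by rw [Fin.append_right]⟩
  · rintro (⟨j, rfl⟩ | ⟨j, rfl⟩)
    · exact ⟨Fin.castAdd b j, Fin.append_left _ _ _⟩
    · exact ⟨Fin.natAdd a j, Fin.append_right _ _ _⟩

theorem gen_of_flag [Module.Finite R M] (N m : ℕ) (Z : Fin (m + 1) → Set (PrimeSpectrum R))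
    (h0 : Z 0 = ∅) (hm : Z (Fin.last m) = Set.univ) (hcl : ∀ k, IsClosed (Z k))
    (hstep : ∀ (k : Fin m) (I₀ : Ideal R) (L : Submodule R M),
        PrimeSpectrum.zeroLocus (I₀ : Set R) ⊆ Z k.succ \ Z k.castSucc →
        I₀ • (⊤ : Submodule R M) ≤ L →
        ∃ y : Fin N → M, L ⊔ Submodule.span R (Set.range y) = ⊤) :
    ∃ s : Fin (N * m) → M, Submodule.span R (Set.range s) = ⊤ := by
  have key : ∀ (k : ℕ) (hk : k ≤ m), ∃ s : Fin (N * k) → M,
      Submodule.span R (Set.range s) ⊔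
        PrimeSpectrum.vanishingIdeal (Z ⟨k, Nat.lt_succ_of_le hk⟩) • (⊤ : Submodule R M) = ⊤ := by
    intro k
    induction k with
    | zero =>
      intro hk
      refine ⟨fun i => i.elim0, ?_⟩
      have hZ0 : Z ⟨0, Nat.lt_succ_of_le hk⟩ = ∅ := h0
      rw [hZ0, PrimeSpectrum.vanishingIdeal_empty, Submodule.top_smul]
      exact sup_top_eq _
    | succ k ih =>
      intro hk
      obtain ⟨s, hs⟩ := ih (Nat.le_of_succ_le hk)
      obtain ⟨r, hr1, hr2⟩ := exists_nakayama_elt _ _ hs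
      let kk : Fin m := ⟨k, hk⟩
      have hA : PrimeSpectrum.zeroLocus
          ((PrimeSpectrum.vanishingIdeal (Z ⟨k + 1, Nat.lt_succ_of_le hk⟩) ⊔ Ideal.span {r} :
            Ideal R) : Set R) ⊆ Z kk.succ \ Z kk.castSucc := by
        intro p hp
        rw [PrimeSpectrum.mem_zeroLocus] at hp
        have hp1 : (PrimeSpectrum.vanishingIdeal (Z ⟨k + 1, Nat.lt_succ_of_le hk⟩) : Set R) ⊆
            p.asIdeal := fun x hx => hp (Ideal.mem_sup_left hx)
        have hp2 : r ∈ p.asIdeal := hp (Ideal.mem_sup_right (Ideal.subset_span rfl))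
        constructor
        · have h1 : p ∈ PrimeSpectrum.zeroLocus
              (PrimeSpectrum.vanishingIdeal (Z ⟨k + 1, Nat.lt_succ_of_le hk⟩) : Set R) := hp1
          rw [PrimeSpectrum.zeroLocus_vanishingIdeal_eq_closure, (hcl _).closure_eq] at h1
          exact h1
        · intro hpk
          have h1 : r - 1 ∈ p.asIdeal := (PrimeSpectrum.mem_vanishingIdeal _ _).1 hr1 p hpk
          have h2 : (1 : R) ∈ p.asIdeal := by
            have h3 := p.asIdeal.sub_mem hp2 h1
            simpa using h3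
          exact p.isPrime.ne_top ((Ideal.eq_top_iff_one _).2 h2)
      have hB : (PrimeSpectrum.vanishingIdeal (Z ⟨k + 1, Nat.lt_succ_of_le hk⟩) ⊔
          Ideal.span {r} : Ideal R) • (⊤ : Submodule R M) ≤
          Submodule.span R (Set.range s) ⊔
          PrimeSpectrum.vanishingIdeal (Z ⟨k + 1, Nat.lt_succ_of_le hk⟩) •
            (⊤ : Submodule R M) := by
        rw [Submodule.sup_smul]
        refine sup_le le_sup_right (le_sup_of_le_left ?_)
        rw [Submodule.smul_le]
        intro c hc x _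
        obtain ⟨d, rfl⟩ := Ideal.mem_span_singleton'.1 hc
        rw [mul_smul]
        exact Submodule.smul_mem _ d (hr2 x)
      obtain ⟨y, hy⟩ := hstep kk _ _ hA hB
      refine ⟨Fin.append s y, ?_⟩
      rw [range_append, Submodule.span_union, sup_right_comm]
      exact hy
  obtain ⟨s, hs⟩ := key m le_rfl
  refine ⟨s, ?_⟩
  have hZ : Z ⟨m, Nat.lt_succ_of_le le_rfl⟩ = Set.univ := hm
  rw [hZ, PrimeSpectrum.vanishingIdeal_univ] at hs
  rw [eq_top_iff]
  refine Submodule.le_of_le_smul_of_le_jacobson_bot (I := nilradical R) Module.Finite.fg_top ?_ hs.ge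
  exact Ideal.radical_le_jacobson

end Groth.Agent.Lib.Helper16.NisGenAlg
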