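import Mathlib
import Groth.Prelude.Def_FlatMod2
import Groth.Prelude.Def_W4c5algebraiztannakaNis
import Groth.Agent.Lib.Helper1.GenCoverGeo
import Groth.Agent.Lib.Helper3.PbBasic
import Groth.Agent.Lib.Helper12.TildePullback
import Groth.Agent.Lib.Helper16.NisGenAlg

/-!
# Generators along a Nisnevich cover of bounded length (geometric part of S17867)
-/

set_option autoImplicit false
universe u
open CategoryTheory CategoryTheory.Limits AlgebraicGeometry TensorProduct

namespace Groth.Agent.Lib.Helper16.NisGenGeo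

open Groth.Agent.Lib.Helper1.GenCover Groth.Agent.Lib.Helper3 Groth.Agent.Lib.Helper12

/-- generators of the pullback to an affine scheme over `U` -/
theorem exists_gens_pullback {R : CommRingCat.{u}} (M : ModuleCat.{u} R) {U : Scheme.{u}}
    (f : U ⟶ Spec R) (N : ℕ)
    (φ : FlatMod.freeMod U N ⟶ (Scheme.Modules.pullback f).obj (AlgebraicGeometry.tilde M)) [Epi φ]
    {A : CommRingCat.{u}} (a : Spec A ⟶ U) (ψ : R ⟶ A) (hψ : a ≫ f = Spec.map ψ) :
    ∃ x : Fin N → ((ModuleCat.extendScalars ψ.hom).obj M), Submodule.span A (Set.range x) = ⊤ := by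
  haveI : PreservesColimitsOfSize.{0, 0} (Scheme.Modules.pullback a) :=
    (Scheme.Modules.pullbackPushforwardAdjunction a).leftAdjoint_preservesColimits
  haveI : (Scheme.Modules.pullback a).PreservesEpimorphisms :=
    Functor.preservesEpimorphisms_of_adjunction (Scheme.Modules.pullbackPushforwardAdjunction a)
  let e1 : (Scheme.Modules.pullback a).obj (FlatMod.freeMod U N) ≅ FlatMod.freeMod (Spec A) N :=
    PreservesCoproduct.iso (Scheme.Modules.pullback a) _ ≪≫
      Sigma.mapIso (fun _ => PbBasic.pbUnit a)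
  let e2 : (Scheme.Modules.pullback a).obj ((Scheme.Modules.pullback f).obj (tilde M)) ≅
      (Scheme.Modules.pullback (a ≫ f)).obj (tilde M) :=
    (Scheme.Modules.pullbackComp a f).app (tilde M)
  let e3 : (Scheme.Modules.pullback (a ≫ f)).obj (tilde M) ≅
      (Scheme.Modules.pullback (Spec.map ψ)).obj (tilde M) :=
    eqToIso (by rw [hψ])
  let e4 : (Scheme.Modules.pullback (Spec.map ψ)).obj (tilde M) ≅
      tilde ((ModuleCat.extendScalars ψ.hom).obj M) :=
    (TildePullback.tildePullbackIso ψ).app M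
  let φ' : FlatMod.freeMod (Spec A) N ⟶ tilde ((ModuleCat.extendScalars ψ.hom).obj M) :=
    e1.inv ≫ (Scheme.Modules.pullback a).map φ ≫ e2.hom ≫ e3.hom ≫ e4.hom
  haveI : Epi φ' := by
    haveI : Epi ((Scheme.Modules.pullback a).map φ) := inferInstance
    exact epi_comp _ _
  have hs := span_eq_top φ' ⊤ (isAffineOpen_top (Spec A))
  obtain ⟨x, hx⟩ := exists_gens_of_span ((ModuleCat.extendScalars ψ.hom).obj M) (1 : A) ⊤
    (by rw [PrimeSpectrum.basicOpen_one]; rfl) _ hs
  refine ⟨x, ?_⟩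
  rw [eq_top_iff]
  intro y _
  obtain ⟨e, he⟩ := hx y
  simpa using he

/-- an affine scheme over an immersion `g : T ⟶ Spec R` covering a closed set `V(I₀)` inside the
range of `g`, whose ring is a quotient of `R` -/
theorem exists_affine_over_closed {R : CommRingCat.{u}} {T : Scheme.{u}} (g : T ⟶ Spec R)
    [IsImmersion g] (I₀ : Ideal R)
    (hsub : ∀ p : PrimeSpectrum R, I₀ ≤ p.asIdeal → (p : ↥(Spec R)) ∈ Set.range g) :
    ∃ (A : CommRingCat.{u}) (ψ : R ⟶ A) (a : Spec A ⟶ T), a ≫ g = Spec.map ψ ∧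
      Function.Surjective ψ.hom ∧
      ∀ p : PrimeSpectrum R, I₀ ≤ p.asIdeal → ∃ q : PrimeSpectrum A, q.comap ψ.hom = p := by
  let R' : CommRingCat.{u} := CommRingCat.of (R ⧸ I₀)
  let ψ' : R ⟶ R' := CommRingCat.ofHom (Ideal.Quotient.mk I₀)
  let ι : Spec R' ⟶ Spec R := Spec.map ψ'
  have hι : ∀ q : Spec R', ι q ∈ Set.range g := by
    intro q
    refine hsub (ι q) ?_
    intro x hx
    change ψ'.hom x ∈ (q : PrimeSpectrum R').asIdeal
    have : ψ'.hom x = 0 := Ideal.Quotient.eq_zero_iff_mem.2 hx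
    rw [this]
    exact Ideal.zero_mem _
  have hsurj : Function.Surjective (pullback.snd g ι) := by
    rw [← Set.range_eq_univ, Scheme.Pullback.range_snd]
    exact Set.eq_univ_of_forall hι
  haveI : IsClosedImmersion (pullback.snd g ι) :=
    IsClosedImmersion.of_isPreimmersion _ (by
      rw [Set.range_eq_univ.2 hsurj]; exact isClosed_univ)
  obtain ⟨haff, hsnd⟩ := IsClosedImmersion.isAffine_surjective_of_isAffine (pullback.snd g ι)
  haveI := haff
  let T' := pullback g ι
  refine ⟨Γ(T', ⊤), ψ' ≫ (Scheme.ΓSpecIso R').inv ≫ (pullback.snd g ι).appTop,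
    T'.isoSpec.inv ≫ pullback.fst g ι, ?_, ?_, ?_⟩
  · rw [Category.assoc, pullback.condition, ← Scheme.isoSpec_inv_naturality_assoc,
      Scheme.isoSpec_Spec_inv, Spec.map_comp, Spec.map_comp, Category.assoc]
  · intro x
    obtain ⟨y, rfl⟩ := hsnd x
    obtain ⟨z, rfl⟩ := (ConcreteCategory.bijective_of_isIso (Scheme.ΓSpecIso R').inv).2 y
    obtain ⟨w, rfl⟩ := Ideal.Quotient.mk_surjective z
    exact ⟨w, rfl⟩
  · intro p hp
    -- `p` comes from a point of `Spec R'`
    have h1 : p ∈ Set.range (PrimeSpectrum.comap (Ideal.Quotient.mk I₀)) := by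
      rw [range_comap_of_surjective _ _ Ideal.Quotient.mk_surjective, Ideal.mk_ker,
        PrimeSpectrum.mem_zeroLocus]
      exact SetLike.coe_subset_coe.2 hp
    obtain ⟨q', hq'⟩ := h1
    obtain ⟨t, ht⟩ := hsurj q'
    refine ⟨T'.isoSpec.hom t, ?_⟩
    have h0 : T'.isoSpec.inv (T'.isoSpec.hom t) = t := by
      rw [← Scheme.Hom.comp_apply, Iso.hom_inv_id]
      rfl
    have h2 : (Spec.map (ψ' ≫ (Scheme.ΓSpecIso R').inv ≫ (pullback.snd g ι).appTop))
        (T'.isoSpec.hom t) = ι ((pullback.snd g ι) t) := by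
      rw [Spec.map_comp, Spec.map_comp, ← Scheme.isoSpec_Spec_inv, Scheme.isoSpec_inv_naturality]
      simp only [Scheme.Hom.comp_apply]
      rw [h0]
    have h3 : PrimeSpectrum.comap (ψ' ≫ (Scheme.ΓSpecIso R').inv ≫
        (pullback.snd g ι).appTop).hom (T'.isoSpec.hom t) =
        PrimeSpectrum.comap (Ideal.Quotient.mk I₀) ((pullback.snd g ι) t) := h2
    rw [h3, ht]
    exact hq'

open W4c5algebraiztannaka in
theorem main (R : CommRingCat.{u}) (M : ModuleCat.{u} R) [Module.Finite R M] {U : Scheme.{u}}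
    (f : U ⟶ Spec R) (m N : ℕ) (hf : IsNisCoverLen f m)
    (φ : FlatMod.freeMod U N ⟶ (Scheme.Modules.pullback f).obj (AlgebraicGeometry.tilde M))
    [Epi φ] :
    ∃ s : Fin (N * m) → M, Submodule.span R (Set.range s) = ⊤ := by
  obtain ⟨Z, h0, hm, -, hcl, hsec⟩ := hf.flag
  refine NisGenAlg.gen_of_flag (R := R) (M := M) N m Z h0 hm (fun k => (hcl k).1) ?_
  intro k I₀ L hZ hL
  obtain ⟨T, g, s, hg, hrange, hsg⟩ := hsec k
  haveI := hg
  obtain ⟨A, ψ, a, haψ, hsurj, h4⟩ := exists_affine_over_closed g I₀ (fun p hp => by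
    rw [hrange]; exact hZ hp)
  obtain ⟨x, hx⟩ := exists_gens_pullback M f N φ (a ≫ s) ψ (by rw [Category.assoc, hsg, haψ])
  letI : Algebra R A := ψ.hom.toAlgebra
  exact NisGenAlg.step (R := R) (M := M) (A := A) hsurj N x hx I₀ h4 L hL

end Groth.Agent.Lib.Helper16.NisGenGeo
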