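import Groth.Agent.S10494
import Groth.Agent.Lib.Helper22.SmoothNormalSch
import Groth.Agent.Lib.Helper15.AlgSpReducedSect
import Groth.Agent.Lib.Helper16.Charts

/-!
# Helper library (helper16): the global functions of a normal integral algebraic space form a normal domain
-/

set_option autoImplicit false
universe u
open CategoryTheory CategoryTheory.Limits AlgebraicGeometry Opposite Topology TopologicalSpace

namespace Groth.Agent.Lib.Helper16.NormalSect

/-! ### Algebra -/

theorem exists_mul_eq_of_isIntegral {R A : Type*} [CommRing R] [IsDomain R] [CommRing A] [IsDomain A]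
    [IsIntegrallyClosed A] (f : R →+* A) (hf : Function.Injective f) (z : FractionRing R)
    (hz : IsIntegral R z) (a b : R)
    (hzab : z * algebraMap R (FractionRing R) b = algebraMap R (FractionRing R) a) :
    ∃ c : A, f b * c = f a := by
  let g : R →+* FractionRing A := (algebraMap A (FractionRing A)).comp f
  have hg : Function.Injective g := (IsFractionRing.injective A (FractionRing A)).comp hf
  let L : FractionRing R →+* FractionRing A := IsFractionRing.lift hg
  have hL : ∀ r : R, L (algebraMap R (FractionRing R) r) = g r := fun r =>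
    IsFractionRing.lift_algebraMap hg r
  obtain ⟨p, hp, hpz⟩ := hz
  have hint : IsIntegral A (L z) := by
    refine ⟨p.map f, hp.map f, ?_⟩
    rw [Polynomial.eval₂_map]
    have : (algebraMap A (FractionRing A)).comp f = L.comp (algebraMap R (FractionRing R)) := by
      ext r; exact (hL r).symm
    rw [this, ← Polynomial.hom_eval₂, hpz, map_zero]
  obtain ⟨c, hc⟩ := IsIntegrallyClosed.isIntegral_iff.mp hint
  refine ⟨c, IsFractionRing.injective A (FractionRing A) ?_⟩
  rw [map_mul, hc]
  have h1 := congrArg L hzab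
  rw [map_mul, hL, hL] at h1
  rw [mul_comm]
  exact h1

/-! ### Schemes -/

theorem section_ext' {W : Scheme.{u}} (U : W.Opens) (s t : Γ(W, U))
    (h : ∀ (x : W) (hx : x ∈ U), W.presheaf.germ U x hx s = W.presheaf.germ U x hx t) : s = t :=
  TopCat.Presheaf.section_ext W.sheaf U s t h

theorem section_eq_of_mul_eq {W : Scheme.{u}} (b c c' : Γ(W, ⊤))
    (hdom : ∀ w : W, IsDomain (W.presheaf.stalk w))
    (hb : ∀ w : W, W.presheaf.germ ⊤ w trivial b ≠ 0) (h : b * c = b * c') : c = c' := by
  refine section_ext' ⊤ c c' (fun w hw => ?_)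
  haveI := hdom w
  have h1 := congrArg (W.presheaf.germ ⊤ w hw) h
  rw [map_mul, map_mul] at h1
  exact mul_left_cancel₀ (hb w) h1

theorem exists_div_section {W : Scheme.{u}} (a b : Γ(W, ⊤))
    (hdom : ∀ w : W, IsDomain (W.presheaf.stalk w))
    (hb : ∀ w : W, W.presheaf.germ ⊤ w trivial b ≠ 0)
    (hloc : ∀ w : W, ∃ c : W.presheaf.stalk w,
      W.presheaf.germ ⊤ w trivial b * c = W.presheaf.germ ⊤ w trivial a) :
    ∃ c : Γ(W, ⊤), b * c = a := by
  have hloc' : ∀ w : W, ∃ (O : W.Opens) (_ : w ∈ O) (γ : Γ(W, O)), ∀ (y : W) (hy : y ∈ O),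
      W.presheaf.germ ⊤ y trivial b * W.presheaf.germ O y hy γ = W.presheaf.germ ⊤ y trivial a := by
    intro w
    obtain ⟨c, hc⟩ := hloc w
    obtain ⟨O, hwO, γ, hγ⟩ := TopCat.Presheaf.exists_germ_eq W.presheaf c
    have h1 : W.presheaf.germ O w hwO (W.presheaf.map (homOfLE le_top).op b * γ) =
        W.presheaf.germ O w hwO (W.presheaf.map (homOfLE le_top).op a) := by
      rw [map_mul, hγ, TopCat.Presheaf.germ_res_apply, TopCat.Presheaf.germ_res_apply]
      exact hc
    obtain ⟨O', hwO', i₁, i₂, h2⟩ := TopCat.Presheaf.germ_eq W.presheaf w hwO hwO _ _ h1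
    refine ⟨O', hwO', W.presheaf.map i₁.op γ, fun y hy => ?_⟩
    have h3 := congrArg (W.presheaf.germ O' y hy) h2
    rw [TopCat.Presheaf.germ_res_apply, TopCat.Presheaf.germ_res_apply, map_mul,
      TopCat.Presheaf.germ_res_apply, TopCat.Presheaf.germ_res_apply] at h3
    rw [TopCat.Presheaf.germ_res_apply]
    exact h3
  choose O hO γ hγ using hloc'
  have hcompat : TopCat.Presheaf.IsCompatible W.presheaf O γ := by
    intro i j
    refine section_ext' (O i ⊓ O j) _ _ (fun y hy => ?_)
    haveI := hdom y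
    rw [TopCat.Presheaf.germ_res_apply, TopCat.Presheaf.germ_res_apply]
    have h1 := hγ i y hy.1
    have h2 := hγ j y hy.2
    exact mul_left_cancel₀ (hb y) (h1.trans h2.symm)
  have hglue : ∃ s : Γ(W, ⊤), ∀ i, W.presheaf.map (homOfLE le_top : O i ⟶ ⊤).op s = γ i := by
    obtain ⟨s, hs, -⟩ := W.sheaf.existsUnique_gluing' O ⊤ (fun i => homOfLE le_top)
      (fun x _ => TopologicalSpace.Opens.mem_iSup.mpr ⟨x, hO x⟩) γ hcompat
    exact ⟨s, hs⟩
  obtain ⟨s, hs⟩ := hglue
  refine ⟨s, section_ext' ⊤ _ _ (fun y hy => ?_)⟩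
  rw [map_mul]
  have h1 := hγ y y (hO y)
  rw [← hs y, TopCat.Presheaf.germ_res_apply] at h1
  exact h1

/-! ### Algebraic spaces -/

section Alg

open AlgSp Groth.Agent.Lib.Helper16

variable {S : Scheme.{u}}

/-- Evaluation of a global function on an etale chart. -/
noncomputable def evHom {X : Sp S} (E : EtOver X) : ↥(gsectEt (OEt X)) →+* Γ(E.obj.left.left, ⊤) :=
  (ULift.ringEquiv : ULift.{u + 1} Γ(E.obj.left.left, ⊤) ≃+* _).toRingHom.comp
    (limit.π (OEt X).obj (op E)).hom

theorem evHom_apply {X : Sp S} (E : EtOver X) (f : ↥(gsectEt (OEt X))) :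
    evHom E f = ((limit.π (OEt X).obj (op E)) f).down := rfl

theorem evHom_compat {X : Sp S} {E₁ E₂ : EtOver X} (g : E₁ ⟶ E₂) (f : ↥(gsectEt (OEt X))) :
    g.hom.left.left.appTop.hom (evHom E₂ f) = evHom E₁ f :=
  (Groth.Agent.S10494.down_compat g f).symm

/-- A compatible family of functions on the etale charts is a global function. -/
theorem exists_gsect {X : Sp S} (c : ∀ E : EtOver X, Γ(E.obj.left.left, ⊤))
    (hc : ∀ {E E' : EtOver X} (g : E ⟶ E'), g.hom.left.left.appTop.hom (c E') = c E) :
    ∃ s : ↥(gsectEt (OEt X)), ∀ E, evHom E s = c E := by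
  have hl : IsLimit ((forget CommRingCat.{u + 1}).mapCone (limit.cone (OEt X).obj)) :=
    isLimitOfPreserves _ (limit.isLimit (OEt X).obj)
  let sec : ((OEt X).obj ⋙ forget CommRingCat.{u + 1}).sections :=
    ⟨fun E => (ULift.up (c E.unop) : ULift.{u + 1} Γ(E.unop.obj.left.left, ⊤)), by
      intro E E' f
      show (OEt X).obj.map f (ULift.up (c E.unop)) = ULift.up (c E'.unop)
      have := OEt_map f.unop (ULift.up (c E.unop))
      rw [show f = f.unop.op from rfl, this]
      exact congrArg ULift.up (hc f.unop)⟩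
  refine ⟨(Types.isLimitEquivSections hl).symm sec, fun E => ?_⟩
  have := Types.isLimitEquivSections_symm_apply hl sec (op E)
  exact congrArg ULift.down this

/-- All etale charts of a normal algebraic space have normal local rings. -/
theorem normal_stalks {X : Sp S}
    (hXn : EtaleLocally (fun U => ∀ u : ↥U, IsDomain ↥(U.presheaf.stalk u) ∧
      IsIntegrallyClosed ↥(U.presheaf.stalk u)) X)
    (E : EtOver X) (w : ↥E.obj.left.left) :
    IsDomain ↥(E.obj.left.left.presheaf.stalk w) ∧
      IsIntegrallyClosed ↥(E.obj.left.left.presheaf.stalk w) := by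
  obtain ⟨U, p, hpe, hps, hU⟩ := hXn
  obtain ⟨R, snd, fst, sq⟩ := E.property.rep p
  obtain ⟨c, rfl⟩ := (yon S).map_surjective fst
  have hsnd : Etale snd.left := E.property.property _ _ _ sq
  have hc : Etale c.left := hpe.property _ _ _ sq.flip
  have hcs : Surjective c.left := hps.property _ _ _ sq.flip
  obtain ⟨r, rfl⟩ := hcs.surj w
  have h1 := ((Groth.Agent.Lib.Helper22.SmoothNormalSch.stalk_iff_of_smooth snd.left r).2).2
    (hU (snd.left r))
  exact ((Groth.Agent.Lib.Helper22.SmoothNormalSch.stalk_iff_of_smooth c.left r).2).1 h1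

/-- A nonzero global function on an integral algebraic space has nonzero germs everywhere. -/
theorem germ_ne_zero (X : AlgSp.Space S) (hXi : IsIntegralSp X.obj)
    (b : ↥(gsectEt (OEt X.obj))) (hb : b ≠ 0) (E : EtOver X.obj) (w : ↥E.obj.left.left) :
    E.obj.left.left.presheaf.germ ⊤ w trivial (evHom E b) ≠ 0 := by
  intro h0
  obtain ⟨hXr, hXd, hXirr⟩ := hXi
  have hzero := (Groth.Agent.S10242.result X hXr).2
  obtain ⟨O, hwO, i₁, i₂, h2⟩ := TopCat.Presheaf.germ_eq E.obj.left.left.presheaf (U := ⊤) (V := ⊤) w trivial trivial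
    (evHom E b) 0 (by rw [h0, map_zero])
  rw [map_zero] at h2
  have hO : ∀ o ∈ O, o ∉ E.obj.left.left.basicOpen (evHom E b) := by
    intro o ho hmem
    rw [Scheme.mem_basicOpen_top] at hmem
    have h3 := congrArg (E.obj.left.left.presheaf.germ O o ho) h2
    rw [TopCat.Presheaf.germ_res_apply, map_zero] at h3
    rw [h3] at hmem
    exact not_isUnit_zero hmem
  let Dset : Set (Points X.obj) := ⋃ E' : EtOver X.obj, Points.ofPt E'.obj.hom ''
    (E'.obj.left.left.basicOpen (evHom E' b) : Set ↥E'.obj.left.left)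
  have hopen : IsOpen Dset := isOpen_iUnion fun E' =>
    isOpenMap_ofPt_of_etale E'.obj.hom E'.property _ (TopologicalSpace.Opens.isOpen _)
  have hne : Dset.Nonempty := by
    rw [Set.nonempty_iff_ne_empty]
    intro hempty
    apply hb
    apply hzero
    intro E'
    ext e
    simp only [TopologicalSpace.Opens.coe_bot, Set.mem_empty_iff_false, iff_false]
    intro he
    have : Points.ofPt E'.obj.hom e ∈ Dset := Set.mem_iUnion.2 ⟨E', e, he, rfl⟩
    rw [hempty] at this
    exact this
  have hOopen : IsOpen (Points.ofPt E.obj.hom '' (O : Set ↥E.obj.left.left)) :=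
    isOpenMap_ofPt_of_etale E.obj.hom E.property _ O.isOpen
  obtain ⟨x, hxD, hxO⟩ := nonempty_preirreducible_inter hopen hOopen hne ⟨_, w, hwO, rfl⟩
  obtain ⟨E', e', he', he'x⟩ := Set.mem_iUnion.1 hxD
  obtain ⟨o, ho, hox⟩ := hxO
  obtain ⟨W, snd, fst, sq⟩ := E.property.rep E'.obj.hom
  obtain ⟨c, rfl⟩ := (yon S).map_surjective fst
  obtain ⟨w', hw1, hw2⟩ := exists_point_of_isPullback_yon_yon sq o e' (hox.trans he'x.symm)
  have hsnd : Etale snd.left := E.property.property _ _ _ sq
  let E'' : EtOver X.obj := EtOver.mk ((yon S).map snd ≫ E'.obj.hom)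
    ((RepWith @Etale).comp_mem _ _ ((repWith_yon_map_iff _ _).2 hsnd) E'.property)
  let g₁ : E'' ⟶ E := EtOver.homMk c sq.w
  let g₂ : E'' ⟶ E' := EtOver.homMk snd rfl
  have h2' : w' ∈ W.left.basicOpen (evHom E'' b) := by
    rw [← evHom_compat g₂ b]
    have := Scheme.preimage_basicOpen_top snd.left (evHom E' b)
    show w' ∈ W.left.basicOpen (snd.left.appTop.hom _)
    rw [← this, Scheme.Hom.mem_preimage, hw2]
    exact he'
  have h1' : o ∈ E.obj.left.left.basicOpen (evHom E b) := by
    rw [← evHom_compat g₁ b] at h2'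
    have := Scheme.preimage_basicOpen_top c.left (evHom E b)
    have h4 : w' ∈ W.left.basicOpen (c.left.appTop.hom (evHom E b)) := h2'
    rw [← this, Scheme.Hom.mem_preimage, hw1] at h4
    exact h4
  exact hO o ho h1'

/-- The global functions of a normal integral algebraic space form an integrally closed domain. -/
theorem main (X : AlgSp.Space S) (hXi : IsIntegralSp X.obj)
    (hXn : EtaleLocally (fun U => ∀ u : ↥U, IsDomain ↥(U.presheaf.stalk u) ∧
      IsIntegrallyClosed ↥(U.presheaf.stalk u)) X.obj) :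
    IsIntegrallyClosed ↥(gsectEt (OEt X.obj)) := by
  haveI hdomΓ : IsDomain ↥(gsectEt (OEt X.obj)) := Groth.Agent.S10494.result X hXi
  rw [isIntegrallyClosed_iff (FractionRing ↥(gsectEt (OEt X.obj)))]
  intro z hz
  obtain ⟨a, b, hb0, hzab⟩ : ∃ a b : ↥(gsectEt (OEt X.obj)), b ≠ 0 ∧
      z * algebraMap _ (FractionRing ↥(gsectEt (OEt X.obj))) b =
        algebraMap _ (FractionRing ↥(gsectEt (OEt X.obj))) a := by
    obtain ⟨a, b, hb, rfl⟩ := IsFractionRing.div_surjective (A := ↥(gsectEt (OEt X.obj))) z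
    refine ⟨a, b, nonZeroDivisors.ne_zero hb, ?_⟩
    rw [div_mul_cancel₀]
    exact (map_ne_zero_iff _ (IsFractionRing.injective _ _)).2 (nonZeroDivisors.ne_zero hb)
  have hnorm := fun (E : EtOver X.obj) (w : ↥E.obj.left.left) => normal_stalks hXn E w
  have hgerm := fun (E : EtOver X.obj) (w : ↥E.obj.left.left) => germ_ne_zero X hXi b hb0 E w
  have hloc : ∀ (E : EtOver X.obj) (w : ↥E.obj.left.left),
      ∃ c : E.obj.left.left.presheaf.stalk w,
        E.obj.left.left.presheaf.germ ⊤ w trivial (evHom E b) * c =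
          E.obj.left.left.presheaf.germ ⊤ w trivial (evHom E a) := by
    intro E w
    haveI := (hnorm E w).1
    haveI := (hnorm E w).2
    have hinj : Function.Injective
        ((E.obj.left.left.presheaf.germ ⊤ w trivial).hom.comp (evHom E)) := by
      rw [injective_iff_map_eq_zero]
      intro t ht
      by_contra hne
      exact germ_ne_zero X hXi t hne E w ht
    exact exists_mul_eq_of_isIntegral
      ((E.obj.left.left.presheaf.germ ⊤ w trivial).hom.comp (evHom E)) hinj z hz a b hzab
  have hex : ∀ E : EtOver X.obj, ∃ c : Γ(E.obj.left.left, ⊤), evHom E b * c = evHom E a := fun E =>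
    exists_div_section (evHom E a) (evHom E b) (fun w => (hnorm E w).1) (hgerm E) (hloc E)
  choose c hc using hex
  have hcompat : ∀ {E E' : EtOver X.obj} (g : E ⟶ E'),
      g.hom.left.left.appTop.hom (c E') = c E := by
    intro E E' g
    apply section_eq_of_mul_eq (evHom E b) _ _ (fun w => (hnorm E w).1) (hgerm E)
    rw [hc E, ← evHom_compat g b, ← map_mul, hc E', evHom_compat g a]
  obtain ⟨s, hs⟩ := exists_gsect c hcompat
  refine ⟨s, ?_⟩
  have hbs : b * s = a := by
    apply Groth.Agent.Lib.Helper15.AlgSpReducedSect.gsect_ext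
    intro E
    apply ULift.ext
    show evHom E (b * s) = evHom E a
    rw [map_mul, hs E]
    exact hc E
  have hbne : algebraMap _ (FractionRing ↥(gsectEt (OEt X.obj))) b ≠ 0 :=
    (map_ne_zero_iff _ (IsFractionRing.injective _ _)).2 hb0
  apply mul_right_cancel₀ hbne
  rw [hzab, ← map_mul, mul_comm, hbs]

end Alg

end Groth.Agent.Lib.Helper16.NormalSect
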