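import Groth.Statements.S16673
import Mathlib.AlgebraicGeometry.AlgClosed.Basic
import Mathlib.AlgebraicGeometry.Morphisms.QuasiFinite

set_option autoImplicit false
universe u
open CategoryTheory CategoryTheory.Limits AlgebraicGeometry MonObj

namespace Groth.Agent.Lib.Helper16.PRankIsog

/-! ### Pure group theory -/

section GroupTheory

variable {G H : Type*} [CommGroup G] [CommGroup H]

/-- `N`-torsion subgroup. -/
abbrev tors (G : Type*) [CommGroup G] (N : ℕ) : Subgroup G := (powMonoidHom N : G →* G).ker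

theorem mem_tors {N : ℕ} {g : G} : g ∈ tors G N ↔ g ^ N = 1 := Iff.rfl

theorem card_of_equiv {A : Type*} [Group A] (p m i : ℕ) [Fact p.Prime]
    (e : A ≃* Multiplicative (Fin i → ZMod (p ^ m))) : Finite A ∧ Nat.card A = (p ^ m) ^ i := by
  have : NeZero (p ^ m) := ⟨pow_ne_zero _ (Fact.out : p.Prime).ne_zero⟩
  haveI : Finite (Multiplicative (Fin i → ZMod (p ^ m))) :=
    inferInstanceAs (Finite (Fin i → ZMod (p ^ m)))
  refine ⟨Finite.of_equiv _ e.symm.toEquiv, ?_⟩
  rw [Nat.card_congr e.toEquiv]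
  show Nat.card (Fin i → ZMod (p ^ m)) = _
  rw [Nat.card_fun, Nat.card_zmod]
  simp

theorem card_tors_le (φ : G →* H) [Finite φ.ker] (N : ℕ) [Finite (tors G N)] [Finite (tors H N)] :
    Nat.card (tors G N) ≤ Nat.card φ.ker * Nat.card (tors H N) := by
  let ψ : tors G N →* tors H N := (φ.comp (tors G N).subtype).codRestrict (tors H N) (fun g => by
    show (φ g.1) ^ N = 1
    rw [← map_pow, mem_tors.1 g.2, map_one])
  have h1 : Nat.card ψ.ker * Nat.card ψ.range = Nat.card (tors G N) := by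
    rw [← Subgroup.index_ker, Subgroup.card_mul_index]
  have h2 : Nat.card ψ.ker ≤ Nat.card φ.ker :=
    Nat.card_le_card_of_injective (fun g : ψ.ker => (⟨g.1.1, by
      have := MonoidHom.mem_ker.1 g.2
      exact MonoidHom.mem_ker.2 (congrArg Subtype.val this)⟩ : φ.ker))
      (fun a b hab => Subtype.ext (Subtype.ext (congrArg (fun t : φ.ker => t.1) hab)))
  have h3 : Nat.card ψ.range ≤ Nat.card (tors H N) := Subgroup.card_le_card_group ψ.range
  calc Nat.card (tors G N) = Nat.card ψ.ker * Nat.card ψ.range := h1.symm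
    _ ≤ _ := Nat.mul_le_mul h2 h3

theorem exists_tors_lift (φ : G →* H) (hφ : Function.Surjective φ) [Finite φ.ker] (p : ℕ)
    [Fact p.Prime] (a c' : ℕ) (hc : Nat.card φ.ker = p ^ a * c') (hc' : ¬ p ∣ c') (m : ℕ)
    (hcard : ∃ r, Nat.card (tors H (p ^ m)) = p ^ r)
    (y : tors H (p ^ m)) : ∃ x : tors G (p ^ (m + a)), φ x.1 = y.1 := by
  have hcop : (Nat.card (tors H (p ^ m))).Coprime c' := by
    obtain ⟨r, hr⟩ := hcard
    rw [hr]
    exact Nat.Coprime.pow_left r ((Nat.Prime.coprime_iff_not_dvd Fact.out).2 hc')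
  obtain ⟨y', hy'⟩ := (powCoprime hcop).surjective y
  obtain ⟨x, hx⟩ := hφ y'.1
  have hxk : x ^ (p ^ m) ∈ φ.ker := by
    rw [MonoidHom.mem_ker, map_pow, hx]; exact mem_tors.1 y'.2
  have hx1 : (x ^ (p ^ m)) ^ (p ^ a * c') = 1 := by
    have := pow_card_eq_one' (G := φ.ker) (x := ⟨x ^ (p ^ m), hxk⟩)
    rw [hc] at this
    exact congrArg Subtype.val this
  refine ⟨⟨x ^ c', ?_⟩, ?_⟩
  · show (x ^ c') ^ (p ^ (m + a)) = 1
    have e : (x ^ c') ^ (p ^ (m + a)) = (x ^ (p ^ m)) ^ (p ^ a * c') := by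
      rw [← pow_mul, ← pow_mul]; congr 1; ring
    rw [e, hx1]
  · show φ (x ^ c') = y.1
    rw [map_pow, hx, ← hy']; rfl

theorem card_tors_le' (φ : G →* H) (hφ : Function.Surjective φ) [Finite φ.ker] (p : ℕ)
    [Fact p.Prime] (a c' : ℕ) (hc : Nat.card φ.ker = p ^ a * c') (hc' : ¬ p ∣ c') (m : ℕ)
    (hcard : ∃ r, Nat.card (tors H (p ^ m)) = p ^ r) [Finite (tors G (p ^ (m + a)))] :
    Nat.card (tors H (p ^ m)) ≤ Nat.card (tors G (p ^ (m + a))) := by
  choose f hf using exists_tors_lift φ hφ p a c' hc hc' m hcard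
  exact Nat.card_le_card_of_injective f
    (fun y₁ y₂ h12 => Subtype.ext (by rw [← hf y₁, ← hf y₂, h12]))

theorem rank_eq (φ : G →* H) (hφ : Function.Surjective φ) [Finite φ.ker] (p : ℕ) [Fact p.Prime]
    (i j : ℕ)
    (hi : ∀ m : ℕ, Nonempty (tors G (p ^ m) ≃* Multiplicative (Fin i → ZMod (p ^ m))))
    (hj : ∀ m : ℕ, Nonempty (tors H (p ^ m) ≃* Multiplicative (Fin j → ZMod (p ^ m)))) :
    i = j := by
  have hp : p.Prime := Fact.out
  have hp1 : 1 < p := hp.one_lt
  have cG : ∀ m, Finite (tors G (p ^ m)) ∧ Nat.card (tors G (p ^ m)) = (p ^ m) ^ i :=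
    fun m => card_of_equiv p m i (hi m).some
  have cH : ∀ m, Finite (tors H (p ^ m)) ∧ Nat.card (tors H (p ^ m)) = (p ^ m) ^ j :=
    fun m => card_of_equiv p m j (hj m).some
  have hc0 : Nat.card φ.ker ≠ 0 := Nat.card_pos.ne'
  obtain ⟨a, c', hc', hcc⟩ := Nat.exists_eq_pow_mul_and_not_dvd hc0 p hp1.ne'
  apply le_antisymm
  · by_contra hlt
    rw [not_le] at hlt
    haveI := (cG (Nat.card φ.ker)).1
    haveI := (cH (Nat.card φ.ker)).1
    have key := card_tors_le φ (p ^ Nat.card φ.ker)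
    rw [(cG _).2, (cH _).2] at key
    generalize Nat.card φ.ker = c at key
    have hq : 0 < (p ^ c) ^ j := pow_pos (pow_pos hp.pos c) j
    have h4 : (p ^ c) ^ j * p ^ c ≤ (p ^ c) ^ j * c := by
      calc (p ^ c) ^ j * p ^ c = (p ^ c) ^ (j + 1) := (pow_succ _ _).symm
        _ ≤ (p ^ c) ^ i := Nat.pow_le_pow_right (pow_pos hp.pos c) hlt
        _ ≤ c * (p ^ c) ^ j := key
        _ = (p ^ c) ^ j * c := mul_comm _ _
    exact absurd (Nat.le_of_mul_le_mul_left h4 hq) (not_le.2 (Nat.lt_pow_self hp1))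
  · by_contra hlt
    rw [not_le] at hlt
    haveI := (cG (a * i + 1 + a)).1
    have key := card_tors_le' φ hφ p a c' hcc hc' (a * i + 1)
      ⟨(a * i + 1) * j, by rw [(cH _).2, pow_mul]⟩
    rw [(cH _).2, (cG _).2, ← pow_mul, ← pow_mul] at key
    have key2 := (Nat.pow_le_pow_iff_right hp1).1 key
    have h5 : (a * i + 1) * (i + 1) ≤ (a * i + 1) * j := Nat.mul_le_mul_left _ hlt
    have h6 : (a * i + 1) * (i + 1) = (a * i + 1 + a) * i + 1 := by ring
    have h7 := h5.trans key2
    rw [h6] at h7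
    exact absurd h7 (Nat.not_succ_le_self _)

end GroupTheory

/-! ### Geometry: points over an algebraically closed field -/

section Geometry

variable {k : Type u} [Field k] {K : Type u} [Field K] [Algebra k K] [IsAlgClosed K]
  {X Y : Over (Spec (CommRingCat.of k))}

local notation "TK" => (Over.mk (Spec.map (CommRingCat.ofHom (algebraMap k K))) :
  Over (Spec (CommRingCat.of k)))

theorem exists_lift (h : X ⟶ Y) [IsFinite h.left] [Surjective h.left] (y : TK ⟶ Y) :
    ∃ x : TK ⟶ X, x ≫ h = y := by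
  let yl : Spec (CommRingCat.of K) ⟶ Y.left := y.left
  let snd : pullback h.left yl ⟶ Spec (CommRingCat.of K) := pullback.snd h.left yl
  haveI : IsAffine (pullback h.left yl) := isAffine_of_isAffineHom snd
  obtain ⟨z, _⟩ := snd.surjective (IsLocalRing.closedPoint K)
  obtain ⟨z₀, -, hz₀⟩ := (isClosed_univ (X := ↥(pullback h.left yl))).exists_closed_singleton ⟨z, trivial⟩
  let pt := pointOfClosedPoint snd z₀ hz₀
  have hpt : pt ≫ snd = 𝟙 _ := pointOfClosedPoint_comp snd z₀ hz₀
  have e1 : (pt ≫ pullback.fst h.left yl) ≫ h.left = yl := by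
    rw [Category.assoc, pullback.condition, ← Category.assoc, hpt, Category.id_comp]
  have e2 : (pt ≫ pullback.fst h.left yl) ≫ X.hom = (TK).hom := by
    rw [← Over.w h, ← Category.assoc, e1]
    exact Over.w y
  exact ⟨Over.homMk (pt ≫ pullback.fst h.left yl) e2, Over.OverMorphism.ext e1⟩

theorem finite_fibre (h : X ⟶ Y) [IsFinite h.left] (y : TK ⟶ Y) :
    Finite {x : TK ⟶ X // x ≫ h = y} := by
  let yl : Spec (CommRingCat.of K) ⟶ Y.left := y.left
  let snd : pullback h.left yl ⟶ Spec (CommRingCat.of K) := pullback.snd h.left yl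
  haveI : Finite ↥(pullback h.left yl) := by
    have := snd.finite_preimage_singleton (IsLocalRing.closedPoint K)
    exact Set.finite_univ_iff.mp (this.subset fun z _ =>
      Set.mem_preimage.2 (Set.mem_singleton_iff.2 (Subsingleton.elim _ _)))
  let F : {x : TK ⟶ X // x ≫ h = y} →
      {q : Spec (CommRingCat.of K) ⟶ pullback h.left yl // q ≫ snd = 𝟙 _} := fun x =>
    ⟨pullback.lift (x.1.left : Spec (CommRingCat.of K) ⟶ X.left) (𝟙 _) (by
      rw [Category.id_comp]
      exact congrArg (fun t : TK ⟶ Y => t.left) x.2), pullback.lift_snd _ _ _⟩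
  have hF : Function.Injective F := by
    intro a b hab
    apply Subtype.ext
    apply Over.OverMorphism.ext
    have hab' : (F a).1 ≫ pullback.fst h.left yl = (F b).1 ≫ pullback.fst h.left yl := by rw [hab]
    exact (pullback.lift_fst _ _ _).symm.trans (hab'.trans (pullback.lift_fst _ _ _))
  exact Finite.of_injective (fun x => pointEquivClosedPoint snd (F x))
    ((pointEquivClosedPoint snd).injective.comp hF)

end Geometry

/-! ### Assembly -/

section Main

variable {k : Type u} [Field k] {K : Type u} [Field K] [Algebra k K] [IsAlgClosed K]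
  {X Y : Over (Spec (CommRingCat.of k))}
  [GrpObj X] [IsCommMonObj X] [GrpObj Y] [IsCommMonObj Y]

/-- postcomposition with a homomorphism, as a group homomorphism on points -/
noncomputable def ptsMap (T : Over (Spec (CommRingCat.of k))) (h : X ⟶ Y) [IsMonHom h] : (T ⟶ X) →* (T ⟶ Y) where
  toFun x := x ≫ h
  map_one' := MonObj.one_comp h
  map_mul' a b := MonObj.mul_comp a b h

theorem main' (p : ℕ) [Fact p.Prime] (h : X ⟶ Y) [IsMonHom h] [IsFinite h.left] [Surjective h.left]
    (i j : ℕ)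
    (hi : ∀ m : ℕ, Nonempty (AbDual.torsPts X (p ^ m)
      (Over.mk (Spec.map (CommRingCat.ofHom (algebraMap k K)))) ≃*
      Multiplicative (Fin i → ZMod (p ^ m))))
    (hj : ∀ m : ℕ, Nonempty (AbDual.torsPts Y (p ^ m)
      (Over.mk (Spec.map (CommRingCat.ofHom (algebraMap k K)))) ≃*
      Multiplicative (Fin j → ZMod (p ^ m)))) :
    i = j := by
  let φ := ptsMap (Over.mk (Spec.map (CommRingCat.ofHom (algebraMap k K)))) h
  have hφ : Function.Surjective φ := fun y => exists_lift h y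
  haveI : Finite φ.ker := by
    haveI := finite_fibre (K := K) h (1 : (Over.mk (Spec.map (CommRingCat.ofHom (algebraMap k K))) :
      Over (Spec (CommRingCat.of k))) ⟶ Y)
    exact Finite.of_injective
      (fun x : φ.ker => (⟨x.1, MonoidHom.mem_ker.1 x.2⟩ :
        {x : (Over.mk (Spec.map (CommRingCat.ofHom (algebraMap k K))) :
          Over (Spec (CommRingCat.of k))) ⟶ X // x ≫ h = 1}))
      (fun a b hab => Subtype.ext (congrArg (fun t => t.1) hab))
  exact rank_eq φ hφ p i j hi hj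

end Main

end Groth.Agent.Lib.Helper16.PRankIsog
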