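import Mathlib
import Groth.Prelude.Def_AlgSp
import Groth.Agent.Lib.Helper16.DiagProps

/-!
# Helper library (helper16): `Π Aᵢ`-points of quasi-separated algebraic spaces
-/

set_option autoImplicit false
universe u
open CategoryTheory CategoryTheory.Limits AlgebraicGeometry Opposite

namespace Groth.Agent.Lib.Helper16.PiPts

/-- A quasi-compact monomorphism locally of finite type into `Spec (Π Rᵢ)` through which
`∐ Spec Rᵢ` factors is an isomorphism (the quasi-affine version of Mathlib's
`isIso_of_comp_eq_sigmaSpec`, through Zariski's main theorem). -/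
theorem isIso_of_mono_of_comp_eq_sigmaSpec {ι : Type u} (R : ι → CommRingCat.{u}) {V : Scheme.{u}}
    (f : (∐ fun i ↦ Spec (R i)) ⟶ V) (g : V ⟶ Spec (.of <| Π i, R i))
    [Mono g] [QuasiCompact g] [LocallyOfFiniteType g]
    (hfg : f ≫ g = sigmaSpec R) : IsIso g := by
  haveI : LocallyQuasiFinite g := inferInstance
  haveI : IsSeparated g := inferInstance
  haveI : CompactSpace V := QuasiCompact.compactSpace_of_compactSpace g
  haveI : IsAffine g.normalization := isAffine_of_isAffineHom g.fromNormalization
  obtain ⟨σ, hσ⟩ := pointsPi_surjective_of_isAffine R g.normalization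
    (fun i => Sigma.ι (fun i => Spec (R i)) i ≫ f ≫ g.toNormalization)
  have hσ' : ∀ i, Spec.map (CommRingCat.ofHom (Pi.evalRingHom (R ·) i)) ≫ σ =
      Sigma.ι (fun i => Spec (R i)) i ≫ f ≫ g.toNormalization := fun i => congrFun hσ i
  have hσg : σ ≫ g.fromNormalization = 𝟙 _ := by
    apply pointsPi_injective R (Spec (.of <| Π i, R i))
    funext i
    simp only [pointsPi]
    rw [← Category.assoc, hσ' i, Category.assoc, Category.assoc,
      Scheme.Hom.toNormalization_fromNormalization, hfg, ι_sigmaSpec, Category.comp_id]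
  have hcomm : f ≫ g.toNormalization = sigmaSpec R ≫ σ := by
    apply Sigma.hom_ext
    intro i
    rw [← Category.assoc (Sigma.ι _ i) (sigmaSpec R), ι_sigmaSpec, hσ' i]
  haveI : IsIso (pullback.snd g.toNormalization σ) :=
    isIso_of_comp_eq_sigmaSpec R (pullback.lift f (sigmaSpec R) hcomm)
      (pullback.snd g.toNormalization σ) (pullback.lift_snd _ _ _)
  have hsn : (inv (pullback.snd g.toNormalization σ) ≫ pullback.fst g.toNormalization σ) ≫
      g.toNormalization = σ := by
    rw [Category.assoc, pullback.condition, IsIso.inv_hom_id_assoc]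
  have hs : (inv (pullback.snd g.toNormalization σ) ≫ pullback.fst g.toNormalization σ) ≫ g =
      𝟙 _ := by
    have h1 := congrArg (· ≫ g.fromNormalization) hsn
    simp only [Category.assoc, Scheme.Hom.toNormalization_fromNormalization] at h1
    rw [Category.assoc]
    exact h1.trans hσg
  have hgs : g ≫ (inv (pullback.snd g.toNormalization σ) ≫ pullback.fst g.toNormalization σ) =
      𝟙 _ := by
    rw [← cancel_mono g, Category.assoc, hs, Category.comp_id, Category.id_comp]
  exact ⟨_, hgs, hs⟩

open AlgSp

variable {S : Scheme.{u}}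

/-- Two `Π Aᵢ`-points of a quasi-separated algebraic space which agree on every `Aᵢ` are equal. -/
theorem eq_of_forall_eval_comp_eq {X : Sp S} (hX : IsAlgSpace X) (hqs : IsQuasiSeparatedSp X)
    {ι : Type u} (A : ι → CommRingCat.{u}) (h : Spec (CommRingCat.of (∀ i, A i)) ⟶ S)
    (a b : (yon S).obj (Over.mk h) ⟶ X)
    (hab : ∀ i : ι, (yon S).map (Over.homMk
        (Spec.map (CommRingCat.ofHom (Pi.evalRingHom (fun j => (A j : Type u)) i)))
        rfl : Over.mk (Spec.map (CommRingCat.ofHom (Pi.evalRingHom (fun j => (A j : Type u)) i)) ≫ h) ⟶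
          Over.mk h) ≫ a =
      (yon S).map (Over.homMk
        (Spec.map (CommRingCat.ofHom (Pi.evalRingHom (fun j => (A j : Type u)) i)))
        rfl : Over.mk (Spec.map (CommRingCat.ofHom (Pi.evalRingHom (fun j => (A j : Type u)) i)) ≫ h) ⟶
          Over.mk h) ≫ b) : a = b := by
  obtain ⟨E, e, fstE, sq⟩ := hX.diag (prod.lift a b)
  have hmd : Mono (Limits.diag X) := Groth.Agent.Lib.Helper16.mono_diag X
  have hme : Mono ((yon S).map e) :=
    MorphismProperty.of_isPullback (P := MorphismProperty.monomorphisms _) sq hmd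
  have hme' : Mono e := (yon S).mono_of_mono_map hme
  have hml : Mono e.left := inferInstance
  have hqc : QuasiCompact e.left := hqs.property _ _ _ sq
  have hlft : LocallyOfFiniteType e.left :=
    (Groth.Agent.Lib.Helper16.repWith_lft_diag hX).property _ _ _ sq
  have hl : ∀ i : ι, ((yon S).map (Over.homMk
        (Spec.map (CommRingCat.ofHom (Pi.evalRingHom (fun j => (A j : Type u)) i)))
        rfl : Over.mk (Spec.map (CommRingCat.ofHom (Pi.evalRingHom (fun j => (A j : Type u)) i)) ≫ h) ⟶
          Over.mk h) ≫ a) ≫ Limits.diag X =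
      (yon S).map (Over.homMk
        (Spec.map (CommRingCat.ofHom (Pi.evalRingHom (fun j => (A j : Type u)) i)))
        rfl : Over.mk (Spec.map (CommRingCat.ofHom (Pi.evalRingHom (fun j => (A j : Type u)) i)) ≫ h) ⟶
          Over.mk h) ≫ prod.lift a b := by
    intro i
    apply Limits.prod.hom_ext
    · simp only [Category.assoc, prod.lift_fst, Category.comp_id]
    · simp only [Category.assoc, prod.lift_snd, Category.comp_id]
      exact hab i
  have hex : ∀ i : ι, ∃ l : Over.mk (Spec.map (CommRingCat.ofHom
      (Pi.evalRingHom (fun j => (A j : Type u)) i)) ≫ h) ⟶ E,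
      l.left ≫ e.left = Spec.map (CommRingCat.ofHom (Pi.evalRingHom (fun j => (A j : Type u)) i)) := by
    intro i
    obtain ⟨l₀, hl₀⟩ := (yon S).map_surjective (sq.lift _ _ (hl i))
    refine ⟨l₀, ?_⟩
    have h1 : (yon S).map (l₀ ≫ e) = (yon S).map (Over.homMk
        (Spec.map (CommRingCat.ofHom (Pi.evalRingHom (fun j => (A j : Type u)) i)))
        rfl : Over.mk (Spec.map (CommRingCat.ofHom (Pi.evalRingHom (fun j => (A j : Type u)) i)) ≫ h) ⟶
          Over.mk h) := by
      rw [Functor.map_comp, hl₀, sq.lift_snd]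
    have h2 := (yon S).map_injective h1
    have h3 := congrArg (fun m => m.left) h2
    simpa using h3
  choose l hl' using hex
  let f : (∐ fun i => Spec (A i)) ⟶ E.left :=
    Sigma.desc (fun i => ((l i).left : Spec (A i) ⟶ E.left))
  have hf : f ≫ e.left = sigmaSpec A := by
    apply Sigma.hom_ext
    intro i
    rw [ι_sigmaSpec, ← Category.assoc]
    have h0 : Sigma.ι (fun i => Spec (A i)) i ≫ f = ((l i).left : Spec (A i) ⟶ E.left) :=
      Sigma.ι_desc _ i
    rw [h0]
    exact hl' i
  have hiso0 : IsIso e.left :=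
    @isIso_of_mono_of_comp_eq_sigmaSpec ι A E.left f e.left hml hqc hlft hf
  have hiso : IsIso ((Over.forget S).map e) := hiso0
  have hiso' : IsIso e := isIso_of_reflects_iso e (Over.forget S)
  have h1 : fstE = (yon S).map e ≫ a := by
    have := congrArg (· ≫ prod.fst) sq.w
    simpa only [Category.assoc, prod.lift_fst, Category.comp_id] using this
  have h2 : fstE = (yon S).map e ≫ b := by
    have := congrArg (· ≫ prod.snd) sq.w
    simpa only [Category.assoc, prod.lift_snd, Category.comp_id] using this
  exact (cancel_epi ((yon S).map e)).1 (h1.symm.trans h2)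

end Groth.Agent.Lib.Helper16.PiPts
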