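import Mathlib
import Groth.Prelude.Def_AlgSp
import Groth.Agent.Lib.Helper16.PiPts
import Groth.Agent.Lib.Helper16.SpCoprod2
import Groth.Agent.Lib.Helper16.FactorMono
import Groth.Agent.Lib.Helper16.StrataSp
import Groth.Agent.Lib.Helper16.SchLocus
import Groth.Agent.Lib.Helper16.DenseFin1
import Groth.Agent.Lib.Helper16.SchImg2
import Groth.Agent.Lib.Helper16.FppfLocal2
import Groth.Agent.Lib.Helper15.HenselSite
import Groth.Agent.S10419
import Groth.Agent.S10194

/-!
# Helper library (helper16): `Π Aᵢ`-points of quasi-compact quasi-separated algebraic spaces for henselian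
local rings `Aᵢ`
-/

set_option autoImplicit false
universe u
open CategoryTheory CategoryTheory.Limits AlgebraicGeometry Opposite

namespace Groth.Agent.Lib.Helper16.PiPts

open AlgSp Groth.Agent.Lib.Helper16 Groth.Agent.Lib.Helper15

variable {S : Scheme.{u}}

/-- A point with values in a henselian local ring lifts along an etale chart as soon as its closed point
does. -/
theorem exists_lift_of_closedPoint_lift {F : Sp S} (R : Type u) [CommRing R] [HenselianLocalRing R]
    (t : Spec (CommRingCat.of R) ⟶ S) {V : Over S} (f : (yon S).obj V ⟶ F) (hfe : RepWith @Etale f)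
    (x : (yon S).obj (Over.mk t) ⟶ F)
    (w : Over.mk (HenselSite.xi R ≫ t) ⟶ V)
    (hw : (yon S).map w ≫ f =
      (yon S).map (Over.homMk (HenselSite.xi R) rfl : Over.mk (HenselSite.xi R ≫ t) ⟶ Over.mk t) ≫ x) :
    ∃ y : Over.mk t ⟶ V, (yon S).map y ≫ f = x := by
  obtain ⟨W, π, fstW, sq⟩ := hfe.rep x
  obtain ⟨φ, rfl⟩ := (yon S).map_surjective fstW
  have hπe : Etale π.left := hfe.property _ _ _ sq
  obtain ⟨u, hu⟩ := (yon S).map_surjective (sq.lift _ _ hw)
  have hu2 : u ≫ π =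
      (Over.homMk (HenselSite.xi R) rfl : Over.mk (HenselSite.xi R ≫ t) ⟶ Over.mk t) := by
    apply (yon S).map_injective
    rw [Functor.map_comp, hu, sq.lift_snd]
  have hul : u.left ≫ π.left = HenselSite.xi R := by
    have := congrArg (fun m => m.left) hu2
    simpa using this
  obtain ⟨s, hs1, -⟩ := HenselSite.exists_section_scheme R W.left π.left u.left hul
  have hsw : s ≫ W.hom = t := by
    have h1 : π.left ≫ t = W.hom := Over.w π
    rw [← h1, ← Category.assoc, hs1, Category.id_comp]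
  have hσπ : (Over.homMk s hsw : Over.mk t ⟶ W) ≫ π = 𝟙 _ := by
    ext1
    simpa using hs1
  refine ⟨(Over.homMk s hsw : Over.mk t ⟶ W) ≫ φ, ?_⟩
  rw [Functor.map_comp, Category.assoc, sq.w, ← Category.assoc, ← Functor.map_comp, hσπ,
    CategoryTheory.Functor.map_id, Category.id_comp]

/-- A point with values in a henselian local ring lifts to the etale chart of the stratum containing the image
of its closed point. -/
theorem exists_stratum_lift (X : AlgSp.Space S)
    (n : ℕ) (Uo : ℕ → AlgSp.Space S) (j : ∀ p, Uo p ⟶ X) (k : ∀ p, Uo (p + 1) ⟶ Uo p)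
    (T : ℕ → AlgSp.Space S) (i : ∀ p, T p ⟶ Uo p)
    (h1 : ∀ p, RepWith @IsOpenImmersion (j p).hom) (h2 : ∀ p, k p ≫ j p = j (p + 1)) (h3 : IsIso (j 1))
    (hE : IsEmpty (Points (Uo (n + 1)).obj))
    (h4 : ∀ p, IsRedInduced (Set.range (Points.map (k p).hom))ᶜ (i p).hom)
    (V : ℕ → Over S) (f : ∀ m, (yon S).obj (V m) ⟶ (Uo (m + 1)).obj)
    (hfe : ∀ m, RepWith @Etale (f m))
    (hiso : ∀ m (P : Sp S) (fst : P ⟶ (T (m + 1)).obj) (snd : P ⟶ (yon S).obj (V m)),
      IsPullback fst snd (i (m + 1)).hom (f m) → IsIso fst)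
    (R : Type u) [CommRing R] [HenselianLocalRing R] (t : Spec (CommRingCat.of R) ⟶ S)
    (x : (yon S).obj (Over.mk t) ⟶ X.obj) :
    ∃ m, m < n ∧ ∃ y : Over.mk t ⟶ V m, (yon S).map y ≫ f m ≫ (j (m + 1)).hom = x := by
  classical
  obtain ⟨z, hz⟩ : ∃ z : Over.mk (HenselSite.xi R ≫ t) ⟶ Over.mk t,
      z = Over.homMk (HenselSite.xi R) rfl := ⟨_, rfl⟩
  obtain ⟨q, hq⟩ : ∃ q : FieldPt X.obj, q = fieldPtOfHom (IsLocalRing.ResidueField R)
      (HenselSite.xi R ≫ t) ((yon S).map z ≫ x) := ⟨_, rfl⟩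
  obtain ⟨P', hP'def⟩ : ∃ P' : ℕ → Prop,
      P' = fun m => Points.mk q ∈ Set.range (Points.map (j (m + 1)).hom) := ⟨_, rfl⟩
  have hP' : ∀ m, P' m ↔ Points.mk q ∈ Set.range (Points.map (j (m + 1)).hom) := fun m => by
    rw [hP'def]
  have hP0 : P' 0 := by
    rw [hP']
    refine ⟨Points.map (inv (j 1)).hom (Points.mk q), ?_⟩
    rw [← Points.map_comp]
    have h0 : (inv (j 1)).hom ≫ (j 1).hom = 𝟙 X.obj :=
      congrArg (fun m => m.hom) (IsIso.inv_hom_id (j 1))
    rw [h0, Points.map_id]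
  have hPn : ¬ P' n := by
    rw [hP']
    rintro ⟨w, -⟩
    exact hE.false w
  obtain ⟨m, hmdef⟩ : ∃ m, m = Nat.findGreatest P' n := ⟨_, rfl⟩
  have hm : P' m := hmdef ▸ Nat.findGreatest_spec (Nat.zero_le n) hP0
  have hmn : m < n := by
    rcases Nat.lt_or_ge m n with h | h
    · exact h
    · exfalso
      have hle : m ≤ n := hmdef ▸ Nat.findGreatest_le n
      have : m = n := le_antisymm hle h
      exact hPn (this ▸ hm)
  have hm1 : ¬ P' (m + 1) :=
    Nat.findGreatest_is_greatest (hmdef ▸ Nat.lt_succ_self m) hmn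
  -- the point factors through the open `Uo (m + 1)`
  have hopen : IsOpen (Set.range (Points.map (j (m + 1)).hom)) :=
    DenseFin.isOpen_range_map_of_etale (Uo (m + 1)).property (j (m + 1)).hom
      (repWith_mono (fun _ _ g hg => by
        have : IsOpenImmersion g := hg
        exact (inferInstance : Etale g)) _ (h1 (m + 1)))
  have hclosed : (HenselSite.xi R) (IsLocalRing.closedPoint (IsLocalRing.ResidueField R)) =
      IsLocalRing.closedPoint R :=
    IsLocalRing.comap_closedPoint (S := IsLocalRing.ResidueField R) (IsLocalRing.residue R)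
  have hξ : Points.mk q = Points.ofPt x (IsLocalRing.closedPoint R) := by
    rw [hq, Strata.mk_fieldPtOfHom_eq_ofPt, ofPt_yon_map_comp, hz]
    exact congrArg (Points.ofPt x) hclosed
  have hsub : Set.range (Points.map x) ⊆ Set.range (Points.map (j (m + 1)).hom) := by
    rw [SchLocus.range_map_yon]
    rintro _ ⟨s, rfl⟩
    have hsp : Points.ofPt x s ⤳ Points.ofPt x (IsLocalRing.closedPoint R) :=
      (IsLocalRing.specializes_closedPoint (s : PrimeSpectrum R)).map (Points.continuous_ofPt x)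
    exact hsp.mem_open hopen (hξ ▸ (hP' m).1 hm)
  obtain ⟨g', hg'⟩ := (Groth.Agent.S10194.result (j (m + 1)) (h1 (m + 1))
    (ObjectProperty.homMk x :
      (⟨(yon S).obj (Over.mk t), IsAlgSpace.yon_obj _⟩ : AlgSp.Space S) ⟶ X)).2 hsub
  have hx' : g'.hom ≫ (j (m + 1)).hom = x := congrArg (fun m => m.hom) hg'
  -- the closed point factors through the stratum
  obtain ⟨q', hq'def⟩ : ∃ q' : FieldPt (Uo (m + 1)).obj, q' = fieldPtOfHom (IsLocalRing.ResidueField R)
      (HenselSite.xi R ≫ t) ((yon S).map z ≫ g'.hom) := ⟨_, rfl⟩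
  have hq' : Points.mk q' ∈ Set.range (Points.map (i (m + 1)).hom) := by
    rw [(h4 (m + 1)).2.1]
    rintro ⟨w, hw⟩
    apply hm1
    rw [hP']
    refine ⟨w, ?_⟩
    have e1 : (j (m + 1 + 1)).hom = (k (m + 1)).hom ≫ (j (m + 1)).hom :=
      (congrArg (fun m => m.hom) (h2 (m + 1))).symm
    rw [e1, Points.map_comp, hw, hq'def, Points.map_mk, fieldPtOfHom_map, Category.assoc, hx', hq]
  haveI : Mono (i (m + 1)).hom := SchImg.mono_of_repWith_isClosedImmersion _ (h4 (m + 1)).1
  obtain ⟨l, hl⟩ := FactorMono.exists_lift_of_mem_range (T (m + 1)).property (Uo (m + 1)).property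
    (i (m + 1)).hom q' hq'
  subst hq'def
  rw [fieldPtOfHom_toHom] at hl
  have hfst : IsIso (pullback.fst (i (m + 1)).hom (f m)) :=
    hiso m _ _ _ (IsPullback.of_hasPullback _ _)
  have hmm : (l ≫ inv (pullback.fst (i (m + 1)).hom (f m)) ≫ pullback.snd (i (m + 1)).hom (f m)) ≫
      f m = (yon S).map z ≫ g'.hom := by
    simp only [Category.assoc]
    rw [← pullback.condition, IsIso.inv_hom_id_assoc, hl]
  obtain ⟨w, hw⟩ : ∃ w : Over.mk (HenselSite.xi R ≫ t) ⟶ V m, (yon S).map w =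
      (l ≫ inv (pullback.fst (i (m + 1)).hom (f m)) ≫ pullback.snd (i (m + 1)).hom (f m)) :=
    (yon S).map_surjective _
  obtain ⟨y, hy⟩ := exists_lift_of_closedPoint_lift R t (f m) (hfe m) g'.hom w (by
    rw [hw, ← hz]
    exact hmm)
  exact ⟨m, hmn, y, by rw [← Category.assoc, hy, hx']⟩

/-- Surjectivity of `X(Π Aᵢ) ⟶ Π X(Aᵢ)` for a quasi-compact quasi-separated algebraic space `X` and henselian
local rings `Aᵢ`. -/
theorem exists_of_forall_eval [QuasiSeparatedSpace ↥S] (X : AlgSp.Space S)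
    (hqc : IsQuasiCompactSp X.obj) (hqs : IsQuasiSeparatedSp X.obj)
    {ι : Type u} (A : ι → CommRingCat.{u}) [∀ i, HenselianLocalRing (A i)]
    (h : Spec (CommRingCat.of (∀ i, A i)) ⟶ S)
    (x : ∀ i : ι, (yon S).obj (Over.mk (Spec.map (CommRingCat.ofHom
      (Pi.evalRingHom (fun j => (A j : Type u)) i)) ≫ h)) ⟶ X.obj) :
    ∃ g : (yon S).obj (Over.mk h) ⟶ X.obj, ∀ i : ι, (yon S).map (Over.homMk
        (Spec.map (CommRingCat.ofHom (Pi.evalRingHom (fun j => (A j : Type u)) i)))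
        rfl : Over.mk (Spec.map (CommRingCat.ofHom (Pi.evalRingHom (fun j => (A j : Type u)) i)) ≫ h) ⟶
          Over.mk h) ≫ g = x i := by
  obtain ⟨n, Uo, j, k, T, i', h1, h2, h3, hE, h4, h5⟩ := Groth.Agent.S10419.result X hqc hqs
  choose V f hVsep hVc hfe hfs hiso using fun m : ℕ => h5 (m + 1) (Nat.le_add_left 1 m)
  have key : ∀ i : ι, ∃ m, m < n ∧ ∃ y : Over.mk (Spec.map (CommRingCat.ofHom
      (Pi.evalRingHom (fun j => (A j : Type u)) i)) ≫ h) ⟶ V m,
      (yon S).map y ≫ f m ≫ (j (m + 1)).hom = x i :=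
    fun i => exists_stratum_lift X n Uo j k T i' h1 h2 h3 hE h4 V f hfe hiso (A i)
      (Spec.map (CommRingCat.ofHom (Pi.evalRingHom (fun j => (A j : Type u)) i)) ≫ h) (x i)
  choose mi hmi y hy using key
  obtain ⟨W, hW⟩ : ∃ W : Fin n → Over S, W = fun p => V p.val := ⟨_, rfl⟩
  obtain ⟨hc⟩ := SpCoprod.isColimit_sig W
  have hWc : ∀ p, CompactSpace ↥(W p).left := fun p => by rw [hW]; exact hVc p.val
  obtain ⟨F, hF⟩ : ∃ F : (yon S).obj (SpCoprod.sig W) ⟶ X.obj,
      ∀ p : Fin n, (yon S).map (SpCoprod.sigι W p) ≫ F =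
        (eqToHom (by rw [hW]) : (yon S).obj (W p) ⟶ (yon S).obj (V p.val)) ≫
          f p.val ≫ (j (p.val + 1)).hom :=
    ⟨Cofan.IsColimit.desc hc (fun p => (eqToHom (by rw [hW]) :
        (yon S).obj (W p) ⟶ (yon S).obj (V p.val)) ≫ f p.val ≫ (j (p.val + 1)).hom),
      fun p => Cofan.IsColimit.fac hc _ p⟩
  obtain ⟨Y, hYdef⟩ : ∃ Y : ∀ i : ι, Over.mk (Spec.map (CommRingCat.ofHom
      (Pi.evalRingHom (fun j => (A j : Type u)) i)) ≫ h) ⟶ SpCoprod.sig W,
      ∀ i, (yon S).map (Y i) ≫ F = x i := by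
    subst hW
    refine ⟨fun i => y i ≫ SpCoprod.sigι (fun p : Fin n => V p.val) ⟨mi i, hmi i⟩, fun i => ?_⟩
    rw [Functor.map_comp, Category.assoc, hF]
    simp only [eqToHom_refl, Category.id_comp]
    exact hy i
  haveI : CompactSpace ↥(SpCoprod.sig W).left := by
    show CompactSpace ↥(∐ fun p : Fin n => (W p).left)
    have : Finite (sigmaOpenCover (fun p : Fin n => (W p).left)).I₀ :=
      inferInstanceAs (Finite (Fin n))
    have : ∀ p, CompactSpace ↥((sigmaOpenCover (fun p : Fin n => (W p).left)).X p) := fun p => hWc p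
    exact (sigmaOpenCover _).compactSpace
  obtain ⟨yy, hyy⟩ := pointsPi_surjective A (SpCoprod.sig W).left (fun i => (Y i).left)
  have hyy' : ∀ i, Spec.map (CommRingCat.ofHom (Pi.evalRingHom (fun j => (A j : Type u)) i)) ≫ yy =
      (Y i).left := fun i => congrFun hyy i
  have hyS : yy ≫ (SpCoprod.sig W).hom = h := by
    apply pointsPi_injective A S
    funext i
    simp only [pointsPi]
    rw [← Category.assoc, hyy' i]
    exact Over.w (Y i)
  refine ⟨(yon S).map (Over.homMk yy hyS : Over.mk h ⟶ SpCoprod.sig W) ≫ F, fun i => ?_⟩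
  rw [← Category.assoc, ← Functor.map_comp]
  have e : (Over.homMk (Spec.map (CommRingCat.ofHom (Pi.evalRingHom (fun j => (A j : Type u)) i)))
      rfl : Over.mk (Spec.map (CommRingCat.ofHom (Pi.evalRingHom (fun j => (A j : Type u)) i)) ≫ h) ⟶
        Over.mk h) ≫ (Over.homMk yy hyS : Over.mk h ⟶ SpCoprod.sig W) = Y i := by
    ext1
    exact hyy' i
  rw [e, hYdef]

end Groth.Agent.Lib.Helper16.PiPts
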