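import Mathlib
import Groth.Prelude
import Groth.Agent.Lib.Helper29.Main7286

/-!
# Helper16: the small pro-étale site has enough points

Points are given by clopen neighbourhoods of a point in a w-contractible affine object.
-/

set_option autoImplicit false
set_option backward.isDefEq.respectTransparency.types false
universe u
open CategoryTheory CategoryTheory.Limits AlgebraicGeometry Opposite

namespace Groth.Agent.Lib.Helper16.ProEtPoints

open Groth.Agent.Lib.Helper5.ProEtQcqs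

noncomputable section

variable {S : Scheme.{u}}

/-- an open of an object of the pro-étale site, as an object -/
abbrev opn (W : S.ProEt) (V : W.left.Opens) : S.ProEt := Scheme.ProEt.mk (V.ι ≫ W.hom)

/-- the inclusion of an open -/
abbrev opnι (W : S.ProEt) (V : W.left.Opens) : opn W V ⟶ W :=
  MorphismProperty.Over.homMk V.ι rfl trivial

/-- inclusions between opens -/
def opnMap (W : S.ProEt) {V V' : W.left.Opens} (h : V ≤ V') : opn W V ⟶ opn W V' :=
  MorphismProperty.Over.homMk (W.left.homOfLE h) (by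
    change W.left.homOfLE h ≫ V'.ι ≫ W.hom = V.ι ≫ W.hom
    rw [← Category.assoc, Scheme.homOfLE_ι]) trivial

lemma opnMap_ι (W : S.ProEt) {V V' : W.left.Opens} (h : V ≤ V') :
    opnMap W h ≫ opnι W V' = opnι W V := by
  apply MorphismProperty.Over.Hom.ext
  exact W.left.homOfLE_ι h

lemma opnι_cancel (W : S.ProEt) (V : W.left.Opens) {Z : S.ProEt} (a b : Z ⟶ opn W V)
    (h : a ≫ opnι W V = b ≫ opnι W V) : a = b := by
  apply MorphismProperty.Over.Hom.ext
  have h' : a.left ≫ V.ι = b.left ≫ V.ι := congrArg (fun t => t.left) h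
  exact (cancel_mono V.ι).1 h'

lemma opnι_left_mem (W : S.ProEt) (V : W.left.Opens) {Z : S.ProEt} (h : Z ⟶ opn W V)
    (z : Z.left) : (h ≫ opnι W V).left z ∈ V := by
  have h1 : V.ι (h.left z) ∈ Set.range V.ι := ⟨_, rfl⟩
  rw [Scheme.Opens.range_ι] at h1
  show (h.left ≫ V.ι) z ∈ V
  rw [Scheme.Hom.comp_apply]
  exact h1

/-- open covers are coverings of the pro-étale site -/
lemma openCover_generate_mem (W : S.ProEt) {ι : Type u} (O : ι → W.left.Opens)
    (hO : ∀ x : W.left, ∃ i, x ∈ O i) :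
    Sieve.generate (Presieve.ofArrows (fun i => opn W (O i)) (fun i => opnι W (O i))) ∈
      Scheme.ProEt.topology S W := by
  let 𝒞 : Scheme.Cover (Scheme.precoverage weMP.{u}) W.left :=
    Scheme.Cover.mkOfCovers ι (fun i => ((O i : W.left.Opens) : Scheme.{u})) (fun i => (O i).ι)
      (fun x => by
        obtain ⟨i, hi⟩ := hO x
        refine ⟨i, ?_⟩
        have : x ∈ Set.range (O i).ι := by rw [Scheme.Opens.range_ι]; exact hi
        exact this)
      (fun i => (inferInstance : WeaklyEtale (O i).ι))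
  apply Precoverage.generate_mem_toGrothendieck
  change (Presieve.ofArrows (fun i => opn W (O i)) (fun i => opnι W (O i))).map (toSch S) ∈
      Scheme.proetalePrecoverage W.left
  rw [Presieve.map_ofArrows]
  have hqc : QuasiCompactCover 𝒞.toPreZeroHypercover :=
    QuasiCompactCover.of_isOpenMap (fun i => (O i).ι.isOpenEmbedding.isOpenMap)
  exact ⟨Scheme.presieve₀_mem_qcPrecoverage_iff.2 hqc, 𝒞.mem₀⟩

/-- clopen neighbourhoods of a point -/
structure ClopenNhd (W : S.ProEt) (w : W.left) where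
  /-- the underlying open -/
  V : W.left.Opens
  clopen : IsClopen (V : Set W.left)
  mem : w ∈ V

instance (W : S.ProEt) (w : W.left) : Preorder (ClopenNhd W w) := Preorder.lift ClopenNhd.V

/-- the whole space as a clopen neighbourhood -/
def topNhd (W : S.ProEt) (w : W.left) : ClopenNhd W w :=
  ⟨⊤, by rw [TopologicalSpace.Opens.coe_top]; exact isClopen_univ, trivial⟩

instance (W : S.ProEt) (w : W.left) : Nonempty (ClopenNhd W w) := ⟨topNhd W w⟩

instance (W : S.ProEt) (w : W.left) : IsDirected (ClopenNhd W w) (· ≥ ·) :=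
  ⟨fun a b => ⟨⟨a.V ⊓ b.V, by
      rw [TopologicalSpace.Opens.coe_inf]; exact a.clopen.inter b.clopen, ⟨a.mem, b.mem⟩⟩,
    (inf_le_left : a.V ⊓ b.V ≤ a.V), (inf_le_right : a.V ⊓ b.V ≤ b.V)⟩⟩

instance (W : S.ProEt) (w : W.left) : InitiallySmall.{u + 1} (ClopenNhd W w) :=
  initiallySmall_of_essentiallySmall.{u + 1} _

/-- the cofiltered system of clopen neighbourhoods -/
def pFun (W : S.ProEt) (w : W.left) : ClopenNhd W w ⥤ S.ProEt where
  obj V := opn W V.V
  map f := opnMap W (leOfHom f)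
  map_id V := opnι_cancel W V.V _ _ (by rw [opnMap_ι, Category.id_comp])
  map_comp f g := opnι_cancel W _ _ _ (by rw [Category.assoc, opnMap_ι, opnMap_ι, opnMap_ι])

/-- auxiliary sieve: arrows whose part over `U₀` lies in the pulled back sieve -/
def auxSieve (W : S.ProEt) (U₀ : W.left.Opens) {X : S.ProEt} (R : Sieve X) (f : opn W U₀ ⟶ X) :
    Sieve W where
  arrows Z h := ∀ (Z' : S.ProEt) (k : Z' ⟶ Z) (h' : Z' ⟶ opn W U₀),
    k ≫ h = h' ≫ opnι W U₀ → (R (h' ≫ f) ∨ IsEmpty Z'.left)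
  downward_closed := by
    intro Z Z₁ h hh t Z' k h' e
    exact hh Z' (k ≫ t) h' ((Category.assoc _ _ _).trans e)

lemma auxSieve_mem (W : S.ProEt) (U₀ : W.left.Opens) (hU₀ : IsClopen (U₀ : Set W.left))
    {X : S.ProEt} (R : Sieve X) (hR : R ∈ Scheme.ProEt.topology S X) (f : opn W U₀ ⟶ X) :
    auxSieve W U₀ R f ∈ Scheme.ProEt.topology S W := by
  let Oc : W.left.Opens := ⟨(U₀ : Set W.left)ᶜ, hU₀.compl.isOpen⟩
  let O : ULift.{u} Bool → W.left.Opens := fun b => cond b.down U₀ Oc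
  have hc := openCover_generate_mem W O (fun x => by
    by_cases hx : x ∈ U₀
    · exact ⟨⟨true⟩, hx⟩
    · exact ⟨⟨false⟩, hx⟩)
  have hb1 : (auxSieve W U₀ R f).pullback (opnι W U₀) ∈ Scheme.ProEt.topology S (opn W U₀) := by
    refine (Scheme.ProEt.topology S).superset_covering ?_
      ((Scheme.ProEt.topology S).pullback_stable f hR)
    intro Z h' hh' Z' k h'' e
    have e' : k ≫ h' = h'' := opnι_cancel W U₀ _ _ ((Category.assoc _ _ _).trans e)
    refine Or.inl ?_
    rw [← e', Category.assoc]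
    exact R.downward_closed hh' k
  have hb2 : (auxSieve W U₀ R f).pullback (opnι W Oc) ∈ Scheme.ProEt.topology S (opn W Oc) := by
    refine (Scheme.ProEt.topology S).superset_covering ?_ ((Scheme.ProEt.topology S).top_mem _)
    intro Z h _ Z' k h'' e
    refine Or.inr ⟨fun z => ?_⟩
    have m1 : ((k ≫ h) ≫ opnι W Oc).left z ∈ Oc := opnι_left_mem W Oc (k ≫ h) z
    have m2 : (h'' ≫ opnι W U₀).left z ∈ U₀ := opnι_left_mem W U₀ h'' z
    have e2 : (k ≫ h) ≫ opnι W Oc = h'' ≫ opnι W U₀ := (Category.assoc _ _ _).trans e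
    rw [e2] at m1
    exact m1 m2
  refine (Scheme.ProEt.topology S).transitive hc _ ?_
  rintro Z g ⟨Z₁, t, g', ⟨b⟩, rfl⟩
  rw [Sieve.pullback_comp]
  apply (Scheme.ProEt.topology S).pullback_stable
  obtain ⟨b⟩ := b
  cases b
  · exact hb2
  · exact hb1

lemma hp_aux (W : S.ProEt) (hA : IsAffine W.left)
    (hW : EtPBC.IsWContractible ↥(Γ(W.left, ⊤))) (w : W.left)
    ⦃X : S.ProEt⦄ (R : Sieve X) (hR : R ∈ Scheme.ProEt.topology S X) ⦃U₀ : ClopenNhd W w⦄
    (f : (pFun W w).obj U₀ ⟶ X) :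
    ∃ (Y : S.ProEt) (g : Y ⟶ X) (_ : R g) (V : ClopenNhd W w) (q : V ⟶ U₀)
      (a : (pFun W w).obj V ⟶ Y), a ≫ g = (pFun W w).map q ≫ f := by
  have := hA
  obtain ⟨n, Wk, hclopen, -, hcov, hmem⟩ := Groth.Agent.Lib.Helper29.ProEtClopen.forward W hW _
    (auxSieve_mem W U₀.V U₀.clopen R hR f)
  have hw : w ∈ ⋃ k, (Wk k : Set W.left) := by rw [hcov]; trivial
  obtain ⟨k, hk⟩ := Set.mem_iUnion.1 hw
  let V : ClopenNhd W w := ⟨Wk k ⊓ U₀.V, by
    rw [TopologicalSpace.Opens.coe_inf]; exact (hclopen k).inter U₀.clopen, ⟨hk, U₀.mem⟩⟩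
  have hle : V ≤ U₀ := (inf_le_right : Wk k ⊓ U₀.V ≤ U₀.V)
  have h1 := hmem k (opn W V.V) (opnMap W (inf_le_left : Wk k ⊓ U₀.V ≤ Wk k))
    (opnMap W (inf_le_right : Wk k ⊓ U₀.V ≤ U₀.V))
    ((opnMap_ι W _).trans (opnMap_ι W _).symm)
  rcases h1 with h1 | h1
  · exact ⟨(pFun W w).obj V, opnMap W (inf_le_right : Wk k ⊓ U₀.V ≤ U₀.V) ≫ f, h1, V, homOfLE hle,
      𝟙 _, Category.id_comp _⟩
  · exfalso
    have hm : w ∈ Set.range V.V.ι := by rw [Scheme.Opens.range_ι]; exact V.mem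
    obtain ⟨y, -⟩ := hm
    exact h1.false y

/-- index type for the conservative family of points -/
structure Idx (S : Scheme.{u}) where
  /-- the w-contractible affine object -/
  W : S.ProEt
  aff : IsAffine W.left
  wc : EtPBC.IsWContractible ↥(Γ(W.left, ⊤))
  /-- the point -/
  w : W.left

/-- the point of the pro-étale site attached to a point of a w-contractible affine object -/
def pt (i : Idx S) : GrothendieckTopology.Point.{u + 1} (Scheme.ProEt.topology S) :=
  GrothendieckTopology.Point.ofIsCofiltered.{u + 1} (pFun i.W i.w) (hp_aux i.W i.aff i.wc i.w)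

open GrothendieckTopology.Point.ofIsCofiltered in
lemma exists_clopen_mem_pullback (i : Idx S) {X : S.ProEt} (g : i.W ⟶ X) (R : Sieve X)
    (hR : ∃ (Y : S.ProEt) (g' : Y ⟶ X) (_ : R g') (y : (pt i).fiber.obj Y),
      (pt i).fiber.map g' y = fiberMk.{u + 1} (p := pFun i.W i.w) (U := topNhd i.W i.w)
        (opnι i.W ⊤ ≫ g)) :
    ∃ O : i.W.left.Opens, i.w ∈ O ∧ (R.pullback g) (opnι i.W O) := by
  obtain ⟨Y, g', hg', y, hy⟩ := hR
  obtain ⟨V₁, a, rfl⟩ := fiberMk_jointly_surjective.{u + 1} (p := pFun i.W i.w) y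
  have e1 : fiberMk.{u + 1} (p := pFun i.W i.w) (a ≫ g') =
      fiberMk.{u + 1} (p := pFun i.W i.w) (U := topNhd i.W i.w) (opnι i.W ⊤ ≫ g) :=
    (fiber_map_fiberMk.{u + 1} (pFun i.W i.w) a g').symm.trans hy
  have hq : V₁ ≤ topNhd i.W i.w := (le_top : V₁.V ≤ ⊤)
  have e2 : fiberMk.{u + 1} (p := pFun i.W i.w) (a ≫ g') =
      fiberMk.{u + 1} (p := pFun i.W i.w)
        ((pFun i.W i.w).map (homOfLE hq) ≫ opnι i.W ⊤ ≫ g) :=
    e1.trans (fiberMk_map_comp.{u + 1} (pFun i.W i.w) (homOfLE hq) (opnι i.W ⊤ ≫ g)).symm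
  obtain ⟨V₂, r, hr⟩ := exists_of_fiberMk_eq_fiberMk.{u + 1} e2
  refine ⟨V₂.V, V₂.mem, ?_⟩
  have e4 : (pFun i.W i.w).map r ≫ (pFun i.W i.w).map (homOfLE hq) ≫ opnι i.W ⊤ =
      opnι i.W V₂.V :=
    (congrArg (fun t => (pFun i.W i.w).map r ≫ t) (opnMap_ι i.W _)).trans (opnMap_ι i.W _)
  have e3 : opnι i.W V₂.V ≫ g = (pFun i.W i.w).map r ≫ a ≫ g' :=
    ((congrArg (fun t => t ≫ g) e4.symm).trans
      ((Category.assoc _ _ _).trans
        (congrArg (fun t => (pFun i.W i.w).map r ≫ t) (Category.assoc _ _ _)))).trans hr.symm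
  show R (opnι i.W V₂.V ≫ g)
  rw [e3]
  exact R.downward_closed (R.downward_closed hg' a) _

theorem conservative :
    (ObjectProperty.ofObj (pt (S := S))).IsConservativeFamilyOfPoints := by
  refine .mk' (fun X R hR => ?_)
  obtain ⟨ι, V, g, hcov, hV⟩ := Groth.Agent.Lib.Helper29.Main7286.main7286 X
  refine (Scheme.ProEt.topology S).transitive hcov R ?_
  rintro Z t ⟨Z₁, t', g', ⟨j⟩, rfl⟩
  rw [Sieve.pullback_comp]
  apply (Scheme.ProEt.topology S).pullback_stable
  have key : ∀ w : (V j).left, ∃ O : (V j).left.Opens, w ∈ O ∧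
      (R.pullback (g j)) (opnι (V j) O) := fun w => by
    have hmem : ObjectProperty.ofObj (pt (S := S)) (pt ⟨V j, (hV j).1, (hV j).2, w⟩) :=
      ⟨(⟨V j, (hV j).1, (hV j).2, w⟩ : Idx S)⟩
    exact exists_clopen_mem_pullback ⟨V j, (hV j).1, (hV j).2, w⟩ (g j) R
      (hR ⟨pt ⟨V j, (hV j).1, (hV j).2, w⟩, hmem⟩ _)
  choose O hO1 hO2 using key
  refine (Scheme.ProEt.topology S).superset_covering ?_
    (openCover_generate_mem (V j) O (fun x => ⟨x, hO1 x⟩))
  rw [Sieve.generate_le_iff, Presieve.ofArrows_le_iff]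
  exact fun x => hO2 x

theorem main (S : Scheme.{u}) :
    GrothendieckTopology.HasEnoughPoints.{u + 1} (Scheme.ProEt.topology S) :=
  ⟨⟨_, inferInstance, conservative⟩⟩

end

end Groth.Agent.Lib.Helper16.ProEtPoints
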