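import Mathlib
import Groth.Prelude.Def_ModSite
import Groth.Prelude.Def_AlgSpPerf

set_option autoImplicit false
universe u
open CategoryTheory CategoryTheory.Limits Opposite

namespace H16PullUnit

section Types

variable {C : Type u} [SmallCategory C] {D : Type u} [SmallCategory D]
  {J : GrothendieckTopology C} {K : GrothendieckTopology D}

/-- the terminal sheaf of types -/
noncomputable abbrev one (J : GrothendieckTopology C) : Sheaf J (Type u) :=
  Sheaf.terminal J Types.isTerminalPUnit

/-- a section as a morphism from the terminal sheaf -/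
noncomputable def toHom (G : Sheaf K (Type u)) (s : G.obj.sections) : one K ⟶ G :=
  ⟨(G.obj.sectionsEquivHom PUnit) s⟩

theorem toHom_app (G : Sheaf K (Type u)) (s : G.obj.sections) (X : Dᵒᵖ) (x : PUnit) :
    (toHom G s).hom.app X x = s.1 X := rfl

/-- a morphism from the terminal sheaf as a section -/
noncomputable def ofHom (G : Sheaf K (Type u)) (α : one K ⟶ G) : G.obj.sections :=
  (G.obj.sectionsEquivHom PUnit).symm α.hom

theorem ofHom_val (G : Sheaf K (Type u)) (α : one K ⟶ G) (X : Dᵒᵖ) :
    (ofHom G α).1 X = α.hom.app X PUnit.unit := rfl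

theorem toHom_injective (G : Sheaf K (Type u)) : Function.Injective (toHom G) := by
  intro s t h
  apply Subtype.ext
  funext X
  have := congrArg (fun α => α.hom.app X PUnit.unit) h
  exact this

variable (F : C ⥤ D) [F.IsContinuous J K]

theorem key (G : Sheaf K (Type u)) (α : one K ⟶ G)
    (v : one J ⟶ (F.sheafPushforwardContinuous (Type u) J K).obj (one K)) (X : Cᵒᵖ) (x : PUnit) :
    ((v ≫ (F.sheafPushforwardContinuous (Type u) J K).map α).hom.app X) x =
      α.hom.app (F.op.obj X) PUnit.unit := by
  show α.hom.app (F.op.obj X) (v.hom.app X x) = _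
  rfl

/-- sections of a sheaf on the target agree with sections of its direct image -/
theorem bijective_pre (J : GrothendieckTopology C) (K : GrothendieckTopology D)
    (F : C ⥤ D) [F.IsContinuous J K]
    [PreservesFiniteLimits (F.sheafPullback (Type u) J K)] (G : Sheaf K (Type u)) :
    Function.Bijective (fun s : G.obj.sections =>
      (⟨fun X => s.1 (F.op.obj X), fun f => s.2 (F.op.map f)⟩ : (F.op ⋙ G.obj).sections)) := by
  have hterm : IsTerminal ((F.sheafPullback (Type u) J K).obj (one J)) :=
    IsTerminal.isTerminalObj _ _ (Sheaf.isTerminalTerminal J Types.isTerminalPUnit)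
  let e : (F.sheafPullback (Type u) J K).obj (one J) ≅ one K :=
    hterm.uniqueUpToIso (Sheaf.isTerminalTerminal K Types.isTerminalPUnit)
  let adj := F.sheafAdjunctionContinuous (Type u) J K
  have claim : ∀ (α : one K ⟶ G) (X : Cᵒᵖ) (x : PUnit),
      ((adj.homEquiv _ _ (e.hom ≫ α)).hom.app X) x = α.hom.app (F.op.obj X) PUnit.unit := by
    intro α X x
    rw [Adjunction.homEquiv_unit, Functor.map_comp, ← Category.assoc]
    exact key F G α _ X x
  constructor
  · intro s t hst
    apply toHom_injective G
    have h1 : adj.homEquiv _ _ (e.hom ≫ toHom G s) = adj.homEquiv _ _ (e.hom ≫ toHom G t) := by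
      apply Sheaf.hom_ext
      ext X x
      refine (claim (toHom G s) X x).trans (Eq.trans ?_ (claim (toHom G t) X x).symm)
      exact congrArg (fun r => r.1 X) hst
    have h2 := (adj.homEquiv _ _).injective h1
    exact (cancel_epi e.hom).mp h2
  · intro t
    let γ : one J ⟶ (F.sheafPushforwardContinuous (Type u) J K).obj G :=
      ⟨((F.op ⋙ G.obj).sectionsEquivHom PUnit) t⟩
    let β := (adj.homEquiv _ _).symm γ
    refine ⟨ofHom G (e.inv ≫ β), ?_⟩
    apply Subtype.ext
    funext X
    show (e.inv ≫ β).hom.app (F.op.obj X) PUnit.unit = t.1 X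
    rw [← claim (e.inv ≫ β) X PUnit.unit, Iso.hom_inv_id_assoc, Equiv.apply_symm_apply]
    rfl

end Types

section Modules

variable {C : Type u} [SmallCategory C] {D : Type u} [SmallCategory D]
  {J : GrothendieckTopology C} {K : GrothendieckTopology D} {F : C ⥤ D}
  {S : Sheaf J RingCat.{u}} {R : Sheaf K RingCat.{u}}
  [Functor.IsContinuous F J K]
  (φ : S ⟶ (F.sheafPushforwardContinuous RingCat.{u} J K).obj R)

/-- the underlying sheaf of types of a sheaf of modules -/
noncomputable def GM (M : SheafOfModules.{u} R) : Sheaf K (Type u) :=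
  (sheafCompose K (forget AddCommGrpCat.{u})).obj ((SheafOfModules.toSheaf R).obj M)

theorem bijective_pushforwardSections [PreservesFiniteLimits (F.sheafPullback (Type u) J K)]
    (M : SheafOfModules.{u} R) :
    Function.Bijective (SheafOfModules.pushforwardSections φ (M := M)) := by
  have h := bijective_pre J K F (GM M)
  constructor
  · intro a b hab
    have := h.1 (a₁ := a) (a₂ := b) (Subtype.ext (funext fun X => congrArg (fun t => t.1 X) hab))
    exact this
  · intro t
    obtain ⟨s, hs⟩ := h.2 t
    exact ⟨s, Subtype.ext (funext fun X => congrArg (fun r => r.1 X) hs)⟩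

variable [(SheafOfModules.pushforward.{u} φ).IsRightAdjoint]
  [PreservesFiniteLimits (F.sheafPullback (Type u) J K)]

theorem isIso_pullbackObjUnitToUnit :
    IsIso (SheafOfModules.pullbackObjUnitToUnit φ) := by
  rw [isIso_iff_coyoneda_map_bijective]
  intro M
  rw [← ((SheafOfModules.pullbackPushforwardAdjunction.{u} φ).homEquiv _ _).bijective.of_comp_iff',
    ← (SheafOfModules.unitHomEquiv _).bijective.of_comp_iff']
  convert! (bijective_pushforwardSections φ M).comp (SheafOfModules.unitHomEquiv _).bijective
  ext f : 1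
  dsimp
  rw [SheafOfModules.pushforwardSections_unitHomEquiv, EmbeddingLike.apply_eq_iff_eq,
    Adjunction.homEquiv_naturality_right,
    SheafOfModules.pullbackPushforwardAdjunction_homEquiv_pullbackObjUnitToUnit]

/-- the pullback of a free module is free -/
noncomputable def pullFreeIso (I : Type u) :
    (SheafOfModules.pullback.{u} φ).obj (SheafOfModules.free (R := S) I) ≅
      SheafOfModules.free (R := R) I :=
  haveI := isIso_pullbackObjUnitToUnit φ
  (asIso (sigmaComparison _ _)).symm ≪≫
    Sigma.mapIso (fun _ ↦ asIso (SheafOfModules.pullbackObjUnitToUnit φ))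

end Modules

section RMor

variable {C : Type u} [SmallCategory C] {J : GrothendieckTopology C} {O_C : Sheaf J CommRingCat.{u}}
  {D : Type u} [SmallCategory D] {K : GrothendieckTopology D} {O_D : Sheaf K CommRingCat.{u}}

theorem strictlyPerfect_pull (f : ModSite.RMor O_C O_D) (E : CochainComplex (ModSite.Mod O_D) ℤ)
    (hE : DCoh.IsStrictlyPerfectMod (ModSite.ringSh O_D) E) :
    DCoh.IsStrictlyPerfectMod (ModSite.ringSh O_C)
      ((f.pull.mapHomologicalComplex (ComplexShape.up ℤ)).obj E) := by
  obtain ⟨⟨a, b, hab⟩, hfree⟩ := hE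
  refine ⟨⟨a, b, fun i hi => ?_⟩, fun i => ?_⟩
  · exact f.pull.map_isZero (hab i hi)
  · obtain ⟨n, ι, p, hιp⟩ := hfree i
    let e := pullFreeIso f.sharpR (ULift.{u} (Fin n))
    have h1 : (f.pull.map ι ≫ e.hom) ≫ (e.inv ≫ f.pull.map p) = 𝟙 (f.pull.obj (E.X i)) := by
      rw [Category.assoc, Iso.hom_inv_id_assoc, ← Functor.map_comp, hιp, CategoryTheory.Functor.map_id]
    exact ⟨n, f.pull.map ι ≫ e.hom, e.inv ≫ f.pull.map p, h1⟩

end RMor

end H16PullUnit
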