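import Groth.Agent.S7547
import Groth.Agent.S3433
import Groth.Agent.Lib.Helper16.Fibres
import Groth.Agent.Lib.Helper16.JacobsonDecent
import Mathlib.Topology.Spectral.Basic
import Mathlib.AlgebraicGeometry.Noetherian

/-!
# Helper library (helper16): the punctured set of generizations of a point of a decent locally Noetherian
algebraic space
-/

set_option autoImplicit false
universe u
open CategoryTheory CategoryTheory.Limits AlgebraicGeometry Opposite Topology TopologicalSpace

namespace Groth.Agent.Lib.Helper16.PuncGen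

section Top

variable {T : Type*} [TopologicalSpace T]

/-- A subspace stable under generization of a quasi-sober space is quasi-sober. -/
theorem quasiSober_subtype_of_stableUnderGeneralization [QuasiSober T] (p : T → Prop)
    (hp : ∀ ⦃a b : T⦄, b ⤳ a → p a → p b) : QuasiSober (Subtype p) := by
  constructor
  intro E hEirr hEcl
  have hirr : IsIrreducible (closure (Subtype.val '' E)) :=
    (hEirr.image _ continuous_subtype_val.continuousOn).closure
  obtain ⟨ξ, hξ⟩ := QuasiSober.sober hirr isClosed_closure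
  obtain ⟨e, he⟩ := hEirr.nonempty
  have hξe : ξ ⤳ e.1 := hξ.specializes (subset_closure ⟨e, he, rfl⟩)
  have hξW : p ξ := hp hξe e.2
  refine ⟨⟨ξ, hξW⟩, ?_⟩
  show closure {(⟨ξ, hξW⟩ : Subtype p)} = E
  have hind : Topology.IsInducing (Subtype.val : Subtype p → T) := ⟨rfl⟩
  rw [hind.closure_eq_preimage_closure_image, Set.image_singleton, hξ.def,
    ← hind.closure_eq_preimage_closure_image, hEcl.closure_eq]

/-- A subspace of a Noetherian subspace is Noetherian. -/
theorem noetherianSpace_subtype_of_subset (p : T → Prop) (O : Set T) [NoetherianSpace ↥O]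
    (h : ∀ t, p t → t ∈ O) : NoetherianSpace (Subtype p) := by
  let j : Subtype p → ↥O := fun w => ⟨w.1, h w.1 w.2⟩
  have hj : Topology.IsInducing j := by
    refine Topology.IsInducing.of_comp (g := Subtype.val) ?_ continuous_subtype_val
      (⟨rfl⟩ : Topology.IsInducing (Subtype.val : Subtype p → T))
    exact continuous_subtype_val.subtype_mk _
  exact hj.noetherianSpace

/-- A Noetherian quasi-sober Kolmogorov space is spectral. -/
theorem spectralSpace_of_noetherian [T0Space T] [NoetherianSpace T] [QuasiSober T] : SpectralSpace T where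
  __ := (inferInstance : T0Space T)
  __ := (inferInstance : CompactSpace T)
  __ := (inferInstance : QuasiSober T)
  __ := (inferInstance : PrespectralSpace T)
  __ := (inferInstance : QuasiSeparatedSpace T)

end Top

section Alg

open AlgSp Groth.Agent.Lib.Helper16

variable {S : Scheme.{u}}

/-- Generizations lift along an etale chart of a decent sheaf. -/
theorem exists_specializes_of_specializes_ofPt {X : Sp S} (hd : IsDecent X) {U : Over S}
    (a : (yon S).obj U ⟶ X) (ha : RepWith @Etale a) (v : ↥U.left) (t : Points X)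
    (ht : t ⤳ Points.ofPt a v) : ∃ z : ↥U.left, z ⤳ v ∧ Points.ofPt a z = t := by
  have hopen := isOpenMap_ofPt_of_etale a ha
  have hcont := Points.continuous_ofPt a
  have h1 : v ∈ closure (Points.ofPt a ⁻¹' {t}) := by
    rw [← hopen.preimage_closure_eq_closure_preimage hcont]
    exact specializes_iff_mem_closure.1 ht
  obtain ⟨_, ⟨V', hV', rfl⟩, hvV', -⟩ :=
    U.left.isBasis_affineOpens.exists_subset_of_mem_open (Set.mem_univ v) isOpen_univ
  have hfin := FtPt.finite_fibre_inter_affine hd a ha t V' hV'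
  have h2 : v ∈ closure ((Points.ofPt a ⁻¹' {t}) ∩ (V' : Set ↥U.left)) := by
    have := V'.2.inter_closure (t := Points.ofPt a ⁻¹' {t}) ⟨hvV', h1⟩
    rwa [Set.inter_comm] at this
  rw [← Set.biUnion_of_singleton ((Points.ofPt a ⁻¹' {t}) ∩ (V' : Set ↥U.left)),
    hfin.closure_biUnion] at h2
  obtain ⟨z, hz, hvz⟩ := Set.mem_iUnion₂.1 h2
  exact ⟨z, specializes_iff_mem_closure.2 hvz, hz.1⟩

/-- The punctured set of generizations of a point of a decent locally Noetherian algebraic space is Jacobson. -/
theorem jacobsonSpace_puncGen {X : Sp S} (hd : IsDecent X) (hN : IsLocNoethSp X)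
    (x : Points X) [T0Space (Points X)] [NoetherianSpace {x' : Points X // x' ⤳ x ∧ x' ≠ x}] :
    JacobsonSpace {x' : Points X // x' ⤳ x ∧ x' ≠ x} := by
  by_contra hJ
  obtain ⟨w, hwncl, hwlc⟩ := Groth.Agent.S7547.result hJ
  obtain ⟨U, p, hpe, hps, hU⟩ := id hN
  haveI : IsLocallyNoetherian U.left := hU
  obtain ⟨u, hu⟩ := ofPt_surjective_of_surjective p hps x
  let g := U.left.fromSpecStalk u
  have hgemb : Topology.IsEmbedding g := g.isEmbedding
  have hgc : g (IsLocalRing.closedPoint (U.left.presheaf.stalk u)) = u := Scheme.fromSpecStalk_closedPoint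
  let π : PrimeSpectrum (U.left.presheaf.stalk u) → Points X := fun q => Points.ofPt p (g q)
  have hπc : Continuous π := (Points.continuous_ofPt p).comp g.continuous
  have hπcl : π (IsLocalRing.closedPoint (U.left.presheaf.stalk u)) = x := by
    show Points.ofPt p (g _) = x
    rw [hgc, hu]
  -- fibre discreteness
  have hdisc : ∀ q q' : PrimeSpectrum (U.left.presheaf.stalk u), q' ⤳ q → π q' = π q → q' = q := by
    intro q q' hs he
    have h1 : g q' ⤳ g q := hs.map g.continuous
    have := eq_of_specializes_of_isLocNoethSp hN p hpe (g q) (g q') he.symm h1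
    exact (hgemb.injective this).symm
  -- lifting generizations
  have hlift : ∀ (q : PrimeSpectrum (U.left.presheaf.stalk u)) (t : Points X), t ⤳ π q →
      ∃ q' : PrimeSpectrum (U.left.presheaf.stalk u), q' ⤳ q ∧ π q' = t := by
    intro q t ht
    obtain ⟨z, hz, hzt⟩ := exists_specializes_of_specializes_ofPt hd p hpe (g q) t ht
    have hqc : g q ⤳ u := by
      have := (IsLocalRing.specializes_closedPoint q).map g.continuous
      rwa [hgc] at this
    have hzu : z ⤳ u := hz.trans hqc
    have hzr : z ∈ Set.range g := by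
      rw [Scheme.range_fromSpecStalk]; exact hzu
    obtain ⟨q', rfl⟩ := hzr
    exact ⟨q', hgemb.isInducing.specializes_iff.1 hz, hzt⟩
  -- points away from the closed point map to the punctured set
  have hpunc : ∀ r : PrimeSpectrum (U.left.presheaf.stalk u),
      r ≠ IsLocalRing.closedPoint (U.left.presheaf.stalk u) → π r ⤳ x ∧ π r ≠ x := by
    intro r hr
    refine ⟨?_, fun h => hr ?_⟩
    · have := (IsLocalRing.specializes_closedPoint r).map hπc
      rwa [hπcl] at this
    · exact hdisc _ r (IsLocalRing.specializes_closedPoint r) (h.trans hπcl.symm)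
  have hJP : JacobsonSpace
      ↥({IsLocalRing.closedPoint (U.left.presheaf.stalk u)}ᶜ : Set (PrimeSpectrum (U.left.presheaf.stalk u))) :=
    (Groth.Agent.S3433.result (U.left.presheaf.stalk u)).1
  -- a proper specialization of `w`
  have hex : ∃ w' : {x' : Points X // x' ⤳ x ∧ x' ≠ x}, w ⤳ w' ∧ w' ≠ w := by
    by_contra hne
    push_neg at hne
    apply hwncl
    rw [← closure_subset_iff_isClosed]
    intro w' hw'
    exact hne w' (specializes_iff_mem_closure.2 hw')
  obtain ⟨w', hww', hw'ne⟩ := hex
  have hww'T : w.1 ⤳ w'.1 := (subtype_specializes_iff w w').1 hww'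
  obtain ⟨p', -, hp'w⟩ := hlift (IsLocalRing.closedPoint _) w'.1 (by rw [hπcl]; exact w'.2.1)
  obtain ⟨q, hqs, hqw⟩ := hlift p' w.1 (by rw [hp'w]; exact hww'T)
  have hqP : q ≠ IsLocalRing.closedPoint (U.left.presheaf.stalk u) := by
    intro h
    apply w.2.2
    rw [← hqw, h, hπcl]
  have hp'P : p' ≠ IsLocalRing.closedPoint (U.left.presheaf.stalk u) := by
    intro h
    apply w'.2.2
    rw [← hp'w, h, hπcl]
  let qP : ↥({IsLocalRing.closedPoint (U.left.presheaf.stalk u)}ᶜ :
      Set (PrimeSpectrum (U.left.presheaf.stalk u))) := ⟨q, hqP⟩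
  let p'P : ↥({IsLocalRing.closedPoint (U.left.presheaf.stalk u)}ᶜ :
      Set (PrimeSpectrum (U.left.presheaf.stalk u))) := ⟨p', hp'P⟩
  have hlc : IsLocallyClosed ({qP} : Set ↥({IsLocalRing.closedPoint (U.left.presheaf.stalk u)}ᶜ :
      Set (PrimeSpectrum (U.left.presheaf.stalk u)))) := by
    obtain ⟨N, Z, hNo, hZc, hNZ⟩ := hwlc
    obtain ⟨N₀, hN₀o, rfl⟩ := isOpen_induced_iff.1 hNo
    obtain ⟨Z₀, hZ₀c, rfl⟩ := isClosed_induced_iff.1 hZc
    have hwNZ : w ∈ (Subtype.val ⁻¹' N₀ ∩ Subtype.val ⁻¹' Z₀ :
        Set {x' : Points X // x' ⤳ x ∧ x' ≠ x}) := by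
      rw [← hNZ]; rfl
    have heq : ({qP} : Set ↥({IsLocalRing.closedPoint (U.left.presheaf.stalk u)}ᶜ :
        Set (PrimeSpectrum (U.left.presheaf.stalk u)))) =
        ((fun r => π r.1) ⁻¹' N₀) ∩ closure {qP} := by
      ext r
      constructor
      · rintro rfl
        refine ⟨?_, subset_closure rfl⟩
        show π q ∈ N₀
        rw [hqw]
        exact hwNZ.1
      · rintro ⟨hrN, hrcl⟩
        have hs : qP ⤳ r := specializes_iff_mem_closure.2 hrcl
        have hs' : q ⤳ r.1 := (subtype_specializes_iff qP r).1 hs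
        have hπs : w.1 ⤳ π r.1 := by
          have := hs'.map hπc
          rwa [hqw] at this
        have hrZ : π r.1 ∈ Z₀ := hπs.mem_closed hZ₀c hwNZ.2
        have hrW := hpunc r.1 r.2
        have hmem : (⟨π r.1, hrW⟩ : {x' : Points X // x' ⤳ x ∧ x' ≠ x}) ∈
            (Subtype.val ⁻¹' N₀ ∩ Subtype.val ⁻¹' Z₀ : Set {x' : Points X // x' ⤳ x ∧ x' ≠ x}) :=
          ⟨hrN, hrZ⟩
        rw [← hNZ] at hmem
        have hπeq : π r.1 = w.1 := congrArg Subtype.val (Set.mem_singleton_iff.1 hmem)
        have : q = r.1 := hdisc r.1 q hs' (by rw [hqw, hπeq])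
        exact Set.mem_singleton_iff.2 (Subtype.ext this.symm)
    rw [heq]
    exact (hN₀o.preimage (hπc.comp continuous_subtype_val)).isLocallyClosed.inter
      isClosed_closure.isLocallyClosed
  have hcl : IsClosed ({qP} : Set ↥({IsLocalRing.closedPoint (U.left.presheaf.stalk u)}ᶜ :
      Set (PrimeSpectrum (U.left.presheaf.stalk u)))) := isClosed_singleton_of_isLocallyClosed_singleton hlc
  have hsp : qP ⤳ p'P := (subtype_specializes_iff qP p'P).2 hqs
  have hmem : p'P ∈ ({qP} : Set _) := hsp.mem_closed hcl rfl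
  have hpq : p' = q := congrArg Subtype.val (Set.mem_singleton_iff.1 hmem)
  apply hw'ne
  apply Subtype.ext
  rw [← hp'w, ← hqw, hpq]

end Alg

end Groth.Agent.Lib.Helper16.PuncGen
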