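import Mathlib

/-!
# Pushforward of (pre)sheaves of modules preserves finite limits (general sites)
-/

universe v v₁ v₂ u₁ u₂ u

open CategoryTheory Limits

namespace Groth.Agent.Lib.Helper16.PushLim

section Presheaf

variable {C : Type u₁} [Category.{v₁} C] {D : Type u₂} [Category.{v₂} D]
  {F : C ⥤ D} {R : Dᵒᵖ ⥤ RingCat.{u}} {S : Cᵒᵖ ⥤ RingCat.{u}} (φ : S ⟶ F.op ⋙ R)

theorem preservesFiniteLimits_presheaf_pushforward :
    PreservesFiniteLimits (PresheafOfModules.pushforward.{v} φ) := by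
  refine ⟨fun Jc _ _ => ⟨fun {K} => ⟨fun {c} hc => ⟨?_⟩⟩⟩⟩
  refine PresheafOfModules.evaluationJointlyReflectsLimits _ _ (fun X => ?_)
  exact isLimitOfPreserves (PresheafOfModules.evaluation.{v} R (F.op.obj X) ⋙
    ModuleCat.restrictScalars (φ.app X).hom) hc

end Presheaf

section Sheaf

variable {C : Type u₁} [Category.{v₁} C] {D : Type u₂} [Category.{v₂} D]
  {J : GrothendieckTopology C} {K : GrothendieckTopology D} {F : C ⥤ D}
  {S : Sheaf J RingCat.{u}} {R : Sheaf K RingCat.{u}} [Functor.IsContinuous F J K]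
  (φ : S ⟶ (F.sheafPushforwardContinuous RingCat.{u} J K).obj R)

theorem preservesFiniteLimits_pushforward :
    PreservesFiniteLimits (SheafOfModules.pushforward.{v} φ) := by
  have := preservesFiniteLimits_presheaf_pushforward.{v} φ.hom
  refine ⟨fun Jc _ _ => ⟨fun {K} => ⟨fun {c} hc => ⟨?_⟩⟩⟩⟩
  apply isLimitOfReflects (SheafOfModules.forget S)
  exact isLimitOfPreserves (SheafOfModules.forget R ⋙ PresheafOfModules.pushforward.{v} φ.hom) hc

end Sheaf

end Groth.Agent.Lib.Helper16.PushLim
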