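import Mathlib

/-!
# Helper library (helper16): the direct image of sheaves of modules along a cover dense continuous functor
with locally surjective comparison of structure sheaves is fully faithful, as soon as it is so on abelian
sheaves
-/

set_option autoImplicit false
universe v₁ u₁ v₂ u₂ v w
open CategoryTheory CategoryTheory.Limits Opposite

namespace Groth.Agent.Lib.Helper16.PushModFF

variable {C : Type u₁} [Category.{v₁} C] {D : Type u₂} [Category.{v₂} D]
  {J : GrothendieckTopology C} {K : GrothendieckTopology D} (F : C ⥤ D) [F.IsContinuous J K]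
  {R : Sheaf J RingCat.{w}} {Sr : Sheaf K RingCat.{w}}
  (φ : R ⟶ (F.sheafPushforwardContinuous RingCat.{w} J K).obj Sr)

theorem push_map_apply {M N : SheafOfModules.{v} Sr} (f : M ⟶ N) (E : C)
    (m : M.val.obj (op (F.obj E))) :
    (((SheafOfModules.pushforward.{v} φ).map f).val.app (op E)).hom m =
      (f.val.app (op (F.obj E))).hom m := rfl

theorem faithful_pushforward [F.IsCoverDense K] [K.HasSheafCompose (forget AddCommGrpCat.{v})] :
    (SheafOfModules.pushforward.{v} φ).Faithful := by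
  constructor
  intro M N f f' h
  apply SheafOfModules.hom_ext
  apply PresheafOfModules.hom_ext
  intro W
  ext m
  refine (N.isSheaf.isSeparated) W.unop (Sieve.coverByImage F W.unop)
    (F.is_cover_of_isCoverDense _ W.unop) _ _ ?_
  rintro W' g ⟨⟨E, lift, map, fac⟩⟩
  show N.val.map g.op (f.val.app W m) = N.val.map g.op (f'.val.app W m)
  have hE : ∀ m₁ : M.val.obj (op (F.obj E)),
      f.val.app (op (F.obj E)) m₁ = f'.val.app (op (F.obj E)) m₁ := by
    intro m₁
    have := push_map_apply F φ f E m₁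
    have h2 := push_map_apply F φ f' E m₁
    rw [h] at this
    exact this.symm.trans h2
  have hg : g.op = map.op ≫ lift.op := by rw [← op_comp, fac]
  have e1 : ∀ k : M ⟶ N, N.val.map lift.op (N.val.map map.op (k.val.app W m)) =
      N.val.map lift.op (k.val.app (op (F.obj E)) (M.val.map map.op m)) := fun k => by
    rw [PresheafOfModules.naturality_apply]
  rw [hg, PresheafOfModules.map_comp_apply, PresheafOfModules.map_comp_apply, e1 f, e1 f']
  exact congrArg (fun y => N.val.map lift.op y) (hE _)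

theorem full_pushforward [F.IsCoverDense K] [K.HasSheafCompose (forget AddCommGrpCat.{v})]
    [J.HasSheafCompose (forget AddCommGrpCat.{v})]
    [(F.sheafPushforwardContinuous AddCommGrpCat.{v} J K).Full]
    (hφ : Presheaf.IsLocallySurjective J φ.hom) : (SheafOfModules.pushforward.{v} φ).Full := by
  constructor
  intro M N ψ
  let MA : Sheaf K AddCommGrpCat.{v} := ⟨M.val.presheaf, M.isSheaf⟩
  let NA : Sheaf K AddCommGrpCat.{v} := ⟨N.val.presheaf, N.isSheaf⟩
  let ψ₀ : (F.sheafPushforwardContinuous AddCommGrpCat.{v} J K).obj MA ⟶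
      (F.sheafPushforwardContinuous AddCommGrpCat.{v} J K).obj NA :=
    ⟨(PresheafOfModules.toPresheaf _).map ψ.val⟩
  obtain ⟨g₀, hg₀⟩ := (F.sheafPushforwardContinuous AddCommGrpCat.{v} J K).map_surjective ψ₀
  have hsepX : Presheaf.IsSeparated J ((F.sheafPushforwardContinuous AddCommGrpCat.{v} J K).obj NA).obj :=
    ((F.sheafPushforwardContinuous AddCommGrpCat.{v} J K).obj NA).property.isSeparated
  obtain ⟨G, hG⟩ : ∃ G : ∀ W : Dᵒᵖ, M.val.obj W → N.val.obj W, ∀ W m, G W m = g₀.hom.app W m :=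
    ⟨fun W m => g₀.hom.app W m, fun _ _ => rfl⟩
  obtain ⟨Ψ, hΨ⟩ : ∃ Ψ : ∀ E : C, M.val.obj (op (F.obj E)) → N.val.obj (op (F.obj E)),
      ∀ E m, Ψ E m = ψ.val.app (op E) m := ⟨fun E m => ψ.val.app (op E) m, fun _ _ => rfl⟩
  obtain ⟨Φ, hΦ⟩ : ∃ Φ : ∀ E : C, R.obj.obj (op E) → Sr.obj.obj (op (F.obj E)),
      ∀ E t, Φ E t = φ.hom.app (op E) t := ⟨fun E t => φ.hom.app (op E) t, fun _ _ => rfl⟩
  obtain ⟨MM, hMM⟩ : ∃ MM : ∀ {W W' : Dᵒᵖ} (_ : W ⟶ W'), M.val.obj W → M.val.obj W',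
      ∀ {W W' : Dᵒᵖ} (γ : W ⟶ W') (m : M.val.obj W), MM γ m = M.val.map γ m :=
    ⟨fun γ m => M.val.map γ m, fun _ _ => rfl⟩
  obtain ⟨NN, hNN⟩ : ∃ NN : ∀ {W W' : Dᵒᵖ} (_ : W ⟶ W'), N.val.obj W → N.val.obj W',
      ∀ {W W' : Dᵒᵖ} (γ : W ⟶ W') (m : N.val.obj W), NN γ m = N.val.map γ m :=
    ⟨fun γ m => N.val.map γ m, fun _ _ => rfl⟩
  obtain ⟨SS, hSS⟩ : ∃ SS : ∀ {W W' : Dᵒᵖ} (_ : W ⟶ W'), Sr.obj.obj W → Sr.obj.obj W',
      ∀ {W W' : Dᵒᵖ} (γ : W ⟶ W') (r : Sr.obj.obj W), SS γ r = Sr.obj.map γ r :=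
    ⟨fun γ r => Sr.obj.map γ r, fun _ _ => rfl⟩
  have hMMsmul : ∀ {W W' : Dᵒᵖ} (γ : W ⟶ W') (r : Sr.obj.obj W) (m : M.val.obj W),
      MM γ (r • m) = SS γ r • MM γ m := by
    intro W W' γ r m
    rw [hMM, hMM, hSS]
    exact PresheafOfModules.map_smul _ _ _ _
  have hNNsmul : ∀ {W W' : Dᵒᵖ} (γ : W ⟶ W') (r : Sr.obj.obj W) (m : N.val.obj W),
      NN γ (r • m) = SS γ r • NN γ m := by
    intro W W' γ r m
    rw [hNN, hNN, hSS]
    exact PresheafOfModules.map_smul _ _ _ _
  have hNNcomp : ∀ {W W' W'' : Dᵒᵖ} (γ : W ⟶ W') (δ : W' ⟶ W'') (m : N.val.obj W),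
      NN (γ ≫ δ) m = NN δ (NN γ m) := by
    intro W W' W'' γ δ m
    rw [hNN, hNN, hNN]
    exact PresheafOfModules.map_comp_apply _ _ _ _
  have hnat : ∀ {W W' : Dᵒᵖ} (γ : W ⟶ W') (m : M.val.obj W), G W' (MM γ m) = NN γ (G W m) := by
    intro W W' γ m
    have e := congrArg (fun k => k.hom m) (g₀.hom.naturality γ)
    rw [hMM]
    refine (hG _ _).trans ?_
    refine Eq.trans ?_ (congrArg (NN γ) (hG W m)).symm
    refine Eq.trans ?_ (hNN γ _).symm
    exact e
  have hkey : ∀ (E : C) (m : M.val.obj (op (F.obj E))), G (op (F.obj E)) m = Ψ E m := by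
    intro E m
    rw [hG, hΨ]
    exact congrArg (fun k => (k.hom.app (op E)).hom m) hg₀
  have hΨlin : ∀ (E : C) (t : R.obj.obj (op E)) (x : M.val.obj (op (F.obj E))),
      Ψ E (Φ E t • x) = Φ E t • Ψ E x := by
    intro E t x
    rw [hΨ, hΨ, hΦ]
    exact (ψ.val.app (op E)).hom.map_smul t x
  have hC : ∀ (E : C) (r' : Sr.obj.obj (op (F.obj E))) (m' : M.val.obj (op (F.obj E))),
      G (op (F.obj E)) (r' • m') = r' • G (op (F.obj E)) m' := by
    intro E r' m'
    refine hsepX E (Presheaf.imageSieve φ.hom r') (hφ.imageSieve_mem r') _ _ ?_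
    rintro E' c ⟨t, ht⟩
    have ht' : SS (F.map c).op r' = Φ E' t := by
      rw [hSS, hΦ]; exact ht.symm
    show N.val.map (F.map c).op (G (op (F.obj E)) (r' • m')) =
      N.val.map (F.map c).op (r' • G (op (F.obj E)) m')
    rw [← hNN, ← hNN]
    calc NN (F.map c).op (G (op (F.obj E)) (r' • m'))
        = G (op (F.obj E')) (MM (F.map c).op (r' • m')) := (hnat (F.map c).op (r' • m')).symm
      _ = G (op (F.obj E')) (Φ E' t • MM (F.map c).op m') := by rw [hMMsmul, ht']
      _ = Ψ E' (Φ E' t • MM (F.map c).op m') := hkey E' _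
      _ = Φ E' t • Ψ E' (MM (F.map c).op m') := hΨlin E' t _
      _ = Φ E' t • G (op (F.obj E')) (MM (F.map c).op m') := by rw [hkey]
      _ = SS (F.map c).op r' • NN (F.map c).op (G (op (F.obj E)) m') := by rw [ht', hnat]
      _ = NN (F.map c).op (r' • G (op (F.obj E)) m') := (hNNsmul (F.map c).op r' _).symm
  have hlin : ∀ (W : Dᵒᵖ) (r : Sr.obj.obj W) (m : M.val.obj W), G W (r • m) = r • G W m := by
    intro W r m
    refine (N.isSheaf.isSeparated) W.unop (Sieve.coverByImage F W.unop)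
      (F.is_cover_of_isCoverDense _ W.unop) _ _ ?_
    rintro W' g ⟨⟨E, lift, map, fac⟩⟩
    show N.val.map g.op (G W (r • m)) = N.val.map g.op (r • G W m)
    have hg : g.op = map.op ≫ lift.op := by rw [← op_comp, fac]
    rw [← hNN, ← hNN, hg, hNNcomp, hNNcomp]
    refine congrArg (NN lift.op) ?_
    calc NN map.op (G W (r • m))
        = G (op (F.obj E)) (MM map.op (r • m)) := (hnat map.op (r • m)).symm
      _ = G (op (F.obj E)) (SS map.op r • MM map.op m) := by rw [hMMsmul]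
      _ = SS map.op r • G (op (F.obj E)) (MM map.op m) := hC E _ _
      _ = SS map.op r • NN map.op (G W m) := by rw [hnat]
      _ = NN map.op (r • G W m) := (hNNsmul map.op r _).symm
  let g : M ⟶ N := ⟨PresheafOfModules.homMk g₀.hom (fun W r m => by
    have := hlin W r m
    rw [hG, hG] at this
    exact this)⟩
  refine ⟨g, ?_⟩
  apply SheafOfModules.hom_ext
  apply PresheafOfModules.hom_ext
  intro E
  ext m
  refine (push_map_apply F φ g E.unop m).trans ?_
  exact (hG _ m).symm.trans ((hkey E.unop m).trans (hΨ E.unop m))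

end Groth.Agent.Lib.Helper16.PushModFF
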