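import Groth.Agent.Lib.Helper16.QAffCore
import Groth.Agent.Lib.Helper16.FpqcDesc
import Groth.Agent.Lib.Helper16.FppfLocal

/-!
# Helper library (helper16): fpqc descent of quasi-affine schemes for algebraic spaces
-/

set_option autoImplicit false
universe u
open CategoryTheory CategoryTheory.Limits AlgebraicGeometry Opposite

namespace Groth.Agent.Lib.Helper16

open AlgSp

variable {S : Scheme.{u}}

/-- **Quasi-affine descent along a single faithfully flat morphism of affine schemes**: an algebraic space `T` over an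
affine scheme `Z` whose base change along a faithfully flat `W ⟶ Z` from an affine scheme is a quasi-affine scheme is
itself a quasi-affine scheme. -/
theorem exists_iso_of_quasiAffine_cover {Z W V : Over S} (hZ : IsAffine Z.left) (hW : IsAffine W.left)
    (hV : V.left.IsQuasiAffine) (c : W ⟶ Z) (π : V ⟶ W) [Flat c.left] [Surjective c.left]
    {T : Sp S} (hT : IsAlgSpace T) (t : T ⟶ (yon S).obj Z) (a : (yon S).obj V ⟶ T)
    (sq : IsPullback a ((yon S).map π) t ((yon S).map c)) :
    ∃ (T₀ : Over S) (p : T₀ ⟶ Z) (e : T ≅ (yon S).obj T₀), T₀.left.IsQuasiAffine ∧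
      e.hom ≫ (yon S).map p = t ∧ ∃ q : V ⟶ T₀, IsPullback q π p c ∧ a ≫ e.hom = (yon S).map q := by
  have hqc : QuasiCompact c.left := by
    have : IsAffineHom c.left := isAffineHom_of_isAffine c.left
    infer_instance
  -- the fibre products
  have H₂ := IsPullback.of_hasPullback (π ≫ c) c
  have H₃ := IsPullback.of_hasPullback (pullback.snd (π ≫ c) c ≫ c) c
  obtain ⟨σ, hσa, hσπ⟩ := exists_action c π _ _ H₂ t a sq
  -- diagonal
  let δ : V ⟶ pullback (π ≫ c) c := H₂.lift (𝟙 V) π (by simp)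
  have hδV : δ ≫ pullback.fst (π ≫ c) c = 𝟙 V := H₂.lift_fst _ _ _
  have hδW : δ ≫ pullback.snd (π ≫ c) c = π := H₂.lift_snd _ _ _
  have hδσ : δ ≫ σ = 𝟙 V := by
    apply (yon S).map_injective
    apply sq.hom_ext
    · rw [Functor.map_comp, Category.assoc, hσa, ← Category.assoc, ← Functor.map_comp, hδV]
    · rw [← Functor.map_comp, Category.assoc, hσπ, hδW, ← Functor.map_comp, Category.id_comp]
  -- cocycle
  let σ₃ : pullback (pullback.snd (π ≫ c) c ≫ c) c ⟶ pullback (π ≫ c) c :=
    H₂.lift (pullback.fst _ _ ≫ σ) (pullback.snd _ _) (by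
      rw [Category.assoc, ← Category.assoc σ, hσπ, pullback.condition])
  let p₃ : pullback (pullback.snd (π ≫ c) c ≫ c) c ⟶ pullback (π ≫ c) c :=
    H₂.lift (pullback.fst _ _ ≫ pullback.fst _ _) (pullback.snd _ _) (by
      rw [Category.assoc, pullback.condition, pullback.condition])
  have hσ₃V : σ₃ ≫ pullback.fst (π ≫ c) c = pullback.fst _ _ ≫ σ := H₂.lift_fst _ _ _
  have hσ₃W : σ₃ ≫ pullback.snd (π ≫ c) c = pullback.snd _ _ := H₂.lift_snd _ _ _
  have hp₃V : p₃ ≫ pullback.fst (π ≫ c) c = pullback.fst _ _ ≫ pullback.fst _ _ := H₂.lift_fst _ _ _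
  have hp₃W : p₃ ≫ pullback.snd (π ≫ c) c = pullback.snd _ _ := H₂.lift_snd _ _ _
  have hcoc : σ₃ ≫ σ = p₃ ≫ σ := by
    apply (yon S).map_injective
    apply sq.hom_ext
    · rw [Functor.map_comp, Functor.map_comp, Category.assoc, Category.assoc, hσa, ← Category.assoc,
        ← Category.assoc, ← Functor.map_comp, ← Functor.map_comp, hσ₃V, hp₃V, Functor.map_comp, Functor.map_comp,
        Category.assoc, Category.assoc, hσa]
    · rw [← Functor.map_comp, ← Functor.map_comp, Category.assoc, Category.assoc, hσπ, hσ₃W, hp₃W]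
  -- transport to `Spec`
  let f : Γ(Z.left, ⊤) ⟶ Γ(W.left, ⊤) := c.left.appTop
  have hnatc : c.left ≫ Z.left.isoSpec.hom = W.left.isoSpec.hom ≫ Spec.map f :=
    (Scheme.isoSpec_hom_naturality c.left).symm
  have hSpecf : Spec.map f = W.left.isoSpec.inv ≫ c.left ≫ Z.left.isoSpec.hom := by
    rw [hnatc, Iso.inv_hom_id_assoc]
  have hflat : Flat (Spec.map f) := by rw [hSpecf]; infer_instance
  have hsurj : Surjective (Spec.map f) := by rw [hSpecf]; infer_instance
  have H₂' : IsPullback (pullback.fst (π ≫ c) c).left ((pullback.snd (π ≫ c) c).left ≫ W.left.isoSpec.hom)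
      ((π.left ≫ W.left.isoSpec.hom) ≫ Spec.map f) (Spec.map f) := by
    refine IsPullback.of_iso (isPullback_left_forget (π ≫ c) c) (Iso.refl _) (Iso.refl _) W.left.isoSpec
      Z.left.isoSpec ?_ ?_ ?_ ?_
    · simp
    · simp
    · rw [Iso.refl_hom, Category.id_comp, Over.comp_left, Category.assoc, Category.assoc, hnatc]
    · exact hnatc
  have H₃' : IsPullback (pullback.fst (pullback.snd (π ≫ c) c ≫ c) c).left
      ((pullback.snd (pullback.snd (π ≫ c) c ≫ c) c).left ≫ W.left.isoSpec.hom)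
      (((pullback.snd (π ≫ c) c).left ≫ W.left.isoSpec.hom) ≫ Spec.map f) (Spec.map f) := by
    refine IsPullback.of_iso (isPullback_left_forget (pullback.snd (π ≫ c) c ≫ c) c) (Iso.refl _) (Iso.refl _)
      W.left.isoSpec Z.left.isoSpec ?_ ?_ ?_ ?_
    · simp
    · simp
    · rw [Iso.refl_hom, Category.id_comp, Over.comp_left, Category.assoc, Category.assoc, hnatc]
    · exact hnatc
  have hl : ∀ {X Y Z' : Over S} (g : X ⟶ Y) (h : Y ⟶ Z'), (g ≫ h).left = g.left ≫ h.left := fun _ _ => rfl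
  obtain ⟨T₀s, p₀, q₀, PB, hσq, hT₀⟩ := QAff.exists_descent f (π.left ≫ W.left.isoSpec.hom) _ _ H₂' σ.left
    (by rw [← Category.assoc, ← hl, hσπ]) δ.left (by rw [← hl, hδV]; rfl) (by rw [← Category.assoc, ← hl, hδW])
    (by rw [← hl, hδσ]; rfl) _ _ H₃' σ₃.left p₃.left (by rw [← hl, hσ₃V]; rfl)
    (by rw [← Category.assoc, ← hl, hσ₃W]) (by rw [← hl, hp₃V]; rfl) (by rw [← Category.assoc, ← hl, hp₃W])
    (by rw [← hl, ← hl, hcoc])
  -- back to `Over S`
  have hq₀p₀ : q₀ ≫ p₀ ≫ Z.left.isoSpec.inv = π.left ≫ c.left := by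
    rw [← Category.assoc, PB.w, Category.assoc, Category.assoc, ← Category.assoc W.left.isoSpec.hom, ← hnatc,
      Category.assoc, Iso.hom_inv_id, Category.comp_id]
  let T₀ : Over S := Over.mk (p₀ ≫ Z.left.isoSpec.inv ≫ Z.hom)
  let pT : T₀ ⟶ Z := Over.homMk (p₀ ≫ Z.left.isoSpec.inv) (by simp [T₀])
  let qO : V ⟶ T₀ := Over.homMk q₀ (by
    show q₀ ≫ p₀ ≫ Z.left.isoSpec.inv ≫ Z.hom = V.hom
    rw [← Category.assoc p₀, ← Category.assoc q₀, hq₀p₀, Category.assoc, Over.w, Over.w])
  have PBl : IsPullback q₀ π.left (p₀ ≫ Z.left.isoSpec.inv) c.left := by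
    refine IsPullback.of_iso PB (Iso.refl _) (Iso.refl _) W.left.isoSpec.symm Z.left.isoSpec.symm ?_ ?_ ?_ ?_
    · simp
    · simp
    · simp
    · rw [Iso.symm_hom, Iso.symm_hom, hSpecf, Category.assoc, Category.assoc, Iso.hom_inv_id, Category.comp_id]
  have PBO : IsPullback qO π pT c := by
    refine IsPullback.of_map (Over.forget S) ?_ PBl
    ext1
    exact hq₀p₀
  have hqO : σ ≫ qO = pullback.fst (π ≫ c) c ≫ qO := by
    ext1
    exact hσq
  obtain ⟨τ, hτa, hτt⟩ := exists_desc_of_fpqc c π _ _ H₂ t a sq hT σ hσa hσπ qO hqO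
  have hτt' : τ ≫ (yon S).map pT = t := hτt pT PBO.w
  -- `τ` is an isomorphism
  have sqτ : IsPullback a (𝟙 _) τ ((yon S).map qO) := by
    refine (IsPullback.of_right ?_ (by rw [Category.id_comp, hτa]) (PBO.map (yon S)).flip).flip
    rw [Category.id_comp, hτt']
    exact sq.flip
  have hq_flat : Flat qO.left := MorphismProperty.of_isPullback PBl.flip ‹Flat c.left›
  have hq_surj : Surjective qO.left := MorphismProperty.of_isPullback PBl.flip ‹Surjective c.left›
  have hq_aff : IsAffineHom qO.left :=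
    MorphismProperty.of_isPullback (P := @IsAffineHom) PBl.flip (isAffineHom_of_isAffine c.left)
  have href : FpqcRefines (fun _ : PUnit.{u + 1} => (yon S).obj V) (fun _ => (yon S).map qO) := by
    intro Z' hZ' h
    obtain ⟨h', rfl⟩ := (yon S).map_surjective h
    have sqW := isPullback_left_forget h' qO
    refine ⟨1, fun _ => pullback h' qO, fun _ => pullback.fst _ _, fun _ => ?_,
      fun _ => ?_, fun z => ⟨0, ?_⟩, fun _ => ⟨PUnit.unit, (yon S).map (pullback.snd _ _), ?_⟩⟩
    · have : IsAffineHom (pullback.fst h' qO).left :=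
        MorphismProperty.of_isPullback (P := @IsAffineHom) sqW.flip hq_aff
      have : IsAffine Z'.left := hZ'
      exact isAffine_of_isAffineHom (pullback.fst h' qO).left
    · exact MorphismProperty.of_isPullback sqW.flip hq_flat
    · have : Surjective (pullback.fst h' qO).left :=
        MorphismProperty.of_isPullback sqW.flip hq_surj
      exact (pullback.fst h' qO).left.surjective z
    · rw [← Functor.map_comp, ← Functor.map_comp, pullback.condition]
  have hiso : IsIso τ := isIso_of_fpqcRefines (IsAlgSpace.yon_obj _) _ (fun _ => IsAlgSpace.yon_obj _) _ href hT τ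
    (fun _ => (yon S).obj V) (fun _ => IsAlgSpace.yon_obj _) (fun _ => 𝟙 _) (fun _ => a) (fun _ => sqτ)
    (fun _ => inferInstance)
  exact ⟨T₀, pT, asIso τ, hT₀, hτt', qO, PBO, hτa⟩

end Groth.Agent.Lib.Helper16
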