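import Groth.Agent.Lib.Helper16.AffDescRing
import Mathlib.RingTheory.RingHom.Flat

/-!
# Helper library (helper16): ring-level descent in `CommRingCat` form

A reformulation of `AffDesc.isPushout_descAlg` in which the tensor products `C ⊗[A] B` and `(C ⊗[A] B) ⊗[A] B` are replaced
by arbitrary pushouts `C₂`, `C₃` in `CommRingCat` (in the application: rings of global sections of fibre products).
-/

set_option autoImplicit false
open TensorProduct CategoryTheory CategoryTheory.Limits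

universe u
namespace Groth.Agent.Lib.Helper16.AffDesc

/-- Ring-level effective descent, `CommRingCat` form.  `f : A ⟶ B` flat, `g : B ⟶ C`; `C₂ = C ⊗_A B` with coprojections
`ι`, `β₂`; `ρ : C ⟶ C₂` a "coaction"; `μ : C₂ ⟶ C` the "diagonal"; `C₃ = C₂ ⊗_A B` with coprojections `ι'`, `β₃`;
`ρ₃`, `p₃ : C₂ ⟶ C₃` the maps induced by `ρ` and `ι`.  Then the equalizer `M` of `ρ` and `ι` satisfies `M ⊗_A B = C`. -/
theorem exists_isPushout_of_descent {A B C C₂ C₃ : CommRingCat.{u}} (f : A ⟶ B) (g : B ⟶ C) (ι ρ : C ⟶ C₂)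
    (β₂ : B ⟶ C₂) (μ : C₂ ⟶ C) (ι' ρ₃ p₃ : C₂ ⟶ C₃) (β₃ : B ⟶ C₃) (hflat : f.hom.Flat)
    (h₂ : IsPushout (f ≫ g) f ι β₂) (h₃ : IsPushout (f ≫ β₂) f ι' β₃)
    (hρβ : g ≫ ρ = β₂) (hμι : ι ≫ μ = 𝟙 C) (hμβ : β₂ ≫ μ = g) (hμρ : ρ ≫ μ = 𝟙 C)
    (hρ₃ι : ι ≫ ρ₃ = ρ ≫ ι') (hρ₃β : β₂ ≫ ρ₃ = β₃) (hp₃ι : ι ≫ p₃ = ι ≫ ι') (hp₃β : β₂ ≫ p₃ = β₃)
    (hcoc : ρ ≫ ρ₃ = ρ ≫ p₃) :
    ∃ (M : CommRingCat.{u}) (a : A ⟶ M) (m : M ⟶ C), m ≫ ρ = m ≫ ι ∧ IsPushout a f m g := by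
  letI algAB : Algebra A B := f.hom.toAlgebra
  letI algBC : Algebra B C := g.hom.toAlgebra
  letI algAC : Algebra A C := (f ≫ g).hom.toAlgebra
  haveI : IsScalarTower A B C := IsScalarTower.of_algebraMap_eq' rfl
  haveI : Module.Flat A B := (RingHom.flat_algebraMap_iff).1 hflat
  -- identification of `C₂` with the tensor product
  have hT₂ := CommRingCat.isPushout_tensorProduct A C B
  have hfAB : CommRingCat.ofHom (algebraMap A B) = f := rfl
  have hgBC : CommRingCat.ofHom (algebraMap B C) = g := rfl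
  have hfgAC : CommRingCat.ofHom (algebraMap A C) = f ≫ g := rfl
  rw [hfAB, hfgAC] at hT₂
  let e₂ : CommRingCat.of (C ⊗[A] B) ≅ C₂ := hT₂.isoIsPushout _ _ h₂
  have he₂l : CommRingCat.ofHom (S := C ⊗[A] B) Algebra.TensorProduct.includeLeftRingHom ≫ e₂.hom = ι :=
    hT₂.inl_isoIsPushout_hom _ _ h₂
  have he₂r : CommRingCat.ofHom (S := C ⊗[A] B) (Algebra.TensorProduct.includeRight (R := A)).toRingHom ≫ e₂.hom = β₂ :=
    hT₂.inr_isoIsPushout_hom _ _ h₂
  have he₂l' : ∀ c : C, e₂.hom (c ⊗ₜ[A] (1 : B)) = ι c := fun c => congrArg (fun k => k.hom c) he₂l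
  have he₂r' : ∀ b : B, e₂.hom ((1 : C) ⊗ₜ[A] b) = β₂ b := fun b => congrArg (fun k => k.hom b) he₂r
  have he₂hi : ∀ y : C ⊗[A] B, e₂.inv (e₂.hom y) = y := fun y => congrArg (fun k => k.hom y) e₂.hom_inv_id
  have he₂ih : ∀ y : C₂, e₂.hom (e₂.inv y) = y := fun y => congrArg (fun k => k.hom y) e₂.inv_hom_id
  -- the coaction
  let ρ' : C →ₐ[A] C ⊗[A] B :=
    { toRingHom := (ρ ≫ e₂.inv).hom
      commutes' := fun x => by
        change e₂.inv (ρ (g (f x))) = _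
        have h1 : ρ (g (f x)) = β₂ (f x) := congrArg (fun k => k.hom (f x)) hρβ
        rw [h1, ← he₂r', he₂hi, Algebra.TensorProduct.algebraMap_apply]
        change (1 : C) ⊗ₜ[A] (algebraMap A B x) = (algebraMap A C x) ⊗ₜ[A] (1 : B)
        rw [Algebra.algebraMap_eq_smul_one, Algebra.algebraMap_eq_smul_one, TensorProduct.smul_tmul] }
  have hρ' : ∀ c : C, e₂.hom (ρ' c) = ρ c := fun c => he₂ih _
  have hρ1 : ∀ b : B, ρ' (algebraMap B C b) = (1 : C) ⊗ₜ[A] b := by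
    intro b
    change e₂.inv (ρ (g b)) = _
    have h1 : ρ (g b) = β₂ b := congrArg (fun k => k.hom b) hρβ
    rw [h1, ← he₂r', he₂hi]
  -- counit
  have hmu : CommRingCat.ofHom (mu A B C).toRingHom = e₂.hom ≫ μ := by
    apply hT₂.hom_ext
    · rw [← Category.assoc, he₂l, hμι]
      ext c
      simp [mu]
      rfl
    · rw [← Category.assoc, he₂r, hμβ]
      ext b
      simp [mu]
      rfl
  have hcounit : ∀ c, mu A B C (ρ' c) = c := by
    intro c
    have h1 : mu A B C (ρ' c) = μ (e₂.hom (ρ' c)) := congrArg (fun k => k.hom (ρ' c)) hmu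
    rw [h1, hρ']
    exact congrArg (fun k => k.hom c) hμρ
  -- identification of `C₃`
  have hT₃ := CommRingCat.isPushout_tensorProduct A (C ⊗[A] B) B
  rw [hfAB] at hT₃
  have h₃' : IsPushout (CommRingCat.ofHom (algebraMap A (C ⊗[A] B))) f (e₂.hom ≫ ι') β₃ := by
    refine IsPushout.of_iso h₃ (Iso.refl _) e₂.symm (Iso.refl _) (Iso.refl _) ?_ ?_ ?_ ?_
    · rw [Iso.refl_hom, Category.id_comp, Iso.symm_hom, Category.assoc, ← he₂r, Category.assoc, Iso.hom_inv_id,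
        Category.comp_id]
      ext x
      change (1 : C) ⊗ₜ[A] (algebraMap A B x) = algebraMap A (C ⊗[A] B) x
      rw [Algebra.TensorProduct.algebraMap_apply, Algebra.algebraMap_eq_smul_one,
        Algebra.algebraMap_eq_smul_one (A := C), TensorProduct.smul_tmul]
    · simp
    · simp
    · simp
  let e₃ : CommRingCat.of ((C ⊗[A] B) ⊗[A] B) ≅ C₃ := hT₃.isoIsPushout _ _ h₃'
  have he₃l : ∀ y : C ⊗[A] B, e₃.hom (y ⊗ₜ[A] (1 : B)) = ι' (e₂.hom y) := fun y =>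
    congrArg (fun k => k.hom y) (hT₃.inl_isoIsPushout_hom _ _ h₃')
  have he₃r : ∀ b : B, e₃.hom ((1 : C ⊗[A] B) ⊗ₜ[A] b) = β₃ b := fun b =>
    congrArg (fun k => k.hom b) (hT₃.inr_isoIsPushout_hom _ _ h₃')
  have he₃inj : Function.Injective e₃.hom := by
    intro x y hxy
    have := congrArg (fun z => e₃.inv z) hxy
    have hx : e₃.inv (e₃.hom x) = x := congrArg (fun k => k.hom x) e₃.hom_inv_id
    have hy : e₃.inv (e₃.hom y) = y := congrArg (fun k => k.hom y) e₃.hom_inv_id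
    simpa [hx, hy] using this
  have hmul : ∀ (y : C ⊗[A] B) (b : B), y ⊗ₜ[A] b = (y ⊗ₜ[A] (1 : B)) * ((1 : C ⊗[A] B) ⊗ₜ[A] b) := by
    intro y b
    rw [Algebra.TensorProduct.tmul_mul_tmul, mul_one, one_mul]
  have hmul' : ∀ (c : C) (b : B), c ⊗ₜ[A] b = (c ⊗ₜ[A] (1 : B)) * ((1 : C) ⊗ₜ[A] b) := by
    intro c b
    rw [Algebra.TensorProduct.tmul_mul_tmul, mul_one, one_mul]
  have hΦρ : ∀ y : C ⊗[A] B, e₃.hom (Algebra.TensorProduct.map ρ' (AlgHom.id A B) y) = ρ₃ (e₂.hom y) := by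
    intro y
    induction y with
    | zero => simp
    | add x y hx hy => rw [map_add, map_add, map_add, map_add, hx, hy]
    | tmul c b =>
      rw [Algebra.TensorProduct.map_tmul, AlgHom.id_apply, hmul, map_mul, he₃l, he₃r, hρ', hmul' c b, map_mul,
        map_mul, he₂l', he₂r']
      have h1 : ρ₃ (ι c) = ι' (ρ c) := congrArg (fun k => k.hom c) hρ₃ι
      have h2 : ρ₃ (β₂ b) = β₃ b := congrArg (fun k => k.hom b) hρ₃β
      rw [h1, h2]
  have hΦι : ∀ y : C ⊗[A] B, e₃.hom (Algebra.TensorProduct.map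
      (Algebra.TensorProduct.includeLeft : C →ₐ[A] C ⊗[A] B) (AlgHom.id A B) y) = p₃ (e₂.hom y) := by
    intro y
    induction y with
    | zero => simp
    | add x y hx hy => rw [map_add, map_add, map_add, map_add, hx, hy]
    | tmul c b =>
      rw [Algebra.TensorProduct.map_tmul, AlgHom.id_apply, hmul, map_mul, he₃l, he₃r,
        Algebra.TensorProduct.includeLeft_apply, he₂l', hmul' c b, map_mul, map_mul, he₂l', he₂r']
      have h1 : p₃ (ι c) = ι' (ι c) := congrArg (fun k => k.hom c) hp₃ι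
      have h2 : p₃ (β₂ b) = β₃ b := congrArg (fun k => k.hom b) hp₃β
      rw [h1, h2]
  have hcoassoc : ∀ c, Algebra.TensorProduct.map ρ' (AlgHom.id A B) (ρ' c) =
      Algebra.TensorProduct.map (Algebra.TensorProduct.includeLeft : C →ₐ[A] C ⊗[A] B)
        (AlgHom.id A B) (ρ' c) := by
    intro c
    apply he₃inj
    rw [hΦρ, hΦι, hρ']
    exact congrArg (fun k => k.hom c) hcoc
  have key := isPushout_descAlg ρ' hρ1 hcounit hcoassoc
  rw [hfAB, hgBC] at key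
  refine ⟨CommRingCat.of (descAlg ρ'), _, _, ?_, key⟩
  ext x
  change ρ (x : C) = ι (x : C)
  have hx : ρ' (x : C) = (x : C) ⊗ₜ[A] (1 : B) := x.2
  rw [← hρ', hx, he₂l']

end Groth.Agent.Lib.Helper16.AffDesc
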