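import Groth.Agent.Lib.Helper16.QAffLocal

/-!
# Helper library (helper16): fpqc descent of quasi-affineness for schemes over an affine base
-/

set_option autoImplicit false
universe u
open CategoryTheory CategoryTheory.Limits AlgebraicGeometry Opposite

namespace Groth.Agent.Lib.Helper16

open AlgSp

/-- A scheme `Y` over an affine scheme `Z` whose base changes to the members of a standard fpqc covering of `Z` are
quasi-affine is quasi-affine. -/
theorem isQuasiAffine_of_std_fpqc {Y Z : Scheme.{u}} [IsAffine Z] (g : Y ⟶ Z) {m : ℕ} (W V : Fin m → Scheme.{u})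
    (c : ∀ j, W j ⟶ Z) (π : ∀ j, V j ⟶ W j) (b : ∀ j, V j ⟶ Y) (sq : ∀ j, IsPullback (b j) (π j) g (c j))
    (hWa : ∀ j, IsAffine (W j)) (hcf : ∀ j, Flat (c j)) (hcs : ∀ z : ↥Z, ∃ j, z ∈ Set.range (c j))
    (hVq : ∀ j, (V j).IsQuasiAffine) : Y.IsQuasiAffine := by
  let Zo : Over Z := Over.mk (𝟙 Z)
  let Yo : Over Z := Over.mk g
  let Wo : Fin m → Over Z := fun j => Over.mk (c j)
  let Vo : Fin m → Over Z := fun j => Over.mk (π j ≫ c j)
  let gO : Yo ⟶ Zo := Over.homMk g (by simp [Yo, Zo])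
  let cO : ∀ j, Wo j ⟶ Zo := fun j => Over.homMk (c j) (by simp [Wo, Zo])
  let πO : ∀ j, Vo j ⟶ Wo j := fun j => Over.homMk (π j) (by simp [Wo, Vo])
  let bO : ∀ j, Vo j ⟶ Yo := fun j => Over.homMk (b j) (by simp only [Vo, Yo, Over.mk_hom]; exact (sq j).w)
  have sqO : ∀ j, IsPullback (bO j) (πO j) gO (cO j) := by
    intro j
    refine IsPullback.of_map (Over.forget Z) ?_ (sq j)
    ext1
    exact (sq j).w
  have hZo : IsAffine Zo.left := inferInstanceAs (IsAffine Z)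
  obtain ⟨T₀, p, e, hT₀, -⟩ := exists_iso_of_std_qaff_cover hZo (IsAlgSpace.yon_obj Yo) ((yon Z).map gO) Wo Vo cO
    hWa hcf hcs hVq πO (fun j => (yon Z).map (bO j)) (fun j => (sqO j).map (yon Z))
  let e' : Yo ≅ T₀ := (yon Z).preimageIso e
  let e'' : Y ≅ T₀.left := (Over.forget Z).mapIso e'
  exact Scheme.IsQuasiAffine.of_isAffineHom e''.hom


/-- Relative form: for an fpqc morphism `f : X ⟶ Z`, an affine open `V` of `Z` and an open `U` of `Y` over `V`, if for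
every affine open `W` of `X` over `V` the open `W ×_V U` of `X ×_Z Y` is quasi-affine, then `U` is quasi-affine. -/
theorem isQuasiAffine_of_fpqc_resLE {X Y Z A : Scheme.{u}} (f : X ⟶ Z) [Flat f] [Surjective f] [QuasiCompact f]
    (g : Y ⟶ Z) (fst : A ⟶ X) (snd : A ⟶ Y) (hpb : IsPullback fst snd f g) (V : Z.Opens) (hV : IsAffineOpen V)
    (U : Y.Opens) (hU : U ≤ g ⁻¹ᵁ V)
    (h : ∀ W : X.Opens, IsAffineOpen W → W ≤ f ⁻¹ᵁ V →
      (↑(fst ⁻¹ᵁ W ⊓ snd ⁻¹ᵁ U) : Scheme.{u}).IsQuasiAffine) :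
    (↑U : Scheme.{u}).IsQuasiAffine := by
  have hc : IsCompact (X := X) (f ⁻¹ᵁ V) := f.isCompact_preimage hV.isCompact
  obtain ⟨s, hs, e⟩ := isCompact_iff_finite_and_eq_biUnion_affineOpens.mp hc
  have : Finite ↥s := hs.to_subtype
  obtain ⟨m, ⟨eq⟩⟩ := Finite.exists_equiv_fin ↥s
  let Wo : Fin m → X.Opens := fun j => ((eq.symm j).1 : X.affineOpens).1
  have hWoa : ∀ j, IsAffineOpen (Wo j) := fun j => ((eq.symm j).1 : X.affineOpens).2
  have hWo : ∀ j, Wo j ≤ f ⁻¹ᵁ V := fun j => by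
    rw [e]
    exact le_iSup₂ (f := fun (i : X.affineOpens) (_ : i ∈ s) => (i : X.Opens)) (eq.symm j).1 (eq.symm j).2
  have : IsAffine (↑V : Scheme.{u}) := hV
  refine isQuasiAffine_of_std_fpqc (g.resLE V U hU) (fun j => (↑(Wo j) : Scheme.{u}))
    (fun j => (↑(fst ⁻¹ᵁ (Wo j) ⊓ snd ⁻¹ᵁ U) : Scheme.{u})) (fun j => f.resLE V (Wo j) (hWo j))
    (fun j => fst.resLE (Wo j) _ inf_le_left) (fun j => snd.resLE U _ inf_le_right)
    (fun j => (Scheme.Hom.isPullback_resLE hpb hU (hWo j) rfl).flip) hWoa (fun j => ?_) (fun z => ?_)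
    (fun j => h (Wo j) (hWoa j) (hWo j))
  · rw [Scheme.Hom.resLE]
    infer_instance
  · obtain ⟨x, hx⟩ := f.surjective z.1
    have hxV : x ∈ f ⁻¹ᵁ V := by
      show f x ∈ V
      rw [hx]
      exact z.2
    rw [e] at hxV
    simp only [TopologicalSpace.Opens.mem_iSup] at hxV
    obtain ⟨i, hi, hxi⟩ := hxV
    refine ⟨eq ⟨i, hi⟩, ⟨⟨x, ?_⟩, ?_⟩⟩
    · show x ∈ ((eq.symm (eq ⟨i, hi⟩)).1 : X.affineOpens).1
      rw [Equiv.symm_apply_apply]
      exact hxi
    · apply Subtype.ext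
      rw [Scheme.Hom.coe_resLE_apply]
      exact hx

end Groth.Agent.Lib.Helper16
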