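import Groth.Agent.Lib.Helper16.QfAt
import Mathlib.AlgebraicGeometry.Morphisms.UniversallyOpen

/-!
# Helper library (helper16): quasi-finiteness at a point and base change (schemes)
-/

set_option autoImplicit false
universe u
open CategoryTheory CategoryTheory.Limits AlgebraicGeometry Opposite Topology

namespace Groth.Agent.Lib.Helper16.QfAt

open AlgSp Groth.Agent.Lib.Helper16 Groth.Agent.Lib.Helper16.DimZero

/-- Quasi-finiteness at a point passes to base changes. -/
theorem quasiFiniteAt_snd_of_isPullback {P X Y Z : Scheme.{u}} {fst : P ⟶ X} {snd : P ⟶ Y} {f : X ⟶ Z}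
    {g : Y ⟶ Z} (h : IsPullback fst snd f g) [LocallyOfFiniteType f] (p : P)
    (hx : f.QuasiFiniteAt (fst p)) : snd.QuasiFiniteAt p := by
  let W := f.quasiFiniteLocus
  have hW : fst p ∈ W := hx
  let W' := fst ⁻¹ᵁ W
  have sq1 : IsPullback (fst ∣_ W) W'.ι W.ι fst := isPullback_morphismRestrict fst W
  have sq2 : IsPullback (fst ∣_ W) (W'.ι ≫ snd) (W.ι ≫ f) g := sq1.paste_vert h
  have h1 : LocallyQuasiFinite (W.ι ≫ f) := inferInstance
  have h2 : LocallyQuasiFinite (W'.ι ≫ snd) :=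
    MorphismProperty.of_isPullback (P := @LocallyQuasiFinite) sq2 h1
  obtain ⟨p', hp'⟩ := exists_ι_eq W' (show p ∈ W' from hW)
  rw [← hp', ← Scheme.Hom.quasiFiniteAt_comp_iff_of_isOpenImmersion]
  exact (W'.ι ≫ snd).quasiFiniteAt p'

/-- Quasi-finiteness at a point descends along base changes. -/
theorem quasiFiniteAt_fst_of_isPullback {P X Y Z : Scheme.{u}} {fst : P ⟶ X} {snd : P ⟶ Y} {f : X ⟶ Z}
    {g : Y ⟶ Z} (h : IsPullback fst snd f g) [LocallyOfFiniteType f] (p : P)
    (hp : snd.QuasiFiniteAt p) : f.QuasiFiniteAt (fst p) := by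
  have : LocallyOfFiniteType snd := MorphismProperty.of_isPullback (P := @LocallyOfFiniteType) h ‹_›
  rw [quasiFiniteAt_iff_exists_open] at hp ⊢
  obtain ⟨O', hO', hO'p⟩ := hp
  let T : snd.fiber (snd p) ⟶ f.fiber (g (snd p)) :=
    pullback.map _ _ _ _ fst (Spec.map (g.residueFieldMap (snd p))) g h.w.symm (by simp)
  have sqT := isPullback_fiberToSpecResidueField_of_isPullback h (snd p)
  have hT : UniversallyOpen T :=
    MorphismProperty.of_isPullback (P := @UniversallyOpen) sqT.flip inferInstance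
  have hTι : T ≫ f.fiberι (g (snd p)) = snd.fiberι (snd p) ≫ fst := pullback.lift_fst _ _ _
  obtain ⟨p₀, hp₀⟩ : ∃ p₀ : snd.fiber (snd p), snd.fiberι (snd p) p₀ = p := by
    have : p ∈ Set.range (snd.fiberι (snd p)) := by rw [Scheme.Hom.range_fiberι]; rfl
    exact this
  have hA : (snd.fiberι (snd p)) ⁻¹' O' = {p₀} := by
    ext t
    constructor
    · intro ht
      have h1 : snd.fiberι (snd p) t ∈ O' ∩ snd ⁻¹' {snd p} := by
        refine ⟨ht, ?_⟩
        have := Set.mem_range_self (f := snd.fiberι (snd p)) t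
        rw [Scheme.Hom.range_fiberι] at this
        exact this
      rw [hO'p] at h1
      exact (snd.fiberι (snd p)).isEmbedding.injective (h1.trans hp₀.symm)
    · rintro rfl
      show snd.fiberι (snd p) t ∈ O'
      rw [hp₀]
      exact (hO'p.ge rfl).1
  have hopen : IsOpen ({T p₀} : Set (f.fiber (g (snd p)))) := by
    have := T.isOpenMap _ (hO'.preimage (snd.fiberι (snd p)).continuous)
    rwa [hA, Set.image_singleton] at this
  have hx₀ : f.fiberι (g (snd p)) (T p₀) = fst p := by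
    rw [← Scheme.Hom.comp_apply, hTι, Scheme.Hom.comp_apply, hp₀]
  obtain ⟨O, hO, hOeq⟩ := (f.fiberι (g (snd p))).isEmbedding.isOpen_iff.1 hopen
  have hfx : f (fst p) = g (snd p) := by
    rw [← Scheme.Hom.comp_apply, h.w, Scheme.Hom.comp_apply]
  refine ⟨O, hO, ?_⟩
  rw [hfx]
  ext z
  constructor
  · rintro ⟨hzO, hz⟩
    have h1 : z ∈ Set.range (f.fiberι (g (snd p))) := by rw [Scheme.Hom.range_fiberι]; exact hz
    obtain ⟨t, rfl⟩ := h1
    have h2 : t ∈ (f.fiberι (g (snd p))) ⁻¹' O := hzO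
    rw [hOeq] at h2
    have h3 : t = T p₀ := h2
    rw [h3, hx₀]
    rfl
  · rintro rfl
    refine ⟨?_, hfx⟩
    have h1 : T p₀ ∈ (f.fiberι (g (snd p))) ⁻¹' O := by rw [hOeq]; rfl
    rw [← hx₀]
    exact h1

end Groth.Agent.Lib.Helper16.QfAt
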