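import Groth.Agent.Lib.Helper16.QfLocus
import Groth.Agent.Lib.Helper16.DenseFin1
import Groth.Agent.Lib.Helper16.FibreProduct
import Groth.Agent.Lib.Helper16.ChartDiagram
import Groth.Agent.Lib.Helper16.FppfLocal2

/-!
# Helper library (helper16): more on the quasi-finite locus

* `qfLocus_eq_univ_of_locP`: a locally quasi-finite morphism of algebraic spaces is quasi-finite at every point.
* `mem_qfLocus_of_generic`: a generic point lies in the quasi-finite locus as soon as it is nonempty.
* `exists_mem_qfLocus_of_lqf_over_open`: if `f` is locally quasi-finite over an open subspace of the target meeting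
  the closure of the image, some point of the source is in the quasi-finite locus.
-/

set_option autoImplicit false
set_option linter.style.haveILetI false
universe u
open CategoryTheory CategoryTheory.Limits AlgebraicGeometry Opposite Topology

namespace Groth.Agent.Lib.Helper16.QfAt

open AlgSp Groth.Agent.Lib.Helper16 Groth.Agent.Lib.Helper16.DenseFin

variable {S : Scheme.{u}}

/-- A locally quasi-finite morphism of algebraic spaces is quasi-finite at every point. -/
theorem mem_qfLocus_of_locP {X Y : Sp S} (hX : IsAlgSpace X) (hY : IsAlgSpace Y) (f : X ⟶ Y)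
    (hf : LocP (@LocallyQuasiFinite ⊓ @LocallyOfFiniteType) f) (x : Points X) : x ∈ qfLocus f := by
  obtain ⟨V, b, hbe, hbs⟩ := hY.atlas
  obtain ⟨U₀, a₀, ha₀e, ha₀s⟩ := hX.atlas
  obtain ⟨U, h, c, hae, hc, -, -, hs⟩ := exists_chart_diagram f b hbe a₀ ha₀e
  obtain ⟨u, rfl⟩ := ofPt_surjective_of_surjective _ (hs hbs ha₀s) x
  have h1 := hf _ _ h hae hbe hc
  haveI : LocallyQuasiFinite h.left := h1.1
  exact ⟨U, V, _, b, h, u, hae, hbe, hc, rfl, h.left.quasiFiniteAt u⟩

/-- A generic point lies in the quasi-finite locus as soon as the latter is nonempty. -/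
theorem mem_qfLocus_of_generic {X Y : Sp S} (f : X ⟶ Y) (hf : LocP @LocallyOfFiniteType f)
    (x : Points X) (hx : IsGenericPoint x (Set.univ : Set (Points X))) (x₁ : Points X)
    (hx₁ : x₁ ∈ qfLocus f) : x ∈ qfLocus f := by
  have := hx.mem_open_set_iff (isOpen_qfLocus f hf)
  exact this.2 ⟨x₁, Set.mem_univ _, hx₁⟩

/-- If the base change of `f` to an open subspace `V` of the target is locally quasi-finite and the image of `f` meets `V`,
then the quasi-finite locus of `f` is nonempty. -/
theorem exists_mem_qfLocus_of_lqf_over_open {X Y V P : Sp S} (hX : IsAlgSpace X) (hY : IsAlgSpace Y)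
    (hV : IsAlgSpace V) (f : X ⟶ Y) (hf : LocP @LocallyOfFiniteType f) (j : V ⟶ Y)
    (hj : RepWith @IsOpenImmersion j) (hd : DenseRange (Points.map f)) (hne : Nonempty (Points V))
    {fst : P ⟶ V} {snd : P ⟶ X} (sq : IsPullback fst snd j f)
    (hfst : LocP (@LocallyQuasiFinite ⊓ @LocallyOfFiniteType) fst) :
    ∃ x₁ : Points X, x₁ ∈ qfLocus f := by
  have hje : RepWith @Etale j := repWith_mono isOpenImmersion_le_etale _ hj
  have hopen : IsOpen (Set.range (Points.map j)) := isOpen_range_map_of_etale hV j hje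
  obtain ⟨v₀⟩ := hne
  obtain ⟨_, ⟨v, rfl⟩, ⟨x₀, hx₀⟩⟩ := hd.inter_open_nonempty _ hopen ⟨_, v₀, rfl⟩
  have hP : IsAlgSpace P := isAlgSpace_of_isPullback hV hY.diag hX sq
  obtain ⟨z, hz1, hz2⟩ := exists_point_of_isPullback sq v x₀ hx₀.symm
  refine ⟨Points.map snd z, ?_⟩
  rw [← qfLocus_baseChange hX hY hV sq.flip hf z]
  exact mem_qfLocus_of_locP hP hV fst hfst z

end Groth.Agent.Lib.Helper16.QfAt
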