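import Groth.Agent.Lib.Helper16.DecentSober
import Groth.Agent.Lib.Helper16.DiagMap
import Groth.Agent.Lib.Helper16.DiagProps
import Groth.Agent.Lib.Helper15.QcDescent
import Mathlib.AlgebraicGeometry.Noetherian

/-!
# Helper library (helper16): a locally Noetherian decent algebraic space is quasi-separated
-/

set_option autoImplicit false
universe u
open CategoryTheory CategoryTheory.Limits AlgebraicGeometry Opposite Topology TopologicalSpace

namespace Groth.Agent.Lib.Helper16.Strata

open AlgSp

/-- An etale separated morphism to a Noetherian scheme whose fibres have bounded geometric degree has quasi-compact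
source. -/
theorem compactSpace_of_forall_not_hasDeg (N : ℕ) : ∀ {W V : Scheme.{u}} (s : W ⟶ V) [Etale s] [IsSeparated s]
    [IsNoetherian V], (∀ v, ¬ HasDeg s v (N + 1)) → IsCompact (Set.univ : Set ↥W) := by
  induction N with
  | zero =>
    intro W V s _ _ _ h
    have : IsEmpty ↥W := ⟨fun w => h (s w) ((hasDeg_one_iff s _).2 ⟨w, rfl⟩)⟩
    rw [Set.univ_eq_empty_iff.2 this]
    exact isCompact_empty
  | succ N ih =>
    intro W V s _ _ _ h
    obtain ⟨O, hO⟩ : ∃ O : V.Opens, (O : Set ↥V) = {v | HasDeg s v (N + 1)} :=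
      ⟨⟨_, isOpen_setOf_hasDeg (N + 1) s⟩, rfl⟩
    have hfin : IsFinite (pullback.snd s O.ι) := by
      refine isFinite_of_forall_hasDeg (N + 1) _ (fun z => ?_)
      rw [hasDeg_snd_iff, hasDeg_snd_iff]
      have hz : O.ι z ∈ (O : Set ↥V) := z.2
      rw [hO] at hz
      exact ⟨hz, h _⟩
    have hcO : CompactSpace ↥(pullback s O.ι) := by
      have : CompactSpace ↥O.toScheme := isCompact_iff_compactSpace.1 (NoetherianSpace.isCompact _)
      exact QuasiCompact.compactSpace_of_compactSpace (pullback.snd s O.ι)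
    obtain ⟨Z, ι, hιcl, hι⟩ : ∃ (Z : Scheme.{u}) (ι : Z ⟶ V), IsClosedImmersion ι ∧
        Set.range ι = (O : Set ↥V)ᶜ := by
      refine ⟨_, (Scheme.IdealSheafData.vanishingIdeal ⟨(O : Set ↥V)ᶜ, O.isOpen.isClosed_compl⟩).subschemeι,
        inferInstance, ?_⟩
      rw [Scheme.IdealSheafData.range_subschemeι]
      simp
    have hZN : IsNoetherian Z := by
      have h1 : IsLocallyNoetherian Z := LocallyOfFiniteType.isLocallyNoetherian ι
      have h2 : CompactSpace ↥Z := QuasiCompact.compactSpace_of_compactSpace ι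
      exact { toIsLocallyNoetherian := h1, toCompactSpace := h2 }
    have hcZ : CompactSpace ↥(pullback s ι) := by
      refine ⟨ih (pullback.snd s ι) (fun z hz => ?_)⟩
      rw [hasDeg_snd_iff] at hz
      have hz' : ι z ∈ (O : Set ↥V)ᶜ := by rw [← hι]; exact Set.mem_range_self z
      apply hz'
      rw [hO]
      exact hz
    have hcov : Set.range (pullback.fst s O.ι) ∪ Set.range (pullback.fst s ι) = Set.univ := by
      rw [← Set.univ_subset_iff]
      intro w _
      by_cases hw : s w ∈ (O : Set ↥V)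
      · left
        obtain ⟨z, hz1, -⟩ := Scheme.Pullback.exists_preimage_pullback (f := s) (g := O.ι) w ⟨s w, hw⟩ rfl
        exact ⟨z, hz1⟩
      · right
        have hw' : s w ∈ Set.range ι := by rw [hι]; exact hw
        obtain ⟨z', hz'⟩ := hw'
        obtain ⟨z, hz1, -⟩ := Scheme.Pullback.exists_preimage_pullback (f := s) (g := ι) w z' hz'.symm
        exact ⟨z, hz1⟩
    rw [← hcov]
    exact (isCompact_range (pullback.fst s O.ι).continuous).union
      (isCompact_range (pullback.fst s ι).continuous)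

/-- On a Noetherian scheme, pointwise bounds for the geometric degrees of an etale separated morphism give a
global bound. -/
theorem exists_bound_of_forall_exists_bound {W V : Scheme.{u}} (s : W ⟶ V) [Etale s] [IsSeparated s]
    [IsNoetherian V] (h : ∀ v, ∃ N, ∀ d, HasDeg s v d → d ≤ N) : ∃ N, ∀ v, ¬ HasDeg s v (N + 1) := by
  classical
  have hfin : (irreducibleComponents ↥V).Finite := NoetherianSpace.finite_irreducibleComponents
  choose Nf hNf using h
  let g : Set ↥V → ℕ := fun C => if hC : ∃ ξ, IsGenericPoint ξ C then Nf hC.choose else 0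
  refine ⟨hfin.toFinset.sup g, fun v hv => ?_⟩
  have hC : irreducibleComponent v ∈ irreducibleComponents ↥V := irreducibleComponent_mem_irreducibleComponents v
  have hex : ∃ ξ, IsGenericPoint ξ (irreducibleComponent v) :=
    QuasiSober.sober isIrreducible_irreducibleComponent isClosed_irreducibleComponent
  have hspec : hex.choose ⤳ v := hex.choose_spec.specializes mem_irreducibleComponent
  have h1 : HasDeg s hex.choose (hfin.toFinset.sup g + 1) :=
    hspec.mem_open (isOpen_setOf_hasDeg _ s) hv
  have h2 := hNf _ _ h1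
  have h3 : g (irreducibleComponent v) ≤ hfin.toFinset.sup g := Finset.le_sup (hfin.mem_toFinset.2 hC)
  have h4 : g (irreducibleComponent v) = Nf hex.choose := dif_pos hex
  omega

variable {S : Scheme.{u}} {F : Sp S} {U V R : Over S} {a : (yon S).obj U ⟶ F} {b : (yon S).obj V ⟶ F}
  {c : R ⟶ U} {sn : R ⟶ V}

theorem hom_ext_R₂ (sq : IsPullback ((yon S).map c) ((yon S).map sn) a b) {T : Over S} {ρ₁ ρ₂ : T ⟶ R}
    (h1 : ρ₁ ≫ c = ρ₂ ≫ c) (h2 : ρ₁ ≫ sn = ρ₂ ≫ sn) : ρ₁ = ρ₂ := by
  apply (yon S).map_injective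
  apply sq.hom_ext
  · rw [← Functor.map_comp, ← Functor.map_comp, h1]
  · rw [← Functor.map_comp, ← Functor.map_comp, h2]

theorem exists_lift_R₂ (sq : IsPullback ((yon S).map c) ((yon S).map sn) a b) {T : Over S} (x : T ⟶ U)
    (y : T ⟶ V) (h : (yon S).map x ≫ a = (yon S).map y ≫ b) : ∃ ρ : T ⟶ R, ρ ≫ c = x ∧ ρ ≫ sn = y := by
  refine ⟨(yon S).preimage (sq.lift _ _ h), ?_, ?_⟩
  · apply (yon S).map_injective
    rw [Functor.map_comp, Functor.map_preimage, sq.lift_fst]
  · apply (yon S).map_injective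
    rw [Functor.map_comp, Functor.map_preimage, sq.lift_snd]

/-- The second projection of `h_U ×_F h_V` is separated when `U` is affine. -/
theorem isSeparated_sn₂ (sq : IsPullback ((yon S).map c) ((yon S).map sn) a b) [IsAffine U.left] :
    IsSeparated sn.left := by
  have hU : IsSeparated U.hom := ClosedPt.isSeparated_of_isAffine U.hom
  let m : R.left ⟶ pullback U.hom V.hom := pullback.lift c.left sn.left (by rw [Over.w c, Over.w sn])
  have hm : Mono m := by
    constructor
    intro W m₁ m₂ h
    have h1 : m₁ ≫ c.left = m₂ ≫ c.left := by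
      have := congrArg (· ≫ pullback.fst U.hom V.hom) h
      simpa only [Category.assoc, pullback.lift_fst, m] using this
    have h2 : m₁ ≫ sn.left = m₂ ≫ sn.left := by
      have := congrArg (· ≫ pullback.snd U.hom V.hom) h
      simpa only [Category.assoc, pullback.lift_snd, m] using this
    have hw : m₂ ≫ R.hom = m₁ ≫ R.hom := by
      rw [← Over.w sn, ← Category.assoc, ← h2, Category.assoc]
    let m₁' : Over.mk (m₁ ≫ R.hom) ⟶ R := Over.homMk m₁ rfl
    let m₂' : Over.mk (m₁ ≫ R.hom) ⟶ R := Over.homMk m₂ hw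
    have := hom_ext_R₂ sq (ρ₁ := m₁') (ρ₂ := m₂') (Over.OverMorphism.ext h1) (Over.OverMorphism.ext h2)
    exact congrArg CommaMorphism.left this
  have : sn.left = m ≫ pullback.snd U.hom V.hom := (pullback.lift_snd _ _ _).symm
  rw [this]
  infer_instance

/-- On a decent space the geometric degrees of the fibres of `h_U ×_F h_V ⟶ h_V` are finite, for `U` quasi-compact
and etale over `F`. -/
theorem exists_bound_hasDeg₂ (sq : IsPullback ((yon S).map c) ((yon S).map sn) a b) (hF : IsDecent F)
    (ha : RepWith @Etale a) [CompactSpace ↥U.left] (v : ↥V.left) :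
    ∃ N : ℕ, ∀ d, HasDeg sn.left v d → d ≤ N := by
  obtain ⟨p, hp, hm, hq⟩ := hF (Points.ofPt b v)
  have sqF := hq.rep.isPullback a
  obtain ⟨c₀, hc₀⟩ := (yon S).map_surjective (hq.rep.fst a)
  rw [← hc₀] at sqF
  have hqc : QuasiCompact (hq.rep.snd a).left := hq.property_snd a
  have hcet : Etale c₀.left := ha.property p.toHom _ c₀ sqF.flip
  have hcpt : CompactSpace ↥(hq.rep.pullback a).left :=
    QuasiCompact.compactSpace_of_compactSpace (hq.rep.snd a).left
  obtain ⟨n, hn⟩ := UBF.hasUnivBddFibres_yon_map_of_etale c₀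
  refine ⟨n, ?_⟩
  rintro d ⟨K, _, x, ρ, hx, hρ, hinj⟩
  have hR : sn.left ≫ V.hom = R.hom := Over.w sn
  let TK : Over S := Over.mk (x ≫ V.hom)
  let x' : TK ⟶ V := Over.homMk x rfl
  let ρ' : Fin d → (TK ⟶ R) := fun i => Over.homMk (ρ i) (by
    change ρ i ≫ R.hom = x ≫ V.hom
    rw [← hR, ← Category.assoc, hρ])
  have hρ'sn : ∀ i, ρ' i ≫ sn = x' := fun i => Over.OverMorphism.ext (hρ i)
  have hqp : Points.mk (fieldPtOfHom K (x ≫ V.hom) ((yon S).map x' ≫ b)) = Points.mk p := by
    rw [mk_fieldPtOfHom_eq_ofPt, hp]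
    exact (ofPt_yon_map_comp x' b _).trans (congrArg _ hx)
  obtain ⟨φ, hφ⟩ := exists_factor_of_mono_of_mk_eq p hm hq.rep (x ≫ V.hom) ((yon S).map x' ≫ b) hqp
  have hy : ∀ i, (yon S).map φ ≫ p.toHom = (yon S).map (ρ' i ≫ c) ≫ a := fun i => by
    rw [← hφ, Functor.map_comp, Category.assoc, sq.w, ← Category.assoc, ← Functor.map_comp, hρ'sn]
  have hz : ∀ i, ∃ z : TK ⟶ hq.rep.pullback a, z ≫ c₀ = φ ∧ z ≫ hq.rep.snd a = ρ' i ≫ c := fun i => by
    refine ⟨(yon S).preimage (sqF.lift _ _ (hy i)), ?_, ?_⟩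
    · apply (yon S).map_injective
      rw [Functor.map_comp, Functor.map_preimage, sqF.lift_fst]
    · apply (yon S).map_injective
      rw [Functor.map_comp, Functor.map_preimage, sqF.lift_snd]
  choose z hz1 hz2 using hz
  have sqP : IsPullback ((yon S).map (pullback.fst φ c₀)) ((yon S).map (pullback.snd φ c₀))
      ((yon S).map φ) ((yon S).map c₀) := (IsPullback.of_hasPullback φ c₀).map (yon S)
  have hdeg := degFibresLE_apply_hom hn (x ≫ V.hom) ((yon S).map φ) (pullback φ c₀) (pullback.fst φ c₀)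
    ((yon S).map (pullback.snd φ c₀)) sqP
  let τ : Fin d → (TK ⟶ pullback φ c₀) := fun i => pullback.lift (𝟙 TK) (z i) (by rw [Category.id_comp, hz1])
  refine card_sections_le (pullback.fst φ c₀).left hdeg (fun i => (τ i).left) (fun i => ?_) (fun i j hij => ?_)
  · have : τ i ≫ pullback.fst φ c₀ = 𝟙 TK := pullback.lift_fst _ _ _
    exact congrArg CommaMorphism.left this
  · have h1 : τ i = τ j := Over.OverMorphism.ext hij
    have h2 : z i = z j := by
      have := congrArg (· ≫ pullback.snd φ c₀) h1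
      simpa only [τ, pullback.lift_snd] using this
    have h3 : ρ' i ≫ c = ρ' j ≫ c := by rw [← hz2, ← hz2, h2]
    have h5 : ρ' i = ρ' j := hom_ext_R₂ sq h3 (by rw [hρ'sn, hρ'sn])
    exact hinj (congrArg CommaMorphism.left h5)

/-- For a decent space `F`, `h_U ×_F h_V` is quasi-compact for `U` affine etale over `F` and `V` Noetherian. -/
theorem compactSpace_of_isPullback_of_isDecent (sq : IsPullback ((yon S).map c) ((yon S).map sn) a b)
    (hF : IsDecent F) (ha : RepWith @Etale a) [IsAffine U.left] [IsNoetherian V.left] :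
    CompactSpace ↥R.left := by
  have het : Etale sn.left := ha.property b ((yon S).map c) sn sq
  have hsep : IsSeparated sn.left := isSeparated_sn₂ sq
  obtain ⟨N, hN⟩ := exists_bound_of_forall_exists_bound sn.left (fun v => exists_bound_hasDeg₂ sq hF ha v)
  exact ⟨compactSpace_of_forall_not_hasDeg N sn.left hN⟩

end Groth.Agent.Lib.Helper16.Strata
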