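import Groth.Agent.Lib.Helper16.QuotOpen
import Groth.Agent.Lib.Helper16.YonSigma
import Groth.Agent.Lib.Helper16.GlueRep
import Groth.Agent.Lib.Helper16.FreeQuotSp
import Groth.Agent.Lib.Helper16.TupleAct
import Groth.Agent.Lib.Helper15.OpenSubspace
import Groth.Agent.Lib.Helper15.ToposQuot
import Groth.Agent.Lib.Helper15.CoprodPts

/-!
# Helper library (helper16): the quotient sheaf of a scheme over `S` by a free action of a finite group:
local conjugacy, the relation scheme `∐_G W`, and the kernel pair of the quotient map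
-/

set_option autoImplicit false
universe u
open CategoryTheory CategoryTheory.Limits AlgebraicGeometry Opposite

namespace Groth.Agent.Lib.Helper16.QuotFin

open AlgSp Groth.Agent.Lib.Helper15

variable {S : Scheme.{u}} {G : Type} [Group G] {W : Over S}

/-- A free right action of `G` on `W` over `S` (`φ (σ τ) = φ σ ≫ φ τ`). -/
structure IsFreeAct (φ : G → (W ⟶ W)) : Prop where
  one : φ 1 = 𝟙 W
  mul : ∀ σ τ, φ (σ * τ) = φ σ ≫ φ τ
  free : ∀ σ : G, σ ≠ 1 → ∀ (K : Type u) [Field K] (x : Spec (CommRingCat.of K) ⟶ W.left),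
    x ≫ (φ σ).left ≠ x

/-- Two `T`-points of `W` are locally conjugate under the action. -/
def LocConj (φ : G → (W ⟶ W)) {T : Over S} (w w' : T ⟶ W) : Prop :=
  ∀ t : T.left, ∃ O : T.left.Opens, t ∈ O ∧ ∃ σ : G, overOpenι T O ≫ w' = overOpenι T O ≫ w ≫ φ σ

theorem eq_of_le {T M : Over S} {O O' : T.left.Opens} (h : O' ≤ O) {f g : T ⟶ M}
    (e : overOpenι T O ≫ f = overOpenι T O ≫ g) : overOpenι T O' ≫ f = overOpenι T O' ≫ g := by
  obtain ⟨ℓ, hℓ⟩ := exists_lift_overOpen O (overOpenι T O') (fun t' => h t'.2)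
  rw [← hℓ, Category.assoc, Category.assoc, e]

namespace LocConj

variable {φ : G → (W ⟶ W)}

theorem refl (hφ : IsFreeAct φ) {T : Over S} (w : T ⟶ W) : LocConj φ w w :=
  fun _ => ⟨⊤, trivial, 1, by rw [hφ.one, Category.comp_id]⟩

theorem symm (hφ : IsFreeAct φ) {T : Over S} {w w' : T ⟶ W} (h : LocConj φ w w') : LocConj φ w' w := by
  intro t
  obtain ⟨O, htO, σ, hσ⟩ := h t
  refine ⟨O, htO, σ⁻¹, ?_⟩
  calc overOpenι T O ≫ w = overOpenι T O ≫ w ≫ φ (σ * σ⁻¹) := by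
        rw [mul_inv_cancel, hφ.one, Category.comp_id]
    _ = (overOpenι T O ≫ w ≫ φ σ) ≫ φ σ⁻¹ := by rw [hφ.mul]; simp only [Category.assoc]
    _ = overOpenι T O ≫ w' ≫ φ σ⁻¹ := by rw [← hσ, Category.assoc]

theorem trans (hφ : IsFreeAct φ) {T : Over S} {w w' w'' : T ⟶ W} (h : LocConj φ w w')
    (h' : LocConj φ w' w'') : LocConj φ w w'' := by
  intro t
  obtain ⟨O, htO, σ, hσ⟩ := h t
  obtain ⟨O', htO', τ, hτ⟩ := h' t
  refine ⟨O ⊓ O', ⟨htO, htO'⟩, σ * τ, ?_⟩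
  have h1 := eq_of_le (inf_le_left : O ⊓ O' ≤ O) hσ
  have h2 := eq_of_le (inf_le_right : O ⊓ O' ≤ O') hτ
  calc overOpenι T (O ⊓ O') ≫ w'' = (overOpenι T (O ⊓ O') ≫ w') ≫ φ τ := by rw [h2, Category.assoc]
    _ = (overOpenι T (O ⊓ O') ≫ w ≫ φ σ) ≫ φ τ := by rw [h1]
    _ = overOpenι T (O ⊓ O') ≫ w ≫ φ (σ * τ) := by rw [hφ.mul]; simp only [Category.assoc]

theorem comp {T T' : Over S} {w w' : T ⟶ W} (h : LocConj φ w w') (g : T' ⟶ T) :
    LocConj φ (g ≫ w) (g ≫ w') := by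
  intro t'
  obtain ⟨O, htO, σ, hσ⟩ := h (g.left t')
  refine ⟨g.left ⁻¹ᵁ O, htO, σ, ?_⟩
  obtain ⟨ℓ, hℓ⟩ := exists_lift_overOpen O (overOpenι T' (g.left ⁻¹ᵁ O) ≫ g) (fun y => y.2)
  calc overOpenι T' (g.left ⁻¹ᵁ O) ≫ g ≫ w' = (ℓ ≫ overOpenι T O) ≫ w' := by rw [hℓ, Category.assoc]
    _ = ℓ ≫ overOpenι T O ≫ w ≫ φ σ := by rw [Category.assoc, hσ]
    _ = (ℓ ≫ overOpenι T O) ≫ w ≫ φ σ := by rw [Category.assoc]
    _ = overOpenι T' (g.left ⁻¹ᵁ O) ≫ (g ≫ w) ≫ φ σ := by rw [hℓ]; simp only [Category.assoc]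

theorem comp_eq {T M : Over S} {w w' : T ⟶ W} (h : LocConj φ w w') (q : W ⟶ M) (hq : ∀ σ, φ σ ≫ q = q) :
    w ≫ q = w' ≫ q := by
  apply Tuple.over_hom_ext_of_forall
  intro t
  obtain ⟨O, htO, σ, hσ⟩ := h t
  refine ⟨O, htO, ?_⟩
  rw [← Category.assoc _ w' q, hσ, Category.assoc, Category.assoc, hq]

theorem comp_mono_iff {W₀ : Over S} {φ₀ : G → (W₀ ⟶ W₀)} (ι : W₀ ⟶ W) [Mono ι]
    (hι : ∀ σ, φ₀ σ ≫ ι = ι ≫ φ σ) {T : Over S} (w w' : T ⟶ W₀) :
    LocConj φ (w ≫ ι) (w' ≫ ι) ↔ LocConj φ₀ w w' := by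
  constructor
  · intro h t
    obtain ⟨O, htO, σ, hσ⟩ := h t
    refine ⟨O, htO, σ, ?_⟩
    rw [← cancel_mono ι]
    simp only [Category.assoc] at hσ ⊢
    rw [hι]
    exact hσ
  · intro h t
    obtain ⟨O, htO, σ, hσ⟩ := h t
    refine ⟨O, htO, σ, ?_⟩
    have := congrArg (· ≫ ι) hσ
    simp only [Category.assoc] at this ⊢
    rw [hι] at this
    exact this

end LocConj

section Relation

variable [Finite G]

/-- The relation scheme `∐_G W`. -/
noncomputable def E (W : Over S) (G : Type) [Finite G] : Over S := ovSigma (fun _ : G => W)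

/-- The source map of the relation (the identity on each copy). -/
noncomputable def sE : E W G ⟶ W := ovSigmaDesc (fun _ : G => W) (fun _ => 𝟙 W)

/-- The target map of the relation (the action on each copy). -/
noncomputable def tE (φ : G → (W ⟶ W)) : E W G ⟶ W := ovSigmaDesc (fun _ : G => W) φ

/-- The inclusion of the copy indexed by `σ`. -/
noncomputable def ιE (σ : G) : W ⟶ E W G := ovSigmaι (fun _ : G => W) σ

theorem ιE_sE (σ : G) : ιE σ ≫ sE = 𝟙 W := ovSigmaι_desc _ _ σ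

theorem ιE_tE (φ : G → (W ⟶ W)) (σ : G) : ιE σ ≫ tE φ = φ σ := ovSigmaι_desc _ _ σ

instance (σ : G) : IsOpenImmersion (ιE (W := W) σ).left := by
  show IsOpenImmersion (Sigma.ι (fun _ : G => W.left) σ)
  infer_instance

theorem exists_mem_range_ιE (x : ↥(E W G).left) : ∃ σ : G, x ∈ Set.range (ιE (W := W) σ).left := by
  obtain ⟨j, y, hy⟩ := (sigmaOpenCover (fun _ : G => W.left)).exists_eq x
  exact ⟨j, y, hy⟩

variable (φ : G → (W ⟶ W))

/-- A `T`-point of the relation scheme gives locally conjugate points. -/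
theorem locConj_of_rel {T : Over S} (r : T ⟶ E W G) : LocConj φ (r ≫ sE) (r ≫ tE φ) := by
  intro x
  obtain ⟨σ, hσ⟩ := exists_mem_range_ιE (r.left x)
  obtain ⟨O, hO⟩ : ∃ O : T.left.Opens, O = r.left ⁻¹ᵁ (ιE (W := W) σ).left.opensRange := ⟨_, rfl⟩
  have hxO : x ∈ O := by rw [hO]; exact hσ
  have hOmem : ∀ y : T.left, y ∈ O → r.left y ∈ Set.range (ιE (W := W) σ).left := by
    intro y hy
    rw [hO] at hy
    exact hy
  refine ⟨O, hxO, σ, ?_⟩
  obtain ⟨ℓ, hℓ⟩ := GlueRep.exists_lift_of_range_subset (ιE (W := W) σ) (overOpenι T O ≫ r) (by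
    rintro _ ⟨z, rfl⟩
    exact hOmem _ z.2)
  have h1 : overOpenι T O ≫ r ≫ tE φ = ℓ ≫ φ σ := by
    rw [← Category.assoc, ← hℓ, Category.assoc, ιE_tE]
  have h2 : overOpenι T O ≫ r ≫ sE = ℓ := by
    rw [← Category.assoc, ← hℓ, Category.assoc, ιE_sE, Category.comp_id]
  calc overOpenι T O ≫ r ≫ tE φ = ℓ ≫ φ σ := h1
    _ = (overOpenι T O ≫ r ≫ sE) ≫ φ σ := by rw [h2]
    _ = overOpenι T O ≫ (r ≫ sE) ≫ φ σ := by simp only [Category.assoc]

variable {φ}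

/-- Locally conjugate points come from a `T`-point of the relation scheme. -/
theorem exists_rel_of_locConj (hφ : IsFreeAct φ) {T : Over S} (a b : T ⟶ W) (h : LocConj φ b a) :
    ∃ r : T ⟶ E W G, r ≫ tE φ = a ∧ r ≫ sE = b := by
  have hopenT : ∀ σ : G, IsOpen {t : T.left | ∃ O : T.left.Opens, t ∈ O ∧
      overOpenι T O ≫ a = overOpenι T O ≫ b ≫ φ σ} := by
    intro σ
    rw [isOpen_iff_forall_mem_open]
    rintro t ⟨O, htO, hO⟩
    exact ⟨O, fun t' ht' => ⟨O, ht', hO⟩, O.2, htO⟩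
  obtain ⟨Tσ, hTσ⟩ : ∃ Tσ : G → T.left.Opens, ∀ σ (t : T.left), t ∈ Tσ σ ↔
      ∃ O : T.left.Opens, t ∈ O ∧ overOpenι T O ≫ a = overOpenι T O ≫ b ≫ φ σ :=
    ⟨fun σ => ⟨_, hopenT σ⟩, fun σ t => Iff.rfl⟩
  have hdisj : ∀ σ τ, σ ≠ τ → ∀ t : T.left, t ∈ Tσ σ → t ∈ Tσ τ → False := by
    intro σ τ hne t h1 h2
    obtain ⟨O₁, h1, e1⟩ := (hTσ σ t).1 h1
    obtain ⟨O₂, h2, e2⟩ := (hTσ τ t).1 h2
    have e1' := eq_of_le (inf_le_left : O₁ ⊓ O₂ ≤ O₁) e1
    have e2' := eq_of_le (inf_le_right : O₁ ⊓ O₂ ≤ O₂) e2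
    obtain ⟨z, hz⟩ := exists_lift_overOpen (O₁ ⊓ O₂) (Tuple.ptOverι T t) (fun y => by
      rw [show (Tuple.ptOverι T t).left y = t from T.left.fromSpecResidueField_apply t y]
      exact ⟨h1, h2⟩)
    obtain ⟨p, hp⟩ : ∃ p : Tuple.ptOver T t ⟶ T, p = Tuple.ptOverι T t := ⟨_, rfl⟩
    rw [← hp] at hz
    have e3 : p ≫ b ≫ φ σ = p ≫ b ≫ φ τ := by
      rw [← hz, Category.assoc, Category.assoc, ← e1', e2']
    have e4 : (p ≫ b) ≫ φ (σ * τ⁻¹) = p ≫ b := by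
      calc (p ≫ b) ≫ φ (σ * τ⁻¹) = (p ≫ b ≫ φ σ) ≫ φ τ⁻¹ := by rw [hφ.mul]; simp only [Category.assoc]
        _ = (p ≫ b ≫ φ τ) ≫ φ τ⁻¹ := by rw [e3]
        _ = (p ≫ b) ≫ φ (τ * τ⁻¹) := by rw [hφ.mul]; simp only [Category.assoc]
        _ = p ≫ b := by rw [mul_inv_cancel, hφ.one, Category.comp_id]
    have hne' : σ * τ⁻¹ ≠ 1 := fun e => hne (mul_inv_eq_one.1 e)
    exact hφ.free _ hne' (T.left.residueField t) (p ≫ b).left (congrArg CommaMorphism.left e4)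
  have hopen : ∀ σ, IsOpenImmersion (overOpenι T (Tσ σ)).left := fun σ => by
    change IsOpenImmersion (Tσ σ).ι
    infer_instance
  obtain ⟨hc⟩ := isColimit_cofan_yon_of_disjoint_open_cover (fun σ => overOpen T (Tσ σ))
    (fun σ => overOpenι T (Tσ σ)) hopen
    (fun x => by
      obtain ⟨O, hxO, σ, hσ⟩ := h x
      exact ⟨σ, ⟨x, (hTσ σ x).2 ⟨O, hxO, hσ⟩⟩, rfl⟩)
    (fun σ τ hne => by
      rw [Set.disjoint_left]
      rintro _ ⟨y, rfl⟩ ⟨y', hy'⟩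
      exact hdisj σ τ hne ((overOpenι T (Tσ σ)).left y) y.2 (by rw [← hy']; exact y'.2))
  obtain ⟨r, hr⟩ : ∃ r : T ⟶ E W G, ∀ σ, overOpenι T (Tσ σ) ≫ r = overOpenι T (Tσ σ) ≫ b ≫ ιE σ := by
    refine ⟨(yon S).preimage (Cofan.IsColimit.desc hc
      (fun σ => (yon S).map (overOpenι T (Tσ σ) ≫ b ≫ ιE σ))), fun σ => ?_⟩
    apply (yon S).map_injective
    rw [Functor.map_comp, Functor.map_preimage]
    exact Cofan.IsColimit.fac hc _ σ
  have key : ∀ t : T.left, ∃ O : T.left.Opens, t ∈ O ∧ ∃ σ : G,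
      overOpenι T O ≫ a = overOpenι T O ≫ b ≫ φ σ ∧ overOpenι T O ≫ r = overOpenι T O ≫ b ≫ ιE σ := by
    intro t
    obtain ⟨O, htO, σ, hσ⟩ := h t
    refine ⟨O, htO, σ, hσ, ?_⟩
    obtain ⟨ℓ, hℓ⟩ := exists_lift_overOpen (Tσ σ) (overOpenι T O) (fun y => (hTσ σ _).2 ⟨O, y.2, hσ⟩)
    rw [← hℓ, Category.assoc, hr, Category.assoc]
  refine ⟨r, ?_, ?_⟩
  · apply Tuple.over_hom_ext_of_forall
    intro t
    obtain ⟨O, htO, σ, h1, h2⟩ := key t
    refine ⟨O, htO, ?_⟩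
    rw [← Category.assoc, h2, Category.assoc, Category.assoc, ιE_tE, h1]
  · apply Tuple.over_hom_ext_of_forall
    intro t
    obtain ⟨O, htO, σ, h1, h2⟩ := key t
    refine ⟨O, htO, ?_⟩
    rw [← Category.assoc, h2, Category.assoc, Category.assoc, ιE_sE, Category.comp_id]

theorem rel_iff_locConj (hφ : IsFreeAct φ) {T : Over S} (a b : T ⟶ W) :
    (∃ r : T ⟶ E W G, r ≫ tE φ = a ∧ r ≫ sE = b) ↔ LocConj φ b a := by
  constructor
  · rintro ⟨r, rfl, rfl⟩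
    exact locConj_of_rel φ r
  · exact exists_rel_of_locConj hφ a b

theorem equivalence_rel (hφ : IsFreeAct φ) (T : Over S) :
    _root_.Equivalence (fun a b : T ⟶ W => ∃ r : T ⟶ E W G, r ≫ tE φ = a ∧ r ≫ sE = b) := by
  refine ⟨fun a => ?_, fun {a b} hab => ?_, fun {a b c} hab hbc => ?_⟩
  · exact (rel_iff_locConj hφ a a).2 (LocConj.refl hφ a)
  · exact (rel_iff_locConj hφ b a).2 (((rel_iff_locConj hφ a b).1 hab).symm hφ)
  · exact (rel_iff_locConj hφ a c).2 (((rel_iff_locConj hφ b c).1 hbc).trans hφ ((rel_iff_locConj hφ a b).1 hab))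

theorem isPreEqvRelSp (hφ : IsFreeAct φ) :
    IsPreEqvRelSp ((yon S).map (sE (W := W) (G := G))) ((yon S).map (tE φ)) :=
  QuotOpen.isPreEqvRelSp_yon _ _ (equivalence_rel hφ)

/-- The quotient sheaf `W/G`. -/
noncomputable def quotF (φ : G → (W ⟶ W)) : Sp S := quotSp ((yon S).map (sE (W := W) (G := G))) ((yon S).map (tE φ))

/-- The quotient map `h_W ⟶ W/G`. -/
noncomputable def quotFπ (φ : G → (W ⟶ W)) : (yon S).obj W ⟶ quotF φ :=
  quotSpπ ((yon S).map (sE (W := W) (G := G))) ((yon S).map (tE φ))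

instance (φ : G → (W ⟶ W)) : Epi (quotFπ φ) := by
  unfold quotFπ quotSpπ
  exact coequalizer.π_epi

theorem quotF_condition (φ : G → (W ⟶ W)) :
    (yon S).map (sE (W := W) (G := G)) ≫ quotFπ φ = (yon S).map (tE φ) ≫ quotFπ φ :=
  quotSp_condition _ _

theorem act_quotFπ (φ : G → (W ⟶ W)) (σ : G) : (yon S).map (φ σ) ≫ quotFπ φ = quotFπ φ := by
  have h := quotF_condition φ
  have h2 := congrArg (fun m => (yon S).map (ιE (W := W) σ) ≫ m) h
  simp only [← Category.assoc, ← Functor.map_comp, ιE_sE, ιE_tE] at h2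
  rw [yon_map_id, Category.id_comp] at h2
  exact h2.symm

/-- Locally (for the fppf topology) related sections are Zariski locally conjugate. -/
theorem locConj_of_quotFπ_eq (hφ : IsFreeAct φ) {T : Over S} (w w' : T ⟶ W)
    (h : (yon S).map w ≫ quotFπ φ = (yon S).map w' ≫ quotFπ φ) : LocConj φ w w' := by
  obtain ⟨R', hR', hrel⟩ := exists_rel_of_quotSpπ_eq (isPreEqvRelSp hφ) ((yon S).map w') ((yon S).map w) h.symm
  intro t
  rw [J_eq, GrothendieckTopology.mem_over_iff] at hR'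
  obtain ⟨𝒰, hle⟩ := (Scheme.mem_grothendieckTopology_iff
    (P := @Flat ⊓ @LocallyOfFinitePresentation)).1 hR'
  obtain ⟨i, y, hy⟩ := 𝒰.exists_eq t
  have hg' := hle _ _ (Presieve.ofArrows.mk i)
  rw [Sieve.overEquiv_iff] at hg'
  obtain ⟨g, hg⟩ : ∃ g : Over.mk (𝒰.f i ≫ T.hom) ⟶ T, g = Over.homMk (𝒰.f i) := ⟨_, rfl⟩
  have hflat : Flat g.left := by rw [hg]; exact (𝒰.map_prop i).1
  have hlfp : LocallyOfFinitePresentation g.left := by rw [hg]; exact (𝒰.map_prop i).2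
  have hgy : g.left y = t := by rw [hg]; exact hy
  have hR'g : R' g := by rw [hg]; exact hg'
  obtain ⟨r, hr1, hr2⟩ := hrel g hR'g
  obtain ⟨ρ, rfl⟩ := (yon S).map_surjective r
  rw [← Functor.map_comp, ← Functor.map_comp] at hr1 hr2
  have hr1' := (yon S).map_injective hr1
  have hr2' := (yon S).map_injective hr2
  have hlc : LocConj φ (g ≫ w) (g ≫ w') := by
    have := locConj_of_rel φ ρ
    rwa [hr1', hr2'] at this
  obtain ⟨O', hyO', σ, hσ⟩ := hlc y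
  obtain ⟨O, hO⟩ : ∃ O : T.left.Opens, (O : Set T.left) = g.left '' (O' : Set _) :=
    ⟨⟨_, g.left.isOpenMap _ O'.2⟩, rfl⟩
  have hOmem : ∀ x : T.left, x ∈ O ↔ ∃ x' ∈ O', g.left x' = x := fun x => by
    rw [← SetLike.mem_coe, hO]
    rfl
  refine ⟨O, (hOmem t).2 ⟨y, hyO', hgy⟩, σ, ?_⟩
  have hle' : O' ≤ g.left ⁻¹ᵁ O := fun x' hx' => (hOmem _).2 ⟨x', hx', rfl⟩
  let g₀ := g.left.resLE O O' hle'
  have hg₀ : g₀ ≫ O.ι = O'.ι ≫ g.left := Scheme.Hom.resLE_comp_ι _ hle'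
  have hsurj : Surjective g₀ := by
    refine ⟨fun x => ?_⟩
    obtain ⟨x', hx', hx'x⟩ := (hOmem x.1).1 x.2
    refine ⟨⟨x', hx'⟩, ?_⟩
    apply Subtype.ext
    have := congrArg (fun f : (O' : Scheme.{u}) ⟶ T.left => f ⟨x', hx'⟩) hg₀
    exact this.trans hx'x
  have hepi₀ : Epi g₀ := Flat.epi_of_flat_of_surjective g₀
  let g' : overOpen _ O' ⟶ overOpen T O := Over.homMk g₀ (by
    show g₀ ≫ O.ι ≫ T.hom = O'.ι ≫ (Over.mk (𝒰.f i ≫ T.hom)).hom
    rw [← Category.assoc, hg₀, Category.assoc, Over.w g])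
  have hg'ι : g' ≫ overOpenι T O = overOpenι _ O' ≫ g := by
    ext1
    exact hg₀
  have hepi : Epi g' := by
    have : Epi ((Over.forget S).map g') := hepi₀
    exact (Over.forget S).epi_of_epi_map this
  rw [← cancel_epi g']
  calc g' ≫ overOpenι T O ≫ w' = overOpenι _ O' ≫ g ≫ w' := by rw [← Category.assoc, hg'ι, Category.assoc]
    _ = overOpenι _ O' ≫ (g ≫ w) ≫ φ σ := hσ
    _ = g' ≫ overOpenι T O ≫ w ≫ φ σ := by rw [← Category.assoc g', hg'ι]; simp only [Category.assoc]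

theorem quotFπ_eq_of_locConj (hφ : IsFreeAct φ) {T : Over S} (w w' : T ⟶ W) (h : LocConj φ w w') :
    (yon S).map w ≫ quotFπ φ = (yon S).map w' ≫ quotFπ φ := by
  obtain ⟨r, hr1, hr2⟩ := exists_rel_of_locConj hφ w' w h
  calc (yon S).map w ≫ quotFπ φ = (yon S).map r ≫ (yon S).map sE ≫ quotFπ φ := by
        rw [← Category.assoc, ← Functor.map_comp, hr2]
    _ = (yon S).map r ≫ (yon S).map (tE φ) ≫ quotFπ φ := by
        rw [quotF_condition]
    _ = (yon S).map w' ≫ quotFπ φ := by rw [← Category.assoc, ← Functor.map_comp, hr1]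

theorem quotFπ_eq_iff (hφ : IsFreeAct φ) {T : Over S} (w w' : T ⟶ W) :
    (yon S).map w ≫ quotFπ φ = (yon S).map w' ≫ quotFπ φ ↔ LocConj φ w w' :=
  ⟨locConj_of_quotFπ_eq hφ w w', quotFπ_eq_of_locConj hφ w w'⟩

end Relation

end Groth.Agent.Lib.Helper16.QuotFin
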