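import Groth.Agent.Lib.Helper16.QuotFin1
import Groth.Agent.Lib.Helper17.AlgSpProper
import Groth.Agent.Lib.Helper17.AlgSpEpi
import Mathlib.AlgebraicGeometry.Morphisms.LocalFlatDescent

/-!
# Helper library (helper16): the quotient of a scheme over `S` by a free action of a finite group, all of whose
orbits lie in invariant affine opens, is a scheme
-/

set_option autoImplicit false
universe u
open CategoryTheory CategoryTheory.Limits AlgebraicGeometry Opposite

namespace Groth.Agent.Lib.Helper16.QuotFin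

open AlgSp Groth.Agent.Lib.Helper15

variable {S : Scheme.{u}} {G : Type} [Group G] {W : Over S}

/-- If `O ⊆ P` is an open on which `p₁ ≫ γ` is the identity, for a section `γ` of `p₁`, then `p₁` restricted to `O`
is an open immersion. -/
theorem isOpenImmersion_comp_of_section {P W₀ : Scheme.{u}} (p₁ : P ⟶ W₀) (γ : W₀ ⟶ P) (hγ : γ ≫ p₁ = 𝟙 W₀)
    (O : P.Opens) (hO : O.ι ≫ p₁ ≫ γ = O.ι) : IsOpenImmersion (O.ι ≫ p₁) := by
  obtain ⟨O'', hO''⟩ : ∃ O'' : W₀.Opens, O'' = γ ⁻¹ᵁ O := ⟨_, rfl⟩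
  have hmem : ∀ y : W₀, y ∈ O'' ↔ γ y ∈ O := fun y => by rw [hO'']; rfl
  have hr1 : Set.range (O.ι ≫ p₁) ⊆ Set.range O''.ι := by
    rw [Scheme.Opens.range_ι]
    rintro _ ⟨o, rfl⟩
    show (O.ι ≫ p₁) o ∈ O''
    rw [hmem]
    have h1 : γ ((O.ι ≫ p₁) o) = O.ι o := by
      rw [← Scheme.Hom.comp_apply, Category.assoc, hO]
    rw [h1]
    exact o.2
  let m' := IsOpenImmersion.lift O''.ι (O.ι ≫ p₁) hr1
  have hm' : m' ≫ O''.ι = O.ι ≫ p₁ := IsOpenImmersion.lift_fac _ _ _
  have hr2 : Set.range (O''.ι ≫ γ) ⊆ Set.range O.ι := by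
    rw [Scheme.Opens.range_ι]
    rintro _ ⟨y, rfl⟩
    have hy : (O''.ι y) ∈ O'' := y.2
    rw [hmem] at hy
    rw [Scheme.Hom.comp_apply]
    exact hy
  let n := IsOpenImmersion.lift O.ι (O''.ι ≫ γ) hr2
  have hn : n ≫ O.ι = O''.ι ≫ γ := IsOpenImmersion.lift_fac _ _ _
  have h1 : m' ≫ n = 𝟙 _ := by
    rw [← cancel_mono O.ι]
    calc (m' ≫ n) ≫ O.ι = (m' ≫ O''.ι) ≫ γ := by rw [Category.assoc, hn, Category.assoc]
      _ = O.ι ≫ p₁ ≫ γ := by rw [hm', Category.assoc]
      _ = 𝟙 _ ≫ O.ι := by rw [hO, Category.id_comp]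
  have h2 : n ≫ m' = 𝟙 _ := by
    rw [← cancel_mono O''.ι]
    calc (n ≫ m') ≫ O''.ι = (n ≫ O.ι) ≫ p₁ := by rw [Category.assoc, hm', Category.assoc]
      _ = O''.ι ≫ γ ≫ p₁ := by rw [hn, Category.assoc]
      _ = 𝟙 _ ≫ O''.ι := by rw [hγ, Category.comp_id, Category.id_comp]
  have : IsIso m' := ⟨n, h1, h2⟩
  rw [← hm']
  infer_instance

/-- A flat quasi-compact surjection whose kernel pair is locally the graph of a group action is etale. -/
theorem etale_of_locConj_kernel {W₀ M : Over S} (q : W₀ ⟶ M) [Flat q.left] [Surjective q.left]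
    [QuasiCompact q.left] (φ₀ : G → (W₀ ⟶ W₀)) (hinv : ∀ σ, φ₀ σ ≫ q = q)
    (hker : ∀ (T : Over S) (w w' : T ⟶ W₀), w ≫ q = w' ≫ q → LocConj φ₀ w w') : Etale q.left := by
  obtain ⟨P, p₁, p₂, sqO⟩ : ∃ (P : Over S) (p₁ p₂ : P ⟶ W₀), IsPullback p₁ p₂ q q :=
    ⟨_, _, _, IsPullback.of_hasPullback q q⟩
  have sq : IsPullback p₁.left p₂.left q.left q.left := sqO.map (Over.forget S)
  have hlc := hker P p₁ p₂ sqO.w
  have het : Etale p₁.left := by
    choose O hO σ hσ using hlc
    refine IsZariskiLocalAtSource.of_iSup_eq_top (P := @Etale) O ?_ (fun k => ?_)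
    · exact top_unique (fun x _ => TopologicalSpace.Opens.mem_iSup.2 ⟨x, hO x⟩)
    · obtain ⟨γ, hγ1, hγ2⟩ : ∃ γ : W₀ ⟶ P, γ ≫ p₁ = 𝟙 W₀ ∧ γ ≫ p₂ = φ₀ (σ k) :=
        ⟨sqO.lift (𝟙 W₀) (φ₀ (σ k)) (by rw [Category.id_comp, hinv]), sqO.lift_fst _ _ _, sqO.lift_snd _ _ _⟩
      have h1 : overOpenι P (O k) ≫ p₁ ≫ γ = overOpenι P (O k) := by
        apply sqO.hom_ext
        · simp only [Category.assoc, hγ1, Category.comp_id]
        · simp only [Category.assoc, hγ2]
          exact (hσ k).symm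
      have h2 : (O k).ι ≫ p₁.left ≫ γ.left = (O k).ι := congrArg CommaMorphism.left h1
      have h3 : γ.left ≫ p₁.left = 𝟙 W₀.left := congrArg CommaMorphism.left hγ1
      have := isOpenImmersion_comp_of_section p₁.left γ.left h3 (O k) h2
      infer_instance
  exact MorphismProperty.of_isPullback_of_descendsAlong (P := @Etale)
    (Q := @Surjective ⊓ @Flat ⊓ @QuasiCompact) sq ⟨⟨inferInstance, inferInstance⟩, inferInstance⟩ het

variable {φ : G → (W ⟶ W)} [Finite G]

/-- The quotient of an invariant affine open is an affine scheme, open in the quotient sheaf. -/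
theorem exists_local_quotient (hφ : IsFreeAct φ) (O : W.left.Opens) (hOaff : IsAffineOpen O)
    (hOinv : ∀ (σ : G) (w : W.left), w ∈ O → (φ σ).left w ∈ O) :
    ∃ (M : Over S) (q : overOpen W O ⟶ M) (f : (yon S).obj M ⟶ quotF φ), IsAffine M.left ∧ Etale q.left ∧
      Surjective q.left ∧ RepWith @IsOpenImmersion f ∧
      (yon S).map q ≫ f = (yon S).map (overOpenι W O) ≫ quotFπ φ := by
  classical
  haveI : Fintype G := Fintype.ofFinite G
  obtain ⟨ι, hι⟩ : ∃ ι : overOpen W O ⟶ W, ι = overOpenι W O := ⟨_, rfl⟩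
  have hιmono : Mono ι := by
    have : Mono ((Over.forget S).map ι) := by
      rw [hι]
      change Mono O.ι
      infer_instance
    exact (Over.forget S).mono_of_mono_map this
  have hφ₀ex : ∀ σ, ∃ ψ : overOpen W O ⟶ overOpen W O, ψ ≫ ι = ι ≫ φ σ := fun σ => by
    rw [hι]
    exact exists_lift_overOpen O (overOpenι W O ≫ φ σ) (fun y => hOinv σ _ y.2)
  choose φ₀ hφ₀ using hφ₀ex
  have hfree₀ : IsFreeAct φ₀ := by
    refine ⟨?_, ?_, ?_⟩
    · rw [← cancel_mono ι, hφ₀, hφ.one, Category.comp_id, Category.id_comp]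
    · intro σ τ
      rw [← cancel_mono ι, hφ₀, hφ.mul, Category.assoc (φ₀ σ), hφ₀, ← Category.assoc (φ₀ σ), hφ₀, Category.assoc]
    · intro σ hσ K _ x hx
      apply hφ.free σ hσ K (x ≫ ι.left)
      rw [Category.assoc, ← Over.comp_left, ← hφ₀, Over.comp_left, ← Category.assoc, hx]
  have hWaff : IsAffine (overOpen W O).left := hOaff
  obtain ⟨M, q, hMaff, hqflat, hqsurj, hqlfp, hinv, hker⟩ :=
    FreeQuot.exists_quotient φ₀ hfree₀.one hfree₀.mul hfree₀.free
  have hqet : Etale q.left := etale_of_locConj_kernel q φ₀ hinv (fun T w w' h => hker T w w' h)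
  -- the map of quotient sheaves
  have hlc0 : LocConj φ (sE (W := overOpen W O) (G := G) ≫ ι) (tE φ₀ ≫ ι) := by
    have h1 := locConj_of_rel φ₀ (𝟙 (E (overOpen W O) G))
    rw [Category.id_comp, Category.id_comp] at h1
    exact (LocConj.comp_mono_iff ι hφ₀ _ _).2 h1
  have hcompat : (yon S).map (sE (W := overOpen W O) (G := G)) ≫ (yon S).map ι ≫ quotFπ φ =
      (yon S).map (tE φ₀) ≫ (yon S).map ι ≫ quotFπ φ := by
    have := quotFπ_eq_of_locConj hφ _ _ hlc0
    rw [Functor.map_comp, Functor.map_comp, Category.assoc, Category.assoc] at this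
    exact this
  obtain ⟨ψ, hψ⟩ : ∃ ψ : quotF φ₀ ⟶ quotF φ, quotFπ φ₀ ≫ ψ = (yon S).map ι ≫ quotFπ φ :=
    ⟨quotSpDesc ((yon S).map ι ≫ quotFπ φ) hcompat, quotSpπ_desc _ _ _ _⟩
  have hψo : RepWith @IsOpenImmersion ψ := by
    refine QuotOpen.repWith_isOpenImmersion_quotSp_map (sE (W := W) (G := G)) (tE φ) ι
      (sE (W := overOpen W O) (G := G)) (tE φ₀) (isPreEqvRelSp hφ) ?_ O ?_ ?_ ψ hψ
    · intro T a b ρ h1 h2
      have h3 := locConj_of_rel φ ρ
      rw [h1, h2] at h3
      exact exists_rel_of_locConj hfree₀ a b ((LocConj.comp_mono_iff ι hφ₀ _ _).1 h3)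
    · intro u
      constructor
      · intro hu
        refine ⟨(⟨u, hu⟩ : ↥O), (ιE (W := W) (1 : G)).left u, ?_, ?_⟩
        · have h1 : (ιE (W := W) (1 : G)).left ≫ (tE φ).left = 𝟙 W.left := by
            rw [← Over.comp_left, ιE_tE, hφ.one]
            rfl
          have h2 := congrArg (fun f : W.left ⟶ W.left => f u) h1
          rw [hι]
          exact h2
        · have h1 : (ιE (W := W) (1 : G)).left ≫ (sE (W := W) (G := G)).left = 𝟙 W.left := by
            rw [← Over.comp_left, ιE_sE]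
            rfl
          exact congrArg (fun f : W.left ⟶ W.left => f u) h1
      · rintro ⟨u', ρ, h1, h2⟩
        obtain ⟨σ, y, rfl⟩ := exists_mem_range_ιE ρ
        have e1 : (sE (W := W) (G := G)).left ((ιE (W := W) σ).left y) = y := by
          have h3 : (ιE (W := W) σ).left ≫ (sE (W := W) (G := G)).left = 𝟙 W.left := by
            rw [← Over.comp_left, ιE_sE]
            rfl
          exact congrArg (fun f : W.left ⟶ W.left => f y) h3
        have e2 : (tE φ).left ((ιE (W := W) σ).left y) = (φ σ).left y := by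
          have h3 : (ιE (W := W) σ).left ≫ (tE φ).left = (φ σ).left := by
            rw [← Over.comp_left, ιE_tE]
          exact congrArg (fun f : W.left ⟶ W.left => f y) h3
        rw [e1] at h2
        rw [e2] at h1
        subst h2
        have h4 : (φ σ).left y ∈ O := by
          rw [h1, hι]
          exact u'.2
        have h5 := hOinv σ⁻¹ _ h4
        have h6 : (φ σ).left ≫ (φ σ⁻¹).left = 𝟙 W.left := by
          rw [← Over.comp_left, ← hφ.mul, mul_inv_cancel, hφ.one]
          rfl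
        have h7 : (φ σ⁻¹).left ((φ σ).left y) = y := congrArg (fun f : W.left ⟶ W.left => f y) h6
        rwa [h7] at h5
    · intro T b hb
      refine ⟨⊤, (J S).top_mem T, fun T' c _ => ?_⟩
      obtain ⟨b', hb'⟩ := exists_lift_overOpen O b hb
      refine ⟨c ≫ b', c ≫ b ≫ ιE 1, ?_, ?_⟩
      · rw [Category.assoc, Category.assoc, ιE_tE, hφ.one, Category.comp_id, Category.assoc, hι, hb']
      · rw [Category.assoc, Category.assoc, ιE_sE, Category.comp_id]
  -- the quotient of the affine open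
  have hepiq : Epi ((yon S).map q) := by
    have : Sheaf.IsLocallySurjective ((yon S).map q) :=
      isLocallySurjective_of_repWith_fppf _ ((repWith_yon_map_iff _ _).2 hqflat)
        ((repWith_yon_map_iff _ _).2 hqlfp) ((repWith_yon_map_iff _ _).2 hqsurj)
    infer_instance
  have hk : ∀ (T : Over S) (w w' : T ⟶ overOpen W O),
      (yon S).map w ≫ quotFπ φ₀ = (yon S).map w' ≫ quotFπ φ₀ ↔ w ≫ q = w' ≫ q := by
    intro T w w'
    constructor
    · intro h
      exact ((quotFπ_eq_iff hfree₀ w w').1 h).comp_eq q hinv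
    · intro h
      exact (quotFπ_eq_iff hfree₀ w w').2 (hker T w w' h)
  obtain ⟨e, he⟩ := FreeQuot.exists_iso_of_same_kernel (quotFπ φ₀) inferInstance q hepiq hk
  refine ⟨M, q, e.inv ≫ ψ, hMaff, hqet, hqsurj, ?_, ?_⟩
  · exact (RepWith (S := S) @IsOpenImmersion).comp_mem _ _
      (Helper17.repWith_of_isIso @IsOpenImmersion e.inv) hψo
  · rw [← he, Category.assoc, Iso.hom_inv_id_assoc, hψ, hι]

/-- **The quotient of a scheme by a free action of a finite group, with invariant affine neighbourhoods, is a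
scheme.** -/
theorem exists_scheme_quotient (hφ : IsFreeAct φ)
    (hcov : ∀ w : W.left, ∃ O : W.left.Opens, w ∈ O ∧ IsAffineOpen O ∧
      ∀ (σ : G) (w' : W.left), w' ∈ O → (φ σ).left w' ∈ O) :
    ∃ (V : Over S) (qV : W ⟶ V) (e : (yon S).obj V ≅ quotF φ), (yon S).map qV ≫ e.hom = quotFπ φ ∧
      Etale qV.left ∧ Surjective qV.left := by
  choose O hwO hOaff hOinv using hcov
  have hloc := fun w => exists_local_quotient hφ (O w) (hOaff w) (hOinv w)
  choose M q f hMaff hqet hqsurj hfo hqf using hloc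
  have hcov' : ∀ x : Points (quotF φ), ∃ i, x ∈ Set.range (Points.ofPt (f i)) := by
    intro x
    obtain ⟨x', rfl⟩ := Helper17.isSurjectiveMor_of_epi (quotFπ φ) x
    obtain ⟨w, hw⟩ : ∃ w, w = Points.toScheme W x' := ⟨_, rfl⟩
    have hx' : x' = Points.ofScheme W w := by rw [hw, Points.ofScheme_toScheme]
    refine ⟨w, (q w).left (⟨w, hwO w⟩ : ↥(O w)), ?_⟩
    rw [← ofPt_yon_map_comp, hqf, ofPt_yon_map_comp, hx', ← Points.ofPt_eq_map_ofScheme]
    rfl
  obtain ⟨Mg, e, j, hj, hjo, hjs⟩ := GlueRep.exists_iso_yon_of_open_cover f hfo hcov'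
  obtain ⟨qV, hqV⟩ : ∃ qV : W ⟶ Mg, (yon S).map qV = quotFπ φ ≫ e.inv := ⟨(yon S).preimage _, Functor.map_preimage _ _⟩
  have hqV' : (yon S).map qV ≫ e.hom = quotFπ φ := by rw [hqV, Category.assoc, Iso.inv_hom_id, Category.comp_id]
  have hcomp : ∀ w, overOpenι W (O w) ≫ qV = q w ≫ j w := by
    intro w
    apply (yon S).map_injective
    rw [← cancel_mono e.hom, Functor.map_comp, Category.assoc, hqV', Functor.map_comp, Category.assoc, hj, hqf]
  refine ⟨Mg, qV, e, hqV', ?_, ?_⟩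
  · refine IsZariskiLocalAtSource.of_iSup_eq_top (P := @Etale) O ?_ (fun w => ?_)
    · exact top_unique (fun x _ => TopologicalSpace.Opens.mem_iSup.2 ⟨x, hwO x⟩)
    · have h1 : (O w).ι ≫ qV.left = (q w).left ≫ (j w).left := congrArg CommaMorphism.left (hcomp w)
      rw [h1]
      have := hqet w
      have := hjo w
      infer_instance
  · refine ⟨fun v => ?_⟩
    obtain ⟨w, m, rfl⟩ := hjs v
    obtain ⟨w₀, rfl⟩ := (hqsurj w).surj m
    refine ⟨(O w).ι w₀, ?_⟩
    have h1 : (O w).ι ≫ qV.left = (q w).left ≫ (j w).left := congrArg CommaMorphism.left (hcomp w)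
    have := congrArg (fun g : ((O w : W.left.Opens) : Scheme.{u}) ⟶ Mg.left => g w₀) h1
    exact this

end Groth.Agent.Lib.Helper16.QuotFin
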