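import Groth.Agent.Lib.Helper16.QuotFin2
import Mathlib.AlgebraicGeometry.PullbackCarrier

/-!
# Helper library (helper16): properties of the scheme quotient by a free finite group action: kernel pair,
universal property, separatedness
-/

set_option autoImplicit false
universe u
open CategoryTheory CategoryTheory.Limits AlgebraicGeometry Opposite

namespace Groth.Agent.Lib.Helper16.QuotFin

open AlgSp Groth.Agent.Lib.Helper15

variable {S : Scheme.{u}} {G : Type} [Group G] [Finite G] {W : Over S} {φ : G → (W ⟶ W)}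
  {V : Over S} {qV : W ⟶ V} {e : (yon S).obj V ≅ quotF φ}

theorem comp_eq_iff_locConj (hφ : IsFreeAct φ) (he : (yon S).map qV ≫ e.hom = quotFπ φ) {T : Over S}
    (w w' : T ⟶ W) : w ≫ qV = w' ≫ qV ↔ LocConj φ w w' := by
  rw [← quotFπ_eq_iff hφ, ← he]
  constructor
  · intro h
    rw [← Category.assoc, ← Functor.map_comp, h, Functor.map_comp, Category.assoc]
  · intro h
    apply (yon S).map_injective
    rw [← cancel_mono e.hom, Functor.map_comp, Functor.map_comp, Category.assoc, Category.assoc]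
    exact h

theorem act_comp_qV (he : (yon S).map qV ≫ e.hom = quotFπ φ) (σ : G) : φ σ ≫ qV = qV := by
  apply (yon S).map_injective
  rw [← cancel_mono e.hom, Functor.map_comp, Category.assoc, he, act_quotFπ]

/-- Invariant maps out of `W` descend to the quotient. -/
theorem exists_desc (he : (yon S).map qV ≫ e.hom = quotFπ φ) {X : Sp S} (b : (yon S).obj W ⟶ X)
    (hb : ∀ σ, (yon S).map (φ σ) ≫ b = b) : ∃ f' : (yon S).obj V ⟶ X, (yon S).map qV ≫ f' = b := by
  obtain ⟨hc⟩ := isColimit_cofan_yon_ovSigma (fun _ : G => W)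
  have hcond : (yon S).map (sE (W := W) (G := G)) ≫ b = (yon S).map (tE φ) ≫ b := by
    refine Cofan.IsColimit.hom_ext hc _ _ (fun σ => ?_)
    show (yon S).map (ιE σ) ≫ (yon S).map (sE (W := W) (G := G)) ≫ b =
      (yon S).map (ιE σ) ≫ (yon S).map (tE φ) ≫ b
    rw [← Category.assoc, ← Functor.map_comp, ιE_sE, ← Category.assoc, ← Functor.map_comp, ιE_tE, yon_map_id,
      Category.id_comp, hb]
  refine ⟨e.hom ≫ quotSpDesc b hcond, ?_⟩
  rw [← Category.assoc, he]
  exact quotSpπ_desc _ _ _ _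

/-- The quotient of a separated scheme is separated. -/
theorem isSeparated_quotient (hφ : IsFreeAct φ) (he : (yon S).map qV ≫ e.hom = quotFπ φ)
    (het : Etale qV.left) (hsurj : Surjective qV.left) [W.left.IsSeparated] : V.left.IsSeparated := by
  obtain ⟨q, hq⟩ : ∃ q : W.left ⟶ V.left, q = qV.left := ⟨_, rfl⟩
  have hqet : Etale q := by rw [hq]; exact het
  have hqsurj : Surjective q := by rw [hq]; exact hsurj
  have hinvq : ∀ σ, (φ σ).left ≫ q = q := fun σ => by
    rw [hq, ← Over.comp_left, act_comp_qV he]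
  obtain ⟨τW, hτW⟩ : ∃ τW : W.left ⟶ ⊤_ Scheme.{u}, τW = terminal.from W.left := ⟨_, rfl⟩
  obtain ⟨τV, hτV⟩ : ∃ τV : V.left ⟶ ⊤_ Scheme.{u}, τV = terminal.from V.left := ⟨_, rfl⟩
  have hsepW : IsSeparated τW := by rw [hτW]; infer_instance
  have e₁ : τW = q ≫ τV := terminal.hom_ext _ _
  obtain ⟨π₂, hπ₂⟩ : ∃ π₂ : pullback τW τW ⟶ pullback τV τV, π₂ = pullback.map τW τW τV τV q q (𝟙 _)
      ((Category.comp_id _).trans e₁) ((Category.comp_id _).trans e₁) := ⟨_, rfl⟩
  have hπflat : Flat π₂ := by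
    rw [hπ₂]
    exact MorphismProperty.pullbackMap (P := @Flat) (inferInstance : Flat q) (inferInstance : Flat q) e₁ e₁
  have hπlfp : LocallyOfFinitePresentation π₂ := by
    rw [hπ₂]
    exact MorphismProperty.pullbackMap (P := @LocallyOfFinitePresentation)
      (inferInstance : LocallyOfFinitePresentation q) (inferInstance : LocallyOfFinitePresentation q) e₁ e₁
  have hπsurj : Surjective π₂ := by
    rw [hπ₂]
    exact MorphismProperty.pullbackMap (P := @Surjective) hqsurj hqsurj e₁ e₁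
  have hπ₂fst : π₂ ≫ pullback.fst τV τV = pullback.fst τW τW ≫ q := by rw [hπ₂]; exact pullback.lift_fst _ _ _
  have hπ₂snd : π₂ ≫ pullback.snd τV τV = pullback.snd τW τW ≫ q := by rw [hπ₂]; exact pullback.lift_snd _ _ _
  have hquot : Topology.IsQuotientMap π₂ := π₂.isOpenMap.isQuotientMap π₂.continuous π₂.surjective
  obtain ⟨Δ, hΔ⟩ : ∃ Δ : V.left ⟶ pullback τV τV, Δ = pullback.diagonal τV := ⟨_, rfl⟩
  have hΔfst : Δ ≫ pullback.fst τV τV = 𝟙 _ := by rw [hΔ]; exact pullback.diagonal_fst _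
  have hΔsnd : Δ ≫ pullback.snd τV τV = 𝟙 _ := by rw [hΔ]; exact pullback.diagonal_snd _
  have hΓex : ∀ σ : G, ∃ Γ : W.left ⟶ pullback τW τW, Γ ≫ pullback.fst τW τW = 𝟙 _ ∧
      Γ ≫ pullback.snd τW τW = (φ σ).left := fun σ =>
    ⟨pullback.lift (𝟙 _) (φ σ).left (terminal.hom_ext _ _), pullback.lift_fst _ _ _, pullback.lift_snd _ _ _⟩
  choose Γ hΓfst hΓsnd using hΓex
  have hΓcl : ∀ σ, IsClosed (Set.range (Γ σ)) := fun σ => by
    have : IsClosedImmersion (Γ σ) :=
      Tuple.isClosedImmersion_of_section (pullback.fst τW τW) (Γ σ) (hΓfst σ)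
    exact (Γ σ).isClosedEmbedding.isClosed_range
  have hΓπ : ∀ σ, Γ σ ≫ π₂ = q ≫ Δ := by
    intro σ
    apply pullback.hom_ext
    · rw [Category.assoc, hπ₂fst, ← Category.assoc, hΓfst, Category.id_comp, Category.assoc, hΔfst,
        Category.comp_id]
    · rw [Category.assoc, hπ₂snd, ← Category.assoc, hΓsnd, hinvq, Category.assoc, hΔsnd, Category.comp_id]
  have key : π₂ ⁻¹' Set.range Δ = ⋃ σ, Set.range (Γ σ) := by
    apply Set.eq_of_subset_of_subset
    · rintro z ⟨v, hv⟩
      obtain ⟨k, hk1, -⟩ := Scheme.Pullback.exists_preimage_pullback (f := π₂) (g := Δ) z v hv.symm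
      obtain ⟨u, hu⟩ : ∃ u : pullback π₂ Δ ⟶ pullback τW τW, u = pullback.fst π₂ Δ := ⟨_, rfl⟩
      obtain ⟨v', hv'⟩ : ∃ v' : pullback π₂ Δ ⟶ V.left, v' = pullback.snd π₂ Δ := ⟨_, rfl⟩
      have hcond : u ≫ π₂ = v' ≫ Δ := by rw [hu, hv']; exact pullback.condition
      rw [← hu] at hk1
      have hv1 : u ≫ pullback.fst τW τW ≫ q = v' := by
        rw [← hπ₂fst, ← Category.assoc, hcond, Category.assoc, hΔfst, Category.comp_id]
      have hv2 : u ≫ pullback.snd τW τW ≫ q = v' := by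
        rw [← hπ₂snd, ← Category.assoc, hcond, Category.assoc, hΔsnd, Category.comp_id]
      have hWV : W.hom = q ≫ V.hom := by rw [hq]; exact (Over.w qV).symm
      let QS : Over S := Over.mk (u ≫ pullback.fst τW τW ≫ W.hom)
      let w₁ : QS ⟶ W := Over.homMk (u ≫ pullback.fst τW τW) (by simp [QS])
      let w₂ : QS ⟶ W := Over.homMk (u ≫ pullback.snd τW τW) (by
        show (u ≫ pullback.snd τW τW) ≫ W.hom = u ≫ pullback.fst τW τW ≫ W.hom
        calc (u ≫ pullback.snd τW τW) ≫ W.hom = (u ≫ pullback.snd τW τW ≫ q) ≫ V.hom := by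
              rw [hWV]; simp only [Category.assoc]
          _ = (u ≫ pullback.fst τW τW ≫ q) ≫ V.hom := by rw [hv2, hv1]
          _ = u ≫ pullback.fst τW τW ≫ W.hom := by rw [hWV]; simp only [Category.assoc])
      have hw : w₁ ≫ qV = w₂ ≫ qV := by
        ext1
        show (u ≫ pullback.fst τW τW) ≫ qV.left = (u ≫ pullback.snd τW τW) ≫ qV.left
        rw [← hq, Category.assoc, hv1, Category.assoc, hv2]
      obtain ⟨O, hkO, σ, hσ⟩ := (comp_eq_iff_locConj hφ he w₁ w₂).1 hw k
      have hσ' : O.ι ≫ u ≫ pullback.snd τW τW = O.ι ≫ (u ≫ pullback.fst τW τW) ≫ (φ σ).left :=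
        congrArg CommaMorphism.left hσ
      have hfac : O.ι ≫ u = (O.ι ≫ u ≫ pullback.fst τW τW) ≫ Γ σ := by
        apply pullback.hom_ext
        · simp only [Category.assoc, hΓfst, Category.comp_id]
        · simp only [Category.assoc, hΓsnd]
          simp only [Category.assoc] at hσ'
          exact hσ'
      refine Set.mem_iUnion.2 ⟨σ, (O.ι ≫ u ≫ pullback.fst τW τW) ⟨k, hkO⟩, ?_⟩
      have h3 := congrArg (fun g : (O : Scheme.{u}) ⟶ pullback τW τW => g ⟨k, hkO⟩) hfac
      rw [← hk1]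
      exact h3.symm
    · intro z hz
      obtain ⟨σ, w, rfl⟩ := Set.mem_iUnion.1 hz
      refine ⟨q w, ?_⟩
      have := congrArg (fun g : W.left ⟶ pullback τV τV => g w) (hΓπ σ)
      exact this.symm
  have hcl : IsClosed (Set.range Δ) := by
    rw [← hquot.isCoinducing.isClosed_preimage, key]
    exact isClosed_iUnion_of_finite hΓcl
  have hci : IsClosedImmersion Δ := by
    have : IsPreimmersion Δ := by rw [hΔ]; infer_instance
    exact IsClosedImmersion.of_isPreimmersion Δ hcl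
  rw [hΔ, hτV] at hci
  exact ⟨⟨hci⟩⟩

end Groth.Agent.Lib.Helper16.QuotFin
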