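import Groth.Agent.Lib.Helper16.QsNoeth2
import Groth.Agent.Lib.Helper16.FreeRel
import Groth.Agent.Lib.Helper1.FpqcDescent

/-!
# Helper library (helper16): the diagonal of an algebraic space read off an etale atlas `U` with `R = U ×_X U`;
finite open covers of the source and quasi-compactness / closed immersions
-/

set_option autoImplicit false
universe u
open CategoryTheory CategoryTheory.Limits AlgebraicGeometry Opposite Topology TopologicalSpace

namespace Groth.Agent.Lib.Helper16.QuotSep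

open AlgSp Groth.Agent.Lib.Helper16 Groth.Agent.Lib.Helper16.Strata

variable {S : Scheme.{u}}

/-- If `p : h_U ⟶ X` is an etale atlas with `h_R = h_U ×_X h_U` and `R ⟶ U ×_S U` has `P` (stable under base
change, fppf local on the base), then the diagonal of `X` is representable with `P`. -/
theorem repWith_diag_of_atlas {P : MorphismProperty Scheme.{u}} [P.IsStableUnderBaseChange]
    [P.DescendsAlong (@Surjective ⊓ @Flat ⊓ @LocallyOfFinitePresentation)]
    {X : Sp S} (hX : IsAlgSpace X) {U R : Over S} (p : (yon S).obj U ⟶ X) (hpe : RepWith @Etale p)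
    (hps : RepWith @Surjective p) (rU rW : R ⟶ U)
    (sqR : IsPullback ((yon S).map rU) ((yon S).map rW) p p)
    (A₀ : U ⟶ Over.mk (𝟙 S)) (m : R ⟶ pullback A₀ A₀) (hm1 : m ≫ pullback.fst A₀ A₀ = rU)
    (hm2 : m ≫ pullback.snd A₀ A₀ = rW) (hP : P m.left) : RepWith P (Limits.diag X) := by
  have : P.RespectsIso := MorphismProperty.IsStableUnderBaseChange.respectsIso
  have sqD := isPullback_diag_of_isPullback p p rU rW sqR A₀ A₀ m hm1 hm2
  apply MorphismProperty.relative.of_exists
  intro T t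
  obtain ⟨E, e, ε, sqE⟩ := hX.diag t
  refine ⟨E, ε, e, sqE, ?_⟩
  change P e.left
  obtain ⟨T₁, ρ₁, u₁, hρ₁e, hρ₁s, hρ₁⟩ :=
    exists_etale_cover_through_chart p hpe hps (IsAlgSpace.yon_obj T) (t ≫ prod.fst)
  obtain ⟨c₁, rfl⟩ := (yon S).map_surjective ρ₁
  obtain ⟨T₂, ρ₂, u₂, hρ₂e, hρ₂s, hρ₂⟩ :=
    exists_etale_cover_through_chart p hpe hps (IsAlgSpace.yon_obj T₁) ((yon S).map c₁ ≫ t ≫ prod.snd)
  obtain ⟨c₂, rfl⟩ := (yon S).map_surjective ρ₂
  have hc₁e : Etale c₁.left := (repWith_yon_map_iff _ _).1 hρ₁e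
  have hc₁s : Surjective c₁.left := (repWith_yon_map_iff _ _).1 hρ₁s
  have hc₂e : Etale c₂.left := (repWith_yon_map_iff _ _).1 hρ₂e
  have hc₂s : Surjective c₂.left := (repWith_yon_map_iff _ _).1 hρ₂s
  have hce : Etale (c₂ ≫ c₁).left := by rw [Over.comp_left]; infer_instance
  have hcs : Surjective (c₂ ≫ c₁).left := by rw [Over.comp_left]; infer_instance
  obtain ⟨w, hw1, hw2⟩ : ∃ w : T₂ ⟶ pullback A₀ A₀, w ≫ pullback.fst A₀ A₀ = c₂ ≫ u₁ ∧
      w ≫ pullback.snd A₀ A₀ = u₂ :=
    ⟨pullback.lift (c₂ ≫ u₁) u₂ (Over.mkIdTerminal.hom_ext _ _), pullback.lift_fst _ _ _,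
      pullback.lift_snd _ _ _⟩
  have sq' : IsPullback ((yon S).map (pullback.fst m w) ≫ (yon S).map rU ≫ p)
      ((yon S).map (pullback.snd m w)) (Limits.diag X)
      ((yon S).map w ≫ prod.lift ((yon S).map (pullback.fst A₀ A₀) ≫ p)
        ((yon S).map (pullback.snd A₀ A₀) ≫ p)) :=
    ((IsPullback.of_hasPullback m w).map (yon S)).paste_horiz sqD
  have hw : (yon S).map w ≫ prod.lift ((yon S).map (pullback.fst A₀ A₀) ≫ p)
      ((yon S).map (pullback.snd A₀ A₀) ≫ p) =
      prod.lift ((yon S).map (c₂ ≫ u₁) ≫ p) ((yon S).map u₂ ≫ p) := by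
    apply Limits.prod.hom_ext
    · simp only [Category.assoc, prod.lift_fst]
      rw [← Category.assoc, ← Functor.map_comp, hw1]
    · simp only [Category.assoc, prod.lift_snd]
      rw [← Category.assoc, ← Functor.map_comp, hw2]
  rw [hw] at sq'
  refine P_of_fppf_cover e (c₂ ≫ c₁) hcs inferInstance inferInstance ?_
  have sq1 : IsPullback ((yon S).map (pullback.fst e (c₂ ≫ c₁)) ≫ ε)
      ((yon S).map (pullback.snd e (c₂ ≫ c₁))) (Limits.diag X) ((yon S).map (c₂ ≫ c₁) ≫ t) :=
    ((IsPullback.of_hasPullback e (c₂ ≫ c₁)).map (yon S)).paste_horiz sqE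
  have ht' : (yon S).map (c₂ ≫ c₁) ≫ t =
      prod.lift ((yon S).map (c₂ ≫ u₁) ≫ p) ((yon S).map u₂ ≫ p) := by
    apply Limits.prod.hom_ext
    · simp only [Category.assoc, prod.lift_fst, Functor.map_comp]
      rw [hρ₁]
    · simp only [Category.assoc, prod.lift_snd, Functor.map_comp]
      rw [← hρ₂]
  rw [ht'] at sq1
  have hqc' : P (pullback.snd m w).left :=
    MorphismProperty.of_isPullback (P := P)
      ((IsPullback.of_hasPullback m w).map (Over.forget S)) hP
  have h3 := P_of_two_pullbacks (RepWith (S := S) P) sq1 sq'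
    ((repWith_yon_map_iff _ _).2 hqc')
  exact (repWith_yon_map_iff _ _).1 h3

/-- A morphism is quasi-compact if its restrictions to the members of a finite open cover of the source are. -/
theorem quasiCompact_of_finite_openCover {Y Z : Scheme.{u}} (𝒰 : Y.OpenCover) [Finite 𝒰.I₀] (f : Y ⟶ Z)
    (h : ∀ i, QuasiCompact (𝒰.f i ≫ f)) : QuasiCompact f := by
  constructor
  intro K hK hKc
  have e : f ⁻¹' K = ⋃ i, (𝒰.f i) '' ((𝒰.f i ≫ f) ⁻¹' K) := by
    ext y
    simp only [Set.mem_preimage, Set.mem_iUnion, Set.mem_image]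
    constructor
    · intro hy
      obtain ⟨i, x, hx⟩ := 𝒰.exists_eq y
      refine ⟨i, x, ?_, hx⟩
      rw [Scheme.Hom.comp_apply, hx]
      exact hy
    · rintro ⟨i, x, hx, rfl⟩
      rw [Scheme.Hom.comp_apply] at hx
      exact hx
  rw [e]
  refine isCompact_iUnion fun i => ?_
  haveI := h i
  exact (QuasiCompact.isCompact_preimage (f := 𝒰.f i ≫ f) K hK hKc).image (𝒰.f i).continuous

/-- An injective morphism is a closed immersion if its restrictions to the members of a finite open cover of the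
source are. -/
theorem isClosedImmersion_of_finite_openCover {Y Z : Scheme.{u}} (𝒰 : Y.OpenCover) [Finite 𝒰.I₀]
    (f : Y ⟶ Z) (hinj : Function.Injective f) (h : ∀ i, IsClosedImmersion (𝒰.f i ≫ f)) :
    IsClosedImmersion f := by
  have hs : SurjectiveOnStalks f := by
    apply IsZariskiLocalAtSource.of_openCover (P := @SurjectiveOnStalks) 𝒰
    intro i
    haveI := h i
    show SurjectiveOnStalks (𝒰.f i ≫ f)
    infer_instance
  have hce : IsClosedEmbedding f := by
    refine IsClosedEmbedding.of_continuous_injective_isClosedMap f.continuous hinj ?_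
    intro C hC
    have e : f '' C = ⋃ i, (𝒰.f i ≫ f) '' ((𝒰.f i) ⁻¹' C) := by
      ext z
      simp only [Set.mem_image, Set.mem_iUnion, Set.mem_preimage]
      constructor
      · rintro ⟨y, hy, rfl⟩
        obtain ⟨i, x, hx⟩ := 𝒰.exists_eq y
        refine ⟨i, x, ?_, ?_⟩
        · rw [hx]
          exact hy
        · rw [Scheme.Hom.comp_apply, hx]
      · rintro ⟨i, x, hx, rfl⟩
        exact ⟨𝒰.f i x, hx, (Scheme.Hom.comp_apply _ _ _).symm⟩
    rw [e]
    refine isClosed_iUnion_of_finite fun i => ?_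
    haveI := h i
    exact (𝒰.f i ≫ f).isClosedEmbedding.isClosedMap _ (hC.preimage (𝒰.f i).continuous)
  exact ⟨hce⟩

end Groth.Agent.Lib.Helper16.QuotSep
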