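import Mathlib
import Groth.Prelude.Def_PicRel2
import Groth.Agent.Lib.Helper3.PbBasic

set_option autoImplicit false
universe u
open CategoryTheory CategoryTheory.Limits AlgebraicGeometry

namespace H16RelPicBC

theorem pullCl_comp {Y Y' Y'' : Scheme.{u}} (a : Y'' ⟶ Y') (b : Y' ⟶ Y) (c : PicF.Cl Y) :
    PicF.pullCl (a ≫ b) c = PicF.pullCl a (PicF.pullCl b c) := by
  induction c using Quot.ind with
  | _ L => exact Quot.sound ⟨((Scheme.Modules.pullbackComp a b).app L).symm⟩

theorem pullCl_id {Y : Scheme.{u}} (c : PicF.Cl Y) : PicF.pullCl (𝟙 Y) c = c := by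
  induction c using Quot.ind with
  | _ L => exact Quot.sound ⟨(Scheme.Modules.pullbackId Y).app L⟩

theorem pullCl_hom_inv {Y Y' : Scheme.{u}} (e : Y' ≅ Y) (c : PicF.Cl Y') :
    PicF.pullCl e.hom (PicF.pullCl e.inv c) = c := by
  rw [← pullCl_comp, e.hom_inv_id, pullCl_id]

theorem pullCl_inv_hom {Y Y' : Scheme.{u}} (e : Y' ≅ Y) (c : PicF.Cl Y) :
    PicF.pullCl e.inv (PicF.pullCl e.hom c) = c := by
  rw [← pullCl_comp, e.inv_hom_id, pullCl_id]

theorem isInvertibleCl_pullCl {Y Y' : Scheme.{u}} (a : Y' ⟶ Y) {c : PicF.Cl Y}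
    (hc : PicF.IsInvertibleCl c) : PicF.IsInvertibleCl (PicF.pullCl a c) := by
  obtain ⟨L, rfl, hL⟩ := hc
  exact ⟨_, rfl, Groth.Agent.Lib.Helper3.PbBasic.isInvertible_pullback a hL⟩

section
variable {X S : Scheme.{u}} (f : X ⟶ S)

theorem XTmap_comp {T T' T'' : Over S} (a : T'' ⟶ T') (b : T' ⟶ T) :
    PicF.XTmap f (a ≫ b) = PicF.XTmap f a ≫ PicF.XTmap f b := by
  apply pullback.hom_ext <;>
  simp only [PicF.XTmap, Category.assoc, pullback.lift_fst, pullback.lift_fst_assoc,
    pullback.lift_snd, pullback.lift_snd_assoc, Category.comp_id, Category.id_comp, Over.comp_left]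

@[reassoc]
theorem XTmap_fst {T T' : Over S} (a : T' ⟶ T) :
    PicF.XTmap f a ≫ pullback.fst f T.hom = pullback.fst f T'.hom := by
  simp only [PicF.XTmap, pullback.lift_fst, Category.comp_id]

@[reassoc]
theorem XTmap_snd {T T' : Over S} (a : T' ⟶ T) :
    PicF.XTmap f a ≫ pullback.snd f T.hom = pullback.snd f T'.hom ≫ a.left := by
  simp only [PicF.XTmap, pullback.lift_snd]

end

variable {X S S' : Scheme.{u}} (f : X ⟶ S) (g : S' ⟶ S)

/-- an `S'`-scheme viewed over `S`. -/
abbrev dn (T : Over S') : Over S := Over.mk (T.hom ≫ g)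

/-- a morphism of `S'`-schemes viewed over `S`. -/
abbrev dnMap {T T' : Over S'} (h : T' ⟶ T) : dn g T' ⟶ dn g T :=
  Over.homMk h.left (by
    show h.left ≫ T.hom ≫ g = T'.hom ≫ g
    rw [← Category.assoc, Over.w h])

/-- the canonical iso `(X ×_S S') ×_{S'} T ≅ X ×_S T`. -/
noncomputable abbrev ci (T : Over S') :
    PicF.XT (pullback.snd f g) T ≅ PicF.XT f (dn g T) :=
  pullbackLeftPullbackSndIso f g T.hom

@[reassoc]
theorem ci_hom_fst (T : Over S') :
    (ci f g T).hom ≫ pullback.fst f (dn g T).hom =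
      pullback.fst (pullback.snd f g) T.hom ≫ pullback.fst f g :=
  pullbackLeftPullbackSndIso_hom_fst f g T.hom

@[reassoc]
theorem ci_hom_snd (T : Over S') :
    (ci f g T).hom ≫ pullback.snd f (dn g T).hom = pullback.snd (pullback.snd f g) T.hom :=
  pullbackLeftPullbackSndIso_hom_snd f g T.hom

theorem sq {T T' : Over S'} (h : T' ⟶ T) (k : dn g T' ⟶ dn g T) (hk : k.left = h.left) :
    PicF.XTmap (pullback.snd f g) h ≫ (ci f g T).hom = (ci f g T').hom ≫ PicF.XTmap f k := by
  apply pullback.hom_ext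
  · rw [Category.assoc, Category.assoc, ci_hom_fst, XTmap_fst, ci_hom_fst, XTmap_fst_assoc]
  · rw [Category.assoc, Category.assoc, ci_hom_snd, XTmap_snd, XTmap_snd, ci_hom_snd_assoc, hk]

theorem sq_inv {T T' : Over S'} (h : T' ⟶ T) (k : dn g T' ⟶ dn g T) (hk : k.left = h.left) :
    (ci f g T').inv ≫ PicF.XTmap (pullback.snd f g) h = PicF.XTmap f k ≫ (ci f g T).inv := by
  rw [Iso.inv_comp_eq, ← Category.assoc, Iso.eq_comp_inv]
  exact sq f g h k hk

variable (P : Over S) (φ : ∀ T : Over S, PicF.Cl (PicF.XT f T) → (T ⟶ P))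

/-- the base-changed family of maps. -/
noncomputable def phi' (T : Over S') (c : PicF.Cl (PicF.XT (pullback.snd f g) T)) :
    T ⟶ Over.mk (pullback.snd P.hom g) :=
  Over.homMk
    (pullback.lift (φ (Over.mk (T.hom ≫ g)) (PicF.pullCl (pullbackLeftPullbackSndIso f g T.hom).inv c)).left T.hom
      (Over.w (φ (Over.mk (T.hom ≫ g)) (PicF.pullCl (pullbackLeftPullbackSndIso f g T.hom).inv c))))
    (pullback.lift_snd _ _ _)

theorem phi'_left_fst (T : Over S') (c : PicF.Cl (PicF.XT (pullback.snd f g) T)) :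
    (phi' f g P φ T c).left ≫ pullback.fst P.hom g =
      (φ (dn g T) (PicF.pullCl (ci f g T).inv c)).left := by
  simp only [phi', Over.homMk_left, pullback.lift_fst]

theorem phi'_left_snd (T : Over S') (c : PicF.Cl (PicF.XT (pullback.snd f g) T)) :
    (phi' f g P φ T c).left ≫ pullback.snd P.hom g = T.hom := by
  simp only [phi', Over.homMk_left, pullback.lift_snd]

theorem phi'_ext {T : Over S'} (c : PicF.Cl (PicF.XT (pullback.snd f g) T))
    (m : T ⟶ Over.mk (pullback.snd P.hom g))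
    (h : (φ (dn g T) (PicF.pullCl (ci f g T).inv c)).left = m.left ≫ pullback.fst P.hom g) :
    phi' f g P φ T c = m := by
  apply Over.OverMorphism.ext
  apply pullback.hom_ext
  · rw [phi'_left_fst, h]
  · rw [phi'_left_snd]
    exact (Over.w m).symm

theorem isRelPic_baseChange (hP : PicRel.IsRelPic f P φ) :
    PicRel.IsRelPic (pullback.snd f g) (Over.mk (pullback.snd P.hom g)) (phi' f g P φ) := by
  refine ⟨?_, ?_, ?_⟩
  · -- naturality
    intro T T' h c hc
    apply phi'_ext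
    have h1 : PicF.pullCl (ci f g T').inv (PicF.pullCl (PicF.XTmap (pullback.snd f g) h) c) =
        PicF.pullCl (PicF.XTmap f (dnMap g h)) (PicF.pullCl (ci f g T).inv c) := by
      rw [← pullCl_comp, ← pullCl_comp, sq_inv f g h (dnMap g h) rfl]
    rw [h1, hP.natural (dn g T) (dn g T') (dnMap g h) _ (isInvertibleCl_pullCl _ hc)]
    rw [Over.comp_left, Over.comp_left, Category.assoc, phi'_left_fst]
    rfl
  · -- local surjectivity
    intro T m
    let m₀ : dn g T ⟶ P := Over.homMk (m.left ≫ pullback.fst P.hom g) (by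
      show (m.left ≫ pullback.fst P.hom g) ≫ P.hom = T.hom ≫ g
      rw [Category.assoc, pullback.condition, ← Category.assoc]
      congr 1
      exact Over.w m)
    obtain ⟨ι, U, hU, hc⟩ := hP.locallySurjective (dn g T) m₀
    refine ⟨ι, U, hU, fun i => ?_⟩
    obtain ⟨c, hcinv, hceq⟩ := hc i
    let W : Over S' := PicRel.ovr T (U i)
    let e : dn g W ⟶ PicRel.ovr (dn g T) (U i) := Over.homMk (𝟙 _) (by
      show 𝟙 _ ≫ (U i).hom ≫ T.hom ≫ g = ((U i).hom ≫ T.hom) ≫ g
      simp)
    have hc1 : PicF.IsInvertibleCl (PicF.pullCl (PicF.XTmap f e) c) := isInvertibleCl_pullCl _ hcinv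
    refine ⟨PicF.pullCl (ci f g W).hom (PicF.pullCl (PicF.XTmap f e) c),
      isInvertibleCl_pullCl _ hc1, ?_⟩
    apply phi'_ext
    rw [pullCl_inv_hom, hP.natural _ _ e c hcinv, hceq]
    simp only [Over.comp_left]
    show 𝟙 _ ≫ (U i).hom ≫ m.left ≫ pullback.fst P.hom g = ((U i).hom ≫ m.left) ≫ pullback.fst P.hom g
    simp
  · -- local injectivity
    intro T c c' hc hc' heq
    have h0 : φ (dn g T) (PicF.pullCl (ci f g T).inv c) = φ (dn g T) (PicF.pullCl (ci f g T).inv c') := by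
      apply Over.OverMorphism.ext
      rw [← phi'_left_fst, ← phi'_left_fst, heq]
    obtain ⟨ι, U, hU, hi⟩ := hP.locallyInjective (dn g T) _ _ (isInvertibleCl_pullCl _ hc)
      (isInvertibleCl_pullCl _ hc') h0
    refine ⟨ι, U, hU, fun i => ?_⟩
    let W : Over S' := PicRel.ovr T (U i)
    let e : dn g W ⟶ PicRel.ovr (dn g T) (U i) := Over.homMk (𝟙 _) (by
      show 𝟙 _ ≫ (U i).hom ≫ T.hom ≫ g = ((U i).hom ≫ T.hom) ≫ g
      simp)
    let k : dn g W ⟶ dn g T := e ≫ PicRel.ovrHom (dn g T) (U i)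
    have hk : k.left = (PicRel.ovrHom T (U i)).left := by
      show 𝟙 _ ≫ (U i).hom = (U i).hom
      simp
    have key : ∀ d : PicF.Cl (PicF.XT (pullback.snd f g) T),
        PicF.pullCl (PicF.XTmap (pullback.snd f g) (PicRel.ovrHom T (U i))) d =
          PicF.pullCl (ci f g W).hom (PicF.pullCl (PicF.XTmap f e)
            (PicF.pullCl (PicF.XTmap f (PicRel.ovrHom (dn g T) (U i)))
              (PicF.pullCl (ci f g T).inv d))) := by
      intro d
      rw [← pullCl_comp, ← pullCl_comp, ← pullCl_comp]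
      congr 1
      rw [Iso.eq_comp_inv, Category.assoc, ← XTmap_comp]
      exact sq f g (PicRel.ovrHom T (U i)) k hk
    rw [key c, key c', hi i]

end H16RelPicBC
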