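import Groth.Agent.Lib.Helper16.ClosedPt
import Groth.Agent.Lib.Helper16.MonoDescent
import Groth.Agent.Lib.Helper16.FieldQuot
import Groth.Agent.Lib.Helper16.Charts
import Groth.Agent.Lib.Helper16.LocPInst
import Groth.Agent.S9868
import Groth.Agent.S9869
import Mathlib.AlgebraicGeometry.Morphisms.FlatMono

/-!
# Helper library (helper16): the residual space of an algebraic space at a point

For a point `x` of an algebraic space `X` with etale atlas `a : h_U ⟶ X` and `u ∈ U` over `x`, the kernel pair of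
`ξ : h_{Spec κ(u)} ⟶ h_U ⟶ X` is an etale equivalence relation on `Spec κ(u)`; its quotient is the residual space.
-/

set_option autoImplicit false
universe u
open CategoryTheory CategoryTheory.Limits AlgebraicGeometry Opposite Topology

namespace Groth.Agent.Lib.Helper16.ResidualSp2

open AlgSp Groth.Agent.Lib.Helper16

variable {S : Scheme.{u}}

set_option backward.isDefEq.respectTransparency.types false in
/-- A monomorphism into a discrete scheme all of whose stalks are fields is an open immersion. -/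
theorem isOpenImmersion_of_mono_of_discrete {W V : Scheme.{u}} (j : W ⟶ V) [Mono j]
    [DiscreteTopology ↥V] (hV : ∀ v : V, IsField (V.presheaf.stalk v)) : IsOpenImmersion j := by
  have hflat : Flat j := Flat.of_stalkMap j (fun w => by
    letI := (hV (j w)).toField
    letI : Algebra (V.presheaf.stalk (j w)) (W.presheaf.stalk w) := (j.stalkMap w).hom.toAlgebra
    show Module.Flat (V.presheaf.stalk (j w)) (W.presheaf.stalk w)
    infer_instance)
  let U : V.Opens := ⟨Set.range j.base, isOpen_discrete _⟩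
  have hU : IsOpenImmersion U.ι := U.instIsOpenImmersionι
  let j' := hU.lift U.ι j (by simp [U])
  have heq : j = j' ≫ U.ι := by simp [j']
  have hflat' : Flat j' := MorphismProperty.of_postcomp (W := @Flat) j' U.ι hU (by rwa [← heq])
  have hmono' : Mono j' := mono_of_mono_fac heq.symm
  have hsurj : Surjective j' := ⟨fun ⟨x, ⟨y, hy⟩⟩ =>
    ⟨y, by apply U.ι.injective; simp [← Scheme.Hom.comp_apply, j', hy]⟩⟩
  have hdW : DiscreteTopology ↥W := DiscreteTopology.of_continuous_injective j.continuous j.injective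
  have hdU : DiscreteTopology ↥(U : Scheme.{u}) :=
    DiscreteTopology.of_continuous_injective U.ι.continuous U.ι.injective
  have hqc : QuasiCompact j' := ⟨fun O _ hc =>
    (hc.finite_of_discrete.preimage (j'.injective.injOn)).isCompact⟩
  have hiso : IsIso j' := Flat.isIso_of_surjective_of_mono j'
  rw [heq]
  infer_instance

/-- The kernel pair of the residue field point over an etale chart is an etale equivalence relation. -/
theorem exists_etale_kernelPair {X : Sp S} {U : Over S} (a : (yon S).obj U ⟶ X)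
    (hae : RepWith @Etale a) (u : ↥U.left) :
    ∃ (k : Type u) (_ : Field k) (str : Spec (CommRingCat.of k) ⟶ S)
      (ξ : (yon S).obj (Over.mk str) ⟶ X) (R : Over S) (s' t' : R ⟶ Over.mk str),
      IsEtaleEqvRel s' t' ∧ IsPullback ((yon S).map t') ((yon S).map s') ξ ξ ∧
      ∀ z : ↥(Over.mk str).left, Points.ofPt ξ z = Points.ofPt a u := by
  obtain ⟨k, hk, ιu, hιm, hιpt⟩ : ∃ (k : Type u) (_ : Field k) (ιu : Spec (CommRingCat.of k) ⟶ U.left),
      Mono ιu ∧ ∀ z, ιu z = u :=
    ⟨↥(U.left.residueField u), inferInstance, U.left.fromSpecResidueField u, inferInstance,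
      fun z => Scheme.fromSpecResidueField_apply _ _⟩
  obtain ⟨ιo, hιo⟩ : ∃ ιo : Over.mk (ιu ≫ U.hom) ⟶ U, ιo.left = ιu := ⟨Over.homMk ιu rfl, rfl⟩
  have hιom : Mono ιo := (Over.forget S).mono_of_mono_map (by
    show Mono ιo.left
    rw [hιo]; exact hιm)
  refine ⟨k, hk, ιu ≫ U.hom, (yon S).map ιo ≫ a, ?_⟩
  obtain ⟨V, v, q₀, sqA⟩ := hae.rep ((yon S).map ιo ≫ a)
  obtain ⟨q, rfl⟩ := (yon S).map_surjective q₀
  have hve : Etale v.left := hae.property _ _ _ sqA
  have hdisc : DiscreteTopology ↥V.left := @ClosedPt.discreteTopology_of_etale_field V.left k hk v.left hve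
  have hfield : ∀ π : ↥V.left, IsField (V.left.presheaf.stalk π) :=
    @ClosedPt.isField_stalk_of_etale_field V.left k hk v.left hve
  obtain ⟨R, f₁, t', sqO⟩ : ∃ (R : Over S) (f₁ : R ⟶ V) (t' : R ⟶ Over.mk (ιu ≫ U.hom)),
      IsPullback f₁ t' q ιo := ⟨_, _, _, IsPullback.of_hasPullback q ιo⟩
  have hf₁m : Mono f₁ := MorphismProperty.of_isPullback (P := MorphismProperty.monomorphisms _) sqO.flip
      (MorphismProperty.monomorphisms.infer_property _)
  have hf₁lm : Mono f₁.left := inferInstance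
  have hf₁o : IsOpenImmersion f₁.left := isOpenImmersion_of_mono_of_discrete f₁.left hfield
  obtain ⟨s', hs'⟩ : ∃ s' : R ⟶ Over.mk (ιu ≫ U.hom), s' = f₁ ≫ v := ⟨_, rfl⟩
  have sqR : IsPullback ((yon S).map t') ((yon S).map s') ((yon S).map ιo ≫ a) ((yon S).map ιo ≫ a) := by
    rw [hs', Functor.map_comp]
    exact (sqO.map (yon S)).flip.paste_vert sqA
  have hs'e : Etale s'.left := by
    rw [hs']
    show Etale (f₁.left ≫ v.left)
    infer_instance
  have hinj : ∀ (T : Over S) (r r' : T ⟶ R), r ≫ t' = r' ≫ t' → r ≫ s' = r' ≫ s' → r = r' := by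
    intro T r r' h1 h2
    apply (yon S).map_injective
    apply sqR.hom_ext
    · rw [← Functor.map_comp, ← Functor.map_comp, h1]
    · rw [← Functor.map_comp, ← Functor.map_comp, h2]
  obtain ⟨σ, hσ⟩ := (yon S).map_surjective (sqR.lift ((yon S).map s') ((yon S).map t') sqR.w.symm)
  have hσ1 : σ ≫ t' = s' := (yon S).map_injective (by
    rw [Functor.map_comp, hσ]; exact sqR.lift_fst _ _ _)
  have hσ2 : σ ≫ s' = t' := (yon S).map_injective (by
    rw [Functor.map_comp, hσ]; exact sqR.lift_snd _ _ _)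
  have hσσ : σ ≫ σ = 𝟙 R := hinj R _ _ (by rw [Category.assoc, hσ1, hσ2, Category.id_comp])
      (by rw [Category.assoc, hσ2, hσ1, Category.id_comp])
  have hσiso : IsIso σ := ⟨σ, hσσ, hσσ⟩
  have hσl : IsIso σ.left := inferInstanceAs (IsIso ((Over.forget S).map σ))
  have ht'e : Etale t'.left := by
    rw [← hσ2]
    show Etale (σ.left ≫ s'.left)
    infer_instance
  have key : ∀ (T : Over S) (c d : T ⟶ Over.mk (ιu ≫ U.hom)),
      (∃ r : T ⟶ R, r ≫ t' = c ∧ r ≫ s' = d) ↔
        (yon S).map c ≫ ((yon S).map ιo ≫ a) = (yon S).map d ≫ ((yon S).map ιo ≫ a) := by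
    intro T c d
    constructor
    · rintro ⟨r, rfl, rfl⟩
      rw [Functor.map_comp, Functor.map_comp, Category.assoc, Category.assoc, sqR.w]
    · intro h
      obtain ⟨r, hr⟩ := (yon S).map_surjective (sqR.lift _ _ h)
      refine ⟨r, (yon S).map_injective ?_, (yon S).map_injective ?_⟩
      · rw [Functor.map_comp, hr]; exact sqR.lift_fst _ _ _
      · rw [Functor.map_comp, hr]; exact sqR.lift_snd _ _ _
  refine ⟨R, s', t', ?_, sqR, ?_⟩
  · exact
      { injective := hinj
        equivalence := fun T =>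
          ⟨fun c => (key T c c).2 rfl, fun h => (key T _ _).2 ((key T _ _).1 h).symm,
            fun h1 h2 => (key T _ _).2 (((key T _ _).1 h1).trans ((key T _ _).1 h2))⟩
        etale_left := hs'e
        etale_right := ht'e }
  · intro z
    have hz : ιo.left z = u := by rw [hιo]; exact hιpt z
    rw [ofPt_yon_map_comp, hz]

/-- The residual space of an algebraic space at a point. -/
theorem exists_residualSpace {X : Sp S} (hX : IsAlgSpace X) (x : Points X) :
    ∃ (Z : Sp S) (_ : IsAlgSpace Z) (i : Z ⟶ X), Mono i ∧ Set.range (Points.map i) = {x} ∧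
      ∃ (k : Type u) (_ : Field k) (str : Spec (CommRingCat.of k) ⟶ S)
        (p : (yon S).obj (Over.mk str) ⟶ Z), RepWith @Etale p ∧ RepWith @Surjective p := by
  obtain ⟨U, a, hae, has⟩ := hX.atlas
  obtain ⟨u, hu⟩ := ofPt_surjective_of_surjective a has x
  obtain ⟨k, hk, str, ξ, R, s', t', hEq, sqR, hpt⟩ := exists_etale_kernelPair a hae u
  obtain ⟨Z₀, hZ, p, pres⟩ : ∃ (Z₀ : Sp S) (_ : IsAlgSpace Z₀) (p : (yon S).obj (Over.mk str) ⟶ Z₀),
      IsPresentation s' t' p :=
    ⟨_, Groth.Agent.S9868.result S s' t' hEq, _,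
      Groth.Agent.S9869.result S s' t' hEq (Groth.Agent.S9868.result S s' t' hEq)⟩
  haveI hepi : Epi p := epi_of_etale_surjective p pres.etale pres.surjective
  have heff : EffectiveEpi p := Helper5.SheafGrpQuot.effectiveEpi_of_epi (J S) _
  have hdesc : ∀ {W : Sp S} (g₁ g₂ : W ⟶ (yon S).obj (Over.mk str)), g₁ ≫ p = g₂ ≫ p → g₁ ≫ ξ = g₂ ≫ ξ := by
    intro W g₁ g₂ hg
    have e1 : pres.isPullback.lift g₁ g₂ hg ≫ (yon S).map t' = g₁ := pres.isPullback.lift_fst _ _ _
    have e2 : pres.isPullback.lift g₁ g₂ hg ≫ (yon S).map s' = g₂ := pres.isPullback.lift_snd _ _ _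
    calc g₁ ≫ ξ = (pres.isPullback.lift g₁ g₂ hg ≫ (yon S).map t') ≫ ξ := by rw [e1]
      _ = (pres.isPullback.lift g₁ g₂ hg ≫ (yon S).map s') ≫ ξ := by
        rw [Category.assoc, Category.assoc, sqR.w]
      _ = g₂ ≫ ξ := by rw [e2]
  obtain ⟨i, hi⟩ : ∃ i : Z₀ ⟶ X, p ≫ i = ξ :=
    ⟨EffectiveEpi.desc p ξ (fun g₁ g₂ h => hdesc g₁ g₂ h), EffectiveEpi.fac _ _ _⟩
  have hmono : Mono i := mono_of_epi_fac p i (fun W c d hcd => by
    rw [hi] at hcd
    have e1 : sqR.lift c d hcd ≫ (yon S).map t' = c := sqR.lift_fst _ _ _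
    have e2 : sqR.lift c d hcd ≫ (yon S).map s' = d := sqR.lift_snd _ _ _
    calc c ≫ p = (sqR.lift c d hcd ≫ (yon S).map t') ≫ p := by rw [e1]
      _ = (sqR.lift c d hcd ≫ (yon S).map s') ≫ p := by
        rw [Category.assoc, Category.assoc, pres.isPullback.w]
      _ = d ≫ p := by rw [e2])
  have hpi : ∀ w : ↥(Over.mk str).left, Points.map i (Points.ofPt p w) = x := fun w => by
    rw [Points.map_ofPt, hi, hpt, hu]
  refine ⟨Z₀, hZ, i, hmono, ?_, k, hk, str, p, pres.etale, pres.surjective⟩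
  ext y
  simp only [Set.mem_range, Set.mem_singleton_iff]
  constructor
  · rintro ⟨z, rfl⟩
    obtain ⟨w, rfl⟩ := ofPt_surjective_of_surjective p pres.surjective z
    exact hpi w
  · intro hy
    exact ⟨Points.ofPt p (show ↥(Spec (CommRingCat.of k)) from IsLocalRing.closedPoint k),
      (hpi _).trans hy.symm⟩

end Groth.Agent.Lib.Helper16.ResidualSp2
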