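import Groth.Agent.Lib.Helper16.ResidualSp2
import Groth.Agent.Lib.Helper16.FtPt
import Groth.Agent.Lib.Helper16.LocPSource

/-!
# Helper library (helper16): finite type points and monomorphisms from quotients of spectra of fields
-/

set_option autoImplicit false
universe u
open CategoryTheory CategoryTheory.Limits AlgebraicGeometry Opposite Topology

namespace Groth.Agent.Lib.Helper16.ResidualSp3

open AlgSp Groth.Agent.Lib.Helper16 Groth.Agent.Lib.Helper16.FtPt Groth.Agent.Lib.Helper16.ResidualSp2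

variable {S : Scheme.{u}}

/-- The kernel pair of a monomorphic field point of an etale chart is an etale equivalence relation. -/
theorem exists_etale_kernelPair_of_mono {X : Sp S} {U : Over S} (a : (yon S).obj U ⟶ X)
    (hae : RepWith @Etale a) (k : Type u) [hk : Field k] (str : Spec (CommRingCat.of k) ⟶ S)
    (ιo : Over.mk str ⟶ U) (hm : Mono ιo.left) :
    ∃ (R : Over S) (s' t' : R ⟶ Over.mk str), IsEtaleEqvRel s' t' ∧
      IsPullback ((yon S).map t') ((yon S).map s') ((yon S).map ιo ≫ a) ((yon S).map ιo ≫ a) := by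
  have hιom : Mono ιo := (Over.forget S).mono_of_mono_map hm
  obtain ⟨V, v, q₀, sqA⟩ := hae.rep ((yon S).map ιo ≫ a)
  obtain ⟨q, rfl⟩ := (yon S).map_surjective q₀
  have hve : Etale v.left := hae.property _ _ _ sqA
  have hdisc : DiscreteTopology ↥V.left := @ClosedPt.discreteTopology_of_etale_field V.left k hk v.left hve
  have hfield : ∀ π : ↥V.left, IsField (V.left.presheaf.stalk π) :=
    @ClosedPt.isField_stalk_of_etale_field V.left k hk v.left hve
  obtain ⟨R, f₁, t', sqO⟩ : ∃ (R : Over S) (f₁ : R ⟶ V) (t' : R ⟶ Over.mk str),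
      IsPullback f₁ t' q ιo := ⟨_, _, _, IsPullback.of_hasPullback q ιo⟩
  have hf₁m : Mono f₁ := MorphismProperty.of_isPullback (P := MorphismProperty.monomorphisms _) sqO.flip
      (MorphismProperty.monomorphisms.infer_property _)
  have hf₁lm : Mono f₁.left := inferInstance
  have hf₁o : IsOpenImmersion f₁.left := isOpenImmersion_of_mono_of_discrete f₁.left hfield
  obtain ⟨s', hs'⟩ : ∃ s' : R ⟶ Over.mk str, s' = f₁ ≫ v := ⟨_, rfl⟩
  have sqR : IsPullback ((yon S).map t') ((yon S).map s') ((yon S).map ιo ≫ a) ((yon S).map ιo ≫ a) := by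
    rw [hs', Functor.map_comp]
    exact (sqO.map (yon S)).flip.paste_vert sqA
  have hs'e : Etale s'.left := by
    rw [hs']
    show Etale (f₁.left ≫ v.left)
    infer_instance
  have hinj : ∀ (T : Over S) (r r' : T ⟶ R), r ≫ t' = r' ≫ t' → r ≫ s' = r' ≫ s' → r = r' := by
    intro T r r' h1 h2
    apply (yon S).map_injective
    apply sqR.hom_ext
    · rw [← Functor.map_comp, ← Functor.map_comp, h1]
    · rw [← Functor.map_comp, ← Functor.map_comp, h2]
  obtain ⟨σ, hσ⟩ := (yon S).map_surjective (sqR.lift ((yon S).map s') ((yon S).map t') sqR.w.symm)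
  have hσ1 : σ ≫ t' = s' := (yon S).map_injective (by
    rw [Functor.map_comp, hσ]; exact sqR.lift_fst _ _ _)
  have hσ2 : σ ≫ s' = t' := (yon S).map_injective (by
    rw [Functor.map_comp, hσ]; exact sqR.lift_snd _ _ _)
  have hσσ : σ ≫ σ = 𝟙 R := hinj R _ _ (by rw [Category.assoc, hσ1, hσ2, Category.id_comp])
      (by rw [Category.assoc, hσ2, hσ1, Category.id_comp])
  have hσiso : IsIso σ := ⟨σ, hσσ, hσσ⟩
  have hσl : IsIso σ.left := inferInstanceAs (IsIso ((Over.forget S).map σ))
  have ht'e : Etale t'.left := by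
    rw [← hσ2]
    show Etale (σ.left ≫ s'.left)
    infer_instance
  have key : ∀ (T : Over S) (c d : T ⟶ Over.mk str),
      (∃ r : T ⟶ R, r ≫ t' = c ∧ r ≫ s' = d) ↔
        (yon S).map c ≫ ((yon S).map ιo ≫ a) = (yon S).map d ≫ ((yon S).map ιo ≫ a) := by
    intro T c d
    constructor
    · rintro ⟨r, rfl, rfl⟩
      rw [Functor.map_comp, Functor.map_comp, Category.assoc, Category.assoc, sqR.w]
    · intro h
      obtain ⟨r, hr⟩ := (yon S).map_surjective (sqR.lift _ _ h)
      refine ⟨r, (yon S).map_injective ?_, (yon S).map_injective ?_⟩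
      · rw [Functor.map_comp, hr]; exact sqR.lift_fst _ _ _
      · rw [Functor.map_comp, hr]; exact sqR.lift_snd _ _ _
  refine ⟨R, s', t', ?_, sqR⟩
  exact
    { injective := hinj
      equivalence := fun T =>
        ⟨fun c => (key T c c).2 rfl, fun h => (key T _ _).2 ((key T _ _).1 h).symm,
          fun h1 h2 => (key T _ _).2 (((key T _ _).1 h1).trans ((key T _ _).1 h2))⟩
      etale_left := hs'e
      etale_right := ht'e }

/-- A monomorphic field point of an etale chart of `X` factors as an etale surjection onto an algebraic space followed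
by a monomorphism into `X`. -/
theorem exists_mono_quotient {X : Sp S} {U : Over S} (a : (yon S).obj U ⟶ X)
    (hae : RepWith @Etale a) (k : Type u) [Field k] (str : Spec (CommRingCat.of k) ⟶ S)
    (ιo : Over.mk str ⟶ U) (hm : Mono ιo.left) :
    ∃ (Z : Sp S) (_ : IsAlgSpace Z) (i : Z ⟶ X) (p : (yon S).obj (Over.mk str) ⟶ Z),
      Mono i ∧ RepWith @Etale p ∧ RepWith @Surjective p ∧ p ≫ i = (yon S).map ιo ≫ a := by
  obtain ⟨R, s', t', hEq, sqR⟩ := exists_etale_kernelPair_of_mono a hae k str ιo hm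
  obtain ⟨ξ, hξ⟩ : ∃ ξ : (yon S).obj (Over.mk str) ⟶ X, ξ = (yon S).map ιo ≫ a := ⟨_, rfl⟩
  rw [← hξ] at sqR ⊢
  obtain ⟨Z₀, hZ, p, pres⟩ : ∃ (Z₀ : Sp S) (_ : IsAlgSpace Z₀) (p : (yon S).obj (Over.mk str) ⟶ Z₀),
      IsPresentation s' t' p :=
    ⟨_, Groth.Agent.S9868.result S s' t' hEq, _,
      Groth.Agent.S9869.result S s' t' hEq (Groth.Agent.S9868.result S s' t' hEq)⟩
  haveI hepi : Epi p := epi_of_etale_surjective p pres.etale pres.surjective
  have heff : EffectiveEpi p := Helper5.SheafGrpQuot.effectiveEpi_of_epi (J S) _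
  have hdesc : ∀ {W : Sp S} (g₁ g₂ : W ⟶ (yon S).obj (Over.mk str)), g₁ ≫ p = g₂ ≫ p → g₁ ≫ ξ = g₂ ≫ ξ := by
    intro W g₁ g₂ hg
    have e1 : pres.isPullback.lift g₁ g₂ hg ≫ (yon S).map t' = g₁ := pres.isPullback.lift_fst _ _ _
    have e2 : pres.isPullback.lift g₁ g₂ hg ≫ (yon S).map s' = g₂ := pres.isPullback.lift_snd _ _ _
    calc g₁ ≫ ξ = (pres.isPullback.lift g₁ g₂ hg ≫ (yon S).map t') ≫ ξ := by rw [e1]
      _ = (pres.isPullback.lift g₁ g₂ hg ≫ (yon S).map s') ≫ ξ := by
        rw [Category.assoc, Category.assoc, sqR.w]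
      _ = g₂ ≫ ξ := by rw [e2]
  obtain ⟨i, hi⟩ : ∃ i : Z₀ ⟶ X, p ≫ i = ξ :=
    ⟨EffectiveEpi.desc p ξ (fun g₁ g₂ h => hdesc g₁ g₂ h), EffectiveEpi.fac _ _ _⟩
  have hmono : Mono i := mono_of_epi_fac p i (fun W c d hcd => by
    rw [hi] at hcd
    have e1 : sqR.lift c d hcd ≫ (yon S).map t' = c := sqR.lift_fst _ _ _
    have e2 : sqR.lift c d hcd ≫ (yon S).map s' = d := sqR.lift_snd _ _ _
    calc c ≫ p = (sqR.lift c d hcd ≫ (yon S).map t') ≫ p := by rw [e1]
      _ = (sqR.lift c d hcd ≫ (yon S).map s') ≫ p := by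
        rw [Category.assoc, Category.assoc, pres.isPullback.w]
      _ = d ≫ p := by rw [e2])
  exact ⟨Z₀, hZ, i, p, hmono, pres.etale, pres.surjective, hi⟩

/-- A finite type point of an algebraic space is the image of a monomorphism, locally of finite type, from an
algebraic space with an etale surjective chart by the spectrum of a field. -/
theorem exists_mono_quotient_of_isFtPt {X : Sp S} (hX : IsAlgSpace X) {x : Points X} (h : IsFtPt X x) :
    ∃ (Z : Sp S) (_ : IsAlgSpace Z) (i : Z ⟶ X) (k : Type u) (_ : Field k)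
      (str : Spec (CommRingCat.of k) ⟶ S) (p : (yon S).obj (Over.mk str) ⟶ Z),
      RepWith @Etale p ∧ RepWith @Surjective p ∧ LocP @LocallyOfFiniteType i ∧ Mono i ∧
        Points.ofPt (p ≫ i) (IsLocalRing.closedPoint k) = x := by
  obtain ⟨U, φ, u, hφ, hucl, rfl⟩ := exists_isClosed_of_isFtPt hX h
  have hci : IsClosedImmersion (U.left.fromSpecResidueField u) :=
    isClosed_singleton_iff_isClosedImmersion.mp hucl
  obtain ⟨k, hk, ιu, hιci, hιpt⟩ : ∃ (k : Type u) (_ : Field k) (ιu : Spec (CommRingCat.of k) ⟶ U.left),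
      IsClosedImmersion ιu ∧ ∀ z, ιu z = u :=
    ⟨↥(U.left.residueField u), inferInstance, U.left.fromSpecResidueField u, hci,
      fun z => Scheme.fromSpecResidueField_apply _ _⟩
  obtain ⟨ιo, hιo⟩ : ∃ ιo : Over.mk (ιu ≫ U.hom) ⟶ U, ιo.left = ιu := ⟨Over.homMk ιu rfl, rfl⟩
  have hm : Mono ιo.left := by rw [hιo]; infer_instance
  have hlft : LocallyOfFiniteType ιo.left := by rw [hιo]; infer_instance
  obtain ⟨Z, hZ, i, p, hmono, hpe, hps, hpi⟩ := exists_mono_quotient φ hφ k (ιu ≫ U.hom) ιo hm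
  have hz : ∀ z, ιo.left z = u := fun z => by rw [hιo]; exact hιpt z
  refine ⟨Z, hZ, i, k, hk, ιu ≫ U.hom, p, hpe, hps, ?_, hmono, ?_⟩
  · exact locP_of_chart etLocalST_locallyOfFiniteType i p φ ιo hpe hps hφ hpi hlft
  · rw [hpi, ofPt_yon_map_comp, hz]

/-- The image of a morphism locally of finite type from a space with an etale chart by a field is a finite type point. -/
theorem isFtPt_of_quot {Z X : Sp S} (hZ : IsAlgSpace Z) (hX : IsAlgSpace X) (f : Z ⟶ X) (k : Type u) [Field k]
    (str : Spec (CommRingCat.of k) ⟶ S) (z : (yon S).obj (Over.mk str) ⟶ Z) (hze : RepWith @Etale z)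
    (hf : LocP @LocallyOfFiniteType f) {x : Points X}
    (hx : Points.ofPt (z ≫ f) (IsLocalRing.closedPoint k) = x) : IsFtPt X x := by
  refine ⟨k, inferInstance, str, z ≫ f, ?_, hx⟩
  have hz : LocP @Etale z := (isEtaleMor_iff_locP_etale hZ z).1
    (fun _ φ hφ => (RepWith @Etale).comp_mem _ _ hφ hze)
  exact locP_comp etLocalST_locallyOfFiniteType (IsAlgSpace.yon_obj _) hZ hX z f
    (locP_mono etLocalST_locallyOfFiniteType.etale_le hz) hf

/-- A space with a surjective chart by the spectrum of a field has exactly one point. -/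
theorem unique_and_range_of_quot {Z X : Sp S} (f : Z ⟶ X) (k : Type u) [Field k]
    (str : Spec (CommRingCat.of k) ⟶ S) (z : (yon S).obj (Over.mk str) ⟶ Z) (hzs : RepWith @Surjective z)
    {x : Points X} (hx : Points.ofPt (z ≫ f) (IsLocalRing.closedPoint k) = x) :
    Nonempty (Unique (Points Z)) ∧ Set.range (Points.map f) = {x} := by
  have hall : ∀ y : Points Z, y = Points.ofPt z (IsLocalRing.closedPoint k) := fun y => by
    obtain ⟨w, rfl⟩ := ofPt_surjective_of_surjective z hzs y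
    exact congrArg (Points.ofPt z) (Subsingleton.elim (α := PrimeSpectrum k) _ _)
  refine ⟨⟨⟨⟨Points.ofPt z (IsLocalRing.closedPoint k)⟩, hall⟩⟩, ?_⟩
  ext y
  simp only [Set.mem_range, Set.mem_singleton_iff]
  constructor
  · rintro ⟨w, rfl⟩
    rw [hall w, Points.map_ofPt]
    exact hx
  · intro hy
    exact ⟨Points.ofPt z (IsLocalRing.closedPoint k), by rw [Points.map_ofPt, hx, hy]⟩

/-- The image of a one-point algebraic space locally of finite type over `X` is a finite type point. -/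
theorem isFtPt_of_unique {Z X : Sp S} (hZ : IsAlgSpace Z) (hX : IsAlgSpace X) (f : Z ⟶ X)
    (hU : Nonempty (Unique (Points Z))) (hf : LocP @LocallyOfFiniteType f) {x : Points X}
    (hr : Set.range (Points.map f) = {x}) : IsFtPt X x := by
  obtain ⟨hU⟩ := hU
  obtain ⟨ζ, -, k, hk, str, ξ₀, hξ₀, hpt⟩ :=
    exists_isFtPt_of_isLocallyClosed hZ Set.univ isOpen_univ.isLocallyClosed ⟨hU.default, trivial⟩
  refine ⟨k, hk, str, ξ₀ ≫ f, ?_, ?_⟩
  · exact locP_comp etLocalST_locallyOfFiniteType (IsAlgSpace.yon_obj _) hZ hX ξ₀ f hξ₀ hf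
  · have h1 : Points.map f (Points.ofPt ξ₀ (IsLocalRing.closedPoint k)) ∈ Set.range (Points.map f) := ⟨_, rfl⟩
    rw [hr, Set.mem_singleton_iff, Points.map_ofPt] at h1
    exact h1

end Groth.Agent.Lib.Helper16.ResidualSp3
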