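import Groth.Agent.Lib.Helper16.SchImgDense
import Groth.Agent.Lib.Helper15.SchDenseFlat
import Groth.Agent.Lib.Helper17.AlgSpProper

/-!
# Helper library (helper16): scheme theoretically dense open subspaces and scheme theoretic closure
-/

set_option autoImplicit false
universe u
open CategoryTheory CategoryTheory.Limits AlgebraicGeometry Opposite Topology TopologicalSpace

namespace Groth.Agent.Lib.Helper16.SchImg

open AlgSp SchImgKer

variable {S : Scheme.{u}}

/-- The pullback of a representable open immersion to a scheme is an open subscheme. -/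
theorem exists_opens_isPullback {G F : Sp S} (j : G ⟶ F) (hj : RepWith @IsOpenImmersion j) {V : Over S}
    (φ : (yon S).obj V ⟶ F) :
    ∃ (W : V.left.Opens) (fst : (yon S).obj (overOpen V W) ⟶ G),
      IsPullback fst ((yon S).map (overOpenι V W)) j φ := by
  obtain ⟨W', w, fst', sq⟩ := hj.rep φ
  have hw : IsOpenImmersion w.left := hj.property _ _ _ sq
  let eo : overOpen V w.left.opensRange ≅ W' := Over.isoMk w.left.isoOpensRange.symm (by
    show w.left.isoOpensRange.inv ≫ W'.hom = w.left.opensRange.ι ≫ V.hom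
    rw [← Over.w w, ← Category.assoc, Scheme.Hom.isoOpensRange_inv_comp])
  have heo : eo.hom ≫ w = overOpenι V w.left.opensRange := by
    ext1
    exact Scheme.Hom.isoOpensRange_inv_comp w.left
  refine ⟨w.left.opensRange, (yon S).map eo.hom ≫ fst', ?_⟩
  refine IsPullback.of_iso sq ((yon S).mapIso eo).symm (Iso.refl _) (Iso.refl _) (Iso.refl _) ?_ ?_
    (by simp) (by simp)
  · rw [Iso.refl_hom, Category.comp_id, Iso.symm_hom, Functor.mapIso_inv, ← Category.assoc, ← Functor.map_comp,
      Iso.inv_hom_id, CategoryTheory.Functor.map_id, Category.id_comp]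
  · rw [Iso.refl_hom, Category.comp_id, Iso.symm_hom, Functor.mapIso_inv, ← Functor.map_comp, ← heo,
      Iso.inv_hom_id_assoc]

/-- A quasi-compact scheme theoretically dense open subspace has scheme theoretic closure everything. -/
theorem isSchImage_id_of_isSchDense {U X : Sp S} (j : U ⟶ X) (hq : IsQuasiCompactMor j)
    (hd : IsSchDense j) : IsSchImage j (𝟙 X) := by
  obtain ⟨hjo, V, φ, W, fst, hφe, hφs, sqW, hWd⟩ := hd
  have hjqc : RepWith @QuasiCompact j := repWith_quasiCompact_of_isQuasiCompactMor j hjo.rep hq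
  haveI : QuasiCompact W.ι := hjqc.property φ fst (Over.homMk W.ι rfl) sqW
  haveI := Groth.Agent.Lib.Helper15.isSchemeTheoreticallyDominant_ι_of_isSchematicallyDense W hWd
  have hid : RepWith @IsClosedImmersion (𝟙 X) := Groth.Agent.Lib.Helper17.repWith_of_isIso _ _
  refine isSchImage_of_chart j (𝟙 X) hid ⟨j, Category.comp_id j⟩ φ hφe hφs fst
    (Over.homMk W.ι rfl : Over.mk (W.ι ≫ V.hom) ⟶ V) sqW.w (𝟙 V) φ ?_ ?_
  · rw [CategoryTheory.Functor.map_id]
    exact IsPullback.id_vert φ
  · show W.ι.ker ≤ _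
    rw [W.ι.ker_eq_bot]
    exact bot_le

/-- A quasi-compact open subspace whose scheme theoretic closure is everything is scheme theoretically dense. -/
theorem isSchDense_of_isSchImage_id {U X : Sp S} (hU : IsAlgSpace U) (hX : IsAlgSpace X) (j : U ⟶ X)
    (hj : RepWith @IsOpenImmersion j) (hq : IsQuasiCompactMor j) (h : IsSchImage j (𝟙 X)) : IsSchDense j := by
  obtain ⟨A, B, p, g₀, ε, hpe, hps, hεe, hεs, hε, hqc⟩ := exists_qc_chart hU hX j hq
  obtain ⟨qZ, sqA⟩ := exists_isPullback_of_isSchImage hX hX j (𝟙 X) h p hpe hps g₀ ε hεe hεs hε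
  have hiso : IsIso ((yon S).map (Over.homMk g₀.left.ker.subschemeι rfl :
      Over.mk (g₀.left.ker.subschemeι ≫ A.hom) ⟶ A)) := sqA.isIso_snd_of_isIso
  have hio : IsIso (Over.homMk g₀.left.ker.subschemeι rfl :
      Over.mk (g₀.left.ker.subschemeι ≫ A.hom) ⟶ A) := isIso_of_fully_faithful (yon S) _
  have hioleft : IsIso g₀.left.ker.subschemeι :=
    (Over.forget S).map_isIso (Over.homMk g₀.left.ker.subschemeι rfl :
      Over.mk (g₀.left.ker.subschemeι ≫ A.hom) ⟶ A)
  have hker : g₀.left.ker = ⊥ := by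
    rw [← g₀.left.ker.ker_subschemeι]
    exact Scheme.Hom.ker_eq_bot_of_isIso _
  obtain ⟨W, fstW, sqW⟩ := exists_opens_isPullback j hj p
  obtain ⟨b, hb⟩ := (yon S).map_surjective (sqW.lift (ε ≫ pullback.fst j p) ((yon S).map g₀)
    (by rw [Category.assoc, pullback.condition, ← Category.assoc, hε]))
  have hb2 : b ≫ overOpenι A W = g₀ := by
    apply (yon S).map_injective
    rw [Functor.map_comp, hb, sqW.lift_snd]
  have hb3 : b.left ≫ W.ι = g₀.left := congrArg CommaMorphism.left hb2
  have hWker : W.ι.ker = ⊥ := by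
    rw [eq_bot_iff, ← hker, ← hb3]
    exact Scheme.Hom.le_ker_comp _ _
  have hjqc : RepWith @QuasiCompact j := repWith_quasiCompact_of_isQuasiCompactMor j hj.rep hq
  haveI : QuasiCompact W.ι := hjqc.property p fstW (overOpenι A W) sqW
  haveI : IsSchemeTheoreticallyDominant W.ι := ⟨hWker⟩
  exact ⟨hj, A, p, W, fstW, hpe, hps, sqW,
    Groth.Agent.Lib.Helper15.isSchematicallyDense_of_isSchemeTheoreticallyDominant_ι W⟩

end Groth.Agent.Lib.Helper16.SchImg
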