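import Groth.Agent.Lib.Helper16.InvSub
import Groth.Agent.S9932
import Mathlib.AlgebraicGeometry.IdealSheaf.Functorial
import Groth.Prelude.Def_AlgSpSub

/-!
# Helper library (helper16): scheme theoretic image of a morphism of algebraic spaces

The construction: take an atlas `V ⟶ Y` with relation `s t : R ⇉ V`, a scheme chart `g₀ : U' ⟶ V` of `f`,
and the largest ideal sheaf `I₀` on `V` with `I₀.comap s ≤ I₀.comap t` and `I₀ ≤ ker g₀`. Its closed
subscheme is invariant and descends to the scheme theoretic image.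
-/

set_option autoImplicit false
universe u
open CategoryTheory CategoryTheory.Limits AlgebraicGeometry Opposite Topology

namespace Groth.Agent.Lib.Helper16.SchImg

open AlgSp

variable {S : Scheme.{u}}

/-- In the topos `Sp S`: a morphism `f` whose restriction along an epi factors through a mono factors through
that mono. -/
theorem exists_lift_of_epi_mono {W X Y Z : Sp S} (e : W ⟶ X) [Epi e] (i : Z ⟶ Y) [Mono i] (f : X ⟶ Y)
    (m : W ⟶ Z) (h : e ≫ f = m ≫ i) : ∃ f' : X ⟶ Z, f' ≫ i = f := by
  have hm : Mono (pullback.snd i f) := inferInstance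
  have he : Epi (pullback.snd i f) := by
    have h1 : pullback.lift m e h.symm ≫ pullback.snd i f = e := pullback.lift_snd _ _ _
    exact epi_of_epi_fac h1
  have := isIso_of_mono_of_epi (pullback.snd i f)
  exact ⟨inv (pullback.snd i f) ≫ pullback.fst i f, by
    rw [Category.assoc, pullback.condition, IsIso.inv_hom_id_assoc]⟩

/-- If `I.comap s ≤ I.comap t`, then a morphism `r` with `r ≫ t` factoring through `V(I)` has `r ≫ s` factoring
through `V(I)`. -/
theorem exists_lift_of_comap_le {R V T : Scheme.{u}} (s t : R ⟶ V) (I : V.IdealSheafData)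
    (h : I.comap s ≤ I.comap t) (r : T ⟶ R) (x : T ⟶ I.subscheme) (hrx : r ≫ t = x ≫ I.subschemeι) :
    ∃ w : T ⟶ I.subscheme, w ≫ I.subschemeι = r ≫ s := by
  have h1 : I ≤ (r ≫ t).ker := by
    rw [hrx]
    conv_lhs => rw [← I.ker_subschemeι]
    exact Scheme.Hom.le_ker_comp _ _
  rw [Scheme.Hom.ker_comp, Scheme.IdealSheafData.le_map_iff_comap_le] at h1
  have h2 : I ≤ (r ≫ s).ker := by
    rw [Scheme.Hom.ker_comp, Scheme.IdealSheafData.le_map_iff_comap_le]
    exact h.trans h1
  exact ⟨IsClosedImmersion.lift I.subschemeι (r ≫ s) (by rw [Scheme.IdealSheafData.ker_subschemeι]; exact h2),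
    IsClosedImmersion.lift_fac _ _ _⟩

/-- The ideal of a closed subscheme of a chart that is pulled back from the space is invariant. -/
theorem comap_le_of_isPullback {Y Z'' : Sp S} {R V W : Over S} (p : (yon S).obj V ⟶ Y) (s t : R ⟶ V)
    (hst : (yon S).map t ≫ p = (yon S).map s ≫ p) (i' : Z'' ⟶ Y) (j : W ⟶ V) (fst' : (yon S).obj W ⟶ Z'')
    (sqW : IsPullback fst' ((yon S).map j) i' p) [IsClosedImmersion j.left] :
    j.left.ker.comap s.left ≤ j.left.ker.comap t.left := by
  rw [← Scheme.IdealSheafData.ker_fst_of_isClosedImmersion j.left t.left,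
    ← Scheme.IdealSheafData.le_map_iff_comap_le, ← Scheme.Hom.ker_comp]
  let T₀ : Over S := Over.mk (pullback.fst t.left j.left ≫ R.hom)
  let r₀ : T₀ ⟶ R := Over.homMk (pullback.fst t.left j.left) rfl
  let x₀ : T₀ ⟶ W := Over.homMk (pullback.snd t.left j.left) (by
    show pullback.snd t.left j.left ≫ W.hom = pullback.fst t.left j.left ≫ R.hom
    rw [← Over.w j, ← Over.w t, ← Category.assoc, ← Category.assoc, pullback.condition])
  have hrx : r₀ ≫ t = x₀ ≫ j := by
    ext1
    exact pullback.condition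
  have hc : ((yon S).map x₀ ≫ fst') ≫ i' = (yon S).map (r₀ ≫ s) ≫ p := by
    rw [Category.assoc, sqW.w, Functor.map_comp, Category.assoc, ← hst, ← Category.assoc, ← Category.assoc,
      ← Functor.map_comp, ← Functor.map_comp, hrx]
  obtain ⟨l, hl⟩ := (yon S).map_surjective (sqW.lift _ _ hc)
  have hl2 : l ≫ j = r₀ ≫ s := by
    apply (yon S).map_injective
    rw [Functor.map_comp, hl, sqW.lift_snd]
  have hl3 : l.left ≫ j.left = pullback.fst t.left j.left ≫ s.left := congrArg CommaMorphism.left hl2
  rw [← hl3]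
  exact Scheme.Hom.le_ker_comp _ _

/-- **Existence of the scheme theoretic image** of a morphism of algebraic spaces. -/
theorem exists_isSchImage {X Y : Sp S} (hX : IsAlgSpace X) (hY : IsAlgSpace Y) (f : X ⟶ Y) :
    ∃ (Z : Sp S) (i : Z ⟶ Y), IsAlgSpace Z ∧ IsSchImage f i := by
  obtain ⟨V, p, hpe, hps⟩ := hY.atlas
  have hrep := hY.representable_from_yon p
  obtain ⟨R, s, fstR, sqR⟩ := hrep p
  obtain ⟨t, rfl⟩ := (yon S).map_surjective fstR
  obtain ⟨U, a, hae, has⟩ := hX.atlas
  obtain ⟨U', a', fstU, sqU⟩ := hrep (a ≫ f)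
  obtain ⟨g₀, rfl⟩ := (yon S).map_surjective fstU
  -- `sqU : IsPullback (yon g₀) (yon a') p (a ≫ f)`
  have ha'e : RepWith @Etale ((yon S).map a') := (repWith_yon_map_iff _ _).2 (hpe.property _ _ _ sqU)
  have ha's : RepWith @Surjective ((yon S).map a') := (repWith_yon_map_iff _ _).2 (hps.property _ _ _ sqU)
  have hepi1 : Epi ((yon S).map a') := epi_of_etale_surjective _ ha'e ha's
  have hepi2 : Epi a := epi_of_etale_surjective _ hae has
  have hepi : Epi ((yon S).map a' ≫ a) := epi_comp _ _
  -- the largest invariant ideal contained in the kernel of the chart of `f`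
  let 𝓘 : Set V.left.IdealSheafData := {I | I.comap s.left ≤ I.comap t.left ∧ I ≤ g₀.left.ker}
  let I₀ : V.left.IdealSheafData := sSup 𝓘
  have hI₀inv : I₀.comap s.left ≤ I₀.comap t.left := by
    have h1 : I₀.comap s.left = ⨆ I ∈ 𝓘, I.comap s.left :=
      (Scheme.IdealSheafData.map_gc s.left).l_sSup (s := 𝓘)
    rw [h1]
    exact iSup₂_le fun I hI => hI.1.trans (Scheme.IdealSheafData.comap_mono _ (le_sSup hI))
  have hI₀g : I₀ ≤ g₀.left.ker := sSup_le fun I hI => hI.2
  let Z' : Over S := Over.mk (I₀.subschemeι ≫ V.hom)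
  let io : Z' ⟶ V := Over.homMk I₀.subschemeι rfl
  have hmono : Mono io := (Over.forget S).mono_of_mono_map (inferInstanceAs (Mono I₀.subschemeι))
  obtain ⟨Z, i, q, hZ, hi, sq⟩ := InvSub.exists_subspace' hY s t p hpe hps sqR io (by
    intro T' r x hrx
    have h1 : r.left ≫ t.left = x.left ≫ I₀.subschemeι := congrArg CommaMorphism.left hrx
    obtain ⟨w, hw⟩ := exists_lift_of_comap_le s.left t.left I₀ hI₀inv r.left x.left h1
    refine ⟨Over.homMk w ?_, ?_⟩
    · show w ≫ I₀.subschemeι ≫ V.hom = T'.hom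
      rw [← Category.assoc, hw, Category.assoc, Over.w s, Over.w r]
    · ext1
      exact hw)
  have hqe : RepWith @Etale q := by
    have := repWith_isStableUnderBaseChange (S := S) @Etale
    exact MorphismProperty.of_isPullback sq.flip hpe
  have hqs : RepWith @Surjective q := by
    have := repWith_isStableUnderBaseChange (S := S) @Surjective
    exact MorphismProperty.of_isPullback sq.flip hps
  have hqepi : Epi q := epi_of_etale_surjective _ hqe hqs
  have hicl : RepWith @IsClosedImmersion i :=
    Groth.Agent.S9932.result @IsClosedImmersion (Or.inl rfl) (X := ⟨Z, hZ⟩) (Y := ⟨Y, hY⟩)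
      (ObjectProperty.homMk i) V p hpe hps q _ sq
      ((repWith_yon_map_iff @IsClosedImmersion _).2 (inferInstanceAs (IsClosedImmersion I₀.subschemeι)))
  refine ⟨Z, i, hZ, hicl, ?_, ?_⟩
  · -- `f` factors through `i`
    let g₁ : U'.left ⟶ I₀.subscheme := IsClosedImmersion.lift I₀.subschemeι g₀.left
      (by rw [Scheme.IdealSheafData.ker_subschemeι]; exact hI₀g)
    have hg₁ : g₁ ≫ I₀.subschemeι = g₀.left := IsClosedImmersion.lift_fac _ _ _
    let g₂ : U' ⟶ Z' := Over.homMk g₁ (by
      show g₁ ≫ I₀.subschemeι ≫ V.hom = U'.hom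
      rw [← Category.assoc, hg₁, Over.w g₀])
    have hg₂ : g₂ ≫ io = g₀ := by
      ext1
      exact hg₁
    refine exists_lift_of_epi_mono ((yon S).map a' ≫ a) i f ((yon S).map g₂ ≫ q) ?_
    rw [Category.assoc, ← sqU.w, Category.assoc, sq.w, ← Category.assoc, ← Functor.map_comp, hg₂]
  · -- minimality
    intro Z'' i' hZ'' hi' hf''
    obtain ⟨f'', hf''⟩ := hf''
    obtain ⟨W, j, fst', sqW⟩ := hi'.rep p
    have hj : IsClosedImmersion j.left := hi'.property _ _ _ sqW
    have hmem : j.left.ker ∈ 𝓘 := by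
      refine ⟨comap_le_of_isPullback p s t sqR.w i' j fst' sqW, ?_⟩
      have hc : ((yon S).map a' ≫ a ≫ f'') ≫ i' = (yon S).map g₀ ≫ p := by
        rw [Category.assoc, Category.assoc, hf'', sqU.w]
      obtain ⟨l, hl⟩ := (yon S).map_surjective (sqW.lift _ _ hc)
      have hl2 : l ≫ j = g₀ := by
        apply (yon S).map_injective
        rw [Functor.map_comp, hl, sqW.lift_snd]
      have hl3 : l.left ≫ j.left = g₀.left := congrArg CommaMorphism.left hl2
      rw [← hl3]
      exact Scheme.Hom.le_ker_comp _ _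
    have hle : j.left.ker ≤ I₀ := le_sSup hmem
    let m : I₀.subscheme ⟶ W.left := IsClosedImmersion.lift j.left I₀.subschemeι
      (by rw [Scheme.IdealSheafData.ker_subschemeι]; exact hle)
    have hm : m ≫ j.left = I₀.subschemeι := IsClosedImmersion.lift_fac _ _ _
    let m' : Z' ⟶ W := Over.homMk m (by
      show m ≫ W.hom = I₀.subschemeι ≫ V.hom
      rw [← Over.w j, ← Category.assoc, hm])
    have hm' : m' ≫ j = io := by
      ext1
      exact hm
    have : Mono i' := mono_of_repWith (P := @IsClosedImmersion)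
      (fun _ _ g hg => by
        have : IsClosedImmersion g := hg
        exact MorphismProperty.monomorphisms.infer_property g) i' hi'
    refine exists_lift_of_epi_mono q i' i ((yon S).map m' ≫ fst') ?_
    rw [Category.assoc, sqW.w, ← Category.assoc, ← Functor.map_comp, hm', sq.w]

end Groth.Agent.Lib.Helper16.SchImg
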