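import Groth.Agent.Lib.Helper16.SchImgFlat
import Groth.Agent.Lib.Helper16.LocPInst
import Groth.Agent.Lib.Helper16.LocPSource

/-!
# Helper library (helper16): density of the image in the scheme theoretic image; etale base change
-/

set_option autoImplicit false
universe u
open CategoryTheory CategoryTheory.Limits AlgebraicGeometry Opposite Topology TopologicalSpace

namespace Groth.Agent.Lib.Helper16.SchImg

open AlgSp SchImgKer

variable {S : Scheme.{u}}

/-- The image of a quasi-compact morphism is dense in its scheme theoretic image. -/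
theorem range_subset_closure_of_isSchImage {X Y Z : Sp S} (hX : IsAlgSpace X) (hY : IsAlgSpace Y)
    (hZ : IsAlgSpace Z) (f : X ⟶ Y) (hf : IsQuasiCompactMor f) (i : Z ⟶ Y) (hZi : IsSchImage f i) :
    Set.range (Points.map i) ⊆ closure (Set.range (Points.map f)) := by
  obtain ⟨A, B, p, g₀, ε, hpe, hps, hεe, hεs, hε, hqc⟩ := exists_qc_chart hX hY f hf
  obtain ⟨qZ, sqA⟩ := exists_isPullback_of_isSchImage hY hZ f i hZi p hpe hps g₀ ε hεe hεs hε
  have hqs : RepWith @Surjective qZ := (RepWith @Surjective).of_isPullback sqA.flip hps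
  -- the morphism to the image, over `S`
  let τ : B ⟶ Over.mk (g₀.left.ker.subschemeι ≫ A.hom) := Over.homMk g₀.left.toImage (by
    show g₀.left.toImage ≫ g₀.left.imageι ≫ A.hom = B.hom
    rw [← Category.assoc, Scheme.Hom.toImage_imageι, Over.w g₀])
  have hτ : τ ≫ (Over.homMk g₀.left.ker.subschemeι rfl : Over.mk (g₀.left.ker.subschemeι ≫ A.hom) ⟶ A) = g₀ := by
    ext1
    exact Scheme.Hom.toImage_imageι _
  have hdense : DenseRange g₀.left.toImage := g₀.left.toImage.denseRange
  rintro _ ⟨z, rfl⟩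
  obtain ⟨w, rfl⟩ := ofPt_surjective_of_surjective qZ hqs z
  have hw : w ∈ closure (Set.range g₀.left.toImage) := hdense w
  have h1 : Points.map i (Points.ofPt qZ w) ∈
      (fun w' => Points.map i (Points.ofPt qZ w')) '' closure (Set.range g₀.left.toImage) := ⟨w, hw, rfl⟩
  have hcont : Continuous (fun w' => Points.map i (Points.ofPt qZ w')) :=
    (Points.continuous_map i).comp (Points.continuous_ofPt qZ)
  refine closure_mono ?_ (image_closure_subset_closure_image hcont h1)
  rintro _ ⟨_, ⟨b, rfl⟩, rfl⟩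
  refine ⟨Points.ofPt (ε ≫ pullback.fst f p) b, ?_⟩
  show Points.map f (Points.ofPt (ε ≫ pullback.fst f p) b) = Points.map i (Points.ofPt qZ (τ.left b))
  have e1 : (yon S).map τ ≫ qZ ≫ i = (yon S).map g₀ ≫ p := by
    rw [sqA.w, ← Category.assoc, ← Functor.map_comp, hτ]
  have e2 : ε ≫ pullback.fst f p ≫ f = (yon S).map g₀ ≫ p := by
    rw [pullback.condition, ← Category.assoc, hε]
  simp only [Points.map_ofPt, ← ofPt_yon_map_comp, Category.assoc]
  rw [e1, e2]

/-- Etale base change of the scheme theoretic image of a quasi-compact morphism. -/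
theorem isSchImage_etale_baseChange {X Y V Z XV ZV : Sp S} (hX : IsAlgSpace X) (hY : IsAlgSpace Y)
    (hV : IsAlgSpace V) (hZ : IsAlgSpace Z) (f : X ⟶ Y) (hf : IsQuasiCompactMor f) (i : Z ⟶ Y)
    (hZi : IsSchImage f i) (b : V ⟶ Y) (hb : IsEtaleMor b) (f₁ : XV ⟶ X) (fV : XV ⟶ V)
    (sqX : IsPullback f₁ fV f b) (i₁ : ZV ⟶ Z) (iV : ZV ⟶ V) (sqZ : IsPullback i₁ iV i b) :
    IsSchImage fV iV :=
  isSchImage_flat_baseChange hV hY hX hZ b
    (locP_mono etale_le_flat ((isEtaleMor_iff_locP_etale hY b).1 hb)) f hf i hZi f₁ fV sqX i₁ iV sqZ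

end Groth.Agent.Lib.Helper16.SchImg
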