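import Groth.Agent.Lib.Helper16.SchImgQc2

/-!
# Helper library (helper16): flat base change of the scheme theoretic image of a quasi-compact morphism
-/

set_option autoImplicit false
universe u
open CategoryTheory CategoryTheory.Limits AlgebraicGeometry Opposite Topology TopologicalSpace

namespace Groth.Agent.Lib.Helper16.SchImg

open AlgSp SchImgKer

variable {S : Scheme.{u}}

/-- The closed subscheme of the pulled back ideal sheaf is the fibre product, over `S`. -/
theorem exists_isPullback_comap_subscheme {V' A : Over S} (ψ : V' ⟶ A) (J : A.left.IdealSheafData) :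
    ∃ m : Over.mk ((J.comap ψ.left).subschemeι ≫ V'.hom) ⟶ Over.mk (J.subschemeι ≫ A.hom),
      IsPullback m (Over.homMk (J.comap ψ.left).subschemeι rfl : Over.mk ((J.comap ψ.left).subschemeι ≫ V'.hom) ⟶ V')
        (Over.homMk J.subschemeι rfl : Over.mk (J.subschemeι ≫ A.hom) ⟶ A) ψ := by
  have h1 : ((J.comapIso ψ.left).hom ≫ pullback.snd ψ.left J.subschemeι) ≫ J.subschemeι =
      (J.comap ψ.left).subschemeι ≫ ψ.left := by
    rw [Category.assoc, ← pullback.condition, ← Category.assoc, Scheme.IdealSheafData.comapIso_hom_fst]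
  refine ⟨Over.homMk ((J.comapIso ψ.left).hom ≫ pullback.snd ψ.left J.subschemeι) ?_, ?_⟩
  · show ((J.comapIso ψ.left).hom ≫ pullback.snd ψ.left J.subschemeι) ≫ J.subschemeι ≫ A.hom =
      (J.comap ψ.left).subschemeι ≫ V'.hom
    rw [← Category.assoc, h1, Category.assoc, Over.w ψ]
  · refine IsPullback.of_map (Over.forget S) (Over.OverMorphism.ext h1) ?_
    show IsPullback ((J.comapIso ψ.left).hom ≫ pullback.snd ψ.left J.subschemeι) (J.comap ψ.left).subschemeι
      J.subschemeι ψ.left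
    exact IsPullback.of_iso (IsPullback.of_hasPullback ψ.left J.subschemeι).flip (J.comapIso ψ.left).symm
      (Iso.refl _) (Iso.refl _) (Iso.refl _)
      (by rw [Iso.refl_hom, Category.comp_id, Iso.symm_hom, Iso.inv_hom_id_assoc])
      (by rw [Iso.refl_hom, Category.comp_id, Iso.symm_hom, Scheme.IdealSheafData.comapIso_inv_subschemeι])
      (by simp) (by simp)

/-- **Flat base change of the scheme theoretic image of a quasi-compact morphism.** -/
theorem isSchImage_flat_baseChange {X Y V Z VX ZX : Sp S} (hX : IsAlgSpace X) (hY : IsAlgSpace Y)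
    (hV : IsAlgSpace V) (hZ : IsAlgSpace Z) (f : X ⟶ Y) (hf : LocP @Flat f) (g : V ⟶ Y)
    (hg : IsQuasiCompactMor g) (i : Z ⟶ Y) (hZi : IsSchImage g i) (g₁ : VX ⟶ V) (gX : VX ⟶ X)
    (sqV : IsPullback g₁ gX g f) (i₁ : ZX ⟶ Z) (iX : ZX ⟶ X) (sqZ : IsPullback i₁ iX i f) :
    IsSchImage gX iX := by
  obtain ⟨A, B, p, g₀, ε, hpe, hps, hεe, hεs, hε, hqc⟩ := exists_qc_chart hV hY g hg
  obtain ⟨qZ, sqA⟩ := exists_isPullback_of_isSchImage hY hZ g i hZi p hpe hps g₀ ε hεe hεs hε
  -- an atlas of `X` over the atlas of `Y`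
  have hXA : IsAlgSpace (pullback f p) :=
    isAlgSpace_of_isPullback hX hY.diag (IsAlgSpace.yon_obj A) (IsPullback.of_hasPullback f p)
  obtain ⟨V', a', ha'e, ha's⟩ := hXA.atlas
  obtain ⟨ψ, hψ⟩ := (yon S).map_surjective (a' ≫ pullback.snd f p)
  have hfe : RepWith @Etale (pullback.fst f p) :=
    (RepWith @Etale).of_isPullback (IsPullback.of_hasPullback f p).flip hpe
  have hfs : RepWith @Surjective (pullback.fst f p) :=
    (RepWith @Surjective).of_isPullback (IsPullback.of_hasPullback f p).flip hps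
  have hp'e : RepWith @Etale (a' ≫ pullback.fst f p) := (RepWith @Etale).comp_mem _ _ ha'e hfe
  have hp's : RepWith @Surjective (a' ≫ pullback.fst f p) := (RepWith @Surjective).comp_mem _ _ ha's hfs
  have hcomm : (a' ≫ pullback.fst f p) ≫ f = (yon S).map ψ ≫ p := by
    rw [Category.assoc, pullback.condition, ← Category.assoc, hψ]
  have hcomm' : a' ≫ pullback.fst f p ≫ f = (yon S).map ψ ≫ p := by
    rw [← Category.assoc]
    exact hcomm
  have hψflat : Flat ψ.left := hf (a' ≫ pullback.fst f p) p ψ hp'e hpe hcomm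
  -- the chart of `VX`
  obtain ⟨ε', -, -, hε'snd, -⟩ := exists_chart_baseChange g p g₀ ε hεe hεs hε ψ
  have he : (ε' ≫ pullback.fst g ((yon S).map ψ ≫ p)) ≫ g =
      ((yon S).map (ovPullbackSnd g₀ ψ) ≫ a' ≫ pullback.fst f p) ≫ f := by
    have h1 : ε' ≫ pullback.fst g ((yon S).map ψ ≫ p) ≫ g =
        (yon S).map (ovPullbackSnd g₀ ψ) ≫ (yon S).map ψ ≫ p := by
      rw [pullback.condition, ← Category.assoc, hε'snd]
    simp only [Category.assoc]
    rw [h1, hcomm']
  -- the closed subscheme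
  obtain ⟨m, sqm⟩ := exists_isPullback_comap_subscheme ψ g₀.left.ker
  have sq1 : IsPullback ((yon S).map m ≫ qZ) ((yon S).map (Over.homMk (g₀.left.ker.comap ψ.left).subschemeι rfl :
      Over.mk ((g₀.left.ker.comap ψ.left).subschemeι ≫ V'.hom) ⟶ V')) i ((yon S).map ψ ≫ p) :=
    (sqm.map (yon S)).paste_horiz sqA
  have hq : ((yon S).map m ≫ qZ) ≫ i = ((yon S).map (Over.homMk (g₀.left.ker.comap ψ.left).subschemeι rfl :
      Over.mk ((g₀.left.ker.comap ψ.left).subschemeι ≫ V'.hom) ⟶ V') ≫ a' ≫ pullback.fst f p) ≫ f := by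
    rw [sq1.w]
    simp only [Category.assoc]
    rw [hcomm']
  have sq2 : IsPullback (sqZ.lift _ _ hq) ((yon S).map (Over.homMk (g₀.left.ker.comap ψ.left).subschemeι rfl :
      Over.mk ((g₀.left.ker.comap ψ.left).subschemeι ≫ V'.hom) ⟶ V')) iX (a' ≫ pullback.fst f p) := by
    refine IsPullback.of_right ?_ (sqZ.lift_snd _ _ _) sqZ
    rw [sqZ.lift_fst, hcomm]
    exact sq1
  have hicl : RepWith @IsClosedImmersion iX := (RepWith @IsClosedImmersion).of_isPullback sqZ hZi.1
  obtain ⟨g', hg'⟩ := hZi.2.1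
  have hfac : ∃ f' : VX ⟶ ZX, f' ≫ iX = gX :=
    ⟨sqZ.lift (g₁ ≫ g') gX (by rw [Category.assoc, hg', sqV.w]), sqZ.lift_snd _ _ _⟩
  refine isSchImage_of_chart gX iX hicl hfac (a' ≫ pullback.fst f p) hp'e hp's (sqV.lift _ _ he)
    (ovPullbackSnd g₀ ψ) (sqV.lift_snd _ _ _) _ _ sq2 ?_
  show (pullback.snd g₀.left ψ.left).ker ≤ ((g₀.left.ker.comap ψ.left).subschemeι).ker
  rw [Scheme.IdealSheafData.ker_subschemeι, ker_pullback_snd_of_flat g₀.left ψ.left]

end Groth.Agent.Lib.Helper16.SchImg
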