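import Groth.Agent.Lib.Helper16.SchImgRed
import Groth.Agent.Lib.Helper15.SchDenseFlat
import Mathlib.AlgebraicGeometry.Morphisms.Immersion

/-!
# Helper library (helper16): immersions with reduced source, and their scheme theoretic image
-/

set_option autoImplicit false
universe u
open CategoryTheory CategoryTheory.Limits AlgebraicGeometry Opposite Topology TopologicalSpace

namespace Groth.Agent.Lib.Helper16.SchImgKer

/-- A dominant immersion into a reduced scheme is an open immersion. -/
theorem isOpenImmersion_of_isDominant_of_isReduced {Z Y : Scheme.{u}} (f : Z ⟶ Y) [IsImmersion f]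
    [IsDominant f] [IsReduced Y] : IsOpenImmersion f := by
  haveI : IsDominant (f.liftCoborder ≫ f.coborderRange.ι) := by rw [f.liftCoborder_ι]; infer_instance
  haveI : IsDominant f.liftCoborder :=
    IsDominant.of_comp_of_isOpenImmersion f.liftCoborder f.coborderRange.ι
  haveI : Surjective f.liftCoborder :=
    surjective_of_isDominant_of_isClosed_range _ f.liftCoborder.isClosedEmbedding.isClosed_range
  haveI : IsIso f.liftCoborder := isIso_of_isClosedImmersion_of_surjective _
  rw [← f.liftCoborder_ι]
  infer_instance

/-- The scheme theoretic image of a morphism with reduced source is reduced. -/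
theorem isReduced_image_of_isReduced {Z X : Scheme.{u}} (h : Z ⟶ X) [IsReduced Z] : IsReduced h.image := by
  show IsReduced h.ker.subscheme
  rw [ker_eq_vanishingIdeal_of_isReduced]
  exact Groth.Agent.Lib.Helper7.isReduced_vanishingIdeal_subscheme _

/-- The range of the scheme theoretic image of a morphism with reduced source is the closure of the range. -/
theorem range_imageι_of_isReduced {Z X : Scheme.{u}} (h : Z ⟶ X) [IsReduced Z] :
    Set.range h.imageι = closure (Set.range h) := by
  show Set.range h.ker.subschemeι = _
  rw [Scheme.IdealSheafData.range_subschemeι, ker_eq_vanishingIdeal_of_isReduced,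
    Scheme.IdealSheafData.coe_support_vanishingIdeal, Closeds.coe_closure]

/-- If the range of the scheme theoretic image is the closure of the range, the morphism to the image is dominant. -/
theorem denseRange_toImage_of_range_imageι {Z X : Scheme.{u}} (h : Z ⟶ X)
    (hr : Set.range h.imageι = closure (Set.range h)) : DenseRange h.toImage := by
  intro y
  have hy : h.imageι y ∈ closure (Set.range h) := hr ▸ Set.mem_range_self y
  have h1 : Set.range h = h.imageι '' Set.range h.toImage := by
    rw [← Set.range_comp]
    conv_lhs => rw [← h.toImage_imageι]
    rfl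
  rw [h1, h.imageι.isClosedEmbedding.closure_image_eq] at hy
  obtain ⟨y', hy', hyy'⟩ := hy
  rwa [← h.imageι.isClosedEmbedding.injective hyy']

theorem denseRange_toImage_of_isReduced {Z X : Scheme.{u}} (h : Z ⟶ X) [IsReduced Z] :
    DenseRange h.toImage :=
  denseRange_toImage_of_range_imageι h (range_imageι_of_isReduced h)

/-- **An immersion with reduced source is an open immersion into its scheme theoretic image.** -/
theorem isOpenImmersion_toImage_of_isReduced {Z X : Scheme.{u}} (h : Z ⟶ X) [IsImmersion h] [IsReduced Z] :
    IsOpenImmersion h.toImage := by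
  haveI := isReduced_image_of_isReduced h
  haveI : IsDominant h.toImage := ⟨denseRange_toImage_of_isReduced h⟩
  exact isOpenImmersion_of_isDominant_of_isReduced h.toImage

/-- A dense open subscheme of a reduced scheme is schematically dense. -/
theorem isSchematicallyDense_of_isReduced_of_dense {Y : Scheme.{u}} [IsReduced Y] (R : Y.Opens)
    (hR : Dense (R : Set Y)) : CInt.IsSchematicallyDense R := by
  intro V
  rw [injective_iff_map_eq_zero]
  intro s hs
  rw [← basicOpen_eq_bot_iff]
  by_contra hne
  obtain ⟨x, hx⟩ : ((Y.basicOpen s : Y.Opens) : Set Y).Nonempty := by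
    rw [Set.nonempty_iff_ne_empty]
    intro h0
    exact hne (Opens.ext h0)
  obtain ⟨y, hy1, hy2⟩ := hR.inter_open_nonempty _ (Y.basicOpen s).isOpen ⟨x, hx⟩
  have hle : Y.basicOpen s ⊓ R ≤ Y.basicOpen (Y.presheaf.map (homOfLE (inf_le_left : V ⊓ R ≤ V)).op s) := by
    rw [Scheme.basicOpen_res]
    exact le_inf (le_inf ((inf_le_left).trans (Y.basicOpen_le s)) inf_le_right) inf_le_left
  have := hle ⟨hy1, hy2⟩
  rw [hs, Scheme.basicOpen_zero] at this
  exact this

/-- The morphism to the scheme theoretic image is dominant, for quasi-compact morphisms and for morphisms with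
reduced source. -/
theorem denseRange_toImage_of_or {Z X : Scheme.{u}} (h : Z ⟶ X) (hyp : QuasiCompact h ∨ IsReduced Z) :
    DenseRange h.toImage := by
  rcases hyp with hq | hred
  · exact h.toImage.denseRange
  · exact denseRange_toImage_of_isReduced h

/-- An immersion that is quasi-compact or has reduced source is an open immersion into its scheme theoretic
image. -/
theorem isOpenImmersion_toImage_of_or {Z X : Scheme.{u}} (h : Z ⟶ X) [IsImmersion h]
    (hyp : QuasiCompact h ∨ IsReduced Z) : IsOpenImmersion h.toImage := by
  rcases hyp with hq | hred
  · infer_instance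
  · exact isOpenImmersion_toImage_of_isReduced h

/-- The image of an immersion that is quasi-compact or has reduced source is schematically dense in the scheme
theoretic image. -/
theorem isSchematicallyDense_opensRange_toImage {Z X : Scheme.{u}} (h : Z ⟶ X) [IsImmersion h]
    (hyp : QuasiCompact h ∨ IsReduced Z) [IsOpenImmersion h.toImage] :
    CInt.IsSchematicallyDense h.toImage.opensRange := by
  rcases hyp with hq | hred
  · haveI : IsSchemeTheoreticallyDominant h.toImage := ⟨ker_toImage h⟩
    have hι : h.toImage.isoOpensRange.inv ≫ h.toImage = h.toImage.opensRange.ι :=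
      Scheme.Hom.isoOpensRange_inv_comp h.toImage
    haveI : IsSchemeTheoreticallyDominant h.toImage.opensRange.ι := by
      rw [← hι]; infer_instance
    haveI : QuasiCompact h.toImage.opensRange.ι := by
      rw [← hι]; infer_instance
    exact Groth.Agent.Lib.Helper15.isSchematicallyDense_of_isSchemeTheoreticallyDominant_ι _
  · haveI := isReduced_image_of_isReduced h
    exact isSchematicallyDense_of_isReduced_of_dense _ (denseRange_toImage_of_isReduced h)

end Groth.Agent.Lib.Helper16.SchImgKer
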