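import Groth.Agent.Lib.Helper16.SchImgRed2
import Groth.Agent.Lib.Helper16.SchImmRed

/-!
# Helper library (helper16): an immersion (quasi-compact or with reduced source) into its scheme theoretic image
-/

set_option autoImplicit false
universe u
open CategoryTheory CategoryTheory.Limits AlgebraicGeometry Opposite Topology TopologicalSpace

namespace Groth.Agent.Lib.Helper16.SchImg

open AlgSp SchImgKer

variable {S : Scheme.{u}}

/-- A pullback of `j` to a scheme along an open immersion `w` can be replaced by the open subscheme `range w`. -/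
theorem exists_isPullback_opensRange {G F : Sp S} {j : G ⟶ F} {V W' : Over S} {φ : (yon S).obj V ⟶ F}
    (w : W' ⟶ V) (fst' : (yon S).obj W' ⟶ G) (sq : IsPullback fst' ((yon S).map w) j φ)
    [hw : IsOpenImmersion w.left] :
    ∃ fst : (yon S).obj (overOpen V w.left.opensRange) ⟶ G,
      IsPullback fst ((yon S).map (overOpenι V w.left.opensRange)) j φ := by
  let eo : overOpen V w.left.opensRange ≅ W' := Over.isoMk w.left.isoOpensRange.symm (by
    show w.left.isoOpensRange.inv ≫ W'.hom = w.left.opensRange.ι ≫ V.hom
    rw [← Over.w w, ← Category.assoc, Scheme.Hom.isoOpensRange_inv_comp])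
  have heo : eo.hom ≫ w = overOpenι V w.left.opensRange := by
    ext1
    exact Scheme.Hom.isoOpensRange_inv_comp w.left
  refine ⟨(yon S).map eo.hom ≫ fst', ?_⟩
  refine IsPullback.of_iso sq ((yon S).mapIso eo).symm (Iso.refl _) (Iso.refl _) (Iso.refl _) ?_ ?_
    (by simp) (by simp)
  · rw [Iso.refl_hom, Category.comp_id, Iso.symm_hom, Functor.mapIso_inv, ← Category.assoc, ← Functor.map_comp,
      Iso.inv_hom_id, CategoryTheory.Functor.map_id, Category.id_comp]
  · rw [Iso.refl_hom, Category.comp_id, Iso.symm_hom, Functor.mapIso_inv, ← Functor.map_comp, ← heo,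
      Iso.inv_hom_id_assoc]

/-- **An immersion that is quasi-compact or has reduced source is a scheme theoretically dense, topologically
dense open immersion into its scheme theoretic image.** -/
theorem immersion_into_schImage {X Y Z : Sp S} (hX : IsAlgSpace X) (hY : IsAlgSpace Y)
    (hZ : IsAlgSpace Z) (f : X ⟶ Y) (hfi : RepWith @IsImmersion f) (hf : IsQuasiCompactMor f ∨ IsReducedSp X)
    (i : Z ⟶ Y) (hZi : IsSchImage f i) (f' : X ⟶ Z) (hf' : f' ≫ i = f) :
    RepWith @IsOpenImmersion f' ∧ IsSchDense f' ∧ Dense (Set.range (Points.map f')) := by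
  obtain ⟨A, XA, p, fA, fst, q, τ, hpe, hps, sqX, hcase, sqA, hτ, sqτ⟩ :=
    exists_chart_of_isSchImage_of_representable' hX hY hZ f hfi.rep hf i hZi f' hf'
  haveI hfAi : IsImmersion fA.left := hfi.property _ _ _ sqX
  haveI hτo' : IsOpenImmersion fA.left.toImage := isOpenImmersion_toImage_of_or fA.left hcase
  haveI hτo : IsOpenImmersion τ.left := by
    rw [hτ]
    infer_instance
  have hqe : RepWith @Etale q := (RepWith @Etale).of_isPullback sqA.flip hpe
  have hqs : RepWith @Surjective q := (RepWith @Surjective).of_isPullback sqA.flip hps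
  have hopen : RepWith @IsOpenImmersion f' :=
    Groth.Agent.S9932.result @IsOpenImmersion (Or.inr (Or.inl rfl)) (X := ⟨X, hX⟩) (Y := ⟨Z, hZ⟩)
      (ObjectProperty.homMk f') _ q hqe hqs fst _ sqτ ((repWith_yon_map_iff @IsOpenImmersion _).2 hτo)
  refine ⟨hopen, ⟨hopen, ?_⟩, ?_⟩
  · -- scheme theoretic density
    obtain ⟨fstW, sqW⟩ := exists_isPullback_opensRange τ fst sqτ
    refine ⟨_, q, τ.left.opensRange, fstW, hqe, hqs, sqW, ?_⟩
    have key : ∀ (t : XA.left ⟶ fA.left.image) (ht : t = fA.left.toImage) [IsOpenImmersion t],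
        CInt.IsSchematicallyDense t.opensRange := by
      rintro _ rfl _
      exact isSchematicallyDense_opensRange_toImage fA.left hcase
    exact key τ.left hτ
  · -- topological density
    have hdense : DenseRange τ.left := by
      rw [hτ]
      exact denseRange_toImage_of_or fA.left hcase
    intro z
    obtain ⟨w, rfl⟩ := ofPt_surjective_of_surjective q hqs z
    have hw : w ∈ closure (Set.range τ.left) := hdense w
    have h1 : Points.ofPt q w ∈ (fun w' => Points.ofPt q w') '' closure (Set.range τ.left) := ⟨w, hw, rfl⟩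
    refine closure_mono ?_ (image_closure_subset_closure_image (Points.continuous_ofPt q) h1)
    rintro _ ⟨_, ⟨b, rfl⟩, rfl⟩
    refine ⟨Points.ofPt fst b, ?_⟩
    show Points.map f' (Points.ofPt fst b) = Points.ofPt q (τ.left b)
    rw [Points.map_ofPt, sqτ.w, ofPt_yon_map_comp]

end Groth.Agent.Lib.Helper16.SchImg
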