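import Groth.Agent.Lib.Helper16.SchImg2
import Groth.Agent.Lib.Helper16.QuasiCompactMor

/-!
# Helper library (helper16): quasi-compact charts of quasi-compact morphisms of algebraic spaces
-/

set_option autoImplicit false
universe u
open CategoryTheory CategoryTheory.Limits AlgebraicGeometry Opposite Topology TopologicalSpace

namespace Groth.Agent.Lib.Helper16.SchImg

open AlgSp SchImgKer

variable {S : Scheme.{u}}

/-- A compact open of an atlas of a quasi-compact algebraic space which still covers. -/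
theorem exists_compact_open_of_compactSpace {F : Sp S} {V : Over S} (q : (yon S).obj V ⟶ F)
    (hqe : RepWith @Etale q) (hqs : RepWith @Surjective q) [CompactSpace (Points F)] :
    ∃ W' : V.left.Opens, IsCompact (W' : Set ↥V.left) ∧ ∀ x : Points F, ∃ w ∈ W', Points.ofPt q w = x := by
  have hb := V.left.isBasis_affineOpens
  have hex : ∀ v : ↥V.left, ∃ W : V.left.Opens, IsAffineOpen W ∧ v ∈ W := by
    intro v
    obtain ⟨W, hW, hv, -⟩ := (TopologicalSpace.Opens.isBasis_iff_nbhd.mp hb) (show v ∈ (⊤ : V.left.Opens) from trivial)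
    exact ⟨W, hW, hv⟩
  choose W hWa hvW using hex
  have hopen : ∀ v, IsOpen (Points.ofPt q '' (W v : Set ↥V.left)) := fun v =>
    isOpenMap_ofPt_of_etale q hqe _ (W v).isOpen
  have hcover : (Set.univ : Set (Points F)) ⊆ ⋃ v, Points.ofPt q '' (W v : Set ↥V.left) := by
    intro x _
    obtain ⟨v, rfl⟩ := ofPt_surjective_of_surjective q hqs x
    exact Set.mem_iUnion.2 ⟨v, v, hvW v, rfl⟩
  obtain ⟨t, ht⟩ := isCompact_univ.elim_finite_subcover _ hopen hcover
  let W' : V.left.Opens := ⨆ v ∈ t, W v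
  have hW'c : IsCompact (W' : Set ↥V.left) := by
    have : (W' : Set ↥V.left) = ⋃ v ∈ t, (W v : Set ↥V.left) := by
      simp [W']
    rw [this]
    exact t.isCompact_biUnion fun v _ => (hWa v).isCompact
  refine ⟨W', hW'c, fun x => ?_⟩
  obtain ⟨v, hv⟩ := Set.mem_iUnion.1 (ht (Set.mem_univ x))
  obtain ⟨hvt, w, hw, rfl⟩ := Set.mem_iUnion.1 hv
  exact ⟨w, TopologicalSpace.Opens.mem_iSup.2 ⟨v, TopologicalSpace.Opens.mem_iSup.2 ⟨hvt, hw⟩⟩, rfl⟩

/-- **Quasi-compact charts.** For a quasi-compact morphism `f : X ⟶ Y` of algebraic spaces there are an atlas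
`V` of `Y` and an atlas `U` of `X ×_Y V` such that `U ⟶ V` is a quasi-compact morphism of schemes. -/
theorem exists_qc_chart {X Y : Sp S} (hX : IsAlgSpace X) (hY : IsAlgSpace Y) (f : X ⟶ Y)
    (hf : IsQuasiCompactMor f) :
    ∃ (V U : Over S) (p : (yon S).obj V ⟶ Y) (g : U ⟶ V) (ε : (yon S).obj U ⟶ pullback f p),
      RepWith @Etale p ∧ RepWith @Surjective p ∧ RepWith @Etale ε ∧ RepWith @Surjective ε ∧
      ε ≫ pullback.snd f p = (yon S).map g ∧ QuasiCompact g.left := by
  obtain ⟨V₁, p₁, hp₁e, hp₁s⟩ := hY.atlas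
  let 𝒰 := V₁.left.affineCover
  let π : (∐ 𝒰.X) ⟶ V₁.left := Sigma.desc 𝒰.f
  have hπe : Etale π := IsZariskiLocalAtSource.sigmaDesc (fun i => inferInstance)
  have hπs : Surjective π := inferInstance
  let V : Over S := Over.mk (π ≫ V₁.hom)
  let πo : V ⟶ V₁ := Over.homMk π rfl
  let p : (yon S).obj V ⟶ Y := (yon S).map πo ≫ p₁
  have hpe : RepWith @Etale p :=
    (RepWith @Etale).comp_mem _ _ ((repWith_yon_map_iff _ _).2 hπe) hp₁e
  have hps : RepWith @Surjective p :=
    (RepWith @Surjective).comp_mem _ _ ((repWith_yon_map_iff _ _).2 hπs) hp₁s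
  have hV : IsAlgSpace ((yon S).obj V) := IsAlgSpace.yon_obj V
  have hP : IsAlgSpace (pullback f p) :=
    isAlgSpace_of_isPullback hX hY.diag hV (IsPullback.of_hasPullback f p)
  obtain ⟨U₁, a, hae, has⟩ := hP.atlas
  obtain ⟨g₁, hg₁⟩ := (yon S).map_surjective (a ≫ pullback.snd f p)
  -- the components of `V`
  let W : 𝒰.I₀ → V.left.Opens := fun α => (Sigma.ι 𝒰.X α).opensRange
  have hWaff : ∀ α, IsAffineOpen (W α) := fun α => isAffineOpen_opensRange _
  have hWdisj : ∀ α β, α ≠ β → Disjoint (W α) (W β) := fun α β h =>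
    disjoint_opensRange_sigmaι _ α β h
  have hWcov : ∀ v : ↥V.left, ∃ α, v ∈ W α := by
    intro v
    obtain ⟨α, y, hy⟩ := (sigmaOpenCover 𝒰.X).exists_eq v
    exact ⟨α, y, hy⟩
  -- over each component a compact open of the atlas suffices
  have key : ∀ α, ∃ K : U₁.left.Opens, K ≤ g₁.left ⁻¹ᵁ W α ∧ IsCompact (K : Set ↥U₁.left) ∧
      ∀ u ∈ g₁.left ⁻¹ᵁ W α, ∃ w ∈ K, Points.ofPt a w = Points.ofPt a u := by
    intro α
    have sqα : IsPullback (pullback.fst (pullback.snd f p) ((yon S).map (overOpenι V (W α))) ≫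
        pullback.fst f p) (pullback.snd (pullback.snd f p) ((yon S).map (overOpenι V (W α)))) f
        ((yon S).map (overOpenι V (W α)) ≫ p) :=
      (IsPullback.of_hasPullback (pullback.snd f p) ((yon S).map (overOpenι V (W α)))).paste_horiz
        (IsPullback.of_hasPullback f p)
    have : CompactSpace ↥(overOpen V (W α)).left := isCompact_iff_compactSpace.mp (hWaff α).isCompact
    have hPαq : IsQuasiCompactSp (pullback (pullback.snd f p) ((yon S).map (overOpenι V (W α)))) :=
      hf (IsAlgSpace.yon_obj _) (isQuasiCompactSp_yon_of_compactSpace _) _ _ _ sqα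
    have := compactSpace_points_of_isQuasiCompactSp hPαq
    have hcomm : ((yon S).map (overOpenι U₁ (g₁.left ⁻¹ᵁ W α)) ≫ a) ≫ pullback.snd f p =
        (yon S).map (overRestrict g₁ (W α)) ≫ (yon S).map (overOpenι V (W α)) := by
      rw [Category.assoc, ← hg₁, ← Functor.map_comp, ← Functor.map_comp, (isPullback_overRestrict g₁ (W α)).w]
    have sqa : IsPullback (pullback.lift _ _ hcomm) ((yon S).map (overOpenι U₁ (g₁.left ⁻¹ᵁ W α)))
        (pullback.fst (pullback.snd f p) ((yon S).map (overOpenι V (W α)))) a := by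
      refine IsPullback.of_right ?_ (pullback.lift_fst _ _ _)
        (IsPullback.of_hasPullback (pullback.snd f p) ((yon S).map (overOpenι V (W α)))).flip
      rw [pullback.lift_snd, ← hg₁]
      exact (isPullback_overRestrict g₁ (W α)).map (yon S)
    have haαe : RepWith @Etale (pullback.lift _ _ hcomm) := (RepWith @Etale).of_isPullback sqa.flip hae
    have haαs : RepWith @Surjective (pullback.lift _ _ hcomm) :=
      (RepWith @Surjective).of_isPullback sqa.flip has
    obtain ⟨K₀, hK₀c, hK₀s⟩ := exists_compact_open_of_compactSpace _ haαe haαs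
    refine ⟨(g₁.left ⁻¹ᵁ W α).ι ''ᵁ K₀, ?_, ?_, ?_⟩
    · rintro _ ⟨w, -, rfl⟩
      exact w.2
    · exact hK₀c.image (g₁.left ⁻¹ᵁ W α).ι.continuous
    · intro u hu
      obtain ⟨w, hw, hwx⟩ := hK₀s (Points.ofPt (pullback.lift _ _ hcomm) (⟨u, hu⟩ : ↥(g₁.left ⁻¹ᵁ W α)))
      refine ⟨(g₁.left ⁻¹ᵁ W α).ι w, ⟨w, hw, rfl⟩, ?_⟩
      have h1 := congrArg (Points.map (pullback.fst (pullback.snd f p) ((yon S).map (overOpenι V (W α))))) hwx
      rw [Points.map_ofPt, Points.map_ofPt, pullback.lift_fst, ofPt_yon_map_comp, ofPt_yon_map_comp] at h1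
      exact h1
  choose K hKle hKc hKs using key
  let U'' : U₁.left.Opens := ⨆ α, K α
  refine ⟨V, overOpen U₁ U'', p, overOpenι U₁ U'' ≫ g₁, (yon S).map (overOpenι U₁ U'') ≫ a, hpe, hps,
    repWith_etale_restrict a hae U'', ?_, ?_, ?_⟩
  · apply repWith_surjective_restrict hP
    intro x
    obtain ⟨u, rfl⟩ := ofPt_surjective_of_surjective a has x
    obtain ⟨α, hα⟩ := hWcov (g₁.left u)
    obtain ⟨w, hw, hwu⟩ := hKs α u hα
    exact ⟨w, Opens.mem_iSup.2 ⟨α, hw⟩, hwu⟩
  · rw [Category.assoc, ← hg₁, ← Functor.map_comp]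
  · show QuasiCompact (U''.ι ≫ g₁.left)
    have hsup : ⨆ α, W α = ⊤ := by
      rw [eq_top_iff]
      intro v _
      obtain ⟨α, hα⟩ := hWcov v
      exact Opens.mem_iSup.2 ⟨α, hα⟩
    rw [IsZariskiLocalAtTarget.iff_of_iSup_eq_top (P := @QuasiCompact) W hsup]
    intro α
    have : IsAffine (W α).toScheme := hWaff α
    rw [HasAffineProperty.iff_of_isAffine (P := @QuasiCompact)]
    refine isCompact_iff_compactSpace.mp ?_
    rw [U''.ι.isEmbedding.isCompact_iff]
    have heq : U''.ι '' (((U''.ι ≫ g₁.left) ⁻¹ᵁ W α : U''.toScheme.Opens) : Set ↥U''.toScheme) =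
        (K α : Set ↥U₁.left) := by
      ext u
      constructor
      · rintro ⟨w, hw, rfl⟩
        obtain ⟨β, hβ⟩ := Opens.mem_iSup.1 w.2
        have h1 : g₁.left w.1 ∈ W β := hKle β hβ
        have h2 : g₁.left w.1 ∈ W α := hw
        by_cases hαβ : α = β
        · subst hαβ
          exact hβ
        · exact absurd ⟨h2, h1⟩ (fun h => (Set.disjoint_iff.mp
            (by simpa using (hWdisj α β hαβ) : Disjoint (W α : Set ↥V.left) (W β : Set ↥V.left))) h)
      · intro hu
        refine ⟨⟨u, Opens.mem_iSup.2 ⟨α, hu⟩⟩, ?_, rfl⟩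
        exact hKle α hu
    rw [heq]
    exact hKc α

end Groth.Agent.Lib.Helper16.SchImg
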