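import Groth.Agent.Lib.Helper16.SchImgKer
import Groth.Agent.Lib.Helper22.SmoothRed
import Groth.Agent.Lib.Helper7.RedLib
import Mathlib.AlgebraicGeometry.Morphisms.UniversallyOpen
import Mathlib.AlgebraicGeometry.Morphisms.Smooth

/-!
# Helper library (helper16): kernels of morphisms with reduced source; smooth base change
-/

set_option autoImplicit false
universe u
open CategoryTheory CategoryTheory.Limits AlgebraicGeometry Opposite Topology TopologicalSpace

namespace Groth.Agent.Lib.Helper16.SchImgKer

/-- For a reduced source the kernel is the vanishing ideal of the closure of the image. -/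
theorem ker_eq_vanishingIdeal_of_isReduced {X Y : Scheme.{u}} (f : X ⟶ Y) [IsReduced X] :
    f.ker = Scheme.IdealSheafData.vanishingIdeal (.closure (Set.range f)) := by
  rw [← Scheme.IdealSheafData.map_bot, ← Scheme.nilradical_eq_bot, ← Scheme.IdealSheafData.vanishingIdeal_top,
    Scheme.IdealSheafData.map_vanishingIdeal]
  congr 2
  simp

/-- The kernel of a closed immersion with reduced source is the vanishing ideal of its range. -/
theorem ker_eq_vanishingIdeal_of_isReduced_of_isClosedImmersion {X Y : Scheme.{u}} (f : X ⟶ Y) [IsReduced X]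
    [IsClosedImmersion f] (T : Closeds Y) (hT : Set.range f = T) :
    f.ker = Scheme.IdealSheafData.vanishingIdeal T := by
  rw [ker_eq_vanishingIdeal_of_isReduced]
  congr 1
  apply Closeds.ext
  rw [Closeds.coe_closure, hT, T.isClosed.closure_eq]

/-- **Smooth base change of the kernel of a morphism with reduced source.** -/
theorem ker_pullback_snd_of_smooth_of_isReduced {U V V' : Scheme.{u}} (g : U ⟶ V) (φ : V' ⟶ V) [IsReduced U]
    [Smooth φ] : (pullback.snd g φ).ker = g.ker.comap φ := by
  have hopen : IsOpenMap φ := φ.isOpenMap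
  have h1 : IsReduced (pullback g φ) :=
    Groth.Agent.Lib.Helper22.SmoothRed.isReduced_of_smooth (pullback.fst g φ)
  have hT : φ ⁻¹' closure (Set.range g) = closure (Set.range (pullback.snd g φ)) := by
    rw [Scheme.Pullback.range_snd]
    exact hopen.preimage_closure_eq_closure_preimage φ.continuous _
  rw [ker_eq_vanishingIdeal_of_isReduced (pullback.snd g φ), ker_eq_vanishingIdeal_of_isReduced g]
  have hIred : IsReduced (Scheme.IdealSheafData.vanishingIdeal (Closeds.closure (Set.range g))).subscheme :=
    Groth.Agent.Lib.Helper7.isReduced_vanishingIdeal_subscheme _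
  have h2 : IsReduced (pullback φ
      (Scheme.IdealSheafData.vanishingIdeal (Closeds.closure (Set.range g))).subschemeι) :=
    Groth.Agent.Lib.Helper22.SmoothRed.isReduced_of_smooth (pullback.snd φ _)
  rw [Scheme.IdealSheafData.comap]
  refine (ker_eq_vanishingIdeal_of_isReduced_of_isClosedImmersion _ _ ?_).symm
  rw [Scheme.Pullback.range_fst, Scheme.IdealSheafData.range_subschemeι,
    Scheme.IdealSheafData.coe_support_vanishingIdeal, Closeds.coe_closure, Closeds.coe_closure, hT]

/-- The kernel of `g` commutes with smooth base change. -/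
def KerSmoothBC {U V : Scheme.{u}} (g : U ⟶ V) : Prop :=
  ∀ ⦃V' : Scheme.{u}⦄ (φ : V' ⟶ V), Smooth φ → (pullback.snd g φ).ker = g.ker.comap φ

theorem kerSmoothBC_of_quasiCompact {U V : Scheme.{u}} (g : U ⟶ V) [QuasiCompact g] : KerSmoothBC g :=
  fun _ φ _ => ker_pullback_snd_of_flat g φ

theorem kerSmoothBC_of_isReduced {U V : Scheme.{u}} (g : U ⟶ V) [IsReduced U] : KerSmoothBC g :=
  fun _ φ _ => ker_pullback_snd_of_smooth_of_isReduced g φ

end Groth.Agent.Lib.Helper16.SchImgKer
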