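import Groth.Agent.Lib.Helper16.SchImgRed2
import Groth.Agent.Lib.Helper16.SchImgFlat
import Groth.Agent.Lib.Helper16.SmoothLocalST

/-!
# Helper library (helper16): smooth base change of the scheme theoretic image (quasi-compact or reduced source)
-/

set_option autoImplicit false
universe u
open CategoryTheory CategoryTheory.Limits AlgebraicGeometry Opposite Topology TopologicalSpace

namespace Groth.Agent.Lib.Helper16.SchImg

open AlgSp SchImgKer

variable {S : Scheme.{u}}

/-- A chart of a morphism that is quasi-compact or has reduced source, whose kernel commutes with smooth base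
change. -/
theorem exists_kerSmoothBC_chart {X Y : Sp S} (hX : IsAlgSpace X) (hY : IsAlgSpace Y) (f : X ⟶ Y)
    (hf : IsQuasiCompactMor f ∨ IsReducedSp X) :
    ∃ (V U : Over S) (p : (yon S).obj V ⟶ Y) (g : U ⟶ V) (ε : (yon S).obj U ⟶ pullback f p),
      RepWith @Etale p ∧ RepWith @Surjective p ∧ RepWith @Etale ε ∧ RepWith @Surjective ε ∧
      ε ≫ pullback.snd f p = (yon S).map g ∧ KerSmoothBC g.left := by
  rcases hf with hf | hf
  · obtain ⟨V, U, p, g, ε, hpe, hps, hεe, hεs, hε, hqc⟩ := exists_qc_chart hX hY f hf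
    exact ⟨V, U, p, g, ε, hpe, hps, hεe, hεs, hε, kerSmoothBC_of_quasiCompact _⟩
  · obtain ⟨V, p, hpe, hps⟩ := hY.atlas
    have hXV : IsAlgSpace (pullback f p) :=
      isAlgSpace_of_isPullback hX hY.diag (IsAlgSpace.yon_obj V) (IsPullback.of_hasPullback f p)
    obtain ⟨U, ε, hεe, hεs⟩ := hXV.atlas
    obtain ⟨g, hg⟩ := (yon S).map_surjective (ε ≫ pullback.snd f p)
    have hfe : RepWith @Etale (pullback.fst f p) :=
      (RepWith @Etale).of_isPullback (IsPullback.of_hasPullback f p).flip hpe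
    have hUe : RepWith @Etale (ε ≫ pullback.fst f p) := (RepWith @Etale).comp_mem _ _ hεe hfe
    haveI : IsReduced U.left := isReduced_of_etale_of_isReducedSp hf _ hUe
    exact ⟨V, U, p, g, ε, hpe, hps, hεe, hεs, hg.symm, kerSmoothBC_of_isReduced _⟩

/-- **Smooth base change of the scheme theoretic image** of a morphism that is quasi-compact or has reduced
source. -/
theorem isSchImage_smooth_baseChange {X Y V Z VX ZX : Sp S} (hX : IsAlgSpace X) (hY : IsAlgSpace Y)
    (hV : IsAlgSpace V) (hZ : IsAlgSpace Z) (f : X ⟶ Y) (hf : LocP @Smooth f) (g : V ⟶ Y)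
    (hg : IsQuasiCompactMor g ∨ IsReducedSp V) (i : Z ⟶ Y) (hZi : IsSchImage g i) (g₁ : VX ⟶ V) (gX : VX ⟶ X)
    (sqV : IsPullback g₁ gX g f) (i₁ : ZX ⟶ Z) (iX : ZX ⟶ X) (sqZ : IsPullback i₁ iX i f) :
    IsSchImage gX iX := by
  obtain ⟨A, B, p, g₀, ε, hpe, hps, hεe, hεs, hε, hker⟩ := exists_kerSmoothBC_chart hV hY g hg
  obtain ⟨qZ, sqA⟩ := exists_isPullback_of_isSchImage' hY hZ g i hZi p hpe hps g₀ ε hεe hεs hε hker
  -- an atlas of `X` over the atlas of `Y`
  have hXA : IsAlgSpace (pullback f p) :=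
    isAlgSpace_of_isPullback hX hY.diag (IsAlgSpace.yon_obj A) (IsPullback.of_hasPullback f p)
  obtain ⟨V', a', ha'e, ha's⟩ := hXA.atlas
  obtain ⟨ψ, hψ⟩ := (yon S).map_surjective (a' ≫ pullback.snd f p)
  have hfe : RepWith @Etale (pullback.fst f p) :=
    (RepWith @Etale).of_isPullback (IsPullback.of_hasPullback f p).flip hpe
  have hfs : RepWith @Surjective (pullback.fst f p) :=
    (RepWith @Surjective).of_isPullback (IsPullback.of_hasPullback f p).flip hps
  have hp'e : RepWith @Etale (a' ≫ pullback.fst f p) := (RepWith @Etale).comp_mem _ _ ha'e hfe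
  have hp's : RepWith @Surjective (a' ≫ pullback.fst f p) := (RepWith @Surjective).comp_mem _ _ ha's hfs
  have hcomm : (a' ≫ pullback.fst f p) ≫ f = (yon S).map ψ ≫ p := by
    rw [Category.assoc, pullback.condition, ← Category.assoc, hψ]
  have hcomm' : a' ≫ pullback.fst f p ≫ f = (yon S).map ψ ≫ p := by
    rw [← Category.assoc]
    exact hcomm
  have hψsm : Smooth ψ.left := hf (a' ≫ pullback.fst f p) p ψ hp'e hpe hcomm
  -- the chart of `VX`
  obtain ⟨ε', -, -, hε'snd, -⟩ := exists_chart_baseChange g p g₀ ε hεe hεs hε ψ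
  have he : (ε' ≫ pullback.fst g ((yon S).map ψ ≫ p)) ≫ g =
      ((yon S).map (ovPullbackSnd g₀ ψ) ≫ a' ≫ pullback.fst f p) ≫ f := by
    have h1 : ε' ≫ pullback.fst g ((yon S).map ψ ≫ p) ≫ g =
        (yon S).map (ovPullbackSnd g₀ ψ) ≫ (yon S).map ψ ≫ p := by
      rw [pullback.condition, ← Category.assoc, hε'snd]
    simp only [Category.assoc]
    rw [h1, hcomm']
  -- the closed subscheme
  obtain ⟨m, sqm⟩ := exists_isPullback_comap_subscheme ψ g₀.left.ker
  have sq1 : IsPullback ((yon S).map m ≫ qZ) ((yon S).map (Over.homMk (g₀.left.ker.comap ψ.left).subschemeι rfl :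
      Over.mk ((g₀.left.ker.comap ψ.left).subschemeι ≫ V'.hom) ⟶ V')) i ((yon S).map ψ ≫ p) :=
    (sqm.map (yon S)).paste_horiz sqA
  have hq : ((yon S).map m ≫ qZ) ≫ i = ((yon S).map (Over.homMk (g₀.left.ker.comap ψ.left).subschemeι rfl :
      Over.mk ((g₀.left.ker.comap ψ.left).subschemeι ≫ V'.hom) ⟶ V') ≫ a' ≫ pullback.fst f p) ≫ f := by
    rw [sq1.w]
    simp only [Category.assoc]
    rw [hcomm']
  have sq2 : IsPullback (sqZ.lift _ _ hq) ((yon S).map (Over.homMk (g₀.left.ker.comap ψ.left).subschemeι rfl :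
      Over.mk ((g₀.left.ker.comap ψ.left).subschemeι ≫ V'.hom) ⟶ V')) iX (a' ≫ pullback.fst f p) := by
    refine IsPullback.of_right ?_ (sqZ.lift_snd _ _ _) sqZ
    rw [sqZ.lift_fst, hcomm]
    exact sq1
  have hicl : RepWith @IsClosedImmersion iX := (RepWith @IsClosedImmersion).of_isPullback sqZ hZi.1
  obtain ⟨g', hg'⟩ := hZi.2.1
  have hfac : ∃ f' : VX ⟶ ZX, f' ≫ iX = gX :=
    ⟨sqZ.lift (g₁ ≫ g') gX (by rw [Category.assoc, hg', sqV.w]), sqZ.lift_snd _ _ _⟩
  refine isSchImage_of_chart gX iX hicl hfac (a' ≫ pullback.fst f p) hp'e hp's (sqV.lift _ _ he)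
    (ovPullbackSnd g₀ ψ) (sqV.lift_snd _ _ _) _ _ sq2 ?_
  show (pullback.snd g₀.left ψ.left).ker ≤ ((g₀.left.ker.comap ψ.left).subschemeι).ker
  rw [Scheme.IdealSheafData.ker_subschemeι, hker ψ.left hψsm]

end Groth.Agent.Lib.Helper16.SchImg
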