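import Groth.Agent.Lib.Helper16.SchemeTop
import Groth.Agent.Lib.Helper16.SchImgKer
import Mathlib.AlgebraicGeometry.ValuativeCriterion

/-!
# Helper library (helper16): valuation rings reaching the points of the scheme theoretic image
-/

set_option autoImplicit false
universe u
open CategoryTheory CategoryTheory.Limits AlgebraicGeometry Opposite Topology TopologicalSpace IsLocalRing

namespace Groth.Agent.Lib.Helper16.SchImgKer

/-- A valuation ring through a specialization of the image of a point. -/
theorem exists_valuationSubring_of_specializes {X Y : Scheme.{u}} (p : X ⟶ Y) (x : X) (y' : Y)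
    (hsp : p x ⤳ y') :
    ∃ (A : ValuationSubring (X.residueField x)) (h : Spec (CommRingCat.of A) ⟶ Y),
      h (closedPoint A) = y' ∧
      Spec.map (CommRingCat.ofHom A.subtype) ≫ h = X.fromSpecResidueField x ≫ p := by
  let φ : Y.presheaf.stalk y' ⟶ X.residueField x :=
    Y.presheaf.stalkSpecializes hsp ≫ p.stalkMap x ≫ X.residue x
  obtain ⟨A, hA, hA_local⟩ := exists_factor_valuationRing φ.hom
  let ψ : Y.presheaf.stalk y' ⟶ .of A := CommRingCat.ofHom (φ.hom.codRestrict _ hA)
  have w : X.fromSpecResidueField x ≫ p =
      Spec.map (CommRingCat.ofHom (algebraMap A (X.residueField x))) ≫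
        Spec.map ψ ≫ Y.fromSpecStalk y' := by
    rw [Scheme.fromSpecResidueField, Category.assoc, ← Scheme.SpecMap_stalkMap_fromSpecStalk,
      ← Scheme.SpecMap_stalkSpecializes_fromSpecStalk hsp]
    simp_rw [← Spec.map_comp_assoc]
    rfl
  have hclosed : (Spec.map ψ ≫ Y.fromSpecStalk y') (closedPoint A) = y' := by
    simp only [Scheme.Hom.comp_base, TopCat.coe_comp, Function.comp_apply]
    have : Spec.map ψ (closedPoint A) = closedPoint (Y.presheaf.stalk y') :=
      comap_closedPoint (S := A) (φ.hom.codRestrict A.toSubring hA)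
    rw [this, Y.fromSpecStalk_closedPoint]
  exact ⟨A, Spec.map ψ ≫ Y.fromSpecStalk y', hclosed, w.symm⟩

/-- The kernel of `Spec` of an injective ring homomorphism is trivial. -/
theorem ker_specMap_of_injective {R K : CommRingCat.{u}} (φ : R ⟶ K) (hφ : Function.Injective φ.hom) :
    (Spec.map φ).ker = ⊥ := by
  rw [Scheme.ker_of_isAffine]
  have hinj : Function.Injective (Spec.map φ).appTop.hom := by
    have h1 : (Spec.map φ).appTop ≫ (Scheme.ΓSpecIso K).hom = (Scheme.ΓSpecIso R).hom ≫ φ :=
      Scheme.ΓSpecIso_naturality φ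
    have h2 : Function.Injective ((Spec.map φ).appTop ≫ (Scheme.ΓSpecIso K).hom).hom := by
      rw [h1]
      simp only [CommRingCat.hom_comp, RingHom.coe_comp]
      exact hφ.comp (ConcreteCategory.bijective_of_isIso (Scheme.ΓSpecIso R).hom).1
    simp only [CommRingCat.hom_comp, RingHom.coe_comp] at h2
    exact Function.Injective.of_comp h2
  rw [(RingHom.injective_iff_ker_eq_bot _).1 hinj, ← Scheme.IdealSheafData.equivOfIsAffine_symm_apply, map_bot]

/-- **Every point of the scheme theoretic image of a quasi-compact morphism is reached by a valuation ring whose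
generic point lifts to the source.** -/
theorem exists_valuationSubring_to_image {B A₀ : Scheme.{u}} (g : B ⟶ A₀) [QuasiCompact g] (z : g.image) :
    ∃ (b : B) (R : ValuationSubring (B.residueField b)) (a : Spec (CommRingCat.of R) ⟶ g.image),
      a (closedPoint R) = z ∧
      Spec.map (CommRingCat.ofHom R.subtype) ≫ a ≫ g.imageι = B.fromSpecResidueField b ≫ g := by
  have hy : g.imageι z ∈ closure (Set.range g) := by
    rw [← g.support_ker]
    have : g.imageι z ∈ Set.range g.ker.subschemeι := ⟨z, rfl⟩
    rw [Scheme.IdealSheafData.range_subschemeι] at this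
    exact this
  obtain ⟨b, hb⟩ := exists_specializes_of_mem_closure_range g _ hy
  obtain ⟨R, h, hcl, hw⟩ := exists_valuationSubring_of_specializes g b _ hb
  have hker : g.imageι.ker ≤ h.ker := by
    show g.ker.subschemeι.ker ≤ h.ker
    rw [Scheme.IdealSheafData.ker_subschemeι]
    have h1 : (Spec.map (CommRingCat.ofHom R.subtype) ≫ h).ker = h.ker := by
      rw [Scheme.Hom.ker_comp, ker_specMap_of_injective _ (by exact Subtype.val_injective),
        Scheme.IdealSheafData.map_bot]
    rw [← h1, hw]
    exact Scheme.Hom.le_ker_comp _ _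
  refine ⟨b, R, IsClosedImmersion.lift g.imageι h hker, ?_, ?_⟩
  · apply g.imageι.isClosedEmbedding.injective
    rw [← Scheme.Hom.comp_apply, IsClosedImmersion.lift_fac, hcl]
  · rw [IsClosedImmersion.lift_fac, hw]

end Groth.Agent.Lib.Helper16.SchImgKer
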