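import Groth.Agent.Lib.Helper16.SchLocusA
import Groth.Agent.Lib.Helper16.Codim0

/-!
# Helper library (helper16): points of codimension 0 lie in the schematic locus, when some affine etale chart through
them has quasi-compact kernel pair
-/

set_option autoImplicit false
universe u
open CategoryTheory CategoryTheory.Limits AlgebraicGeometry Opposite

namespace Groth.Agent.Lib.Helper16.SchLocus

open AlgSp Groth.Agent.Lib.Helper15 Strata

variable {S : Scheme.{u}}

/-- **Main lemma.** A point of codimension 0 of an affine etale chart with quasi-compact kernel pair maps into the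
schematic locus. -/
theorem mem_schLocus_of_codim_zero {X : Sp S} (hX : IsAlgSpace X) {U : Over S} [IsAffine U.left]
    (a : (yon S).obj U ⟶ X) (hae : RepWith @Etale a) {R : Over S} {c sn : R ⟶ U}
    (sq : IsPullback ((yon S).map c) ((yon S).map sn) a a) [CompactSpace ↥R.left]
    (u : ↥U.left) (hu : ringKrullDim ↥(U.left.presheaf.stalk u) = 0) : Points.ofPt a u ∈ schLocus X := by
  classical
  have hsne : Etale sn.left := hae.property _ _ _ sq
  have hsns : IsSeparated sn.left := isSeparated_sn sq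
  have hsnq : QuasiCompact sn.left := inferInstance
  have hce : Etale c.left := hae.property _ _ _ sq.flip
  obtain ⟨N, hN⟩ := exists_bound_hasDeg_of_compactSpace sn.left
  obtain ⟨ρ, -, hρs⟩ := exists_lift_R sq (𝟙 U) (𝟙 U) rfl
  have h1 : HasDeg sn.left u 1 := by
    rw [hasDeg_one_iff]
    refine ⟨ρ.left u, ?_⟩
    have := congrArg (fun m => m.left u) hρs
    exact this
  obtain ⟨k, hk1, hk2⟩ : ∃ k, HasDeg sn.left u (k + 1) ∧ ¬ HasDeg sn.left u (k + 1 + 1) := by
    have hgr := Nat.findGreatest_spec (P := fun d => HasDeg sn.left u d) (m := 1) (n := N) (hN u 1 h1) h1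
    have hle : 1 ≤ Nat.findGreatest (fun d => HasDeg sn.left u d) N := Nat.le_findGreatest (hN u 1 h1) h1
    obtain ⟨k, hk⟩ := Nat.exists_eq_add_of_le' hle
    refine ⟨k, hk ▸ hgr, fun h => ?_⟩
    have : k + 1 + 1 ≤ Nat.findGreatest (fun d => HasDeg sn.left u d) N := Nat.le_findGreatest (hN u _ h) h
    omega
  obtain ⟨Z, hZdef⟩ : ∃ Z : Set ↥U.left, Z = {v | HasDeg sn.left v (k + 1 + 1)} := ⟨_, rfl⟩
  have hZo : IsOpen Z := by rw [hZdef]; exact isOpen_setOf_hasDeg _ sn.left
  have hZc : IsCompact Z := by rw [hZdef]; exact isCompact_setOf_hasDeg _ sn.left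
  have huZ : u ∉ closure Z := not_mem_closure_of_codim_zero u hu Z hZo hZc (by rw [hZdef]; exact hk2)
  obtain ⟨O, hO⟩ : ∃ O : U.left.Opens, (O : Set ↥U.left) = {v | HasDeg sn.left v (k + 1)} ∩ (closure Z)ᶜ :=
    ⟨⟨_, (isOpen_setOf_hasDeg _ sn.left).inter isClosed_closure.isOpen_compl⟩, rfl⟩
  have hmemO : ∀ v, v ∈ O ↔ HasDeg sn.left v (k + 1) ∧ v ∉ closure Z := fun v => by
    rw [← SetLike.mem_coe, hO]; rfl
  have hpt : ∀ r : ↥R.left, Points.ofPt a (c.left r) = Points.ofPt a (sn.left r) := by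
    intro r
    rw [← ofPt_yon_map_comp, sq.w, ofPt_yon_map_comp]
  have hdeginv : ∀ (r : ↥R.left) (d : ℕ), HasDeg sn.left (sn.left r) d ↔ HasDeg sn.left (c.left r) d :=
    fun r d => ⟨hasDeg_of_ofPt_eq sq (hpt r), hasDeg_of_ofPt_eq sq (hpt r).symm⟩
  apply mem_schLocus_of_const_deg hX a hae sq O k ?_ ?_ u ((hmemO u).2 ⟨hk1, huZ⟩)
  · intro v hv
    obtain ⟨h1, h2⟩ := (hmemO v).1 hv
    refine ⟨h1, fun h => h2 (subset_closure ?_)⟩
    rw [hZdef]
    exact h
  · intro r hr
    obtain ⟨h1, h2⟩ := (hmemO _).1 hr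
    refine (hmemO _).2 ⟨(hdeginv r _).1 h1, fun hcl => h2 ?_⟩
    have hpre : c.left ⁻¹' Z = sn.left ⁻¹' Z := by
      ext r'
      rw [hZdef]
      exact (hdeginv r' _).symm
    have h3 : r ∈ c.left ⁻¹' (closure Z) := hcl
    rw [c.left.isOpenMap.preimage_closure_eq_closure_preimage c.left.continuous, hpre] at h3
    exact sn.left.continuous.closure_preimage_subset Z h3

end Groth.Agent.Lib.Helper16.SchLocus
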