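import Groth.Agent.Lib.Helper16.SchLocusCodim0b
import Groth.Agent.Lib.Helper16.QsNoeth2

/-!
# Helper library (helper16): codimension 0 points under a finite etale chart from a quasi-separated scheme lie in the
schematic locus
-/

set_option autoImplicit false
universe u
open CategoryTheory CategoryTheory.Limits AlgebraicGeometry Opposite

namespace Groth.Agent.Lib.Helper16.SchLocus

open AlgSp Groth.Agent.Lib.Helper15 Strata

variable {S : Scheme.{u}}

/-- For a finite chart `a : h_U ⟶ X` from a quasi-separated scheme, the kernel pair of the restriction of `a` to an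
affine open is quasi-compact. -/
theorem compactSpace_kernelPair_restrict_of_finite {X : Sp S} {U : Over S} (a : (yon S).obj U ⟶ X)
    (hf : RepWith @IsFinite a) [QuasiSeparatedSpace ↥U.left] (O : U.left.Opens) (hO : IsAffineOpen O)
    {R₀ : Over S} {c₀ sn₀ : R₀ ⟶ overOpen U O}
    (sq₀ : IsPullback ((yon S).map c₀) ((yon S).map sn₀) ((yon S).map (overOpenι U O) ≫ a)
      ((yon S).map (overOpenι U O) ≫ a)) : CompactSpace ↥R₀.left := by
  have hOaff : IsAffine (overOpen U O).left := hO
  have sqP := hf.rep.isPullback' ((yon S).map (overOpenι U O) ≫ a)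
  have hfin : IsFinite (hf.rep.snd ((yon S).map (overOpenι U O) ≫ a)).left := hf.property _ _ _ sqP
  have hPaff : IsAffine (hf.rep.pullback ((yon S).map (overOpenι U O) ≫ a)).left :=
    isAffine_of_isAffineHom (hf.rep.snd ((yon S).map (overOpenι U O) ≫ a)).left
  obtain ⟨l, hl1, hl2⟩ := exists_lift_R₂ sqP (c₀ ≫ overOpenι U O) sn₀ (by
    rw [Functor.map_comp, Category.assoc]
    exact sq₀.w)
  have sqL : IsPullback ((yon S).map l) ((yon S).map c₀)
      ((yon S).map (hf.rep.fst' ((yon S).map (overOpenι U O) ≫ a))) ((yon S).map (overOpenι U O)) := by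
    refine IsPullback.of_right ?_ ?_ sqP.flip
    · rw [← Functor.map_comp, hl2]
      exact sq₀.flip
    · rw [← Functor.map_comp, ← Functor.map_comp, hl1]
  have sqL' : IsPullback l c₀ (hf.rep.fst' ((yon S).map (overOpenι U O) ≫ a)) (overOpenι U O) :=
    IsPullback.of_map (yon S) hl1 sqL
  have sqL'' := sqL'.map (Over.forget S)
  have hιq : QuasiCompact ((Over.forget S).map (overOpenι U O)) := by
    change QuasiCompact (overOpenι U O).left
    infer_instance
  have hlq : QuasiCompact l.left :=
    MorphismProperty.of_isPullback (P := @QuasiCompact) sqL''.flip hιq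
  exact QuasiCompact.compactSpace_of_compactSpace l.left

/-- Codimension 0 points under a finite etale chart from a quasi-separated scheme lie in the schematic locus. -/
theorem mem_schLocus_of_finite_etale {X : Sp S} (hX : IsAlgSpace X) {U : Over S} (a : (yon S).obj U ⟶ X)
    (hf : RepWith @IsFinite a) (he : RepWith @Etale a) [QuasiSeparatedSpace ↥U.left] (u : ↥U.left)
    (hu : ringKrullDim ↥(U.left.presheaf.stalk u) = 0) : Points.ofPt a u ∈ schLocus X := by
  obtain ⟨O, hO, huO⟩ := exists_affineOpen_mem u
  have hOaff : IsAffine (overOpen U O).left := hO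
  have hae₀ : RepWith @Etale ((yon S).map (overOpenι U O) ≫ a) := repWith_etale_restrict a he O
  have sq := hae₀.rep.isPullback ((yon S).map (overOpenι U O) ≫ a)
  obtain ⟨c, hc⟩ := (yon S).map_surjective (hae₀.rep.fst ((yon S).map (overOpenι U O) ≫ a))
  rw [← hc] at sq
  have hRc : CompactSpace ↥(hae₀.rep.pullback ((yon S).map (overOpenι U O) ≫ a)).left :=
    compactSpace_kernelPair_restrict_of_finite a hf O hO sq
  have hmem := mem_schLocus_of_codim_zero hX _ hae₀ sq (⟨u, huO⟩ : ↥O)
    ((ringKrullDim_stalk_overOpen O u huO).trans hu)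
  rw [ofPt_restrict] at hmem
  exact hmem

end Groth.Agent.Lib.Helper16.SchLocus
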