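import Groth.Agent.Lib.Helper16.LocPSource
import Groth.Agent.Lib.Helper16.SmoothEt
import Groth.Agent.Lib.Helper8.EtaleSectionSch

/-!
# Smooth coverings of algebraic spaces are refined by etale coverings
-/

set_option autoImplicit false
universe u
open CategoryTheory CategoryTheory.Limits AlgebraicGeometry Opposite Topology MorphismProperty

namespace Groth.Agent.Lib.Helper16

open AlgSp

variable {S : Scheme.{u}}

/-- Through every point of an etale chart of `X`, some member of a smooth covering of `X` has an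
etale local section. -/
theorem exists_etale_lift_of_smCover {X : Sp S} (hX : IsAlgSpace X) {ι : Type u} (Xi : ι → Sp S)
    (g : ∀ i, Xi i ⟶ X) (hXi : ∀ i, IsAlgSpace (Xi i)) (hcov : IsSmCover Xi g) {U : Over S}
    (a : (yon S).obj U ⟶ X) (u : ↥U.left) :
    ∃ (T : Over S) (t : T ⟶ U) (i : ι) (r : (yon S).obj T ⟶ Xi i) (s : ↥T.left),
      Etale t.left ∧ t.left s = u ∧ r ≫ g i = (yon S).map t ≫ a := by
  obtain ⟨i, xi, hxi⟩ := hcov.2 (Points.map a (Points.ofScheme U u))
  have sqQ := IsPullback.of_hasPullback (g i) a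
  have hQ : IsAlgSpace (pullback (g i) a) :=
    isAlgSpace_of_isPullback (hXi i) hX.diag (IsAlgSpace.yon_obj U) sqQ
  have hsnd : LocP @Smooth (pullback.snd (g i) a) :=
    locP_of_isPullback etLocalST_smooth (hXi i) hX sqQ (hcov.1 i)
  obtain ⟨z, -, hz⟩ := exists_point_of_isPullback sqQ xi (Points.ofScheme U u) hxi
  obtain ⟨U'', a'', ha''e, ha''s⟩ := hQ.atlas
  obtain ⟨u'', hu''⟩ := ofPt_surjective_of_surjective a'' ha''s z
  obtain ⟨e, he⟩ := (yon S).map_surjective (a'' ≫ pullback.snd (g i) a)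
  haveI hesm : Smooth e.left :=
    hsnd a'' (𝟙 _) e ha''e (repWith_id _ U) (by rw [Category.comp_id, he])
  have heu : e.left u'' = u := by
    apply ofScheme_injective U
    rw [← map_yon_map_ofScheme, he, Points.map_comp, ← Points.ofPt_eq_map_ofScheme, hu'', hz]
  obtain ⟨S', g', s', hg'e, hg's, h, hh⟩ :=
    Groth.Agent.Lib.Helper8.EtaleSectionSch.exists_etale_nhd_section e.left u ⟨u'', heu⟩
  have hw : h ≫ U''.hom = g' ≫ U.hom := by rw [← Over.w e, ← Category.assoc, hh]
  let T : Over S := Over.mk (g' ≫ U.hom)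
  let t : T ⟶ U := Over.homMk g' rfl
  let k : T ⟶ U'' := Over.homMk h hw
  have hkt : k ≫ e = t := by
    ext
    exact hh
  refine ⟨T, t, i, (yon S).map k ≫ a'' ≫ pullback.fst (g i) a, s', hg'e, hg's, ?_⟩
  rw [Category.assoc, Category.assoc, pullback.condition, ← Category.assoc a'', ← he,
    ← Category.assoc, ← Functor.map_comp, hkt]

/-- A smooth covering of an algebraic space can be refined by an etale covering by schemes. -/
theorem exists_etCover_refinement (X : Space S) {ι : Type u} (Xi : ι → Space S)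
    (g : ∀ i, Xi i ⟶ X) (h : IsSmCover (fun i => (Xi i).obj) (fun i => (g i).hom)) :
    ∃ (κ : Type u) (U : κ → Space S) (c : ∀ j, U j ⟶ X),
      IsEtCover (fun j => (U j).obj) (fun j => (c j).hom) ∧
      ∀ j, ∃ (i : ι) (r : U j ⟶ Xi i), r ≫ g i = c j := by
  obtain ⟨U₀, a, hae, has⟩ := X.property.atlas
  have key := fun u : ↥U₀.left => exists_etale_lift_of_smCover X.property
    (fun i => (Xi i).obj) (fun i => (g i).hom) (fun i => (Xi i).property) h a u
  choose T t i r s h₁ h₂ h₃ using key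
  refine ⟨↥U₀.left, fun u => ⟨(yon S).obj (T u), IsAlgSpace.yon_obj (T u)⟩,
    fun u => ObjectProperty.homMk ((yon S).map (t u) ≫ a), ⟨fun u => ?_, fun x => ?_⟩,
    fun u => ⟨i u, ObjectProperty.homMk (r u), ?_⟩⟩
  · intro W φ hφ
    exact (RepWith @Etale).comp_mem _ _ hφ
      ((RepWith @Etale).comp_mem _ _ ((repWith_yon_map_iff _ (t u)).2 (h₁ u)) hae)
  · obtain ⟨u, rfl⟩ := ofPt_surjective_of_surjective a has x
    refine ⟨u, Points.ofScheme (T u) (s u), ?_⟩
    show Points.map ((yon S).map (t u) ≫ a) _ = _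
    rw [Points.map_comp, map_yon_map_ofScheme, h₂ u, ← Points.ofPt_eq_map_ofScheme]
  · ext : 1
    exact h₃ u

end Groth.Agent.Lib.Helper16
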