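import Mathlib
import Groth.Prelude.Def_SpSeq
import Groth.Agent.Lib.Helper1.FilPO

/-!
# Maps between subquotients in an abelian category; weak Serre closure lemmas

Generalized-element ("refinement") toolkit for subobjects, the induced map `sqMap` between
subquotients `Z/B → Z'/B'`, criteria for mono / epi / exactness in terms of subobject inequalities,
and closure properties of a weak Serre class given by the 5-term condition.
-/

namespace Groth.Agent.Lib.Helper16.SqTool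

open CategoryTheory CategoryTheory.Limits SpSeq
open Groth.Agent.Lib.Helper1.SubImg Groth.Agent.Lib.Helper1.FilPO Groth.Agent.Lib.Helper1.FilPB

universe v u
variable {A : Type u} [Category.{v} A] [Abelian A]

section Mem
variable {X Y : A}

lemma factors_neg {T : A} {P : Subobject X} (x : T ⟶ X) (h : P.Factors x) : P.Factors (-x) :=
  (Subobject.factors_iff _ _).mpr ⟨-P.factorThru x h, by simp⟩

lemma factors_sub {T : A} {P : Subobject X} (x y : T ⟶ X) (hx : P.Factors x)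
    (hy : P.Factors y) : P.Factors (x - y) := by
  rw [sub_eq_add_neg]
  exact Subobject.factors_add _ _ hx (factors_neg y hy)

/-- descent of factorization along an epi -/
lemma factors_of_epi_comp {T T' : A} (π : T' ⟶ T) [Epi π] {P : Subobject X} (x : T ⟶ X)
    (h : P.Factors (π ≫ x)) : P.Factors x := by
  haveI : StrongEpi π := strongEpi_of_epi π
  have sq : CommSq (P.factorThru (π ≫ x) h) π P.arrow x := ⟨by simp⟩
  exact (Subobject.factors_iff _ _).mpr ⟨sq.lift, sq.fac_right⟩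

lemma img_factors (f : X ⟶ Y) (S : Subobject X) {T : A} (x : T ⟶ X) (h : S.Factors x) :
    (img f S).Factors (x ≫ f) := by
  have : x ≫ f = S.factorThru x h ≫ (S.arrow ≫ f) := by simp
  rw [this]
  exact imageSubobject_factors_comp_self _ _

lemma refine_img (f : X ⟶ Y) (S : Subobject X) {T : A} (y : T ⟶ Y) (h : (img f S).Factors y) :
    ∃ (T' : A) (π : T' ⟶ T) (_ : Epi π) (s : T' ⟶ X), S.Factors s ∧ π ≫ y = s ≫ f := by
  obtain ⟨T', π, hπ, s, hs⟩ := refine_image (S.arrow ≫ f) y h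
  exact ⟨T', π, hπ, s ≫ S.arrow, Subobject.factors_comp_arrow s, by rw [hs, Category.assoc]⟩

lemma refine_sup' (S S' : Subobject X) {T : A} (y : T ⟶ X) (h : (S ⊔ S').Factors y) :
    ∃ (T' : A) (π : T' ⟶ T) (_ : Epi π) (a b : T' ⟶ X),
      S.Factors a ∧ S'.Factors b ∧ π ≫ y = a + b := by
  obtain ⟨T', π, hπ, a, b, hab⟩ := refine_sup S S' y h
  exact ⟨T', π, hπ, a ≫ S.arrow, b ≫ S'.arrow, Subobject.factors_comp_arrow a,
    Subobject.factors_comp_arrow b, hab⟩

lemma sup_factors_add (S S' : Subobject X) {T : A} (a b : T ⟶ X) (ha : S.Factors a)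
    (hb : S'.Factors b) : (S ⊔ S').Factors (a + b) :=
  Subobject.factors_add _ _ (Subobject.sup_factors_of_factors_left ha)
    (Subobject.sup_factors_of_factors_right hb)

/-- inequality of subobjects via generalized elements -/
lemma le_of_forall_factors {S S' : Subobject X}
    (h : ∀ {T : A} (x : T ⟶ X), S.Factors x → S'.Factors x) : S ≤ S' :=
  Subobject.le_of_factors (h S.arrow (Subobject.factors_self S))

lemma pb_factors (f : X ⟶ Y) (S : Subobject Y) {T : A} (x : T ⟶ X) :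
    ((Subobject.pullback f).obj S).Factors x ↔ S.Factors (x ≫ f) :=
  pullback_factors_iff f S x

end Mem

section Sq
variable {X Y W₀ : A}

/-- restriction of `f` to subobjects -/
noncomputable def resMap (f : X ⟶ Y) (Z : Subobject X) (Z' : Subobject Y)
    (hZ : Z ≤ (Subobject.pullback f).obj Z') : (Z : A) ⟶ (Z' : A) :=
  Z'.factorThru (Z.arrow ≫ f)
    ((pullback_factors_iff f Z' Z.arrow).1 (Subobject.factors_of_le _ hZ (Subobject.factors_self Z)))

@[reassoc (attr := simp)]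
lemma resMap_arrow (f : X ⟶ Y) (Z : Subobject X) (Z' : Subobject Y)
    (hZ : Z ≤ (Subobject.pullback f).obj Z') : resMap f Z Z' hZ ≫ Z'.arrow = Z.arrow ≫ f :=
  Subobject.factorThru_arrow _ _ _

/-- the projection `Z → Z/B` -/
noncomputable def sqπ {Z B : Subobject X} (h : B ≤ Z) : (Z : A) ⟶ subquot Z B h :=
  cokernel.π (B.ofLE Z h)

instance {Z B : Subobject X} (h : B ≤ Z) : Epi (sqπ h) := by
  show Epi (cokernel.π (B.ofLE Z h))
  infer_instance

lemma ofLE_sqπ {Z B : Subobject X} (h : B ≤ Z) : B.ofLE Z h ≫ sqπ h = 0 :=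
  cokernel.condition _

/-- the induced map on subquotients -/
noncomputable def sqMap (f : X ⟶ Y) {Z B : Subobject X} (h : B ≤ Z) {Z' B' : Subobject Y}
    (h' : B' ≤ Z') (hZ : Z ≤ (Subobject.pullback f).obj Z')
    (hB : B ≤ (Subobject.pullback f).obj B') : subquot Z B h ⟶ subquot Z' B' h' :=
  cokernel.desc (B.ofLE Z h) (resMap f Z Z' hZ ≫ sqπ h') (by
    have : B.ofLE Z h ≫ resMap f Z Z' hZ = resMap f B B' hB ≫ B'.ofLE Z' h' := by
      apply (cancel_mono Z'.arrow).1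
      simp
    rw [← Category.assoc, this, Category.assoc, ofLE_sqπ, comp_zero])

@[reassoc]
lemma sqπ_sqMap (f : X ⟶ Y) {Z B : Subobject X} (h : B ≤ Z) {Z' B' : Subobject Y}
    (h' : B' ≤ Z') (hZ : Z ≤ (Subobject.pullback f).obj Z')
    (hB : B ≤ (Subobject.pullback f).obj B') :
    sqπ h ≫ sqMap f h h' hZ hB = resMap f Z Z' hZ ≫ sqπ h' :=
  cokernel.π_desc _ _ _

lemma factors_of_comp_sqπ_eq_zero {Z B : Subobject X} (h : B ≤ Z) {T : A} (z : T ⟶ (Z : A))
    (hz : z ≫ sqπ h = 0) : B.Factors (z ≫ Z.arrow) := by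
  have hS : (ShortComplex.mk (B.ofLE Z h) (sqπ h) (ofLE_sqπ h)).Exact :=
    ShortComplex.exact_of_g_is_cokernel _ (cokernelIsCokernel _)
  obtain ⟨T', π, hπ, b, hb⟩ := hS.exact_up_to_refinements z hz
  apply factors_of_epi_comp π
  have : π ≫ z ≫ Z.arrow = b ≫ B.arrow := by
    rw [← Category.assoc, hb]
    simp
  rw [this]
  exact Subobject.factors_comp_arrow b

lemma comp_sqπ_eq_zero_of_factors {Z B : Subobject X} (h : B ≤ Z) {T : A} (z : T ⟶ (Z : A))
    (hz : B.Factors (z ≫ Z.arrow)) : z ≫ sqπ h = 0 := by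
  have : z = B.factorThru _ hz ≫ B.ofLE Z h := by
    apply (cancel_mono Z.arrow).1
    simp
  rw [this, Category.assoc, ofLE_sqπ, comp_zero]

section Crit

variable (f : X ⟶ Y) {Z B : Subobject X} (h : B ≤ Z) {Z' B' : Subobject Y} (h' : B' ≤ Z')
  (hZ : Z ≤ (Subobject.pullback f).obj Z') (hB : B ≤ (Subobject.pullback f).obj B')

include hB in
lemma sq_core {T : A} (z' : T ⟶ (Z' : A)) (hz' : (img f Z ⊔ B').Factors (z' ≫ Z'.arrow)) :
    ∃ (T' : A) (π : T' ⟶ T) (_ : Epi π) (zs : T' ⟶ (Z : A)),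
      π ≫ z' ≫ sqπ h' = zs ≫ resMap f Z Z' hZ ≫ sqπ h' := by
  obtain ⟨T₂, π₂, hπ₂, a, b, ha, hb, hab⟩ := refine_sup' _ _ _ hz'
  obtain ⟨T₃, π₃, hπ₃, s, hs, hsa⟩ := refine_img f Z a ha
  refine ⟨T₃, π₃ ≫ π₂, epi_comp _ _, Z.factorThru s hs, ?_⟩
  have key : (π₃ ≫ π₂) ≫ z' = Z.factorThru s hs ≫ resMap f Z Z' hZ +
      (π₃ ≫ B'.factorThru b hb) ≫ B'.ofLE Z' h' := by
    apply (cancel_mono Z'.arrow).1
    simp only [Category.assoc, Preadditive.add_comp, resMap_arrow, Subobject.ofLE_arrow,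
      Subobject.factorThru_arrow, Subobject.factorThru_arrow_assoc]
    rw [hab, Preadditive.comp_add, hsa]
  rw [← Category.assoc, key, Preadditive.add_comp, Category.assoc, Category.assoc, ofLE_sqπ,
    comp_zero, add_zero]

lemma sqMap_mono (hm : Z ⊓ (Subobject.pullback f).obj B' ≤ B) : Mono (sqMap f h h' hZ hB) := by
  apply Preadditive.mono_of_cancel_zero
  intro T y hy
  obtain ⟨T', π, hπ, z, hz⟩ := surjective_up_to_refinements_of_epi (sqπ h) y
  have h1 : (z ≫ resMap f Z Z' hZ) ≫ sqπ h' = 0 := by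
    rw [Category.assoc, ← sqπ_sqMap f h h' hZ hB, ← Category.assoc, ← hz, Category.assoc, hy,
      comp_zero]
  have h2 := factors_of_comp_sqπ_eq_zero h' _ h1
  have h3 : B'.Factors ((z ≫ Z.arrow) ≫ f) := by simpa using h2
  have h4 : B.Factors (z ≫ Z.arrow) := Subobject.factors_of_le _ hm
    ((Subobject.inf_factors _).2 ⟨Subobject.factors_comp_arrow z,
      (pullback_factors_iff f B' _).2 h3⟩)
  have h5 := comp_sqπ_eq_zero_of_factors h z h4
  rw [← cancel_epi π, hz, h5, comp_zero]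

lemma sqMap_epi (he : Z' ≤ img f Z ⊔ B') : Epi (sqMap f h h' hZ hB) := by
  rw [epi_iff_surjective_up_to_refinements]
  intro T y
  obtain ⟨T₁, π₁, hπ₁, z', hz'⟩ := surjective_up_to_refinements_of_epi (sqπ h') y
  obtain ⟨T₂, π₂, hπ₂, zs, hzs⟩ := sq_core f h' hZ hB z'
    (Subobject.factors_of_le _ he (Subobject.factors_comp_arrow z'))
  refine ⟨T₂, π₂ ≫ π₁, epi_comp _ _, zs ≫ sqπ h, ?_⟩
  rw [Category.assoc, hz', hzs, Category.assoc, sqπ_sqMap]

lemma sqMap_isIso (hm : Z ⊓ (Subobject.pullback f).obj B' ≤ B) (he : Z' ≤ img f Z ⊔ B') :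
    IsIso (sqMap f h h' hZ hB) := by
  haveI := sqMap_mono f h h' hZ hB hm
  haveI := sqMap_epi f h h' hZ hB he
  exact isIso_of_mono_of_epi _

variable (g : Y ⟶ W₀) {Z'' B'' : Subobject W₀} (h'' : B'' ≤ Z'')
  (hZ' : Z' ≤ (Subobject.pullback g).obj Z'') (hB' : B' ≤ (Subobject.pullback g).obj B'')

lemma sqMap_comp_eq_zero (hz : Z ≤ (Subobject.pullback (f ≫ g)).obj B'') :
    sqMap f h h' hZ hB ≫ sqMap g h' h'' hZ' hB' = 0 := by
  rw [← cancel_epi (sqπ h), sqπ_sqMap_assoc, sqπ_sqMap, comp_zero, ← Category.assoc]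
  apply comp_sqπ_eq_zero_of_factors
  have : (resMap f Z Z' hZ ≫ resMap g Z' Z'' hZ') ≫ Z''.arrow = Z.arrow ≫ f ≫ g := by simp
  rw [this]
  exact (pullback_factors_iff (f ≫ g) B'' Z.arrow).1
    (Subobject.factors_of_le _ hz (Subobject.factors_self Z))

lemma sq_exact (w : sqMap f h h' hZ hB ≫ sqMap g h' h'' hZ' hB' = 0)
    (hex : Z' ⊓ (Subobject.pullback g).obj B'' ≤ img f Z ⊔ B') :
    (ShortComplex.mk (sqMap f h h' hZ hB) (sqMap g h' h'' hZ' hB') w).Exact := by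
  rw [ShortComplex.exact_iff_exact_up_to_refinements]
  intro T y hy
  dsimp at y hy ⊢
  obtain ⟨T₁, π₁, hπ₁, z', hz'⟩ := surjective_up_to_refinements_of_epi (sqπ h') y
  have h1 : (z' ≫ resMap g Z' Z'' hZ') ≫ sqπ h'' = 0 := by
    rw [Category.assoc, ← sqπ_sqMap g h' h'' hZ' hB', ← Category.assoc, ← hz', Category.assoc, hy,
      comp_zero]
  have h2 := factors_of_comp_sqπ_eq_zero h'' _ h1
  have h3 : B''.Factors ((z' ≫ Z'.arrow) ≫ g) := by simpa using h2
  have h4 : (img f Z ⊔ B').Factors (z' ≫ Z'.arrow) := Subobject.factors_of_le _ hex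
    ((Subobject.inf_factors _).2 ⟨Subobject.factors_comp_arrow z',
      (pullback_factors_iff g B'' _).2 h3⟩)
  obtain ⟨T₂, π₂, hπ₂, zs, hzs⟩ := sq_core f h' hZ hB z' h4
  refine ⟨T₂, π₂ ≫ π₁, epi_comp _ _, zs ≫ sqπ h, ?_⟩
  rw [Category.assoc, hz', hzs, Category.assoc, sqπ_sqMap]

end Crit

/-- transport of a property along equalities of the subobjects -/
lemma prop_subquot_of_eq (P : ObjectProperty A) {Z B Z' B' : Subobject X} (h : B ≤ Z)
    (h' : B' ≤ Z') (hZ : Z = Z') (hB : B = B') (hp : P (subquot Z B h)) : P (subquot Z' B' h') := by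
  subst hZ hB
  exact hp

end Sq

section WS

variable (P : ObjectProperty A) [P.IsClosedUnderIsomorphisms]
  (h0 : ∃ Z : A, IsZero Z ∧ P Z)
  (hP : ∀ S : ComposableArrows A 4, S.Exact → P (S.obj 0) → P (S.obj 1) → P (S.obj 3) →
    P (S.obj 4) → P (S.obj 2))

include h0 hP

lemma ws_ker {K E E' : A} (i : K ⟶ E) (d : E ⟶ E') [Mono i] (w : i ≫ d = 0)
    (hex : (ShortComplex.mk i d w).Exact) (hE : P E) (hE' : P E') : P K := by
  obtain ⟨Z₀, hZ₀, hP₀⟩ := h0
  have w1 : (0 : Z₀ ⟶ Z₀) ≫ (0 : Z₀ ⟶ K) = 0 := by simp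
  have w2 : (0 : Z₀ ⟶ K) ≫ i = 0 := by simp
  have e1 : (ShortComplex.mk _ _ w1).Exact := ShortComplex.exact_of_isZero_X₂ _ hZ₀
  have e2 : (ShortComplex.mk _ _ w2).Exact := by
    rw [ShortComplex.exact_iff_mono _ rfl]
    dsimp
    infer_instance
  exact hP (ComposableArrows.mk₄ (0 : Z₀ ⟶ Z₀) (0 : Z₀ ⟶ K) i d)
    (ComposableArrows.exact_of_δ₀ e1.exact_toComposableArrows
      (ComposableArrows.exact_of_δ₀ e2.exact_toComposableArrows hex.exact_toComposableArrows))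
    hP₀ hP₀ hE hE'

lemma ws_coker {E K Q : A} (d : E ⟶ K) (q : K ⟶ Q) [Epi q] (w : d ≫ q = 0)
    (hex : (ShortComplex.mk d q w).Exact) (hE : P E) (hK : P K) : P Q := by
  obtain ⟨Z₀, hZ₀, hP₀⟩ := h0
  have w2 : q ≫ (0 : Q ⟶ Z₀) = 0 := by simp
  have w3 : (0 : Q ⟶ Z₀) ≫ (0 : Z₀ ⟶ Z₀) = 0 := by simp
  have e2 : (ShortComplex.mk _ _ w2).Exact := by
    rw [ShortComplex.exact_iff_epi _ rfl]
    dsimp
    infer_instance
  have e3 : (ShortComplex.mk _ _ w3).Exact := ShortComplex.exact_of_isZero_X₂ _ hZ₀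
  exact hP (ComposableArrows.mk₄ d q (0 : Q ⟶ Z₀) (0 : Z₀ ⟶ Z₀))
    (ComposableArrows.exact_of_δ₀ hex.exact_toComposableArrows
      (ComposableArrows.exact_of_δ₀ e2.exact_toComposableArrows e3.exact_toComposableArrows))
    hE hK hP₀ hP₀

lemma ws_ext {A' B C : A} (i : A' ⟶ B) (q : B ⟶ C) [Mono i] [Epi q] (w : i ≫ q = 0)
    (hex : (ShortComplex.mk i q w).Exact) (hA : P A') (hC : P C) : P B := by
  obtain ⟨Z₀, hZ₀, hP₀⟩ := h0
  have w1 : (0 : Z₀ ⟶ A') ≫ i = 0 := by simp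
  have w3 : q ≫ (0 : C ⟶ Z₀) = 0 := by simp
  have e1 : (ShortComplex.mk _ _ w1).Exact := by
    rw [ShortComplex.exact_iff_mono _ rfl]
    dsimp
    infer_instance
  have e3 : (ShortComplex.mk _ _ w3).Exact := by
    rw [ShortComplex.exact_iff_epi _ rfl]
    dsimp
    infer_instance
  exact hP (ComposableArrows.mk₄ (0 : Z₀ ⟶ A') i q (0 : C ⟶ Z₀))
    (ComposableArrows.exact_of_δ₀ e1.exact_toComposableArrows
      (ComposableArrows.exact_of_δ₀ hex.exact_toComposableArrows e3.exact_toComposableArrows))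
    hP₀ hA hC hP₀

lemma ws_zero {Z : A} (hZ : IsZero Z) : P Z := by
  obtain ⟨Z₀, hZ₀, hP₀⟩ := h0
  exact P.prop_of_iso (hZ₀.iso hZ) hP₀

end WS

end Groth.Agent.Lib.Helper16.SqTool
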