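import Mathlib
import Groth.Prelude.Def_SpSeq
import Groth.Agent.Lib.Helper1.FilFin
import Groth.Agent.Lib.Helper16.SqTool

/-!
# Page turning for the spectral sequence terms of a filtered complex (weak Serre classes)
-/

namespace Groth.Agent.Lib.Helper16.SpPage

open CategoryTheory CategoryTheory.Limits SpSeq SpSeq.FilCx
open Groth.Agent.Lib.Helper1.SubImg Groth.Agent.Lib.Helper1.FilPO Groth.Agent.Lib.Helper1.FilFin
open Groth.Agent.Lib.Helper16.SqTool

universe v u
variable {A : Type u} [Category.{v} A] [Abelian A] (K : FilCx A)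

/-- `F^p K^n ⊓ d⁻¹ F^{p+r} K^{n+1}` -/
noncomputable def AS (r : ℕ) (p n : ℤ) : Subobject (K.obj.X n) :=
  K.filX p n ⊓ (Subobject.pullback (K.obj.d n (n + 1))).obj (K.filX (p + r) (n + 1))

lemma ZSub_eq (r : ℕ) (p n : ℤ) : K.ZSub r p n = AS K r p n ⊔ K.filX (p + 1) n := rfl

lemma AS_factors_iff (r : ℕ) (p n : ℤ) {T : A} (x : T ⟶ K.obj.X n) :
    (AS K r p n).Factors x ↔ (K.filX p n).Factors x ∧
      (K.filX (p + r) (n + 1)).Factors (x ≫ K.obj.d n (n + 1)) := by
  unfold AS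
  rw [Subobject.inf_factors, pb_factors]

lemma le_BSub (r : ℕ) (p n : ℤ) : K.filX (p + 1) n ≤ K.BSub r p n := by
  unfold FilCx.BSub
  exact le_sup_right

lemma filX_succ_le (p n : ℤ) : K.filX (p + 1) n ≤ K.filX p n :=
  K.filX_anti n (Int.le_add_one le_rfl)

lemma BSub_shift (r : ℕ) (p n : ℤ) : K.BSub r (p + r) (n + 1) =
    (K.filX (p + r) (n + 1) ⊓ img (K.obj.d n (n + 1)) (K.filX (p + 1) n)) ⊔
      K.filX (p + r + 1) (n + 1) := by
  have key : ∀ (m q : ℤ) (hm : m = n) (hq : q = p + 1),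
      imageSubobject ((K.filX q m).arrow ≫ K.obj.d m (n + 1)) =
        img (K.obj.d n (n + 1)) (K.filX (p + 1) n) := by
    intro m q hm hq
    subst hm hq
    rfl
  show (K.filX (p + r) (n + 1) ⊓ imageSubobject ((K.filX (p + r - r + 1) (n + 1 - 1)).arrow ≫
    K.obj.d (n + 1 - 1) (n + 1))) ⊔ K.filX (p + r + 1) (n + 1) = _
  rw [key (n + 1 - 1) (p + r - r + 1) (by omega) (by omega)]

lemma BSub_succ_shift (r : ℕ) (p n : ℤ) : K.BSub (r + 1) (p + r) (n + 1) =
    (K.filX (p + r) (n + 1) ⊓ img (K.obj.d n (n + 1)) (K.filX p n)) ⊔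
      K.filX (p + r + 1) (n + 1) := by
  have key : ∀ (m q : ℤ) (hm : m = n) (hq : q = p),
      imageSubobject ((K.filX q m).arrow ≫ K.obj.d m (n + 1)) =
        img (K.obj.d n (n + 1)) (K.filX p n) := by
    intro m q hm hq
    subst hm hq
    rfl
  show (K.filX (p + r) (n + 1) ⊓ imageSubobject ((K.filX (p + r - ((r + 1 : ℕ) : ℤ) + 1)
    (n + 1 - 1)).arrow ≫ K.obj.d (n + 1 - 1) (n + 1))) ⊔ K.filX (p + r + 1) (n + 1) = _
  rw [key (n + 1 - 1) (p + r - ((r + 1 : ℕ) : ℤ) + 1) (by omega) (by push_cast; omega)]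

lemma AS_next_factors (r : ℕ) (p n : ℤ) {T : A} (x : T ⟶ K.obj.X n)
    (hx : (K.filX (p + r) (n + 1)).Factors (x ≫ K.obj.d n (n + 1))) :
    (AS K r (p + r) (n + 1)).Factors (x ≫ K.obj.d n (n + 1)) := by
  rw [AS_factors_iff]
  refine ⟨hx, ?_⟩
  rw [Category.assoc, K.obj.d_comp_d, comp_zero]
  exact Subobject.factors_zero

lemma pb_next_factors (n : ℤ) (S : Subobject (K.obj.X (n + 1 + 1))) {T : A}
    (x : T ⟶ K.obj.X n) :
    ((Subobject.pullback (K.obj.d (n + 1) (n + 1 + 1))).obj S).Factors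
      (x ≫ K.obj.d n (n + 1)) := by
  rw [pb_factors, Category.assoc, K.obj.d_comp_d, comp_zero]
  exact Subobject.factors_zero

lemma H1 (r : ℕ) (p n : ℤ) : AS K r p n ⊓ K.BSub r p n ≤
    (Subobject.pullback (K.obj.d n (n + 1))).obj (K.BSub r (p + r) (n + 1)) := by
  apply le_of_forall_factors
  intro T x hx
  rw [Subobject.inf_factors, AS_factors_iff, BSub_eq] at hx
  obtain ⟨⟨hx1, hx2⟩, hx3⟩ := hx
  rw [pb_factors, BSub_shift]
  obtain ⟨T', π, hπ, a, b, ha, hb, hab⟩ := refine_sup' _ _ x hx3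
  apply factors_of_epi_comp π
  have ha0 : a ≫ K.obj.d n (n + 1) = 0 := by
    have ha' := ((Subobject.inf_factors _).1 ha).2
    rw [← Subobject.factorThru_arrow _ _ ha', Category.assoc]
    have : (img (K.obj.d (n - 1) n) (K.filX (p - r + 1) (n - 1))).arrow ≫
        K.obj.d n (n + 1) = 0 :=
      imageSubobject_arrow_comp_eq_zero (by simp)
    rw [this, comp_zero]
  have hπx : π ≫ x ≫ K.obj.d n (n + 1) = b ≫ K.obj.d n (n + 1) := by
    rw [← Category.assoc, hab, Preadditive.add_comp, ha0, zero_add]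
  apply Subobject.sup_factors_of_factors_left
  rw [Subobject.inf_factors]
  refine ⟨Subobject.factors_of_factors_right _ hx2, ?_⟩
  rw [hπx]
  exact img_factors _ _ b hb

lemma H2 (r : ℕ) (p n : ℤ) :
    AS K r p n ⊓ (Subobject.pullback (K.obj.d n (n + 1))).obj (K.BSub r (p + r) (n + 1)) ≤
      K.ZSub (r + 1) p n := by
  apply le_of_forall_factors
  intro T x hx
  rw [Subobject.inf_factors, AS_factors_iff, pb_factors, BSub_shift] at hx
  obtain ⟨⟨hx1, hx2⟩, hx3⟩ := hx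
  obtain ⟨T₁, π₁, hπ₁, a, b, ha, hb, hab⟩ := refine_sup' _ _ _ hx3
  obtain ⟨T₂, π₂, hπ₂, s, hs, hsa⟩ := refine_img _ _ a ((Subobject.inf_factors _).1 ha).2
  apply factors_of_epi_comp (π₂ ≫ π₁)
  have hdecomp : (π₂ ≫ π₁) ≫ x = ((π₂ ≫ π₁) ≫ x - s) + s := (sub_add_cancel _ _).symm
  rw [hdecomp, ZSub_eq]
  apply sup_factors_add
  · rw [AS_factors_iff]
    constructor
    · exact factors_sub _ _ (Subobject.factors_of_factors_right _ hx1)
        (Subobject.factors_of_le _ (filX_succ_le K p n) hs)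
    · have e1 : (π₂ ≫ π₁) ≫ x ≫ K.obj.d n (n + 1) = s ≫ K.obj.d n (n + 1) + π₂ ≫ b := by
        rw [Category.assoc, hab, Preadditive.comp_add, hsa]
      have e2 : ((π₂ ≫ π₁) ≫ x - s) ≫ K.obj.d n (n + 1) = π₂ ≫ b := by
        rw [Preadditive.sub_comp, Category.assoc, e1, add_sub_cancel_left]
      rw [e2]
      have hcast : p + ((r + 1 : ℕ) : ℤ) = p + r + 1 := by push_cast; ring
      rw [hcast]
      exact Subobject.factors_of_factors_right _ hb
  · exact hs

lemma H3 (r : ℕ) (p n : ℤ) : AS K r (p + r) (n + 1) ⊓ K.BSub (r + 1) (p + r) (n + 1) ≤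
    img (K.obj.d n (n + 1)) (AS K r p n) ⊔
      (AS K r (p + r) (n + 1) ⊓ K.BSub r (p + r) (n + 1)) := by
  apply le_of_forall_factors
  intro T x hx
  rw [Subobject.inf_factors, BSub_succ_shift] at hx
  obtain ⟨hx1, hx2⟩ := hx
  obtain ⟨T₁, π₁, hπ₁, a, b, ha, hb, hab⟩ := refine_sup' _ _ _ hx2
  obtain ⟨ha1, ha2⟩ := (Subobject.inf_factors _).1 ha
  obtain ⟨T₂, π₂, hπ₂, y, hy, hya⟩ := refine_img _ _ a ha2
  apply factors_of_epi_comp (π₂ ≫ π₁)
  have hy' : (AS K r p n).Factors y := by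
    rw [AS_factors_iff]
    refine ⟨hy, ?_⟩
    rw [← hya]
    exact Subobject.factors_of_factors_right _ ha1
  have hdecomp : (π₂ ≫ π₁) ≫ x = y ≫ K.obj.d n (n + 1) + π₂ ≫ b := by
    rw [Category.assoc, hab, Preadditive.comp_add, hya]
  rw [hdecomp]
  apply sup_factors_add
  · exact img_factors _ _ y hy'
  · rw [Subobject.inf_factors]
    constructor
    · have e : π₂ ≫ b = (π₂ ≫ π₁) ≫ x - y ≫ K.obj.d n (n + 1) := by
        rw [hdecomp, add_sub_cancel_left]
      rw [e]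
      exact factors_sub _ _ (Subobject.factors_of_factors_right _ hx1)
        (AS_next_factors K r p n y ((AS_factors_iff K r p n y).1 hy').2)
    · exact Subobject.factors_of_factors_right _
        (Subobject.factors_of_le _ (le_BSub K r (p + r) (n + 1)) hb)

lemma G1 (r : ℕ) (p n : ℤ) : AS K r p n ≤
    (Subobject.pullback (K.obj.d n (n + 1))).obj (K.ZSub r (p + r) (n + 1)) := by
  apply le_of_forall_factors
  intro T x hx
  rw [AS_factors_iff] at hx
  rw [pb_factors, ZSub_eq]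
  exact Subobject.sup_factors_of_factors_left (AS_next_factors K r p n x hx.2)

lemma G2 (r : ℕ) (p n : ℤ) (S : Subobject (K.obj.X (n + 1 + 1))) : AS K r p n ≤
    (Subobject.pullback (K.obj.d n (n + 1))).obj (AS K r (p + r) (n + 1) ⊓
      (Subobject.pullback (K.obj.d (n + 1) (n + 1 + 1))).obj S) := by
  apply le_of_forall_factors
  intro T x hx
  rw [AS_factors_iff] at hx
  rw [pb_factors, Subobject.inf_factors]
  exact ⟨AS_next_factors K r p n x hx.2, pb_next_factors K n S x⟩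

lemma G3 (r : ℕ) (p n : ℤ) : K.ZSub (r + 1) p n ≤
    (AS K r p n ⊓ (Subobject.pullback (K.obj.d n (n + 1))).obj (K.BSub r (p + r) (n + 1))) ⊔
      K.BSub (r + 1) p n := by
  rw [ZSub_eq]
  apply sup_le_sup
  · have hcast : p + ((r + 1 : ℕ) : ℤ) = p + r + 1 := by push_cast; ring
    unfold AS
    rw [hcast]
    refine le_inf (inf_le_inf_left _ ((Subobject.pullback _).monotone
      (K.filX_anti (n + 1) (by omega)))) (inf_le_right.trans
        ((Subobject.pullback _).monotone (le_BSub K r (p + r) (n + 1))))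
  · exact le_BSub K (r + 1) p n

lemma G4 (r : ℕ) (p n : ℤ) : AS K r p n ≤
    (Subobject.pullback (K.obj.d n (n + 1))).obj (K.BSub (r + 1) (p + r) (n + 1)) := by
  apply le_of_forall_factors
  intro T x hx
  rw [AS_factors_iff] at hx
  rw [pb_factors, BSub_succ_shift]
  apply Subobject.sup_factors_of_factors_left
  rw [Subobject.inf_factors]
  exact ⟨hx.2, img_factors _ _ x hx.1⟩

lemma BSub_le_succ (r : ℕ) (p n : ℤ) : K.BSub r p n ≤ K.BSub (r + 1) p n := by
  rw [BSub_eq, BSub_eq]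
  refine sup_le_sup_right (inf_le_inf_left _ (img_mono _ (K.filX_anti (n - 1) ?_))) _
  push_cast
  omega

section Page

variable (P : ObjectProperty A) [P.IsClosedUnderIsomorphisms]

lemma prop_E' (r : ℕ) (p n : ℤ) (hp : P (K.E r p n)) :
    P (subquot (AS K r p n) (AS K r p n ⊓ K.BSub r p n) inf_le_left) := by
  have hZ : AS K r p n ≤ (Subobject.pullback (𝟙 (K.obj.X n))).obj (K.ZSub r p n) := by
    rw [Subobject.pullback_id, ZSub_eq]
    exact le_sup_left
  have hB : AS K r p n ⊓ K.BSub r p n ≤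
      (Subobject.pullback (𝟙 (K.obj.X n))).obj (K.BSub r p n) := by
    rw [Subobject.pullback_id]
    exact inf_le_right
  haveI := sqMap_isIso (𝟙 (K.obj.X n))
    (inf_le_left : AS K r p n ⊓ K.BSub r p n ≤ AS K r p n) (K.BSub_le_ZSub r p n) hZ hB
    (by rw [Subobject.pullback_id])
    (by rw [img_id, ZSub_eq]; exact sup_le_sup_left (le_BSub K r p n) _)
  exact P.prop_of_iso (asIso (sqMap (𝟙 (K.obj.X n))
    (inf_le_left : AS K r p n ⊓ K.BSub r p n ≤ AS K r p n) (K.BSub_le_ZSub r p n) hZ hB)).symm hp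

variable (h0 : ∃ Z : A, IsZero Z ∧ P Z)
  (hP : ∀ S : ComposableArrows A 4, S.Exact → P (S.obj 0) → P (S.obj 1) → P (S.obj 3) →
    P (S.obj 4) → P (S.obj 2))

include h0 hP

theorem page_succ (r : ℕ) (hr : ∀ p n : ℤ, P (K.E r p n)) (p n : ℤ) :
    P (K.E (r + 1) (p + r) (n + 1)) := by
  have hKB : AS K r (p + r) (n + 1) ⊓ K.BSub r (p + r) (n + 1) ≤
      AS K r (p + r) (n + 1) ⊓ (Subobject.pullback (K.obj.d (n + 1) (n + 1 + 1))).obj
        (K.BSub r (p + r + r) (n + 1 + 1)) :=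
    le_inf inf_le_left (H1 K r (p + r) (n + 1))
  have pEs := prop_E' K P r p n (hr p n)
  have pEt := prop_E' K P r (p + r) (n + 1) (hr _ _)
  have pEn := hr (p + r + r) (n + 1 + 1)
  -- (α): `0 → K' → E'_t → E_n`
  have pK' : P (subquot _ _ hKB) := by
    have hZj : AS K r (p + r) (n + 1) ⊓ (Subobject.pullback (K.obj.d (n + 1) (n + 1 + 1))).obj
        (K.BSub r (p + r + r) (n + 1 + 1)) ≤
        (Subobject.pullback (𝟙 (K.obj.X (n + 1)))).obj (AS K r (p + r) (n + 1)) := by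
      rw [Subobject.pullback_id]
      exact inf_le_left
    have hBj : AS K r (p + r) (n + 1) ⊓ K.BSub r (p + r) (n + 1) ≤
        (Subobject.pullback (𝟙 (K.obj.X (n + 1)))).obj
          (AS K r (p + r) (n + 1) ⊓ K.BSub r (p + r) (n + 1)) := by
      rw [Subobject.pullback_id]
    have hZδ := G1 K r (p + r) (n + 1)
    have hBδ := H1 K r (p + r) (n + 1)
    haveI : Mono (sqMap (𝟙 (K.obj.X (n + 1))) hKB inf_le_left hZj hBj) :=
      sqMap_mono _ _ _ _ _ (by rw [Subobject.pullback_id]; exact inf_le_right)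
    have w := sqMap_comp_eq_zero (𝟙 (K.obj.X (n + 1))) hKB
      (inf_le_left : AS K r (p + r) (n + 1) ⊓ K.BSub r (p + r) (n + 1) ≤ AS K r (p + r) (n + 1))
      hZj hBj (K.obj.d (n + 1) (n + 1 + 1)) (K.BSub_le_ZSub r (p + r + r) (n + 1 + 1)) hZδ hBδ
      (by rw [Category.id_comp]; exact inf_le_right)
    have hex := sq_exact (𝟙 (K.obj.X (n + 1))) hKB
      (inf_le_left : AS K r (p + r) (n + 1) ⊓ K.BSub r (p + r) (n + 1) ≤ AS K r (p + r) (n + 1))
      hZj hBj (K.obj.d (n + 1) (n + 1 + 1)) (K.BSub_le_ZSub r (p + r + r) (n + 1 + 1)) hZδ hBδ w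
      (by rw [img_id]; exact le_sup_left)
    exact ws_ker P h0 hP _ _ w hex pEt pEn
  -- (β): `E'_s → K' → E_{r+1} → 0`
  have hZε := G2 K r p n (K.BSub r (p + r + r) (n + 1 + 1))
  have hBε : AS K r p n ⊓ K.BSub r p n ≤ (Subobject.pullback (K.obj.d n (n + 1))).obj
      (AS K r (p + r) (n + 1) ⊓ K.BSub r (p + r) (n + 1)) := by
    apply le_of_forall_factors
    intro T x hx
    rw [pb_factors, Subobject.inf_factors]
    have hx' := (Subobject.inf_factors _).1 hx
    constructor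
    · exact AS_next_factors K r p n x ((AS_factors_iff K r p n x).1 hx'.1).2
    · exact (pb_factors _ _ _).1 (Subobject.factors_of_le _ (H1 K r p n) hx)
  have hZq : AS K r (p + r) (n + 1) ⊓ (Subobject.pullback (K.obj.d (n + 1) (n + 1 + 1))).obj
      (K.BSub r (p + r + r) (n + 1 + 1)) ≤
      (Subobject.pullback (𝟙 (K.obj.X (n + 1)))).obj (K.ZSub (r + 1) (p + r) (n + 1)) := by
    rw [Subobject.pullback_id]
    exact H2 K r (p + r) (n + 1)
  have hBq : AS K r (p + r) (n + 1) ⊓ K.BSub r (p + r) (n + 1) ≤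
      (Subobject.pullback (𝟙 (K.obj.X (n + 1)))).obj (K.BSub (r + 1) (p + r) (n + 1)) := by
    rw [Subobject.pullback_id]
    exact inf_le_right.trans (BSub_le_succ K r (p + r) (n + 1))
  haveI : Epi (sqMap (𝟙 (K.obj.X (n + 1))) hKB (K.BSub_le_ZSub (r + 1) (p + r) (n + 1))
      hZq hBq) :=
    sqMap_epi _ _ _ _ _ (by rw [img_id]; exact G3 K r (p + r) (n + 1))
  have w := sqMap_comp_eq_zero (K.obj.d n (n + 1))
    (inf_le_left : AS K r p n ⊓ K.BSub r p n ≤ AS K r p n) hKB hZε hBε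
    (𝟙 (K.obj.X (n + 1))) (K.BSub_le_ZSub (r + 1) (p + r) (n + 1)) hZq hBq
    (by rw [Category.comp_id]; exact G4 K r p n)
  have hex := sq_exact (K.obj.d n (n + 1))
    (inf_le_left : AS K r p n ⊓ K.BSub r p n ≤ AS K r p n) hKB hZε hBε
    (𝟙 (K.obj.X (n + 1))) (K.BSub_le_ZSub (r + 1) (p + r) (n + 1)) hZq hBq w
    (by rw [Subobject.pullback_id]; exact (inf_le_inf_right _ inf_le_left).trans (H3 K r p n))
  have hfin := ws_coker P h0 hP _ _ w hex pEs pK'
  exact hfin

theorem page_all (r : ℕ) (hr : ∀ p n : ℤ, P (K.E r p n)) :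
    ∀ (k : ℕ) (p n : ℤ), P (K.E (r + k) p n) := by
  intro k
  induction k with
  | zero => exact hr
  | succ k ih =>
    intro p n
    have := page_succ K P h0 hP (r + k) ih (p - ((r + k : ℕ) : ℤ)) (n - 1)
    rw [sub_add_cancel, sub_add_cancel] at this
    exact this

end Page

end Groth.Agent.Lib.Helper16.SpPage
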