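import Mathlib
import Groth.Prelude.Def_SpSeq
import Groth.Agent.Lib.Helper1.FilFin
import Groth.Agent.Lib.Helper16.SpPage

/-!
# `E_∞ ≅ gr H` for the spectral sequence terms of a filtered complex; weak Serre classes
-/

namespace Groth.Agent.Lib.Helper16.SpLimit

open CategoryTheory CategoryTheory.Limits SpSeq SpSeq.FilCx
open Groth.Agent.Lib.Helper1.SubImg Groth.Agent.Lib.Helper1.FilPO Groth.Agent.Lib.Helper1.FilFin
open Groth.Agent.Lib.Helper16.SqTool Groth.Agent.Lib.Helper16.SpPage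

universe v u
variable {A : Type u} [Category.{v} A] [Abelian A] (K : FilCx A)

/-- cycles lying in `F^p` -/
noncomputable def Cp (p n : ℤ) : Subobject (K.obj.cycles n) :=
  (Subobject.pullback (K.obj.iCycles n)).obj (K.filX p n)

lemma Cp_factors_iff (p n : ℤ) {T : A} (x : T ⟶ K.obj.cycles n) :
    (Cp K p n).Factors x ↔ (K.filX p n).Factors (x ≫ K.obj.iCycles n) := pb_factors _ _ _

lemma Cp_anti (n : ℤ) {p q : ℤ} (h : p ≤ q) : Cp K q n ≤ Cp K p n :=
  (Subobject.pullback _).monotone (K.filX_anti n h)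

/-- boundaries as a subobject of cycles -/
noncomputable def Bd (n : ℤ) : Subobject (K.obj.cycles n) :=
  imageSubobject (K.obj.toCycles (n - 1) n)

lemma homology_exact (n : ℤ) : (ShortComplex.mk (K.obj.toCycles (n - 1) n) (K.obj.homologyπ n)
    (K.obj.toCycles_comp_homologyπ (n - 1) n)).Exact :=
  ShortComplex.exact_of_g_is_cokernel _ (K.obj.homologyIsCokernel (n - 1) n (by simp))

lemma filX_factors_iff (p n : ℤ) {T : A} (x : T ⟶ K.obj.X n) :
    (K.filX p n).Factors x ↔
      ∃ t : T ⟶ (K.fil p : CochainComplex A ℤ).X n, t ≫ (K.fil p).arrow.f n = x := by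
  unfold FilCx.filX
  rw [Subobject.mk_factors_iff]
  rfl

lemma filH_eq (p n : ℤ) : K.filH p n = img (K.obj.homologyπ n) (Cp K p n) := by
  apply le_antisymm
  · apply le_of_forall_factors
    intro T x hx
    unfold FilCx.filH at hx
    obtain ⟨T₁, π₁, hπ₁, t, ht⟩ := refine_image _ x hx
    obtain ⟨T₂, π₂, hπ₂, c, hc⟩ := surjective_up_to_refinements_of_epi
      ((K.fil p : CochainComplex A ℤ).homologyπ n) t
    apply factors_of_epi_comp (π₂ ≫ π₁)
    have e : (π₂ ≫ π₁) ≫ x =
        (c ≫ HomologicalComplex.cyclesMap (K.fil p).arrow n) ≫ K.obj.homologyπ n := by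
      rw [Category.assoc, ht, ← Category.assoc, hc, Category.assoc,
        HomologicalComplex.homologyπ_naturality, Category.assoc]
    rw [e]
    apply img_factors
    rw [Cp_factors_iff, Category.assoc, HomologicalComplex.cyclesMap_i, ← Category.assoc]
    exact (filX_factors_iff K p n _).2 ⟨_, rfl⟩
  · apply le_of_forall_factors
    intro T x hx
    obtain ⟨T₁, π₁, hπ₁, s, hs, hsx⟩ := refine_img _ _ x hx
    rw [Cp_factors_iff, filX_factors_iff] at hs
    obtain ⟨t, ht⟩ := hs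
    have htd : t ≫ (K.fil p : CochainComplex A ℤ).d n (n + 1) = 0 := by
      rw [← cancel_mono ((K.fil p).arrow.f (n + 1)), Category.assoc,
        ← HomologicalComplex.Hom.comm, ← Category.assoc, ht, Category.assoc,
        K.obj.iCycles_d, comp_zero, zero_comp]
    have ht' : (K.fil p : CochainComplex A ℤ).liftCycles t (n + 1) (by simp) htd ≫
        HomologicalComplex.cyclesMap (K.fil p).arrow n = s := by
      rw [← cancel_mono (K.obj.iCycles n), Category.assoc, HomologicalComplex.cyclesMap_i,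
        HomologicalComplex.liftCycles_i_assoc, ht]
    apply factors_of_epi_comp π₁
    unfold FilCx.filH
    rw [hsx, ← ht', Category.assoc, ← HomologicalComplex.homologyπ_naturality, ← Category.assoc]
    exact imageSubobject_factors_comp_self _ _

lemma BBot_le_ZTop (p n : ℤ) : K.BBot p n ≤ K.ZTop p n := by
  unfold FilCx.BBot FilCx.ZTop
  refine sup_le_sup_right (inf_le_inf_left _ ?_) _
  exact le_kernelSubobject _ _ (imageSubobject_arrow_comp_eq_zero (by simp))

lemma hQ (p n : ℤ) : Cp K (p + 1) n ⊔ (Cp K p n ⊓ Bd K n) ≤ Cp K p n :=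
  sup_le (Cp_anti K n (Int.le_add_one le_rfl)) inf_le_left

lemma m1_hZ (p n : ℤ) :
    Cp K p n ≤ (Subobject.pullback (K.obj.iCycles n)).obj (K.ZTop p n) := by
  apply le_of_forall_factors
  intro T x hx
  rw [Cp_factors_iff] at hx
  rw [pb_factors]
  unfold FilCx.ZTop
  apply Subobject.sup_factors_of_factors_left
  rw [Subobject.inf_factors]
  exact ⟨hx, kernelSubobject_factors _ _ (by rw [Category.assoc, K.obj.iCycles_d, comp_zero])⟩

lemma Bd_factors_i (n : ℤ) {T : A} (x : T ⟶ K.obj.cycles n) (hx : (Bd K n).Factors x) :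
    (imageSubobject (K.obj.d (n - 1) n)).Factors (x ≫ K.obj.iCycles n) := by
  obtain ⟨T', π, hπ, y, hy⟩ := refine_image _ x hx
  apply factors_of_epi_comp π
  rw [← Category.assoc, hy, Category.assoc, K.obj.toCycles_i]
  exact imageSubobject_factors_comp_self _ _

lemma m1_hB (p n : ℤ) : Cp K (p + 1) n ⊔ (Cp K p n ⊓ Bd K n) ≤
    (Subobject.pullback (K.obj.iCycles n)).obj (K.BBot p n) := by
  apply sup_le
  · unfold Cp
    exact (Subobject.pullback _).monotone (by unfold FilCx.BBot; exact le_sup_right)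
  · apply le_of_forall_factors
    intro T x hx
    rw [Subobject.inf_factors, Cp_factors_iff] at hx
    rw [pb_factors]
    unfold FilCx.BBot
    apply Subobject.sup_factors_of_factors_left
    rw [Subobject.inf_factors]
    exact ⟨hx.1, Bd_factors_i K n x hx.2⟩

lemma m1_mono (p n : ℤ) :
    Cp K p n ⊓ (Subobject.pullback (K.obj.iCycles n)).obj (K.BBot p n) ≤
      Cp K (p + 1) n ⊔ (Cp K p n ⊓ Bd K n) := by
  apply le_of_forall_factors
  intro T x hx
  rw [Subobject.inf_factors, Cp_factors_iff, pb_factors] at hx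
  obtain ⟨hx1, hx2⟩ := hx
  unfold FilCx.BBot at hx2
  obtain ⟨T₁, π₁, hπ₁, a, b, ha, hb, hab⟩ := refine_sup' _ _ _ hx2
  obtain ⟨ha1, ha2⟩ := (Subobject.inf_factors _).1 ha
  obtain ⟨T₂, π₂, hπ₂, y, hy⟩ := refine_image _ a ha2
  apply factors_of_epi_comp (π₂ ≫ π₁)
  have hya : (y ≫ K.obj.toCycles (n - 1) n) ≫ K.obj.iCycles n = π₂ ≫ a := by
    rw [Category.assoc, K.obj.toCycles_i, hy]
  have hdecomp : (π₂ ≫ π₁) ≫ x = ((π₂ ≫ π₁) ≫ x - y ≫ K.obj.toCycles (n - 1) n) +
      y ≫ K.obj.toCycles (n - 1) n := (sub_add_cancel _ _).symm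
  rw [hdecomp]
  apply sup_factors_add
  · rw [Cp_factors_iff]
    have e : ((π₂ ≫ π₁) ≫ x - y ≫ K.obj.toCycles (n - 1) n) ≫ K.obj.iCycles n = π₂ ≫ b := by
      rw [Preadditive.sub_comp, hya, Category.assoc, Category.assoc, hab, Preadditive.comp_add,
        add_sub_cancel_left]
    rw [e]
    exact Subobject.factors_of_factors_right _ hb
  · rw [Subobject.inf_factors, Cp_factors_iff]
    refine ⟨?_, by unfold Bd; exact imageSubobject_factors_comp_self _ _⟩
    rw [hya]
    exact Subobject.factors_of_factors_right _ ha1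

lemma m1_epi (p n : ℤ) :
    K.ZTop p n ≤ img (K.obj.iCycles n) (Cp K p n) ⊔ K.BBot p n := by
  unfold FilCx.ZTop
  apply sup_le_sup
  · apply le_of_forall_factors
    intro T x hx
    rw [Subobject.inf_factors] at hx
    obtain ⟨hx1, hx2⟩ := hx
    have hxd : x ≫ K.obj.d n (n + 1) = 0 := by
      rw [← Subobject.factorThru_arrow _ _ hx2, Category.assoc, kernelSubobject_arrow_comp,
        comp_zero]
    have hx' : K.obj.liftCycles x (n + 1) (by simp) hxd ≫ K.obj.iCycles n = x :=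
      K.obj.liftCycles_i _ _ _ _
    rw [← hx']
    apply img_factors
    rw [Cp_factors_iff, hx']
    exact hx1
  · unfold FilCx.BBot
    exact le_sup_right

lemma m2_hZ (p n : ℤ) :
    Cp K p n ≤ (Subobject.pullback (K.obj.homologyπ n)).obj (K.filH p n) := by
  rw [filH_eq]
  exact (img_le_iff _ _ _).1 le_rfl

lemma Bd_comp_π (n : ℤ) {T : A} (x : T ⟶ K.obj.cycles n) (hx : (Bd K n).Factors x) :
    x ≫ K.obj.homologyπ n = 0 := by
  obtain ⟨T', π, hπ, y, hy⟩ := refine_image _ x hx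
  rw [← cancel_epi π, ← Category.assoc, hy, Category.assoc, K.obj.toCycles_comp_homologyπ,
    comp_zero, comp_zero]

lemma m2_hB (p n : ℤ) : Cp K (p + 1) n ⊔ (Cp K p n ⊓ Bd K n) ≤
    (Subobject.pullback (K.obj.homologyπ n)).obj (K.filH (p + 1) n) := by
  apply sup_le
  · exact m2_hZ K (p + 1) n
  · apply le_of_forall_factors
    intro T x hx
    rw [pb_factors, Bd_comp_π K n x ((Subobject.inf_factors _).1 hx).2]
    exact Subobject.factors_zero

lemma m2_mono (p n : ℤ) :
    Cp K p n ⊓ (Subobject.pullback (K.obj.homologyπ n)).obj (K.filH (p + 1) n) ≤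
      Cp K (p + 1) n ⊔ (Cp K p n ⊓ Bd K n) := by
  apply le_of_forall_factors
  intro T x hx
  rw [Subobject.inf_factors, pb_factors, filH_eq] at hx
  obtain ⟨hx1, hx2⟩ := hx
  obtain ⟨T₁, π₁, hπ₁, s, hs, hsx⟩ := refine_img _ _ _ hx2
  have hz : (π₁ ≫ x - s) ≫ K.obj.homologyπ n = 0 := by
    rw [Preadditive.sub_comp, Category.assoc, hsx, sub_self]
  obtain ⟨T₂, π₂, hπ₂, y, hy⟩ := (homology_exact K n).exact_up_to_refinements _ hz
  have hy' : y ≫ K.obj.toCycles (n - 1) n = π₂ ≫ (π₁ ≫ x - s) := hy.symm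
  apply factors_of_epi_comp (π₂ ≫ π₁)
  have hdecomp : (π₂ ≫ π₁) ≫ x = π₂ ≫ s + y ≫ K.obj.toCycles (n - 1) n := by
    rw [hy', Preadditive.comp_sub, add_sub_cancel, Category.assoc]
  rw [hdecomp]
  apply sup_factors_add
  · exact Subobject.factors_of_factors_right _ hs
  · rw [Subobject.inf_factors]
    refine ⟨?_, by unfold Bd; exact imageSubobject_factors_comp_self _ _⟩
    have e : y ≫ K.obj.toCycles (n - 1) n = (π₂ ≫ π₁) ≫ x - π₂ ≫ s := by
      rw [hdecomp, add_sub_cancel_left]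
    rw [e]
    exact factors_sub _ _ (Subobject.factors_of_factors_right _ hx1)
      (Subobject.factors_of_factors_right _
        (Subobject.factors_of_le _ (Cp_anti K n (Int.le_add_one le_rfl)) hs))

lemma m2_epi (p n : ℤ) :
    K.filH p n ≤ img (K.obj.homologyπ n) (Cp K p n) ⊔ K.filH (p + 1) n := by
  rw [filH_eq K p n]
  exact le_sup_left

section WS

variable (P : ObjectProperty A) [P.IsClosedUnderIsomorphisms]

theorem prop_gr_of_prop_limit (p n : ℤ)
    (h : P (subquot (K.ZTop p n) (K.BBot p n) (BBot_le_ZTop K p n))) : P ((K.HFil n).gr p) := by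
  haveI i1 := sqMap_isIso (K.obj.iCycles n) (hQ K p n) (BBot_le_ZTop K p n) (m1_hZ K p n)
    (m1_hB K p n) (m1_mono K p n) (m1_epi K p n)
  have pQ : P (subquot (Cp K p n) _ (hQ K p n)) :=
    P.prop_of_iso (asIso (sqMap (K.obj.iCycles n) (hQ K p n) (BBot_le_ZTop K p n) (m1_hZ K p n)
      (m1_hB K p n))).symm h
  haveI i2 := sqMap_isIso (K.obj.homologyπ n) (hQ K p n)
    (K.filH_anti n (Int.le_add_one le_rfl)) (m2_hZ K p n) (m2_hB K p n) (m2_mono K p n)
    (m2_epi K p n)
  have pG : P (subquot (K.filH p n) (K.filH (p + 1) n)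
      (K.filH_anti n (Int.le_add_one le_rfl))) :=
    P.prop_of_iso (asIso (sqMap (K.obj.homologyπ n) (hQ K p n)
      (K.filH_anti n (Int.le_add_one le_rfl)) (m2_hZ K p n) (m2_hB K p n))) pQ
  exact pG

lemma stab (hK : ∀ n : ℤ, (K.XFil n).IsFinite) (p n : ℤ) :
    ∃ R : ℕ, ∀ r : ℕ, R ≤ r → K.ZSub r p n = K.ZTop p n ∧ K.BSub r p n = K.BBot p n := by
  obtain ⟨_, ⟨b, hb⟩⟩ := hK (n + 1)
  obtain ⟨⟨a, ha⟩, _⟩ := hK (n - 1)
  have hb' : K.filX b (n + 1) = ⊥ := hb
  have ha' : K.filX a (n - 1) = ⊤ := ha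
  refine ⟨max (b - p).toNat (p + 1 - a).toNat, fun r hr => ⟨?_, ?_⟩⟩
  · have h1 := le_trans (le_max_left _ _) hr
    unfold FilCx.ZSub FilCx.ZTop
    rw [filX_eq_bot_of_le K hb' (by omega : b ≤ p + r), pullback_bot]
  · have h2 := le_trans (le_max_right _ _) hr
    rw [BSub_eq]
    unfold FilCx.BBot
    rw [filX_eq_top_of_le K ha' (by omega : p - r + 1 ≤ a), img_top]

variable (h0 : ∃ Z : A, IsZero Z ∧ P Z)
  (hP : ∀ S : ComposableArrows A 4, S.Exact → P (S.obj 0) → P (S.obj 1) → P (S.obj 3) →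
    P (S.obj 4) → P (S.obj 2))

include h0 hP

lemma prop_of_finite_fil (L : FilObj A) (hfin : L.IsFinite) (hgr : ∀ p : ℤ, P (L.gr p)) :
    P L.obj := by
  obtain ⟨⟨a, ha⟩, ⟨b, hb⟩⟩ := hfin
  have step : ∀ q : ℤ, P ((L.fil (q + 1) : Subobject L.obj) : A) →
      P ((L.fil q : Subobject L.obj) : A) := by
    intro q hq
    have w : (L.fil (q + 1)).ofLE (L.fil q) (L.anti (Int.le_add_one le_rfl)) ≫
        cokernel.π _ = 0 := cokernel.condition _
    have hex : (ShortComplex.mk _ _ w).Exact :=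
      ShortComplex.exact_of_g_is_cokernel _ (cokernelIsCokernel _)
    exact ws_ext P h0 hP _ _ w hex hq (hgr q)
  have claim : ∀ k : ℕ, P ((L.fil (b - k) : Subobject L.obj) : A) := by
    intro k
    induction k with
    | zero =>
      have : L.fil (b - ((0 : ℕ) : ℤ)) = ⊥ := by simpa using hb
      rw [this]
      exact ws_zero P h0 hP ((isZero_zero A).of_iso Subobject.botCoeIsoZero)
    | succ k ih =>
      apply step
      have e : b - ((k + 1 : ℕ) : ℤ) + 1 = b - k := by push_cast; ring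
      rw [e]
      exact ih
  have htop : L.fil (b - ((b - a).toNat : ℤ)) = ⊤ := fil_eq_top_of_le L ha (by omega)
  have h1 := claim (b - a).toNat
  rw [htop] at h1
  exact P.prop_of_iso (asIso (⊤ : Subobject L.obj).arrow) h1

theorem main (hK : ∀ n : ℤ, (K.XFil n).IsFinite) (r : ℕ) (hr : ∀ p n : ℤ, P (K.E r p n))
    (n : ℤ) : P (K.obj.homology n) := by
  have hfin := (finite_main K hK).2.1 n
  apply prop_of_finite_fil P h0 hP (K.HFil n) hfin
  intro p
  obtain ⟨R, hR⟩ := stab K hK p n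
  have h1 : P (K.E (r + R) p n) := page_all K P h0 hP r hr R p n
  have h2 : P (subquot (K.ZTop p n) (K.BBot p n) (BBot_le_ZTop K p n)) :=
    prop_subquot_of_eq P (K.BSub_le_ZSub (r + R) p n) (BBot_le_ZTop K p n)
      (hR (r + R) (by omega)).1 (hR (r + R) (by omega)).2 h1
  exact prop_gr_of_prop_limit K P p n h2

end WS

end Groth.Agent.Lib.Helper16.SpLimit
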