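import Mathlib
import Groth.Prelude.Def_SpSeq
import Groth.Agent.Lib.Helper1.FilFin
import Groth.Agent.Lib.Helper16.SpLimit

/-!
# Convergence of the spectral sequence of a filtered complex whose filtration is regular on
cohomology (`H^n(F^p K) = 0` for `p ≫ 0`, `H^n(F^p K) ≅ H^n(K)` for `p ≪ 0`)
-/

namespace Groth.Agent.Lib.Helper16.SpReg

open CategoryTheory CategoryTheory.Limits SpSeq SpSeq.FilCx
open Groth.Agent.Lib.Helper1.SubImg Groth.Agent.Lib.Helper1.FilPO Groth.Agent.Lib.Helper1.FilFin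
open Groth.Agent.Lib.Helper16.SqTool Groth.Agent.Lib.Helper16.SpPage
open Groth.Agent.Lib.Helper16.SpLimit

universe v u
variable {A : Type u} [Category.{v} A] [Abelian A]

section Cx

lemma cx_homology_exact (L : CochainComplex A ℤ) (i j : ℤ) (hij : i + 1 = j) :
    (ShortComplex.mk (L.toCycles i j) (L.homologyπ j) (L.toCycles_comp_homologyπ i j)).Exact :=
  ShortComplex.exact_of_g_is_cokernel _ (L.homologyIsCokernel i j (by subst hij; simp))

lemma exists_lift (L : CochainComplex A ℤ) (j k : ℤ) (hjk : j + 1 = k) {T : A} (x : T ⟶ L.X j)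
    (hx : x ≫ L.d j k = 0) : ∃ lc : T ⟶ L.cycles j, lc ≫ L.iCycles j = x :=
  ⟨L.liftCycles x k (by subst hjk; simp) hx, L.liftCycles_i _ _ _ _⟩

lemma bdry_of_comp_π (L : CochainComplex A ℤ) (i j : ℤ) (hij : i + 1 = j) {T : A}
    (lc : T ⟶ L.cycles j) (hc : lc ≫ L.homologyπ j = 0) :
    ∃ (T' : A) (π : T' ⟶ T) (_ : Epi π) (z : T' ⟶ L.X i),
      π ≫ lc ≫ L.iCycles j = z ≫ L.d i j := by
  obtain ⟨T', π, hπ, z, hz⟩ := (cx_homology_exact L i j hij).exact_up_to_refinements _ hc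
  have hz' : π ≫ lc = z ≫ L.toCycles i j := hz
  refine ⟨T', π, hπ, z, ?_⟩
  rw [← Category.assoc, hz', Category.assoc, L.toCycles_i]

/-- vanishing of homology: cocycles are boundaries up to refinement -/
lemma bdry_of_isZero (L : CochainComplex A ℤ) (i j k : ℤ) (hij : i + 1 = j) (hjk : j + 1 = k)
    (h : IsZero (L.homology j)) {T : A} (x : T ⟶ L.X j) (hx : x ≫ L.d j k = 0) :
    ∃ (T' : A) (π : T' ⟶ T) (_ : Epi π) (z : T' ⟶ L.X i), π ≫ x = z ≫ L.d i j := by
  obtain ⟨lc, hlc⟩ := exists_lift L j k hjk x hx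
  obtain ⟨T', π, hπ, z, hz⟩ := bdry_of_comp_π L i j hij lc (h.eq_of_tgt _ _)
  exact ⟨T', π, hπ, z, by rw [← hlc]; exact hz⟩

/-- injectivity on homology: a cocycle whose image is a boundary is a boundary up to refinement -/
lemma bdry_of_mono {L M : CochainComplex A ℤ} (φ : L ⟶ M) (i j k : ℤ) (hij : i + 1 = j)
    (hjk : j + 1 = k) (hm : Mono (HomologicalComplex.homologyMap φ j)) {T : A}
    (x : T ⟶ L.X j) (hx : x ≫ L.d j k = 0) (z : T ⟶ M.X i)
    (hz : x ≫ φ.f j = z ≫ M.d i j) :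
    ∃ (T' : A) (π : T' ⟶ T) (_ : Epi π) (z' : T' ⟶ L.X i), π ≫ x = z' ≫ L.d i j := by
  haveI := hm
  obtain ⟨lc, hlc⟩ := exists_lift L j k hjk x hx
  have e1 : lc ≫ HomologicalComplex.cyclesMap φ j = z ≫ M.toCycles i j := by
    rw [← cancel_mono (M.iCycles j)]
    simp only [Category.assoc]
    rw [HomologicalComplex.cyclesMap_i, M.toCycles_i, ← Category.assoc, hlc]
    exact hz
  have hc : lc ≫ L.homologyπ j = 0 := by
    rw [← cancel_mono (HomologicalComplex.homologyMap φ j)]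
    simp only [Category.assoc, zero_comp]
    rw [HomologicalComplex.homologyπ_naturality, ← Category.assoc, e1, Category.assoc,
      M.toCycles_comp_homologyπ, comp_zero]
  obtain ⟨T', π, hπ, z', hz'⟩ := bdry_of_comp_π L i j hij lc hc
  exact ⟨T', π, hπ, z', by rw [← hlc]; exact hz'⟩

/-- surjectivity on homology: every cocycle is, up to refinement and boundary, in the image -/
lemma decomp_of_epi {L M : CochainComplex A ℤ} (φ : L ⟶ M) (i j k : ℤ) (hij : i + 1 = j)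
    (hjk : j + 1 = k) (he : Epi (HomologicalComplex.homologyMap φ j)) {T : A}
    (x : T ⟶ M.X j) (hx : x ≫ M.d j k = 0) :
    ∃ (T' : A) (π : T' ⟶ T) (_ : Epi π) (w : T' ⟶ L.X j) (z : T' ⟶ M.X i),
      w ≫ L.d j k = 0 ∧ π ≫ x = w ≫ φ.f j + z ≫ M.d i j := by
  haveI := he
  obtain ⟨lc, hlc⟩ := exists_lift M j k hjk x hx
  obtain ⟨T₁, π₁, hπ₁, h, hh⟩ := surjective_up_to_refinements_of_epi
    (HomologicalComplex.homologyMap φ j) (lc ≫ M.homologyπ j)
  obtain ⟨T₂, π₂, hπ₂, c, hc⟩ := surjective_up_to_refinements_of_epi (L.homologyπ j) h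
  have e1 : π₂ ≫ π₁ ≫ lc ≫ M.homologyπ j =
      c ≫ HomologicalComplex.cyclesMap φ j ≫ M.homologyπ j := by
    rw [hh, ← Category.assoc π₂ h _, hc, Category.assoc c _ _,
      HomologicalComplex.homologyπ_naturality]
  have hz : (π₂ ≫ π₁ ≫ lc - c ≫ HomologicalComplex.cyclesMap φ j) ≫ M.homologyπ j = 0 := by
    rw [Preadditive.sub_comp]
    simp only [Category.assoc]
    rw [e1, sub_self]
  obtain ⟨T₃, π₃, hπ₃, z, hz'⟩ := bdry_of_comp_π M i j hij _ hz
  refine ⟨T₃, π₃ ≫ π₂ ≫ π₁, inferInstance, π₃ ≫ c ≫ L.iCycles j, z, ?_, ?_⟩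
  · simp only [Category.assoc, HomologicalComplex.iCycles_d, comp_zero]
  · simp only [Category.assoc, Preadditive.comp_sub, Preadditive.sub_comp,
      HomologicalComplex.cyclesMap_i, hlc] at hz'
    simp only [Category.assoc]
    rw [← hz']
    abel

end Cx

section Fil

variable (K : FilCx A)

lemma filX_le (n : ℤ) {p q : ℤ} (h : p ≤ q) : K.filX q n ≤ K.filX p n := K.filX_anti n h

lemma fil_d_zero (q j k : ℤ) {T : A} (t : T ⟶ (K.fil q : CochainComplex A ℤ).X j)
    (h : (t ≫ (K.fil q).arrow.f j) ≫ K.obj.d j k = 0) :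
    t ≫ (K.fil q : CochainComplex A ℤ).d j k = 0 := by
  rw [← cancel_mono ((K.fil q).arrow.f k), Category.assoc, ← HomologicalComplex.Hom.comm,
    ← Category.assoc, h, zero_comp]

lemma AS_factors_iff' (r : ℕ) (p n q : ℤ) (hq : q = p + r) {T : A} (x : T ⟶ K.obj.X n) :
    (AS K r p n).Factors x ↔ (K.filX p n).Factors x ∧
      (K.filX q (n + 1)).Factors (x ≫ K.obj.d n (n + 1)) := by
  subst hq
  exact AS_factors_iff K r p n x

lemma BSub_eq' (r : ℕ) (p n q : ℤ) (hq : q = p - r + 1) : K.BSub r p n =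
    (K.filX p n ⊓ img (K.obj.d (n - 1) n) (K.filX q (n - 1))) ⊔ K.filX (p + 1) n := by
  subst hq
  rfl

/-- if `H^j(F^q) = 0`, cocycles in `F^q K^j` are boundaries of elements of `F^q K^i` -/
lemma img_factors_of_isZero (q i j k : ℤ) (hij : i + 1 = j) (hjk : j + 1 = k)
    (h : IsZero ((K.fil q : CochainComplex A ℤ).homology j)) {T : A} (u : T ⟶ K.obj.X j)
    (hu : (K.filX q j).Factors u) (hud : u ≫ K.obj.d j k = 0) :
    (img (K.obj.d i j) (K.filX q i)).Factors u := by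
  obtain ⟨t, ht⟩ := (filX_factors_iff K q j u).1 hu
  have htd : t ≫ (K.fil q : CochainComplex A ℤ).d j k = 0 := by
    apply fil_d_zero
    rw [ht]
    exact hud
  obtain ⟨T', π, hπ, z, hz⟩ := bdry_of_isZero _ i j k hij hjk h t htd
  apply factors_of_epi_comp π
  have e : π ≫ u = (z ≫ (K.fil q).arrow.f i) ≫ K.obj.d i j := by
    rw [← ht, ← Category.assoc, hz]
    simp only [Category.assoc]
    rw [HomologicalComplex.Hom.comm]
  rw [e]
  exact img_factors _ _ _ ((filX_factors_iff K q i _).2 ⟨z, rfl⟩)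

/-- if `H^j(F^q) → H^j(K)` is mono, elements of `F^q K^j` which are boundaries in `K` are
boundaries of elements of `F^q K^i` -/
lemma img_factors_of_mono (q i j k : ℤ) (hij : i + 1 = j) (hjk : j + 1 = k)
    (hm : Mono (HomologicalComplex.homologyMap (K.fil q).arrow j)) {T : A} (u : T ⟶ K.obj.X j)
    (hu : (K.filX q j).Factors u) (hub : (imageSubobject (K.obj.d i j)).Factors u) :
    (img (K.obj.d i j) (K.filX q i)).Factors u := by
  obtain ⟨T₁, π₁, hπ₁, z, hz⟩ := refine_image _ u hub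
  obtain ⟨t, ht⟩ := (filX_factors_iff K q j _).1
    (Subobject.factors_of_factors_right π₁ hu)
  have htd : t ≫ (K.fil q : CochainComplex A ℤ).d j k = 0 := by
    apply fil_d_zero
    rw [ht, hz, Category.assoc, K.obj.d_comp_d, comp_zero]
  obtain ⟨T₂, π₂, hπ₂, z', hz'⟩ := bdry_of_mono (K.fil q).arrow i j k hij hjk hm t htd z
    (by rw [ht, hz])
  apply factors_of_epi_comp (π₂ ≫ π₁)
  have e : (π₂ ≫ π₁) ≫ u = (z' ≫ (K.fil q).arrow.f i) ≫ K.obj.d i j := by
    rw [Category.assoc π₂ π₁ u, ← ht, ← Category.assoc π₂ t _, hz']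
    simp only [Category.assoc]
    rw [HomologicalComplex.Hom.comm]
  rw [e]
  exact img_factors _ _ _ ((filX_factors_iff K q i _).2 ⟨z', rfl⟩)

lemma kill_d_of_img {q i j : ℤ} {T : A} (x : T ⟶ K.obj.X i)
    (h : (img (K.obj.d i j) (K.filX q i)).Factors (x ≫ K.obj.d i j)) :
    ∃ (T' : A) (π : T' ⟶ T) (_ : Epi π) (y : T' ⟶ K.obj.X i),
      (K.filX q i).Factors y ∧ (π ≫ x - y) ≫ K.obj.d i j = 0 := by
  obtain ⟨T', π, hπ, s, hs, hsx⟩ := refine_img _ _ _ h
  refine ⟨T', π, hπ, s, hs, ?_⟩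
  rw [Preadditive.sub_comp, Category.assoc, hsx, sub_self]

lemma ZTop_le_ZSub (r : ℕ) (p n : ℤ) : K.ZTop p n ≤ K.ZSub r p n := by
  unfold FilCx.ZTop FilCx.ZSub
  exact sup_le_sup_right (inf_le_inf_left _ (kernelSubobject_le_pullback _ _)) _

lemma ZSub_le_ZTop (r : ℕ) (hr : 1 ≤ r) (p n : ℤ)
    (h : IsZero ((K.fil (p + r) : CochainComplex A ℤ).homology (n + 1))) :
    K.ZSub r p n ≤ K.ZTop p n := by
  rw [ZSub_eq]
  apply sup_le
  · apply le_of_forall_factors
    intro T x hx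
    rw [AS_factors_iff] at hx
    obtain ⟨hx1, hx2⟩ := hx
    have hxd : (img (K.obj.d n (n + 1)) (K.filX (p + r) n)).Factors (x ≫ K.obj.d n (n + 1)) :=
      img_factors_of_isZero K (p + r) n (n + 1) (n + 1 + 1) rfl rfl h _ hx2
        (by rw [Category.assoc, K.obj.d_comp_d, comp_zero])
    obtain ⟨T', π, hπ, y, hy, hyd⟩ := kill_d_of_img K x hxd
    apply factors_of_epi_comp π
    have hdecomp : π ≫ x = (π ≫ x - y) + y := (sub_add_cancel _ _).symm
    rw [hdecomp]
    unfold FilCx.ZTop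
    apply sup_factors_add
    · rw [Subobject.inf_factors]
      have hy' : (K.filX p n).Factors y :=
        Subobject.factors_of_le _ (filX_le K n (by omega)) hy
      exact ⟨factors_sub _ _ (Subobject.factors_of_factors_right _ hx1) hy',
        kernelSubobject_factors _ _ hyd⟩
    · exact Subobject.factors_of_le _ (filX_le K n (by omega)) hy
  · unfold FilCx.ZTop
    exact le_sup_right

lemma ZSub_eq_ZTop (r : ℕ) (hr : 1 ≤ r) (p n : ℤ)
    (h : IsZero ((K.fil (p + r) : CochainComplex A ℤ).homology (n + 1))) :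
    K.ZSub r p n = K.ZTop p n :=
  le_antisymm (ZSub_le_ZTop K r hr p n h) (ZTop_le_ZSub K r p n)

lemma BSub_le_BBot (r : ℕ) (p n : ℤ) : K.BSub r p n ≤ K.BBot p n := by
  unfold FilCx.BSub FilCx.BBot
  exact sup_le_sup_right (inf_le_inf_left _ (imageSubobject_comp_le _ _)) _

lemma BBot_le_BSub (r : ℕ) (p n : ℤ) (hr : 1 ≤ r)
    (hm : Mono (HomologicalComplex.homologyMap (K.fil (p - r + 1)).arrow n)) :
    K.BBot p n ≤ K.BSub r p n := by
  rw [BSub_eq]
  unfold FilCx.BBot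
  apply sup_le_sup_right
  apply le_of_forall_factors
  intro T x hx
  rw [Subobject.inf_factors] at hx ⊢
  obtain ⟨hx1, hx2⟩ := hx
  refine ⟨hx1, ?_⟩
  exact img_factors_of_mono K (p - r + 1) (n - 1) n (n + 1) (by omega) rfl hm x
    (Subobject.factors_of_le _ (filX_le K n (by omega)) hx1) hx2

lemma E1_le_large (p n : ℤ) (hz0 : IsZero ((K.fil p : CochainComplex A ℤ).homology n))
    (hz1 : IsZero ((K.fil (p + 1) : CochainComplex A ℤ).homology (n + 1))) :
    K.ZSub 1 p n ≤ K.BSub 1 p n := by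
  rw [ZSub_eq]
  apply sup_le _ (le_BSub K 1 p n)
  apply le_of_forall_factors
  intro T x hx
  rw [AS_factors_iff' K 1 p n (p + 1) (by norm_num)] at hx
  obtain ⟨hx1, hx2⟩ := hx
  rw [BSub_eq' K 1 p n p (by norm_num)]
  have hxd : (img (K.obj.d n (n + 1)) (K.filX (p + 1) n)).Factors (x ≫ K.obj.d n (n + 1)) :=
    img_factors_of_isZero K (p + 1) n (n + 1) (n + 1 + 1) rfl rfl hz1 _ hx2
      (by rw [Category.assoc, K.obj.d_comp_d, comp_zero])
  obtain ⟨T₁, π₁, hπ₁, y, hy, hyd⟩ := kill_d_of_img K x hxd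
  apply factors_of_epi_comp π₁
  have hy' : (K.filX p n).Factors y := Subobject.factors_of_le _ (filX_succ_le K p n) hy
  have hu : (K.filX p n).Factors (π₁ ≫ x - y) :=
    factors_sub _ _ (Subobject.factors_of_factors_right _ hx1) hy'
  have hub := img_factors_of_isZero K p (n - 1) n (n + 1) (by omega) rfl hz0 _ hu hyd
  have hdecomp : π₁ ≫ x = (π₁ ≫ x - y) + y := (sub_add_cancel _ _).symm
  rw [hdecomp]
  apply sup_factors_add
  · rw [Subobject.inf_factors]
    exact ⟨hu, hub⟩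
  · exact hy

lemma E1_le_small (p n : ℤ)
    (m1 : Mono (HomologicalComplex.homologyMap (K.fil (p + 1)).arrow (n + 1)))
    (e0 : Epi (HomologicalComplex.homologyMap (K.fil (p + 1)).arrow n))
    (m0 : Mono (HomologicalComplex.homologyMap (K.fil p).arrow n)) :
    K.ZSub 1 p n ≤ K.BSub 1 p n := by
  rw [ZSub_eq]
  apply sup_le _ (le_BSub K 1 p n)
  apply le_of_forall_factors
  intro T x hx
  rw [AS_factors_iff' K 1 p n (p + 1) (by norm_num)] at hx
  obtain ⟨hx1, hx2⟩ := hx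
  rw [BSub_eq' K 1 p n p (by norm_num)]
  have hxd : (img (K.obj.d n (n + 1)) (K.filX (p + 1) n)).Factors (x ≫ K.obj.d n (n + 1)) :=
    img_factors_of_mono K (p + 1) n (n + 1) (n + 1 + 1) rfl rfl m1 _ hx2
      (imageSubobject_factors_comp_self _ _)
  obtain ⟨T₁, π₁, hπ₁, y, hy, hyd⟩ := kill_d_of_img K x hxd
  have hy' : (K.filX p n).Factors y := Subobject.factors_of_le _ (filX_succ_le K p n) hy
  have hu : (K.filX p n).Factors (π₁ ≫ x - y) :=
    factors_sub _ _ (Subobject.factors_of_factors_right _ hx1) hy'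
  obtain ⟨T₂, π₂, hπ₂, w, z, hwd, hwz⟩ :=
    decomp_of_epi (K.fil (p + 1)).arrow (n - 1) n (n + 1) (by omega) rfl e0 (π₁ ≫ x - y) hyd
  have hv : z ≫ K.obj.d (n - 1) n =
      π₂ ≫ (π₁ ≫ x - y) - w ≫ (K.fil (p + 1)).arrow.f n := by
    rw [hwz, add_sub_cancel_left]
  have hw' : (K.filX (p + 1) n).Factors (w ≫ (K.fil (p + 1)).arrow.f n) :=
    (filX_factors_iff K (p + 1) n _).2 ⟨w, rfl⟩
  have hvF : (K.filX p n).Factors (z ≫ K.obj.d (n - 1) n) := by
    rw [hv]
    exact factors_sub _ _ (Subobject.factors_of_factors_right _ hu)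
      (Subobject.factors_of_le _ (filX_succ_le K p n) hw')
  have hvB : (img (K.obj.d (n - 1) n) (K.filX p (n - 1))).Factors (z ≫ K.obj.d (n - 1) n) :=
    img_factors_of_mono K p (n - 1) n (n + 1) (by omega) rfl m0 _ hvF
      (imageSubobject_factors_comp_self _ _)
  apply factors_of_epi_comp (π₂ ≫ π₁)
  have hdecomp : (π₂ ≫ π₁) ≫ x =
      z ≫ K.obj.d (n - 1) n + (w ≫ (K.fil (p + 1)).arrow.f n + π₂ ≫ y) := by
    rw [hv, Category.assoc, Preadditive.comp_sub]
    abel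
  rw [hdecomp]
  apply sup_factors_add
  · rw [Subobject.inf_factors]
    exact ⟨hvF, hvB⟩
  · exact Subobject.factors_add _ _ hw' (Subobject.factors_of_factors_right _ hy)

lemma E1_isZero (p n : ℤ) (h : K.ZSub 1 p n ≤ K.BSub 1 p n) : IsZero (K.E 1 p n) :=
  isZero_subquot _ _ _ h

lemma filH_eq_bot_of_isZero (p n : ℤ)
    (h : IsZero ((K.fil p : CochainComplex A ℤ).homology n)) : K.filH p n = ⊥ := by
  unfold FilCx.filH
  exact imageSubobject_eq_bot_of_eq_zero _ (h.eq_of_src _ _)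

lemma filH_eq_top_of_epi (p n : ℤ)
    (h : Epi (HomologicalComplex.homologyMap (K.fil p).arrow n)) : K.filH p n = ⊤ := by
  haveI := h
  unfold FilCx.filH
  exact imageSubobject_eq_top_of_epi _

theorem main
    (h0 : ∀ n : ℤ, ∃ p₀ : ℤ, ∀ p : ℤ, p₀ ≤ p →
      IsZero ((K.fil p : CochainComplex A ℤ).homology n))
    (h1 : ∀ n : ℤ, ∃ p₁ : ℤ, ∀ p : ℤ, p ≤ p₁ →
      IsIso (HomologicalComplex.homologyMap (K.fil p).arrow n)) :
    K.IsBounded 1 ∧ (∀ n : ℤ, (K.HFil n).IsFinite) ∧ K.Converges := by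
  have hmono : ∀ {p n : ℤ}, IsIso (HomologicalComplex.homologyMap (K.fil p).arrow n) →
      Mono (HomologicalComplex.homologyMap (K.fil p).arrow n) := fun h => by
    haveI := h; infer_instance
  have hepi : ∀ {p n : ℤ}, IsIso (HomologicalComplex.homologyMap (K.fil p).arrow n) →
      Epi (HomologicalComplex.homologyMap (K.fil p).arrow n) := fun h => by
    haveI := h; infer_instance
  have hfin : ∀ n : ℤ, (K.HFil n).IsFinite := by
    intro n
    obtain ⟨p₀, hp₀⟩ := h0 n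
    obtain ⟨p₁, hp₁⟩ := h1 n
    exact ⟨⟨p₁, filH_eq_top_of_epi K p₁ n (hepi (hp₁ p₁ le_rfl))⟩,
      ⟨p₀, filH_eq_bot_of_isZero K p₀ n (hp₀ p₀ le_rfl)⟩⟩
  refine ⟨?_, hfin, ?_, ⟨?_, ?_⟩, ?_⟩
  · intro n
    obtain ⟨a₀, ha₀⟩ := h0 n
    obtain ⟨a₁, ha₁⟩ := h0 (n + 1)
    obtain ⟨b₀, hb₀⟩ := h1 n
    obtain ⟨b₁, hb₁⟩ := h1 (n + 1)
    apply Set.Finite.subset (Set.finite_Icc (min b₀ b₁) (max a₀ a₁))
    intro p hp
    simp only [Set.mem_setOf_eq] at hp
    rw [Set.mem_Icc]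
    constructor
    · by_contra hlt
      apply hp
      apply E1_isZero
      exact E1_le_small K p n (hmono (hb₁ (p + 1) (by omega))) (hepi (hb₀ (p + 1) (by omega)))
        (hmono (hb₀ p (by omega)))
    · by_contra hlt
      apply hp
      apply E1_isZero
      exact E1_le_large K p n (ha₀ p (by omega)) (ha₁ (p + 1) (by omega))
  · intro p n
    obtain ⟨a₁, ha₁⟩ := h0 (n + 1)
    refine ⟨(a₁ - p).toNat + 1, fun r hr => ?_⟩
    rw [ZSub_eq_ZTop K r (by omega) p n (ha₁ _ (by omega)),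
      ZSub_eq_ZTop K ((a₁ - p).toNat + 1) (by omega) p n (ha₁ _ (by push_cast; omega))]
  · intro p n
    constructor
    · obtain ⟨a₁, ha₁⟩ := h0 (n + 1)
      constructor
      · rintro _ ⟨r, rfl⟩
        exact ZTop_le_ZSub K r p n
      · intro S hS
        have hS' : S ≤ K.ZSub ((a₁ - p).toNat + 1) p n := hS ⟨(a₁ - p).toNat + 1, rfl⟩
        rw [← ZSub_eq_ZTop K ((a₁ - p).toNat + 1) (by omega) p n
          (ha₁ _ (by push_cast; omega))]
        exact hS'
    · obtain ⟨b₀, hb₀⟩ := h1 n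
      constructor
      · rintro _ ⟨r, rfl⟩
        exact BSub_le_BBot K r p n
      · intro S hS
        have hS' : K.BSub ((p - b₀).toNat + 1) p n ≤ S := hS ⟨(p - b₀).toNat + 1, rfl⟩
        exact le_trans (BBot_le_BSub K ((p - b₀).toNat + 1) p n (by omega)
          (hmono (hb₀ _ (by push_cast; omega)))) hS'
  · intro n
    obtain ⟨⟨a, ha⟩, ⟨b, hb⟩⟩ := hfin n
    exact ⟨isSeparated_of_bot _ hb, isExhaustive_of_top _ ha⟩
  · intro n
    obtain ⟨_, ⟨b, hb⟩⟩ := hfin n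
    exact isComplete_of_bot _ hb

end Fil

end Groth.Agent.Lib.Helper16.SpReg
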