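import Mathlib
import Groth.Agent.Lib.Helper16.AlgSt.LocQSch
import Groth.Agent.Lib.Helper28.AlgSt.RepSch

/-!
# Points of a 2-fibre product `(Sch/U) ×_𝒵 Z` with `Z` an algebraic space

Formal plumbing for lifting statements along `f : Z ⟶ 𝒵`: a point of `Z` over `K ⟶ U` together with a
2-isomorphism to the restriction of `z : (Sch/U) ⟶ 𝒵` is a `K`-point of the space representing the fibre
product, and sections of that space over `U` give points of `Z` whose image is 2-isomorphic to `z`.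
-/

set_option autoImplicit false
set_option backward.isDefEq.respectTransparency false
set_option backward.isDefEq.respectTransparency.types false

universe u

open CategoryTheory CategoryTheory.Limits AlgebraicGeometry Opposite

namespace Groth.Agent.Lib.Helper16.StLift

open Groth.Agent.Lib.Helper10.Fib Groth.Agent.Lib.Helper10.StkPsh
open Groth.Agent.Lib.Helper10.AlgStRep
open Groth.Agent.Lib.Helper28.AlgSt.PshFun Groth.Agent.Lib.Helper28.AlgSt.PshPull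
open Groth.Agent.Lib.Helper28.AlgSt.ClsPsh Groth.Agent.Lib.Helper28.AlgSt.Bridge
open Groth.Agent.Lib.Helper28.AlgSt.Whisker Groth.Agent.Lib.Helper28.AlgSt.RepSch
open Groth.Agent.Lib.Helper28.AlgSt.ChartOver

variable {S : Scheme.{u}}

/-- Functors over the base between categories of presheaves with the same underlying map of
presheaves are 2-isomorphic. -/
def isoOfPshMapOfEq {P Q : (Over S)ᵒᵖ ⥤ Type (u + 1)} (G G' : Stk.ofPsh Q ⥤ᵇ Stk.ofPsh P)
    (h : pshMapOf G = pshMapOf G') : G ≅ G' :=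
  isoPshMapOf G ≪≫ eqToIso (by rw [h]) ≪≫ (isoPshMapOf G').symm

theorem core {𝒵 : AlgSt.Cat S} (Z : AlgSp.Space S) (f : AlgSt.ofSp Z.obj ⥤ᵇ 𝒵) {U K : Over S}
    (r : K ⟶ U) (z : FibCat.overCat U ⥤ᵇ 𝒵) (z₀ : (AlgSp.yon S).obj K ⟶ Z.obj)
    (w : BasedFunctor.comp (BasedFunctor.comp (AlgSt.ofOverCat K) (AlgSt.ofSpMap z₀)) f ≅
      BasedFunctor.comp (AlgSt.overMap r) z)
    (F : AlgSp.Space S) (e : AlgSt.ofSp F.obj ⥤ᵇ FibCat.fp z f) (he : FibCat.IsEquivOver e) :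
    ∃ (q : F.obj ⟶ Z.obj) (x₀ : (AlgSp.yon S).obj K ⟶ F.obj),
      x₀ ≫ AlgSt.spMapOfOver (BasedFunctor.comp e (FibCat.fpFst z f)) = (AlgSp.yon S).map r ∧
      x₀ ≫ q = z₀ ∧
      ∀ x' : (AlgSp.yon S).obj U ⟶ F.obj,
        x' ≫ AlgSt.spMapOfOver (BasedFunctor.comp e (FibCat.fpFst z f)) = 𝟙 _ →
        Nonempty (BasedFunctor.comp
          (BasedFunctor.comp (AlgSt.ofOverCat U) (AlgSt.ofSpMap (x' ≫ q))) f ≅ z) := by
  obtain ⟨e', ⟨η⟩, ⟨ε⟩⟩ := he
  obtain ⟨Φ, hΦ⟩ : ∃ Φ : AlgSt.ofSp F.obj ⥤ᵇ FibCat.overCat U,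
      Φ = BasedFunctor.comp e (FibCat.fpFst z f) := ⟨_, rfl⟩
  obtain ⟨Ψ, hΨ⟩ : ∃ Ψ : AlgSt.ofSp F.obj ⥤ᵇ AlgSt.ofSp Z.obj,
      Ψ = BasedFunctor.comp e (FibCat.fpSnd z f) := ⟨_, rfl⟩
  obtain ⟨L, hL⟩ : ∃ L : FibCat.overCat K ⥤ᵇ FibCat.fp z f,
      L = FibCat.fpLift (AlgSt.overMap r)
        (BasedFunctor.comp (AlgSt.ofOverCat K) (AlgSt.ofSpMap z₀)) w.symm := ⟨_, rfl⟩
  obtain ⟨X₀, hX₀⟩ : ∃ X₀ : AlgSt.ofSch K ⥤ᵇ AlgSt.ofSp F.obj,
      X₀ = BasedFunctor.comp (AlgSt.toOverCat K) (BasedFunctor.comp L e') := ⟨_, rfl⟩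
  rw [← hΦ]
  refine ⟨ObjectProperty.homMk (pshMapOf Ψ), ObjectProperty.homMk (pshMapOf X₀), ?_, ?_, ?_⟩
  · apply ObjectProperty.hom_ext
    show pshMapOf X₀ ≫ (AlgSt.spMapOfOver Φ).hom = ((AlgSp.yon S).map r).hom
    have h1 : pshMapOf X₀ ≫ (AlgSt.spMapOfOver Φ).hom =
        pshMapOf (BasedFunctor.comp X₀ (BasedFunctor.comp Φ (AlgSt.ofOverCat U))) := by
      rw [spMapOfOver_hom]
      exact (pshMapOf_comp _ _).symm
    have i1 : BasedFunctor.comp X₀ (BasedFunctor.comp Φ (AlgSt.ofOverCat U)) ≅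
        AlgSt.ofSpMap ((AlgSp.yon S).map r) := by
      rw [hX₀, hΦ]
      exact (show _ ≅ BasedFunctor.comp (BasedFunctor.comp (AlgSt.toOverCat K) L)
          (BasedFunctor.comp (BasedFunctor.comp e' e)
            (BasedFunctor.comp (FibCat.fpFst z f) (AlgSt.ofOverCat U))) from Iso.refl _) ≪≫
        wl _ (wr ε _) ≪≫
        (show _ ≅ BasedFunctor.comp (AlgSt.ofSpMap ((AlgSp.yon S).map r))
          (BasedFunctor.comp (AlgSt.toOverCat U) (AlgSt.ofOverCat U)) from by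
            rw [hL]; exact Iso.refl _) ≪≫
        wl _ (toOfIso U) ≪≫ (show _ ≅ _ from Iso.refl _)
    rw [h1, pshMapOf_congr i1.hom]
    exact pshMapOf_ofPshMap _
  · apply ObjectProperty.hom_ext
    show pshMapOf X₀ ≫ pshMapOf Ψ = z₀.hom
    rw [← pshMapOf_comp]
    have i : BasedFunctor.comp X₀ Ψ ≅ AlgSt.ofSpMap z₀ := by
      rw [hX₀, hΨ]
      exact (show _ ≅ BasedFunctor.comp (BasedFunctor.comp (AlgSt.toOverCat K) L)
          (BasedFunctor.comp (BasedFunctor.comp e' e) (FibCat.fpSnd z f)) from Iso.refl _) ≪≫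
        wl _ (wr ε _) ≪≫
        (show _ ≅ BasedFunctor.comp (BasedFunctor.comp (AlgSt.toOverCat K) (AlgSt.ofOverCat K))
          (AlgSt.ofSpMap z₀) from by rw [hL]; exact Iso.refl _) ≪≫
        wr (toOfIso K) _ ≪≫ (show _ ≅ _ from Iso.refl _)
    rw [pshMapOf_congr i.hom]
    exact pshMapOf_ofPshMap _
  · intro x' hx'
    have j1 : AlgSt.ofSpMap (x' ≫ (ObjectProperty.homMk (pshMapOf Ψ) : F.obj ⟶ Z.obj)) ≅
        BasedFunctor.comp (AlgSt.ofSpMap x') Ψ :=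
      (ofPshMapCompIso x'.hom (pshMapOf Ψ)).symm ≪≫ wl _ (isoPshMapOf Ψ).symm
    have hG : pshMapOf (BasedFunctor.comp (AlgSt.ofSpMap x')
        (BasedFunctor.comp Φ (AlgSt.ofOverCat U))) =
        pshMapOf (BasedFunctor.id (AlgSt.ofSch U)) := by
      rw [pshMapOf_comp, pshMapOf_ofPshMap, ← spMapOfOver_hom, pshMapOf_id]
      exact congrArg (fun t => t.hom) hx'
    have j2 : BasedFunctor.comp (AlgSt.ofSpMap x') (BasedFunctor.comp Φ (AlgSt.ofOverCat U)) ≅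
        BasedFunctor.id (AlgSt.ofSch U) := isoOfPshMapOfEq _ _ hG
    have j3 : BasedFunctor.comp (AlgSt.ofOverCat U) (BasedFunctor.comp (AlgSt.ofSpMap x') Φ) ≅
        BasedFunctor.id (FibCat.overCat U) :=
      (show _ ≅ BasedFunctor.comp (BasedFunctor.comp (AlgSt.ofOverCat U)
          (BasedFunctor.comp (AlgSt.ofSpMap x') Φ)) (BasedFunctor.id _) from Iso.refl _) ≪≫
      wl _ (ofToIso U).symm ≪≫
      (show _ ≅ BasedFunctor.comp (AlgSt.ofOverCat U) (BasedFunctor.comp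
          (BasedFunctor.comp (AlgSt.ofSpMap x') (BasedFunctor.comp Φ (AlgSt.ofOverCat U)))
          (AlgSt.toOverCat U)) from Iso.refl _) ≪≫
      wl _ (wr j2 _) ≪≫
      (show _ ≅ BasedFunctor.comp (AlgSt.ofOverCat U) (AlgSt.toOverCat U) from Iso.refl _) ≪≫
      ofToIso U
    refine ⟨?_⟩
    subst hΦ hΨ
    exact wr (wl (AlgSt.ofOverCat U) j1) f ≪≫
      (show _ ≅ BasedFunctor.comp (BasedFunctor.comp (AlgSt.ofOverCat U)
          (BasedFunctor.comp (AlgSt.ofSpMap x') e))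
          (BasedFunctor.comp (FibCat.fpSnd z f) f) from Iso.refl _) ≪≫
      wl _ (FibCat.fpIso z f).symm ≪≫
      (show _ ≅ BasedFunctor.comp (BasedFunctor.comp (AlgSt.ofOverCat U)
          (BasedFunctor.comp (AlgSt.ofSpMap x') (BasedFunctor.comp e (FibCat.fpFst z f)))) z from
        Iso.refl _) ≪≫
      wr j3 z ≪≫ (show _ ≅ z from Iso.refl _)

end Groth.Agent.Lib.Helper16.StLift
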