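import Groth.Agent.S0084
import Mathlib.AlgebraicGeometry.Morphisms.Etale
import Mathlib.AlgebraicGeometry.Morphisms.FormallyUnramified
import Mathlib.AlgebraicGeometry.Morphisms.UniversallyOpen
import Mathlib.AlgebraicGeometry.PullbackCarrier
import Mathlib.AlgebraicGeometry.ResidueField
import Mathlib.AlgebraicGeometry.Limits
import Mathlib.AlgebraicGeometry.Morphisms.Proper

/-!
# Helper library (helper16): geometric degree strata of an etale separated morphism of schemes
-/

set_option autoImplicit false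
universe u
open CategoryTheory CategoryTheory.Limits AlgebraicGeometry

namespace Groth.Agent.Lib.Helper16.Strata

/-- The fibre of `s` over `u` has at least `d` geometric points: over some field-valued point above `u` there are
`d` distinct lifts. -/
def HasDeg {R U : Scheme.{u}} (s : R ⟶ U) (u : ↥U) (d : ℕ) : Prop :=
  ∃ (K : Type u) (_ : Field K) (x : Spec (CommRingCat.of K) ⟶ U)
    (r : Fin d → (Spec (CommRingCat.of K) ⟶ R)),
    x (IsLocalRing.closedPoint K) = u ∧ (∀ i, r i ≫ s = x) ∧ Function.Injective r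

variable {R U : Scheme.{u}} (s : R ⟶ U)

theorem hasDeg_zero (u : ↥U) : HasDeg s u 0 := by
  refine ⟨U.residueField u, inferInstance, U.fromSpecResidueField u, Fin.elim0, ?_, fun i => i.elim0,
    fun i => i.elim0⟩
  exact U.fromSpecResidueField_apply u _

theorem HasDeg.of_le {u : ↥U} {d d' : ℕ} (h : HasDeg s u d) (hle : d' ≤ d) : HasDeg s u d' := by
  obtain ⟨K, _, x, r, hx, hr, hinj⟩ := h
  exact ⟨K, inferInstance, x, r ∘ Fin.castLE hle, hx, fun i => hr _,
    hinj.comp (Fin.castLE_injective hle)⟩

theorem hasDeg_one_iff (u : ↥U) : HasDeg s u 1 ↔ u ∈ Set.range s := by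
  constructor
  · rintro ⟨K, _, x, r, hx, hr, -⟩
    refine ⟨r 0 (IsLocalRing.closedPoint K), ?_⟩
    rw [← Scheme.Hom.comp_apply, hr 0, hx]
  · rintro ⟨r₀, rfl⟩
    refine ⟨R.residueField r₀, inferInstance, R.fromSpecResidueField r₀ ≫ s,
      fun _ => R.fromSpecResidueField r₀, ?_, fun _ => rfl, fun i j _ => Subsingleton.elim i j⟩
    rw [Scheme.Hom.comp_apply, R.fromSpecResidueField_apply]

/-- Compositum: a field-valued point of `U` over `g z` lifts, after a field extension, to one of `Z` at `z`. -/
theorem exists_field_lift {Z : Scheme.{u}} (g : Z ⟶ U) (z : ↥Z) {K : Type u} [Field K]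
    (x : Spec (CommRingCat.of K) ⟶ U) (hx : x (IsLocalRing.closedPoint K) = g z) :
    ∃ (K' : Type u) (_ : Field K') (π : Spec (CommRingCat.of K') ⟶ Spec (CommRingCat.of K))
      (y : Spec (CommRingCat.of K') ⟶ Z),
      y (IsLocalRing.closedPoint K') = z ∧ y ≫ g = π ≫ x := by
  let g' : Spec (Z.residueField z) ⟶ U := Z.fromSpecResidueField z ≫ g
  have h0 : x (IsLocalRing.closedPoint K) = g' (IsLocalRing.closedPoint (Z.residueField z)) := by
    rw [hx, Scheme.Hom.comp_apply, Z.fromSpecResidueField_apply]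
  obtain ⟨w, -, -⟩ := Scheme.Pullback.exists_preimage_pullback (f := x) (g := g') _ _ h0
  refine ⟨(pullback x g').residueField w, inferInstance,
    (pullback x g').fromSpecResidueField w ≫ pullback.fst x g',
    (pullback x g').fromSpecResidueField w ≫ pullback.snd x g' ≫ Z.fromSpecResidueField z, ?_, ?_⟩
  · rw [Scheme.Hom.comp_apply, Scheme.Hom.comp_apply, Z.fromSpecResidueField_apply]
  · rw [Category.assoc, Category.assoc, Category.assoc, pullback.condition]

/-- Field extensions are epimorphisms of schemes. -/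
theorem cancel_field_epi {K K' : Type u} [Field K] [Field K']
    (π : Spec (CommRingCat.of K') ⟶ Spec (CommRingCat.of K)) {Z : Scheme.{u}}
    {r₁ r₂ : Spec (CommRingCat.of K) ⟶ Z} (h : π ≫ r₁ = π ≫ r₂) : r₁ = r₂ := by
  have hs : Surjective π := ⟨fun y => ⟨IsLocalRing.closedPoint K', Subsingleton.elim _ _⟩⟩
  have : Epi π := Flat.epi_of_flat_of_surjective π
  exact (cancel_epi π).1 h


section OffDiag

variable [IsSeparated s]

/-- The complement of the diagonal in `R ×_U R`. -/
noncomputable def offDiag : (pullback s s).Opens :=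
  ⟨(Set.range (pullback.diagonal s))ᶜ, (pullback.diagonal s).isClosedEmbedding.isClosed_range.isOpen_compl⟩

/-- `R' = R ×_U R ∖ Δ`. -/
noncomputable abbrev R' : Scheme.{u} := (offDiag s).toScheme

/-- The first projection `R' ⟶ R`. -/
noncomputable def s' : R' s ⟶ R := (offDiag s).ι ≫ pullback.fst s s

instance [Etale s] : Etale (s' s) := by unfold s'; infer_instance

instance : IsSeparated (s' s) := by unfold s'; infer_instance

theorem mem_offDiag_iff (q : ↥(pullback s s)) : q ∈ offDiag s ↔ q ∉ Set.range (pullback.diagonal s) := Iff.rfl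

theorem exists_lift_offDiag [Etale s] {K : Type u} [Field K] (y z : Spec (CommRingCat.of K) ⟶ R)
    (h : y ≫ s = z ≫ s) (hne : y ≠ z) :
    ∃ w : Spec (CommRingCat.of K) ⟶ R' s, w ≫ (offDiag s).ι = pullback.lift y z h := by
  have hsub : Set.range (pullback.lift y z h) ⊆ Set.range (offDiag s).ι := by
    rw [Scheme.Opens.range_ι]
    rintro _ ⟨q, rfl⟩
    intro hq
    apply hne
    have hsub' : Set.range (pullback.lift y z h) ⊆ Set.range (pullback.diagonal s) := by
      rintro _ ⟨q', rfl⟩
      rwa [Subsingleton.elim q' q]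
    have e := IsOpenImmersion.lift_fac (pullback.diagonal s) (pullback.lift y z h) hsub'
    have e1 := congrArg (· ≫ pullback.fst s s) e
    have e2 := congrArg (· ≫ pullback.snd s s) e
    simp only [Category.assoc, pullback.diagonal_fst, pullback.diagonal_snd, Category.comp_id,
      pullback.lift_fst, pullback.lift_snd] at e1 e2
    exact e1.symm.trans e2
  exact ⟨IsOpenImmersion.lift (offDiag s).ι _ hsub, IsOpenImmersion.lift_fac _ _ _⟩

theorem hasDeg_succ_of_hasDeg_s' (r : ↥R) (d : ℕ) (h : HasDeg (s' s) r d) : HasDeg s (s r) (d + 1) := by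
  obtain ⟨K, _, y, r', hy, hr', hinj⟩ := h
  have hfst : ∀ i, r' i ≫ (offDiag s).ι ≫ pullback.fst s s = y := hr'
  refine ⟨K, inferInstance, y ≫ s, Fin.cons y (fun i => r' i ≫ (offDiag s).ι ≫ pullback.snd s s), ?_, ?_, ?_⟩
  · rw [Scheme.Hom.comp_apply, hy]
  · intro i
    refine Fin.cases rfl (fun j => ?_) i
    rw [Fin.cons_succ, Category.assoc, Category.assoc, ← pullback.condition, ← Category.assoc,
      ← Category.assoc, Category.assoc (r' j), hfst]
  · rw [Fin.cons_injective_iff]
    constructor
    · rintro ⟨i, hi⟩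
      replace hi : r' i ≫ (offDiag s).ι ≫ pullback.snd s s = y := hi
      have hi' : r' i ≫ (offDiag s).ι = y ≫ pullback.diagonal s := by
        apply pullback.hom_ext
        · rw [Category.assoc, hfst, Category.assoc, pullback.diagonal_fst, Category.comp_id]
        · rw [Category.assoc, hi, Category.assoc, pullback.diagonal_snd, Category.comp_id]
      have hmem : (offDiag s).ι (r' i (IsLocalRing.closedPoint K)) ∈ offDiag s := by
        have := Set.mem_range_self (f := (offDiag s).ι) (r' i (IsLocalRing.closedPoint K))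
        rwa [Scheme.Opens.range_ι] at this
      apply hmem
      refine ⟨y (IsLocalRing.closedPoint K), ?_⟩
      rw [← Scheme.Hom.comp_apply, ← Scheme.Hom.comp_apply, hi']
    · intro i j hij
      apply hinj
      rw [← cancel_mono (offDiag s).ι]
      apply pullback.hom_ext
      · rw [Category.assoc, Category.assoc, hfst, hfst]
      · simpa only [Category.assoc] using hij

theorem hasDeg_s'_of_hasDeg_succ [Etale s] (r : ↥R) (d : ℕ) (h : HasDeg s (s r) (d + 1)) :
    HasDeg (s' s) r d := by
  obtain ⟨K, _, x, ρ, hx, hρ, hinj⟩ := h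
  obtain ⟨K', _, π, y, hy, hyx⟩ := exists_field_lift s r x hx
  have hz : ∀ i, (π ≫ ρ i) ≫ s = y ≫ s := fun i => by rw [Category.assoc, hρ, hyx]
  have hzinj : Function.Injective fun i => π ≫ ρ i := fun i j hij => hinj (cancel_field_epi π hij)
  obtain ⟨e, heinj, he⟩ : ∃ e : Fin d → Fin (d + 1), Function.Injective e ∧ ∀ j, π ≫ ρ (e j) ≠ y := by
    by_cases hex : ∃ i₀, π ≫ ρ i₀ = y
    · obtain ⟨i₀, hi₀⟩ := hex
      refine ⟨i₀.succAbove, Fin.succAbove_right_injective, fun j hj => ?_⟩
      exact Fin.succAbove_ne i₀ j (hzinj (hj.trans hi₀.symm))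
    · exact ⟨Fin.succ, Fin.succ_injective _, fun j hj => hex ⟨_, hj⟩⟩
  have hw : ∀ j, ∃ w : Spec (CommRingCat.of K') ⟶ R' s,
      w ≫ (offDiag s).ι = pullback.lift y (π ≫ ρ (e j)) (hz (e j)).symm :=
    fun j => exists_lift_offDiag s y _ _ (he j).symm
  choose w hw using hw
  refine ⟨K', inferInstance, y, w, hy, fun j => ?_, fun j k hjk => ?_⟩
  · change w j ≫ (offDiag s).ι ≫ pullback.fst s s = y
    rw [← Category.assoc, hw, pullback.lift_fst]
  · have h1 := congrArg (· ≫ (offDiag s).ι ≫ pullback.snd s s) hjk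
    simp only [← Category.assoc] at h1
    rw [hw, hw, pullback.lift_snd, pullback.lift_snd] at h1
    exact heinj (hzinj h1)

end OffDiag


theorem setOf_hasDeg_succ [IsSeparated s] [Etale s] (d : ℕ) :
    {u | HasDeg s u (d + 1)} = s '' {r | HasDeg (s' s) r d} := by
  ext u
  constructor
  · rintro ⟨K, _, x, ρ, hx, hρ, hinj⟩
    refine ⟨ρ 0 (IsLocalRing.closedPoint K), ?_, ?_⟩
    · apply hasDeg_s'_of_hasDeg_succ
      refine ⟨K, inferInstance, x, ρ, ?_, hρ, hinj⟩
      rw [← Scheme.Hom.comp_apply, hρ 0]
    · rw [← Scheme.Hom.comp_apply, hρ 0, hx]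
  · rintro ⟨r, hr, rfl⟩
    exact hasDeg_succ_of_hasDeg_s' s r d hr

/-- The locus where the fibre has at least `d` geometric points is open. -/
theorem isOpen_setOf_hasDeg (d : ℕ) : ∀ {R U : Scheme.{u}} (s : R ⟶ U) [Etale s] [IsSeparated s],
    IsOpen {u | HasDeg s u d} := by
  induction d with
  | zero =>
    intro R U s _ _
    convert isOpen_univ
    ext u
    simp only [Set.mem_setOf_eq, Set.mem_univ, iff_true]
    exact hasDeg_zero s u
  | succ d ih =>
    intro R U s _ _
    rw [setOf_hasDeg_succ]
    exact s.isOpenMap _ (ih (s' s))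

/-- An etale separated morphism all of whose fibres have exactly `d` geometric points is finite. -/
theorem isFinite_of_forall_hasDeg (d : ℕ) : ∀ {R U : Scheme.{u}} (s : R ⟶ U) [Etale s] [IsSeparated s],
    (∀ u, HasDeg s u d ∧ ¬ HasDeg s u (d + 1)) → IsFinite s := by
  induction d with
  | zero =>
    intro R U s _ _ h
    have : IsEmpty ↥R := ⟨fun r => (h (s r)).2 ((hasDeg_one_iff s _).2 ⟨r, rfl⟩)⟩
    infer_instance
  | succ d ih =>
    intro R U s _ _ h
    have hs' : IsFinite (s' s) := ih (s' s) fun r =>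
      ⟨hasDeg_s'_of_hasDeg_succ s r d (h (s r)).1, fun h' => (h (s r)).2 (hasDeg_succ_of_hasDeg_s' s r _ h')⟩
    have hsurj : Surjective s := ⟨fun u => (hasDeg_one_iff s u).1 ((h u).1.of_le s (Nat.le_add_left 1 d))⟩
    have hcompl : IsCompl (pullback.diagonal s).opensRange (offDiag s).ι.opensRange := by
      have h2 : (offDiag s).ι.opensRange = offDiag s := Scheme.Opens.opensRange_ι _
      rw [h2]
      simp only [isCompl_iff, disjoint_iff, codisjoint_iff, ← TopologicalSpace.Opens.coe_inj]
      constructor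
      · ext q
        simp only [TopologicalSpace.Opens.coe_inf, Scheme.Hom.coe_opensRange, Set.mem_inter_iff,
          TopologicalSpace.Opens.coe_bot, Set.mem_empty_iff_false, iff_false, not_and]
        intro hq hq'
        exact hq' hq
      · ext q
        simp only [TopologicalSpace.Opens.coe_sup, Scheme.Hom.coe_opensRange, Set.mem_union,
          TopologicalSpace.Opens.coe_top, Set.mem_univ, iff_true]
        by_cases hq : q ∈ Set.range (pullback.diagonal s)
        · exact Or.inl hq
        · exact Or.inr hq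
    obtain ⟨H⟩ := nonempty_isColimit_binaryCofanMk_of_isCompl (pullback.diagonal s) (offDiag s).ι hcompl
    let e : R ⨿ R' s ≅ pullback s s := (colimit.isColimit _).coconePointUniqueUpToIso H
    have he : e.hom ≫ pullback.fst s s = coprod.desc (𝟙 R) (s' s) := by
      apply coprod.hom_ext
      · rw [← Category.assoc]
        have : coprod.inl ≫ e.hom = pullback.diagonal s :=
          (colimit.isColimit _).comp_coconePointUniqueUpToIso_hom H ⟨WalkingPair.left⟩
        rw [this, pullback.diagonal_fst, coprod.inl_desc]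
      · rw [← Category.assoc]
        have : coprod.inr ≫ e.hom = (offDiag s).ι :=
          (colimit.isColimit _).comp_coconePointUniqueUpToIso_hom H ⟨WalkingPair.right⟩
        rw [this, coprod.inr_desc]
        rfl
    have hfst : IsFinite (pullback.fst s s) := by
      have h1 : IsFinite (e.hom ≫ pullback.fst s s) := by rw [he]; infer_instance
      exact (MorphismProperty.cancel_left_of_respectsIso @IsFinite e.hom _).1 h1
    haveI : MorphismProperty.DescendsAlong @IsFinite
        (@Surjective ⊓ @Flat ⊓ @QuasiCompact : MorphismProperty Scheme.{u}) := Groth.Agent.S0084.result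
    exact MorphismProperty.of_isPullback_of_descendsAlong (P := @IsFinite)
      (Q := (@Surjective ⊓ @Flat ⊓ @LocallyOfFinitePresentation : MorphismProperty Scheme.{u}))
      (IsPullback.of_hasPullback s s) ⟨⟨hsurj, inferInstance⟩, inferInstance⟩ hfst


/-- The geometric degree is compatible with base change. -/
theorem hasDeg_snd_iff {Z : Scheme.{u}} (g : Z ⟶ U) (z : ↥Z) (d : ℕ) :
    HasDeg (pullback.snd s g) z d ↔ HasDeg s (g z) d := by
  constructor
  · rintro ⟨K, _, x, r, hx, hr, hinj⟩
    refine ⟨K, inferInstance, x ≫ g, fun i => r i ≫ pullback.fst s g, ?_, fun i => ?_, fun i j hij => ?_⟩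
    · rw [Scheme.Hom.comp_apply, hx]
    · rw [Category.assoc, pullback.condition, ← Category.assoc, hr]
    · apply hinj
      apply pullback.hom_ext hij
      rw [hr, hr]
  · rintro ⟨K, _, x, ρ, hx, hρ, hinj⟩
    obtain ⟨K', _, π, y, hy, hyx⟩ := exists_field_lift g z x hx
    have hc : ∀ i, (π ≫ ρ i) ≫ s = y ≫ g := fun i => by rw [Category.assoc, hρ, hyx]
    refine ⟨K', inferInstance, y, fun i => pullback.lift (π ≫ ρ i) y (hc i), hy,
      fun i => pullback.lift_snd _ _ _, fun i j hij => ?_⟩
    have h1 := congrArg (· ≫ pullback.fst s g) hij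
    simp only [pullback.lift_fst] at h1
    exact hinj (cancel_field_epi π h1)

/-- If the base change of `s` to `Z` is finite and `Z ⟶ U` is a topological embedding, then `s` is closed over
the image of `Z`. -/
theorem exists_isClosed_image_inter {Z : Scheme.{u}} (g : Z ⟶ U) (hg : Topology.IsInducing g)
    [IsFinite (pullback.snd s g)] (D : Set ↥R) (hD : IsClosed D) :
    ∃ E : Set ↥U, IsClosed E ∧ s '' (D ∩ s ⁻¹' Set.range g) = E ∩ Set.range g := by
  have hC : IsClosed ((pullback.snd s g) '' ((pullback.fst s g) ⁻¹' D)) :=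
    (pullback.snd s g).isClosedMap _ (hD.preimage (pullback.fst s g).continuous)
  obtain ⟨E, hE, hEC⟩ := hg.isClosed_iff.1 hC
  refine ⟨E, hE, ?_⟩
  ext u
  constructor
  · rintro ⟨r, ⟨hrD, z, hz⟩, rfl⟩
    refine ⟨?_, z, hz⟩
    obtain ⟨w, hw1, hw2⟩ := Scheme.Pullback.exists_preimage_pullback (f := s) (g := g) r z hz.symm
    have : z ∈ g ⁻¹' E := by
      rw [hEC]
      exact ⟨w, by simpa [hw1] using hrD, hw2⟩
    rw [← hz]
    exact this
  · rintro ⟨huE, z, rfl⟩
    have : z ∈ g ⁻¹' E := huE
    rw [hEC] at this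
    obtain ⟨w, hwD, rfl⟩ := this
    refine ⟨pullback.fst s g w, ⟨hwD, pullback.snd s g w, ?_⟩, ?_⟩
    · rw [← Scheme.Hom.comp_apply, ← Scheme.Hom.comp_apply, pullback.condition]
    · rw [← Scheme.Hom.comp_apply, ← Scheme.Hom.comp_apply, pullback.condition]

end Groth.Agent.Lib.Helper16.Strata
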