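import Groth.Statements.S12314

set_option autoImplicit false
universe u
open CategoryTheory CategoryTheory.Limits AlgebraicGeometry MonObj
open SGA7 AbDual

namespace Groth.Agent.Lib.Helper16.TateIsog

/-- A compatible `l`-power torsion sequence killed by `n > 0` is zero. -/
theorem seq_zero {G : Type*} [AddMonoid G] {l n : ℕ} (hl : l.Prime) (hn : 0 < n) (x : ℕ → G)
    (htor : ∀ m, l ^ m • x m = 0) (hc : ∀ m, l • x (m + 1) = x m) (hx : ∀ m, n • x m = 0) :
    ∀ m, x m = 0 := by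
  have iter : ∀ k m, l ^ k • x (m + k) = x m := by
    intro k
    induction k with
    | zero => intro m; simp
    | succ k ih =>
      intro m
      have e : m + (k + 1) = (m + k) + 1 := rfl
      rw [pow_succ, mul_nsmul', e, hc, ih]
  have key : ∀ M, l ^ n • x M = 0 := by
    intro M
    have h1 : addOrderOf (x M) ∣ n := addOrderOf_dvd_of_nsmul_eq_zero (hx M)
    have h2 : addOrderOf (x M) ∣ l ^ M := addOrderOf_dvd_of_nsmul_eq_zero (htor M)
    have h3 : addOrderOf (x M) ∣ Nat.gcd n (l ^ M) := Nat.dvd_gcd h1 h2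
    obtain ⟨j, _, hj⟩ := (Nat.dvd_prime_pow hl).1 (Nat.gcd_dvd_right n (l ^ M))
    have h4 : l ^ j ∣ n := hj ▸ Nat.gcd_dvd_left n (l ^ M)
    have h5 : j < n := lt_of_lt_of_le (Nat.lt_pow_self hl.one_lt) (Nat.le_of_dvd hn h4)
    have h6 : Nat.gcd n (l ^ M) ∣ l ^ n := hj ▸ pow_dvd_pow l h5.le
    exact addOrderOf_dvd_iff_nsmul_eq_zero.1 (dvd_trans h3 h6)
  intro m
  rw [← iter n m]
  exact key (m + n)

variable {S : Scheme.{u}} {A C : Over S} [GrpObj A] [IsCommMonObj A] [GrpObj C] [IsCommMonObj C]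
  {l : ℕ} {T : Over S}

theorem comp_pow_id (n : ℕ) (x : T ⟶ C) : x ≫ ((𝟙 C) ^ n) = x ^ n := by
  rw [MonObj.comp_pow, Category.comp_id]

theorem coe_nsmul_apply (n : ℕ) (z : TateMod C l T) (m : ℕ) :
    ((n • z : TateMod C l T) : ℕ → Additive (T ⟶ C)) m = n • (z : ℕ → Additive (T ⟶ C)) m := rfl

theorem tateMap_comp_pow (u : C ⟶ A) [IsMonHom u] (v : A ⟶ C) [IsMonHom v] (n : ℕ)
    (huv : u ≫ v = (𝟙 C) ^ n) (z : TateMod C l T) :
    tateMap v (tateMap u z) = n • z := by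
  apply TateMod.ext
  intro m
  rw [coe_nsmul_apply]
  show Additive.ofMul ((((z : ℕ → Additive (T ⟶ C)) m).toMul ≫ u) ≫ v) = _
  rw [Category.assoc, huv, comp_pow_id]
  rfl

theorem eq_zero_of_tateMap_eq_zero (hl : l.Prime) (u : C ⟶ A) [IsMonHom u] (v : A ⟶ C) [IsMonHom v]
    (n : ℕ) (hn : 0 < n) (huv : u ≫ v = (𝟙 C) ^ n) (z : TateMod C l T)
    (h : tateMap u z = 0) : z = 0 := by
  have h2 : n • z = 0 := by rw [← tateMap_comp_pow u v n huv z, h, map_zero]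
  apply TateMod.ext
  intro m
  have := seq_zero hl hn (z : ℕ → Additive (T ⟶ C)) z.torsion z.compat
    (fun m => by rw [← coe_nsmul_apply, h2]; rfl) m
  rw [this]
  rfl

section Gal

variable {K : Type u} [Field K] {Ω : Type u} [Field Ω] [Algebra K Ω]
  {A C : Over (Spec (CommRingCat.of K))} [GrpObj A] [IsCommMonObj A] [GrpObj C] [IsCommMonObj C]
  {l : ℕ}

theorem fixed_tateMap (u : C ⟶ A) [IsMonHom u] (z : TateMod C l (SGA7.pt Ω)) (τ : Ω ≃ₐ[K] Ω) (m : ℕ)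
    (h : SGA7.galAct τ (TateMod.component C l (SGA7.pt Ω) m z).toMul =
      (TateMod.component C l (SGA7.pt Ω) m z).toMul) :
    SGA7.galAct τ (TateMod.component A l (SGA7.pt Ω) m (tateMap u z)).toMul =
      (TateMod.component A l (SGA7.pt Ω) m (tateMap u z)).toMul := by
  rw [tateMap_component]
  unfold SGA7.galAct at h ⊢
  rw [← Category.assoc, h]

theorem main (W : ValuationSubring Ω)
    (u : C ⟶ A) [IsMonHom u] (v : A ⟶ C) [IsMonHom v] (n : ℕ) (hn : 0 < n)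
    (huv : u ≫ v = (𝟙 C) ^ n) (hvu : v ≫ u = (𝟙 A) ^ n)
    (hl : l.Prime) :
    (∀ z : AbDual.TateMod C l (SGA7.pt Ω),
      (∀ (τ : Ω ≃ₐ[K] Ω) (m : ℕ), SGA7.IsInertia W τ →
        SGA7.galAct τ (AbDual.TateMod.component C l (SGA7.pt Ω) m z).toMul =
          (AbDual.TateMod.component C l (SGA7.pt Ω) m z).toMul) →
      (∀ (τ : Ω ≃ₐ[K] Ω) (m : ℕ), SGA7.IsInertia W τ →
        SGA7.galAct τ (AbDual.TateMod.component A l (SGA7.pt Ω) m (AbDual.tateMap u z)).toMul =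
          (AbDual.TateMod.component A l (SGA7.pt Ω) m (AbDual.tateMap u z)).toMul)) ∧
    (∀ z : AbDual.TateMod C l (SGA7.pt Ω), AbDual.tateMap (l := l) (T := SGA7.pt Ω) u z = 0 → z = 0) ∧
    (∀ y : AbDual.TateMod A l (SGA7.pt Ω),
      (∀ (τ : Ω ≃ₐ[K] Ω) (m : ℕ), SGA7.IsInertia W τ →
        SGA7.galAct τ (AbDual.TateMod.component A l (SGA7.pt Ω) m y).toMul =
          (AbDual.TateMod.component A l (SGA7.pt Ω) m y).toMul) →
      ∃ z : AbDual.TateMod C l (SGA7.pt Ω),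
        (∀ (τ : Ω ≃ₐ[K] Ω) (m : ℕ), SGA7.IsInertia W τ →
        SGA7.galAct τ (AbDual.TateMod.component C l (SGA7.pt Ω) m z).toMul =
          (AbDual.TateMod.component C l (SGA7.pt Ω) m z).toMul) ∧
        AbDual.tateMap (l := l) (T := SGA7.pt Ω) u z = n • y) := by
  refine ⟨fun z hz τ m hτ => fixed_tateMap u z τ m (hz τ m hτ),
    fun z hz => eq_zero_of_tateMap_eq_zero hl u v n hn huv z hz, fun y hy => ?_⟩
  exact ⟨tateMap v y, fun τ m hτ => fixed_tateMap v y τ m (hy τ m hτ), tateMap_comp_pow v u n hvu y⟩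

end Gal

end Groth.Agent.Lib.Helper16.TateIsog
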