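import Mathlib

/-!
# Helper library (helper16): the closure of the off-diagonal part of `∐ Spec (K_n ⊗_k K_m)` meets the diagonal
-/

set_option autoImplicit false
universe u
open TensorProduct

namespace Groth.Agent.Lib.Helper16.TensorDiag

/-- A "diagonal with nonzero diagonal" matrix of rank at most `card ι` has size at most `card ι`. -/
theorem card_le_of_diagonal {I ι Ω : Type*} [Fintype I] [Fintype ι] [Field Ω] (α : ι → I → Ω) (β : ι → I → Ω)
    (hd : ∀ e, ∑ i, α i e * β i e ≠ 0) (ho : ∀ e e', e ≠ e' → ∑ i, α i e * β i e' = 0) :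
    Fintype.card I ≤ Fintype.card ι := by
  have hli : LinearIndependent Ω (fun e : I => (fun i => α i e : ι → Ω)) := by
    rw [Fintype.linearIndependent_iff]
    intro g hg e₀
    have h1 : ∀ i, ∑ e, g e * α i e = 0 := by
      intro i
      have := congrFun hg i
      simpa [Finset.sum_apply, Pi.smul_apply, smul_eq_mul] using this
    have h2 : ∑ i, (∑ e, g e * α i e) * β i e₀ = 0 := by
      refine Finset.sum_eq_zero fun i _ => ?_
      rw [h1 i, zero_mul]
    have h3 : ∑ i, (∑ e, g e * α i e) * β i e₀ = ∑ e, g e * ∑ i, α i e * β i e₀ := by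
      simp_rw [Finset.sum_mul]
      rw [Finset.sum_comm]
      refine Finset.sum_congr rfl fun e _ => ?_
      rw [Finset.mul_sum]
      refine Finset.sum_congr rfl fun i _ => ?_
      ring
    have h4 : ∑ e, g e * ∑ i, α i e * β i e₀ = g e₀ * ∑ i, α i e₀ * β i e₀ := by
      refine Finset.sum_eq_single_of_mem e₀ (Finset.mem_univ _) ?_
      intro e _ hne
      rw [ho e e₀ hne, mul_zero]
    rw [h3, h4] at h2
    exact (mul_eq_zero.1 h2).resolve_right (hd e₀)
  have := hli.fintype_card_le_finrank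
  simpa using this

/-- Finitely many field extensions of `k` embed in a common field. -/
theorem exists_common_field (k : Type u) [Field k] (K : ℕ → Type u) [∀ n, Field (K n)] [∀ n, Algebra k (K n)]
    (F : Finset ℕ) :
    ∃ (Ω : Type u) (_ : Field Ω) (_ : Algebra k Ω), ∀ n ∈ F, Nonempty (K n →ₐ[k] Ω) := by
  classical
  induction F using Finset.induction_on with
  | empty => exact ⟨k, inferInstance, inferInstance, fun n hn => absurd hn (Finset.notMem_empty n)⟩
  | insert m F _ ih =>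
    obtain ⟨Ω, _, _, hΩ⟩ := ih
    have hnt : Nontrivial (Ω ⊗[k] K m) :=
      Algebra.TensorProduct.nontrivial_of_algebraMap_injective_of_isDomain k Ω (K m)
        (algebraMap k Ω).injective (algebraMap k (K m)).injective
    obtain ⟨𝔪, h𝔪⟩ := Ideal.exists_maximal (Ω ⊗[k] K m)
    letI : Field ((Ω ⊗[k] K m) ⧸ 𝔪) := Ideal.Quotient.field 𝔪
    refine ⟨(Ω ⊗[k] K m) ⧸ 𝔪, inferInstance, inferInstance, ?_⟩
    intro n hn
    rcases Finset.mem_insert.1 hn with rfl | hn'
    · exact ⟨(Ideal.Quotient.mkₐ k 𝔪).comp Algebra.TensorProduct.includeRight⟩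
    · obtain ⟨ι⟩ := hΩ n hn'
      exact ⟨((Ideal.Quotient.mkₐ k 𝔪).comp Algebra.TensorProduct.includeLeft).comp ι⟩

/-- The closure of the image of `∐_{n ≠ m} Spec (K_n ⊗_k K_m)` in `Spec (A ⊗ A)` meets the diagonal. -/
theorem closure_offDiag_inter_diag_nonempty (A : Type u) [CommRing A] (k : Type u) [Field k]
    (p : ℕ → PrimeSpectrum A) (K : ℕ → Type u) [∀ n, Field (K n)] [∀ n, Algebra A (K n)]
    [∀ n, Algebra k (K n)]
    (hker : ∀ n, RingHom.ker (algebraMap A (K n)) = (p n).asIdeal)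
    (φ : ∀ n m, (A ⊗[ℤ] A) →+* (K n ⊗[k] K m))
    (hφ : ∀ n m a b, φ n m (a ⊗ₜ b) = algebraMap A (K n) a ⊗ₜ algebraMap A (K m) b) :
    (closure (⋃ (n : ℕ) (m : ℕ) (_ : n ≠ m), Set.range (PrimeSpectrum.comap (φ n m))) ∩
      Set.range (PrimeSpectrum.comap (Algebra.TensorProduct.lmul' (S := A) ℤ).toRingHom)).Nonempty := by
  classical
  obtain ⟨T, hT⟩ : ∃ T : Set (PrimeSpectrum (A ⊗[ℤ] A)),
      T = ⋃ (n : ℕ) (m : ℕ) (_ : n ≠ m), Set.range (PrimeSpectrum.comap (φ n m)) := ⟨_, rfl⟩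
  obtain ⟨μ, hμ⟩ : ∃ μ : (A ⊗[ℤ] A) →+* A, μ = (Algebra.TensorProduct.lmul' (S := A) ℤ).toRingHom := ⟨_, rfl⟩
  have hμt : ∀ a b : A, μ (a ⊗ₜ b) = a * b := fun a b => by rw [hμ]; simp
  rw [← hT, ← hμ]
  let 𝔟 : Ideal A :=
    { carrier := {a | ∃ N, ∀ n, N ≤ n → a ∈ (p n).asIdeal}
      add_mem' := by
        rintro a b ⟨N, hN⟩ ⟨N', hN'⟩
        exact ⟨max N N', fun n hn => Ideal.add_mem _ (hN n (le_trans (le_max_left _ _) hn))
          (hN' n (le_trans (le_max_right _ _) hn))⟩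
      zero_mem' := ⟨0, fun n _ => Ideal.zero_mem _⟩
      smul_mem' := by
        rintro c a ⟨N, hN⟩
        exact ⟨N, fun n hn => Ideal.mul_mem_left _ c (hN n hn)⟩ }
  have h𝔟 : 𝔟 ≠ ⊤ := by
    intro h
    have h1 : (1 : A) ∈ 𝔟 := by rw [h]; trivial
    obtain ⟨N, hN⟩ := h1
    exact (p N).isPrime.ne_top ((Ideal.eq_top_iff_one _).2 (hN N le_rfl))
  obtain ⟨𝔮, h𝔮max, h𝔮⟩ := Ideal.exists_le_maximal 𝔟 h𝔟
  have h𝔮p : 𝔮.IsPrime := h𝔮max.isPrime
  refine ⟨PrimeSpectrum.comap μ ⟨𝔮, h𝔮p⟩, ?_, ⟨_, rfl⟩⟩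
  rw [← PrimeSpectrum.zeroLocus_vanishingIdeal_eq_closure, PrimeSpectrum.mem_zeroLocus]
  intro f hf
  show μ f ∈ 𝔮
  apply h𝔮
  obtain ⟨s, hs⟩ := TensorProduct.exists_finset f
  have hfin : {n | μ f ∉ (p n).asIdeal}.Finite := by
    by_contra hinf
    obtain ⟨F, hFsub, hFcard⟩ := Set.Infinite.exists_subset_card_eq hinf (s.card + 1)
    obtain ⟨Ω, _, _, hΩ⟩ := exists_common_field k K F
    let ι : ∀ n : ↥F, K n →ₐ[k] Ω := fun n => (hΩ n.1 n.2).some
    let h : ∀ n m : ↥F, (K n ⊗[k] K m) →+* Ω := fun n m =>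
      (Algebra.TensorProduct.lift (ι n) (ι m) (fun _ _ => Commute.all _ _)).toRingHom
    have hh : ∀ (n m : ↥F) (x : K n) (y : K m), h n m (x ⊗ₜ y) = ι n x * ι m y := fun n m x y => by
      simp [h]
    let α : ↥s → ↥F → Ω := fun i n => ι n (algebraMap A (K n) i.1.1)
    let β : ↥s → ↥F → Ω := fun i m => ι m (algebraMap A (K m) i.1.2)
    have hsum : ∀ n m : ↥F, h n m (φ n m f) = ∑ i : ↥s, α i n * β i m := by
      intro n m
      rw [hs, map_sum, map_sum, ← Finset.sum_coe_sort s]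
      refine Finset.sum_congr rfl fun i _ => ?_
      rw [hφ, hh]
    have hcard := card_le_of_diagonal α β ?_ ?_
    · simp only [Fintype.card_coe] at hcard
      omega
    · intro n
      rw [← hsum n n]
      have hdiag : h n n (φ n n f) = ι n (algebraMap A (K n) (μ f)) := by
        rw [hs, map_sum, map_sum, map_sum, map_sum, map_sum]
        refine Finset.sum_congr rfl fun i _ => ?_
        rw [hφ, hh, hμt, map_mul, map_mul]
      rw [hdiag]
      intro h0
      have h1 : algebraMap A (K n) (μ f) = 0 := by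
        have := (map_eq_zero_iff (ι n) (ι n).toRingHom.injective).1 h0
        exact this
      have h2 : μ f ∈ RingHom.ker (algebraMap A (K n)) := h1
      rw [hker] at h2
      exact hFsub n.2 h2
    · intro n m hnm
      rw [← hsum n m]
      have hprime : (RingHom.ker (h n m)).IsPrime := RingHom.ker_isPrime _
      have hmem : PrimeSpectrum.comap (φ n m) ⟨RingHom.ker (h n m), hprime⟩ ∈ T := by
        rw [hT]
        simp only [Set.mem_iUnion]
        exact ⟨n, m, fun e => hnm (Subtype.ext e), _, rfl⟩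
      have := (PrimeSpectrum.mem_vanishingIdeal _ _).1 hf _ hmem
      exact this
  obtain ⟨N, hN⟩ := hfin.bddAbove
  refine ⟨N + 1, fun n hn => ?_⟩
  by_contra hc
  have := hN hc
  omega

end Groth.Agent.Lib.Helper16.TensorDiag
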