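import Groth.Agent.Lib.Helper17.TensorSec
import Groth.Agent.Lib.Helper23.T2A
import Groth.Agent.Lib.Helper13.StalkPd
import Groth.Agent.Lib.Helper3.FreeBasis
import Groth.Agent.Lib.Helper3.LocFreeCrit
import Groth.Agent.Lib.Helper3.NormAlg

/-!
# The multiplication map `H⁰(E₁) × H⁰(E₂) → H⁰(E₁ ⊗ E₂)` on an integral scheme (helper16)

For finite locally free modules on an integral scheme the tensor product of two nonzero global
sections is nonzero.
-/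

set_option autoImplicit false
universe u
open CategoryTheory CategoryTheory.Limits AlgebraicGeometry Opposite TopologicalSpace TensorProduct

namespace H16TensorH0

open Groth.Agent.Lib.Helper3 Groth.Agent.Lib.Helper3.QCSec Groth.Agent.Lib.Helper3.InvGen
  Groth.Agent.Lib.Helper3.InvTensor Groth.Agent.Lib.Helper3.FreeBasis
  Groth.Agent.Lib.Helper3.NormAlg Groth.Agent.Lib.Helper17.TensorSec

section Alg

theorem tmul_eq_zero_of_bases {R M N : Type*} [CommRing R] [IsDomain R] [AddCommGroup M]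
    [Module R M] [AddCommGroup N] [Module R N] {n₁ n₂ : ℕ} (e₁ : Fin n₁ → M)
    (h₁ : Function.Bijective (fun a : Fin n₁ → R => ∑ i, a i • e₁ i)) (e₂ : Fin n₂ → N)
    (h₂ : Function.Bijective (fun a : Fin n₂ → R => ∑ i, a i • e₂ i)) (m : M) (n : N)
    (h : m ⊗ₜ[R] n = 0) : m = 0 ∨ n = 0 := by
  let b₁ := basisOfBijective e₁ h₁
  let b₂ := basisOfBijective e₂ h₂
  by_contra hcon
  push Not at hcon
  obtain ⟨hm, hn⟩ := hcon
  have hm' : b₁.repr m ≠ 0 := fun h0 => hm ((LinearEquiv.map_eq_zero_iff _).mp h0)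
  have hn' : b₂.repr n ≠ 0 := fun h0 => hn ((LinearEquiv.map_eq_zero_iff _).mp h0)
  obtain ⟨i, hi⟩ := Finsupp.ne_iff.mp hm'
  obtain ⟨j, hj⟩ := Finsupp.ne_iff.mp hn'
  have h3 := Module.Basis.tensorProduct_repr_tmul_apply b₁ b₂ m n i j
  rw [h, map_zero] at h3
  simp only [Finsupp.coe_zero, Pi.zero_apply, smul_eq_mul] at h3 hi hj
  exact (mul_ne_zero hj hi) h3.symm

end Alg

variable {X : Scheme.{u}}

theorem res_sum (M : X.Modules) {A B : X.Opens} (h : A ≤ B) {n : ℕ} (f : Fin n → Γ(M, B)) :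
    res M h (∑ i, f i) = ∑ i, res M h (f i) := _root_.map_sum _ f _

/-- sections of a finite locally free module on an integral scheme are determined on any
nonempty open. -/
theorem eq_zero_of_res_eq_zero [IsIntegral X] {M : X.Modules} (hM : FlatMod.IsFinLocFree M)
    {U V : X.Opens} (h : U ≤ V) [hU : Nonempty U] (s : Γ(M, V)) (hs : res M h s = 0) : s = 0 := by
  apply sec_eq_of_locally_eq M
    (fun W : {W : X.Opens // W ≤ V ∧ Nonempty W ∧
      ∃ (n : ℕ) (e : Fin n → Γ(M, W)), IsBasis M W e} => W.1) V (fun W => W.2.1)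
  · intro z hz
    obtain ⟨U₁, n, hzU₁, ⟨φ⟩⟩ := hM z
    obtain ⟨e, he⟩ := exists_isBasis_of_iso φ
    exact Opens.mem_iSup.mpr ⟨⟨U₁ ⊓ V, inf_le_right, ⟨⟨z, hzU₁, hz⟩⟩, n, _, he.mono inf_le_left⟩,
      ⟨hzU₁, hz⟩⟩
  · rintro ⟨W, hWV, hWne, n, e, he⟩
    show res M hWV s = res M hWV 0
    rw [res_zero]
    obtain ⟨a, ha⟩ := he.self.2 (res M hWV s)
    dsimp only at ha
    haveI : Nonempty ↥(W ⊓ U) := by
      obtain ⟨w⟩ := hWne
      obtain ⟨u⟩ := hU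
      obtain ⟨y, hy⟩ := nonempty_preirreducible_inter W.isOpen U.isOpen ⟨w.1, w.2⟩ ⟨u.1, u.2⟩
      exact ⟨⟨y, hy⟩⟩
    have h5 : res M (inf_le_left : W ⊓ U ≤ W) (res M hWV s) = 0 := by
      rw [res_res]
      have h6 : res M ((inf_le_left : W ⊓ U ≤ W).trans hWV) s =
          res M (inf_le_right : W ⊓ U ≤ U) (res M h s) := (res_res M _ _ s).symm
      rw [h6, hs, res_zero]
    rw [← ha, res_sum] at h5
    simp only [res_smul] at h5
    have hinj := (he (W ⊓ U) inf_le_left).1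
    have h6 : (fun i => rres X (inf_le_left : W ⊓ U ≤ W) (a i)) = fun _ => 0 := by
      apply hinj
      dsimp only
      rw [h5]
      simp only [zero_smul, Finset.sum_const_zero]
    have h7 : a = 0 := by
      funext i
      have h8 := congrFun h6 i
      exact map_injective_of_isIntegral X (homOfLE (inf_le_left : W ⊓ U ≤ W))
        (H := ‹Nonempty ↥(W ⊓ U)›) (h8.trans (map_zero _).symm)
    rw [← ha, h7]
    simp only [Pi.zero_apply, zero_smul, Finset.sum_const_zero]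

/-- the tensor product of two nonzero global sections of finite locally free modules on an
integral scheme is nonzero. -/
theorem tm_ne_zero [IsIntegral X] {E₁ E₂ : X.Modules} (h₁ : FlatMod.IsFinLocFree E₁)
    (h₂ : FlatMod.IsFinLocFree E₂) (s : Γ(E₁, ⊤)) (t : Γ(E₂, ⊤)) (hs : s ≠ 0) (ht : t ≠ 0) :
    tm E₁ E₂ ⊤ s t ≠ 0 := by
  haveI := LocFreeCrit.isQuasicoherent_of_isFinLocFree h₁
  haveI := LocFreeCrit.isQuasicoherent_of_isFinLocFree h₂
  intro h0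
  obtain ⟨x⟩ : Nonempty X := inferInstance
  obtain ⟨U₁, n₁, hx₁, ⟨φ₁⟩⟩ := h₁ x
  obtain ⟨U₂, n₂, hx₂, ⟨φ₂⟩⟩ := h₂ x
  obtain ⟨e₁, he₁⟩ := exists_isBasis_of_iso φ₁
  obtain ⟨e₂, he₂⟩ := exists_isBasis_of_iso φ₂
  obtain ⟨U, hU, hxU, hsub⟩ := exists_isAffineOpen_mem_and_subset
    (show x ∈ U₁ ⊓ U₂ from ⟨hx₁, hx₂⟩)
  have hUU₁ : U ≤ U₁ := fun z hz => (hsub hz).1
  have hUU₂ : U ≤ U₂ := fun z hz => (hsub hz).2
  haveI : Nonempty U := ⟨⟨x, hxU⟩⟩
  haveI : IsDomain Γ(X, U) := inferInstance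
  haveI : IsDomain (Rg X U) := (inferInstance : IsDomain Γ(X, U))
  have hb₁ := he₁ U hUU₁
  have hb₂ := he₂ U hUU₂
  have h1 : res _ (le_top : U ≤ ⊤) (tm E₁ E₂ ⊤ s t) = 0 := by rw [h0, res_zero]
  rw [tm_res] at h1
  have h2 : et E₁ E₂ U ((show (CohB1.toPMod E₁).obj (op U) from res E₁ le_top s) ⊗ₜ[Rg X U]
      (show (CohB1.toPMod E₂).obj (op U) from res E₂ le_top t)) = 0 := h1
  have h3 := et_eq_zero E₁ E₂ hU _ h2
  rcases tmul_eq_zero_of_bases (R := Rg X U) (M := ↑((CohB1.toPMod E₁).obj (op U)))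
    (N := ↑((CohB1.toPMod E₂).obj (op U)))
    (fun i => (show (CohB1.toPMod E₁).obj (op U) from res E₁ hUU₁ (e₁ i))) hb₁
    (fun i => (show (CohB1.toPMod E₂).obj (op U) from res E₂ hUU₂ (e₂ i))) hb₂ _ _ h3 with h4 | h4
  · exact hs (eq_zero_of_res_eq_zero h₁ le_top s h4)
  · exact ht (eq_zero_of_res_eq_zero h₂ le_top t h4)

section Bil

open Groth.Agent.Lib.Helper23.T2

variable (k : Type u) [Field k] [X.Over (Spec (CommRingCat.of k))] (E₁ E₂ : X.Modules)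

/-- the multiplication of global sections, on `H⁰`. -/
noncomputable def bilFun (a : Coh.HH X E₁ 0) (b : Coh.HH X E₂ 0) :
    Coh.HH X (CohB1.tensorMod E₁ E₂) 0 :=
  (H0equiv (CohB1.tensorMod E₁ E₂)).symm (tm E₁ E₂ ⊤ (H0equiv E₁ a) (H0equiv E₂ b))

theorem bilFun_add_left (a a' : Coh.HH X E₁ 0) (b : Coh.HH X E₂ 0) :
    bilFun E₁ E₂ (a + a') b = bilFun E₁ E₂ a b + bilFun E₁ E₂ a' b := by
  have e1 : H0equiv E₁ (a + a') = H0equiv E₁ a + H0equiv E₁ a' := map_add _ _ _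
  unfold bilFun
  rw [e1]
  exact (congrArg (H0equiv (CohB1.tensorMod E₁ E₂)).symm (tm_add_left E₁ E₂ ⊤ _ _ _)).trans
    (map_add (H0equiv (CohB1.tensorMod E₁ E₂)).symm _ _)

theorem bilFun_add_right (a : Coh.HH X E₁ 0) (b b' : Coh.HH X E₂ 0) :
    bilFun E₁ E₂ a (b + b') = bilFun E₁ E₂ a b + bilFun E₁ E₂ a b' := by
  have e1 : H0equiv E₂ (b + b') = H0equiv E₂ b + H0equiv E₂ b' := map_add _ _ _
  unfold bilFun
  rw [e1]
  exact (congrArg (H0equiv (CohB1.tensorMod E₁ E₂)).symm (tm_add_right E₁ E₂ ⊤ _ _ _)).trans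
    (map_add (H0equiv (CohB1.tensorMod E₁ E₂)).symm _ _)

theorem bilFun_smul_left (r : Coh.Γtop X) (a : Coh.HH X E₁ 0) (b : Coh.HH X E₂ 0) :
    bilFun E₁ E₂ (r • a) b = r • bilFun E₁ E₂ a b := by
  have e1 : H0equiv E₁ (r • a) = r • H0equiv E₁ a := (H0equiv E₁).map_smul r a
  unfold bilFun
  rw [e1]
  exact (congrArg (H0equiv (CohB1.tensorMod E₁ E₂)).symm (tm_smul_left E₁ E₂ ⊤ r _ _)).trans
    ((H0equiv (CohB1.tensorMod E₁ E₂)).symm.map_smul r _)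

theorem bilFun_smul_right (r : Coh.Γtop X) (a : Coh.HH X E₁ 0) (b : Coh.HH X E₂ 0) :
    bilFun E₁ E₂ a (r • b) = r • bilFun E₁ E₂ a b := by
  have e1 : H0equiv E₂ (r • b) = r • H0equiv E₂ b := (H0equiv E₂).map_smul r b
  unfold bilFun
  rw [e1]
  exact (congrArg (H0equiv (CohB1.tensorMod E₁ E₂)).symm (tm_smul_right E₁ E₂ ⊤ r _ _)).trans
    ((H0equiv (CohB1.tensorMod E₁ E₂)).symm.map_smul r _)

/-- the multiplication of global sections as a `k`-bilinear map on `H⁰`. -/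
noncomputable def bil : Coh.HH X E₁ 0 →ₗ[k] Coh.HH X E₂ 0 →ₗ[k]
    Coh.HH X (CohB1.tensorMod E₁ E₂) 0 :=
  LinearMap.mk₂ k (bilFun E₁ E₂) (bilFun_add_left E₁ E₂)
    (fun c a b => bilFun_smul_left E₁ E₂ (Coh.toGlobal (X ↘ Spec (CommRingCat.of k)) c) a b)
    (bilFun_add_right E₁ E₂)
    (fun c a b => bilFun_smul_right E₁ E₂ (Coh.toGlobal (X ↘ Spec (CommRingCat.of k)) c) a b)

theorem bil_ne_zero [IsIntegral X] (h₁ : FlatMod.IsFinLocFree E₁) (h₂ : FlatMod.IsFinLocFree E₂)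
    (a : Coh.HH X E₁ 0) (b : Coh.HH X E₂ 0) (ha : a ≠ 0) (hb : b ≠ 0) : bil k E₁ E₂ a b ≠ 0 := by
  intro h0
  have h1 : tm E₁ E₂ ⊤ (H0equiv E₁ a) (H0equiv E₂ b) = 0 :=
    (LinearEquiv.map_eq_zero_iff (H0equiv (CohB1.tensorMod E₁ E₂)).symm).mp h0
  exact tm_ne_zero h₁ h₂ _ _ (fun h => ha ((LinearEquiv.map_eq_zero_iff (H0equiv E₁)).mp h))
    (fun h => hb ((LinearEquiv.map_eq_zero_iff (H0equiv E₂)).mp h)) h1

end Bil

end H16TensorH0
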