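import Groth.Agent.Lib.Helper16.SchImgDense
import Groth.Agent.Lib.Helper16.QuasiCompact
import Groth.Agent.Lib.Helper17.AlgSpProper
import Groth.Agent.S10191
import Groth.Prelude.Def_AlgSpInf

/-!
# Helper library (helper16): thickenings of algebraic spaces are universal homeomorphisms; morphisms of thickenings
-/

set_option autoImplicit false
universe u
open CategoryTheory CategoryTheory.Limits AlgebraicGeometry Opposite Topology TopologicalSpace

namespace Groth.Agent.Lib.Helper16.Thick

open AlgSp

variable {S : Scheme.{u}}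

instance thick_isMultiplicative : (thick.{u}).IsMultiplicative where
  id_mem X := ⟨(inferInstance : IsClosedImmersion (𝟙 X)), (inferInstance : Surjective (𝟙 X))⟩
  comp_mem f g hf hg := by
    have h1 : IsClosedImmersion f := hf.1
    have h2 : Surjective f := hf.2
    have h3 : IsClosedImmersion g := hg.1
    have h4 : Surjective g := hg.2
    exact ⟨(inferInstance : IsClosedImmersion (f ≫ g)), (inferInstance : Surjective (f ≫ g))⟩

theorem isThickMor_comp {X Y Z : Sp S} (f : X ⟶ Y) (g : Y ⟶ Z) (hf : IsThickMor f) (hg : IsThickMor g) :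
    IsThickMor (f ≫ g) :=
  (RepWith (S := S) thick).comp_mem f g hf hg

theorem isThickMor_of_isIso {X Y : Sp S} (f : X ⟶ Y) [IsIso f] : IsThickMor f :=
  MorphismProperty.of_isIso (RepWith (S := S) thick) f

theorem repWith_isClosedImmersion_of_isThickMor {X Y : Sp S} {i : X ⟶ Y} (hi : IsThickMor i) :
    RepWith @IsClosedImmersion i :=
  repWith_mono (fun _ _ _ h => h.1) i hi

theorem repWith_surjective_of_isThickMor {X Y : Sp S} {i : X ⟶ Y} (hi : IsThickMor i) :
    RepWith @Surjective i :=
  repWith_mono (fun _ _ _ h => h.2) i hi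

theorem mono_of_isThickMor {X Y : Sp S} {i : X ⟶ Y} (hi : IsThickMor i) : Mono i :=
  SchImg.mono_of_repWith_isClosedImmersion i (repWith_isClosedImmersion_of_isThickMor hi)

/-- **A thickening of algebraic spaces is a homeomorphism on points.** -/
theorem isHomeomorph_points_of_isThickMor {X X' : Sp S} (hX : IsAlgSpace X) (hX' : IsAlgSpace X')
    (i : X ⟶ X') (hi : IsThickMor i) : IsHomeomorph (Points.map i) := by
  have himm : RepWith @IsImmersion i :=
    repWith_mono (fun _ _ k hk => by
      have : IsClosedImmersion k := hk.1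
      exact (inferInstance : IsImmersion k)) i hi
  have hemb : IsEmbedding (Points.map i) :=
    (Groth.Agent.S10191.result (Z := ⟨X, hX⟩) (X := ⟨X', hX'⟩) (ObjectProperty.homMk i) himm).1
  have hsurj : Function.Surjective (Points.map i) :=
    (repWith_surjective_iff i hi.rep).1 (repWith_surjective_of_isThickMor hi)
  exact isHomeomorph_iff_isEmbedding_surjective.2 ⟨hemb, hsurj⟩

/-- **Backward construction**: the base change of `f` along `g : Z ⟶ Y` is a thickening-closed subspace of the base
change of `f'` along `g ≫ j`. -/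
theorem exists_thick_of_isPullback {X X' Y Y' Z W : Sp S} (i : X ⟶ X') (j : Y ⟶ Y') (f : X ⟶ Y) (f' : X' ⟶ Y')
    (hi : IsThickMor i) [Mono j] (w : i ≫ f' = f ≫ j) (g : Z ⟶ Y) (fst : W ⟶ X) (snd : W ⟶ Z)
    (sq : IsPullback fst snd f g) :
    ∃ k : W ⟶ pullback f' (g ≫ j), IsThickMor k ∧ k ≫ pullback.snd f' (g ≫ j) = snd ∧
      k ≫ pullback.fst f' (g ≫ j) = fst ≫ i := by
  have hk : (fst ≫ i) ≫ f' = snd ≫ g ≫ j := by
    rw [Category.assoc, w, ← Category.assoc, sq.w, Category.assoc]
  refine ⟨pullback.lift (fst ≫ i) snd hk, ?_, pullback.lift_snd _ _ _, pullback.lift_fst _ _ _⟩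
  have sqk : IsPullback (pullback.lift (fst ≫ i) snd hk) fst (pullback.fst f' (g ≫ j)) i := by
    refine isPullback_of_exists_lift (pullback.lift_fst _ _ _) ?_ ?_
    · intro Q a b hab
      have h1 : b ≫ f = (a ≫ pullback.snd f' (g ≫ j)) ≫ g := by
        rw [← cancel_mono j, Category.assoc, ← w, ← Category.assoc, ← hab, Category.assoc, pullback.condition]
        simp only [Category.assoc]
      refine ⟨sq.lift b (a ≫ pullback.snd f' (g ≫ j)) h1, ?_, sq.lift_fst _ _ _⟩
      apply pullback.hom_ext
      · rw [Category.assoc, pullback.lift_fst, ← Category.assoc, sq.lift_fst, hab]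
      · rw [Category.assoc, pullback.lift_snd, sq.lift_snd]
    · intro Q l l' h1 h2
      apply sq.hom_ext h2
      have := congrArg (fun m => m ≫ pullback.snd f' (g ≫ j)) h1
      simpa only [Category.assoc, pullback.lift_snd] using this
  exact (RepWith (S := S) thick).of_isPullback sqk.flip hi

/-- **Forward construction**: the base change of `f'` along `g' : Z' ⟶ Y'` contains as a thickening-closed subspace
the base change of `f` along `Z' ×_{Y'} Y ⟶ Y`. -/
theorem exists_thick_of_isPullback' {X X' Y Y' Z' W' : Sp S} (i : X ⟶ X') (j : Y ⟶ Y') (f : X ⟶ Y)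
    (f' : X' ⟶ Y') (hi : IsThickMor i) (hj : IsThickMor j) (w : i ≫ f' = f ≫ j) (g' : Z' ⟶ Y')
    (fst' : W' ⟶ X') (snd' : W' ⟶ Z') (sq' : IsPullback fst' snd' f' g') :
    ∃ (sW : pullback fst' i ⟶ pullback g' j),
      IsThickMor (pullback.fst fst' i) ∧ IsThickMor (pullback.fst g' j) ∧
      IsPullback (pullback.snd fst' i) sW f (pullback.snd g' j) ∧
      sW ≫ pullback.fst g' j = pullback.fst fst' i ≫ snd' := by
  have hs : (pullback.fst fst' i ≫ snd') ≫ g' = (pullback.snd fst' i ≫ f) ≫ j := by
    rw [Category.assoc, ← sq'.w, ← Category.assoc, pullback.condition, Category.assoc, w, Category.assoc]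
  refine ⟨pullback.lift _ _ hs, ?_, ?_, ?_, pullback.lift_fst _ _ _⟩
  · exact (RepWith (S := S) thick).of_isPullback (IsPullback.of_hasPullback fst' i).flip hi
  · exact (RepWith (S := S) thick).of_isPullback (IsPullback.of_hasPullback g' j).flip hj
  · refine isPullback_of_exists_lift (pullback.lift_snd _ _ _).symm ?_ ?_
    · intro Q a b hab
      have h1 : (a ≫ i) ≫ f' = (b ≫ pullback.fst g' j) ≫ g' := by
        rw [Category.assoc, w, ← Category.assoc, hab, Category.assoc, Category.assoc, pullback.condition]
      have h2 : sq'.lift (a ≫ i) (b ≫ pullback.fst g' j) h1 ≫ fst' = a ≫ i := sq'.lift_fst _ _ _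
      refine ⟨pullback.lift (sq'.lift (a ≫ i) (b ≫ pullback.fst g' j) h1) a h2, pullback.lift_snd _ _ _, ?_⟩
      apply pullback.hom_ext
      · rw [Category.assoc, pullback.lift_fst, ← Category.assoc, pullback.lift_fst, sq'.lift_snd]
      · rw [Category.assoc, pullback.lift_snd, ← Category.assoc, pullback.lift_snd, hab]
    · intro Q l l' h1 h2
      apply pullback.hom_ext _ h1
      apply sq'.hom_ext
      · rw [Category.assoc, Category.assoc, pullback.condition, ← Category.assoc, ← Category.assoc, h1]
      · have := congrArg (fun m => m ≫ pullback.fst g' j) h2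
        simpa only [Category.assoc, pullback.lift_fst] using this

end Groth.Agent.Lib.Helper16.Thick
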