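import Groth.Agent.Lib.Helper16.ThickMor
import Groth.Agent.Lib.Helper16.FpqcCore
import Groth.Agent.S10280

/-!
# Helper library (helper16): separatedness of morphisms of thickenings
-/

set_option autoImplicit false
universe u
open CategoryTheory CategoryTheory.Limits AlgebraicGeometry Opposite Topology TopologicalSpace

namespace Groth.Agent.Lib.Helper16.Thick

open AlgSp

variable {S : Scheme.{u}}

/-- `X' ×_{Y'} X ⟶ X' ×_{Y'} X'` is a thickening. -/
theorem isThickMor_pullback_lift_snd {X X' Y' : Sp S} (i : X ⟶ X') (f' : X' ⟶ Y') (hi : IsThickMor i)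
    (q : X ⟶ Y') (hq : q = i ≫ f') :
    ∃ m : pullback f' q ⟶ pullback f' f', IsThickMor m ∧ m ≫ pullback.fst f' f' = pullback.fst f' q ∧
      m ≫ pullback.snd f' f' = pullback.snd f' q ≫ i := by
  subst hq
  have hm : pullback.fst f' (i ≫ f') ≫ f' = (pullback.snd f' (i ≫ f') ≫ i) ≫ f' := by
    rw [pullback.condition, Category.assoc]
  refine ⟨pullback.lift _ _ hm, ?_, pullback.lift_fst _ _ _, pullback.lift_snd _ _ _⟩
  have sq : IsPullback (pullback.lift _ _ hm) (pullback.snd f' (i ≫ f')) (pullback.snd f' f') i := by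
    refine IsPullback.of_right ?_ (pullback.lift_snd _ _ _) (IsPullback.of_hasPullback f' f')
    rw [pullback.lift_fst]
    exact IsPullback.of_hasPullback f' (i ≫ f')
  exact (RepWith (S := S) thick).of_isPullback sq.flip hi

/-- The fibre squares of a morphism of thickenings form a thickening, compatibly with the diagonals. -/
theorem exists_thick_diagonal {X X' Y Y' : Sp S} (i : X ⟶ X') (j : Y ⟶ Y') (f : X ⟶ Y) (f' : X' ⟶ Y')
    (hi : IsThickMor i) (hj : IsThickMor j) (w : i ≫ f' = f ≫ j) :
    ∃ I : pullback f f ⟶ pullback f' f', IsThickMor I ∧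
      i ≫ pullback.diagonal f' = pullback.diagonal f ≫ I := by
  haveI := mono_of_isThickMor hj
  obtain ⟨k, hk, hk2, hk1⟩ := exists_thick_of_isPullback i j f f' hi w f (pullback.fst f f) (pullback.snd f f)
    (IsPullback.of_hasPullback f f)
  obtain ⟨m, hm, hm1, hm2⟩ := isThickMor_pullback_lift_snd i f' hi (f ≫ j) w.symm
  refine ⟨k ≫ m, isThickMor_comp k m hk hm, ?_⟩
  apply pullback.hom_ext
  · rw [Category.assoc, pullback.diagonal_fst, Category.comp_id, Category.assoc, Category.assoc, hm1, hk1,
      ← Category.assoc, pullback.diagonal_fst, Category.id_comp]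
  · rw [Category.assoc, pullback.diagonal_snd, Category.comp_id, Category.assoc, Category.assoc, hm2,
      ← Category.assoc k, hk2, ← Category.assoc, pullback.diagonal_snd, Category.id_comp]

/-- **Separatedness and quasi-separatedness of a morphism of thickenings.** -/
theorem separated_iff_of_thick {X X' Y Y' : Sp S} (hX : IsAlgSpace X) (hX' : IsAlgSpace X')
    (hY : IsAlgSpace Y) (hY' : IsAlgSpace Y')
    (i : X ⟶ X') (j : Y ⟶ Y') (f : X ⟶ Y) (f' : X' ⟶ Y') (hi : IsThickMor i) (hj : IsThickMor j)
    (w : i ≫ f' = f ≫ j) :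
    (IsSeparatedMor f ↔ IsSeparatedMor f') ∧ (IsQuasiSeparatedMor f ↔ IsQuasiSeparatedMor f') := by
  obtain ⟨I, hI, hw⟩ := exists_thick_diagonal i j f f' hi hj w
  have hP : IsAlgSpace (pullback f f) :=
    isAlgSpace_of_isPullback hX hY.diag hX (IsPullback.of_hasPullback f f)
  have hP' : IsAlgSpace (pullback f' f') :=
    isAlgSpace_of_isPullback hX' hY'.diag hX' (IsPullback.of_hasPullback f' f')
  obtain ⟨-, hqc, huc, -, -⟩ := topological_iff_of_thick hX hX' hP hP' i I (pullback.diagonal f)
    (pullback.diagonal f') hi hI hw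
  constructor
  · have h1 := (Groth.Agent.S10280.result (X := ⟨X, hX⟩) (Y := ⟨Y, hY⟩) (ObjectProperty.homMk f)).1
    have h2 := (Groth.Agent.S10280.result (X := ⟨X', hX'⟩) (Y := ⟨Y', hY'⟩) (ObjectProperty.homMk f')).1
    exact h1.trans (huc.trans h2.symm)
  · have h1 : IsQuasiSeparatedMor f ↔ IsQuasiCompactMor (pullback.diagonal f) :=
      repWith_quasiCompact_iff_isQuasiCompactMor _ (representable_diagonal hX f)
    have h2 : IsQuasiSeparatedMor f' ↔ IsQuasiCompactMor (pullback.diagonal f') :=
      repWith_quasiCompact_iff_isQuasiCompactMor _ (representable_diagonal hX' f')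
    exact h1.trans (hqc.trans h2.symm)

end Groth.Agent.Lib.Helper16.Thick
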