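import Groth.Agent.Lib.Helper16.Thick

/-!
# Helper library (helper16): topological properties of morphisms of thickenings
-/

set_option autoImplicit false
universe u
open CategoryTheory CategoryTheory.Limits AlgebraicGeometry Opposite Topology TopologicalSpace

namespace Groth.Agent.Lib.Helper16.Thick

open AlgSp

variable {S : Scheme.{u}}

/-- Transfer of compactness of the space of points along a thickening. -/
theorem isQuasiCompactSp_iff_of_isThickMor {X X' : Sp S} (hX : IsAlgSpace X) (hX' : IsAlgSpace X')
    (i : X ⟶ X') (hi : IsThickMor i) : IsQuasiCompactSp X ↔ IsQuasiCompactSp X' := by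
  have hh := isHomeomorph_points_of_isThickMor hX hX' i hi
  constructor
  · intro h
    haveI := compactSpace_points_of_isQuasiCompactSp h
    haveI : CompactSpace (Points X') := (hh.homeomorph).compactSpace
    exact isQuasiCompactSp_of_compactSpace hX'
  · intro h
    haveI := compactSpace_points_of_isQuasiCompactSp h
    haveI : CompactSpace (Points X) := (hh.homeomorph).symm.compactSpace
    exact isQuasiCompactSp_of_compactSpace hX

/-- **Invariance principle**: a universal topological property, invariant under homeomorphisms, holds for `f` iff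
it holds for `f'`, for a morphism `(f, f')` of thickenings. -/
theorem univSp_iff_of_thick
    (Q : ∀ {A B : Type (u + 1)} [TopologicalSpace A] [TopologicalSpace B], (A → B) → Prop)
    (hQ : ∀ {A A' B B' : Type (u + 1)} [TopologicalSpace A] [TopologicalSpace A'] [TopologicalSpace B]
      [TopologicalSpace B'] (a : A → A') (b : B → B') (g : A → B) (g' : A' → B'),
      IsHomeomorph a → IsHomeomorph b → g' ∘ a = b ∘ g → (Q g ↔ Q g'))
    {X X' Y Y' : Sp S} (hX : IsAlgSpace X) (hX' : IsAlgSpace X') (hY : IsAlgSpace Y) (hY' : IsAlgSpace Y')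
    (i : X ⟶ X') (j : Y ⟶ Y') (f : X ⟶ Y) (f' : X' ⟶ Y') (hi : IsThickMor i) (hj : IsThickMor j)
    (w : i ≫ f' = f ≫ j) :
    UnivSp (fun _ _ h => Q (Points.map h)) f ↔ UnivSp (fun _ _ h => Q (Points.map h)) f' := by
  haveI := mono_of_isThickMor hj
  constructor
  · intro h Z' W' hZ' g' fst' snd' sq'
    obtain ⟨sW, hth1, hth2, sqW, hcomm⟩ := exists_thick_of_isPullback' i j f f' hi hj w g' fst' snd' sq'
    have hZ : IsAlgSpace (pullback g' j) :=
      isAlgSpace_of_isPullback hZ' hY'.diag hY (IsPullback.of_hasPullback g' j)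
    have hW' : IsAlgSpace W' := isAlgSpace_of_isPullback hX' hY'.diag hZ' sq'
    have hW : IsAlgSpace (pullback fst' i) :=
      isAlgSpace_of_isPullback hW' hX'.diag hX (IsPullback.of_hasPullback fst' i)
    have hQs : Q (Points.map sW) := h hZ (pullback.snd g' j) (pullback.snd fst' i) sW sqW
    refine (hQ (Points.map (pullback.fst fst' i)) (Points.map (pullback.fst g' j)) (Points.map sW)
      (Points.map snd') (isHomeomorph_points_of_isThickMor hW hW' _ hth1)
      (isHomeomorph_points_of_isThickMor hZ hZ' _ hth2) ?_).1 hQs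
    funext x
    show Points.map snd' (Points.map (pullback.fst fst' i) x) =
      Points.map (pullback.fst g' j) (Points.map sW x)
    rw [← Points.map_comp, ← Points.map_comp, hcomm]
  · intro h Z W hZ g fst snd sq
    obtain ⟨k, hk, hk2, -⟩ := exists_thick_of_isPullback i j f f' hi w g fst snd sq
    have hW : IsAlgSpace W := isAlgSpace_of_isPullback hX hY.diag hZ sq
    have hW' : IsAlgSpace (pullback f' (g ≫ j)) :=
      isAlgSpace_of_isPullback hX' hY'.diag hZ (IsPullback.of_hasPullback f' (g ≫ j))
    have hQs : Q (Points.map (pullback.snd f' (g ≫ j))) :=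
      h hZ (g ≫ j) (pullback.fst f' (g ≫ j)) (pullback.snd f' (g ≫ j)) (IsPullback.of_hasPullback _ _)
    refine (hQ (Points.map k) id (Points.map snd) (Points.map (pullback.snd f' (g ≫ j)))
      (isHomeomorph_points_of_isThickMor hW hW' _ hk) IsHomeomorph.id ?_).2 hQs
    funext x
    show Points.map (pullback.snd f' (g ≫ j)) (Points.map k x) = Points.map snd x
    rw [← Points.map_comp, hk2]

theorem isClosedMap_iff_of_isHomeomorph {A A' B B' : Type (u + 1)} [TopologicalSpace A] [TopologicalSpace A']
    [TopologicalSpace B] [TopologicalSpace B'] (a : A → A') (b : B → B') (g : A → B) (g' : A' → B')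
    (ha : IsHomeomorph a) (hb : IsHomeomorph b) (h : g' ∘ a = b ∘ g) : IsClosedMap g ↔ IsClosedMap g' := by
  constructor
  · intro hg
    refine IsClosedMap.of_comp_surjective ha.surjective ha.continuous ?_
    rw [h]
    exact hb.isClosedMap.comp hg
  · intro hg'
    have h1 : g = hb.homeomorph.symm ∘ (g' ∘ a) := by
      funext x
      rw [h]
      exact (hb.homeomorph.symm_apply_apply (g x)).symm
    rw [h1]
    exact hb.homeomorph.symm.isClosedMap.comp (hg'.comp ha.isClosedMap)

theorem isOpenMap_iff_of_isHomeomorph {A A' B B' : Type (u + 1)} [TopologicalSpace A] [TopologicalSpace A']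
    [TopologicalSpace B] [TopologicalSpace B'] (a : A → A') (b : B → B') (g : A → B) (g' : A' → B')
    (ha : IsHomeomorph a) (hb : IsHomeomorph b) (h : g' ∘ a = b ∘ g) : IsOpenMap g ↔ IsOpenMap g' := by
  constructor
  · intro hg
    have h1 : g' = (b ∘ g) ∘ ha.homeomorph.symm := by
      funext x
      rw [← h]
      exact congrArg g' (ha.homeomorph.apply_symm_apply x).symm
    rw [h1]
    exact (hb.isOpenMap.comp hg).comp ha.homeomorph.symm.isOpenMap
  · intro hg'
    have h1 : g = hb.homeomorph.symm ∘ (g' ∘ a) := by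
      funext x
      rw [h]
      exact (hb.homeomorph.symm_apply_apply (g x)).symm
    rw [h1]
    exact hb.homeomorph.symm.isOpenMap.comp (hg'.comp ha.isOpenMap)

theorem injective_iff_of_isHomeomorph {A A' B B' : Type (u + 1)} [TopologicalSpace A] [TopologicalSpace A']
    [TopologicalSpace B] [TopologicalSpace B'] (a : A → A') (b : B → B') (g : A → B) (g' : A' → B')
    (ha : IsHomeomorph a) (hb : IsHomeomorph b) (h : g' ∘ a = b ∘ g) :
    Function.Injective g ↔ Function.Injective g' := by
  constructor
  · intro hg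
    have h2 : Function.Injective (g' ∘ a) := by
      rw [h]
      exact hb.injective.comp hg
    intro x y hxy
    obtain ⟨x, rfl⟩ := ha.surjective x
    obtain ⟨y, rfl⟩ := ha.surjective y
    exact congrArg a (h2 hxy)
  · intro hg'
    have h2 : Function.Injective (b ∘ g) := by
      rw [← h]
      exact hg'.comp ha.injective
    exact Function.Injective.of_comp h2

theorem surjective_iff_of_isHomeomorph {A A' B B' : Type (u + 1)} [TopologicalSpace A] [TopologicalSpace A']
    [TopologicalSpace B] [TopologicalSpace B'] (a : A → A') (b : B → B') (g : A → B) (g' : A' → B')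
    (ha : IsHomeomorph a) (hb : IsHomeomorph b) (h : g' ∘ a = b ∘ g) :
    Function.Surjective g ↔ Function.Surjective g' := by
  constructor
  · intro hg
    have h2 : Function.Surjective (g' ∘ a) := by
      rw [h]
      exact hb.surjective.comp hg
    exact Function.Surjective.of_comp h2
  · intro hg'
    have h2 : Function.Surjective (b ∘ g) := by
      rw [← h]
      exact hg'.comp ha.surjective
    intro y
    obtain ⟨x, hx⟩ := h2 (b y)
    exact ⟨x, hb.injective hx⟩

/-- Quasi-compactness for a morphism of thickenings. -/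
theorem isQuasiCompactMor_iff_of_thick {X X' Y Y' : Sp S} (hX : IsAlgSpace X) (hX' : IsAlgSpace X')
    (hY : IsAlgSpace Y) (hY' : IsAlgSpace Y')
    (i : X ⟶ X') (j : Y ⟶ Y') (f : X ⟶ Y) (f' : X' ⟶ Y') (hi : IsThickMor i) (hj : IsThickMor j)
    (w : i ≫ f' = f ≫ j) : IsQuasiCompactMor f ↔ IsQuasiCompactMor f' := by
  haveI := mono_of_isThickMor hj
  constructor
  · intro h Z' W' hZ' hZ'qc g' fst' snd' sq'
    obtain ⟨sW, hth1, hth2, sqW, hcomm⟩ := exists_thick_of_isPullback' i j f f' hi hj w g' fst' snd' sq'
    have hZ : IsAlgSpace (pullback g' j) :=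
      isAlgSpace_of_isPullback hZ' hY'.diag hY (IsPullback.of_hasPullback g' j)
    have hW' : IsAlgSpace W' := isAlgSpace_of_isPullback hX' hY'.diag hZ' sq'
    have hW : IsAlgSpace (pullback fst' i) :=
      isAlgSpace_of_isPullback hW' hX'.diag hX (IsPullback.of_hasPullback fst' i)
    have hZqc : IsQuasiCompactSp (pullback g' j) :=
      (isQuasiCompactSp_iff_of_isThickMor hZ hZ' _ hth2).2 hZ'qc
    have hWqc : IsQuasiCompactSp (pullback fst' i) :=
      h hZ hZqc (pullback.snd g' j) (pullback.snd fst' i) sW sqW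
    exact (isQuasiCompactSp_iff_of_isThickMor hW hW' _ hth1).1 hWqc
  · intro h Z W hZ hZqc g fst snd sq
    obtain ⟨k, hk, hk2, -⟩ := exists_thick_of_isPullback i j f f' hi w g fst snd sq
    have hW : IsAlgSpace W := isAlgSpace_of_isPullback hX hY.diag hZ sq
    have hW' : IsAlgSpace (pullback f' (g ≫ j)) :=
      isAlgSpace_of_isPullback hX' hY'.diag hZ (IsPullback.of_hasPullback f' (g ≫ j))
    have hW'qc : IsQuasiCompactSp (pullback f' (g ≫ j)) :=
      h hZ hZqc (g ≫ j) (pullback.fst f' (g ≫ j)) (pullback.snd f' (g ≫ j)) (IsPullback.of_hasPullback _ _)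
    exact (isQuasiCompactSp_iff_of_isThickMor hW hW' _ hk).2 hW'qc

/-- **Topological properties of a morphism of thickenings.** -/
theorem topological_iff_of_thick {X X' Y Y' : Sp S} (hX : IsAlgSpace X) (hX' : IsAlgSpace X')
    (hY : IsAlgSpace Y) (hY' : IsAlgSpace Y')
    (i : X ⟶ X') (j : Y ⟶ Y') (f : X ⟶ Y) (f' : X' ⟶ Y') (hi : IsThickMor i) (hj : IsThickMor j)
    (w : i ≫ f' = f ≫ j) :
    (IsSurjectiveMor f ↔ IsSurjectiveMor f') ∧ (IsQuasiCompactMor f ↔ IsQuasiCompactMor f') ∧
    (IsUnivClosedMor f ↔ IsUnivClosedMor f') ∧ (IsUnivInjectiveMor f ↔ IsUnivInjectiveMor f') ∧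
    (IsUnivOpenMor f ↔ IsUnivOpenMor f') := by
  refine ⟨?_, isQuasiCompactMor_iff_of_thick hX hX' hY hY' i j f f' hi hj w, ?_, ?_, ?_⟩
  · refine surjective_iff_of_isHomeomorph (Points.map i) (Points.map j) (Points.map f) (Points.map f')
      (isHomeomorph_points_of_isThickMor hX hX' i hi) (isHomeomorph_points_of_isThickMor hY hY' j hj) ?_
    funext x
    show Points.map f' (Points.map i x) = Points.map j (Points.map f x)
    rw [← Points.map_comp, ← Points.map_comp, w]
  · exact univSp_iff_of_thick (fun g => IsClosedMap g) isClosedMap_iff_of_isHomeomorph hX hX' hY hY' i j f f'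
      hi hj w
  · exact univSp_iff_of_thick (fun g => Function.Injective g) injective_iff_of_isHomeomorph hX hX' hY hY'
      i j f f' hi hj w
  · exact univSp_iff_of_thick (fun g => IsOpenMap g) isOpenMap_iff_of_isHomeomorph hX hX' hY hY' i j f f'
      hi hj w

end Groth.Agent.Lib.Helper16.Thick
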