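import Groth.Agent.Lib.Helper16.QsNoeth
import Mathlib.AlgebraicGeometry.Morphisms.FlatMono

/-!
# Helper library (helper16): the scheme of ordered `k`-tuples of pairwise distinct points in the fibres of a finite
etale chart `a : h_U ⟶ X`
-/

set_option autoImplicit false
universe u
open CategoryTheory CategoryTheory.Limits AlgebraicGeometry Opposite

namespace Groth.Agent.Lib.Helper16.Tuple

open AlgSp Strata

variable {S : Scheme.{u}} {X : Sp S} {U : Over S}

/-- Two `T`-points of `U` are nowhere equal. -/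
def Disj {T : Over S} (v v' : T ⟶ U) : Prop :=
  ∀ (Z : Over S) (z : Z ⟶ T), z ≫ v = z ≫ v' → IsEmpty ↥Z.left

theorem Disj.symm {T : Over S} {v v' : T ⟶ U} (h : Disj v v') : Disj v' v := fun Z z hz => h Z z hz.symm

theorem Disj.comp {T T' : Over S} {v v' : T ⟶ U} (h : Disj v v') (g : T' ⟶ T) : Disj (g ≫ v) (g ≫ v') :=
  fun Z z hz => h Z (z ≫ g) (by simpa only [Category.assoc] using hz)

/-- A `k`-tuple of `T`-points of `U` with the same image in `X`, pairwise nowhere equal. -/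
structure IsTuple (a : (yon S).obj U ⟶ X) {T : Over S} {k : ℕ} (v : Fin k → (T ⟶ U)) : Prop where
  eq : ∀ i j, (yon S).map (v i) ≫ a = (yon S).map (v j) ≫ a
  disj : ∀ i j, i ≠ j → Disj (v i) (v j)

theorem IsTuple.comp {a : (yon S).obj U ⟶ X} {T T' : Over S} {k : ℕ} {v : Fin k → (T ⟶ U)}
    (h : IsTuple a v) (g : T' ⟶ T) : IsTuple a (fun i => g ≫ v i) :=
  ⟨fun i j => by rw [Functor.map_comp, Functor.map_comp, Category.assoc, Category.assoc, h.eq i j],
    fun i j hij => (h.disj i j hij).comp g⟩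

theorem IsTuple.reindex {a : (yon S).obj U ⟶ X} {T : Over S} {k l : ℕ} {v : Fin k → (T ⟶ U)}
    (h : IsTuple a v) (σ : Fin l → Fin k) (hσ : Function.Injective σ) : IsTuple a (fun i => v (σ i)) :=
  ⟨fun _ _ => h.eq _ _, fun _ _ hij => h.disj _ _ (fun e => hij (hσ e))⟩

/-- The universal `k`-tuple. -/
structure IsUniv (a : (yon S).obj U ⟶ X) {W : Over S} {k : ℕ} (π : Fin k → (W ⟶ U)) : Prop where
  tuple : IsTuple a π
  lift : ∀ (T : Over S) (v : Fin k → (T ⟶ U)), IsTuple a v → ∃ w : T ⟶ W, ∀ i, w ≫ π i = v i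
  ext : ∀ (T : Over S) (w w' : T ⟶ W), (∀ i, w ≫ π i = w' ≫ π i) → w = w'

theorem isOpenImmersion_of_section {P W : Scheme.{u}} (p : P ⟶ W) (σ : W ⟶ P) (h : σ ≫ p = 𝟙 W) [Etale p] :
    IsOpenImmersion σ := by
  have h1 : Etale (σ ≫ p) := by rw [h]; infer_instance
  have h2 : Etale σ := MorphismProperty.of_postcomp (W := @Etale) (W' := @Etale) σ p inferInstance h1
  have h3 : Mono σ := mono_of_mono_fac h
  exact IsOpenImmersion.of_flat_of_mono σ

theorem isClosedImmersion_of_section {P W : Scheme.{u}} (p : P ⟶ W) (σ : W ⟶ P) (h : σ ≫ p = 𝟙 W)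
    [IsSeparated p] : IsClosedImmersion σ := by
  have : IsClosedImmersion (σ ≫ p) := by rw [h]; infer_instance
  exact IsClosedImmersion.of_comp σ p

section Step

variable {a : (yon S).obj U ⟶ X} {W P : Over S} {b : (yon S).obj W ⟶ X} {p₁ : P ⟶ W} {p₂ : P ⟶ U}
  (sqP : IsPullback ((yon S).map p₂) ((yon S).map p₁) a b)
include sqP

/-- A point of `P = W ×_X U` at which the two coordinates `πi ∘ p₁` and `p₂` agree lies on the section `σ`. -/
theorem comp_eq_comp_section {πi : W ⟶ U} {σ : W ⟶ P} (hσ1 : σ ≫ p₁ = 𝟙 W) (hσ2 : σ ≫ p₂ = πi) {T Z : Over S}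
    (τ : T ⟶ P) (z : Z ⟶ T) (h : z ≫ τ ≫ p₂ = z ≫ τ ≫ p₁ ≫ πi) : z ≫ τ = (z ≫ τ ≫ p₁) ≫ σ := by
  apply hom_ext_R₂ sqP
  · simp only [Category.assoc, hσ2]
    exact h
  · simp only [Category.assoc, hσ1, Category.comp_id]

/-- Near a point of `T` mapping to the section `σ`, the two coordinates `πi ∘ p₁` and `p₂` agree. -/
theorem exists_eq_of_mem_range_section {πi : W ⟶ U} {σ : W ⟶ P} (hσ1 : σ ≫ p₁ = 𝟙 W) (hσ2 : σ ≫ p₂ = πi)
    [IsOpenImmersion σ.left] {T : Over S} (τ : T ⟶ P) (t : ↥T.left) (ht : τ.left t ∈ Set.range σ.left) :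
    ∃ (Z : Over S) (z : Z ⟶ T), Nonempty ↥Z.left ∧ z ≫ τ ≫ p₂ = z ≫ τ ≫ p₁ ≫ πi := by
  obtain ⟨Oz, hOz⟩ : ∃ Oz : T.left.Opens, Oz = τ.left ⁻¹ᵁ σ.left.opensRange := ⟨_, rfl⟩
  have hrange : Set.range (Oz.ι ≫ τ.left) ⊆ Set.range σ.left := by
    have hmem : ∀ x : ↥T.left, x ∈ Oz → τ.left x ∈ Set.range σ.left := by
      intro x hx
      rw [hOz] at hx
      exact hx
    rintro _ ⟨y, rfl⟩
    exact hmem _ y.2
  let ℓ₀ := IsOpenImmersion.lift σ.left (Oz.ι ≫ τ.left) hrange
  have hℓ₀ : ℓ₀ ≫ σ.left = Oz.ι ≫ τ.left := IsOpenImmersion.lift_fac _ _ _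
  let ℓ : overOpen T Oz ⟶ W := Over.homMk ℓ₀ (by
    simp only [overOpen, Over.mk_hom]
    rw [← Over.w σ, ← Category.assoc, hℓ₀, Category.assoc, Over.w])
  have hℓ : ℓ ≫ σ = overOpenι T Oz ≫ τ := by
    ext1
    exact hℓ₀
  have htO : t ∈ Oz := by
    rw [hOz]
    exact ht
  refine ⟨overOpen T Oz, overOpenι T Oz, ⟨⟨t, htO⟩⟩, ?_⟩
  rw [← Category.assoc, ← hℓ, Category.assoc, hσ2, ← Category.assoc (overOpenι T Oz), ← hℓ, Category.assoc,
    ← Category.assoc σ, hσ1, Category.id_comp]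

end Step

/-- The inductive step: from the universal `(k+1)`-tuple to the universal `(k+2)`-tuple. -/
theorem exists_univ_succ {a : (yon S).obj U ⟶ X} (hae : RepWith @Etale a) (haf : RepWith @IsFinite a) {k : ℕ}
    {W : Over S} {π : Fin (k + 1) → (W ⟶ U)} (hπ : IsUniv a π) (hfin : IsFinite (π 0).left)
    (het : Etale (π 0).left) :
    ∃ (W' : Over S) (π' : Fin (k + 2) → (W' ⟶ U)), IsUniv a π' ∧ IsFinite (π' 0).left ∧ Etale (π' 0).left := by
  obtain ⟨P, p₁, ρ, sqP⟩ := hae.rep ((yon S).map (π 0) ≫ a)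
  obtain ⟨p₂, rfl⟩ := (yon S).map_surjective ρ
  have hp₁f : IsFinite p₁.left := haf.property _ _ _ sqP
  have hp₁e : Etale p₁.left := hae.property _ _ _ sqP
  -- the sections
  have hσ : ∀ i, ∃ σ : W ⟶ P, σ ≫ p₂ = π i ∧ σ ≫ p₁ = 𝟙 W := fun i =>
    exists_lift_R₂ sqP (π i) (𝟙 W) (by
      rw [yon_map_id, Category.id_comp]
      exact hπ.tuple.eq i 0)
  choose σ hσ2 hσ1 using hσ
  have hσl : ∀ i, (σ i).left ≫ p₁.left = 𝟙 W.left := fun i => by
    rw [← Over.comp_left, hσ1]; rfl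
  have hσo : ∀ i, IsOpenImmersion (σ i).left := fun i => isOpenImmersion_of_section p₁.left _ (hσl i)
  have hσc : ∀ i, IsClosedImmersion (σ i).left := fun i => isClosedImmersion_of_section p₁.left _ (hσl i)
  obtain ⟨O, hO⟩ : ∃ O : P.left.Opens, (O : Set ↥P.left) = (⋃ i, Set.range (σ i).left)ᶜ :=
    ⟨⟨_, (isClosed_iUnion_of_finite fun i => (σ i).left.isClosedEmbedding.isClosed_range).isOpen_compl⟩, rfl⟩
  have hOcl : IsClosed (O : Set ↥P.left) := by
    rw [hO]
    exact (isOpen_iUnion fun i => (σ i).left.isOpenEmbedding.isOpen_range).isClosed_compl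
  have hιcl : IsClosedImmersion O.ι := by
    refine IsClosedImmersion.of_isPreimmersion _ ?_
    rw [Scheme.Opens.range_ι]
    exact hOcl
  have hmemO : ∀ (p : ↥P.left) (i : Fin (k + 1)), p ∈ O → p ∉ Set.range (σ i).left := by
    intro p i hp hpi
    have : p ∈ (O : Set ↥P.left) := hp
    rw [hO] at this
    exact this (Set.mem_iUnion.2 ⟨i, hpi⟩)
  obtain ⟨ι, hι⟩ : ∃ ι : overOpen P O ⟶ P, ι = overOpenι P O := ⟨_, rfl⟩
  have hιmono : Mono ι := by
    have : Mono ((Over.forget S).map ι) := by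
      rw [hι]
      change Mono O.ι
      infer_instance
    exact (Over.forget S).mono_of_mono_map this
  have hιmem : ∀ {Z : Over S} (z : Z ⟶ overOpen P O) (z₀ : ↥Z.left), (z ≫ ι).left z₀ ∈ O := by
    intro Z z z₀
    rw [hι]
    exact (z.left z₀).2
  refine ⟨overOpen P O, Fin.snoc (fun i => ι ≫ p₁ ≫ π i) (ι ≫ p₂), ⟨⟨?_, ?_⟩, ?_, ?_⟩, ?_, ?_⟩
  · -- equal images
    have hall : ∀ i : Fin (k + 2), (yon S).map ((Fin.snoc (fun i => ι ≫ p₁ ≫ π i) (ι ≫ p₂) :
        Fin (k + 2) → (overOpen P O ⟶ U)) i) ≫ a =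
        (yon S).map ι ≫ (yon S).map p₁ ≫ (yon S).map (π 0) ≫ a := by
      intro i
      refine Fin.lastCases ?_ (fun i => ?_) i
      · rw [Fin.snoc_last, Functor.map_comp, Category.assoc, sqP.w]
      · rw [Fin.snoc_castSucc, Functor.map_comp, Functor.map_comp, Category.assoc, Category.assoc,
          hπ.tuple.eq i 0]
    intro i j
    rw [hall i, hall j]
  · -- pairwise disjoint
    have hlast : ∀ i : Fin (k + 1), Disj (ι ≫ p₁ ≫ π i) (ι ≫ p₂) := by
      intro i Z z hz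
      refine ⟨fun z₀ => ?_⟩
      have h1 : z ≫ ι = (z ≫ ι ≫ p₁) ≫ σ i :=
        comp_eq_comp_section sqP (hσ1 i) (hσ2 i) ι z hz.symm
      have h2 : (z ≫ ι).left z₀ ∈ Set.range (σ i).left := by
        rw [h1, Over.comp_left, Scheme.Hom.comp_apply]
        exact Set.mem_range_self _
      exact hmemO _ i (hιmem z z₀) h2
    intro i j
    refine Fin.lastCases ?_ (fun i => ?_) i
    · refine Fin.lastCases ?_ (fun j => ?_) j
      · intro h; exact absurd rfl h
      · intro _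
        rw [Fin.snoc_last, Fin.snoc_castSucc]
        exact (hlast j).symm
    · refine Fin.lastCases ?_ (fun j => ?_) j
      · intro _
        rw [Fin.snoc_last, Fin.snoc_castSucc]
        exact hlast i
      · intro hij
        rw [Fin.snoc_castSucc, Fin.snoc_castSucc]
        have hij' : i ≠ j := fun e => hij (by rw [e])
        have := (hπ.tuple.disj i j hij').comp (ι ≫ p₁)
        simpa only [Category.assoc] using this
  · -- lifting
    intro T v hv
    have hv₀ : IsTuple a (fun i : Fin (k + 1) => v (Fin.castSucc i)) :=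
      hv.reindex Fin.castSucc (Fin.castSucc_injective _)
    obtain ⟨w₀, hw₀⟩ := hπ.lift T _ hv₀
    obtain ⟨τ, hτ2, hτ1⟩ := exists_lift_R₂ sqP (v (Fin.last _)) w₀ (by
      rw [← Category.assoc, ← Functor.map_comp, hw₀ 0]
      exact hv.eq _ _)
    have hrange : Set.range τ.left ⊆ Set.range O.ι := by
      rw [Scheme.Opens.range_ι, hO]
      rintro _ ⟨t, rfl⟩ hmem
      obtain ⟨i, hi⟩ := Set.mem_iUnion.1 hmem
      have := hσo i
      obtain ⟨Z, z, hZ, hz⟩ := exists_eq_of_mem_range_section sqP (hσ1 i) (hσ2 i) τ t hi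
      rw [hτ2, ← Category.assoc τ p₁, hτ1, hw₀ i] at hz
      have := hv.disj (Fin.castSucc i) (Fin.last _) (Fin.castSucc_lt_last i).ne Z z hz.symm
      exact this.false hZ.some
    let w₁ := IsOpenImmersion.lift O.ι τ.left hrange
    have hw₁ : w₁ ≫ O.ι = τ.left := IsOpenImmersion.lift_fac _ _ _
    let w : T ⟶ overOpen P O := Over.homMk w₁ (by
      simp only [overOpen, Over.mk_hom]
      rw [← Category.assoc, hw₁, Over.w])
    have hw : w ≫ ι = τ := by
      rw [hι]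
      ext1
      exact hw₁
    refine ⟨w, fun i => ?_⟩
    refine Fin.lastCases ?_ (fun i => ?_) i
    · rw [Fin.snoc_last, ← Category.assoc, hw, hτ2]
    · rw [Fin.snoc_castSucc, ← Category.assoc, hw, ← Category.assoc, hτ1, hw₀]
  · -- uniqueness
    intro T w w' h
    rw [← cancel_mono ι]
    apply hom_ext_R₂ sqP
    · have := h (Fin.last _)
      simpa only [Fin.snoc_last, Category.assoc] using this
    · apply hπ.ext
      intro i
      have := h (Fin.castSucc i)
      simpa only [Fin.snoc_castSucc, Category.assoc] using this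
  · -- finite
    have e0 : (Fin.snoc (fun i => ι ≫ p₁ ≫ π i) (ι ≫ p₂) : Fin (k + 2) → (overOpen P O ⟶ U)) 0 =
        ι ≫ p₁ ≫ π 0 := by
      rw [← Fin.castSucc_zero, Fin.snoc_castSucc]
    rw [e0, hι]
    show IsFinite (O.ι ≫ p₁.left ≫ (π 0).left)
    infer_instance
  · have e0 : (Fin.snoc (fun i => ι ≫ p₁ ≫ π i) (ι ≫ p₂) : Fin (k + 2) → (overOpen P O ⟶ U)) 0 =
        ι ≫ p₁ ≫ π 0 := by
      rw [← Fin.castSucc_zero, Fin.snoc_castSucc]
    rw [e0, hι]
    show Etale (O.ι ≫ p₁.left ≫ (π 0).left)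
    infer_instance

/-- The universal `(k+1)`-tuple exists, and is finite etale over `U`. -/
theorem exists_univ {a : (yon S).obj U ⟶ X} (hae : RepWith @Etale a) (haf : RepWith @IsFinite a) (k : ℕ) :
    ∃ (W : Over S) (π : Fin (k + 1) → (W ⟶ U)), IsUniv a π ∧ IsFinite (π 0).left ∧ Etale (π 0).left := by
  induction k with
  | zero =>
    refine ⟨U, fun _ => 𝟙 U, ⟨⟨fun _ _ => rfl, fun i j hij => absurd (@Subsingleton.elim (Fin (0 + 1)) (inferInstanceAs (Subsingleton (Fin 1))) i j) hij⟩, ?_, ?_⟩, ?_, ?_⟩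
    · intro T v _
      refine ⟨v 0, fun i => ?_⟩
      rw [Category.comp_id, @Subsingleton.elim (Fin (0 + 1)) (inferInstanceAs (Subsingleton (Fin 1))) i 0]
    · intro T w w' h
      simpa only [Category.comp_id] using h 0
    · show IsFinite (𝟙 U.left)
      infer_instance
    · show Etale (𝟙 U.left)
      infer_instance
  | succ k ih =>
    obtain ⟨W, π, hπ, hfin, het⟩ := ih
    exact exists_univ_succ hae haf hπ hfin het

end Groth.Agent.Lib.Helper16.Tuple
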