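import Groth.Agent.Lib.Helper16.TupleAct
import Groth.Agent.Lib.Helper16.TupleSep

/-!
# Helper library (helper16): pointwise version of `Tuple.exists_perm_of_eq`, and the image of the universal tuple
-/

set_option autoImplicit false
universe u
open CategoryTheory CategoryTheory.Limits AlgebraicGeometry Opposite

namespace Groth.Agent.Lib.Helper16.Tuple

open AlgSp Strata

variable {S : Scheme.{u}} {X : Sp S} {U : Over S} {a : (yon S).obj U ⟶ X} {W : Over S} {d : ℕ}
  {π : Fin d → (W ⟶ U)}

section Kernel

variable {R : Over S} {c sn : R ⟶ U}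

/-- The kernel pair of `h_W ⟶ X` is, near a point over which the chart has at most `d` geometric points, the graph
of the action of the symmetric group. -/
theorem exists_perm_of_eq_at (hπ : IsUniv a π) (hae : RepWith @Etale a)
    (sq : IsPullback ((yon S).map c) ((yon S).map sn) a a)
    (i₀ : Fin d) {T : Over S} (w w' : T ⟶ W)
    (h : (yon S).map (w ≫ π i₀) ≫ a = (yon S).map (w' ≫ π i₀) ≫ a) (t : ↥T.left)
    (hdeg : ∀ i, ¬ HasDeg sn.left ((w' ≫ π i).left t) (d + 1)) :
    ∃ O : T.left.Opens, t ∈ O ∧ ∃ σ : Equiv.Perm (Fin d),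
      overOpenι T O ≫ w' = overOpenι T O ≫ w ≫ act hπ σ := by
  have hall : ∀ i j, (yon S).map (w ≫ π j) ≫ a = (yon S).map (w' ≫ π i) ≫ a := by
    intro i j
    have h1 : (yon S).map (w ≫ π j) ≫ a = (yon S).map (w ≫ π i₀) ≫ a := by
      rw [Functor.map_comp, Functor.map_comp, Category.assoc, Category.assoc, hπ.tuple.eq j i₀]
    have h2 : (yon S).map (w' ≫ π i) ≫ a = (yon S).map (w' ≫ π i₀) ≫ a := by
      rw [Functor.map_comp, Functor.map_comp, Category.assoc, Category.assoc, hπ.tuple.eq i i₀]
    rw [h1, h2, h]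
  have hρ : ∀ i j, ∃ ρ : T ⟶ R, ρ ≫ c = w ≫ π j ∧ ρ ≫ sn = w' ≫ π i := fun i j =>
    exists_lift_R sq _ _ (hall i j)
  choose ρ hρc hρs using hρ
  obtain ⟨e, hec, hes⟩ := exists_lift_R sq (𝟙 U) (𝟙 U) rfl
  have hsn : Etale sn.left := hae.property _ _ _ sq
  have hesl : e.left ≫ sn.left = 𝟙 U.left := by
    rw [← Over.comp_left, hes]
    rfl
  have heo : IsOpenImmersion e.left := isOpenImmersion_of_section sn.left e.left hesl
  -- the residue field point
  have hzt : ∀ y : ↥(ptOver T t).left, (ptOverι T t).left y = t := fun y =>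
    T.left.fromSpecResidueField_apply t y
  have hzne : Nonempty ↥(ptOver T t).left :=
    ⟨(IsLocalRing.closedPoint (T.left.residueField t) : ↥(Spec (T.left.residueField t)))⟩
  -- for each `i` some `ρ i j` meets the diagonal at `t`
  have hA : ∀ i, ∃ j, (ρ i j).left t ∈ Set.range e.left := by
    intro i
    by_contra hcon
    push Not at hcon
    let K := T.left.residueField t
    let xt : Spec K ⟶ T.left := T.left.fromSpecResidueField t
    let x : Spec K ⟶ U.left := xt ≫ (w' ≫ π i).left
    have hrs : ∀ j, (xt ≫ (ρ i j).left) ≫ sn.left = x := fun j => by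
      rw [Category.assoc, ← Over.comp_left, hρs]
    have hinj : Function.Injective (fun j => xt ≫ (ρ i j).left) := by
      intro j j' hjj
      by_contra hne
      have h1 : xt ≫ (w ≫ π j).left = xt ≫ (w ≫ π j').left := by
        rw [← hρc i j, ← hρc i j', Over.comp_left, Over.comp_left, ← Category.assoc, ← Category.assoc]
        exact congrArg (· ≫ c.left) hjj
      have h2 : ptOverι T t ≫ w ≫ π j = ptOverι T t ≫ w ≫ π j' := by
        ext1
        exact h1
      exact ((hπ.tuple.disj j j' hne).comp w _ (ptOverι T t) h2).false hzne.some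
    have hxt : x (IsLocalRing.closedPoint K) = (w' ≫ π i).left t := by
      show (xt ≫ (w' ≫ π i).left) (IsLocalRing.closedPoint K) = (w' ≫ π i).left t
      rw [Scheme.Hom.comp_apply]
      exact congrArg _ (T.left.fromSpecResidueField_apply t _)
    obtain ⟨j, hj⟩ := isDiagonal_of_hasDeg hes x (fun j => xt ≫ (ρ i j).left) hrs hinj (by
      have h' := hdeg i
      rw [← hxt] at h'
      exact h')
    apply hcon j
    refine ⟨x (IsLocalRing.closedPoint K), ?_⟩
    have h3 : (ρ i j).left (xt (IsLocalRing.closedPoint K)) = e.left (x (IsLocalRing.closedPoint K)) := by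
      have := congrArg (fun f : Spec K ⟶ R.left => f (IsLocalRing.closedPoint K)) hj
      exact this
    rw [← h3]
    exact congrArg _ (T.left.fromSpecResidueField_apply t _)
  choose τ hτ using hA
  -- on the residue field point the coordinates agree
  have hpt : ∀ i, ptOverι T t ≫ w ≫ π (τ i) = ptOverι T t ≫ w' ≫ π i := by
    intro i
    have := comp_c_eq_comp_sn_of_range_subset hec hes (ptOverι T t ≫ ρ i (τ i)) (by
      rintro _ ⟨y, rfl⟩
      rw [Over.comp_left, Scheme.Hom.comp_apply, hzt y]
      exact hτ i)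
    rw [Category.assoc, Category.assoc, hρc, hρs] at this
    exact this
  have hτinj : Function.Injective τ := by
    intro i i' hii
    by_contra hne
    have h1 : ptOverι T t ≫ w' ≫ π i = ptOverι T t ≫ w' ≫ π i' := by
      rw [← hpt i, ← hpt i', hii]
    exact ((hπ.tuple.disj i i' hne).comp w' _ (ptOverι T t) h1).false hzne.some
  let σ : Equiv.Perm (Fin d) := Equiv.ofBijective τ (Finite.injective_iff_bijective.1 hτinj)
  obtain ⟨O, hO⟩ : ∃ O : T.left.Opens, (O : Set ↥T.left) = ⋂ i, (ρ i (τ i)).left ⁻¹' Set.range e.left :=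
    ⟨⟨_, isOpen_iInter_of_finite fun i =>
      e.left.isOpenEmbedding.isOpen_range.preimage (ρ i (τ i)).left.continuous⟩, rfl⟩
  have hOmem : ∀ (y : ↥T.left), y ∈ O → ∀ i, (ρ i (τ i)).left y ∈ Set.range e.left := by
    intro y hy
    have : y ∈ (O : Set ↥T.left) := hy
    rw [hO] at this
    exact Set.mem_iInter.1 this
  refine ⟨O, ?_, σ, ?_⟩
  · show t ∈ (O : Set ↥T.left)
    rw [hO]
    exact Set.mem_iInter.2 hτ
  · apply hπ.ext
    intro i
    have := comp_c_eq_comp_sn_of_range_subset hec hes (overOpenι T O ≫ ρ i (τ i)) (by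
      rintro _ ⟨y, rfl⟩
      rw [Over.comp_left, Scheme.Hom.comp_apply]
      exact hOmem _ y.2 i)
    rw [Category.assoc, Category.assoc, hρc, hρs] at this
    rw [Category.assoc, Category.assoc, Category.assoc, act_π]
    exact this.symm

end Kernel

end Groth.Agent.Lib.Helper16.Tuple
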