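import Groth.Agent.Lib.Helper16.TwConstFpqc
import Groth.Agent.Lib.Helper15.NoethTop

/-!
# Clopen subschemes of quasi-isotrivial twisted constant schemes over a connected locally Noetherian
base with one finite fibre are finite (helper16).
-/

set_option autoImplicit false

open CategoryTheory CategoryTheory.Limits AlgebraicGeometry MorphismProperty

universe u

namespace Groth.Helper16.TwConstClopen

open Groth.Helper16.TwConstEtale Groth.Helper16.TwConstFpqc

lemma app_comp {X Y Z : Scheme.{u}} (f : X ⟶ Y) (g : Y ⟶ Z) (x : X) : (f ≫ g) x = g (f x) := rfl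

theorem locallyConnectedSpace_of_isLocallyNoetherian (X : Scheme.{u}) [IsLocallyNoetherian X] :
    LocallyConnectedSpace X := by
  apply Groth.Agent.Lib.Helper15.NT.locallyConnectedSpace_of_locallyNoetherian
  intro x
  obtain ⟨_, ⟨(U : X.Opens), hU, rfl⟩, hxU, -⟩ :=
    X.isBasis_affineOpens.exists_subset_of_mem_open (Set.mem_univ x) isOpen_univ
  have : IsNoetherianRing Γ(X, U) := IsLocallyNoetherian.component_noetherian ⟨U, hU⟩
  have h1 : TopologicalSpace.NoetherianSpace {w : X // w ∈ U} := noetherianSpace_of_isAffineOpen U hU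
  exact ⟨(U : Set X), U.isOpen.mem_nhds hxU, h1⟩

section FiniteFibres

set_option backward.isDefEq.respectTransparency.types false in
/-- The set of points of a fibre product `X ×_S S'` over a given pair of points is finite when
`S' ⟶ S` is etale. -/
lemma finite_fibre_pair {X S S' : Scheme.{u}} (a : X ⟶ S) (f : S' ⟶ S) [Etale f] (p : X) (w : S') :
    {ξ : ↥(pullback a f) | pullback.fst a f ξ = p ∧ pullback.snd a f ξ = w}.Finite := by
  by_cases hpw : a p = f w
  swap
  · convert Set.finite_empty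
    ext ξ
    simp only [Set.mem_ofPred_eq, Set.mem_empty_iff_false, iff_false]
    rintro ⟨h1, h2⟩
    apply hpw
    rw [← h1, ← h2, ← app_comp, ← app_comp, pullback.condition]
  obtain ⟨_, ⟨(O : S.Opens), hO, rfl⟩, hsO, -⟩ :=
    S.isBasis_affineOpens.exists_subset_of_mem_open (Set.mem_univ (a p)) isOpen_univ
  obtain ⟨_, ⟨(Y : X.Opens), hY, rfl⟩, hpY, hYO⟩ :=
    X.isBasis_affineOpens.exists_subset_of_mem_open
      (show p ∈ ((a ⁻¹ᵁ O : X.Opens) : Set X) from hsO) (a ⁻¹ᵁ O).isOpen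
  have hwO : w ∈ ((f ⁻¹ᵁ O : S'.Opens) : Set S') := by
    show f w ∈ (O : Set S)
    rw [← hpw]; exact hsO
  obtain ⟨_, ⟨(B : S'.Opens), hB, rfl⟩, hwB, hBO⟩ :=
    S'.isBasis_affineOpens.exists_subset_of_mem_open hwO (f ⁻¹ᵁ O).isOpen
  have : IsAffine (O : Scheme.{u}) := hO
  have : IsAffine (Y : Scheme.{u}) := hY
  have : IsAffine (B : Scheme.{u}) := hB
  have hrY : Set.range (Y.ι ≫ a) ⊆ Set.range O.ι := by
    rw [Scheme.Opens.range_ι]
    rintro _ ⟨y, rfl⟩
    have hy : Y.ι y ∈ Set.range Y.ι := ⟨y, rfl⟩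
    rw [Scheme.Opens.range_ι] at hy
    exact hYO hy
  have hrB : Set.range (B.ι ≫ f) ⊆ Set.range O.ι := by
    rw [Scheme.Opens.range_ι]
    rintro _ ⟨y, rfl⟩
    have hy : B.ι y ∈ Set.range B.ι := ⟨y, rfl⟩
    rw [Scheme.Opens.range_ι] at hy
    exact hBO hy
  have ha₀ : IsOpenImmersion.lift O.ι (Y.ι ≫ a) hrY ≫ O.ι = Y.ι ≫ a :=
    IsOpenImmersion.lift_fac _ _ _
  have hb₀ : IsOpenImmersion.lift O.ι (B.ι ≫ f) hrB ≫ O.ι = B.ι ≫ f :=
    IsOpenImmersion.lift_fac _ _ _
  generalize IsOpenImmersion.lift O.ι (Y.ι ≫ a) hrY = a₀ at ha₀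
  generalize IsOpenImmersion.lift O.ι (B.ι ≫ f) hrB = b₀ at hb₀
  have hb₀et : Etale b₀ := by
    have h1 : Etale (b₀ ≫ O.ι) := by rw [hb₀]; infer_instance
    exact MorphismProperty.of_isPullback (P := @Etale) (isPullback_id_of_mono' b₀ O.ι) h1
  have hlqf0 : LocallyQuasiFinite b₀ := Groth.Agent.Lib.Helper16.locallyQuasiFinite_of_etale b₀
  have hlqf : LocallyQuasiFinite (pullback.fst a₀ b₀) := inferInstance
  have hqc : QuasiCompact (pullback.fst a₀ b₀) := inferInstance
  have hfin := (pullback.fst a₀ b₀).finite_preimage_singleton (⟨p, hpY⟩ : Y)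
  refine (hfin.image (pullback.map a₀ b₀ a f Y.ι B.ι O.ι ha₀ hb₀)).subset ?_
  rintro ξ ⟨h1, h2⟩
  have hξ : ξ ∈ Set.range (pullback.map a₀ b₀ a f Y.ι B.ι O.ι ha₀ hb₀) := by
    rw [Scheme.Pullback.range_map, Scheme.Opens.range_ι, Scheme.Opens.range_ι]
    exact ⟨by rw [Set.mem_preimage, h1]; exact hpY, by rw [Set.mem_preimage, h2]; exact hwB⟩
  obtain ⟨ξ₀, rfl⟩ := hξ
  refine ⟨ξ₀, ?_, rfl⟩
  apply Y.ι.injective
  have e0 : pullback.map a₀ b₀ a f Y.ι B.ι O.ι ha₀ hb₀ ≫ pullback.fst a f =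
      pullback.fst a₀ b₀ ≫ Y.ι := pullback.lift_fst _ _ _
  have e1 : Y.ι (pullback.fst a₀ b₀ ξ₀) =
      pullback.fst a f (pullback.map a₀ b₀ a f Y.ι B.ι O.ι ha₀ hb₀ ξ₀) := by
    rw [← app_comp, ← app_comp, e0]
  rw [e1, h1]; rfl

end FiniteFibres

section Charts

variable {S : Scheme.{u}} (P : Over S) {S' : Scheme.{u}} (f : S' ⟶ S) (I : Type u)
  (e : Red.bc f P ≅ TwC.const S' I)

/-- The `i`-th "section" `S' ⟶ P` of a trivialised twisted constant scheme. -/
noncomputable def kap (i : I) : S' ⟶ P.left :=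
  Sigma.ι (fun _ : I => S') i ≫ e.inv.left ≫ pullback.fst P.hom f

lemma kap_hom (i : I) : kap P f I e i ≫ P.hom = f := by
  have h1 : e.inv.left ≫ pullback.snd P.hom f = cst (S' := S') I := Over.w e.inv
  calc kap P f I e i ≫ P.hom = Sigma.ι (fun _ : I => S') i ≫ e.inv.left ≫
        (pullback.fst P.hom f ≫ P.hom) := by simp only [kap, Category.assoc]
    _ = Sigma.ι (fun _ : I => S') i ≫ (e.inv.left ≫ pullback.snd P.hom f) ≫ f := by
        rw [pullback.condition]; simp only [Category.assoc]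
    _ = f := by rw [h1, ← Category.assoc, ι_cst, Category.id_comp]

lemma inv_hom_apply (ξ : ↥(pullback P.hom f)) : e.inv.left (e.hom.left ξ) = ξ := by
  rw [← app_comp]
  have : e.hom.left ≫ e.inv.left = 𝟙 _ := by
    rw [← Over.comp_left, e.hom_inv_id]; rfl
  rw [this]; rfl

lemma hom_inv_apply (y : ↥(∐ fun _ : I => S')) : e.hom.left (e.inv.left y) = y := by
  rw [← app_comp]
  have : e.inv.left ≫ e.hom.left = 𝟙 _ := by
    rw [← Over.comp_left, e.inv_hom_id]; rfl
  rw [this]; rfl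

/-- (K1) every point of `P` over `f b` is `κ_i b` for some `i`. -/
lemma exists_kap_eq (p : P.left) (b : S') (h : P.hom p = f b) : ∃ i, kap P f I e i b = p := by
  obtain ⟨ξ, hξ₁, hξ₂⟩ := Scheme.Pullback.exists_preimage_pullback (f := P.hom) (g := f) p b h
  obtain ⟨i, b', hb'⟩ := exists_ι_eq I (e.hom.left ξ)
  have h1 : e.hom.left ≫ cst (S' := S') I = pullback.snd P.hom f := Over.w e.hom
  have h2 : cst (S' := S') I (e.hom.left ξ) = b := by
    rw [← app_comp, h1, hξ₂]
  have h3 : b' = b := by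
    rw [← hb', ← app_comp, ι_cst] at h2
    exact h2
  subst h3
  refine ⟨i, ?_⟩
  show pullback.fst P.hom f (e.inv.left (Sigma.ι (fun _ : I => S') i b')) = p
  rw [hb', inv_hom_apply, hξ₁]

/-- (K2) for fixed `w`, `p` the set of `i` with `κ_i w = p` is finite. -/
lemma finite_kap_eq [Etale f] (p : P.left) (w : S') : {i : I | kap P f I e i w = p}.Finite := by
  have hfin := finite_fibre_pair P.hom f p w
  refine Set.Finite.of_finite_image (f := fun i : I => e.inv.left (Sigma.ι (fun _ : I => S') i w))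
    (hfin.subset ?_) ?_
  · rintro _ ⟨i, hi, rfl⟩
    refine ⟨hi, ?_⟩
    have h1 : e.inv.left ≫ pullback.snd P.hom f = cst (S' := S') I := Over.w e.inv
    show pullback.snd P.hom f (e.inv.left (Sigma.ι (fun _ : I => S') i w)) = w
    rw [← app_comp, h1, ← app_comp, ι_cst]; rfl
  · intro i _ j _ hij
    have h2 := congrArg (fun y => e.hom.left y) hij
    simp only [hom_inv_apply] at h2
    have := (sigmaι_eq_iff (fun _ : I => S') i j w w).mp h2
    exact congrArg Sigma.fst this

variable {Z : Scheme.{u}} (z : Z ⟶ P.left) (W : Set S') (s' : S')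

/-- The index set of the components lying in `Z`. -/
def Jset : Set I := {i | kap P f I e i s' ∈ Set.range z}

variable (hW : _root_.IsPreconnected W) (hs'W : s' ∈ W) (hz : IsClopen (Set.range z))

include hW hs'W hz in
lemma kap_mem_iff (i : I) (b : S') (hb : b ∈ W) :
    kap P f I e i b ∈ Set.range z ↔ i ∈ Jset P f I e z s' := by
  have hpre : _root_.IsPreconnected (kap P f I e i '' W) :=
    hW.image _ (kap P f I e i).continuous.continuousOn
  constructor
  · intro h
    exact hpre.subset_isClopen hz ⟨_, ⟨b, hb, rfl⟩, h⟩ ⟨s', hs'W, rfl⟩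
  · intro h
    exact hpre.subset_isClopen hz ⟨_, ⟨s', hs'W, rfl⟩, h⟩ ⟨b, hb, rfl⟩

include hW hs'W hz in
/-- Lemma G. -/
lemma image_preimage_eq (B : Set S') (hBW : B ⊆ W) :
    z '' ((z ≫ P.hom) ⁻¹' (f '' B)) = ⋃ i ∈ Jset P f I e z s', kap P f I e i '' B := by
  ext p
  simp only [Set.mem_image, Set.mem_preimage, Set.mem_iUnion, exists_prop]
  constructor
  · rintro ⟨y, ⟨b, hbB, hb⟩, rfl⟩
    obtain ⟨i, hi⟩ := exists_kap_eq P f I e (z y) b hb.symm
    refine ⟨i, ?_, b, hbB, hi⟩
    exact (kap_mem_iff P f I e z W s' hW hs'W hz i b (hBW hbB)).mp ⟨y, hi.symm⟩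
  · rintro ⟨i, hiJ, b, hbB, rfl⟩
    obtain ⟨y, hy⟩ := (kap_mem_iff P f I e z W s' hW hs'W hz i b (hBW hbB)).mpr hiJ
    refine ⟨y, ⟨b, hbB, ?_⟩, hy⟩
    show f b = P.hom (z y)
    rw [hy, ← app_comp, kap_hom]

include hW hs'W hz in
/-- (F3) and compactness. -/
lemma isCompact_preimage_of_finite [IsOpenImmersion z] (hJ : (Jset P f I e z s').Finite)
    (B : Set S') (hBW : B ⊆ W) (hB : IsCompact B) :
    IsCompact ((z ≫ P.hom) ⁻¹' (f '' B)) := by
  rw [z.isOpenEmbedding.isInducing.isCompact_iff, image_preimage_eq P f I e z W s' hW hs'W hz B hBW]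
  exact hJ.isCompact_biUnion fun i _ => hB.image (kap P f I e i).continuous

include hW hs'W hz in
lemma finite_fibre_of_finite [IsOpenImmersion z] (hJ : (Jset P f I e z s').Finite)
    (w : S') (hw : w ∈ W) : ((z ≫ P.hom) ⁻¹' {f w}).Finite := by
  have h1 := image_preimage_eq P f I e z W s' hW hs'W hz {w} (Set.singleton_subset_iff.mpr hw)
  rw [Set.image_singleton] at h1
  refine Set.Finite.of_finite_image (f := z) ?_ z.injective.injOn
  rw [h1]
  exact hJ.biUnion fun i _ => (Set.finite_singleton w).image _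

include hW hs'W hz in
/-- (F1) -/
lemma finite_of_finite_fibre [Etale f] (w : S') (hw : w ∈ W)
    (hfin : ((z ≫ P.hom) ⁻¹' {f w}).Finite) : (Jset P f I e z s').Finite := by
  have h1 := image_preimage_eq P f I e z W s' hW hs'W hz {w} (Set.singleton_subset_iff.mpr hw)
  rw [Set.image_singleton] at h1
  have h2 : (z '' ((z ≫ P.hom) ⁻¹' {f w})).Finite := hfin.image _
  have h3 : Jset P f I e z s' ⊆ ⋃ p ∈ z '' ((z ≫ P.hom) ⁻¹' {f w}), {i : I | kap P f I e i w = p} := by
    intro i hi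
    have : kap P f I e i w ∈ z '' ((z ≫ P.hom) ⁻¹' {f w}) := by
      rw [h1]
      exact Set.mem_biUnion hi ⟨w, rfl, rfl⟩
    exact Set.mem_biUnion this rfl
  exact (h2.biUnion fun p _ => finite_kap_eq P f I e p w).subset h3

end Charts

section Main

set_option backward.isDefEq.respectTransparency.types false in
theorem quasiCompact_of_clopen {S : Scheme.{u}} [IsLocallyNoetherian S] [ConnectedSpace S]
    (P : Over S) (hP : TwC.IsTwConst TwC.Topology.etale P)
    {Z : Scheme.{u}} (z : Z ⟶ P.left) [IsOpenImmersion z] [IsClosedImmersion z]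
    (hs : ∃ s : S, Set.Finite ((z ≫ P.hom).base ⁻¹' {s})) :
    QuasiCompact (z ≫ P.hom) := by
  have hP' : ∀ s : S, ∃ (S' : Scheme.{u}) (f : S' ⟶ S), Etale f ∧ s ∈ Set.range f.base ∧
      ∃ I : Type u, Nonempty (Red.bc f P ≅ TwC.const S' I) := hP
  choose S' f hf hsr I e using hP'
  choose sp hsp using hsr
  have hz : IsClopen (Set.range z) :=
    ⟨z.isClosedEmbedding.isClosed_range, z.isOpenEmbedding.isOpen_range⟩
  have hLN : ∀ s, IsLocallyNoetherian (S' s) := fun s => by
    have := hf s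
    exact LocallyOfFiniteType.isLocallyNoetherian (f s)
  have hLC : ∀ s, LocallyConnectedSpace (S' s) := fun s =>
    locallyConnectedSpace_of_isLocallyNoetherian (S' s)
  -- the connected open neighbourhoods
  let W : ∀ s, Set (S' s) := fun s => connectedComponent (sp s)
  have hWpre : ∀ s, _root_.IsPreconnected (W s) := fun s => isPreconnected_connectedComponent
  have hWopen : ∀ s, IsOpen (W s) := fun s => by
    have := hLC s
    exact isOpen_connectedComponent
  have hspW : ∀ s, sp s ∈ W s := fun s => mem_connectedComponent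
  have hfopen : ∀ s, IsOpenMap (f s) := fun s => by
    have := hf s
    exact (f s).isOpenMap
  have hNopen : ∀ s, IsOpen ((f s) '' W s) := fun s => hfopen s _ (hWopen s)
  have hsN : ∀ s, s ∈ (f s) '' W s := fun s => ⟨sp s, hspW s, hsp s⟩
  -- the key equivalence
  have key : ∀ s t, t ∈ (f s) '' W s →
      (((z ≫ P.hom) ⁻¹' {t}).Finite ↔ (Jset P (f s) (I s) (e s).some z (sp s)).Finite) := by
    rintro s _ ⟨w, hw, rfl⟩
    have := hf s
    exact ⟨finite_of_finite_fibre P (f s) (I s) (e s).some z (W s) (sp s) (hWpre s) (hspW s) hz w hw,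
      fun hJ => finite_fibre_of_finite P (f s) (I s) (e s).some z (W s) (sp s) (hWpre s) (hspW s) hz
        hJ w hw⟩
  -- the set of points with finite fibre is clopen
  let A : Set S := {t | ((z ≫ P.hom) ⁻¹' {t}).Finite}
  have hAopen : IsOpen A := by
    rw [isOpen_iff_forall_mem_open]
    intro t ht
    refine ⟨(f t) '' W t, ?_, hNopen t, hsN t⟩
    intro t' ht'
    exact (key t t' ht').mpr ((key t t (hsN t)).mp ht)
  have hAclosed : IsClosed A := by
    rw [← closure_subset_iff_isClosed]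
    intro t ht
    obtain ⟨t', ht'N, ht'A⟩ := mem_closure_iff.mp ht _ (hNopen t) (hsN t)
    exact (key t t (hsN t)).mpr ((key t t' ht'N).mp ht'A)
  have hAuniv : A = Set.univ := by
    obtain ⟨s₀, hs₀⟩ := hs
    exact IsClopen.eq_univ ⟨hAclosed, hAopen⟩ ⟨s₀, hs₀⟩
  have hJfin : ∀ s, (Jset P (f s) (I s) (e s).some z (sp s)).Finite := fun s =>
    (key s s (hsN s)).mp (by
      have : s ∈ A := by rw [hAuniv]; trivial
      exact this)
  -- quasi-compactness
  rw [quasiCompact_iff_forall_isAffineOpen]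
  intro V hV
  have hB : ∀ v : S, v ∈ V → ∃ B : Set (S' v), IsCompact B ∧ sp v ∈ B ∧ B ⊆ W v ∧
      (f v) '' B ⊆ (V : Set S) ∧ IsOpen B := by
    intro v hv
    have hopen : IsOpen (W v ∩ (f v) ⁻¹' (V : Set S)) :=
      (hWopen v).inter (V.isOpen.preimage (f v).continuous)
    have hmem : sp v ∈ W v ∩ (f v) ⁻¹' (V : Set S) := ⟨hspW v, by
      show (f v) (sp v) ∈ (V : Set S)
      rw [show (f v) (sp v) = v from hsp v]; exact hv⟩
    obtain ⟨_, ⟨(B : (S' v).Opens), hBaff, rfl⟩, hspB, hBsub⟩ :=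
      (S' v).isBasis_affineOpens.exists_subset_of_mem_open hmem hopen
    refine ⟨(B : Set (S' v)), hBaff.isCompact, hspB, fun x hx => (hBsub hx).1, ?_, B.isOpen⟩
    rintro _ ⟨x, hx, rfl⟩
    exact (hBsub hx).2
  choose! B hBc hspB hBW hBV hBopen using hB
  obtain ⟨t, ht⟩ := hV.isCompact.elim_finite_subcover (fun v : V => (f v.1) '' B v.1)
    (fun v => hfopen v.1 _ (hBopen v.1 v.2))
    (fun v hv => Set.mem_iUnion.2 ⟨⟨v, hv⟩, ⟨sp v, hspB v hv, hsp v⟩⟩)
  have hEq : ((z ≫ P.hom) ⁻¹ᵁ V : Set Z) = ⋃ v ∈ t, (z ≫ P.hom) ⁻¹' ((f v.1) '' B v.1) := by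
    ext y
    simp only [Set.mem_iUnion, Set.mem_preimage, exists_prop]
    constructor
    · intro hy
      have := ht hy
      simp only [Set.mem_iUnion, exists_prop] at this
      exact this
    · rintro ⟨v, -, hv⟩
      exact hBV v.1 v.2 hv
  rw [hEq]
  refine t.finite_toSet.isCompact_biUnion fun v _ => ?_
  exact isCompact_preimage_of_finite P (f v.1) (I v.1) (e v.1).some z (W v.1) (sp v.1) (hWpre v.1)
    (hspW v.1) hz (hJfin v.1) (B v.1) (hBW v.1 v.2) (hBc v.1 v.2)

set_option backward.isDefEq.respectTransparency.types false in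
theorem finite_of_clopen {S : Scheme.{u}} [IsLocallyNoetherian S] [ConnectedSpace S]
    (P : Over S) (hP : TwC.IsTwConst TwC.Topology.etale P)
    {Z : Scheme.{u}} (z : Z ⟶ P.left) [IsOpenImmersion z] [IsClosedImmersion z]
    (hs : ∃ s : S, Set.Finite ((z ≫ P.hom).base ⁻¹' {s})) :
    IsFinite (z ≫ P.hom) := by
  have hqc := quasiCompact_of_clopen P hP z hs
  obtain ⟨hSep, hEt, hVal⟩ := Groth.Helper16.TwConstEtale.main P hP
  have hEx : ValuativeCriterion.Existence P.hom := hVal.existence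
  have h1 : IsSeparated (z ≫ P.hom) := inferInstance
  have h2 : LocallyOfFiniteType (z ≫ P.hom) := inferInstance
  have hzE : ValuativeCriterion.Existence z := by
    have : UniversallyClosed z := inferInstance
    rw [UniversallyClosed.eq_valuativeCriterion] at this
    exact this.1
  have h3 : UniversallyClosed (z ≫ P.hom) :=
    UniversallyClosed.of_valuativeCriterion _ (existence_comp z P.hom hzE hEx)
  have h4 : IsProper (z ≫ P.hom) := {}
  have h5 : LocallyQuasiFinite P.hom := Groth.Agent.Lib.Helper16.locallyQuasiFinite_of_etale _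
  have h6 : LocallyQuasiFinite (z ≫ P.hom) := inferInstance
  exact IsFinite.of_isProper_of_locallyQuasiFinite _

end Main

end Groth.Helper16.TwConstClopen
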