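import Groth.Agent.Lib.Helper16.TwConstEtale
import Groth.Agent.Lib.Helper16.SchemeTop

/-!
# Twisted constant schemes for the fpqc topology: closed quasi-compact subschemes are finite
(helper16).
-/

set_option autoImplicit false

open CategoryTheory CategoryTheory.Limits AlgebraicGeometry MorphismProperty

universe u

namespace Groth.Helper16.TwConstFpqc

open Groth.Helper16.TwConstEtale

section Descent

theorem P_snd_of_isPullback' {C : Type*} [Category C] {P : MorphismProperty C} [P.RespectsIso]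
    {A A' B D E : C} {fst : A ⟶ B} {snd : A ⟶ D} {fst' : A' ⟶ B} {snd' : A' ⟶ D} {f : B ⟶ E}
    {g : D ⟶ E}
    (sq : IsPullback fst snd f g) (sq' : IsPullback fst' snd' f g) (h : P snd') : P snd := by
  rw [← sq.isoIsPullback_hom_snd _ _ sq']
  exact (P.cancel_left_of_respectsIso _ _).2 h

theorem isPullback_id_of_mono' {C : Type*} [Category C] {X V Z : C} (g : X ⟶ V) (j : V ⟶ Z)
    [Mono j] : IsPullback (𝟙 X) g (g ≫ j) j := by
  refine ⟨⟨by rw [Category.id_comp]⟩,
    ⟨PullbackCone.IsLimit.mk _ (fun s => s.fst) (fun s => ?_) (fun s => ?_)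
    (fun s m h1 _ => ?_)⟩⟩
  · exact Category.comp_id _
  · rw [← cancel_mono j, Category.assoc]
    exact s.condition
  · rw [← h1]
    exact (Category.comp_id _).symm

set_option backward.isDefEq.respectTransparency.types false in
/-- Descent of `P` along a finite jointly surjective family of flat morphisms from affine schemes to an
affine scheme. -/
theorem of_fin_affine_cover {P : MorphismProperty Scheme.{u}} [IsZariskiLocalAtTarget P]
    [P.DescendsAlong (@Surjective ⊓ @Flat ⊓ @QuasiCompact)]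
    {A B : Scheme.{u}} (h : A ⟶ B) [IsAffine B] {ι : Type u} [Finite ι] (W : ι → Scheme.{u})
    (c : ∀ j, W j ⟶ B)
    [∀ j, IsAffine (W j)] (hcf : ∀ j, Flat (c j)) (hcs : ∀ b : B, ∃ j, b ∈ Set.range (c j))
    (H : ∀ j, P (pullback.snd h (c j))) : P h := by
  have hσ : (@Surjective ⊓ @Flat ⊓ @QuasiCompact : MorphismProperty Scheme.{u}) (Sigma.desc c) := by
    refine ⟨⟨⟨fun b => ?_⟩, IsZariskiLocalAtSource.sigmaDesc hcf⟩, inferInstance⟩
    obtain ⟨j, w, rfl⟩ := hcs b
    refine ⟨Sigma.ι W j w, ?_⟩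
    rw [← Scheme.Hom.comp_apply, Sigma.ι_desc]
  apply MorphismProperty.of_pullback_snd_of_descendsAlong
    (Q := @Surjective ⊓ @Flat ⊓ @QuasiCompact) hσ
  rw [IsZariskiLocalAtTarget.iff_of_openCover (P := P) (sigmaOpenCover W)]
  intro j
  change P (pullback.snd (pullback.snd h (Sigma.desc c)) (Sigma.ι W j))
  rw [← pullbackLeftPullbackSndIso_hom_snd, P.cancel_left_of_respectsIso]
  exact pullback_snd_of_eq P h _ _ (Sigma.ι_desc _ _) (H j)

lemma P_snd_of_openImmersion (P : MorphismProperty Scheme.{u}) [IsZariskiLocalAtTarget P]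
    {X S T T' : Scheme.{u}} (h : X ⟶ S) (g : T ⟶ S) (j : T' ⟶ T) [IsOpenImmersion j]
    (g' : T' ⟶ S) (e : j ≫ g = g') (H : P (pullback.snd h g)) : P (pullback.snd h g') := by
  subst e
  have hw : pullback.fst h (j ≫ g) ≫ h = (pullback.snd h (j ≫ g) ≫ j) ≫ g := by
    rw [Category.assoc]; exact pullback.condition
  have hk₁ : pullback.lift _ _ hw ≫ pullback.fst h g = pullback.fst h (j ≫ g) :=
    pullback.lift_fst _ _ _
  have big : IsPullback (pullback.lift _ _ hw ≫ pullback.fst h g) (pullback.snd h (j ≫ g))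
      h (j ≫ g) := by
    rw [hk₁]; exact IsPullback.of_hasPullback h (j ≫ g)
  have sq := IsPullback.of_right big (pullback.lift_snd _ _ hw) (IsPullback.of_hasPullback h g)
  exact IsZariskiLocalAtTarget.of_isPullback sq H

/-- Descent along an fpqc covering in the shape of `TwC.Locally _ .fpqc`. -/
theorem fpqc_descend (P : MorphismProperty Scheme.{u}) [IsZariskiLocalAtTarget P]
    [P.DescendsAlong (@Surjective ⊓ @Flat ⊓ @QuasiCompact)]
    {S S' X : Scheme.{u}} (h : X ⟶ S) (f : S' ⟶ S) [Flat f]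
    (hcov : ∀ V : S.Opens, IsAffineOpen V → ∃ W : S'.Opens, IsCompact (W : Set S') ∧
      f.base '' (W : Set S') = (V : Set S))
    (hloc : ∀ s' : S', ∃ U : S'.Opens, s' ∈ U ∧ P (pullback.snd h (U.ι ≫ f))) : P h := by
  apply IsZariskiLocalAtTarget.of_forall_exists_morphismRestrict
  intro v
  obtain ⟨_, ⟨(O : S.Opens), hO, rfl⟩, hvO, -⟩ :=
    S.isBasis_affineOpens.exists_subset_of_mem_open (Set.mem_univ v) isOpen_univ
  refine ⟨O, hvO, ?_⟩
  obtain ⟨W, hWc, hWO⟩ := hcov O hO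
  have hA : ∀ w : W, ∃ A : S'.Opens, IsAffineOpen A ∧ (w : S') ∈ A ∧ A ≤ W ∧
      P (pullback.snd h (A.ι ≫ f)) := by
    intro w
    obtain ⟨U, hwU, hPU⟩ := hloc w
    obtain ⟨_, ⟨(A : S'.Opens), hA, rfl⟩, hwA, hAsub⟩ :=
      S'.isBasis_affineOpens.exists_subset_of_mem_open
        (show (w : S') ∈ ((W ⊓ U : S'.Opens) : Set S') from ⟨w.2, hwU⟩) (W ⊓ U).isOpen
    have hAU : A ≤ U := fun x hx => (hAsub hx).2
    refine ⟨A, hA, hwA, fun x hx => (hAsub hx).1, ?_⟩
    exact P_snd_of_openImmersion P h (U.ι ≫ f) (S'.homOfLE hAU) (A.ι ≫ f)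
      (by rw [← Category.assoc, Scheme.homOfLE_ι]) hPU
  choose A hAaff hwA hAW hPA using hA
  obtain ⟨t, ht⟩ := hWc.elim_finite_subcover (fun w : W => ((A w : S'.Opens) : Set S'))
    (fun w => (A w).isOpen) (fun x hx => Set.mem_iUnion.2 ⟨⟨x, hx⟩, hwA _⟩)
  have hOaff : IsAffine (O : Scheme.{u}) := hO
  have hr : ∀ w : W, Set.range (A w).ι ⊆ ((f ⁻¹ᵁ O : S'.Opens) : Set S') := by
    intro w
    rw [Scheme.Opens.range_ι]
    intro x hx
    show f x ∈ (O : Set S)
    rw [← hWO]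
    exact ⟨x, hAW w hx, rfl⟩
  have hrange : ∀ w : W, Set.range ((A w).ι ≫ f) ⊆ Set.range O.ι := by
    intro w
    rw [Scheme.Opens.range_ι]
    rintro _ ⟨a, rfl⟩
    rw [← hWO]
    have ha : (A w).ι a ∈ Set.range (A w).ι := ⟨a, rfl⟩
    rw [Scheme.Opens.range_ι] at ha
    exact ⟨(A w).ι a, hAW w ha, rfl⟩
  let c : ∀ w : W, ((A w : S'.Opens) : Scheme.{u}) ⟶ (O : Scheme.{u}) := fun w =>
    IsOpenImmersion.lift O.ι ((A w).ι ≫ f) (hrange w)
  have hc : ∀ w, c w ≫ O.ι = (A w).ι ≫ f := fun w => IsOpenImmersion.lift_fac _ _ _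
  have hcflat : ∀ w, Flat (c w) := fun w => by
    have h1 : Flat (c w ≫ O.ι) := by rw [hc]; infer_instance
    exact MorphismProperty.of_isPullback (P := @Flat) (isPullback_id_of_mono' (c w) O.ι) h1
  have : ∀ j : t, IsAffine ((A j.1 : S'.Opens) : Scheme.{u}) := fun j => hAaff j.1
  refine of_fin_affine_cover (h ∣_ O) (ι := t) (fun j => ((A j.1 : S'.Opens) : Scheme.{u}))
    (fun j => c j.1) (fun j => hcflat j.1) ?_ ?_
  · intro b
    have hb0 : O.ι b ∈ (O : Set S) := by
      have := Set.mem_range_self (f := O.ι) b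
      rwa [Scheme.Opens.range_ι] at this
    have hb : O.ι b ∈ f.base '' (W : Set S') := by rw [hWO]; exact hb0
    obtain ⟨w, hwW, hwb⟩ := hb
    obtain ⟨w₀, hw₀t, hww₀⟩ : ∃ w₀ ∈ t, w ∈ ((A w₀ : S'.Opens) : Set S') := by
      have := ht hwW
      simpa using this
    refine ⟨⟨w₀, hw₀t⟩, ⟨⟨w, hww₀⟩, ?_⟩⟩
    apply O.ι.injective
    have e1 : O.ι (c w₀ ⟨w, hww₀⟩) = (c w₀ ≫ O.ι) ⟨w, hww₀⟩ := rfl
    have e2 : ((A w₀).ι ≫ f) ⟨w, hww₀⟩ = f w := rfl
    rw [hc] at e1
    exact e1.trans (e2.trans hwb)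
  · intro j
    have sqA : IsPullback (pullback.fst (h ∣_ O) (c j.1) ≫ (h ⁻¹ᵁ O).ι)
        (pullback.snd (h ∣_ O) (c j.1)) h (c j.1 ≫ O.ι) :=
      (IsPullback.of_hasPullback (h ∣_ O) (c j.1)).paste_horiz
        (isPullback_morphismRestrict h O).flip
    rw [hc] at sqA
    exact P_snd_of_isPullback' sqA (IsPullback.of_hasPullback h ((A j.1).ι ≫ f)) (hPA j.1)

end Descent

section Main

lemma existence_comp {X Y Z : Scheme.{u}} (f : X ⟶ Y) (g : Y ⟶ Z)
    (hf : ValuativeCriterion.Existence f) (hg : ValuativeCriterion.Existence g) :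
    ValuativeCriterion.Existence (f ≫ g) := by
  intro Sq
  have hc : CommSq (Sq.i₁ ≫ f) (Spec.map (CommRingCat.ofHom (algebraMap Sq.R Sq.K))) g Sq.i₂ :=
    ⟨by rw [Category.assoc]; exact Sq.commSq.w⟩
  obtain ⟨l, hl₁, hl₂⟩ := (hg ⟨Sq.R, Sq.K, Sq.i₁ ≫ f, Sq.i₂, hc⟩).exists_lift
  dsimp only at hl₁ hl₂
  have hc' : CommSq Sq.i₁ (Spec.map (CommRingCat.ofHom (algebraMap Sq.R Sq.K))) f l :=
    ⟨hl₁.symm⟩
  obtain ⟨l', hl'₁, hl'₂⟩ := (hf ⟨Sq.R, Sq.K, Sq.i₁, l, hc'⟩).exists_lift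
  dsimp only at hl'₁ hl'₂
  exact ⟨⟨⟨l', hl'₁, by rw [← Category.assoc, hl'₂, hl₂]⟩⟩⟩

set_option backward.isDefEq.respectTransparency.types false in
/-- Structure of an fpqc twisted constant scheme: etale, separated, existence part of the valuative
criterion. -/
theorem structure_fpqc {S : Scheme.{u}} (R : Over S) (hR : TwC.IsTwConst TwC.Topology.fpqc R) :
    IsSeparated R.hom ∧ Etale R.hom ∧ ValuativeCriterion.Existence R.hom := by
  have hR' : ∃ (S' : Scheme.{u}) (f : S' ⟶ S), Flat f ∧ Surjective f ∧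
      (∀ V : S.Opens, IsAffineOpen V → ∃ W : S'.Opens, IsCompact (W : Set S') ∧
        f.base '' (W : Set S') = (V : Set S)) ∧
      ∀ s' : S', ∃ U : S'.Opens, s' ∈ U ∧
        ∃ I : Type u, Nonempty (Red.bc (U.ι ≫ f) R ≅ TwC.const U I) := hR
  obtain ⟨S', f, hfl, hsurj, hcov, hloc⟩ := hR'
  have key : ∀ (P : MorphismProperty Scheme.{u}) [P.RespectsIso],
      (∀ (T : Scheme.{u}) (J : Type u), P (cst (S' := T) J)) →
      ∀ s' : S', ∃ U : S'.Opens, s' ∈ U ∧ P (pullback.snd R.hom (U.ι ≫ f)) := by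
    intro P _ hP s'
    obtain ⟨U, hU, I, ⟨e⟩⟩ := hloc s'
    exact ⟨U, hU, transport P I (Red.bc (U.ι ≫ f) R) e (hP _ _)⟩
  have hEt : Etale R.hom :=
    fpqc_descend @Etale R.hom f hcov (key @Etale (fun T J => etale_cst J))
  have hUC : (MorphismProperty.diagonal @UniversallyClosed) R.hom :=
    fpqc_descend (MorphismProperty.diagonal @UniversallyClosed) R.hom f hcov
      (key _ (fun T J => by
        have := isSeparated_cst (S' := T) J
        change UniversallyClosed (pullback.diagonal (cst (S' := T) J))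
        infer_instance))
  have hSep : IsSeparated R.hom := by
    have h1 : UniversallyClosed (pullback.diagonal R.hom) := hUC
    exact ⟨IsClosedImmersion.of_isPreimmersion _
      (pullback.diagonal R.hom).isClosedMap.isClosed_range⟩
  refine ⟨hSep, hEt, ?_⟩
  apply existence_of_flat_local
  intro s
  obtain ⟨s', rfl⟩ := hsurj.surj s
  obtain ⟨U, hU, hP⟩ := key ValuativeCriterion.Existence (fun T J => existence_cst J) s'
  exact ⟨U, U.ι ≫ f, inferInstance, ⟨⟨s', hU⟩, rfl⟩, hP⟩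

theorem finite_of_closed_quasiCompact {S : Scheme.{u}} (R : Over S)
    (hR : TwC.IsTwConst TwC.Topology.fpqc R)
    {Z : Scheme.{u}} (z : Z ⟶ R.left) [IsClosedImmersion z] [QuasiCompact (z ≫ R.hom)] :
    IsFinite (z ≫ R.hom) := by
  obtain ⟨hSep, hEt, hEx⟩ := structure_fpqc R hR
  have h1 : IsSeparated (z ≫ R.hom) := inferInstance
  have h2 : LocallyOfFiniteType (z ≫ R.hom) := inferInstance
  have hz : ValuativeCriterion.Existence z := by
    have : UniversallyClosed z := inferInstance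
    rw [UniversallyClosed.eq_valuativeCriterion] at this
    exact this.1
  have h3 : UniversallyClosed (z ≫ R.hom) :=
    UniversallyClosed.of_valuativeCriterion _ (existence_comp z R.hom hz hEx)
  have h4 : IsProper (z ≫ R.hom) := {}
  have h5 : LocallyQuasiFinite R.hom := Groth.Agent.Lib.Helper16.locallyQuasiFinite_of_etale _
  have h6 : LocallyQuasiFinite (z ≫ R.hom) := inferInstance
  exact IsFinite.of_isProper_of_locallyQuasiFinite _

end Main

end Groth.Helper16.TwConstFpqc
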