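import Groth.Agent.Lib.Helper16.TwConstFpqc

/-!
# Isotrivial twisted constant schemes are unions of clopen subschemes finite over the base (helper16).
-/

set_option autoImplicit false

open CategoryTheory CategoryTheory.Limits AlgebraicGeometry MorphismProperty

universe u

namespace Groth.Helper16.TwConstIsotriv

open Groth.Helper16.TwConstEtale Groth.Helper16.TwConstFpqc

lemma isClosed_range_ι {T : Scheme.{u}} (M : Type u) (m : M) :
    IsClosed (Set.range (Sigma.ι (fun _ : M => T) m)) := by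
  rw [← isOpen_compl_iff, isOpen_iff_forall_mem_open]
  intro y hy
  obtain ⟨m', a, rfl⟩ := exists_ι_eq M y
  have hne : m' ≠ m := by
    rintro rfl
    exact hy ⟨a, rfl⟩
  refine ⟨Set.range (Sigma.ι (fun _ : M => T) m'), ?_,
    (Sigma.ι (fun _ : M => T) m').opensRange.isOpen, ⟨a, rfl⟩⟩
  rintro _ ⟨a', rfl⟩ ⟨b', hb'⟩
  have := (sigmaι_eq_iff (fun _ : M => T) m m' b' a').mp hb'
  exact hne (congrArg Sigma.fst this).symm

set_option backward.isDefEq.respectTransparency.types false in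
theorem clopen_finite_nbhd {S : Scheme.{u}} (R : Over S)
    (hR : ∃ (S' : Scheme.{u}) (f : S' ⟶ S), IsFinite f ∧ Etale f ∧ Surjective f ∧
      ∀ s' : S', ∃ U : S'.Opens, s' ∈ U ∧ IsClosed (U : Set S') ∧
        ∃ I : Type u, Nonempty (Red.bc (U.ι ≫ f) R ≅ TwC.const U I))
    (x : R.left) :
    ∃ U : R.left.Opens, x ∈ U ∧ IsClosed (U : Set R.left) ∧ IsFinite (U.ι ≫ R.hom) := by
  obtain ⟨S', f, hfin, het, hsurj, hloc⟩ := hR
  -- the fpqc structure
  have hfpqc : TwC.IsTwConst TwC.Topology.fpqc R := by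
    refine ⟨S', f, inferInstance, hsurj, ?_, ?_⟩
    · intro V hV
      refine ⟨f ⁻¹ᵁ V, (hV.preimage f).isCompact, ?_⟩
      exact Set.image_preimage_eq _ f.surjective
    · intro s'
      obtain ⟨U, hU, -, hI⟩ := hloc s'
      exact ⟨U, hU, hI⟩
  obtain ⟨hSep, hEt, -⟩ := structure_fpqc R hfpqc
  -- choose a point of the cover above `x`
  obtain ⟨s', hs'⟩ := f.surjective (R.hom x)
  obtain ⟨U, hs'U, hUcl, I, ⟨e⟩⟩ := hloc s'
  have hUι : IsClosedImmersion U.ι :=
    IsClosedImmersion.of_isPreimmersion U.ι (by rw [Scheme.Opens.range_ι]; exact hUcl)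
  have hUf : IsFinite (U.ι ≫ f) := inferInstance
  have hUe : Etale (U.ι ≫ f) := inferInstance
  obtain ⟨x'', hx''₁, -⟩ := Scheme.Pullback.exists_preimage_pullback (f := R.hom) (g := U.ι ≫ f) x
    (⟨s', hs'U⟩ : U) (by rw [hs'.symm]; rfl)
  have hiso : IsIso e.hom.left := inferInstanceAs (IsIso ((CategoryTheory.Over.forget _).map e.hom))
  have hiso' : IsIso e.inv.left := inferInstanceAs (IsIso ((CategoryTheory.Over.forget _).map e.inv))
  obtain ⟨m, u', hu'⟩ := exists_ι_eq I (e.hom.left x'')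
  -- the morphism from the component
  let c : (U : Scheme.{u}) ⟶ R.left :=
    Sigma.ι (fun _ : I => (U : Scheme.{u})) m ≫ e.inv.left ≫ pullback.fst R.hom (U.ι ≫ f)
  have hcR : c ≫ R.hom = U.ι ≫ f := by
    have h1 : e.inv.left ≫ pullback.snd R.hom (U.ι ≫ f) = cst (S' := (U : Scheme.{u})) I :=
      Over.w e.inv
    calc c ≫ R.hom = Sigma.ι (fun _ : I => (U : Scheme.{u})) m ≫ e.inv.left ≫
          (pullback.fst R.hom (U.ι ≫ f) ≫ R.hom) := by simp only [c, Category.assoc]
      _ = Sigma.ι (fun _ : I => (U : Scheme.{u})) m ≫ (e.inv.left ≫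
          pullback.snd R.hom (U.ι ≫ f)) ≫ U.ι ≫ f := by
          rw [pullback.condition]; simp only [Category.assoc]
      _ = U.ι ≫ f := by rw [h1, ← Category.assoc, ι_cst, Category.id_comp]
  have hxc : x ∈ Set.range c := by
    refine ⟨u', ?_⟩
    have h2 : e.inv.left (e.hom.left x'') = x'' := by
      rw [← Scheme.Hom.comp_apply]
      have : e.hom.left ≫ e.inv.left = 𝟙 _ := by
        rw [← Over.comp_left, e.hom_inv_id]; rfl
      rw [this]; rfl
    show (pullback.fst R.hom (U.ι ≫ f)) (e.inv.left (Sigma.ι (fun _ : I => (U : Scheme.{u})) m u')) = x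
    rw [hu', h2, hx''₁]
  -- range of c is clopen
  have hq_open : IsOpenMap (pullback.fst R.hom (U.ι ≫ f)) :=
    (pullback.fst R.hom (U.ι ≫ f)).isOpenMap
  have hq_closed : IsClosedMap (pullback.fst R.hom (U.ι ≫ f)) :=
    (pullback.fst R.hom (U.ι ≫ f)).isClosedMap
  have hrange : Set.range c = (pullback.fst R.hom (U.ι ≫ f)) ''
      (e.inv.left '' Set.range (Sigma.ι (fun _ : I => (U : Scheme.{u})) m)) := by
    ext y
    constructor
    · rintro ⟨a, rfl⟩
      exact ⟨_, ⟨_, ⟨a, rfl⟩, rfl⟩, rfl⟩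
    · rintro ⟨_, ⟨_, ⟨a, rfl⟩, rfl⟩, rfl⟩
      exact ⟨a, rfl⟩
  have he_open : IsOpenMap e.inv.left := e.inv.left.isOpenMap
  have he_closed : IsClosedMap e.inv.left := e.inv.left.isClosedMap
  have hc_open : IsOpen (Set.range c) := by
    rw [hrange]
    exact hq_open _ (he_open _ (Sigma.ι (fun _ : I => (U : Scheme.{u})) m).opensRange.isOpen)
  have hc_closed : IsClosed (Set.range c) := by
    rw [hrange]
    exact hq_closed _ (he_closed _ (isClosed_range_ι I m))
  let V : R.left.Opens := ⟨Set.range c, hc_open⟩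
  refine ⟨V, hxc, hc_closed, ?_⟩
  have hrV : Set.range c ⊆ Set.range V.ι := by
    rw [Scheme.Opens.range_ι]; exact subset_rfl
  let c' : (U : Scheme.{u}) ⟶ (V : Scheme.{u}) := IsOpenImmersion.lift V.ι c hrV
  have hc' : c' ≫ V.ι = c := IsOpenImmersion.lift_fac _ _ _
  have hc'surj : Surjective c' := by
    refine ⟨fun v => ?_⟩
    have hv : V.ι v ∈ Set.range c := by
      have := Set.mem_range_self (f := V.ι) v
      rwa [Scheme.Opens.range_ι] at this
    obtain ⟨a, ha⟩ := hv
    refine ⟨a, ?_⟩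
    apply V.ι.injective
    have e1 : V.ι (c' a) = (c' ≫ V.ι) a := rfl
    rw [e1, hc', ha]
  have hcomp : c' ≫ (V.ι ≫ R.hom) = U.ι ≫ f := by
    rw [← Category.assoc, hc', hcR]
  have h3 : UniversallyClosed (c' ≫ (V.ι ≫ R.hom)) := by rw [hcomp]; infer_instance
  have h4 : UniversallyClosed (V.ι ≫ R.hom) := UniversallyClosed.of_comp_surjective c' _
  have h1 : IsSeparated (V.ι ≫ R.hom) := inferInstance
  have h2 : LocallyOfFiniteType (V.ι ≫ R.hom) := inferInstance
  have h5 : IsProper (V.ι ≫ R.hom) := {}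
  have h6 : LocallyQuasiFinite R.hom := Groth.Agent.Lib.Helper16.locallyQuasiFinite_of_etale _
  have h7 : LocallyQuasiFinite (V.ι ≫ R.hom) := inferInstance
  exact IsFinite.of_isProper_of_locallyQuasiFinite _

end Groth.Helper16.TwConstIsotriv
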