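import Mathlib

/-!
# Helper library (helper16): the algebra of composing bounded fibres
-/

set_option autoImplicit false
universe u
open Module

namespace Groth.Agent.Lib.Helper16.UBF

section Nakayama

variable {A B : Type*} [CommRing A] [AddCommGroup B] [Module A B]

theorem sup_smul_top_mul (N : Submodule A B) (I J : Ideal A)
    (hI : N ⊔ I • (⊤ : Submodule A B) = ⊤) (hJ : N ⊔ J • (⊤ : Submodule A B) = ⊤) :
    N ⊔ (I * J) • (⊤ : Submodule A B) = ⊤ := by
  rw [eq_top_iff]
  calc (⊤ : Submodule A B) = N ⊔ I • (⊤ : Submodule A B) := hI.symm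
    _ = N ⊔ I • (N ⊔ J • (⊤ : Submodule A B)) := by rw [hJ]
    _ = N ⊔ (I • N ⊔ I • J • (⊤ : Submodule A B)) := by rw [Submodule.smul_sup]
    _ ≤ N ⊔ (I * J) • (⊤ : Submodule A B) := by
        rw [Submodule.mul_smul]
        exact sup_le le_sup_left (sup_le (Submodule.smul_le_right.trans le_sup_left) le_sup_right)

theorem sup_smul_top_prod {ι : Type*} (N : Submodule A B) (s : Finset ι) (I : ι → Ideal A)
    (h : ∀ i ∈ s, N ⊔ I i • (⊤ : Submodule A B) = ⊤) :
    N ⊔ (∏ i ∈ s, I i) • (⊤ : Submodule A B) = ⊤ := by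
  classical
  induction s using Finset.induction_on with
  | empty => simp [Ideal.one_eq_top]
  | insert a s ha ih =>
    rw [Finset.prod_insert ha]
    exact sup_smul_top_mul N _ _ (h a (Finset.mem_insert_self _ _))
      (ih fun i hi => h i (Finset.mem_insert_of_mem hi))

theorem sup_smul_top_pow (N : Submodule A B) (I : Ideal A)
    (h : N ⊔ I • (⊤ : Submodule A B) = ⊤) (k : ℕ) : N ⊔ (I ^ k) • (⊤ : Submodule A B) = ⊤ := by
  induction k with
  | zero => simp [Ideal.one_eq_top]
  | succ k ih =>
    rw [pow_succ]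
    exact sup_smul_top_mul N _ _ ih h

theorem eq_top_of_sup_smul_top_of_isNilpotent (N : Submodule A B) (I : Ideal A) (hI : IsNilpotent I)
    (h : N ⊔ I • (⊤ : Submodule A B) = ⊤) : N = ⊤ := by
  obtain ⟨k, hk⟩ := hI
  have := sup_smul_top_pow N I h k
  rw [hk] at this
  simpa using this

end Nakayama

variable {K A B : Type u} [Field K] [CommRing A] [Algebra K A] [Module.Finite K A]
  [AddCommGroup B] [Module A B] [Module K B] [IsScalarTower K A B]

/-- A module over a finite dimensional algebra all of whose fibres at maximal ideals are generated by `d` elements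
is finite dimensional of bounded dimension. -/
theorem finrank_le_of_fibres (d : ℕ)
    (h : ∀ 𝔪 : Ideal A, 𝔪.IsMaximal → ∃ s : Finset B, s.card ≤ d ∧
      Submodule.span A (s : Set B) ⊔ 𝔪 • (⊤ : Submodule A B) = ⊤) :
    Module.Finite K B ∧ Module.finrank K B ≤ Nat.card (MaximalSpectrum A) * d * Module.finrank K A := by
  classical
  have hart : IsArtinianRing A := IsArtinianRing.of_finite K A
  have hfinM : Finite (MaximalSpectrum A) := inferInstance
  have : Fintype (MaximalSpectrum A) := Fintype.ofFinite _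
  choose s hs1 hs2 using fun 𝔪 : MaximalSpectrum A => h 𝔪.asIdeal 𝔪.isMaximal
  let T : Finset B := Finset.univ.biUnion s
  have hTcard : T.card ≤ Nat.card (MaximalSpectrum A) * d := by
    calc T.card ≤ ∑ 𝔪 : MaximalSpectrum A, (s 𝔪).card := Finset.card_biUnion_le
      _ ≤ ∑ _𝔪 : MaximalSpectrum A, d := Finset.sum_le_sum fun 𝔪 _ => hs1 𝔪
      _ = Nat.card (MaximalSpectrum A) * d := by
          rw [Finset.sum_const, Finset.card_univ, Nat.card_eq_fintype_card, smul_eq_mul]
  let N : Submodule A B := Submodule.span A (T : Set B)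
  have hN : ∀ 𝔪 : MaximalSpectrum A, N ⊔ 𝔪.asIdeal • (⊤ : Submodule A B) = ⊤ := by
    intro 𝔪
    refine eq_top_iff.2 ((hs2 𝔪).ge.trans (sup_le_sup_right (Submodule.span_mono ?_) _))
    intro b hb
    exact Finset.mem_coe.2 (Finset.mem_biUnion.2 ⟨𝔪, Finset.mem_univ _, hb⟩)
  have hP := sup_smul_top_prod N Finset.univ (fun 𝔪 : MaximalSpectrum A => 𝔪.asIdeal)
    (fun 𝔪 _ => hN 𝔪)
  have hle : (∏ 𝔪 : MaximalSpectrum A, 𝔪.asIdeal) ≤ Ideal.jacobson (⊥ : Ideal A) := by
    refine Ideal.prod_le_inf.trans ?_
    rw [Ideal.jacobson]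
    refine le_sInf ?_
    rintro J ⟨-, hJ⟩
    exact Finset.inf_le (b := (⟨J, hJ⟩ : MaximalSpectrum A)) (Finset.mem_univ _)
  have hJac : N ⊔ Ideal.jacobson (⊥ : Ideal A) • (⊤ : Submodule A B) = ⊤ := by
    exact eq_top_iff.2 (hP.ge.trans (sup_le_sup_left (Submodule.smul_mono_left hle) _))
  have hNtop : N = ⊤ :=
    eq_top_of_sup_smul_top_of_isNilpotent N _ IsArtinianRing.isNilpotent_jacobson_bot hJac
  -- the surjection
  let v : ↥T → B := fun t => t.1
  let L : (↥T → A) →ₗ[A] B := Fintype.linearCombination A v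
  have hL : Function.Surjective L := by
    rw [← LinearMap.range_eq_top, Fintype.range_linearCombination]
    have : Set.range v = (T : Set B) := by
      ext b; simp [v]
    rw [this]
    exact hNtop
  let L' : (↥T → A) →ₗ[K] B := L.restrictScalars K
  have hL' : Function.Surjective L' := hL
  have hfin : Module.Finite K B := Module.Finite.of_surjective L' hL'
  refine ⟨hfin, ?_⟩
  calc Module.finrank K B ≤ Module.finrank K (↥T → A) := LinearMap.finrank_le_finrank_of_surjective hL'
    _ = Fintype.card ↥T * Module.finrank K A := by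
        rw [Module.finrank_pi_fintype, Finset.sum_const, Finset.card_univ, smul_eq_mul]
    _ = T.card * Module.finrank K A := by rw [Fintype.card_coe]
    _ ≤ Nat.card (MaximalSpectrum A) * d * Module.finrank K A := Nat.mul_le_mul_right _ hTcard

omit [Module.Finite K A] in
/-- Generators of a fibre from a finite dimensional quotient. -/
theorem exists_finset_of_surjective {Q : Type u} [AddCommGroup Q] [Module K Q] [Module.Finite K Q]
    (π : B →ₗ[K] Q) (hπ : Function.Surjective π) (𝔪 : Ideal A)
    (hker : ∀ b, π b = 0 → b ∈ 𝔪 • (⊤ : Submodule A B)) (d : ℕ) (hd : Module.finrank K Q ≤ d) :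
    ∃ s : Finset B, s.card ≤ d ∧ Submodule.span A (s : Set B) ⊔ 𝔪 • (⊤ : Submodule A B) = ⊤ := by
  classical
  let bas := Module.finBasis K Q
  choose b hb using fun i => hπ (bas i)
  refine ⟨Finset.univ.image b, ?_, ?_⟩
  · refine Finset.card_image_le.trans ?_
    rw [Finset.card_univ, Fintype.card_fin]
    exact hd
  · rw [eq_top_iff]
    intro x _
    let y : B := ∑ i, bas.repr (π x) i • b i
    have hy : π y = π x := by
      simp only [y, map_sum, map_smul, hb]
      exact bas.sum_repr (π x)
    have hxy : x - y ∈ 𝔪 • (⊤ : Submodule A B) := hker _ (by rw [map_sub, hy, sub_self])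
    have hyN : y ∈ Submodule.span A ((Finset.univ.image b : Finset B) : Set B) := by
      refine Submodule.sum_mem _ fun i _ => ?_
      rw [← algebraMap_smul A (bas.repr (π x) i) (b i)]
      exact Submodule.smul_mem _ _ (Submodule.subset_span (by simp))
    have : x = y + (x - y) := by abel
    rw [this]
    exact Submodule.add_mem_sup hyN hxy

end Groth.Agent.Lib.Helper16.UBF
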