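import Groth.Agent.Lib.Helper16.UBF1
import Groth.Agent.Lib.Helper16.UBFAlg

/-!
# Helper library (helper16): composing bounded fibres over a field
-/

set_option autoImplicit false
universe u
open CategoryTheory CategoryTheory.Limits AlgebraicGeometry Opposite TopologicalSpace

namespace Groth.Agent.Lib.Helper16.UBF

open Groth.Agent.Lib.Helper16

variable {K : Type u} [Field K]

/-- The closed point of an affine scheme attached to an ideal of its global sections. -/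
noncomputable def maxPt (E : Scheme.{u}) [IsAffine E] (𝔪 : Ideal Γ(E, ⊤)) :
    Spec (CommRingCat.of (Γ(E, ⊤) ⧸ 𝔪)) ⟶ E :=
  Spec.map (CommRingCat.ofHom (Ideal.Quotient.mk 𝔪)) ≫ E.isoSpec.inv

theorem isoSpec_inv_appTop (E : Scheme.{u}) [IsAffine E] :
    E.isoSpec.inv.appTop = (Scheme.ΓSpecIso Γ(E, ⊤)).inv := by
  have h1 : E.isoSpec.hom.appTop = (Scheme.ΓSpecIso Γ(E, ⊤)).hom := Scheme.toSpecΓ_appTop E
  have h2 : E.isoSpec.hom.appTop ≫ E.isoSpec.inv.appTop = 𝟙 _ := by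
    rw [← Scheme.Hom.comp_appTop, Iso.inv_hom_id]
    rfl
  rw [h1] at h2
  exact (Iso.hom_comp_eq_id _).1 h2

theorem maxPt_appTop (E : Scheme.{u}) [IsAffine E] (𝔪 : Ideal Γ(E, ⊤)) :
    (maxPt E 𝔪).appTop = CommRingCat.ofHom (Ideal.Quotient.mk 𝔪) ≫ (Scheme.ΓSpecIso _).inv := by
  rw [maxPt, Scheme.Hom.comp_appTop, isoSpec_inv_appTop, Scheme.ΓSpecIso_inv_naturality]
  rfl

instance (E : Scheme.{u}) [IsAffine E] (𝔪 : Ideal Γ(E, ⊤)) : IsClosedImmersion (maxPt E 𝔪) := by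
  have : IsClosedImmersion (Spec.map (CommRingCat.ofHom (Ideal.Quotient.mk 𝔪))) :=
    IsClosedImmersion.spec_of_surjective _ Ideal.Quotient.mk_surjective
  rw [maxPt]
  infer_instance

theorem maxPt_apply (E : Scheme.{u}) [IsAffine E] (e : ↥E) (z : ↥(Spec (CommRingCat.of (Γ(E, ⊤) ⧸ (E.isoSpec.hom e).asIdeal)))) 
    [(E.isoSpec.hom e).asIdeal.IsMaximal] :
    maxPt E (E.isoSpec.hom e).asIdeal z = e := by
  letI := Ideal.Quotient.field (E.isoSpec.hom e).asIdeal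
  have hz : Spec.map (CommRingCat.ofHom (Ideal.Quotient.mk (E.isoSpec.hom e).asIdeal)) z =
      E.isoSpec.hom e := by
    apply PrimeSpectrum.ext
    change Ideal.comap (Ideal.Quotient.mk _) z.asIdeal = _
    have : z.asIdeal = ⊥ := Ideal.eq_bot_of_prime z.asIdeal
    rw [this, ← RingHom.ker_eq_comap_bot, Ideal.mk_ker]
  rw [maxPt, Scheme.Hom.comp_apply, hz, ← Scheme.Hom.comp_apply, Iso.hom_inv_id]
  rfl

/-- Composition: a scheme over a finite `K`-scheme of degree at most `n` whose fibres over the closed points have degree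
at most `m` is finite over `K` of bounded degree. -/
theorem DegLE.comp {E T : Scheme.{u}} [IsAffine E] (e₂ : E ⟶ Spec (CommRingCat.of K)) (τ : T ⟶ E) (n m : ℕ)
    (hE : DegLE e₂ n)
    (hfib : ∀ (𝔪 : Ideal Γ(E, ⊤)) [𝔪.IsMaximal],
      letI := Ideal.Quotient.field 𝔪
      DegLE (pullback.snd τ (maxPt E 𝔪)) m) :
    DegLE (τ ≫ e₂) (n * (n * m) * n) := by
  have hfE : IsFinite e₂ := hE.1
  obtain ⟨hEfin, hEdisc⟩ := finite_discrete_of_isFinite e₂
  letI algA : Algebra K Γ(E, ⊤) := gammaAlgebra e₂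
  obtain ⟨hAfin, hArk⟩ := (degLE_iff e₂ n).1 hE
  have hart : IsArtinianRing Γ(E, ⊤) := IsArtinianRing.of_finite K Γ(E, ⊤)
  -- maximal ideals of points
  have hmax : ∀ e : ↥E, (E.isoSpec.hom e).asIdeal.IsMaximal := fun e =>
    IsArtinianRing.isMaximal_of_isPrime _
  -- the fibres are finite discrete
  have hPfd : ∀ (𝔪 : Ideal Γ(E, ⊤)) [𝔪.IsMaximal],
      Finite ↥(pullback τ (maxPt E 𝔪)) ∧ DiscreteTopology ↥(pullback τ (maxPt E 𝔪)) := by
    intro 𝔪 h𝔪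
    letI := Ideal.Quotient.field 𝔪
    have := (hfib 𝔪).1
    exact finite_discrete_of_isFinite (pullback.snd τ (maxPt E 𝔪))
  have hrange : ∀ e : ↥E, Set.range (pullback.fst τ (maxPt E (E.isoSpec.hom e).asIdeal)) = τ ⁻¹' {e} := by
    intro e
    have := hmax e
    letI := Ideal.Quotient.field (E.isoSpec.hom e).asIdeal
    ext t
    constructor
    · rintro ⟨p, rfl⟩
      show τ (pullback.fst τ _ p) = e
      rw [← Scheme.Hom.comp_apply, pullback.condition, Scheme.Hom.comp_apply, maxPt_apply]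
    · intro ht
      obtain ⟨p, hp, -⟩ := Scheme.Pullback.exists_preimage_pullback (f := τ)
        (g := maxPt E (E.isoSpec.hom e).asIdeal) t (IsLocalRing.closedPoint _)
        (by rw [maxPt_apply]; exact ht)
      exact ⟨p, hp⟩
  have hfinT : Finite ↥T := by
    have : ∀ e : ↥E, Finite ↥(pullback τ (maxPt E (E.isoSpec.hom e).asIdeal)) := fun e =>
      have := hmax e
      (hPfd _).1
    refine Finite.of_surjective (fun p : Σ e : ↥E, ↥(pullback τ (maxPt E (E.isoSpec.hom e).asIdeal)) =>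
      pullback.fst τ (maxPt E (E.isoSpec.hom p.1).asIdeal) p.2) ?_
    intro t
    have ht : t ∈ Set.range (pullback.fst τ (maxPt E (E.isoSpec.hom (τ t)).asIdeal)) := by
      rw [hrange]; rfl
    obtain ⟨p, hp⟩ := ht
    exact ⟨⟨τ t, p⟩, hp⟩
  have hdiscT : DiscreteTopology ↥T := by
    rw [discreteTopology_iff_isOpen_singleton]
    intro t
    have := hmax (τ t)
    have hd := (hPfd (E.isoSpec.hom (τ t)).asIdeal).2
    have ht : t ∈ Set.range (pullback.fst τ (maxPt E (E.isoSpec.hom (τ t)).asIdeal)) := by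
      rw [hrange]; rfl
    obtain ⟨p, hp⟩ := ht
    have hopen : IsOpen (Set.range (pullback.fst τ (maxPt E (E.isoSpec.hom (τ t)).asIdeal))) := by
      rw [hrange]
      exact (isOpen_discrete _).preimage τ.continuous
    have hoe : Topology.IsOpenEmbedding (pullback.fst τ (maxPt E (E.isoSpec.hom (τ t)).asIdeal)) :=
      ⟨(pullback.fst τ (maxPt E (E.isoSpec.hom (τ t)).asIdeal)).isClosedEmbedding.isEmbedding, hopen⟩
    have := hoe.isOpenMap {p} (isOpen_discrete _)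
    rwa [Set.image_singleton, hp] at this
  have hTaff : IsAffine T := inferInstance
  letI algB : Algebra K Γ(T, ⊤) := gammaAlgebra (τ ≫ e₂)
  letI algAB : Algebra Γ(E, ⊤) Γ(T, ⊤) := τ.appTop.hom.toAlgebra
  haveI tower : IsScalarTower K Γ(E, ⊤) Γ(T, ⊤) := IsScalarTower.of_algebraMap_eq (fun k => rfl)
  have key : ∀ 𝔪 : Ideal Γ(E, ⊤), 𝔪.IsMaximal → ∃ s : Finset Γ(T, ⊤), s.card ≤ n * m ∧
      Submodule.span Γ(E, ⊤) (s : Set Γ(T, ⊤)) ⊔ 𝔪 • (⊤ : Submodule Γ(E, ⊤) Γ(T, ⊤)) = ⊤ := by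
    intro 𝔪 h𝔪
    letI := Ideal.Quotient.field 𝔪
    have hPaff : IsAffine (pullback τ (maxPt E 𝔪)) := inferInstance
    obtain ⟨-, hisurj⟩ := IsClosedImmersion.isAffine_surjective_of_isAffine (pullback.fst τ (maxPt E 𝔪))
    letI algQ' : Algebra (Γ(E, ⊤) ⧸ 𝔪) Γ(pullback τ (maxPt E 𝔪), ⊤) :=
      gammaAlgebra (pullback.snd τ (maxPt E 𝔪))
    obtain ⟨hQfin', hQrk'⟩ := (degLE_iff (pullback.snd τ (maxPt E 𝔪)) m).1 (hfib 𝔪)
    letI algQ : Algebra K Γ(pullback τ (maxPt E 𝔪), ⊤) :=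
      gammaAlgebra (pullback.fst τ (maxPt E 𝔪) ≫ τ ≫ e₂)
    have hcond : ∀ a : Γ(E, ⊤), (pullback.snd τ (maxPt E 𝔪)).appTop.hom
        ((Scheme.ΓSpecIso (CommRingCat.of (Γ(E, ⊤) ⧸ 𝔪))).inv.hom (Ideal.Quotient.mk 𝔪 a)) =
        (pullback.fst τ (maxPt E 𝔪)).appTop.hom (τ.appTop.hom a) := by
      intro a
      have h1 : (pullback.fst τ (maxPt E 𝔪) ≫ τ).appTop = (pullback.snd τ (maxPt E 𝔪) ≫ maxPt E 𝔪).appTop := by
        rw [pullback.condition]
      rw [Scheme.Hom.comp_appTop, Scheme.Hom.comp_appTop, maxPt_appTop] at h1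
      exact (congrArg (fun f => f.hom a) h1).symm
    haveI : IsScalarTower K (Γ(E, ⊤) ⧸ 𝔪) Γ(pullback τ (maxPt E 𝔪), ⊤) :=
      IsScalarTower.of_algebraMap_eq (fun k => (hcond (algebraMap K Γ(E, ⊤) k)).symm)
    have hK'fin : Module.Finite K (Γ(E, ⊤) ⧸ 𝔪) :=
      Module.Finite.of_surjective (Ideal.Quotient.mkₐ K 𝔪).toLinearMap (Ideal.Quotient.mkₐ_surjective K 𝔪)
    have hK'rk : Module.finrank K (Γ(E, ⊤) ⧸ 𝔪) ≤ n :=
      (LinearMap.finrank_le_finrank_of_surjective (f := (Ideal.Quotient.mkₐ K 𝔪).toLinearMap)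
        (Ideal.Quotient.mkₐ_surjective K 𝔪)).trans hArk
    have hQfin : Module.Finite K Γ(pullback τ (maxPt E 𝔪), ⊤) :=
      Module.Finite.trans (Γ(E, ⊤) ⧸ 𝔪) Γ(pullback τ (maxPt E 𝔪), ⊤)
    have hQrk : Module.finrank K Γ(pullback τ (maxPt E 𝔪), ⊤) ≤ n * m := by
      rw [← Module.finrank_mul_finrank K (Γ(E, ⊤) ⧸ 𝔪) Γ(pullback τ (maxPt E 𝔪), ⊤)]
      exact Nat.mul_le_mul hK'rk hQrk'
    let πa : Γ(T, ⊤) →ₐ[K] Γ(pullback τ (maxPt E 𝔪), ⊤) :=
      { (pullback.fst τ (maxPt E 𝔪)).appTop.hom with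
        commutes' := fun k => rfl }
    have hker : ∀ b, πa.toLinearMap b = 0 → b ∈ 𝔪 • (⊤ : Submodule Γ(E, ⊤) Γ(T, ⊤)) := by
      intro b hb
      have hPO : IsPushout τ.appTop (maxPt E 𝔪).appTop (pullback.fst τ (maxPt E 𝔪)).appTop
          (pullback.snd τ (maxPt E 𝔪)).appTop :=
        isPushout_appTop_of_isPullback (IsPullback.of_hasPullback τ (maxPt E 𝔪))
      let I : Ideal Γ(T, ⊤) := Ideal.map (algebraMap Γ(E, ⊤) Γ(T, ⊤)) 𝔪
      let u : Γ(T, ⊤) ⟶ CommRingCat.of (Γ(T, ⊤) ⧸ I) := CommRingCat.ofHom (Ideal.Quotient.mk I)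
      let v : Γ(Spec (CommRingCat.of (Γ(E, ⊤) ⧸ 𝔪)), ⊤) ⟶ CommRingCat.of (Γ(T, ⊤) ⧸ I) :=
        (Scheme.ΓSpecIso _).hom ≫ CommRingCat.ofHom
          (Ideal.quotientMap I (algebraMap Γ(E, ⊤) Γ(T, ⊤)) Ideal.le_comap_map)
      have comm : τ.appTop ≫ u = (maxPt E 𝔪).appTop ≫ v := by
        rw [maxPt_appTop]
        simp only [v, Category.assoc, Iso.inv_hom_id_assoc]
        rfl
      have hδ : (pullback.fst τ (maxPt E 𝔪)).appTop ≫ hPO.desc u v comm = u := hPO.inl_desc _ _ _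
      have hb' : (pullback.fst τ (maxPt E 𝔪)).appTop.hom b = 0 := hb
      have : u.hom b = 0 := by
        rw [← hδ]
        show (hPO.desc u v comm).hom ((pullback.fst τ (maxPt E 𝔪)).appTop.hom b) = 0
        rw [hb', map_zero]
      have hbI : b ∈ I := Ideal.Quotient.eq_zero_iff_mem.1 this
      rw [Ideal.smul_top_eq_map]
      exact hbI
    exact exists_finset_of_surjective πa.toLinearMap hisurj 𝔪 hker (n * m) hQrk
  obtain ⟨hBfin, hBrk⟩ := finrank_le_of_fibres (K := K) (A := Γ(E, ⊤)) (B := Γ(T, ⊤)) (n * m) key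
  rw [degLE_iff]
  refine ⟨hBfin, hBrk.trans ?_⟩
  have hcard : Nat.card (MaximalSpectrum Γ(E, ⊤)) ≤ n := by
    rw [← Nat.card_congr IsArtinianRing.primeSpectrumEquivMaximalSpectrum]
    exact (natCard_primeSpectrum_le_finrank K Γ(E, ⊤)).trans hArk
  exact Nat.mul_le_mul (Nat.mul_le_mul_right _ hcard) hArk

end Groth.Agent.Lib.Helper16.UBF
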