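import Mathlib

/-!
# Helper library (helper16): quasi-finite algebras of finite type have universally bounded fibres
-/

set_option autoImplicit false
universe u
open Module TensorProduct

namespace Groth.Agent.Lib.Helper16.UBF

/-- The base change to a field of a module generated by `n` elements has dimension at most `n`. -/
theorem finrank_tensor_le {R M : Type u} [CommRing R] [AddCommGroup M] [Module R M] (n : ℕ)
    (f : (Fin n → R) →ₗ[R] M) (hf : Function.Surjective f) (K : Type u) [Field K] [Algebra R K] :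
    Module.Finite K (K ⊗[R] M) ∧ Module.finrank K (K ⊗[R] M) ≤ n := by
  classical
  let g : (Fin n → K) →ₗ[K] K ⊗[R] M :=
    (f.baseChange K).comp (TensorProduct.piScalarRight R K K (Fin n)).symm.toLinearMap
  have hb : Function.Surjective (f.baseChange K) := by
    have : (f.baseChange K : K ⊗[R] (Fin n → R) → K ⊗[R] M) = f.lTensor K := by
      rw [LinearMap.baseChange_eq_ltensor]
    rw [this]
    exact LinearMap.lTensor_surjective K hf
  have hg : Function.Surjective g := by
    intro z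
    obtain ⟨w, rfl⟩ := hb z
    refine ⟨TensorProduct.piScalarRight R K K (Fin n) w, ?_⟩
    show f.baseChange K ((TensorProduct.piScalarRight R K K (Fin n)).symm
      (TensorProduct.piScalarRight R K K (Fin n) w)) = _
    rw [LinearEquiv.symm_apply_apply]
  refine ⟨Module.Finite.of_surjective g hg, ?_⟩
  calc Module.finrank K (K ⊗[R] M) ≤ Module.finrank K (Fin n → K) :=
        LinearMap.finrank_le_finrank_of_surjective hg
    _ = n := Module.finrank_fin_fun K

section Local

variable {R S : Type u} [CommRing R] [CommRing S] [Algebra R S]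

/-- Every element of `S` lies in `S'` after multiplication by a power of `r`. -/
theorem exists_pow_mul_mem (S' : Subalgebra R S) (r : S')
    (hsurj : Function.Surjective (Localization.awayMap S'.val.toRingHom r)) (s : S) :
    ∃ N : ℕ, r.1 ^ N * s ∈ S' := by
  obtain ⟨z, hz⟩ := hsurj (algebraMap S (Localization.Away (S'.val.toRingHom r)) s)
  obtain ⟨a, ⟨_, m, rfl⟩, rfl⟩ := IsLocalization.exists_mk'_eq (Submonoid.powers r) z
  rw [Localization.awayMap, IsLocalization.Away.map, IsLocalization.map_mk',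
    IsLocalization.mk'_eq_iff_eq_mul, ← map_mul,
    IsLocalization.eq_iff_exists (Submonoid.powers (S'.val.toRingHom r))] at hz
  obtain ⟨⟨_, l, rfl⟩, hc⟩ := hz
  refine ⟨l + m, ?_⟩
  have : r.1 ^ (l + m) * s = (r ^ l * a : S').1 := by
    simp only [AlgHom.toRingHom_eq_coe, RingHom.coe_coe, Subalgebra.coe_val, map_pow] at hc
    simp only [Subalgebra.coe_mul, Subalgebra.coe_pow]
    rw [hc, pow_add]
    ring
  rw [this]
  exact (r ^ l * a).2

/-- The local estimate: the localization of the fibre at `r` has dimension at most `n`. -/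
theorem away_finrank_le (S' : Subalgebra R S) (r : S')
    (hsurj : Function.Surjective (Localization.awayMap S'.val.toRingHom r))
    (n : ℕ) (f : (Fin n → R) →ₗ[R] S') (hf : Function.Surjective f)
    (K : Type u) [Field K] [Algebra R K] :
    Module.Finite K (Localization.Away ((1 : K) ⊗ₜ[R] r.1 : K ⊗[R] S)) ∧
      Module.finrank K (Localization.Away ((1 : K) ⊗ₜ[R] r.1 : K ⊗[R] S)) ≤ n := by
  set ρ : K ⊗[R] S := (1 : K) ⊗ₜ[R] r.1 with hρ
  let ψ : K ⊗[R] S' →ₐ[K] K ⊗[R] S := Algebra.TensorProduct.map (AlgHom.id K K) S'.val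
  let C : Subalgebra K (K ⊗[R] S) := ψ.range
  obtain ⟨hfin0, hrk0⟩ := finrank_tensor_le n f hf K
  have hCfin : Module.Finite K C :=
    Module.Finite.of_surjective ψ.rangeRestrict.toLinearMap ψ.rangeRestrict_surjective
  have hCrk : Module.finrank K C ≤ n :=
    (LinearMap.finrank_le_finrank_of_surjective (f := ψ.rangeRestrict.toLinearMap)
      ψ.rangeRestrict_surjective).trans hrk0
  have hρC : ρ ∈ C := ⟨(1 : K) ⊗ₜ r, by simp [ψ, ρ]⟩
  have hpow : ∀ b : K ⊗[R] S, ∃ N : ℕ, ρ ^ N * b ∈ C := by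
    intro b
    induction b using TensorProduct.induction_on with
    | zero => exact ⟨0, by simp⟩
    | tmul k s =>
      obtain ⟨N, hN⟩ := exists_pow_mul_mem S' r hsurj s
      refine ⟨N, ⟨k ⊗ₜ ⟨r.1 ^ N * s, hN⟩, ?_⟩⟩
      simp [ψ, ρ, Algebra.TensorProduct.tmul_pow, Algebra.TensorProduct.tmul_mul_tmul]
    | add b₁ b₂ h₁ h₂ =>
      obtain ⟨N₁, h₁⟩ := h₁
      obtain ⟨N₂, h₂⟩ := h₂
      refine ⟨N₁ + N₂, ?_⟩
      have : ρ ^ (N₁ + N₂) * (b₁ + b₂) = ρ ^ N₂ * (ρ ^ N₁ * b₁) + ρ ^ N₁ * (ρ ^ N₂ * b₂) := by ring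
      rw [this]
      exact C.add_mem (C.mul_mem (C.pow_mem hρC _) h₁) (C.mul_mem (C.pow_mem hρC _) h₂)
  have hart : IsArtinianRing C := IsArtinianRing.of_finite K C
  obtain ⟨j, y, hy⟩ := IsArtinian.exists_pow_succ_smul_dvd (⟨ρ, hρC⟩ : C) (1 : C)
  have hy' : ρ ^ (j + 1) * y.1 = ρ ^ j := by
    have := congrArg Subtype.val hy
    simpa using this
  let θ : C →ₗ[K] Localization.Away ρ :=
    ((Algebra.linearMap (K ⊗[R] S) (Localization.Away ρ)).restrictScalars K).comp C.val.toLinearMap
  have hθ : Function.Surjective θ := by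
    intro x
    obtain ⟨b, ⟨_, k, rfl⟩, rfl⟩ := IsLocalization.exists_mk'_eq (Submonoid.powers ρ) x
    obtain ⟨N, hN⟩ := hpow b
    have hu : IsUnit (algebraMap (K ⊗[R] S) (Localization.Away ρ) ρ) :=
      IsLocalization.Away.algebraMap_isUnit ρ
    have hd : algebraMap (K ⊗[R] S) (Localization.Away ρ) ρ *
        algebraMap (K ⊗[R] S) (Localization.Away ρ) y.1 = 1 := by
      have := congrArg (algebraMap (K ⊗[R] S) (Localization.Away ρ)) hy'
      rw [map_mul, map_pow, pow_succ, mul_assoc] at this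
      exact (hu.pow j).mul_left_cancel (by rw [this, mul_one, map_pow])
    refine ⟨⟨ρ ^ N * b * y.1 ^ (N + k), C.mul_mem hN (C.pow_mem y.2 _)⟩, ?_⟩
    show algebraMap (K ⊗[R] S) (Localization.Away ρ) (ρ ^ N * b * y.1 ^ (N + k)) = _
    rw [IsLocalization.eq_mk'_iff_mul_eq]
    simp only [map_mul, map_pow]
    calc algebraMap (K ⊗[R] S) (Localization.Away ρ) ρ ^ N *
          algebraMap (K ⊗[R] S) (Localization.Away ρ) b *
          algebraMap (K ⊗[R] S) (Localization.Away ρ) y.1 ^ (N + k) *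
          algebraMap (K ⊗[R] S) (Localization.Away ρ) ρ ^ k
        = algebraMap (K ⊗[R] S) (Localization.Away ρ) b *
          (algebraMap (K ⊗[R] S) (Localization.Away ρ) ρ *
            algebraMap (K ⊗[R] S) (Localization.Away ρ) y.1) ^ (N + k) := by ring
      _ = algebraMap (K ⊗[R] S) (Localization.Away ρ) b := by rw [hd, one_pow, mul_one]
  refine ⟨Module.Finite.of_surjective θ hθ, ?_⟩
  exact (LinearMap.finrank_le_finrank_of_surjective hθ).trans hCrk

end Local

/-- A quasi-finite algebra of finite type has universally bounded fibres. -/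
theorem exists_bound_tensor {R S : Type u} [CommRing R] [CommRing S] [Algebra R S]
    [Algebra.FiniteType R S] [Algebra.QuasiFinite R S] :
    ∃ N : ℕ, ∀ (K : Type u) [Field K] [Algebra R K],
      Module.Finite K (K ⊗[R] S) ∧ Module.finrank K (K ⊗[R] S) ≤ N := by
  classical
  have hloc : ∀ p : PrimeSpectrum S, ∃ (S' : Subalgebra R S) (r : S') (n : ℕ)
      (f : (Fin n → R) →ₗ[R] S'), r.1 ∉ p.asIdeal ∧
        Function.Surjective (Localization.awayMap S'.val.toRingHom r) ∧ Function.Surjective f := by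
    intro p
    obtain ⟨S', hfg, r, hr, hbij⟩ :=
      Algebra.QuasiFiniteAt.exists_fg_and_exists_notMem_and_awayMap_bijective (R := R) p.asIdeal
    have : Module.Finite R S' := ⟨(Submodule.fg_top _).mpr hfg⟩
    obtain ⟨n, f, hf⟩ := Module.Finite.exists_fin' R S'
    exact ⟨S', r, n, f, hr, hbij.2, hf⟩
  choose S' r n f hr hsurj hf using hloc
  have hspan : Ideal.span (Set.range fun p => (r p).1) = ⊤ := by
    by_contra hne
    obtain ⟨𝔪, h𝔪, hle⟩ := Ideal.exists_le_maximal _ hne
    exact hr ⟨𝔪, h𝔪.isPrime⟩ (hle (Ideal.subset_span ⟨_, rfl⟩))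
  obtain ⟨s', hs's, hs'⟩ := (Ideal.span_eq_top_iff_finite _).1 hspan
  have hp : ∀ x : ↥s', ∃ p : PrimeSpectrum S, (r p).1 = x.1 := fun x => hs's x.2
  choose p hpx using hp
  refine ⟨∑ x : ↥s', n (p x), ?_⟩
  intro K _ _
  let ρ : ↥s' → K ⊗[R] S := fun x => (1 : K) ⊗ₜ[R] (r (p x)).1
  have hρspan : Ideal.span (Set.range ρ) = ⊤ := by
    have h1 : Set.range ρ =
        (Algebra.TensorProduct.includeRight : S →ₐ[R] K ⊗[R] S).toRingHom '' (s' : Set S) := by
      ext b
      constructor
      · rintro ⟨x, rfl⟩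
        exact ⟨x.1, x.2, by simp [ρ, hpx x]⟩
      · rintro ⟨x, hx, rfl⟩
        exact ⟨⟨x, hx⟩, by simp [ρ, hpx ⟨x, hx⟩]⟩
    rw [h1, ← Ideal.map_span, hs', Ideal.map_top]
  have hloc' : ∀ x : ↥s', Module.Finite K (Localization.Away (ρ x)) ∧
      Module.finrank K (Localization.Away (ρ x)) ≤ n (p x) := fun x =>
    away_finrank_le (S' (p x)) (r (p x)) (hsurj (p x)) (n (p x)) (f (p x)) (hf (p x)) K
  have hfinx : ∀ x, Module.Finite K (Localization.Away (ρ x)) := fun x => (hloc' x).1
  let φ : K ⊗[R] S →ₗ[K] (∀ x : ↥s', Localization.Away (ρ x)) :=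
    LinearMap.pi fun x => (Algebra.linearMap (K ⊗[R] S) (Localization.Away (ρ x))).restrictScalars K
  have hφ : Function.Injective φ := by
    rw [← LinearMap.ker_eq_bot, LinearMap.ker_eq_bot']
    intro b hb
    have hb' : ∀ x, algebraMap (K ⊗[R] S) (Localization.Away (ρ x)) b = 0 := fun x => congrFun hb x
    by_contra hne
    let I : Ideal (K ⊗[R] S) := LinearMap.ker (LinearMap.toSpanSingleton (K ⊗[R] S) (K ⊗[R] S) b)
    have hI : I ≠ ⊤ := by
      intro h
      have : (1 : K ⊗[R] S) ∈ I := by rw [h]; trivial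
      rw [LinearMap.mem_ker, LinearMap.toSpanSingleton_apply, one_smul] at this
      exact hne this
    obtain ⟨_, ⟨x, rfl⟩, hdisj⟩ := Ideal.exists_disjoint_powers_of_span_eq_top _ hρspan I hI
    obtain ⟨⟨m, hm⟩, hmb⟩ := (IsLocalization.map_eq_zero_iff (Submonoid.powers (ρ x)) _ b).1 (hb' x)
    refine Set.disjoint_left.1 hdisj ?_ hm
    show m ∈ I
    rw [LinearMap.mem_ker, LinearMap.toSpanSingleton_apply, smul_eq_mul]
    exact hmb
  refine ⟨Module.Finite.of_injective φ hφ, ?_⟩
  calc Module.finrank K (K ⊗[R] S) ≤ Module.finrank K (∀ x : ↥s', Localization.Away (ρ x)) :=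
        LinearMap.finrank_le_finrank_of_injective hφ
    _ = ∑ x : ↥s', Module.finrank K (Localization.Away (ρ x)) := Module.finrank_pi_fintype K
    _ ≤ ∑ x : ↥s', n (p x) := Finset.sum_le_sum fun x _ => (hloc' x).2

end Groth.Agent.Lib.Helper16.UBF
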