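import Groth.Agent.Lib.Helper16.UBF1
import Groth.Agent.Lib.Helper16.UBFQf

/-!
# Helper library (helper16): quasi-finite morphisms of affine schemes have universally bounded fibres
-/

set_option autoImplicit false
universe u
open CategoryTheory CategoryTheory.Limits AlgebraicGeometry Opposite TopologicalSpace TensorProduct

namespace Groth.Agent.Lib.Helper16.UBF

open Groth.Agent.Lib.Helper16

theorem exists_degLE_of_quasiFinite_affine {W U : Scheme.{u}} [IsAffine W] [IsAffine U] (f : W ⟶ U)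
    [LocallyQuasiFinite f] [LocallyOfFiniteType f] :
    ∃ N : ℕ, ∀ (K : Type u) [Field K] (x : Spec (CommRingCat.of K) ⟶ U) (T : Scheme.{u})
      (c : T ⟶ Spec (CommRingCat.of K)) (s : T ⟶ W), IsPullback c s x f → DegLE c N := by
  let algRS : Algebra Γ(U, ⊤) Γ(W, ⊤) := f.appTop.hom.toAlgebra
  have hft : Algebra.FiniteType Γ(U, ⊤) Γ(W, ⊤) :=
    (HasRingHomProperty.iff_of_isAffine (P := @LocallyOfFiniteType)).1 ‹_›
  have hqf : Algebra.QuasiFinite Γ(U, ⊤) Γ(W, ⊤) :=
    (HasRingHomProperty.iff_of_isAffine (P := @LocallyQuasiFinite)).1 ‹_›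
  obtain ⟨N, hN⟩ := exists_bound_tensor (R := Γ(U, ⊤)) (S := Γ(W, ⊤))
  refine ⟨N, ?_⟩
  intro K _ x T c s sq
  let algRK : Algebra Γ(U, ⊤) K :=
    (x.appTop ≫ (Scheme.ΓSpecIso (CommRingCat.of K)).hom).hom.toAlgebra
  obtain ⟨hfin, hrk⟩ := hN K
  have hTaff : IsAffine T := IsAffine.of_isPullback sq
  let algB : Algebra K Γ(T, ⊤) := gammaAlgebra c
  have hPO : IsPushout x.appTop f.appTop c.appTop s.appTop := isPushout_appTop_of_isPullback sq
  have hPO' : IsPushout (CommRingCat.ofHom (algebraMap Γ(U, ⊤) K))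
      (CommRingCat.ofHom (algebraMap Γ(U, ⊤) Γ(W, ⊤)))
      ((Scheme.ΓSpecIso (CommRingCat.of K)).inv ≫ c.appTop) s.appTop := by
    refine IsPushout.of_iso hPO (Iso.refl _) (Scheme.ΓSpecIso (CommRingCat.of K)) (Iso.refl _)
      (Iso.refl _) ?_ ?_ ?_ ?_
    · simp only [Iso.refl_hom, Category.id_comp]; rfl
    · simp only [Iso.refl_hom, Category.id_comp, Category.comp_id]; rfl
    · simp only [Iso.refl_hom, Category.comp_id, Iso.hom_inv_id_assoc]
    · simp only [Iso.refl_hom, Category.comp_id, Category.id_comp]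
  let e := (CommRingCat.isPushout_tensorProduct Γ(U, ⊤) K Γ(W, ⊤)).isoIsPushout _ _ hPO'
  have he1 : ∀ k : K, e.hom.hom (k ⊗ₜ[Γ(U, ⊤)] (1 : Γ(W, ⊤))) = algebraMap K Γ(T, ⊤) k := by
    intro k
    have := (CommRingCat.isPushout_tensorProduct Γ(U, ⊤) K Γ(W, ⊤)).inl_isoIsPushout_hom _ _ hPO'
    exact congrArg (fun g => g.hom k) this
  let E : K ⊗[Γ(U, ⊤)] Γ(W, ⊤) ≃ₗ[K] Γ(T, ⊤) :=
    { e.commRingCatIsoToRingEquiv with
      map_smul' := by
        intro k z
        show e.hom.hom (k • z) = k • e.hom.hom z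
        rw [Algebra.smul_def, Algebra.smul_def, map_mul]
        congr 1
        exact he1 k }
  rw [degLE_iff]
  exact ⟨Module.Finite.equiv E, (E.finrank_eq).symm.le.trans hrk⟩

end Groth.Agent.Lib.Helper16.UBF
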