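import Mathlib

/-!
# Universal closedness via affine spaces: the algebraic core

* `range_sup_range_eq_top_of_isPushout`: in a pushout square of commutative rings, the two legs jointly
  generate the pushout.
* `exists_finset_no_prime`: the key finiteness statement: if no prime of `D = C ⊗ B` containing `I` lies over
  `𝔭 ⊂ B`, then this is already witnessed over a polynomial ring in finitely many variables.
-/

set_option autoImplicit false
universe u

namespace Groth.Agent.Lib.Helper16.UnivA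

open CategoryTheory CategoryTheory.Limits

/-- In a pushout square of commutative rings the two legs jointly generate. -/
theorem range_sup_range_eq_top_of_isPushout {R C B D : CommRingCat.{u}} {a₀ : R ⟶ C} {b₀ : R ⟶ B}
    {a : C ⟶ D} {b : B ⟶ D} (h : IsPushout a₀ b₀ a b) : a.hom.range ⊔ b.hom.range = ⊤ := by
  obtain ⟨E, hE⟩ : ∃ E : Subring D, E = a.hom.range ⊔ b.hom.range := ⟨_, rfl⟩
  have haE : ∀ x, a.hom x ∈ E := fun x => by
    rw [hE]; exact (le_sup_left : a.hom.range ≤ a.hom.range ⊔ b.hom.range) ⟨x, rfl⟩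
  have hbE : ∀ x, b.hom x ∈ E := fun x => by
    rw [hE]; exact (le_sup_right : b.hom.range ≤ a.hom.range ⊔ b.hom.range) ⟨x, rfl⟩
  let a' : C ⟶ CommRingCat.of E := CommRingCat.ofHom (a.hom.codRestrict E haE)
  let b' : B ⟶ CommRingCat.of E := CommRingCat.ofHom (b.hom.codRestrict E hbE)
  let ι : CommRingCat.of E ⟶ D := CommRingCat.ofHom E.subtype
  have ha' : a' ≫ ι = a := by ext x; rfl
  have hb' : b' ≫ ι = b := by ext x; rfl
  have hw : a₀ ≫ a' = b₀ ≫ b' := by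
    ext x
    exact congrArg (fun k => k.hom x) h.w
  have h1 : a ≫ h.desc a' b' hw = a' := h.inl_desc _ _ _
  have h2 : b ≫ h.desc a' b' hw = b' := h.inr_desc _ _ _
  have hid : h.desc a' b' hw ≫ ι = 𝟙 D := by
    apply h.hom_ext
    · rw [← Category.assoc, h1, ha', Category.comp_id]
    · rw [← Category.assoc, h2, hb', Category.comp_id]
  rw [← hE, eq_top_iff]
  intro x _
  have hx : ι.hom ((h.desc a' b' hw).hom x) = x := congrArg (fun k => k.hom x) hid
  rw [← hx]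
  exact ((h.desc a' b' hw).hom x).2

/-- The key finiteness statement. -/
theorem exists_finset_no_prime {C B D : Type u} [CommRing C] [CommRing B] [CommRing D]
    (a : C →+* D) (b : B →+* D) (hgen : a.range ⊔ b.range = ⊤) (I : Ideal D) (𝔭 : Ideal B) [𝔭.IsPrime]
    (hfib : ∀ 𝔮 : Ideal D, 𝔮.IsPrime → I ≤ 𝔮 → 𝔮.comap b ≠ 𝔭) :
    ∃ F : Finset B, ∀ (Dn P : Type u) [CommRing Dn] [CommRing P] (an : C →+* Dn) (bn : P →+* Dn)
      (φ : P →+* B) (ψ : Dn →+* D), ψ.comp an = a → ψ.comp bn = b.comp φ → (↑F ⊆ Set.range φ) →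
      ∀ 𝔮' : Ideal Dn, 𝔮'.IsPrime → I.comap ψ ≤ 𝔮' → 𝔮'.comap bn ≠ 𝔭.comap φ := by
  classical
  -- finiteness of generation
  have hfin : ∀ e : D, ∃ F : Finset B, e ∈ Subring.closure (Set.range a ∪ b '' (↑F : Set B)) := by
    intro e
    have hle : a.range ⊔ b.range ≤ Subring.closure (Set.range a ∪ Set.range b) := by
      refine sup_le ?_ ?_
      · rintro _ ⟨c, rfl⟩
        exact Subring.subset_closure (Or.inl ⟨c, rfl⟩)
      · rintro _ ⟨β, rfl⟩
        exact Subring.subset_closure (Or.inr ⟨β, rfl⟩)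
    have he : e ∈ Subring.closure (Set.range a ∪ Set.range b) := hle (by rw [hgen]; trivial)
    refine Subring.closure_induction
      (p := fun x _ => ∃ F : Finset B, x ∈ Subring.closure (Set.range a ∪ b '' (↑F : Set B)))
      ?_ ?_ ?_ ?_ ?_ ?_ he
    · rintro x (⟨c, rfl⟩ | ⟨β, rfl⟩)
      · exact ⟨∅, Subring.subset_closure (Or.inl ⟨c, rfl⟩)⟩
      · exact ⟨{β}, Subring.subset_closure (Or.inr ⟨β, by simp, rfl⟩)⟩
    · exact ⟨∅, zero_mem _⟩
    · exact ⟨∅, one_mem _⟩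
    · rintro x y _ _ ⟨F₁, h₁⟩ ⟨F₂, h₂⟩
      refine ⟨F₁ ∪ F₂, add_mem (Subring.closure_mono ?_ h₁) (Subring.closure_mono ?_ h₂)⟩
      · exact Set.union_subset_union_right _ (Set.image_mono (by simp))
      · exact Set.union_subset_union_right _ (Set.image_mono (by simp))
    · rintro x _ ⟨F₁, h₁⟩
      exact ⟨F₁, neg_mem h₁⟩
    · rintro x y _ _ ⟨F₁, h₁⟩ ⟨F₂, h₂⟩
      refine ⟨F₁ ∪ F₂, mul_mem (Subring.closure_mono ?_ h₁) (Subring.closure_mono ?_ h₂)⟩
      · exact Set.union_subset_union_right _ (Set.image_mono (by simp))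
      · exact Set.union_subset_union_right _ (Set.image_mono (by simp))
  choose Ff hFf using hfin
  -- the element `s`
  have hnd : ¬ Disjoint ((I ⊔ 𝔭.map b : Ideal D) : Set D)
      ((𝔭.primeCompl.map (b : B →* D) : Submonoid D) : Set D) := by
    intro hdis
    obtain ⟨𝔮, h𝔮, hJ, hd⟩ := Ideal.exists_le_prime_disjoint _ _ hdis
    refine hfib 𝔮 h𝔮 (le_sup_left.trans hJ) (le_antisymm ?_ ?_)
    · intro x hx
      by_contra hx𝔭
      exact Set.disjoint_left.1 hd (show b x ∈ (𝔮 : Set D) from hx) ⟨x, hx𝔭, rfl⟩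
    · exact Ideal.map_le_iff_le_comap.1 (le_sup_right.trans hJ)
  rw [Set.not_disjoint_iff] at hnd
  obtain ⟨d, hdJ, ⟨s, hs, rfl⟩⟩ := hnd
  obtain ⟨g, hg, h, hh, hgh⟩ := Submodule.mem_sup.1 hdJ
  have hh' : h ∈ Submodule.span D (b '' (𝔭 : Set B)) := hh
  rw [Submodule.mem_span_iff_exists_finset_subset] at hh'
  obtain ⟨fc, t, ht, -, hsum⟩ := hh'
  have hπ : ∀ m ∈ t, ∃ π : B, π ∈ 𝔭 ∧ b π = m := fun m hm => by
    obtain ⟨π, hπ, rfl⟩ := ht hm
    exact ⟨π, hπ, rfl⟩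
  choose! πf hπf using hπ
  refine ⟨insert s (t.biUnion fun m => insert (πf m) (Ff (fc m))), ?_⟩
  intro Dn P _ _ an bn φ ψ h1 h2 hF 𝔮' h𝔮' hI heq
  have hb2 : ∀ x : P, ψ (bn x) = b (φ x) := fun x => congrArg (fun k => k x) h2
  have ha1 : ∀ c : C, ψ (an c) = a c := fun c => congrArg (fun k => k c) h1
  have hmemF : ∀ m ∈ t, ∀ β, (β = πf m ∨ β ∈ Ff (fc m)) →
      β ∈ insert s (t.biUnion fun m => insert (πf m) (Ff (fc m))) := by
    intro m hm β hβ
    refine Finset.mem_insert_of_mem (Finset.mem_biUnion.2 ⟨m, hm, ?_⟩)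
    rcases hβ with rfl | hβ
    · exact Finset.mem_insert_self _ _
    · exact Finset.mem_insert_of_mem hβ
  obtain ⟨s', hs'⟩ : s ∈ Set.range φ := hF (by simp)
  have hπF : ∀ m ∈ t, ∃ x : P, φ x = πf m := fun m hm =>
    hF (Finset.mem_coe.2 (hmemF m hm _ (Or.inl rfl)))
  choose! pt hpt using hπF
  have hrange : ∀ m ∈ t, ∃ e : Dn, ψ e = fc m := fun m hm => by
    have hle : Subring.closure (Set.range a ∪ b '' (↑(Ff (fc m)) : Set B)) ≤ ψ.range := by
      rw [Subring.closure_le]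
      rintro _ (⟨c, rfl⟩ | ⟨β, hβ, rfl⟩)
      · exact ⟨an c, ha1 c⟩
      · obtain ⟨x, rfl⟩ := hF (Finset.mem_coe.2 (hmemF m hm β (Or.inr hβ)))
        exact ⟨bn x, hb2 x⟩
    exact hle (hFf (fc m))
  choose! et het using hrange
  obtain ⟨g', hg'⟩ : ∃ g' : Dn, g' = bn s' - ∑ m ∈ t, et m * bn (pt m) := ⟨_, rfl⟩
  have hψg : ψ g' = g := by
    have e1 : ψ (bn s') = b s := by rw [hb2, hs']
    have e2 : ∑ m ∈ t, ψ (et m * bn (pt m)) = h := by
      rw [← hsum]
      refine Finset.sum_congr rfl fun m hm => ?_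
      rw [map_mul, het m hm, hb2, hpt m hm, (hπf m hm).2, smul_eq_mul]
    have e3 : (b : B →* D) s = b s := rfl
    rw [hg', map_sub, map_sum, e1, e2, ← e3, ← hgh]
    ring
  have hg'mem : g' ∈ 𝔮' := hI (show ψ g' ∈ I by rw [hψg]; exact hg)
  have hsum' : ∑ m ∈ t, et m * bn (pt m) ∈ 𝔮' := by
    refine Ideal.sum_mem _ fun m hm => Ideal.mul_mem_left _ _ ?_
    have h3 : pt m ∈ 𝔭.comap φ := by
      show φ (pt m) ∈ 𝔭
      rw [hpt m hm]
      exact (hπf m hm).1
    rw [← heq] at h3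
    exact h3
  have hbs : bn s' ∈ 𝔮' := by
    have h4 : bn s' = g' + ∑ m ∈ t, et m * bn (pt m) := by rw [hg']; ring
    rw [h4]
    exact 𝔮'.add_mem hg'mem hsum'
  have h5 : s' ∈ 𝔭.comap φ := by rw [← heq]; exact hbs
  have h6 : φ s' ∈ 𝔭 := h5
  rw [hs'] at h6
  exact hs h6

end Groth.Agent.Lib.Helper16.UnivA
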