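import Groth.Agent.Lib.Helper16.ThickOpen
import Groth.Agent.Lib.Helper16.Charts
import Groth.Agent.Lib.Helper16.Points
import Groth.Agent.Lib.Helper16.Rep
import Groth.Agent.Lib.Helper15.MonoInj

/-!
# Universal closedness via affine spaces: primes of global sections, restriction to opens of the base
-/

set_option autoImplicit false
universe u
open CategoryTheory CategoryTheory.Limits AlgebraicGeometry Opposite Topology TopologicalSpace

namespace Groth.Agent.Lib.Helper16.UnivA

open AlgSp Groth.Agent.Lib.Helper16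

/-- The prime ideal of global sections vanishing at a point. -/
noncomputable def pr (T : Scheme.{u}) (x : T) : Ideal Γ(T, ⊤) := (T.toSpecΓ x).asIdeal

instance pr_isPrime (T : Scheme.{u}) (x : T) : (pr T x).IsPrime := (T.toSpecΓ x).isPrime

theorem pr_map {T T' : Scheme.{u}} (f : T ⟶ T') (x : T) :
    pr T' (f x) = (pr T x).comap f.appTop.hom := by
  have h := congrArg (fun k : T ⟶ Spec Γ(T', ⊤) => k x) (Scheme.toSpecΓ_naturality f)
  simp only [Scheme.Hom.comp_apply] at h
  unfold pr
  rw [h]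
  rfl

theorem pr_surjective (T : Scheme.{u}) [IsAffine T] (𝔮 : Ideal Γ(T, ⊤)) [h𝔮 : 𝔮.IsPrime] :
    ∃ x : T, pr T x = 𝔮 := by
  obtain ⟨x, hx⟩ := T.toSpecΓ.homeomorph.surjective ⟨𝔮, h𝔮⟩
  rw [Scheme.Hom.homeomorph_apply] at hx
  exact ⟨x, by unfold pr; rw [hx]⟩

theorem pr_injective (T : Scheme.{u}) [IsAffine T] {x y : T} (h : pr T x = pr T y) : x = y := by
  apply T.toSpecΓ.homeomorph.injective
  rw [Scheme.Hom.homeomorph_apply, Scheme.Hom.homeomorph_apply]
  exact PrimeSpectrum.ext h

theorem isClosed_setOf_le_pr (T : Scheme.{u}) (I : Ideal Γ(T, ⊤)) : IsClosed {x : T | I ≤ pr T x} := by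
  have h : IsClosed (PrimeSpectrum.zeroLocus (I : Set Γ(T, ⊤))) := PrimeSpectrum.isClosed_zeroLocus _
  exact h.preimage T.toSpecΓ.continuous

theorem exists_ideal_of_isClosed (T : Scheme.{u}) [IsAffine T] (C : Set T) (hC : IsClosed C) :
    ∃ I : Ideal Γ(T, ⊤), ∀ x, x ∈ C ↔ I ≤ pr T x := by
  have hcl : IsClosed (T.toSpecΓ.homeomorph '' C) := T.toSpecΓ.homeomorph.isClosed_image.2 hC
  obtain ⟨I, hI⟩ := (PrimeSpectrum.isClosed_iff_zeroLocus_ideal _).1 hcl
  refine ⟨I, fun x => ?_⟩
  have h1 : x ∈ C ↔ T.toSpecΓ.homeomorph x ∈ T.toSpecΓ.homeomorph '' C :=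
    (T.toSpecΓ.homeomorph.injective.mem_set_image).symm
  rw [h1, hI]
  exact Iff.rfl

variable {S : Scheme.{u}}

theorem ofPt_yon_map {T T' : Over S} (φ : T ⟶ T') (w : ↥T.left) :
    Points.ofPt ((yon S).map φ) w = Points.ofScheme T' (φ.left w) := by
  have h := ofPt_yon_map_comp φ (𝟙 _) w
  rwa [Category.comp_id] at h

/-- Closedness on points restricts along open immersions into the base. -/
theorem isClosedMap_of_isPullback_openImmersion {P Z P₀ Z₀ : Sp S} (hP : IsAlgSpace P) {snd : P ⟶ Z}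
    {j : Z₀ ⟶ Z} {j' : P₀ ⟶ P} {snd₀ : P₀ ⟶ Z₀} (sq : IsPullback j' snd₀ snd j)
    (hj : RepWith @IsOpenImmersion j) (hcl : IsClosedMap (Points.map snd)) :
    IsClosedMap (Points.map snd₀) := by
  have hj' : RepWith @IsOpenImmersion j' := (RepWith (S := S) @IsOpenImmersion).of_isPullback sq.flip hj
  have hmono : Mono j' := mono_of_repWith (P := @IsOpenImmersion)
    (fun _ _ g hg => by
      have : IsOpenImmersion g := hg
      exact (inferInstance : Mono g)) _ hj'
  have hinj : Function.Injective (Points.map j') := Groth.Agent.Lib.Helper15.points_map_injective_of_mono j'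
  have hopen : IsOpenMap (Points.map j') := Thick.isOpenMap_points_of_openImmersion hP j' hj'
  have hind : IsInducing (Points.map j') :=
    (IsOpenEmbedding.of_continuous_injective_isOpenMap (Points.continuous_map j') hinj hopen).isInducing
  intro T₀ hT₀
  have key : Points.map snd₀ '' T₀ =
      Points.map j ⁻¹' (Points.map snd '' closure (Points.map j' '' T₀)) := by
    ext z
    constructor
    · rintro ⟨τ₀, hτ₀, rfl⟩
      refine ⟨Points.map j' τ₀, subset_closure ⟨τ₀, hτ₀, rfl⟩, ?_⟩
      rw [← Points.map_comp, ← Points.map_comp, sq.w]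
    · rintro ⟨τ, hτ, hz⟩
      obtain ⟨τ₀, h1, h2⟩ := exists_point_of_isPullback sq τ z hz
      refine ⟨τ₀, ?_, h2⟩
      have h3 : τ₀ ∈ closure T₀ := by
        rw [hind.closure_eq_preimage_closure_image]
        rw [Set.mem_preimage, h1]
        exact hτ
      rwa [hT₀.closure_eq] at h3
  rw [key]
  exact (hcl _ isClosed_closure).preimage (Points.continuous_map j)

end Groth.Agent.Lib.Helper16.UnivA
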