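import Groth.Agent.Lib.Helper16.UnivA1
import Groth.Agent.Lib.Helper16.UnivA2
import Groth.Agent.Lib.Helper16.DenseFin3
import Groth.Agent.Lib.Helper16.QuasiCompactMor

/-!
# Universal closedness via affine spaces: the geometric core

For a quasi-compact morphism `f : X ⟶ Y`, an affine scheme `V₀` with a map to `Y` such that all the base changes of
`f` to the affine spaces `𝔸ⁿ_{V₀}` are closed on points, the base change of `f` to any affine scheme over `V₀` is
closed on points.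
-/

set_option autoImplicit false
universe u
open CategoryTheory CategoryTheory.Limits AlgebraicGeometry Opposite Topology TopologicalSpace

namespace Groth.Agent.Lib.Helper16.UnivA

open AlgSp Groth.Agent.Lib.Helper16

variable {S : Scheme.{u}}

/-- The chart of a base change induced by a chart of `X ×_Y V₀`. -/
theorem exists_chart_over {X Y : Sp S} (f : X ⟶ Y) {V₀ W₀ : Over S} (b₀ : (yon S).obj V₀ ⟶ Y)
    (a₀ : (yon S).obj W₀ ⟶ pullback f b₀) (w₀ : W₀ ⟶ V₀)
    (hw₀ : (yon S).map w₀ = a₀ ≫ pullback.snd f b₀)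
    {T : Over S} (τ : T ⟶ V₀) {PT : Sp S} (fstT : PT ⟶ X) (sndT : PT ⟶ (yon S).obj T)
    (sqT : IsPullback fstT sndT f ((yon S).map τ ≫ b₀)) :
    ∃ (r : (yon S).obj (pullback w₀ τ) ⟶ PT) (m : PT ⟶ pullback f b₀),
      r ≫ sndT = (yon S).map (pullback.snd w₀ τ) ∧ m ≫ pullback.fst f b₀ = fstT ∧
      m ≫ pullback.snd f b₀ = sndT ≫ (yon S).map τ ∧
      r ≫ m = (yon S).map (pullback.fst w₀ τ) ≫ a₀ ∧
      IsPullback r ((yon S).map (pullback.fst w₀ τ)) m a₀ := by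
  have sq₀ := IsPullback.of_hasPullback f b₀
  have hmw : fstT ≫ f = (sndT ≫ (yon S).map τ) ≫ b₀ := by rw [sqT.w, Category.assoc]
  obtain ⟨m, hm1, hm2⟩ : ∃ m : PT ⟶ pullback f b₀, m ≫ pullback.fst f b₀ = fstT ∧
      m ≫ pullback.snd f b₀ = sndT ≫ (yon S).map τ :=
    ⟨sq₀.lift _ _ hmw, sq₀.lift_fst _ _ _, sq₀.lift_snd _ _ _⟩
  have sqR : IsPullback m sndT (pullback.snd f b₀) ((yon S).map τ) := by
    refine IsPullback.of_right ?_ hm2 sq₀
    rw [hm1]
    exact sqT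
  have sqW : IsPullback ((yon S).map (pullback.fst w₀ τ)) ((yon S).map (pullback.snd w₀ τ))
      ((yon S).map w₀) ((yon S).map τ) := (IsPullback.of_hasPullback w₀ τ).map (yon S)
  have hrw : ((yon S).map (pullback.fst w₀ τ) ≫ a₀) ≫ pullback.snd f b₀ =
      (yon S).map (pullback.snd w₀ τ) ≫ (yon S).map τ := by
    rw [Category.assoc, ← hw₀]
    exact sqW.w
  obtain ⟨r, hr1, hr2⟩ : ∃ r : (yon S).obj (pullback w₀ τ) ⟶ PT,
      r ≫ m = (yon S).map (pullback.fst w₀ τ) ≫ a₀ ∧ r ≫ sndT = (yon S).map (pullback.snd w₀ τ) :=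
    ⟨sqR.lift _ _ hrw, sqR.lift_fst _ _ _, sqR.lift_snd _ _ _⟩
  refine ⟨r, m, hr2, hm1, hm2, hr1, ?_⟩
  refine IsPullback.of_right ?_ hr1 sqR.flip
  rw [hr2, ← hw₀]
  exact sqW.flip

set_option maxHeartbeats 1600000 in
/-- The geometric core. -/
theorem isClosedMap_of_affineSpace_tests {X Y : Sp S} (f : X ⟶ Y) (hqc : IsQuasiCompactMor f)
    {V₀ : Over S} (hV₀ : IsAffine V₀.left) (b₀ : (yon S).obj V₀ ⟶ Y)
    (H₀ : ∀ (n : ℕ) (P : Sp S) (fst : P ⟶ X)
      (snd : P ⟶ (yon S).obj (Over.mk ((𝔸(ULift.{u} (Fin n); V₀.left) ↘ V₀.left) ≫ V₀.hom))),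
      IsPullback fst snd f ((yon S).map (Over.homMk (𝔸(ULift.{u} (Fin n); V₀.left) ↘ V₀.left)) ≫ b₀) →
        IsClosedMap (Points.map snd))
    {Z : Over S} (hZ : IsAffine Z.left) (t : Z ⟶ V₀) {PZ : Sp S} (fstZ : PZ ⟶ X)
    (sndZ : PZ ⟶ (yon S).obj Z) (sqZ : IsPullback fstZ sndZ f ((yon S).map t ≫ b₀)) :
    IsClosedMap (Points.map sndZ) := by
  classical
  have : IsAffine V₀.left := hV₀
  have : IsAffine Z.left := hZ
  -- an affine chart of `X ×_Y V₀`
  have hP₀q : IsQuasiCompactSp (pullback f b₀) :=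
    hqc (IsAlgSpace.yon_obj V₀) (isQuasiCompactSp_yon_of_compactSpace V₀) b₀ _ _
      (IsPullback.of_hasPullback f b₀)
  obtain ⟨W₀, a₀, hW₀, ha₀e, ha₀s⟩ := DenseFin.exists_affine_chart_of_isQuasiCompactSp hP₀q
  have : IsAffine W₀.left := hW₀
  obtain ⟨w₀, hw₀⟩ := (yon S).map_surjective (a₀ ≫ pullback.snd f b₀)
  -- the chart over `Z`
  obtain ⟨rZ, mZ, hrZ, hmZ1, hmZ2, hrmZ, sqrZ⟩ := exists_chart_over f b₀ a₀ w₀ hw₀ t fstZ sndZ sqZ
  have sqS : IsPullback (pullback.fst w₀ t).left (pullback.snd w₀ t).left w₀.left t.left :=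
    (IsPullback.of_hasPullback w₀ t).map (Over.forget S)
  have hWZaff : IsAffine (pullback w₀ t).left := IsAffine.of_isPullback sqS
  have hgen := range_sup_range_eq_top_of_isPushout (isPushout_appTop_of_isPullback sqS)
  intro T hT
  apply isClosed_of_closure_subset
  intro y hy
  by_contra hyT
  obtain ⟨z₀, rfl⟩ := (Points.schemeEquiv Z).surjective y
  -- the closed subset of the chart
  have hC' : IsClosed (Points.ofPt rZ ⁻¹' T) := hT.preimage (Points.continuous_ofPt rZ)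
  obtain ⟨I, hI⟩ := exists_ideal_of_isClosed (pullback w₀ t).left _ hC'
  have hfib : ∀ 𝔮 : Ideal Γ((pullback w₀ t).left, ⊤), 𝔮.IsPrime → I ≤ 𝔮 →
      𝔮.comap (pullback.snd w₀ t).left.appTop.hom ≠ pr Z.left z₀ := by
    intro 𝔮 h𝔮 hI𝔮 heq
    obtain ⟨w, rfl⟩ := pr_surjective (pullback w₀ t).left 𝔮
    have hwT : Points.ofPt rZ w ∈ T := (hI w).2 hI𝔮
    rw [← pr_map] at heq
    have hz : (pullback.snd w₀ t).left w = z₀ := pr_injective Z.left heq
    apply hyT
    refine ⟨Points.ofPt rZ w, hwT, ?_⟩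
    rw [Points.map_ofPt, hrZ, ofPt_yon_map, hz]
    rfl
  obtain ⟨F, hF⟩ := exists_finset_no_prime (pullback.fst w₀ t).left.appTop.hom
    (pullback.snd w₀ t).left.appTop.hom hgen I (pr Z.left z₀) hfib
  -- enumerate `F`
  obtain ⟨e⟩ : Nonempty (↥F ≃ Fin F.card) := ⟨F.equivFin⟩
  obtain ⟨n, hn⟩ : ∃ n : ℕ, n = F.card := ⟨_, rfl⟩
  subst hn
  obtain ⟨v, hv⟩ : ∃ v : ULift.{u} (Fin F.card) → Γ(Z.left, ⊤), ∀ β ∈ F, ∃ i, v i = β :=
    ⟨fun i => (e.symm i.down).1, fun β hβ => ⟨ULift.up (e ⟨β, hβ⟩), by simp⟩⟩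
  -- the affine space and the map to it
  have htnw : AffineSpace.homOfVector t.left v ≫
      (𝔸(ULift.{u} (Fin F.card); V₀.left) ↘ V₀.left) ≫ V₀.hom = Z.hom := by
    rw [AffineSpace.homOfVector_over_assoc, Over.w t]
  obtain ⟨σ, hσ⟩ : ∃ σ : Over.mk ((𝔸(ULift.{u} (Fin F.card); V₀.left) ↘ V₀.left) ≫ V₀.hom) ⟶ V₀,
      σ = Over.homMk (𝔸(ULift.{u} (Fin F.card); V₀.left) ↘ V₀.left) := ⟨_, rfl⟩
  obtain ⟨tn, htnl⟩ : ∃ tn : Z ⟶ Over.mk ((𝔸(ULift.{u} (Fin F.card); V₀.left) ↘ V₀.left) ≫ V₀.hom),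
      tn.left = AffineSpace.homOfVector t.left v := ⟨Over.homMk _ htnw, rfl⟩
  have htn : tn ≫ σ = t := by
    apply Over.OverMorphism.ext
    rw [Over.comp_left, htnl, hσ]
    exact AffineSpace.homOfVector_over t.left v
  -- the base change to the affine space
  have sqA := IsPullback.of_hasPullback f ((yon S).map σ ≫ b₀)
  have hclA : IsClosedMap (Points.map (pullback.snd f ((yon S).map σ ≫ b₀))) := by
    have sqA' := sqA
    rw [hσ] at sqA'
    have := H₀ F.card _ _ _ sqA'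
    rw [hσ]
    exact this
  obtain ⟨rA, mA, hrA, hmA1, hmA2, hrmA, sqrA⟩ := exists_chart_over f b₀ a₀ w₀ hw₀ σ _ _ sqA
  -- the comparison maps
  have hMw : fstZ ≫ f = (sndZ ≫ (yon S).map tn) ≫ (yon S).map σ ≫ b₀ := by
    rw [sqZ.w, Category.assoc, ← Category.assoc ((yon S).map tn), ← Functor.map_comp, htn]
  obtain ⟨M, hM1, hM2⟩ : ∃ M : PZ ⟶ pullback f ((yon S).map σ ≫ b₀),
      M ≫ pullback.fst f ((yon S).map σ ≫ b₀) = fstZ ∧
      M ≫ pullback.snd f ((yon S).map σ ≫ b₀) = sndZ ≫ (yon S).map tn :=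
    ⟨sqA.lift _ _ hMw, sqA.lift_fst _ _ _, sqA.lift_snd _ _ _⟩
  have hπw : pullback.fst w₀ t ≫ w₀ = (pullback.snd w₀ t ≫ tn) ≫ σ := by
    rw [Category.assoc, htn]
    exact pullback.condition
  obtain ⟨π, hπ1, hπ2⟩ : ∃ π : pullback w₀ t ⟶ pullback w₀ σ,
      π ≫ pullback.fst w₀ σ = pullback.fst w₀ t ∧ π ≫ pullback.snd w₀ σ = pullback.snd w₀ t ≫ tn :=
    ⟨pullback.lift _ _ hπw, pullback.lift_fst _ _ _, pullback.lift_snd _ _ _⟩
  have e1 : (yon S).map (pullback.fst w₀ t) = (yon S).map π ≫ (yon S).map (pullback.fst w₀ σ) := by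
    rw [← Functor.map_comp, hπ1]
  have e2 : (yon S).map (pullback.snd w₀ t) ≫ (yon S).map tn =
      (yon S).map π ≫ (yon S).map (pullback.snd w₀ σ) := by
    rw [← Functor.map_comp, ← Functor.map_comp, hπ2]
  have hMm : M ≫ mA = mZ := by
    apply pullback.hom_ext
    · rw [Category.assoc, hmA1, hM1, hmZ1]
    · rw [Category.assoc, hmA2, ← Category.assoc, hM2, Category.assoc, ← Functor.map_comp, htn, hmZ2]
  have hcomm : rZ ≫ M = (yon S).map π ≫ rA := by
    apply sqA.hom_ext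
    · have h1 : (rZ ≫ M) ≫ pullback.fst f ((yon S).map σ ≫ b₀) =
          (yon S).map (pullback.fst w₀ t) ≫ a₀ ≫ pullback.fst f b₀ := by
        rw [Category.assoc, hM1, ← hmZ1, reassoc_of% hrmZ]
      have h2 : ((yon S).map π ≫ rA) ≫ pullback.fst f ((yon S).map σ ≫ b₀) =
          (yon S).map (pullback.fst w₀ t) ≫ a₀ ≫ pullback.fst f b₀ := by
        rw [Category.assoc, ← hmA1, reassoc_of% hrmA, e1, Category.assoc]
      rw [h1, h2]
    · rw [Category.assoc, hM2, ← Category.assoc, hrZ, e2, Category.assoc, hrA]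
  have sqπ : IsPullback rZ ((yon S).map π) M rA := by
    refine IsPullback.of_bot ?_ hcomm sqrA
    rw [← Functor.map_comp, hπ1, hMm]
    exact sqrZ
  have hrAe : RepWith @Etale rA := (RepWith (S := S) @Etale).of_isPullback sqrA.flip ha₀e
  have hrAs : RepWith @Surjective rA := (RepWith (S := S) @Surjective).of_isPullback sqrA.flip ha₀s
  -- the closed set
  have hKcl : IsClosed (Points.map ((yon S).map tn) ⁻¹'
      (Points.map (pullback.snd f ((yon S).map σ ≫ b₀)) '' closure (Points.map M '' T))) :=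
    (hclA _ isClosed_closure).preimage (Points.continuous_map _)
  have hKT : Points.map sndZ '' T ⊆ Points.map ((yon S).map tn) ⁻¹'
      (Points.map (pullback.snd f ((yon S).map σ ≫ b₀)) '' closure (Points.map M '' T)) := by
    rintro _ ⟨τ, hτ, rfl⟩
    refine ⟨Points.map M τ, subset_closure ⟨τ, hτ, rfl⟩, ?_⟩
    rw [← Points.map_comp, ← Points.map_comp, hM2]
  obtain ⟨τ', hτ', hτ'eq⟩ := closure_minimal hKT hKcl hy
  obtain ⟨w', rfl⟩ := ofPt_surjective_of_surjective rA hrAs τ'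
  have hw'I : I.comap π.left.appTop.hom ≤ pr (pullback w₀ σ).left w' := by
    have h1 : w' ∈ closure (Points.ofPt rA ⁻¹' (Points.map M '' T)) := by
      rw [← (isOpenMap_ofPt_of_etale rA hrAe).preimage_closure_eq_closure_preimage
        (Points.continuous_ofPt rA)]
      exact hτ'
    have h2 : Points.ofPt rA ⁻¹' (Points.map M '' T) ⊆
        {x | I.comap π.left.appTop.hom ≤ pr (pullback w₀ σ).left x} := by
      rintro x ⟨τ, hτ, hx⟩
      obtain ⟨w, hw1, hw2⟩ := exists_point_of_isPullback_yon sqπ τ x hx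
      have h3 : I ≤ pr (pullback w₀ t).left w := (hI w).1 (by
        show Points.ofPt rZ w ∈ T
        rw [hw1]
        exact hτ)
      show I.comap π.left.appTop.hom ≤ pr (pullback w₀ σ).left x
      rw [← hw2, pr_map]
      exact Ideal.comap_mono h3
    exact closure_minimal h2 (isClosed_setOf_le_pr _ _) h1
  -- the point of the affine space
  have hpt : (pullback.snd w₀ σ).left w' = tn.left z₀ := by
    apply ofScheme_injective
    rw [← ofPt_yon_map, ← hrA, ← Points.map_ofPt, hτ'eq]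
    exact map_yon_map_ofScheme tn z₀
  refine hF Γ((pullback w₀ σ).left, ⊤)
    Γ((Over.mk ((𝔸(ULift.{u} (Fin F.card); V₀.left) ↘ V₀.left) ≫ V₀.hom)).left, ⊤)
    (pullback.fst w₀ σ).left.appTop.hom (pullback.snd w₀ σ).left.appTop.hom
    tn.left.appTop.hom π.left.appTop.hom ?_ ?_ ?_ (pr _ w') inferInstance hw'I ?_
  · rw [← CommRingCat.hom_comp, ← Scheme.Hom.comp_appTop, ← Over.comp_left, hπ1]
  · rw [← CommRingCat.hom_comp, ← Scheme.Hom.comp_appTop, ← Over.comp_left, hπ2, Over.comp_left,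
      Scheme.Hom.comp_appTop, CommRingCat.hom_comp]
  · intro β hβ
    obtain ⟨i, rfl⟩ := hv β hβ
    refine ⟨AffineSpace.coord V₀.left i, ?_⟩
    rw [htnl]
    exact AffineSpace.homOfVector_appTop_coord t.left v i
  · rw [← pr_map, ← pr_map, hpt]

end Groth.Agent.Lib.Helper16.UnivA
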