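import Groth.Agent.Lib.Helper16.UnivA3
import Groth.Agent.Lib.Helper16.Univ
import Groth.Agent.Lib.Helper16.FibreProduct

/-!
# Universal closedness via affine spaces: assembling

A quasi-compact morphism of algebraic spaces all of whose base changes to the affine spaces over an etale atlas of the
target are closed on points is universally closed.
-/

set_option autoImplicit false
universe u
open CategoryTheory CategoryTheory.Limits AlgebraicGeometry Opposite Topology TopologicalSpace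

namespace Groth.Agent.Lib.Helper16.UnivA

open AlgSp Groth.Agent.Lib.Helper16

variable {S : Scheme.{u}}

/-- The affine space hypothesis passes to open subschemes of the chart. -/
theorem affineSpace_tests_restrict {X Y : Sp S} (hX : IsAlgSpace X) (hY : IsAlgSpace Y) (f : X ⟶ Y)
    {V : Over S} (p : (yon S).obj V ⟶ Y)
    (H : ∀ (n : ℕ) (P : Sp S) (fst : P ⟶ X)
      (snd : P ⟶ (yon S).obj (Over.mk ((𝔸(ULift.{u} (Fin n); V.left) ↘ V.left) ≫ V.hom))),
      IsPullback fst snd f ((yon S).map (Over.homMk (𝔸(ULift.{u} (Fin n); V.left) ↘ V.left)) ≫ p) →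
        IsClosedMap (Points.map snd))
    (V₀ : V.left.Opens) :
    ∀ (n : ℕ) (P : Sp S) (fst : P ⟶ X)
      (snd : P ⟶ (yon S).obj (Over.mk ((𝔸(ULift.{u} (Fin n); (overOpen V V₀).left) ↘
        (overOpen V V₀).left) ≫ (overOpen V V₀).hom))),
      IsPullback fst snd f ((yon S).map (Over.homMk (𝔸(ULift.{u} (Fin n); (overOpen V V₀).left) ↘
        (overOpen V V₀).left)) ≫ (yon S).map (overOpenι V V₀) ≫ p) →
        IsClosedMap (Points.map snd) := by
  intro n P₀ fst₀ snd₀ sq₀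
  obtain ⟨σ, hσ⟩ : ∃ σ : Over.mk ((𝔸(ULift.{u} (Fin n); V.left) ↘ V.left) ≫ V.hom) ⟶ V,
      σ = Over.homMk (𝔸(ULift.{u} (Fin n); V.left) ↘ V.left) := ⟨_, rfl⟩
  obtain ⟨σ₀, hσ₀⟩ : ∃ σ₀ : Over.mk ((𝔸(ULift.{u} (Fin n); (overOpen V V₀).left) ↘
      (overOpen V V₀).left) ≫ (overOpen V V₀).hom) ⟶ overOpen V V₀,
      σ₀ = Over.homMk (𝔸(ULift.{u} (Fin n); (overOpen V V₀).left) ↘ (overOpen V V₀).left) := ⟨_, rfl⟩
  have hμw : AffineSpace.map (ULift.{u} (Fin n)) (overOpenι V V₀).left ≫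
      (𝔸(ULift.{u} (Fin n); V.left) ↘ V.left) ≫ V.hom =
      (𝔸(ULift.{u} (Fin n); (overOpen V V₀).left) ↘ (overOpen V V₀).left) ≫ (overOpen V V₀).hom := by
    rw [AffineSpace.map_over_assoc, Over.w (overOpenι V V₀)]
  obtain ⟨μ, hμ⟩ : ∃ μ : Over.mk ((𝔸(ULift.{u} (Fin n); (overOpen V V₀).left) ↘
      (overOpen V V₀).left) ≫ (overOpen V V₀).hom) ⟶
      Over.mk ((𝔸(ULift.{u} (Fin n); V.left) ↘ V.left) ≫ V.hom),
      μ.left = AffineSpace.map (ULift.{u} (Fin n)) (overOpenι V V₀).left := ⟨Over.homMk _ hμw, rfl⟩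
  have hμσ : μ ≫ σ = σ₀ ≫ overOpenι V V₀ := by
    apply Over.OverMorphism.ext
    rw [Over.comp_left, Over.comp_left, hμ, hσ, hσ₀]
    exact AffineSpace.map_over _
  have sq₀' : IsPullback fst₀ snd₀ f ((yon S).map σ₀ ≫ (yon S).map (overOpenι V V₀) ≫ p) := by
    rw [hσ₀]
    exact sq₀
  have hb : (yon S).map σ₀ ≫ (yon S).map (overOpenι V V₀) ≫ p = (yon S).map μ ≫ (yon S).map σ ≫ p := by
    rw [← Category.assoc, ← Functor.map_comp, ← hμσ, Functor.map_comp, Category.assoc]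
  have sq := IsPullback.of_hasPullback f ((yon S).map σ ≫ p)
  have hcl : IsClosedMap (Points.map (pullback.snd f ((yon S).map σ ≫ p))) := by
    have sq' := sq
    rw [hσ] at sq'
    have := H n _ _ _ sq'
    rw [hσ]
    exact this
  have hjw : fst₀ ≫ f = (snd₀ ≫ (yon S).map μ) ≫ (yon S).map σ ≫ p := by
    rw [sq₀'.w, hb, Category.assoc]
  obtain ⟨j', hj1, hj2⟩ : ∃ j' : P₀ ⟶ pullback f ((yon S).map σ ≫ p),
      j' ≫ pullback.fst f ((yon S).map σ ≫ p) = fst₀ ∧
      j' ≫ pullback.snd f ((yon S).map σ ≫ p) = snd₀ ≫ (yon S).map μ :=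
    ⟨sq.lift _ _ hjw, sq.lift_fst _ _ _, sq.lift_snd _ _ _⟩
  have sqj : IsPullback j' snd₀ (pullback.snd f ((yon S).map σ ≫ p)) ((yon S).map μ) := by
    refine IsPullback.of_right ?_ hj2 sq
    rw [hj1, ← hb]
    exact sq₀'
  have hPalg : IsAlgSpace (pullback f ((yon S).map σ ≫ p)) :=
    isAlgSpace_of_isPullback hX hY.diag (IsAlgSpace.yon_obj _) sq
  have hμo : RepWith @IsOpenImmersion ((yon S).map μ) := by
    refine (repWith_yon_map_iff _ _).2 ?_
    show IsOpenImmersion μ.left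
    rw [hμ]
    have h1 : IsOpenImmersion (overOpenι V V₀).left := by
      show IsOpenImmersion V₀.ι
      infer_instance
    exact MorphismProperty.of_isPullback (P := @IsOpenImmersion)
      (AffineSpace.isPullback_map (overOpenι V V₀).left).flip h1
  exact isClosedMap_of_isPullback_openImmersion hPalg sqj hμo hcl

/-- A quasi-compact morphism whose base changes to the affine spaces over an atlas of the target are closed on points
is universally closed. -/
theorem isUnivClosedMor_of_affineSpace_tests {X Y : Sp S} (hX : IsAlgSpace X) (hY : IsAlgSpace Y) (f : X ⟶ Y)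
    (hqc : IsQuasiCompactMor f) {V : Over S} (p : (yon S).obj V ⟶ Y) (hpe : RepWith @Etale p)
    (hps : RepWith @Surjective p)
    (H : ∀ (n : ℕ) (P : Sp S) (fst : P ⟶ X)
      (snd : P ⟶ (yon S).obj (Over.mk ((𝔸(ULift.{u} (Fin n); V.left) ↘ V.left) ≫ V.hom))),
      IsPullback fst snd f ((yon S).map (Over.homMk (𝔸(ULift.{u} (Fin n); V.left) ↘ V.left)) ≫ p) →
        IsClosedMap (Points.map snd)) :
    IsUnivClosedMor f := by
  refine univSp_of_tests isEtaleLocalOnBase_isClosedMor f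
    (fun T t => IsAffine T.left ∧ ∃ (V₀ : V.left.Opens) (t' : T ⟶ overOpen V V₀), IsAffineOpen V₀ ∧
      t = (yon S).map t' ≫ (yon S).map (overOpenι V V₀) ≫ p) ?_ ?_
  · intro Z hZ g
    obtain ⟨W, ρ, t, h1, h2, h3⟩ := exists_etale_cover_through_chart p hpe hps hZ g
    refine ⟨Σ V₀ : V.left.affineOpens, {O : W.left.affineOpens // O.1 ≤ t.left ⁻¹ᵁ V₀.1},
      fun i => overOpen W i.2.1.1, fun i => (yon S).map (overOpenι W i.2.1.1) ≫ ρ,
      fun i => repWith_etale_restrict ρ h1 _, ?_, ?_⟩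
    · intro z
      obtain ⟨w, rfl⟩ := ofPt_surjective_of_surjective ρ h2 z
      obtain ⟨V₀, hV₀, hw, -⟩ := (TopologicalSpace.Opens.isBasis_iff_nbhd.mp V.left.isBasis_affineOpens)
        (show t.left w ∈ (⊤ : V.left.Opens) from trivial)
      obtain ⟨O, hO, hwO, hOle⟩ := (TopologicalSpace.Opens.isBasis_iff_nbhd.mp W.left.isBasis_affineOpens)
        (show w ∈ t.left ⁻¹ᵁ V₀ from hw)
      refine ⟨⟨⟨V₀, hV₀⟩, ⟨⟨O, hO⟩, hOle⟩⟩, (⟨w, hwO⟩ : ↥O), ?_⟩
      rw [ofPt_restrict]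
      rfl
    · rintro ⟨V₀, O, hle⟩
      have hw₁ : t.left.resLE V₀.1 O.1 hle ≫ (overOpen V V₀.1).hom = (overOpen W O.1).hom := by
        show t.left.resLE V₀.1 O.1 hle ≫ V₀.1.ι ≫ V.hom = O.1.ι ≫ W.hom
        rw [Scheme.Hom.resLE_comp_ι_assoc, Over.w t]
      refine ⟨O.2, V₀.1, Over.homMk (t.left.resLE V₀.1 O.1 hle) hw₁, V₀.2, ?_⟩
      have hw : overOpenι W O.1 ≫ t = Over.homMk (t.left.resLE V₀.1 O.1 hle) hw₁ ≫ overOpenι V V₀.1 := by
        apply Over.OverMorphism.ext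
        exact (Scheme.Hom.resLE_comp_ι _ _).symm
      rw [Category.assoc, h3, ← Category.assoc, ← Functor.map_comp, hw, Functor.map_comp, Category.assoc]
  · rintro T _ ⟨hT, V₀, t', hV₀, rfl⟩ P fst snd sq
    exact isClosedMap_of_affineSpace_tests f hqc (V₀ := overOpen V V₀) hV₀
      ((yon S).map (overOpenι V V₀) ≫ p) (affineSpace_tests_restrict hX hY f p H V₀) hT t' fst snd sq

end Groth.Agent.Lib.Helper16.UnivA
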