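import Groth.Agent.Lib.Helper16.UnivA4

/-!
# Universal closedness via affine spaces: the version with tests over the affine opens of an atlas
-/

set_option autoImplicit false
universe u
open CategoryTheory CategoryTheory.Limits AlgebraicGeometry Opposite Topology TopologicalSpace

namespace Groth.Agent.Lib.Helper16.UnivA

open AlgSp Groth.Agent.Lib.Helper16

variable {S : Scheme.{u}}

/-- A quasi-compact morphism whose base changes to the affine spaces over the affine opens of an atlas of the target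
are closed on points is universally closed. -/
theorem isUnivClosedMor_of_affineSpace_tests' {X Y : Sp S} (f : X ⟶ Y)
    (hqc : IsQuasiCompactMor f) {V : Over S} (p : (yon S).obj V ⟶ Y) (hpe : RepWith @Etale p)
    (hps : RepWith @Surjective p)
    (H : ∀ (V₀ : V.left.Opens), IsAffineOpen V₀ → ∀ (n : ℕ) (P : Sp S) (fst : P ⟶ X)
      (snd : P ⟶ (yon S).obj (Over.mk ((𝔸(ULift.{u} (Fin n); (overOpen V V₀).left) ↘
        (overOpen V V₀).left) ≫ (overOpen V V₀).hom))),
      IsPullback fst snd f ((yon S).map (Over.homMk (𝔸(ULift.{u} (Fin n); (overOpen V V₀).left) ↘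
        (overOpen V V₀).left)) ≫ (yon S).map (overOpenι V V₀) ≫ p) →
        IsClosedMap (Points.map snd)) :
    IsUnivClosedMor f := by
  refine univSp_of_tests isEtaleLocalOnBase_isClosedMor f
    (fun T t => IsAffine T.left ∧ ∃ (V₀ : V.left.Opens) (t' : T ⟶ overOpen V V₀), IsAffineOpen V₀ ∧
      t = (yon S).map t' ≫ (yon S).map (overOpenι V V₀) ≫ p) ?_ ?_
  · intro Z hZ g
    obtain ⟨W, ρ, t, h1, h2, h3⟩ := exists_etale_cover_through_chart p hpe hps hZ g
    refine ⟨Σ V₀ : V.left.affineOpens, {O : W.left.affineOpens // O.1 ≤ t.left ⁻¹ᵁ V₀.1},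
      fun i => overOpen W i.2.1.1, fun i => (yon S).map (overOpenι W i.2.1.1) ≫ ρ,
      fun i => repWith_etale_restrict ρ h1 _, ?_, ?_⟩
    · intro z
      obtain ⟨w, rfl⟩ := ofPt_surjective_of_surjective ρ h2 z
      obtain ⟨V₀, hV₀, hw, -⟩ := (TopologicalSpace.Opens.isBasis_iff_nbhd.mp V.left.isBasis_affineOpens)
        (show t.left w ∈ (⊤ : V.left.Opens) from trivial)
      obtain ⟨O, hO, hwO, hOle⟩ := (TopologicalSpace.Opens.isBasis_iff_nbhd.mp W.left.isBasis_affineOpens)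
        (show w ∈ t.left ⁻¹ᵁ V₀ from hw)
      refine ⟨⟨⟨V₀, hV₀⟩, ⟨⟨O, hO⟩, hOle⟩⟩, (⟨w, hwO⟩ : ↥O), ?_⟩
      rw [ofPt_restrict]
      rfl
    · rintro ⟨V₀, O, hle⟩
      have hw₁ : t.left.resLE V₀.1 O.1 hle ≫ (overOpen V V₀.1).hom = (overOpen W O.1).hom := by
        show t.left.resLE V₀.1 O.1 hle ≫ V₀.1.ι ≫ V.hom = O.1.ι ≫ W.hom
        rw [Scheme.Hom.resLE_comp_ι_assoc, Over.w t]
      refine ⟨O.2, V₀.1, Over.homMk (t.left.resLE V₀.1 O.1 hle) hw₁, V₀.2, ?_⟩
      have hw : overOpenι W O.1 ≫ t = Over.homMk (t.left.resLE V₀.1 O.1 hle) hw₁ ≫ overOpenι V V₀.1 := by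
        apply Over.OverMorphism.ext
        exact (Scheme.Hom.resLE_comp_ι _ _).symm
      rw [Category.assoc, h3, ← Category.assoc, ← Functor.map_comp, hw, Functor.map_comp, Category.assoc]
  · rintro T _ ⟨hT, V₀, t', hV₀, rfl⟩ P fst snd sq
    exact isClosedMap_of_affineSpace_tests f hqc (V₀ := overOpen V V₀) hV₀
      ((yon S).map (overOpenι V V₀) ≫ p) (H V₀ hV₀) hT t' fst snd sq

end Groth.Agent.Lib.Helper16.UnivA
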