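import Groth.Agent.Lib.Helper16.FibrePt
import Groth.Agent.Lib.Helper16.UnivInj2
import Groth.Agent.Lib.Helper16.GaloisQuot
import Groth.Agent.Lib.Helper16.DiagLfp
import Groth.Agent.Lib.Helper16.Decent
import Groth.Agent.Lib.Helper8.EtLocPI
import Groth.Agent.Lib.Helper11.EtaleNbhd

/-!
# Helper library (helper16): universal injectivity from injectivity after etale base change
-/

set_option autoImplicit false
universe u
open CategoryTheory CategoryTheory.Limits AlgebraicGeometry Opposite Topology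

namespace Groth.Agent.Lib.Helper16.UnivInjEt

open AlgSp Groth.Agent.Lib.Helper16 Groth.Agent.Lib.Helper16.QfAt Groth.Agent.Lib.Helper16.FibrePt

/-- The separable closure in a finite extension: a finite separable subextension over which the extension is
purely inseparable (so ring homomorphisms to fields are determined by their restriction). -/
theorem exists_sep_sub (k E : Type u) [Field k] [Field E] [Algebra k E] [FiniteDimensional k E] :
    ∃ (k' : Type u) (_ : Field k') (_ : Algebra k k') (_ : FiniteDimensional k k')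
      (_ : Algebra.IsSeparable k k') (ι : k' →+* E), ι.comp (algebraMap k k') = algebraMap k E ∧
      ∀ (Ω : Type u) [Field Ω] (f₁ f₂ : E →+* Ω), f₁.comp ι = f₂.comp ι → f₁ = f₂ := by
  haveI : Algebra.IsAlgebraic k E := Algebra.IsAlgebraic.of_finite k E
  refine ⟨↥(separableClosure k E), inferInstance, inferInstance, ?_, inferInstance,
    algebraMap ↥(separableClosure k E) E, ?_, ?_⟩
  · exact IntermediateField.finiteDimensional_left _
  · exact (IsScalarTower.algebraMap_eq k ↥(separableClosure k E) E).symm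
  · intro Ω _ f₁ f₂ hf
    exact IsPurelyInseparable.injective_comp_algebraMap (F := ↥(separableClosure k E)) (E := E) (L := Ω) hf

theorem specMap_ofHom_comp {A B C : Type u} [CommRing A] [CommRing B] [CommRing C] (g : A →+* B) (f : B →+* C) :
    Spec.map (CommRingCat.ofHom f) ≫ Spec.map (CommRingCat.ofHom g) =
      Spec.map (CommRingCat.ofHom (f.comp g)) := by
  rw [← Spec.map_comp, ← CommRingCat.ofHom_comp]

/-- A field-valued point factors through the residue field of its image, as a ring homomorphism. -/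
theorem exists_ringHom_factor {U₀ : Scheme.{u}} {K : Type u} [Field K] (a : Spec (CommRingCat.of K) ⟶ U₀)
    (u : U₀) (hu : a (IsLocalRing.closedPoint K) = u) :
    ∃ φ : (U₀.residueField u) →+* K,
      Spec.map (CommRingCat.ofHom φ) ≫ U₀.fromSpecResidueField u = a := by
  obtain ⟨w, hw⟩ := GaloisQuot.exists_factor_fromSpecResidueField a u hu
  refine ⟨(Spec.preimage w).hom, ?_⟩
  rw [CommRingCat.ofHom_hom, Spec.map_preimage]
  exact hw

/-- Scheme-level key lemma: at a point where `h` is quasi-finite, a field-valued point `a` of the source is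
determined, after any further field extension, by a suitable lift of `a ≫ h` to an etale neighbourhood of the image
point (realizing the separable closure of the residue field extension). -/
theorem exists_etale_kpoint {U₀ V₀ : Scheme.{u}} (h : U₀ ⟶ V₀) {K : Type u} [Field K]
    (a : Spec (CommRingCat.of K) ⟶ U₀) (hq : h.QuasiFiniteAt (a (IsLocalRing.closedPoint K))) :
    ∃ (V : Scheme.{u}) (g : V ⟶ V₀) (_ : Etale g) (v₁ : Spec (CommRingCat.of K) ⟶ V),
      v₁ ≫ g = a ≫ h ∧
      ∀ (Ω : Type u) [Field Ω] (e₁ e₂ : Spec (CommRingCat.of Ω) ⟶ Spec (CommRingCat.of K)),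
        e₁ ≫ v₁ = e₂ ≫ v₁ → e₁ ≫ a = e₂ ≫ a := by
  obtain ⟨u, hu⟩ : ∃ u, a (IsLocalRing.closedPoint K) = u := ⟨_, rfl⟩
  rw [hu] at hq
  obtain ⟨φ, hφ⟩ := exists_ringHom_factor a u hu
  letI alg : Algebra (V₀.residueField (h u)) (U₀.residueField u) := (h.residueFieldMap u).hom.toAlgebra
  have hfin : Module.Finite (V₀.residueField (h u)) (U₀.residueField u) :=
    Groth.Agent.Lib.Helper8.EtLocPI.finite_residueFieldMap_of_quasiFiniteAt h u hq
  haveI : FiniteDimensional (V₀.residueField (h u)) (U₀.residueField u) := hfin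
  obtain ⟨k', fk', algk', hfd, hsep, ι, hι, hpi⟩ :=
    exists_sep_sub (V₀.residueField (h u)) (U₀.residueField u)
  obtain ⟨V, g, v, hg, θ, hθ, hcomm⟩ := Groth.Agent.Lib.Helper11.EtaleNbhd.exists_etale_nbhd (h u) k'
  have hR : CommRingCat.ofHom ((φ.comp ι).comp (algebraMap (V₀.residueField (h u)) k')) =
      h.residueFieldMap u ≫ CommRingCat.ofHom φ := by
    ext z
    exact congrArg φ (RingHom.congr_fun hι z)
  refine ⟨V, g, hg, Spec.map (CommRingCat.ofHom ((φ.comp ι).comp θ)) ≫ V.fromSpecResidueField v, ?_, ?_⟩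
  · calc (Spec.map (CommRingCat.ofHom ((φ.comp ι).comp θ)) ≫ V.fromSpecResidueField v) ≫ g
        = (Spec.map (CommRingCat.ofHom (φ.comp ι)) ≫ Spec.map (CommRingCat.ofHom θ)) ≫
            V.fromSpecResidueField v ≫ g := by
          rw [specMap_ofHom_comp, Category.assoc]
      _ = Spec.map (CommRingCat.ofHom (φ.comp ι)) ≫
            Spec.map (CommRingCat.ofHom (algebraMap (V₀.residueField (h u)) k')) ≫
              V₀.fromSpecResidueField (h u) := by
          rw [Category.assoc, hcomm]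
      _ = Spec.map (h.residueFieldMap u ≫ CommRingCat.ofHom φ) ≫ V₀.fromSpecResidueField (h u) := by
          rw [← Category.assoc, specMap_ofHom_comp, hR]
      _ = a ≫ h := by
          rw [Spec.map_comp, Category.assoc, Scheme.Hom.SpecMap_residueFieldMap_fromSpecResidueField,
            ← Category.assoc]
          exact congrArg (· ≫ h) hφ
  · intro Ω _ e₁ e₂ he
    obtain ⟨ε₁, rfl⟩ : ∃ ε : K →+* Ω, Spec.map (CommRingCat.ofHom ε) = e₁ :=
      ⟨(Spec.preimage e₁).hom, by rw [CommRingCat.ofHom_hom, Spec.map_preimage]⟩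
    obtain ⟨ε₂, rfl⟩ : ∃ ε : K →+* Ω, Spec.map (CommRingCat.ofHom ε) = e₂ :=
      ⟨(Spec.preimage e₂).hom, by rw [CommRingCat.ofHom_hom, Spec.map_preimage]⟩
    rw [← Category.assoc, ← Category.assoc, specMap_ofHom_comp, specMap_ofHom_comp] at he
    have he' := (cancel_mono (V.fromSpecResidueField v)).1 he
    have he'' : ε₁.comp ((φ.comp ι).comp θ) = ε₂.comp ((φ.comp ι).comp θ) :=
      congrArg CommRingCat.Hom.hom (Spec.map_injective he')
    have h3 : (ε₁.comp φ).comp ι = (ε₂.comp φ).comp ι := by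
      ext z
      obtain ⟨z', rfl⟩ := hθ.2 z
      exact RingHom.congr_fun he'' z'
    have h4 : ε₁.comp φ = ε₂.comp φ := hpi Ω _ _ h3
    rw [← hφ, ← Category.assoc, ← Category.assoc, specMap_ofHom_comp, specMap_ofHom_comp, h4]

variable {S : Scheme.{u}}

/-- Core step: for a morphism locally of finite type from an algebraic space to a scheme which is injective on points
after every etale base change, a field-valued point lying in a chart is determined by its image. -/
theorem eq_of_comp_eq_of_chart {X : Sp S} (hX : IsAlgSpace X) {V₀ : Over S}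
    (f : X ⟶ (yon S).obj V₀) (hf : LocP @LocallyOfFiniteType f)
    (hinj : ∀ (V : Over S) (g : V ⟶ V₀), Etale g.left → ∀ (P : Sp S) (fst : P ⟶ X)
      (snd : P ⟶ (yon S).obj V), IsPullback fst snd f ((yon S).map g) →
        Function.Injective (Points.map snd))
    {U₀ : Over S} (p : (yon S).obj U₀ ⟶ X) (hpe : RepWith @Etale p)
    {K : Type u} [Field K] (str : Spec (CommRingCat.of K) ⟶ S) (a'' : Over.mk str ⟶ U₀)
    (b : (yon S).obj (Over.mk str) ⟶ X) (hab : ((yon S).map a'' ≫ p) ≫ f = b ≫ f) :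
    (yon S).map a'' ≫ p = b := by
  obtain ⟨h, hh⟩ := (yon S).map_surjective (p ≫ f)
  obtain ⟨u, hu⟩ : ∃ u, a''.left (IsLocalRing.closedPoint K) = u := ⟨_, rfl⟩
  -- Claim A: `h` is quasi-finite at `u`
  have hqA : h.left.QuasiFiniteAt u := by
    obtain ⟨x, hx⟩ : ∃ x, x = Points.mk (fieldPtOfHom K str ((yon S).map a'' ≫ p)) := ⟨_, rfl⟩
    obtain ⟨y, hy⟩ : ∃ y, Points.map f x = y := ⟨_, rfl⟩
    have hfinj : Function.Injective (Points.map f) := by
      refine hinj V₀ (𝟙 V₀) (by show Etale (𝟙 V₀.left); infer_instance) X (𝟙 X) f ?_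
      rw [CategoryTheory.Functor.map_id]
      exact IsPullback.id_horiz f
    obtain ⟨Xk₀, hXk₀, r₀, fst₀, snd₀, sq₀, hr₀, φ, hφ⟩ :=
      exists_fibre_homeomorph hX (IsAlgSpace.yon_obj V₀) f (isDecent_yon V₀) y
    obtain ⟨xt, hxt⟩ : ∃ xt, φ xt = ⟨x, hy⟩ := ⟨φ.symm ⟨x, hy⟩, φ.apply_symm_apply _⟩
    have hxt' : Points.map fst₀ xt = x := by
      rw [← hφ xt, hxt]
    have hsub : ∀ t : Points Xk₀, t = xt := by
      intro t
      apply φ.injective
      apply Subtype.ext
      apply hfinj
      have h1 : Points.map f (φ t).1 = y := (φ t).2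
      have h2 : Points.map f (φ xt).1 = y := (φ xt).2
      rw [h1, h2]
    have hopen : IsOpen ({xt} : Set (Points Xk₀)) := by
      have : ({xt} : Set (Points Xk₀)) = Set.univ :=
        Set.eq_univ_of_forall fun t => Set.mem_singleton_iff.2 (hsub t)
      rw [this]
      exact isOpen_univ
    have hmem : Points.map fst₀ xt ∈ qfLocus f :=
      (isOpen_singleton_iff_mem_qfLocus hX (IsAlgSpace.yon_obj V₀) f hf r₀ fst₀ snd₀ sq₀ hXk₀ xt).1 hopen
    rw [hxt'] at hmem
    have hxu : x = Points.ofPt p u := by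
      have h1 : Points.ofPt (T := Over.mk str) ((yon S).map a'' ≫ p) (IsLocalRing.closedPoint K) =
          Points.mk (fieldPtOfHom K str ((yon S).map a'' ≫ p)) := by
        have h0 := Points.ofPt_toHom (fieldPtOfHom K str ((yon S).map a'' ≫ p)) (IsLocalRing.closedPoint K)
        rw [fieldPtOfHom_toHom] at h0
        exact h0
      rw [ofPt_yon_map_comp] at h1
      rw [hx, ← h1, hu]
    have hc : p ≫ f = (yon S).map h ≫ 𝟙 _ := by rw [Category.comp_id, hh]
    rw [hxu] at hmem
    exact (mem_qfLocus_iff f hf p (𝟙 _) h hpe (repWith_id _ _) hc u).1 hmem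
  rw [← hu] at hqA
  obtain ⟨V, g, hg, v₁, hv₁, huniq⟩ := exists_etale_kpoint h.left a''.left hqA
  obtain ⟨Vo, go, hgo⟩ : ∃ (Vo : Over S) (go : Vo ⟶ V₀), Vo.left = V ∧ HEq go.left g :=
    ⟨Over.mk (g ≫ V₀.hom), Over.homMk g rfl, rfl, HEq.rfl⟩
  obtain ⟨rfl, hgo⟩ := hgo
  obtain rfl := eq_of_heq hgo
  have hstr : v₁ ≫ Vo.hom = str := by
    rw [← Over.w go, ← Category.assoc, hv₁, Category.assoc, Over.w h]
    exact Over.w a''
  obtain ⟨v₁o, hv₁o⟩ : ∃ v₁o : Over.mk str ⟶ Vo, v₁o.left = v₁ := ⟨Over.homMk v₁ hstr, rfl⟩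
  have hv₁go : v₁o ≫ go = a'' ≫ h := by
    apply Over.OverMorphism.ext
    rw [Over.comp_left, Over.comp_left, hv₁o]
    exact hv₁
  have sqP := IsPullback.of_hasPullback f ((yon S).map go)
  have hI := hinj Vo go hg _ _ _ sqP
  have e₁ : ((yon S).map a'' ≫ p) ≫ f = (yon S).map v₁o ≫ (yon S).map go := by
    rw [Category.assoc, ← hh, ← Functor.map_comp, ← Functor.map_comp, hv₁go]
  have e₂ : b ≫ f = (yon S).map v₁o ≫ (yon S).map go := hab.symm.trans e₁
  have hx : Points.mk (fieldPtOfHom K str (pullback.lift _ _ e₁)) =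
      Points.mk (fieldPtOfHom K str (pullback.lift _ _ e₂)) := by
    apply hI
    rw [Points.map_mk, Points.map_mk, fieldPtOfHom_map, fieldPtOfHom_map, pullback.lift_snd, pullback.lift_snd]
  rw [Points.mk_eq_mk_iff, rel_iff_toHom] at hx
  obtain ⟨Ω, _, w, α, β, hαβ⟩ := hx
  rw [fieldPtOfHom_toHom, fieldPtOfHom_toHom] at hαβ
  change Over.mk w ⟶ Over.mk str at α β
  have hαβ' : (yon S).map α ≫ pullback.lift _ _ e₁ = (yon S).map β ≫ pullback.lift _ _ e₂ := hαβ
  have h1 : (yon S).map α ≫ (yon S).map v₁o = (yon S).map β ≫ (yon S).map v₁o := by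
    have := congrArg (· ≫ pullback.snd f ((yon S).map go)) hαβ'
    simpa only [Category.assoc, pullback.lift_snd] using this
  have h2 : (yon S).map α ≫ ((yon S).map a'' ≫ p) = (yon S).map β ≫ b := by
    have := congrArg (· ≫ pullback.fst f ((yon S).map go)) hαβ'
    simpa only [Category.assoc, pullback.lift_fst] using this
  have h1' : α ≫ v₁o = β ≫ v₁o := by
    apply (yon S).map_injective
    rw [Functor.map_comp, Functor.map_comp]
    exact h1
  have h1'' : α.left ≫ v₁ = β.left ≫ v₁ := by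
    have : (α ≫ v₁o).left = (β ≫ v₁o).left := congrArg CommaMorphism.left h1'
    rw [Over.comp_left, Over.comp_left, hv₁o] at this
    exact this
  have h3 : α.left ≫ a''.left = β.left ≫ a''.left := huniq Ω α.left β.left h1''
  have h3' : α ≫ a'' = β ≫ a'' := Over.OverMorphism.ext h3
  have h4 : (yon S).map β ≫ ((yon S).map a'' ≫ p) = (yon S).map β ≫ b := by
    rw [← h2, ← Category.assoc, ← Category.assoc, ← Functor.map_comp, ← Functor.map_comp, h3']
  haveI : Nonempty ↥(Over.mk w).left := inferInstanceAs (Nonempty ↥(Spec (CommRingCat.of Ω)))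
  exact eq_of_yon_map_comp_eq hX.diag β _ _ h4

/-- A morphism locally of finite type from an algebraic space to a scheme which is injective on points after every
etale base change is injective on field-valued points. -/
theorem injOnFieldPoints_of_yon {X : Sp S} (hX : IsAlgSpace X) {V₀ : Over S}
    (f : X ⟶ (yon S).obj V₀) (hf : LocP @LocallyOfFiniteType f)
    (hinj : ∀ (V : Over S) (g : V ⟶ V₀), Etale g.left → ∀ (P : Sp S) (fst : P ⟶ X)
      (snd : P ⟶ (yon S).obj V), IsPullback fst snd f ((yon S).map g) →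
        Function.Injective (Points.map snd)) :
    InjOnFieldPoints f := by
  intro K _ str a b hab
  change a ≫ f = b ≫ f at hab
  obtain ⟨U₀, p, hpe, hps⟩ := hX.atlas
  obtain ⟨W, ρ, l₀, sqW⟩ := hpe.rep a
  obtain ⟨l, rfl⟩ := (yon S).map_surjective l₀
  have hρs : Surjective ρ.left := hps.property _ _ _ sqW
  obtain ⟨w, -⟩ := hρs.surj (IsLocalRing.closedPoint K)
  obtain ⟨K', _, ι₀, -⟩ : ∃ (K' : Type u) (_ : Field K') (_ : Spec (CommRingCat.of K') ⟶ W.left), True :=
    ⟨W.left.residueField w, inferInstance, W.left.fromSpecResidueField w, trivial⟩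
  obtain ⟨ιW, -⟩ : ∃ ιW : Over.mk (ι₀ ≫ W.hom) ⟶ W, ιW.left = ι₀ := ⟨Over.homMk ι₀ rfl, rfl⟩
  obtain ⟨ι, hι⟩ : ∃ ι : Over.mk (ι₀ ≫ W.hom) ⟶ Over.mk str, ι = ιW ≫ ρ := ⟨_, rfl⟩
  have key : (yon S).map ι ≫ a = (yon S).map (ιW ≫ l) ≫ p := by
    rw [hι, Functor.map_comp, Functor.map_comp, Category.assoc, Category.assoc, sqW.w]
  have hab' : ((yon S).map (ιW ≫ l) ≫ p) ≫ f = ((yon S).map ι ≫ b) ≫ f := by
    rw [← key, Category.assoc, Category.assoc, hab]
  have hfin := eq_of_comp_eq_of_chart hX f hf hinj p hpe (ι₀ ≫ W.hom) (ιW ≫ l) ((yon S).map ι ≫ b) hab'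
  rw [← key] at hfin
  haveI : Nonempty ↥(Over.mk (ι₀ ≫ W.hom)).left := inferInstanceAs (Nonempty ↥(Spec (CommRingCat.of K')))
  exact eq_of_yon_map_comp_eq hX.diag ι a b hfin

end Groth.Agent.Lib.Helper16.UnivInjEt
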