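import Groth.Agent.Lib.Helper16.VKType
import Mathlib.CategoryTheory.Sites.LeftExact
import Mathlib.CategoryTheory.Limits.FunctorCategory.Basic

/-!
# Helper library (helper16): arbitrary coproducts of sheaves of types are van Kampen colimits
-/

set_option autoImplicit false
universe w v₁ u₁ u'
open CategoryTheory CategoryTheory.Limits

namespace Groth.Agent.Lib.Helper16.VK

/-- A colimit cocone over a discrete diagram of types is a van Kampen colimit. -/
theorem isVanKampenColimit_discrete_type {ι : Type u'} (G : Discrete ι ⥤ Type w) (c : Cocone G)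
    (hc : IsColimit c) : IsVanKampenColimit c := by
  let g : ι → Type w := G.obj ∘ Discrete.mk
  have hG : G = Discrete.functor g :=
    Functor.hext (fun i ↦ rfl) (by rintro ⟨i⟩ ⟨j⟩ ⟨⟨rfl : i = j⟩⟩; simp [g])
  clear_value g
  subst hG
  exact isVanKampenColimit_cofan_type c hc

variable {C : Type u₁} [Category.{v₁} C]

/-- A colimit cocone over a discrete diagram of presheaves of types is a van Kampen colimit. -/
theorem isVanKampenColimit_discrete_presheaf {ι : Type u'} [HasColimitsOfShape (Discrete ι) (Type w)]
    (G : Discrete ι ⥤ Cᵒᵖ ⥤ Type w) (c : Cocone G) (hc : IsColimit c) : IsVanKampenColimit c :=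
  isVanKampenColimit_of_evaluation _ c fun x =>
    isVanKampenColimit_discrete_type _ _ (isColimitOfPreserves ((evaluation Cᵒᵖ (Type w)).obj x) hc)

/-- **A colimit cofan of sheaves of types is a van Kampen colimit.** -/
theorem isVanKampenColimit_cofan_sheaf (J : GrothendieckTopology C) [HasSheafify J (Type w)] {ι : Type u'}
    [HasColimitsOfShape (Discrete ι) (Type w)] {F : ι → Sheaf J (Type w)} (c : Cofan F) (hc : IsColimit c) :
    IsVanKampenColimit c := by
  let adj := sheafificationAdjunction J (Type w)
  have : PreservesColimitsOfSize.{u', u'} (presheafToSheaf J (Type w)) := adj.leftAdjoint_preservesColimits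
  apply (IsVanKampenColimit.precompose_isIso_iff
    (Functor.isoWhiskerLeft _ (asIso adj.counit) ≪≫ Functor.rightUnitor _).hom).mp
  have H : IsVanKampenColimit (colimit.cocone (Discrete.functor F ⋙ sheafToPresheaf J (Type w))) :=
    isVanKampenColimit_discrete_presheaf _ _ (colimit.isColimit _)
  refine (H.map_reflective adj).of_iso (IsColimit.uniqueUpToIso ?_ ?_)
  · exact isColimitOfPreserves (presheafToSheaf J (Type w)) (colimit.isColimit _)
  · exact (IsColimit.precomposeHomEquiv _ _).symm hc

end Groth.Agent.Lib.Helper16.VK
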