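import Mathlib.CategoryTheory.Limits.VanKampen
import Mathlib.CategoryTheory.Limits.Types.Coproducts
import Mathlib.CategoryTheory.Limits.Types.Pullbacks

/-!
# Helper library (helper16): arbitrary coproducts of types are van Kampen colimits
-/

set_option autoImplicit false
universe v u'
open CategoryTheory CategoryTheory.Limits

namespace Groth.Agent.Lib.Helper16.VK

/-- A colimit cofan of types is a van Kampen colimit. -/
theorem isVanKampenColimit_cofan_type {ι : Type u'} {F : ι → Type v} (c : Cofan F) (hc : IsColimit c) :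
    IsVanKampenColimit c := by
  intro F' c' α f e hα
  let f' : ι → Type v := F'.obj ∘ Discrete.mk
  have hF' : F' = Discrete.functor f' :=
    Functor.hext (fun i ↦ rfl) (by rintro ⟨i⟩ ⟨j⟩ ⟨⟨rfl : i = j⟩⟩; simp [f'])
  clear_value f'
  subst hF'
  have hcomm : ∀ (j : ι) (x : f' j), c.inj j (α.app ⟨j⟩ x) = f (Cofan.inj c' j x) := by
    intro j x
    exact ConcreteCategory.congr_hom (NatTrans.congr_app e ⟨j⟩) x
  constructor
  · rintro ⟨hc'⟩ ⟨j⟩
    rw [Types.isPullback_iff]
    refine ⟨(NatTrans.congr_app e ⟨j⟩).symm, ?_, ?_⟩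
    · rintro x y ⟨h1, -⟩
      exact Cofan.inj_injective_of_isColimit hc' j h1
    · intro z x hzx
      obtain ⟨k, y, rfl⟩ := Cofan.inj_jointly_surjective_of_isColimit hc' z
      have h2 : c.inj k (α.app ⟨k⟩ y) = c.inj j x := (hcomm k y).trans hzx
      obtain ⟨rfl, h3⟩ := (Cofan.inj_apply_eq_iff_of_isColimit hc _ _).1 h2
      exact ⟨y, rfl, h3.symm⟩
  · intro H
    rw [Cofan.nonempty_isColimit_iff_bijective_fromSigma]
    constructor
    · rintro ⟨j, x⟩ ⟨k, y⟩ hxy
      have hxy' : Cofan.inj c' j x = Cofan.inj c' k y := hxy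
      have h2 : c.inj j (α.app ⟨j⟩ x) = c.inj k (α.app ⟨k⟩ y) := by
        rw [hcomm, hcomm, hxy']
      obtain ⟨rfl, h3⟩ := (Cofan.inj_apply_eq_iff_of_isColimit hc _ _).1 h2
      have := Types.ext_of_isPullback (H ⟨j⟩) hxy' h3.symm
      rw [this]
    · intro z
      obtain ⟨j, x, hx⟩ := Cofan.inj_jointly_surjective_of_isColimit hc (f z)
      obtain ⟨x', hx', -⟩ := Types.exists_of_isPullback (H ⟨j⟩) z x hx.symm
      exact ⟨⟨j, x'⟩, hx'⟩

end Groth.Agent.Lib.Helper16.VK
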