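import Groth.Agent.Lib.Helper16.Univ
import Groth.Agent.Lib.Helper16.Charts
import Groth.Agent.Lib.Helper16.QsDecent
import Groth.Agent.Lib.Helper16.SchImgVal
import Groth.Agent.Lib.Helper16.FlatMonoSch
import Groth.Agent.Lib.Helper16.QuasiCompactMor
import Groth.Prelude.Def_AlgSpMor5

/-!
# Helper library (helper16): valuative criteria for algebraic spaces, part 1

* `existVC_of_isPullback`: the existence part of the valuative criterion is stable under base change;
* `isClosedMap_of_existVC`: a morphism from a quasi-compact sheaf to an affine scheme satisfying the existence part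
  of the valuative criterion is closed on points.
-/

set_option autoImplicit false
universe u
open CategoryTheory CategoryTheory.Limits AlgebraicGeometry Opposite Topology TopologicalSpace IsLocalRing

namespace Groth.Agent.Lib.Helper16.ValCrit

open AlgSp

variable {S : Scheme.{u}}

/-- The square of spectra attached to a dominating extension commutes. -/
theorem domExt_comm {F G : Sp S} {f : F ⟶ G} {sq : ValSq f} (e : sq.DomExt)
    (h : Spec.map (CommRingCat.ofHom e.ψ) ≫ sq.ptK.hom = e.ptK'.hom) :
    (Over.homMk (Spec.map (CommRingCat.ofHom (algebraMap e.A' e.K'))) rfl : e.ptK' ⟶ e.ptA') ≫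
      (Over.homMk (Spec.map (CommRingCat.ofHom e.φ)) rfl : e.ptA' ⟶ sq.ptA) =
    (Over.homMk (Spec.map (CommRingCat.ofHom e.ψ)) h : e.ptK' ⟶ sq.ptK) ≫ sq.j := by
  apply Over.OverMorphism.ext
  simp only [Over.comp_left, Over.homMk_left]
  rw [← Spec.map_comp, ← Spec.map_comp, ← CommRingCat.ofHom_comp, ← CommRingCat.ofHom_comp, e.comm]

/-- Push a valuative square for `snd` forward to a valuative square for `f` along a commutative square. -/
noncomputable def pushSq {F G F' G' : Sp S} {f : F ⟶ G} {g : G' ⟶ G} {fst : F' ⟶ F} {snd : F' ⟶ G'}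
    (w : fst ≫ f = snd ≫ g) (sq' : ValSq snd) : ValSq f where
  A := sq'.A
  K := sq'.K
  str := sq'.str
  top := sq'.top ≫ fst
  bot := sq'.bot ≫ g
  comm := by rw [Category.assoc, w, ← Category.assoc, sq'.comm, Category.assoc]

/-- The existence part of the valuative criterion is stable under base change. -/
theorem existVC_of_isPullback {F G F' G' : Sp S} {f : F ⟶ G} {g : G' ⟶ G} {fst : F' ⟶ F} {snd : F' ⟶ G'}
    (sq : IsPullback fst snd f g) (he : ExistVC f) : ExistVC snd := by
  intro sq'
  obtain ⟨e, l, hl1, hl2⟩ := he (pushSq sq.w sq')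
  let e' : sq'.DomExt :=
    { A' := e.A'
      K' := e.K'
      φ := e.φ
      ψ := e.ψ
      comm := e.comm
      isLocalHom := e.isLocalHom }
  refine ⟨e', ?_⟩
  have hw : l ≫ f = ((yon S).map (Over.homMk (Spec.map (CommRingCat.ofHom e'.φ)) rfl : e'.ptA' ⟶ sq'.ptA) ≫
      sq'.bot) ≫ g := hl2.trans (Category.assoc _ _ _).symm
  refine ⟨sq.lift l _ hw, ?_, sq.lift_snd _ _ _⟩
  apply sq.hom_ext
  · rw [Category.assoc, sq.lift_fst, Category.assoc]
    exact hl1
  · rw [Category.assoc, sq.lift_snd, Category.assoc, sq'.comm, ← Category.assoc, ← Category.assoc,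
      ← Functor.map_comp, ← Functor.map_comp]
    congr 2
    exact domExt_comm e' _

/-- The valuative square attached to a valuation ring of the residue field of a point of a chart. -/
noncomputable def mkSq {P : Sp S} {T W : Over S} (snd : P ⟶ (yon S).obj T) (w : (yon S).obj W ⟶ P)
    (h : W ⟶ T) (hh : (yon S).map h = w ≫ snd) (c : ↥W.left) (A : ValuationSubring (W.left.residueField c))
    (a : Spec (CommRingCat.of A) ⟶ T.left)
    (ha : Spec.map (CommRingCat.ofHom A.subtype) ≫ a = W.left.fromSpecResidueField c ≫ h.left) :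
    ValSq snd where
  A := ↥A
  K := W.left.residueField c
  str := a ≫ T.hom
  top := (yon S).map (Over.homMk (W.left.fromSpecResidueField c) (by
      rw [← Over.w h, ← Category.assoc, ← Category.assoc]
      exact congrArg (· ≫ T.hom) ha.symm) :
    Over.mk (Spec.map (CommRingCat.ofHom (algebraMap A (W.left.residueField c))) ≫ a ≫ T.hom) ⟶ W) ≫ w
  bot := (yon S).map (Over.homMk a rfl : Over.mk (a ≫ T.hom) ⟶ T)
  comm := by
    rw [Category.assoc, ← hh, ← Functor.map_comp, ← Functor.map_comp]
    congr 1
    apply Over.OverMorphism.ext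
    simp only [Over.comp_left, Over.homMk_left]
    exact ha.symm

/-- A morphism from a quasi-compact sheaf to an affine scheme which satisfies the existence part of the valuative
criterion is closed on points. -/
theorem isClosedMap_of_existVC {P : Sp S} (hPq : IsQuasiCompactSp P) {T : Over S} [IsAffine T.left]
    (snd : P ⟶ (yon S).obj T) (he : ExistVC snd) : IsClosedMap (Points.map snd) := by
  obtain ⟨W, w, hwe, hws, hWc⟩ := hPq
  haveI : CompactSpace ↥W.left := hWc
  obtain ⟨h, hh⟩ := (yon S).map_surjective (w ≫ snd)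
  haveI : QuasiCompact h.left := (quasiCompact_iff_compactSpace h.left).2 inferInstance
  have hsurj := ofPt_surjective_of_surjective w hws
  intro C hC
  have hCWc : IsClosed (Points.ofPt w ⁻¹' C) := hC.preimage (Points.continuous_ofPt w)
  have himg : Points.map snd '' C = Points.schemeHomeo T '' (h.left '' (Points.ofPt w ⁻¹' C)) := by
    ext y
    constructor
    · rintro ⟨c, hc, rfl⟩
      obtain ⟨c', rfl⟩ := hsurj c
      refine ⟨h.left c', ⟨c', hc, rfl⟩, ?_⟩
      rw [Points.map_ofPt, ← hh, ofPt_yon_map_eq_id]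
      rfl
    · rintro ⟨_, ⟨c', hc', rfl⟩, rfl⟩
      refine ⟨Points.ofPt w c', hc', ?_⟩
      rw [Points.map_ofPt, ← hh, ofPt_yon_map_eq_id]
      rfl
  refine isClosed_of_closure_subset fun y hy => ?_
  obtain ⟨t, rfl⟩ := (Points.schemeHomeo T).surjective y
  have ht : t ∈ closure (h.left '' (Points.ofPt w ⁻¹' C)) := by
    rw [himg, ← (Points.schemeHomeo T).image_closure] at hy
    obtain ⟨t', ht', htt⟩ := hy
    rwa [← (Points.schemeHomeo T).injective htt]
  obtain ⟨c, hc, hsp⟩ := FlatMonoSch.exists_specializes_of_mem_closure_image h.left _ hCWc t ht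
  obtain ⟨A, a, ha1, ha2⟩ := SchImgKer.exists_valuationSubring_of_specializes h.left c t hsp
  obtain ⟨e, l, hl1, hl2⟩ := he (mkSq snd w h hh c A a ha2)
  haveI : IsLocalHom e.φ := e.isLocalHom
  refine ⟨Points.ofPt (T := e.ptA') l (closedPoint e.A'), ?_, ?_⟩
  · -- the generic point of `Spec A'` maps to the point `c`, which lies in the closed set
    have hsp' : Points.ofPt (T := e.ptA') l
        (Spec.map (CommRingCat.ofHom (algebraMap e.A' e.K')) (closedPoint e.K')) ⤳
        Points.ofPt (T := e.ptA') l (closedPoint e.A') :=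
      (specializes_closedPoint _).map (Points.continuous_ofPt l)
    refine hsp'.mem_closed hC ?_
    have h1 := ofPt_yon_map_comp (Over.homMk (Spec.map (CommRingCat.ofHom (algebraMap e.A' e.K'))) rfl :
      e.ptK' ⟶ e.ptA') l (closedPoint e.K')
    rw [hl1, ofPt_yon_map_comp] at h1
    change _ = Points.ofPt (T := e.ptA') l
        (Spec.map (CommRingCat.ofHom (algebraMap e.A' e.K')) (closedPoint e.K')) at h1
    rw [← h1]
    change Points.ofPt ((yon S).map _ ≫ w) _ ∈ C
    rw [ofPt_yon_map_comp]
    change Points.ofPt w (W.left.fromSpecResidueField c _) ∈ C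
    rw [Scheme.fromSpecResidueField_apply]
    exact hc
  · rw [Points.map_ofPt, hl2]
    change Points.ofPt ((yon S).map _ ≫ (yon S).map (Over.homMk a rfl : Over.mk (a ≫ T.hom) ⟶ T)) _ = _
    rw [ofPt_yon_map_comp, ofPt_yon_map_eq_id]
    change Points.ofScheme T (a (Spec.map (CommRingCat.ofHom e.φ) (closedPoint e.A'))) = Points.ofScheme T t
    have : Spec.map (CommRingCat.ofHom e.φ) (closedPoint e.A') = closedPoint A :=
      comap_closedPoint e.φ
    rw [this, ha1]

end Groth.Agent.Lib.Helper16.ValCrit
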