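import Groth.Agent.Lib.Helper16.ValCrit6

/-!
# Helper library (helper16): valuative criteria for algebraic spaces, part 7

Finite separable dominating extensions: the sheaf-level statements.
-/

set_option autoImplicit false
set_option linter.style.haveILetI false
universe u
open CategoryTheory CategoryTheory.Limits AlgebraicGeometry Opposite Topology TopologicalSpace IsLocalRing

namespace Groth.Agent.Lib.Helper16.ValCrit

open AlgSp

variable {S : Scheme.{u}}

/-- From a specialization `u' ⤳ u` in an etale chart of the base change, with `u'` over the given `K`-point and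
`u` over the closed point, one gets a dotted arrow after a finite separable extension. -/
theorem exists_finite_separable_domExt {F G : Sp S} {f : F ⟶ G} (sq : ValSq f) {P : Sp S} {fst : P ⟶ F}
    {snd : P ⟶ (yon S).obj sq.ptA} (psq : IsPullback fst snd f sq.bot)
    (x : (yon S).obj sq.ptK ⟶ P) (hx1 : x ≫ fst = sq.top) (hx2 : x ≫ snd = (yon S).map sq.j)
    {U : Over S} (a : (yon S).obj U ⟶ P) (hae : RepWith @Etale a) (hU : U ⟶ sq.ptA)
    (hhU : (yon S).map hU = a ≫ snd) (u u' : ↥U.left) (hu'u : u' ⤳ u)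
    (hu' : Points.ofPt a u' = Points.ofPt (T := sq.ptK) x (closedPoint sq.K))
    (hUu : hU.left u = closedPoint sq.A) :
    ∃ e : sq.DomExt, (letI := e.ψ.toAlgebra; Module.Finite sq.K e.K' ∧ Algebra.IsSeparable sq.K e.K') ∧
      e.HasLift := by
  obtain ⟨Ω, _, w, α, β, hαβ, hα, -⟩ := exists_common_extension a x u' (closedPoint sq.K) hu'
  obtain ⟨UK, sK, rK, sqK, hrKe⟩ := exists_isPullback_of_repWith_etale a hae x
  obtain ⟨ω, hω⟩ := (yon S).map_surjective (sqK.lift ((yon S).map α) ((yon S).map β) hαβ)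
  have hω1 : ω ≫ sK = α := (yon S).map_injective (by rw [Functor.map_comp, hω, sqK.lift_fst])
  have hsr : sK ≫ hU = rK ≫ sq.j := by
    apply (yon S).map_injective
    rw [Functor.map_comp, Functor.map_comp, hhU, ← Category.assoc, sqK.w, Category.assoc, hx2]
  obtain ⟨hUl, hhUl⟩ : ∃ hUl : U.left ⟶ Spec (CommRingCat.of sq.A), hUl = hU.left := ⟨_, rfl⟩
  obtain ⟨rKl, hrKl⟩ : ∃ rKl : UK.left ⟶ Spec (CommRingCat.of sq.K), rKl = rK.left := ⟨_, rfl⟩
  obtain ⟨ωl, hωl⟩ : ∃ ωl : Spec (CommRingCat.of Ω) ⟶ UK.left, ωl = ω.left := ⟨_, rfl⟩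
  haveI : Etale rKl := by rw [hrKl]; exact hrKe
  have hsr' : sK.left ≫ hUl = rKl ≫ Spec.map (CommRingCat.ofHom (algebraMap sq.A sq.K)) := by
    rw [hhUl, hrKl]
    exact congrArg (fun m => m.left) hsr
  have hsp : (ωl ≫ sK.left) (closedPoint Ω) ⤳ u := by
    have h1 : ωl ≫ sK.left = α.left := by
      rw [hωl, ← hω1]
      rfl
    rw [h1, hα]
    exact hu'u
  obtain ⟨A₁, n₁, φ₁, hn₁, hφ₁, hloc, hcomm⟩ :=
    exists_valuationSubring_residueField hUl sK.left rKl hsr' ωl u (by rw [hhUl]; exact hUu) hsp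
  let e : sq.DomExt :=
    { A' := ↥A₁
      K' := ↑(UK.left.residueField (ωl (closedPoint Ω)))
      φ := φ₁
      ψ := (Spec.preimage (UK.left.fromSpecResidueField (ωl (closedPoint Ω)) ≫ rKl)).hom
      comm := hcomm
      isLocalHom := hloc }
  refine ⟨e, finite_separable_of_etale rKl (ωl (closedPoint Ω)), ?_⟩
  have hψ₁ : Spec.map (CommRingCat.ofHom e.ψ) =
      UK.left.fromSpecResidueField (ωl (closedPoint Ω)) ≫ rKl := by
    change Spec.map (CommRingCat.ofHom (Spec.preimage _).hom) = _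
    rw [CommRingCat.ofHom_hom, Spec.map_preimage]
  have hφ₁' : Spec.map (CommRingCat.ofHom e.φ) = n₁ ≫ hUl := hφ₁
  have hlw : n₁ ≫ U.hom = Spec.map (CommRingCat.ofHom e.φ) ≫ sq.str := by
    rw [hφ₁', hhUl, Category.assoc]
    exact congrArg (n₁ ≫ ·) (Over.w hU).symm
  obtain ⟨n₁', hn₁'⟩ : ∃ n₁' : e.ptA' ⟶ U, n₁'.left = n₁ := ⟨Over.homMk n₁ hlw, rfl⟩
  have hκw : UK.left.fromSpecResidueField (ωl (closedPoint Ω)) ≫ UK.hom = e.ptK'.hom := by
    change _ = Spec.map (CommRingCat.ofHom (algebraMap A₁ (UK.left.residueField (ωl (closedPoint Ω))))) ≫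
      Spec.map (CommRingCat.ofHom e.φ) ≫ sq.str
    rw [← hlw, ← Category.assoc, hn₁, Category.assoc, Over.w sK]
  obtain ⟨κ₁, hκ₁⟩ : ∃ κ₁ : e.ptK' ⟶ UK, κ₁.left = UK.left.fromSpecResidueField (ωl (closedPoint Ω)) :=
    ⟨Over.homMk _ hκw, rfl⟩
  refine ⟨(yon S).map n₁' ≫ a ≫ fst, ?_, ?_⟩
  · have h1 : (Over.homMk (Spec.map (CommRingCat.ofHom (algebraMap e.A' e.K'))) rfl : e.ptK' ⟶ e.ptA') ≫ n₁' =
        κ₁ ≫ sK := by
      apply Over.OverMorphism.ext
      simp only [Over.comp_left, Over.homMk_left]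
      rw [hn₁', hκ₁]
      exact hn₁
    have h2 : (Over.homMk (Spec.map (CommRingCat.ofHom e.ψ)) (domExt_w e) : e.ptK' ⟶ sq.ptK) = κ₁ ≫ rK := by
      apply Over.OverMorphism.ext
      simp only [Over.comp_left, Over.homMk_left]
      rw [hκ₁, ← hrKl]
      exact hψ₁
    rw [← Category.assoc, ← Functor.map_comp, h1, Functor.map_comp, Category.assoc,
      ← Category.assoc ((yon S).map sK), sqK.w, Category.assoc, hx1, ← Category.assoc, ← Functor.map_comp, ← h2]
  · rw [Category.assoc, Category.assoc, psq.w, ← Category.assoc a, ← hhU, ← Category.assoc,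
      ← Functor.map_comp]
    congr 2
    apply Over.OverMorphism.ext
    simp only [Over.comp_left, Over.homMk_left]
    rw [hn₁', hφ₁', hhUl]

/-- A dotted arrow after some dominating extension gives one after a finite separable extension. -/
theorem exists_finite_separable_of_hasLift {F G : Sp S} {f : F ⟶ G} (sq : ValSq f) {P : Sp S} {fst : P ⟶ F}
    {snd : P ⟶ (yon S).obj sq.ptA} (psq : IsPullback fst snd f sq.bot) (hP : IsAlgSpace P)
    (e : sq.DomExt) (he : e.HasLift) :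
    ∃ e₁ : sq.DomExt, (letI := e₁.ψ.toAlgebra; Module.Finite sq.K e₁.K' ∧ Algebra.IsSeparable sq.K e₁.K') ∧
      e₁.HasLift := by
  obtain ⟨l, hl1, hl2⟩ := he
  obtain ⟨x, hxdef⟩ : ∃ x : (yon S).obj sq.ptK ⟶ P, x = psq.lift sq.top ((yon S).map sq.j) sq.comm := ⟨_, rfl⟩
  have hx1 : x ≫ fst = sq.top := by rw [hxdef]; exact psq.lift_fst _ _ _
  have hx2 : x ≫ snd = (yon S).map sq.j := by rw [hxdef]; exact psq.lift_snd _ _ _
  obtain ⟨Φ, hΦ⟩ : ∃ Φ : e.ptA' ⟶ sq.ptA, Φ = Over.homMk (Spec.map (CommRingCat.ofHom e.φ)) rfl := ⟨_, rfl⟩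
  obtain ⟨J', hJ'⟩ : ∃ J' : e.ptK' ⟶ e.ptA',
    J' = Over.homMk (Spec.map (CommRingCat.ofHom (algebraMap e.A' e.K'))) rfl := ⟨_, rfl⟩
  obtain ⟨Ψ, hΨ⟩ : ∃ Ψ : e.ptK' ⟶ sq.ptK, Ψ = Over.homMk (Spec.map (CommRingCat.ofHom e.ψ)) (domExt_w e) :=
    ⟨_, rfl⟩
  have hJΦ : J' ≫ Φ = Ψ ≫ sq.j := by rw [hJ', hΦ, hΨ]; exact domExt_comm' e
  have hl1' : (yon S).map J' ≫ l = (yon S).map Ψ ≫ sq.top := by rw [hJ', hΨ]; exact hl1
  have hl2' : l ≫ f = (yon S).map Φ ≫ sq.bot := by rw [hΦ]; exact hl2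
  obtain ⟨l', hl'def⟩ : ∃ l' : (yon S).obj e.ptA' ⟶ P, l' = psq.lift l ((yon S).map Φ) hl2' := ⟨_, rfl⟩
  have hl'1 : l' ≫ fst = l := by rw [hl'def]; exact psq.lift_fst _ _ _
  have hl'2 : l' ≫ snd = (yon S).map Φ := by rw [hl'def]; exact psq.lift_snd _ _ _
  have hl'x : (yon S).map J' ≫ l' = (yon S).map Ψ ≫ x := by
    apply psq.hom_ext
    · rw [Category.assoc, hl'1, Category.assoc, hx1]
      exact hl1'
    · rw [Category.assoc, hl'2, Category.assoc, hx2, ← Functor.map_comp, ← Functor.map_comp, hJΦ]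
  obtain ⟨U, a, hae, has⟩ := hP.atlas
  obtain ⟨V', qV, pV, sqV, hpVe, hpVs⟩ := exists_isPullback_of_repWith_etale_surjective a hae has l'
  obtain ⟨hU, hhU⟩ := (yon S).map_surjective (a ≫ snd)
  obtain ⟨p, hp⟩ := hpVs.1 (closedPoint e.A')
  obtain ⟨η', hη'⟩ : ∃ η' : ↥(Spec (CommRingCat.of e.A')),
    η' = Spec.map (CommRingCat.ofHom (algebraMap e.A' e.K')) (closedPoint e.K') := ⟨_, rfl⟩
  have hsp : η' ⤳ pV.left p := by
    rw [hp]
    exact specializes_closedPoint _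
  haveI : Etale pV.left := hpVe
  obtain ⟨q, hqp, hq⟩ := (Flat.generalizingMap pV.left) hsp
  haveI : IsLocalHom e.φ := e.isLocalHom
  refine exists_finite_separable_domExt sq psq x hx1 hx2 a hae hU hhU (qV.left p) (qV.left q)
    (hqp.map qV.left.continuous) ?_ ?_
  · have h1 : Points.ofPt a (qV.left q) = Points.ofPt l' (pV.left q) := by
      rw [← ofPt_yon_map_comp, sqV.w, ofPt_yon_map_comp]
    have h2 : Points.ofPt l' (J'.left (closedPoint e.K')) = Points.ofPt x (Ψ.left (closedPoint e.K')) := by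
      rw [← ofPt_yon_map_comp, hl'x, ofPt_yon_map_comp]
    have h3 : J'.left (closedPoint e.K') = pV.left q := by
      rw [hq, hη', hJ']
      rfl
    have h4 : Ψ.left (closedPoint e.K') = closedPoint sq.K :=
      @Subsingleton.elim _ (inferInstance : Subsingleton (PrimeSpectrum sq.K)) _ _
    rw [h1, ← h3, h2, h4]
  · apply ofScheme_injective sq.ptA
    have h1 : Points.ofScheme sq.ptA (hU.left (qV.left p)) = Points.ofPt (a ≫ snd) (qV.left p) := by
      rw [← hhU, ofPt_yon_map_eq_id]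
    have h2 : Points.ofPt (a ≫ snd) (qV.left p) = Points.ofPt (l' ≫ snd) (pV.left p) := by
      rw [← ofPt_yon_map_comp, ← Category.assoc, sqV.w, Category.assoc, ofPt_yon_map_comp]
    have h3 : Points.ofPt (l' ≫ snd) (pV.left p) = Points.ofScheme sq.ptA (Φ.left (closedPoint e.A')) := by
      rw [hl'2, hp, ofPt_yon_map_eq_id]
    have h4 : Φ.left (closedPoint e.A') = closedPoint sq.A := by
      rw [hΦ]
      exact comap_closedPoint e.φ
    rw [h1, h2, h3, h4]

end Groth.Agent.Lib.Helper16.ValCrit
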