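import Groth.Agent.Lib.Helper16.ValCrit9
import Groth.Agent.Lib.Helper16.ValCrit7

/-!
# Helper library (helper16): valuative criteria for algebraic spaces, part 10

The sheaf-level core of the refined valuative criterion.
-/

set_option autoImplicit false
set_option linter.style.haveILetI false
universe u
open CategoryTheory CategoryTheory.Limits AlgebraicGeometry Opposite Topology TopologicalSpace IsLocalRing

namespace Groth.Agent.Lib.Helper16.ValCrit

open AlgSp

variable {S : Scheme.{u}}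

theorem spec_comp {R₁ R₂ R₃ : Type u} [CommRing R₁] [CommRing R₂] [CommRing R₃] (f : R₁ →+* R₂) (g : R₂ →+* R₃) :
    Spec.map (CommRingCat.ofHom (g.comp f)) =
      Spec.map (CommRingCat.ofHom g) ≫ Spec.map (CommRingCat.ofHom f) := by
  rw [CommRingCat.ofHom_comp, Spec.map_comp]

section MkSqW

variable {P : Sp S} {T W : Over S} (snd : P ⟶ (yon S).obj T) (a : (yon S).obj W ⟶ P)
  (p : W ⟶ T) (hp : (yon S).map p = a ≫ snd) {R K : Type u} [CommRing R] [IsDomain R] [ValuationRing R]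
  [Field K] [Algebra R K] [IsFractionRing R K] (x : Spec (CommRingCat.of K) ⟶ W.left)
  (y : Spec (CommRingCat.of R) ⟶ T.left)
  (hxy : Spec.map (CommRingCat.ofHom (algebraMap R K)) ≫ y = x ≫ p.left)

include hxy in
theorem mkSqW_aux : x ≫ W.hom = Spec.map (CommRingCat.ofHom (algebraMap R K)) ≫ y ≫ T.hom := by
  rw [← Over.w p, ← Category.assoc, ← Category.assoc]
  exact congrArg (· ≫ T.hom) hxy.symm

/-- The valuative square over a chart. -/
noncomputable abbrev mkSqW : ValSq snd where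
  A := R
  K := K
  str := y ≫ T.hom
  top := (yon S).map (Over.homMk x (mkSqW_aux p x y hxy) :
    Over.mk (Spec.map (CommRingCat.ofHom (algebraMap R K)) ≫ y ≫ T.hom) ⟶ W) ≫ a
  bot := (yon S).map (Over.homMk y rfl : Over.mk (y ≫ T.hom) ⟶ T)
  comm := by
    rw [Category.assoc, ← hp, ← Functor.map_comp, ← Functor.map_comp]
    congr 1
    apply Over.OverMorphism.ext
    simp only [Over.comp_left, Over.homMk_left]
    exact hxy.symm

theorem mkSqW_top (τ : (mkSqW snd a p hp x y hxy).ptK ⟶ W) (hτ : τ.left = x) :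
    (mkSqW snd a p hp x y hxy).top = (yon S).map τ ≫ a := by
  have h1 : τ = Over.homMk x (mkSqW_aux p x y hxy) := Over.OverMorphism.ext hτ
  rw [h1]

theorem mkSqW_bot (τ : (mkSqW snd a p hp x y hxy).ptA ⟶ T) (hτ : τ.left = y) :
    (mkSqW snd a p hp x y hxy).bot = (yon S).map τ := by
  have h1 : τ = (Over.homMk y rfl : (mkSqW snd a p hp x y hxy).ptA ⟶ T) := Over.OverMorphism.ext hτ
  rw [h1]

theorem mkSqW_top_exists : ∃ τ : (mkSqW snd a p hp x y hxy).ptK ⟶ W, τ.left = x ∧
    (mkSqW snd a p hp x y hxy).top = (yon S).map τ ≫ a :=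
  ⟨Over.homMk x (mkSqW_aux p x y hxy), rfl, rfl⟩

theorem mkSqW_bot_exists : ∃ τ : (mkSqW snd a p hp x y hxy).ptA ⟶ T, τ.left = y ∧
    (mkSqW snd a p hp x y hxy).bot = (yon S).map τ :=
  ⟨Over.homMk y rfl, rfl, rfl⟩

theorem mkSqW_lift_of_chart (τ : (mkSqW snd a p hp x y hxy).ptA ⟶ W)
    (h1 : Spec.map (CommRingCat.ofHom (algebraMap R K)) ≫ τ.left = x) (h2 : τ.left ≫ p.left = y) :
    (yon S).map (mkSqW snd a p hp x y hxy).j ≫ (yon S).map τ ≫ a = (mkSqW snd a p hp x y hxy).top ∧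
    ((yon S).map τ ≫ a) ≫ snd = (mkSqW snd a p hp x y hxy).bot := by
  constructor
  · rw [← Category.assoc, ← Functor.map_comp]
    exact (mkSqW_top snd a p hp x y hxy _ h1).symm
  · rw [Category.assoc, ← hp, ← Functor.map_comp]
    exact (mkSqW_bot snd a p hp x y hxy _ h2).symm

end MkSqW

theorem mkSqW_factor {P F Ush : Sp S} {T W V : Over S} (snd : P ⟶ (yon S).obj T) (fst : P ⟶ F) (h : Ush ⟶ F)
    (a : (yon S).obj W ⟶ P) (p : W ⟶ T) (hp : (yon S).map p = a ≫ snd) (c' : (yon S).obj V ⟶ Ush) (g : V ⟶ W)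
    (hc' : c' ≫ h = (yon S).map g ≫ a ≫ fst) {R K : Type u} [CommRing R] [IsDomain R] [ValuationRing R]
    [Field K] [Algebra R K] [IsFractionRing R K] (x : Spec (CommRingCat.of K) ⟶ V.left)
    (y : Spec (CommRingCat.of R) ⟶ T.left)
    (hxy : Spec.map (CommRingCat.ofHom (algebraMap R K)) ≫ y = (x ≫ g.left) ≫ p.left) :
    ∃ t : (yon S).obj (mkSqW snd a p hp (x ≫ g.left) y hxy).ptK ⟶ Ush,
      t ≫ h = (mkSqW snd a p hp (x ≫ g.left) y hxy).top ≫ fst := by
  have hw : x ≫ V.hom = (mkSqW snd a p hp (x ≫ g.left) y hxy).ptK.hom := by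
    have h1 := mkSqW_aux p (x ≫ g.left) y hxy
    rw [Category.assoc, Over.w g] at h1
    exact h1
  refine ⟨(yon S).map (Over.homMk x hw) ≫ c', ?_⟩
  rw [Category.assoc, hc', mkSqW_top snd a p hp (x ≫ g.left) y hxy (Over.homMk x hw ≫ g) rfl]
  simp only [Functor.map_comp, Category.assoc]

/-- Density of a quasi-compact morphism gives, in an affine etale chart, a point specializing to a given point. -/
theorem exists_specializes_chart {F Ush : Sp S} (h : Ush ⟶ F) (hq : IsQuasiCompactMor h)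
    (hd : DenseRange (Points.map h)) {W : Over S} [IsAffine W.left] (a' : (yon S).obj W ⟶ F)
    (ha' : RepWith @Etale a') (w : ↥W.left) :
    ∃ (V : Over S) (c' : (yon S).obj V ⟶ Ush) (g : V ⟶ W) (v : ↥V.left),
      c' ≫ h = (yon S).map g ≫ a' ∧ g.left v ⤳ w := by
  have hQ : IsQuasiCompactSp (pullback h a') :=
    hq (IsAlgSpace.yon_obj W) (isQuasiCompactSp_yon_of_compactSpace W) a' (pullback.fst h a')
      (pullback.snd h a') (IsPullback.of_hasPullback h a')
  obtain ⟨V, c, hce, hcs, hVc⟩ := hQ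
  haveI : CompactSpace ↥V.left := hVc
  obtain ⟨g, hg⟩ := (yon S).map_surjective (c ≫ pullback.snd h a')
  haveI : QuasiCompact g.left := (quasiCompact_iff_compactSpace g.left).2 inferInstance
  have hmem : w ∈ closure (Set.range g.left) := by
    rw [mem_closure_iff]
    intro N hN hwN
    have hopen : IsOpen (Points.ofPt a' '' N) := isOpenMap_ofPt_of_etale a' ha' N hN
    obtain ⟨_, ⟨n, hnN, rfl⟩, ⟨u, hu⟩⟩ := hd.inter_open_nonempty _ hopen ⟨_, ⟨w, hwN, rfl⟩⟩
    obtain ⟨q, hq1, hq2⟩ := exists_point_of_isPullback (IsPullback.of_hasPullback h a') u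
      (Points.ofScheme W n) (by rw [hu, Points.ofPt_eq_map_ofScheme])
    obtain ⟨v, rfl⟩ := ofPt_surjective_of_surjective c hcs q
    refine ⟨n, hnN, v, ?_⟩
    apply ofScheme_injective W
    rw [← hq2, Points.map_ofPt, ← hg, ofPt_yon_map_eq_id]
  obtain ⟨v, hv⟩ := exists_specializes_of_mem_closure_range g.left w hmem
  refine ⟨V, c ≫ pullback.fst h a', g, v, ?_, hv⟩
  rw [Category.assoc, pullback.condition, ← Category.assoc, ← hg]

end Groth.Agent.Lib.Helper16.ValCrit
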