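import Groth.Agent.Lib.Helper16.ValCrit10

/-!
# Helper library (helper16): valuative criteria for algebraic spaces, part 11

The main step of the refined valuative criterion: from the chart-level data to a dotted arrow after extension.
-/

set_option autoImplicit false
set_option linter.style.haveILetI false
set_option maxHeartbeats 1600000
universe u
open CategoryTheory CategoryTheory.Limits AlgebraicGeometry Opposite Topology TopologicalSpace IsLocalRing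

namespace Groth.Agent.Lib.Helper16.ValCrit

open AlgSp

variable {S : Scheme.{u}}

theorem hasLiftExt_of_chart_data {P F Ush : Sp S} {T : Over S} [IsAffine T.left]
    (snd : P ⟶ (yon S).obj T) (fst : P ⟶ F) (h : Ush ⟶ F)
    (hv' : ∀ sq' : ValSq snd, (∃ t : (yon S).obj sq'.ptK ⟶ Ush, t ≫ h = sq'.top ≫ fst) →
      sq'.HasUniq ∧ sq'.HasLiftExt)
    (sq : ValSq snd) {W V : Over S} (a : (yon S).obj W ⟶ P) (p : W ⟶ T)
    (hp : (yon S).map p = a ≫ snd) (c' : (yon S).obj V ⟶ Ush) (g : V ⟶ W)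
    (hc' : c' ≫ h = (yon S).map g ≫ a ≫ fst) (v : ↥V.left)
    {Kp : Type u} [Field Kp] (wS : Spec (CommRingCat.of Kp) ⟶ S) (α : Over.mk wS ⟶ W)
    (β' : Over.mk wS ⟶ sq.ptK) (hαβ : (yon S).map α ≫ a = (yon S).map β' ≫ sq.top)
    (hsp : g.left v ⤳ α.left (closedPoint Kp)) : sq.HasLiftExt := by
  obtain ⟨β, hβ⟩ := (yon S).map_surjective sq.bot
  obtain ⟨ι, hι⟩ : ∃ ι : sq.K →+* Kp, Spec.map (CommRingCat.ofHom ι) = β'.left :=
    ⟨(Spec.preimage β'.left).hom, by rw [CommRingCat.ofHom_hom, Spec.map_preimage]⟩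
  obtain ⟨Ap, hAp, hloc⟩ := IsLocalRing.exists_factor_valuationRing (ι.comp (algebraMap sq.A sq.K))
  obtain ⟨φp, hφp⟩ : ∃ φp : sq.A →+* Ap,
    φp = (ι.comp (algebraMap sq.A sq.K)).codRestrict Ap.toSubring hAp := ⟨_, rfl⟩
  have hφploc : IsLocalHom φp := by rw [hφp]; exact hloc
  have hφp' : ∀ x, ((φp x : Ap) : Kp) = ι (algebraMap sq.A sq.K x) := by
    intro x; rw [hφp]; rfl
  have hcommsq : sq.top ≫ snd = (yon S).map sq.j ≫ sq.bot := sq.comm
  have hOver : α ≫ p = β' ≫ sq.j ≫ β := by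
    apply (yon S).map_injective
    have h1 : (yon S).map α ≫ a ≫ snd = (yon S).map β' ≫ sq.top ≫ snd := by
      rw [← Category.assoc, hαβ, Category.assoc]
    rw [Functor.map_comp, Functor.map_comp, Functor.map_comp, hp, hβ, ← hcommsq]
    exact h1
  obtain ⟨y₀, hy₀⟩ : ∃ y₀ : Spec (CommRingCat.of sq.A) ⟶ T.left, y₀ = β.left := ⟨_, rfl⟩
  have hy₀w : y₀ ≫ T.hom = sq.str := by rw [hy₀]; exact Over.w β
  have hleft : α.left ≫ p.left = Spec.map (CommRingCat.ofHom ι) ≫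
      Spec.map (CommRingCat.ofHom (algebraMap sq.A sq.K)) ≫ y₀ := by
    rw [hι, hy₀]
    exact congrArg (fun m => m.left) hOver
  obtain ⟨yp, hyp⟩ : ∃ yp : Spec (CommRingCat.of Ap) ⟶ T.left,
    yp = Spec.map (CommRingCat.ofHom φp) ≫ y₀ := ⟨_, rfl⟩
  have e0 : Ap.subtype.comp φp = ι.comp (algebraMap sq.A sq.K) := by
    ext x; exact hφp' x
  have hyp' : Spec.map (CommRingCat.ofHom Ap.subtype) ≫ yp = α.left ≫ p.left := by
    calc Spec.map (CommRingCat.ofHom Ap.subtype) ≫ yp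
        = Spec.map (CommRingCat.ofHom (Ap.subtype.comp φp)) ≫ y₀ := by rw [hyp, spec_comp, Category.assoc]
      _ = α.left ≫ p.left := by rw [e0, spec_comp, Category.assoc, hleft]
  obtain ⟨L, _, γ, Wc, V₁, hle, yc, m₁, ρ, o1, o2, o3, o4, o5⟩ :=
    exists_refined_data g.left p.left α.left Ap yp hyp' v hsp
  have hxc : Spec.map (CommRingCat.ofHom (algebraMap Wc L)) ≫ yc = (γ ≫ g.left) ≫ p.left :=
    o1.trans (Category.assoc _ _ _).symm
  obtain ⟨-, ec, lc, hl1, hl2⟩ := hv' (mkSqW snd a p hp (γ ≫ g.left) yc hxc)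
    (mkSqW_factor snd fst h a p hp c' g hc' γ yc hxc)
  have hφcloc : IsLocalHom ec.φ := ec.isLocalHom
  obtain ⟨V₁', ιA, ψV, A'', q, φ'', ψ'', mapψ, r1, r2, r3, r4, r5, r6, r7, r8⟩ :=
    exists_final_extension ι Ap φp hφploc hφp' Wc V₁ hle ρ o5 ec.φ hφcloc ec.ψ ec.comm
  -- the identities at the level of spectra
  have S1 : Spec.map (CommRingCat.ofHom V₁'.subtype) ≫ Spec.map (CommRingCat.ofHom ιA) =
      Spec.map (CommRingCat.ofHom (algebraMap ec.A' ec.K')) := by rw [← spec_comp, r1]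
  have S2 : Spec.map (CommRingCat.ofHom V₁'.subtype) ≫ Spec.map (CommRingCat.ofHom ψV) =
      Spec.map (CommRingCat.ofHom ec.ψ) ≫ Spec.map (CommRingCat.ofHom V₁.subtype) := by
    rw [← spec_comp, ← spec_comp, r2]
  have S3 : Spec.map (CommRingCat.ofHom ιA) ≫ Spec.map (CommRingCat.ofHom ec.φ) =
      Spec.map (CommRingCat.ofHom ψV) ≫
        Spec.map (CommRingCat.ofHom (ValuationSubring.inclusion Wc V₁ hle)) := by
    rw [← spec_comp, ← spec_comp, r3]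
  have S4 : Spec.map (CommRingCat.ofHom A''.subtype) ≫ Spec.map (CommRingCat.ofHom q) =
      Spec.map (CommRingCat.ofHom (residue V₁')) ≫ Spec.map (CommRingCat.ofHom ιA) := by
    rw [← spec_comp, ← spec_comp, r4]
  have S5 : Spec.map (CommRingCat.ofHom (residue V₁')) ≫ Spec.map (CommRingCat.ofHom ψV) =
      Spec.map (CommRingCat.ofHom mapψ) ≫ Spec.map (CommRingCat.ofHom (residue V₁)) := by
    rw [← spec_comp, ← spec_comp, r5]
  have S6 : Spec.map (CommRingCat.ofHom ψ'') = Spec.map (CommRingCat.ofHom mapψ) ≫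
      Spec.map (CommRingCat.ofHom ρ) ≫ Spec.map (CommRingCat.ofHom ι) := by
    rw [r6, spec_comp, spec_comp]
  have S7 : Spec.map (CommRingCat.ofHom A''.subtype) ≫ Spec.map (CommRingCat.ofHom φ'') =
      Spec.map (CommRingCat.ofHom ψ'') ≫ Spec.map (CommRingCat.ofHom (algebraMap sq.A sq.K)) := by
    rw [← spec_comp, ← spec_comp, r7]
  have SC : Spec.map (CommRingCat.ofHom (algebraMap ec.A' ec.K')) ≫ Spec.map (CommRingCat.ofHom ec.φ) =
      Spec.map (CommRingCat.ofHom ec.ψ) ≫ Spec.map (CommRingCat.ofHom Wc.subtype) := by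
    rw [← spec_comp, ← spec_comp]
    exact congrArg (fun f => Spec.map (CommRingCat.ofHom f)) ec.comm
  -- the square over `V₁'`
  obtain ⟨yV, hyV⟩ : ∃ yV : Spec (CommRingCat.of V₁') ⟶ T.left,
    yV = Spec.map (CommRingCat.ofHom ιA) ≫ Spec.map (CommRingCat.ofHom ec.φ) ≫ yc := ⟨_, rfl⟩
  obtain ⟨xV, hxV⟩ : ∃ xV : Spec (CommRingCat.of ec.K') ⟶ V.left,
    xV = Spec.map (CommRingCat.ofHom ec.ψ) ≫ γ := ⟨_, rfl⟩
  have hxyV : Spec.map (CommRingCat.ofHom (algebraMap V₁' ec.K')) ≫ yV = (xV ≫ g.left) ≫ p.left := by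
    show Spec.map (CommRingCat.ofHom V₁'.subtype) ≫ yV = (xV ≫ g.left) ≫ p.left
    rw [hyV, hxV]
    simp only [Category.assoc]
    rw [reassoc_of% S1, reassoc_of% SC, o1]
  obtain ⟨huV, -⟩ := hv' (mkSqW snd a p hp (xV ≫ g.left) yV hxyV)
    (mkSqW_factor snd fst h a p hp c' g hc' xV yV hxyV)
  have KV : Spec.map (CommRingCat.ofHom ψV) ≫ m₁ ≫ p.left = yV := by
    rw [← o3, hyV, reassoc_of% S3]
  -- the first lift over `V₁'`
  have hw₁ : Spec.map (CommRingCat.ofHom ιA) ≫ ec.ptA'.hom = yV ≫ T.hom := by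
    show Spec.map (CommRingCat.ofHom ιA) ≫ Spec.map (CommRingCat.ofHom ec.φ) ≫ yc ≫ T.hom = yV ≫ T.hom
    rw [hyV]
    simp only [Category.assoc]
  obtain ⟨τ₁, hτ₁⟩ : ∃ τ₁ : Over.mk (yV ≫ T.hom) ⟶ ec.ptA', τ₁.left = Spec.map (CommRingCat.ofHom ιA) :=
    ⟨Over.homMk _ hw₁, rfl⟩
  -- the second lift over `V₁'`
  have hw₄ : (Spec.map (CommRingCat.ofHom ψV) ≫ m₁) ≫ W.hom = yV ≫ T.hom := by
    rw [← Over.w p, ← KV]
    simp only [Category.assoc]
  obtain ⟨τ₄, hτ₄⟩ : ∃ τ₄ : Over.mk (yV ≫ T.hom) ⟶ W, τ₄.left = Spec.map (CommRingCat.ofHom ψV) ≫ m₁ :=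
    ⟨Over.homMk _ hw₄, rfl⟩
  have h41 : Spec.map (CommRingCat.ofHom (algebraMap V₁' ec.K')) ≫ τ₄.left = xV ≫ g.left := by
    show Spec.map (CommRingCat.ofHom V₁'.subtype) ≫ τ₄.left = xV ≫ g.left
    rw [hτ₄, hxV, reassoc_of% S2, o2, Category.assoc]
  have h42 : τ₄.left ≫ p.left = yV := by
    rw [hτ₄, Category.assoc, KV]
  obtain ⟨c3, c4⟩ := mkSqW_lift_of_chart snd a p hp (xV ≫ g.left) yV hxyV τ₄ h41 h42
  -- the data of the dotted arrow of the composite square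
  obtain ⟨JK, hJK, hJKl⟩ : ∃ JK : ec.ptK' ⟶ ec.ptA',
      JK = Over.homMk (Spec.map (CommRingCat.ofHom (algebraMap ec.A' ec.K'))) rfl ∧
      JK.left = Spec.map (CommRingCat.ofHom (algebraMap ec.A' ec.K')) := ⟨_, rfl, rfl⟩
  obtain ⟨Ψc, hΨc, hΨcl⟩ : ∃ Ψc : ec.ptK' ⟶ (mkSqW snd a p hp (γ ≫ g.left) yc hxc).ptK,
      Ψc = Over.homMk (Spec.map (CommRingCat.ofHom ec.ψ)) (domExt_w ec) ∧
      Ψc.left = Spec.map (CommRingCat.ofHom ec.ψ) := ⟨_, rfl, rfl⟩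
  obtain ⟨Φc, hΦc, hΦcl⟩ : ∃ Φc : ec.ptA' ⟶ (mkSqW snd a p hp (γ ≫ g.left) yc hxc).ptA,
      Φc = Over.homMk (Spec.map (CommRingCat.ofHom ec.φ)) rfl ∧
      Φc.left = Spec.map (CommRingCat.ofHom ec.φ) := ⟨_, rfl, rfl⟩
  obtain ⟨τc, hτc, hτctop⟩ := mkSqW_top_exists snd a p hp (γ ≫ g.left) yc hxc
  obtain ⟨τb, hτb, hτbbot⟩ := mkSqW_bot_exists snd a p hp (γ ≫ g.left) yc hxc
  have hl1' : (yon S).map JK ≫ lc = (yon S).map Ψc ≫ (yon S).map τc ≫ a := by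
    rw [hJK, hΨc, ← hτctop]; exact hl1
  have hl2' : lc ≫ snd = (yon S).map Φc ≫ (yon S).map τb := by
    rw [hΦc, ← hτbbot]; exact hl2
  have hw₂ : 𝟙 _ ≫ ec.ptK'.hom =
      Spec.map (CommRingCat.ofHom (algebraMap V₁' ec.K')) ≫ yV ≫ T.hom := by
    show 𝟙 _ ≫ Spec.map (CommRingCat.ofHom (algebraMap ec.A' ec.K')) ≫ Spec.map (CommRingCat.ofHom ec.φ) ≫
      yc ≫ T.hom = Spec.map (CommRingCat.ofHom V₁'.subtype) ≫ yV ≫ T.hom
    rw [Category.id_comp, hyV]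
    simp only [Category.assoc]
    rw [reassoc_of% S1]
  obtain ⟨τ₂, hτ₂⟩ : ∃ τ₂ : Over.mk (Spec.map (CommRingCat.ofHom (algebraMap V₁' ec.K')) ≫ yV ≫ T.hom) ⟶
      ec.ptK', τ₂.left = 𝟙 _ := ⟨Over.homMk (𝟙 _) hw₂, rfl⟩
  have c1 : (yon S).map (mkSqW snd a p hp (xV ≫ g.left) yV hxyV).j ≫ (yon S).map τ₁ ≫ lc =
      (mkSqW snd a p hp (xV ≫ g.left) yV hxyV).top := by
    have e_i : (mkSqW snd a p hp (xV ≫ g.left) yV hxyV).j ≫ τ₁ = τ₂ ≫ JK := by
      apply Over.OverMorphism.ext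
      show Spec.map (CommRingCat.ofHom V₁'.subtype) ≫ τ₁.left = τ₂.left ≫ JK.left
      rw [hτ₁, hτ₂, hJKl, Category.id_comp]
      exact S1
    have hτ : (τ₂ ≫ Ψc ≫ τc).left = xV ≫ g.left := by
      show τ₂.left ≫ Ψc.left ≫ τc.left = xV ≫ g.left
      rw [hτ₂, hΨcl, hτc, hxV, Category.id_comp, Category.assoc]
    calc (yon S).map (mkSqW snd a p hp (xV ≫ g.left) yV hxyV).j ≫ (yon S).map τ₁ ≫ lc
        = (yon S).map ((mkSqW snd a p hp (xV ≫ g.left) yV hxyV).j ≫ τ₁) ≫ lc := by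
          rw [Functor.map_comp, Category.assoc]
      _ = (yon S).map τ₂ ≫ (yon S).map JK ≫ lc := by rw [e_i, Functor.map_comp, Category.assoc]
      _ = (yon S).map τ₂ ≫ (yon S).map Ψc ≫ (yon S).map τc ≫ a := by rw [hl1']
      _ = (yon S).map (τ₂ ≫ Ψc ≫ τc) ≫ a := by simp only [Functor.map_comp, Category.assoc]
      _ = _ := (mkSqW_top snd a p hp (xV ≫ g.left) yV hxyV _ hτ).symm
  have c2 : ((yon S).map τ₁ ≫ lc) ≫ snd = (mkSqW snd a p hp (xV ≫ g.left) yV hxyV).bot := by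
    have hτ : (τ₁ ≫ Φc ≫ τb).left = yV := by
      show τ₁.left ≫ Φc.left ≫ τb.left = yV
      rw [hτ₁, hΦcl, hτb, hyV]
    calc ((yon S).map τ₁ ≫ lc) ≫ snd = (yon S).map τ₁ ≫ (yon S).map Φc ≫ (yon S).map τb := by
          rw [Category.assoc, hl2']
      _ = (yon S).map (τ₁ ≫ Φc ≫ τb) := by simp only [Functor.map_comp]
      _ = _ := (mkSqW_bot snd a p hp (xV ≫ g.left) yV hxyV _ hτ).symm
  have hl12 : (yon S).map τ₁ ≫ lc = (yon S).map τ₄ ≫ a := huV _ _ c1 c2 c3 c4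
  -- the key identity into the affine base
  have hstar : Spec.map (CommRingCat.ofHom q) ≫ Spec.map (CommRingCat.ofHom ec.φ) ≫ yc =
      Spec.map (CommRingCat.ofHom φ'') ≫ y₀ := by
    refine Groth.Agent.Lib.Helper17.ValDense.eq_of_generic_eq (K := ResidueField V₁')
      (IsFractionRing.injective A'' (ResidueField V₁')) _ _ (isAffineOpen_top T.left) trivial trivial ?_
    show Spec.map (CommRingCat.ofHom A''.subtype) ≫ Spec.map (CommRingCat.ofHom q) ≫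
      Spec.map (CommRingCat.ofHom ec.φ) ≫ yc =
      Spec.map (CommRingCat.ofHom A''.subtype) ≫ Spec.map (CommRingCat.ofHom φ'') ≫ y₀
    rw [reassoc_of% S4, reassoc_of% S7, S6, ← hyV, ← KV, reassoc_of% S5, reassoc_of% o4, hleft]
    simp only [Category.assoc]
  -- the final dominating extension
  let e : sq.DomExt :=
    { A' := ↥A''
      K' := ResidueField ↥V₁'
      φ := φ''
      ψ := ψ''
      comm := r7
      isLocalHom := r8 }
  refine ⟨e, ?_⟩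
  have hw₅ : Spec.map (CommRingCat.ofHom q) ≫ ec.ptA'.hom = e.ptA'.hom := by
    show Spec.map (CommRingCat.ofHom q) ≫ Spec.map (CommRingCat.ofHom ec.φ) ≫ yc ≫ T.hom =
      Spec.map (CommRingCat.ofHom φ'') ≫ sq.str
    rw [← hy₀w, reassoc_of% hstar]
  obtain ⟨τ₅, hτ₅⟩ : ∃ τ₅ : e.ptA' ⟶ ec.ptA', τ₅.left = Spec.map (CommRingCat.ofHom q) :=
    ⟨Over.homMk _ hw₅, rfl⟩
  refine ⟨(yon S).map τ₅ ≫ lc, ?_, ?_⟩
  · have hw₆ : Spec.map (CommRingCat.ofHom (residue V₁')) ≫ yV ≫ T.hom = e.ptK'.hom := by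
      show _ = Spec.map (CommRingCat.ofHom A''.subtype) ≫ Spec.map (CommRingCat.ofHom φ'') ≫ sq.str
      rw [← hy₀w, ← reassoc_of% hstar, reassoc_of% S4, hyV]
      simp only [Category.assoc]
    obtain ⟨τ₆, hτ₆⟩ : ∃ τ₆ : e.ptK' ⟶ Over.mk (yV ≫ T.hom),
        τ₆.left = Spec.map (CommRingCat.ofHom (residue V₁')) := ⟨Over.homMk _ hw₆, rfl⟩
    have e_a : (Over.homMk (Spec.map (CommRingCat.ofHom (algebraMap e.A' e.K'))) rfl : e.ptK' ⟶ e.ptA') ≫ τ₅ =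
        τ₆ ≫ τ₁ := by
      apply Over.OverMorphism.ext
      show Spec.map (CommRingCat.ofHom A''.subtype) ≫ τ₅.left = τ₆.left ≫ τ₁.left
      rw [hτ₅, hτ₆, hτ₁]
      exact S4
    have h64 : (τ₆ ≫ τ₄).left =
        (Spec.map (CommRingCat.ofHom mapψ) ≫ Spec.map (CommRingCat.ofHom ρ)) ≫ α.left := by
      show τ₆.left ≫ τ₄.left = _
      rw [hτ₆, hτ₄, reassoc_of% S5, o4, Category.assoc]
    have hw₇ : (Spec.map (CommRingCat.ofHom mapψ) ≫ Spec.map (CommRingCat.ofHom ρ)) ≫ wS = e.ptK'.hom := by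
      have h1 := Over.w (τ₆ ≫ τ₄)
      rw [h64, Category.assoc] at h1
      have h2 : α.left ≫ W.hom = wS := Over.w α
      rw [h2] at h1
      exact h1
    obtain ⟨τ₇, hτ₇⟩ : ∃ τ₇ : e.ptK' ⟶ Over.mk wS,
        τ₇.left = Spec.map (CommRingCat.ofHom mapψ) ≫ Spec.map (CommRingCat.ofHom ρ) :=
      ⟨Over.homMk _ hw₇, rfl⟩
    have e_b : τ₆ ≫ τ₄ = τ₇ ≫ α := by
      apply Over.OverMorphism.ext
      rw [h64]
      show _ = τ₇.left ≫ α.left
      rw [hτ₇]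
    have e_c : τ₇ ≫ β' = (Over.homMk (Spec.map (CommRingCat.ofHom e.ψ)) (domExt_w e) : e.ptK' ⟶ sq.ptK) := by
      apply Over.OverMorphism.ext
      show τ₇.left ≫ β'.left = Spec.map (CommRingCat.ofHom ψ'')
      rw [hτ₇, ← hι, S6, Category.assoc]
    calc (yon S).map (Over.homMk (Spec.map (CommRingCat.ofHom (algebraMap e.A' e.K'))) rfl :
          e.ptK' ⟶ e.ptA') ≫ (yon S).map τ₅ ≫ lc
        = (yon S).map (τ₆ ≫ τ₁) ≫ lc := by rw [← e_a, Functor.map_comp, Category.assoc]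
      _ = (yon S).map τ₆ ≫ (yon S).map τ₁ ≫ lc := by rw [Functor.map_comp, Category.assoc]
      _ = (yon S).map τ₆ ≫ (yon S).map τ₄ ≫ a := by rw [hl12]
      _ = (yon S).map (τ₇ ≫ α) ≫ a := by rw [← e_b, Functor.map_comp, Category.assoc]
      _ = (yon S).map τ₇ ≫ (yon S).map β' ≫ sq.top := by rw [Functor.map_comp, Category.assoc, hαβ]
      _ = (yon S).map (Over.homMk (Spec.map (CommRingCat.ofHom e.ψ)) (domExt_w e) : e.ptK' ⟶ sq.ptK) ≫
            sq.top := by rw [← e_c, Functor.map_comp, Category.assoc]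
  · have hτ : τ₅ ≫ Φc ≫ τb = (Over.homMk (Spec.map (CommRingCat.ofHom e.φ)) rfl : e.ptA' ⟶ sq.ptA) ≫ β := by
      apply Over.OverMorphism.ext
      show τ₅.left ≫ Φc.left ≫ τb.left = Spec.map (CommRingCat.ofHom φ'') ≫ β.left
      rw [hτ₅, hΦcl, hτb, ← hy₀]
      exact hstar
    calc ((yon S).map τ₅ ≫ lc) ≫ snd = (yon S).map τ₅ ≫ (yon S).map Φc ≫ (yon S).map τb := by
          rw [Category.assoc, hl2']
      _ = (yon S).map (τ₅ ≫ Φc ≫ τb) := by simp only [Functor.map_comp]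
      _ = (yon S).map (Over.homMk (Spec.map (CommRingCat.ofHom e.φ)) rfl : e.ptA' ⟶ sq.ptA) ≫ sq.bot := by
          rw [hτ, Functor.map_comp, hβ]

end Groth.Agent.Lib.Helper16.ValCrit
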