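import Groth.Agent.Lib.Helper16.ValCrit11
import Groth.Agent.Lib.Helper16.FibreProduct

/-!
# Helper library (helper16): valuative criteria for algebraic spaces, part 12

The refined valuative criterion for universal closedness: reduction to affine etale charts of the target.
-/

set_option autoImplicit false
set_option linter.style.haveILetI false
universe u
open CategoryTheory CategoryTheory.Limits AlgebraicGeometry Opposite Topology TopologicalSpace IsLocalRing

namespace Groth.Agent.Lib.Helper16.ValCrit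

open AlgSp

variable {S : Scheme.{u}}

/-- A property etale local on the base holds universally as soon as it does after base change to every affine etale
chart of the (algebraic space) target. -/
theorem univSp_of_affine_charts {Q : MorphismProperty (Sp S)} (hQ : IsEtaleLocalOnBase Q) {F G : Sp S}
    (f : F ⟶ G) (hG : IsAlgSpace G)
    (h : ∀ (T : Over S) (b : (yon S).obj T ⟶ G), IsAffine T.left → RepWith @Etale b →
      UnivSp Q (pullback.snd f b)) : UnivSp Q f := by
  obtain ⟨V, p, hpe, hps⟩ := hG.atlas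
  refine univSp_of_tests hQ f (fun T' t => ∃ (T : Over S) (b : (yon S).obj T ⟶ G) (t' : T' ⟶ T),
    IsAffine T.left ∧ RepWith @Etale b ∧ t = (yon S).map t' ≫ b) ?_ ?_
  · intro Z hZ g
    obtain ⟨W, ρ, t, h1, h2, h3⟩ := exists_etale_cover_through_chart p hpe hps hZ g
    refine ⟨V.left.affineOpens, fun i => overOpen W (t.left ⁻¹ᵁ i.1),
      fun i => (yon S).map (overOpenι W (t.left ⁻¹ᵁ i.1)) ≫ ρ, fun i => repWith_etale_restrict ρ h1 _, ?_, ?_⟩
    · intro z
      obtain ⟨w, rfl⟩ := ofPt_surjective_of_surjective ρ h2 z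
      obtain ⟨O, hO, hw, -⟩ := (TopologicalSpace.Opens.isBasis_iff_nbhd.mp V.left.isBasis_affineOpens)
        (show t.left w ∈ (⊤ : V.left.Opens) from trivial)
      refine ⟨⟨O, hO⟩, (⟨w, hw⟩ : ↥(t.left ⁻¹ᵁ O)), ?_⟩
      rw [ofPt_restrict]
      rfl
    · intro i
      refine ⟨overOpen V i.1, (yon S).map (overOpenι V i.1) ≫ p, overRestrict t i.1, i.2,
        repWith_etale_restrict p hpe _, ?_⟩
      have hw := (isPullback_overRestrict t i.1).w
      calc ((yon S).map (overOpenι W (t.left ⁻¹ᵁ i.1)) ≫ ρ) ≫ g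
          = (yon S).map (overOpenι W (t.left ⁻¹ᵁ i.1)) ≫ (yon S).map t ≫ p := by rw [Category.assoc, h3]
        _ = (yon S).map (overOpenι W (t.left ⁻¹ᵁ i.1) ≫ t) ≫ p := by rw [Functor.map_comp, Category.assoc]
        _ = (yon S).map (overRestrict t i.1 ≫ overOpenι V i.1) ≫ p := by rw [hw]
        _ = (yon S).map (overRestrict t i.1) ≫ (yon S).map (overOpenι V i.1) ≫ p := by
            rw [Functor.map_comp, Category.assoc]
  · rintro T' _ ⟨T, b, t', hT, hb, rfl⟩ P' fst' snd' sq'
    have sq := IsPullback.of_hasPullback f b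
    have hw : sq.lift fst' (snd' ≫ (yon S).map t') (by rw [sq'.w, Category.assoc]) ≫ pullback.snd f b =
        snd' ≫ (yon S).map t' := sq.lift_snd _ _ _
    refine h T b hT hb (IsAlgSpace.yon_obj T') ((yon S).map t') (sq.lift fst' (snd' ≫ (yon S).map t')
      (by rw [sq'.w, Category.assoc])) snd' ?_
    refine IsPullback.of_right ?_ hw sq
    rw [sq.lift_fst]
    exact sq'

/-- Transfer of uniqueness of dotted arrows along a base change. -/
theorem hasUniq_of_pushSq {F G F' G' : Sp S} {f : F ⟶ G} {g : G' ⟶ G} {fst : F' ⟶ F} {snd : F' ⟶ G'}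
    (sq : IsPullback fst snd f g) (sq' : ValSq snd) (hu : (pushSq sq.w sq').HasUniq) : sq'.HasUniq := by
  intro l l' h1 h2 h3 h4
  apply sq.hom_ext
  · have c1 : (yon S).map (pushSq sq.w sq').j ≫ l ≫ fst = (pushSq sq.w sq').top := by
      show (yon S).map sq'.j ≫ l ≫ fst = sq'.top ≫ fst
      rw [← Category.assoc, h1]
    have c2 : (l ≫ fst) ≫ f = (pushSq sq.w sq').bot := by
      show (l ≫ fst) ≫ f = sq'.bot ≫ g
      rw [Category.assoc, sq.w, ← Category.assoc, h2]
    have c3 : (yon S).map (pushSq sq.w sq').j ≫ l' ≫ fst = (pushSq sq.w sq').top := by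
      show (yon S).map sq'.j ≫ l' ≫ fst = sq'.top ≫ fst
      rw [← Category.assoc, h3]
    have c4 : (l' ≫ fst) ≫ f = (pushSq sq.w sq').bot := by
      show (l' ≫ fst) ≫ f = sq'.bot ≫ g
      rw [Category.assoc, sq.w, ← Category.assoc, h4]
    exact hu (l ≫ fst) (l' ≫ fst) c1 c2 c3 c4
  · rw [h2, h4]

/-- Transfer of existence of dotted arrows after extension along a base change. -/
theorem hasLiftExt_of_pushSq {F G F' G' : Sp S} {f : F ⟶ G} {g : G' ⟶ G} {fst : F' ⟶ F} {snd : F' ⟶ G'}
    (sq : IsPullback fst snd f g) (sq' : ValSq snd) (he : (pushSq sq.w sq').HasLiftExt) : sq'.HasLiftExt := by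
  obtain ⟨e, l, hl1, hl2⟩ := he
  let e' : sq'.DomExt :=
    { A' := e.A'
      K' := e.K'
      φ := e.φ
      ψ := e.ψ
      comm := e.comm
      isLocalHom := e.isLocalHom }
  refine ⟨e', ?_⟩
  have hw : l ≫ f = ((yon S).map (Over.homMk (Spec.map (CommRingCat.ofHom e'.φ)) rfl : e'.ptA' ⟶ sq'.ptA) ≫
      sq'.bot) ≫ g := hl2.trans (Category.assoc _ _ _).symm
  refine ⟨sq.lift l _ hw, ?_, sq.lift_snd _ _ _⟩
  apply sq.hom_ext
  · rw [Category.assoc, sq.lift_fst, Category.assoc]
    exact hl1
  · rw [Category.assoc, sq.lift_snd, Category.assoc, sq'.comm, ← Category.assoc, ← Category.assoc,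
      ← Functor.map_comp, ← Functor.map_comp]
    congr 2
    exact domExt_comm e' _

/-- The refined existence part for a morphism to an affine scheme over which the source is etale over `F`. -/
theorem existVC_of_refined {P F Ush : Sp S} {T : Over S} [IsAffine T.left] (snd : P ⟶ (yon S).obj T)
    (fst : P ⟶ F) (h : Ush ⟶ F) (hP : IsAlgSpace P) (hfe : RepWith @Etale fst) (hh : IsQuasiCompactMor h)
    (hd : DenseRange (Points.map h))
    (hv' : ∀ sq' : ValSq snd, (∃ t : (yon S).obj sq'.ptK ⟶ Ush, t ≫ h = sq'.top ≫ fst) →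
      sq'.HasUniq ∧ sq'.HasLiftExt) : ExistVC snd := by
  intro sq
  obtain ⟨ι, Wf, ρf, hρe, hcov, hWa⟩ := exists_affine_etale_cover hP
  obtain ⟨i, w, hw⟩ := hcov (Points.ofPt (T := sq.ptK) sq.top (closedPoint sq.K))
  haveI : IsAffine (Wf i).left := hWa i
  obtain ⟨Kp, _, wS, α, β', hαβ, hα, -⟩ := exists_common_extension (ρf i) sq.top w (closedPoint sq.K) hw
  obtain ⟨p, hp⟩ := (yon S).map_surjective (ρf i ≫ snd)
  obtain ⟨V, c', g, v, hc', hsp⟩ := exists_specializes_chart h hh hd (ρf i ≫ fst)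
    ((RepWith @Etale).comp_mem _ _ (hρe i) hfe) w
  rw [← hα] at hsp
  exact hasLiftExt_of_chart_data snd fst h hv' sq (ρf i) p hp c' g hc' v wS α β' hαβ hsp

/-- The refined valuative criterion for universal closedness. -/
theorem isUnivClosedMor_of_refined {F G Ush : Sp S} (f : F ⟶ G) (h : Ush ⟶ F) (hF : IsAlgSpace F)
    (hG : IsAlgSpace G) (hf : IsQuasiCompactMor f) (hh : IsQuasiCompactMor h)
    (hd : DenseRange (Points.map h))
    (hv : ∀ sq : ValSq f, (∃ t : (yon S).obj sq.ptK ⟶ Ush, t ≫ h = sq.top) → sq.HasUniq ∧ sq.HasLiftExt) :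
    IsUnivClosedMor f := by
  refine univSp_of_affine_charts isEtaleLocalOnBase_isClosedMor f hG ?_
  intro T b hT hb
  haveI := hT
  have psq := IsPullback.of_hasPullback f b
  have hP : IsAlgSpace (pullback f b) := isAlgSpace_of_isPullback hF hG.diag (IsAlgSpace.yon_obj T) psq
  have hq : IsQuasiCompactMor (pullback.snd f b) := fun Z Z' hZ hZq g' fst' snd' sq' =>
    hf hZ hZq (g' ≫ b) (fst' ≫ pullback.fst f b) snd' (sq'.paste_horiz psq)
  have hfe : RepWith @Etale (pullback.fst f b) := (RepWith (S := S) @Etale).of_isPullback psq.flip hb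
  refine isUnivClosedMor_of_quasiCompact_existVC _ hq ?_
  refine existVC_of_refined (pullback.snd f b) (pullback.fst f b) h hP hfe hh hd ?_
  intro sq' ht
  obtain ⟨hu, he⟩ := hv (pushSq psq.w sq') ht
  exact ⟨hasUniq_of_pushSq psq sq' hu, hasLiftExt_of_pushSq psq sq' he⟩

/-- A dotted arrow for a square over the diagonal from uniqueness for the associated square over `f`. -/
theorem hasLift_diagonal_of_hasUniq {F G : Sp S} {f : F ⟶ G} (sq : ValSq (pullback.diagonal f))
    (hu : (diagSq sq).HasUniq) : sq.HasLift := by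
  have c1 : (yon S).map sq.j ≫ sq.bot ≫ pullback.fst f f = sq.top := by
    rw [← Category.assoc, ← sq.comm, Category.assoc, pullback.diagonal_fst, Category.comp_id]
  have c3 : (yon S).map sq.j ≫ sq.bot ≫ pullback.snd f f = sq.top := by
    rw [← Category.assoc, ← sq.comm, Category.assoc, pullback.diagonal_snd, Category.comp_id]
  have c2 : (sq.bot ≫ pullback.fst f f) ≫ f = sq.bot ≫ pullback.fst f f ≫ f := Category.assoc _ _ _
  have c4 : (sq.bot ≫ pullback.snd f f) ≫ f = sq.bot ≫ pullback.fst f f ≫ f := by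
    rw [Category.assoc, pullback.condition]
  have hb : sq.bot ≫ pullback.fst f f = sq.bot ≫ pullback.snd f f :=
    hu (sq.bot ≫ pullback.fst f f) (sq.bot ≫ pullback.snd f f) c1 c2 c3 c4
  refine ⟨sq.bot ≫ pullback.fst f f, c1, ?_⟩
  apply pullback.hom_ext
  · rw [Category.assoc, Category.assoc, pullback.diagonal_fst, Category.comp_id]
  · rw [Category.assoc, Category.assoc, pullback.diagonal_snd, Category.comp_id]
    exact hb

/-- The refined valuative criterion: separatedness. -/
theorem isUnivClosedMor_diagonal_of_refined {F G Ush : Sp S} (f : F ⟶ G) (h : Ush ⟶ F) (hF : IsAlgSpace F)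
    (hG : IsAlgSpace G) (hqs : IsQuasiSeparatedMor f) (hh : IsQuasiCompactMor h)
    (hd : DenseRange (Points.map h))
    (hv : ∀ sq : ValSq f, (∃ t : (yon S).obj sq.ptK ⟶ Ush, t ≫ h = sq.top) → sq.HasUniq ∧ sq.HasLiftExt) :
    IsUnivClosedMor (pullback.diagonal f) := by
  have hFF : IsAlgSpace (pullback f f) :=
    isAlgSpace_of_isPullback hF hG.diag hF (IsPullback.of_hasPullback f f)
  refine isUnivClosedMor_of_refined (pullback.diagonal f) h hF hFF
    (isQuasiCompactMor_of_repWith_quasiCompact _ hqs) hh hd ?_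
  intro sq ht
  refine ⟨?_, ?_⟩
  · intro l l' _ h2 _ h4
    have h5 : l ≫ pullback.diagonal f ≫ pullback.fst f f = l' ≫ pullback.diagonal f ≫ pullback.fst f f := by
      rw [← Category.assoc, h2, ← Category.assoc, h4]
    rwa [pullback.diagonal_fst, Category.comp_id, Category.comp_id] at h5
  · have hu : (diagSq sq).HasUniq := (hv (diagSq sq) ht).1
    exact ⟨trivDomExt sq, hasLift_domExt_of_hasLift (hasLift_diagonal_of_hasUniq sq hu) _⟩

end Groth.Agent.Lib.Helper16.ValCrit
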