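import Groth.Agent.Lib.Helper16.ValCrit12
import Groth.Agent.Lib.Helper7.ValSpecDvr

/-!
# Helper library (helper16): valuative criteria for algebraic spaces, part 13

Closedness on points from lifting properties of valuative squares attached to specializations; the version with
discrete valuation rings over a locally Noetherian affine base.
-/

set_option autoImplicit false
set_option linter.style.haveILetI false
universe u
open CategoryTheory CategoryTheory.Limits AlgebraicGeometry Opposite Topology TopologicalSpace IsLocalRing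

namespace Groth.Agent.Lib.Helper16.ValCrit

open AlgSp

variable {S : Scheme.{u}}

/-- Closedness on points from lifts of the valuative squares attached to (non-trivial) specializations. -/
theorem isClosedMap_of_lifts {P : Sp S} {T W : Over S} [IsAffine T.left] [CompactSpace ↥W.left]
    (w : (yon S).obj W ⟶ P) (hws : RepWith @Surjective w) (snd : P ⟶ (yon S).obj T) (h : W ⟶ T)
    (hh : (yon S).map h = w ≫ snd)
    (H : ∀ (c : ↥W.left) (t : ↥T.left), h.left c ⤳ t → t ≠ h.left c →
      ∃ (A : ValuationSubring (W.left.residueField c)) (a : Spec (CommRingCat.of A) ⟶ T.left)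
        (ha : Spec.map (CommRingCat.ofHom A.subtype) ≫ a = W.left.fromSpecResidueField c ≫ h.left),
        a (closedPoint A) = t ∧ (mkSq snd w h hh c A a ha).HasLiftExt) :
    IsClosedMap (Points.map snd) := by
  haveI : QuasiCompact h.left := (quasiCompact_iff_compactSpace h.left).2 inferInstance
  have hsurj := ofPt_surjective_of_surjective w hws
  intro C hC
  have hCWc : IsClosed (Points.ofPt w ⁻¹' C) := hC.preimage (Points.continuous_ofPt w)
  have himg : Points.map snd '' C = Points.schemeHomeo T '' (h.left '' (Points.ofPt w ⁻¹' C)) := by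
    ext y
    constructor
    · rintro ⟨c, hc, rfl⟩
      obtain ⟨c', rfl⟩ := hsurj c
      refine ⟨h.left c', ⟨c', hc, rfl⟩, ?_⟩
      rw [Points.map_ofPt, ← hh, ofPt_yon_map_eq_id]
      rfl
    · rintro ⟨_, ⟨c', hc', rfl⟩, rfl⟩
      refine ⟨Points.ofPt w c', hc', ?_⟩
      rw [Points.map_ofPt, ← hh, ofPt_yon_map_eq_id]
      rfl
  refine isClosed_of_closure_subset fun y hy => ?_
  obtain ⟨t, rfl⟩ := (Points.schemeHomeo T).surjective y
  have ht : t ∈ closure (h.left '' (Points.ofPt w ⁻¹' C)) := by
    rw [himg, ← (Points.schemeHomeo T).image_closure] at hy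
    obtain ⟨t', ht', htt⟩ := hy
    rwa [← (Points.schemeHomeo T).injective htt]
  obtain ⟨c, hc, hsp⟩ := FlatMonoSch.exists_specializes_of_mem_closure_image h.left _ hCWc t ht
  by_cases hne : t = h.left c
  · rw [himg]
    exact ⟨t, ⟨c, hc, hne.symm⟩, rfl⟩
  obtain ⟨A, a, ha2, ha1, e, l, hl1, hl2⟩ := H c t hsp hne
  haveI : IsLocalHom e.φ := e.isLocalHom
  refine ⟨Points.ofPt (T := e.ptA') l (closedPoint e.A'), ?_, ?_⟩
  · have hsp' : Points.ofPt (T := e.ptA') l
        (Spec.map (CommRingCat.ofHom (algebraMap e.A' e.K')) (closedPoint e.K')) ⤳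
        Points.ofPt (T := e.ptA') l (closedPoint e.A') :=
      (specializes_closedPoint _).map (Points.continuous_ofPt l)
    refine hsp'.mem_closed hC ?_
    have h1 := ofPt_yon_map_comp (Over.homMk (Spec.map (CommRingCat.ofHom (algebraMap e.A' e.K'))) rfl :
      e.ptK' ⟶ e.ptA') l (closedPoint e.K')
    rw [hl1, ofPt_yon_map_comp] at h1
    change _ = Points.ofPt (T := e.ptA') l
        (Spec.map (CommRingCat.ofHom (algebraMap e.A' e.K')) (closedPoint e.K')) at h1
    rw [← h1]
    change Points.ofPt ((yon S).map _ ≫ w) _ ∈ C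
    rw [ofPt_yon_map_comp]
    change Points.ofPt w (W.left.fromSpecResidueField c _) ∈ C
    rw [Scheme.fromSpecResidueField_apply]
    exact hc
  · rw [Points.map_ofPt, hl2]
    change Points.ofPt ((yon S).map _ ≫ (yon S).map (Over.homMk a rfl : Over.mk (a ≫ T.hom) ⟶ T)) _ = _
    rw [ofPt_yon_map_comp, ofPt_yon_map_eq_id]
    change Points.ofScheme T (a (Spec.map (CommRingCat.ofHom e.φ) (closedPoint e.A'))) = Points.ofScheme T t
    have : Spec.map (CommRingCat.ofHom e.φ) (closedPoint e.A') = closedPoint A :=
      comap_closedPoint e.φ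
    rw [this, ha1]

/-- A locally of finite type morphism from a quasi-compact sheaf to a locally Noetherian affine scheme all of whose
valuative squares over discrete valuation rings have a dotted arrow after extension is closed on points. -/
theorem isClosedMap_of_dvr_existVC {P : Sp S} (hPq : IsQuasiCompactSp P) {T : Over S} [IsAffine T.left]
    [IsLocallyNoetherian T.left] (snd : P ⟶ (yon S).obj T) (hlft : LocP @LocallyOfFiniteType snd)
    (he : ∀ sq : ValSq snd, IsDiscreteValuationRing sq.A → sq.HasLiftExt) :
    IsClosedMap (Points.map snd) := by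
  obtain ⟨W, w, hwe, hws, hWc⟩ := hPq
  haveI : CompactSpace ↥W.left := hWc
  obtain ⟨h, hh⟩ := (yon S).map_surjective (w ≫ snd)
  haveI : LocallyOfFiniteType h.left :=
    hlft w (𝟙 _) h hwe (repWith_id _ _) (by rw [hh, Category.comp_id])
  refine isClosedMap_of_lifts w hws snd h hh ?_
  intro c t hsp hne
  obtain ⟨A, a, hdvr, ha1, ha2⟩ :=
    Groth.Agent.Lib.Helper7.exists_dvr_through_specialization h.left c t hsp hne
  exact ⟨A, a, ha2, ha1, he (mkSq snd w h hh c A a ha2) hdvr⟩

end Groth.Agent.Lib.Helper16.ValCrit
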