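import Groth.Agent.Lib.Helper16.ValCrit1

/-!
# Helper library (helper16): valuative criteria for algebraic spaces, part 2

* `isUnivClosedMor_of_quasiCompact_existVC` for morphisms of sheaves;
* the strict existence part implies the existence part;
* the uniqueness part for `f` gives the strict existence part for the diagonal of `f`.
-/

set_option autoImplicit false
universe u
open CategoryTheory CategoryTheory.Limits AlgebraicGeometry Opposite Topology TopologicalSpace IsLocalRing

namespace Groth.Agent.Lib.Helper16.ValCrit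

open AlgSp

variable {S : Scheme.{u}}

theorem isUnivClosedMor_of_quasiCompact_existVC {F G : Sp S} (f : F ⟶ G) (hq : IsQuasiCompactMor f)
    (he : ExistVC f) : IsUnivClosedMor f := by
  refine (univSp_iff_affine isEtaleLocalOnBase_isClosedMor f).2 ?_
  intro Z hZ g P fst snd sq
  haveI := hZ
  have hPq : IsQuasiCompactSp P :=
    hq (IsAlgSpace.yon_obj Z) (isQuasiCompactSp_yon_of_compactSpace Z) g fst snd sq
  exact isClosedMap_of_existVC hPq snd (existVC_of_isPullback sq he)

theorem domExt_w {F G : Sp S} {f : F ⟶ G} {sq : ValSq f} (e : sq.DomExt) :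
    Spec.map (CommRingCat.ofHom e.ψ) ≫ sq.ptK.hom = e.ptK'.hom := by
  change Spec.map _ ≫ Spec.map _ ≫ _ = Spec.map _ ≫ Spec.map _ ≫ _
  rw [← Spec.map_comp_assoc, ← Spec.map_comp_assoc, ← CommRingCat.ofHom_comp, ← CommRingCat.ofHom_comp, e.comm]

theorem domExt_comm' {F G : Sp S} {f : F ⟶ G} {sq : ValSq f} (e : sq.DomExt) :
    (Over.homMk (Spec.map (CommRingCat.ofHom (algebraMap e.A' e.K'))) rfl : e.ptK' ⟶ e.ptA') ≫
      (Over.homMk (Spec.map (CommRingCat.ofHom e.φ)) rfl : e.ptA' ⟶ sq.ptA) =
    (Over.homMk (Spec.map (CommRingCat.ofHom e.ψ)) (domExt_w e) : e.ptK' ⟶ sq.ptK) ≫ sq.j :=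
  domExt_comm e _

/-- A dotted arrow of a valuative square gives a dotted arrow after every dominating extension. -/
theorem hasLift_domExt_of_hasLift {F G : Sp S} {f : F ⟶ G} {sq : ValSq f} (h : sq.HasLift) (e : sq.DomExt) :
    e.HasLift := by
  obtain ⟨l, hl1, hl2⟩ := h
  refine ⟨(yon S).map (Over.homMk (Spec.map (CommRingCat.ofHom e.φ)) rfl : e.ptA' ⟶ sq.ptA) ≫ l, ?_, ?_⟩
  · rw [← Category.assoc, ← Functor.map_comp, domExt_comm' e, Functor.map_comp, Category.assoc, hl1]
  · rw [Category.assoc, hl2]

/-- The trivial dominating extension. -/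
noncomputable def trivDomExt {F G : Sp S} {f : F ⟶ G} (sq : ValSq f) : sq.DomExt where
  A' := sq.A
  K' := sq.K
  φ := RingHom.id _
  ψ := RingHom.id _
  comm := by rw [RingHom.comp_id, RingHom.id_comp]
  isLocalHom := ⟨fun _ h => h⟩

theorem existVC_of_existVCStrict {F G : Sp S} {f : F ⟶ G} (h : ExistVCStrict f) : ExistVC f :=
  fun sq => ⟨trivDomExt sq, hasLift_domExt_of_hasLift (h sq) _⟩

/-- The square for `f` attached to a valuative square for the diagonal of `f`. -/
noncomputable def diagSq {F G : Sp S} {f : F ⟶ G} (sq : ValSq (pullback.diagonal f)) : ValSq f where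
  A := sq.A
  K := sq.K
  str := sq.str
  top := sq.top
  bot := sq.bot ≫ pullback.fst f f ≫ f
  comm := by
    have h1 : sq.top ≫ pullback.diagonal f ≫ pullback.fst f f ≫ f =
        ((yon S).map sq.j ≫ sq.bot) ≫ pullback.fst f f ≫ f := by rw [← sq.comm, Category.assoc]
    rw [pullback.diagonal_fst_assoc] at h1
    exact h1.trans (Category.assoc _ _ _)

/-- If `f` satisfies the uniqueness part of the valuative criterion, its diagonal satisfies the strict existence
part. -/
theorem existVCStrict_diagonal_of_uniqVC {F G : Sp S} {f : F ⟶ G} (hu : UniqVC f) :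
    ExistVCStrict (pullback.diagonal f) := by
  intro sq
  have c1 : (yon S).map sq.j ≫ sq.bot ≫ pullback.fst f f = sq.top := by
    rw [← Category.assoc, ← sq.comm, Category.assoc, pullback.diagonal_fst, Category.comp_id]
  have c3 : (yon S).map sq.j ≫ sq.bot ≫ pullback.snd f f = sq.top := by
    rw [← Category.assoc, ← sq.comm, Category.assoc, pullback.diagonal_snd, Category.comp_id]
  have c2 : (sq.bot ≫ pullback.fst f f) ≫ f = sq.bot ≫ pullback.fst f f ≫ f := Category.assoc _ _ _
  have c4 : (sq.bot ≫ pullback.snd f f) ≫ f = sq.bot ≫ pullback.fst f f ≫ f := by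
    rw [Category.assoc, pullback.condition]
  have hb : sq.bot ≫ pullback.fst f f = sq.bot ≫ pullback.snd f f :=
    hu (diagSq sq) (sq.bot ≫ pullback.fst f f) (sq.bot ≫ pullback.snd f f) c1 c2 c3 c4
  refine ⟨sq.bot ≫ pullback.fst f f, c1, ?_⟩
  apply pullback.hom_ext
  · rw [Category.assoc, Category.assoc, pullback.diagonal_fst, Category.comp_id]
  · rw [Category.assoc, Category.assoc, pullback.diagonal_snd, Category.comp_id]
    exact hb

end Groth.Agent.Lib.Helper16.ValCrit
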