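import Groth.Agent.Lib.Helper16.ValCrit3
import Groth.Agent.Lib.Helper16.LocPGen
import Groth.Agent.Lib.Helper16.EtLocal

/-!
# Helper library (helper16): valuative criteria for algebraic spaces, part 4

Lifting valuation rings along flat morphisms after a dominating extension.
-/

set_option autoImplicit false
universe u
open CategoryTheory CategoryTheory.Limits AlgebraicGeometry Opposite Topology TopologicalSpace IsLocalRing

namespace Groth.Agent.Lib.Helper16.ValCrit

open AlgSp

variable {S : Scheme.{u}}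

/-- Along a flat morphism to the spectrum of a valuation ring hitting the closed point there is a valuation ring
mapping to the source, injective and local over the given one. -/
theorem exists_valuationRing_lift_of_flat {A : Type u} [CommRing A] [IsDomain A] [ValuationRing A]
    {T' : Scheme.{u}} (π : T' ⟶ Spec (CommRingCat.of A)) [Flat π] (t' : ↥T') (ht' : π t' = closedPoint A) :
    ∃ (Ω : Type u) (_ : Field Ω) (A' : ValuationSubring Ω) (m : Spec (CommRingCat.of A') ⟶ T'),
      m (closedPoint A') = t' ∧ Function.Injective (Spec.preimage (m ≫ π)).hom ∧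
        IsLocalHom (Spec.preimage (m ≫ π)).hom := by
  obtain ⟨η, hη⟩ : ∃ η : PrimeSpectrum A, η.asIdeal = ⊥ := ⟨⟨⊥, Ideal.isPrime_bot⟩, rfl⟩
  have hsp : η ⤳ π t' := by
    rw [ht', ← PrimeSpectrum.le_iff_specializes]
    change η.asIdeal ≤ _
    rw [hη]
    exact bot_le
  obtain ⟨t'', ht''1, ht''2⟩ := (Flat.generalizingMap π) hsp
  obtain ⟨A', m, hm1, hm2⟩ := SchImgKer.exists_valuationSubring_of_specializes (𝟙 T') t'' t' ht''1
  refine ⟨T'.residueField t'', inferInstance, A', m, hm1, ?_, ?_⟩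
  · obtain ⟨z, hz⟩ : ∃ z : Spec (CommRingCat.of A'),
        z = Spec.map (CommRingCat.ofHom A'.subtype) (closedPoint (T'.residueField t'')) := ⟨_, rfl⟩
    have h1 : (m ≫ π) z = η := by
      rw [hz, Scheme.Hom.comp_apply, ← Scheme.Hom.comp_apply (Spec.map _) m, hm2, Category.comp_id,
        Scheme.fromSpecResidueField_apply, ht''2]
    rw [← Spec.map_preimage (m ≫ π)] at h1
    have h2 : Ideal.comap (Spec.preimage (m ≫ π)).hom z.asIdeal = ⊥ :=
      (congrArg PrimeSpectrum.asIdeal h1).trans hη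
    rw [injective_iff_map_eq_zero]
    intro a ha
    have h3 : a ∈ Ideal.comap (Spec.preimage (m ≫ π)).hom z.asIdeal := by
      rw [Ideal.mem_comap, ha]
      exact zero_mem _
    rw [h2] at h3
    exact h3
  · rw [isLocalHom_iff_comap_closedPoint]
    have h1 : (m ≫ π) (closedPoint A') = closedPoint A := by
      rw [Scheme.Hom.comp_apply, hm1, ht']
    rw [← Spec.map_preimage (m ≫ π)] at h1
    exact h1

/-- Along a flat morphism of algebraic spaces, a valuation ring whose closed point is hit lifts after an injective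
local extension. -/
theorem exists_lift_of_flat {X Y : Sp S} (hX : IsAlgSpace X) (hY : IsAlgSpace Y) (f : X ⟶ Y)
    (hf : LocP @Flat f) (A : Type u) [CommRing A] [IsDomain A] [ValuationRing A]
    (str : Spec (.of A) ⟶ S) (b : (yon S).obj (Over.mk str) ⟶ Y)
    (hb : Points.ofPt b (closedPoint A) ∈ Set.range (Points.map f)) :
    ∃ (Ω : Type u) (_ : Field Ω) (A' : ValuationSubring Ω) (φ : A →+* A'),
      Function.Injective φ ∧ IsLocalHom φ ∧
      ∃ l : (yon S).obj (Over.mk (Spec.map (CommRingCat.ofHom φ) ≫ str)) ⟶ X,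
        l ≫ f = (yon S).map (Over.homMk (Spec.map (CommRingCat.ofHom φ)) rfl :
          Over.mk (Spec.map (CommRingCat.ofHom φ) ≫ str) ⟶ Over.mk str) ≫ b := by
  obtain ⟨x, hx⟩ := hb
  have psq := IsPullback.of_hasPullback f b
  have hP₀ : IsAlgSpace (pullback f b) :=
    isAlgSpace_of_isPullback hX hY.diag (IsAlgSpace.yon_obj _) psq
  obtain ⟨z, hz1, hz2⟩ := exists_point_of_isPullback psq x (Points.ofScheme (Over.mk str) (closedPoint A))
    (by rw [hx, ← Points.ofPt_eq_map_ofScheme])
  obtain ⟨T', c₀, hc₀e, hc₀s⟩ := hP₀.atlas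
  obtain ⟨t', rfl⟩ := ofPt_surjective_of_surjective c₀ hc₀s z
  obtain ⟨π, hπ⟩ := (yon S).map_surjective (c₀ ≫ pullback.snd f b)
  have hπt : π.left t' = closedPoint A := by
    apply ofScheme_injective (Over.mk str)
    rw [← hz2, Points.map_ofPt, ← hπ, ofPt_yon_map_eq_id]
  obtain ⟨πl, hπl⟩ : ∃ πl : T'.left ⟶ Spec (CommRingCat.of A), πl = π.left := ⟨_, rfl⟩
  haveI hflat : Flat πl := by
    rw [hπl]
    have h1 : LocP @Flat (pullback.snd f b) := locP_of_isPullback etLocalST_flat hX hY psq hf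
    exact h1 c₀ (𝟙 _) π hc₀e (repWith_id _ _) (by rw [Category.comp_id, hπ])
  obtain ⟨Ω, _, A', m, hm1, hinj, hloc⟩ := exists_valuationRing_lift_of_flat πl t' (by rw [hπl]; exact hπt)
  refine ⟨Ω, inferInstance, A', (Spec.preimage (m ≫ πl)).hom, hinj, hloc, ?_⟩
  have hφ : Spec.map (CommRingCat.ofHom (Spec.preimage (m ≫ πl)).hom) = m ≫ πl := by
    rw [CommRingCat.ofHom_hom, Spec.map_preimage]
  have hw : m ≫ T'.hom = Spec.map (CommRingCat.ofHom (Spec.preimage (m ≫ πl)).hom) ≫ str := by
    rw [hφ, Category.assoc, hπl]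
    exact congrArg (m ≫ ·) (Over.w π).symm
  obtain ⟨m', hm'⟩ : ∃ m' : Over.mk (Spec.map (CommRingCat.ofHom (Spec.preimage (m ≫ πl)).hom) ≫ str) ⟶ T',
    m'.left = m := ⟨Over.homMk m hw, rfl⟩
  refine ⟨(yon S).map m' ≫ c₀ ≫ pullback.fst f b, ?_⟩
  rw [Category.assoc, Category.assoc, pullback.condition, ← Category.assoc c₀, ← hπ, ← Category.assoc,
    ← Functor.map_comp]
  congr 2
  apply Over.OverMorphism.ext
  simp only [Over.comp_left, Over.homMk_left]
  rw [hm', hφ, hπl]

end Groth.Agent.Lib.Helper16.ValCrit
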