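import Groth.Agent.Lib.Helper16.ValCrit5

/-!
# Helper library (helper16): valuative criteria for algebraic spaces, part 6

In the existence part of the valuative criterion one may restrict to finite separable extensions.
-/

set_option autoImplicit false
set_option linter.style.haveILetI false
universe u
open CategoryTheory CategoryTheory.Limits AlgebraicGeometry Opposite Topology TopologicalSpace IsLocalRing

namespace Groth.Agent.Lib.Helper16.ValCrit

open AlgSp

variable {S : Scheme.{u}}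

/-- The fibre product of an etale chart with a scheme-valued point, as a scheme. -/
theorem exists_isPullback_of_repWith_etale {F : Sp S} {U T : Over S} (a : (yon S).obj U ⟶ F)
    (hae : RepWith @Etale a) (x : (yon S).obj T ⟶ F) :
    ∃ (R : Over S) (s : R ⟶ U) (r : R ⟶ T), IsPullback ((yon S).map s) ((yon S).map r) a x ∧ Etale r.left := by
  have sq := hae.rep.isPullback x
  obtain ⟨s, hs⟩ := (yon S).map_surjective (hae.rep.fst x)
  rw [← hs] at sq
  exact ⟨_, s, hae.rep.snd x, sq, hae.property_snd x⟩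

theorem exists_isPullback_of_repWith_etale_surjective {F : Sp S} {U T : Over S} (a : (yon S).obj U ⟶ F)
    (hae : RepWith @Etale a) (has : RepWith @Surjective a) (x : (yon S).obj T ⟶ F) :
    ∃ (R : Over S) (s : R ⟶ U) (r : R ⟶ T), IsPullback ((yon S).map s) ((yon S).map r) a x ∧ Etale r.left ∧
      Surjective r.left := by
  have sq := hae.rep.isPullback x
  obtain ⟨s, hs⟩ := (yon S).map_surjective (hae.rep.fst x)
  rw [← hs] at sq
  exact ⟨_, s, hae.rep.snd x, sq, hae.property_snd x, has.property _ _ _ (hae.rep.isPullback x)⟩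

/-- Restricting a valuation ring through which a morphism factors to a subfield through which the generic point
factors. -/
theorem exists_comap_lift {U : Scheme.{u}} {Ω K₁ : Type u} [Field Ω] [Field K₁]
    (C : ValuationSubring Ω) (n : Spec (CommRingCat.of C) ⟶ U) (ι : K₁ →+* Ω)
    (α₁ : Spec (CommRingCat.of K₁) ⟶ U)
    (h : Spec.map (CommRingCat.ofHom ι) ≫ α₁ = Spec.map (CommRingCat.ofHom (algebraMap C Ω)) ≫ n) :
    ∃ n₁ : Spec (CommRingCat.of (C.comap ι)) ⟶ U,
      Spec.map (CommRingCat.ofHom (algebraMap (C.comap ι) K₁)) ≫ n₁ = α₁ ∧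
      Spec.map (CommRingCat.ofHom ((ι.comp (C.comap ι).subtype).codRestrict C.toSubring
        (fun x => x.2))) ≫ n₁ = n := by
  obtain ⟨u, hu⟩ : ∃ u : ↥U, u = n (closedPoint C) := ⟨_, rfl⟩
  obtain ⟨lam, hlamdef⟩ : ∃ lam : U.presheaf.stalk (n (closedPoint C)) ⟶ CommRingCat.of C,
    lam = Scheme.stalkClosedPointTo n := ⟨_, rfl⟩
  have hlam : Spec.map lam ≫ U.fromSpecStalk (n (closedPoint C)) = n := by
    rw [hlamdef]; exact Scheme.Spec_stalkClosedPointTo_fromSpecStalk n
  have hgen : α₁ (closedPoint K₁) ⤳ n (closedPoint C) := by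
    have h1 : α₁ (closedPoint K₁) = n (Spec.map (CommRingCat.ofHom (algebraMap C Ω)) (closedPoint Ω)) := by
      have h2 : Spec.map (CommRingCat.ofHom ι) (closedPoint Ω) = closedPoint K₁ :=
        @Subsingleton.elim _ (inferInstance : Subsingleton (PrimeSpectrum K₁)) _ _
      rw [← h2, ← Scheme.Hom.comp_apply, h, Scheme.Hom.comp_apply]
    rw [h1]
    exact (specializes_closedPoint _).map n.continuous
  obtain ⟨θ₁, hθ₁def⟩ : ∃ θ₁ : U.presheaf.stalk (n (closedPoint C)) ⟶ CommRingCat.of K₁,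
    θ₁ = U.presheaf.stalkSpecializes hgen ≫ Scheme.stalkClosedPointTo α₁ := ⟨_, rfl⟩
  have hθ₁ : Spec.map θ₁ ≫ U.fromSpecStalk (n (closedPoint C)) = α₁ := by
    rw [hθ₁def, Spec.map_comp, Category.assoc, Scheme.SpecMap_stalkSpecializes_fromSpecStalk,
      Scheme.Spec_stalkClosedPointTo_fromSpecStalk]
  have key : θ₁ ≫ CommRingCat.ofHom ι = lam ≫ CommRingCat.ofHom (algebraMap C Ω) := by
    apply Spec.map_injective
    rw [← cancel_mono (U.fromSpecStalk (n (closedPoint C))), Spec.map_comp, Category.assoc, hθ₁,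
      Spec.map_comp, Category.assoc, hlam]
    exact h
  have hkey : ∀ r, ι (θ₁.hom r) = ((lam.hom r : C) : Ω) := fun r =>
    congrArg (fun m => m.hom r) key
  have hmem : ∀ r, θ₁.hom r ∈ (C.comap ι).toSubring := by
    intro r
    change ι (θ₁.hom r) ∈ C
    rw [hkey]
    exact (lam.hom r).2
  obtain ⟨θ₁', hθ₁'⟩ : ∃ θ₁' : U.presheaf.stalk (n (closedPoint C)) ⟶ CommRingCat.of (C.comap ι),
    θ₁' = CommRingCat.ofHom (θ₁.hom.codRestrict _ hmem) := ⟨_, rfl⟩
  refine ⟨Spec.map θ₁' ≫ U.fromSpecStalk (n (closedPoint C)), ?_, ?_⟩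
  · have h1 : θ₁' ≫ CommRingCat.ofHom (algebraMap (C.comap ι) K₁) = θ₁ := by
      rw [hθ₁']
      exact CommRingCat.hom_ext (RingHom.ext fun r => rfl)
    rw [← Category.assoc, ← Spec.map_comp, h1, hθ₁]
  · have h1 : θ₁' ≫ CommRingCat.ofHom ((ι.comp (C.comap ι).subtype).codRestrict C.toSubring
        (fun x => x.2)) = lam := by
      rw [hθ₁']
      exact CommRingCat.hom_ext (RingHom.ext fun r => Subtype.ext (hkey r))
    rw [← Category.assoc, ← Spec.map_comp, h1, hlam]

/-- The scheme-level core: a valuation ring of the residue field of a point of the fibre over the generic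
point. -/
theorem exists_valuationSubring_residueField {A K : Type u} [CommRing A] [IsDomain A] [ValuationRing A]
    [Field K] [Algebra A K] [IsFractionRing A K] {U UK : Scheme.{u}}
    (hUl : U ⟶ Spec (CommRingCat.of A)) (sKl : UK ⟶ U) (rKl : UK ⟶ Spec (CommRingCat.of K))
    (hsr : sKl ≫ hUl = rKl ≫ Spec.map (CommRingCat.ofHom (algebraMap A K)))
    {Ω : Type u} [Field Ω] (ωl : Spec (CommRingCat.of Ω) ⟶ UK) (u : ↥U) (hUu : hUl u = closedPoint A)
    (hsp : (ωl ≫ sKl) (closedPoint Ω) ⤳ u) :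
    ∃ (A₁ : ValuationSubring (UK.residueField (ωl (closedPoint Ω)))) (n₁ : Spec (CommRingCat.of A₁) ⟶ U)
      (φ₁ : A →+* A₁),
      Spec.map (CommRingCat.ofHom (algebraMap A₁ (UK.residueField (ωl (closedPoint Ω))))) ≫ n₁ =
        UK.fromSpecResidueField (ωl (closedPoint Ω)) ≫ sKl ∧
      Spec.map (CommRingCat.ofHom φ₁) = n₁ ≫ hUl ∧ IsLocalHom φ₁ ∧
      (algebraMap A₁ (UK.residueField (ωl (closedPoint Ω)))).comp φ₁ =
        (Spec.preimage (UK.fromSpecResidueField (ωl (closedPoint Ω)) ≫ rKl)).hom.comp (algebraMap A K) := by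
  obtain ⟨C, n, hn1, hn2⟩ := exists_valuationSubring_lift (ωl ≫ sKl) u hsp
  obtain ⟨ιc, hιcdef⟩ : ∃ ιc : UK.residueField (ωl (closedPoint Ω)) ⟶ CommRingCat.of Ω,
    ιc = UK.descResidueField (Scheme.stalkClosedPointTo ωl) := ⟨_, rfl⟩
  have hι : Spec.map ιc ≫ UK.fromSpecResidueField (ωl (closedPoint Ω)) = ωl := by
    rw [hιcdef]
    exact Scheme.descResidueField_stalkClosedPointTo_fromSpecResidueField Ω UK ωl
  have hG : Spec.map ιc ≫ (UK.fromSpecResidueField (ωl (closedPoint Ω)) ≫ sKl) =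
      Spec.map (CommRingCat.ofHom (algebraMap C Ω)) ≫ n := by
    rw [← Category.assoc, hι]
    exact hn2.symm
  obtain ⟨n₁, hn₁1, hn₁2⟩ := exists_comap_lift C n ιc.hom
    (UK.fromSpecResidueField (ωl (closedPoint Ω)) ≫ sKl) (by rw [CommRingCat.ofHom_hom]; exact hG)
  -- the ring map `A → C`
  obtain ⟨ν, hν⟩ : ∃ ν : CommRingCat.of A ⟶ CommRingCat.of C, ν = Spec.preimage (n ≫ hUl) := ⟨_, rfl⟩
  have hνmap : Spec.map ν = n ≫ hUl := by rw [hν, Spec.map_preimage]
  have hνloc : IsLocalHom ν.hom := by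
    rw [isLocalHom_iff_comap_closedPoint]
    have h1 : (n ≫ hUl) (closedPoint C) = closedPoint A := by rw [Scheme.Hom.comp_apply, hn1, hUu]
    rw [← hνmap] at h1
    exact h1
  obtain ⟨ψ₁, hψ₁⟩ : ∃ ψ₁ : CommRingCat.of K ⟶ UK.residueField (ωl (closedPoint Ω)),
    ψ₁ = Spec.preimage (UK.fromSpecResidueField (ωl (closedPoint Ω)) ≫ rKl) := ⟨_, rfl⟩
  have hψ₁map : Spec.map ψ₁ = UK.fromSpecResidueField (ωl (closedPoint Ω)) ≫ rKl := by
    rw [hψ₁, Spec.map_preimage]
  rw [← hψ₁]
  have e1 : Spec.map ιc ≫ UK.fromSpecResidueField (ωl (closedPoint Ω)) ≫ rKl ≫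
      Spec.map (CommRingCat.ofHom (algebraMap A K)) = ωl ≫ sKl ≫ hUl := by
    rw [← Category.assoc, hι, hsr]
  have e2 : Spec.map (CommRingCat.ofHom (algebraMap C Ω)) ≫ n ≫ hUl = ωl ≫ sKl ≫ hUl := by
    rw [← Category.assoc, hn2, Category.assoc]
  have key : CommRingCat.ofHom (algebraMap A K) ≫ ψ₁ ≫ ιc = ν ≫ CommRingCat.ofHom (algebraMap C Ω) := by
    apply Spec.map_injective
    simp only [Spec.map_comp, Category.assoc, hψ₁map, hνmap]
    rw [e1, e2]
  have hkey : ∀ a : A, ιc.hom (ψ₁.hom (algebraMap A K a)) = ((ν.hom a : C) : Ω) := fun a =>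
    congrArg (fun m => m.hom a) key
  have hmem : ∀ a : A, (ψ₁.hom.comp (algebraMap A K)) a ∈ (C.comap ιc.hom).toSubring := by
    intro a
    change ιc.hom (ψ₁.hom (algebraMap A K a)) ∈ C
    rw [hkey]
    exact (ν.hom a).2
  refine ⟨C.comap ιc.hom, n₁, (ψ₁.hom.comp (algebraMap A K)).codRestrict _ hmem, hn₁1, ?_, ?_, ?_⟩
  · obtain ⟨ρ, hρ⟩ : ∃ ρ : CommRingCat.of A ⟶ CommRingCat.of (C.comap ιc.hom), ρ = Spec.preimage (n₁ ≫ hUl) :=
      ⟨_, rfl⟩
    have hρmap : Spec.map ρ = n₁ ≫ hUl := by rw [hρ, Spec.map_preimage]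
    have h0 : CommRingCat.ofHom ((ψ₁.hom.comp (algebraMap A K)).codRestrict _ hmem) ≫
        CommRingCat.ofHom (algebraMap (C.comap ιc.hom) (UK.residueField (ωl (closedPoint Ω)))) =
        CommRingCat.ofHom (algebraMap A K) ≫ ψ₁ := CommRingCat.hom_ext (RingHom.ext fun a => rfl)
    have h2 : Spec.map (ρ ≫ CommRingCat.ofHom (algebraMap (C.comap ιc.hom)
          (UK.residueField (ωl (closedPoint Ω))))) =
        Spec.map (CommRingCat.ofHom ((ψ₁.hom.comp (algebraMap A K)).codRestrict _ hmem) ≫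
          CommRingCat.ofHom (algebraMap (C.comap ιc.hom) (UK.residueField (ωl (closedPoint Ω))))) := by
      rw [h0, Spec.map_comp, hρmap, ← Category.assoc, hn₁1, Spec.map_comp, hψ₁map, Category.assoc,
        Category.assoc, hsr]
    have h3 := Spec.map_injective h2
    have h4 : ρ = CommRingCat.ofHom ((ψ₁.hom.comp (algebraMap A K)).codRestrict _ hmem) :=
      CommRingCat.hom_ext (RingHom.ext fun a => Subtype.ext (congrArg (fun m => m.hom a) h3))
    rw [← h4, hρmap]
  · refine ⟨fun a ha => ?_⟩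
    have h1 : IsUnit (((ιc.hom.comp (C.comap ιc.hom).subtype).codRestrict C.toSubring (fun x => x.2))
        (((ψ₁.hom.comp (algebraMap A K)).codRestrict _ hmem) a)) := ha.map _
    have h2 : ((ιc.hom.comp (C.comap ιc.hom).subtype).codRestrict C.toSubring (fun x => x.2))
        (((ψ₁.hom.comp (algebraMap A K)).codRestrict _ hmem) a) = ν.hom a := Subtype.ext (hkey a)
    rw [h2] at h1
    exact hνloc.map_nonunit a h1
  · exact RingHom.ext fun a => rfl

end Groth.Agent.Lib.Helper16.ValCrit
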