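import Mathlib
import Groth.Agent.Lib.Helper17.ValDense

/-!
# Helper library (helper16): valuative criteria for algebraic spaces, part 8

Pure algebra for the refined valuative criterion:

* the enlargement `Enl κ` of a local ring `O` along a local homomorphism `κ : O → K` to a field: a local
  `O`-algebra whose residue field is exactly `K`;
* `exists_refined_valuationSubrings`: composite valuation rings `W ≤ V₁` with a map `K → κ(V₁)`;
* `exists_overring_dominating`: the overring of a dominating extension of `W` dominating `V₁`;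
* `exists_final_extension`: the assembled final dominating extension.
-/

set_option autoImplicit false
set_option linter.style.haveILetI false
universe u
open IsLocalRing

namespace Groth.Agent.Lib.Helper16.ValCrit

section Enl

variable {O K : Type u} [CommRing O] [Field K] (κ : O →+* K)

/-- Evaluation `O[X_k : k ∈ K] → K`, `X_k ↦ k`. -/
noncomputable def enlEval : MvPolynomial K O →+* K := MvPolynomial.eval₂Hom κ id

theorem enlEval_X (k : K) : enlEval κ (MvPolynomial.X k) = k := by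
  simp [enlEval]

theorem enlEval_C (x : O) : enlEval κ (MvPolynomial.C x) = κ x := by
  simp [enlEval]

instance enlEval_ker_isPrime : (RingHom.ker (enlEval κ)).IsPrime := RingHom.ker_isPrime _

/-- The enlargement: the localization of `O[X_k : k ∈ K]` at the kernel of the evaluation. -/
abbrev Enl : Type u := Localization.AtPrime (RingHom.ker (enlEval κ))

/-- The structure map `O → Enl κ`. -/
noncomputable def enlIncl : O →+* Enl κ :=
  (algebraMap (MvPolynomial K O) (Enl κ)).comp MvPolynomial.C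

/-- The residue map `Enl κ → K`. -/
noncomputable def enlRes : Enl κ →+* K :=
  IsLocalization.lift (M := (RingHom.ker (enlEval κ)).primeCompl) (S := Enl κ) (g := enlEval κ)
    (fun y => isUnit_iff_ne_zero.2 fun h => y.2 (RingHom.mem_ker.2 h))

theorem enlRes_algebraMap (q : MvPolynomial K O) :
    enlRes κ (algebraMap (MvPolynomial K O) (Enl κ) q) = enlEval κ q :=
  IsLocalization.lift_eq _ _

theorem enlRes_enlIncl (x : O) : enlRes κ (enlIncl κ x) = κ x := by
  rw [enlIncl, RingHom.comp_apply, enlRes_algebraMap, enlEval_C]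

theorem enlRes_surjective : Function.Surjective (enlRes κ) := fun k =>
  ⟨algebraMap (MvPolynomial K O) (Enl κ) (MvPolynomial.X k), by rw [enlRes_algebraMap, enlEval_X]⟩

instance enlRes_isLocalHom : IsLocalHom (enlRes κ) := IsLocalHom.of_surjective _ (enlRes_surjective κ)

variable [IsLocalHom κ] {L₀ : Type u} [Field L₀] (φ₀ : O →+* L₀)

theorem enlEval_eq_zero_of_map_eq_zero (q : MvPolynomial K O) (hq : MvPolynomial.map φ₀ q = 0) :
    enlEval κ q = 0 := by
  have hcoeff : ∀ m, κ (q.coeff m) = 0 := by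
    intro m
    have h1 : φ₀ (q.coeff m) = 0 := by
      have := congrArg (MvPolynomial.coeff m) hq
      rwa [MvPolynomial.coeff_map, MvPolynomial.coeff_zero] at this
    by_contra h0
    have hu : IsUnit (q.coeff m) := IsUnit.of_map κ _ (isUnit_iff_ne_zero.2 h0)
    have h2 := hu.map φ₀
    rw [h1] at h2
    exact not_isUnit_zero h2
  have h2 : MvPolynomial.map κ q = 0 := by
    ext m
    rw [MvPolynomial.coeff_map, hcoeff, MvPolynomial.coeff_zero]
  rw [enlEval, MvPolynomial.coe_eval₂Hom, MvPolynomial.eval₂_eq_eval_map, h2, map_zero]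

/-- The map from the enlargement to the field of rational functions over `L₀`. -/
noncomputable def enlToAmalg : Enl κ →+* FractionRing (MvPolynomial K L₀) :=
  IsLocalization.lift (M := (RingHom.ker (enlEval κ)).primeCompl) (S := Enl κ)
    (g := (algebraMap (MvPolynomial K L₀) (FractionRing (MvPolynomial K L₀))).comp (MvPolynomial.map φ₀))
    (fun y => by
      rw [isUnit_iff_ne_zero, RingHom.comp_apply]
      intro h0
      have h1 : MvPolynomial.map φ₀ (y : MvPolynomial K O) = 0 :=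
        IsFractionRing.injective (MvPolynomial K L₀) (FractionRing (MvPolynomial K L₀))
          (by rw [h0, map_zero])
      exact y.2 (RingHom.mem_ker.2 (enlEval_eq_zero_of_map_eq_zero κ φ₀ _ h1)))

theorem enlToAmalg_enlIncl (x : O) :
    enlToAmalg κ φ₀ (enlIncl κ x) =
      algebraMap (MvPolynomial K L₀) (FractionRing (MvPolynomial K L₀)) (MvPolynomial.C (φ₀ x)) := by
  rw [enlIncl, RingHom.comp_apply, enlToAmalg, IsLocalization.lift_eq, RingHom.comp_apply, MvPolynomial.map_C]

end Enl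

/-- Composite valuation rings for the refined valuative criterion. -/
theorem exists_refined_valuationSubrings {O K L₀ : Type u} [CommRing O] [Field K] [Field L₀]
    (κ : O →+* K) [IsLocalHom κ] (VK : ValuationSubring K) (φ₀ : O →+* L₀) :
    ∃ (L : Type u) (_ : Field L) (j : L₀ →+* L) (W V₁ : ValuationSubring L) (hWV : W ≤ V₁)
      (θ : O →+* V₁) (ρ : K →+* ResidueField V₁),
      (∀ b, ((θ b : V₁) : L) = j (φ₀ b)) ∧ (∀ b, residue V₁ (θ b) = ρ (κ b)) ∧
      (∀ b, κ b ∈ VK → j (φ₀ b) ∈ W) ∧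
      (∀ a ∈ VK, ∃ z : L, ∃ hz : z ∈ W, residue V₁ ⟨z, hWV hz⟩ = ρ a ∧
        (W.valuation z = 1 → VK.valuation a = 1)) := by
  obtain ⟨W, V₁, hWV, ha, hb, hc, hd⟩ :=
    Groth.Agent.Lib.Helper17.ValDense.exists_valuationSubrings (enlRes κ) VK (enlToAmalg κ φ₀)
  let θ' : Enl κ →+* V₁ := (enlToAmalg κ φ₀).codRestrict V₁.toSubring hc
  have hker : RingHom.ker (enlRes κ) ≤ RingHom.ker ((residue V₁).comp θ') := by
    intro x hx
    rw [RingHom.mem_ker] at hx ⊢
    have hxm : x ∈ maximalIdeal (Enl κ) := by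
      rw [mem_maximalIdeal, mem_nonunits_iff]
      intro hu
      have h1 := hu.map (enlRes κ)
      rw [hx] at h1
      exact not_isUnit_zero h1
    rw [RingHom.comp_apply, residue_eq_zero_iff, ValuationSubring.valuation_lt_one_iff]
    exact hd x hxm
  let ρ : K →+* ResidueField V₁ :=
    RingHom.liftOfSurjective (enlRes κ) (enlRes_surjective κ) ⟨(residue V₁).comp θ', hker⟩
  have hρ : ∀ x, ρ (enlRes κ x) = residue V₁ (θ' x) := fun x =>
    RingHom.liftOfSurjective_comp_apply (enlRes κ) (enlRes_surjective κ) ⟨(residue V₁).comp θ', hker⟩ x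
  let j : L₀ →+* FractionRing (MvPolynomial K L₀) :=
    (algebraMap (MvPolynomial K L₀) (FractionRing (MvPolynomial K L₀))).comp MvPolynomial.C
  have hφ' : ∀ x, enlToAmalg κ φ₀ (enlIncl κ x) = j (φ₀ x) := fun x => enlToAmalg_enlIncl κ φ₀ x
  refine ⟨FractionRing (MvPolynomial K L₀), inferInstance, j, W, V₁, hWV, θ'.comp (enlIncl κ), ρ, ?_, ?_, ?_, ?_⟩
  · intro b
    exact hφ' b
  · intro b
    rw [RingHom.comp_apply, ← hρ, enlRes_enlIncl]
  · intro b hbV
    rw [← hφ']
    exact ha _ (by rwa [enlRes_enlIncl])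
  · intro a haV
    obtain ⟨b, rfl⟩ := enlRes_surjective κ a
    refine ⟨enlToAmalg κ φ₀ b, ha b haV, ?_, ?_⟩
    · rw [hρ]
      rfl
    · intro h1
      by_contra hne
      have hlt : VK.valuation (enlRes κ b) < 1 := lt_of_le_of_ne ((VK.valuation_le_one_iff _).2 haV) hne
      exact absurd h1 (ne_of_lt (hb b hlt))

/-- Given valuation rings `W ≤ V₁` of `L` and a dominating extension `A' ⊆ K'` of `W`, there is an overring `V₁'` of
`A'` dominating `V₁`. -/
theorem exists_overring_dominating {L K' A' : Type u} [Field L] [Field K'] [CommRing A'] [IsDomain A']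
    [ValuationRing A'] [Algebra A' K'] [IsFractionRing A' K'] (W V₁ : ValuationSubring L) (hWV : W ≤ V₁)
    (φc : W →+* A') (hφc : IsLocalHom φc) (ψc : L →+* K')
    (hcomm : ∀ z : W, algebraMap A' K' (φc z) = ψc z) :
    ∃ V₁' : ValuationSubring K', (∀ x : A', algebraMap A' K' x ∈ V₁') ∧ (∀ x ∈ V₁, ψc x ∈ V₁') ∧
      (∀ x : L, V₁.valuation x < 1 → V₁'.valuation (ψc x) < 1) := by
  haveI := hφc
  let AK : ValuationSubring K' := (ValuationRing.valuation A' K').valuationSubring
  have hAK : ∀ z : K', z ∈ AK ↔ ∃ r, algebraMap A' K' r = z := by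
    intro z
    rw [Valuation.mem_valuationSubring_iff, ← Valuation.mem_integer_iff, ValuationRing.mem_integer_iff]
  have hψW : ∀ s (hs : s ∈ W), ψc s ∈ AK := fun s hs => (hAK _).2 ⟨φc ⟨s, hs⟩, hcomm ⟨s, hs⟩⟩
  let D : Subring K' :=
    { carrier := {z | ∃ s : L, s ∈ W ∧ s⁻¹ ∈ V₁ ∧ s ≠ 0 ∧ z * ψc s ∈ AK}
      mul_mem' := by
        rintro z₁ z₂ ⟨s₁, h1, h1', h1'', h1'''⟩ ⟨s₂, h2, h2', h2'', h2'''⟩
        refine ⟨s₁ * s₂, mul_mem h1 h2, ?_, mul_ne_zero h1'' h2'', ?_⟩
        · rw [mul_inv]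
          exact mul_mem h1' h2'
        · have : z₁ * z₂ * ψc (s₁ * s₂) = (z₁ * ψc s₁) * (z₂ * ψc s₂) := by
            rw [map_mul]
            ring
          rw [this]
          exact mul_mem h1''' h2'''
      one_mem' := ⟨1, one_mem _, by rw [inv_one]; exact one_mem _, one_ne_zero, by
        rw [map_one, mul_one]; exact one_mem _⟩
      add_mem' := by
        rintro z₁ z₂ ⟨s₁, h1, h1', h1'', h1'''⟩ ⟨s₂, h2, h2', h2'', h2'''⟩
        refine ⟨s₁ * s₂, mul_mem h1 h2, ?_, mul_ne_zero h1'' h2'', ?_⟩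
        · rw [mul_inv]
          exact mul_mem h1' h2'
        · have : (z₁ + z₂) * ψc (s₁ * s₂) = (z₁ * ψc s₁) * ψc s₂ + (z₂ * ψc s₂) * ψc s₁ := by
            rw [map_mul]
            ring
          rw [this]
          exact add_mem (mul_mem h1''' (hψW _ h2)) (mul_mem h2''' (hψW _ h1))
      zero_mem' := ⟨1, one_mem _, by rw [inv_one]; exact one_mem _, one_ne_zero, by
        rw [zero_mul]; exact zero_mem _⟩
      neg_mem' := by
        rintro z ⟨s, h1, h1', h1'', h1'''⟩
        exact ⟨s, h1, h1', h1'', by rw [neg_mul]; exact neg_mem h1'''⟩ }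
  have hAKD : AK.toSubring ≤ D := fun z hz =>
    ⟨1, one_mem _, by rw [inv_one]; exact one_mem _, one_ne_zero, by rw [map_one, mul_one]; exact hz⟩
  let V₁' : ValuationSubring K' := ValuationSubring.ofLE AK D hAKD
  have hmemD : ∀ z, z ∈ V₁' ↔ ∃ s : L, s ∈ W ∧ s⁻¹ ∈ V₁ ∧ s ≠ 0 ∧ z * ψc s ∈ AK := fun z => Iff.rfl
  have h2 : ∀ x ∈ V₁, ψc x ∈ V₁' := by
    intro x hx
    rcases W.mem_or_inv_mem x with hxW | hxW
    · exact hAKD (hψW x hxW)
    · by_cases hx0 : x = 0
      · rw [hx0, map_zero]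
        exact zero_mem _
      · refine (hmemD _).2 ⟨x⁻¹, hxW, by rwa [inv_inv], inv_ne_zero hx0, ?_⟩
        rw [← map_mul, mul_inv_cancel₀ hx0, map_one]
        exact one_mem _
  refine ⟨V₁', fun x => hAKD ((hAK _).2 ⟨x, rfl⟩), h2, ?_⟩
  intro x hx
  by_contra hge
  rw [not_lt] at hge
  have hx0 : x ≠ 0 := by
    rintro rfl
    rw [map_zero, map_zero] at hge
    exact absurd hge (not_le.2 zero_lt_one)
  have hinv : (ψc x)⁻¹ ∈ V₁' := by
    rw [← V₁'.valuation_le_one_iff, map_inv₀]
    exact inv_le_one_of_one_le₀ hge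
  obtain ⟨s, hsW, hsV, hs0, hs⟩ := (hmemD _).1 hinv
  obtain ⟨r, hr⟩ := (hAK _).1 hs
  have ht : x⁻¹ * s ∈ W := by
    by_contra hnot
    have h := (W.mem_or_inv_mem (x⁻¹ * s)).resolve_left hnot
    have ht0 : x⁻¹ * s ≠ 0 := mul_ne_zero (inv_ne_zero hx0) hs0
    have h1 : algebraMap A' K' (φc ⟨(x⁻¹ * s)⁻¹, h⟩ * r) = 1 := by
      rw [map_mul, hcomm, hr]
      show ψc (x⁻¹ * s)⁻¹ * ((ψc x)⁻¹ * ψc s) = 1
      rw [← map_inv₀, ← map_mul, ← map_mul, inv_mul_cancel₀ ht0, map_one]
    have h2' : φc ⟨(x⁻¹ * s)⁻¹, h⟩ * r = 1 := IsFractionRing.injective A' K' (by rw [h1, map_one])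
    have h3 : IsUnit (φc ⟨(x⁻¹ * s)⁻¹, h⟩) := IsUnit.of_mul_eq_one _ h2'
    have h4 : IsUnit (⟨(x⁻¹ * s)⁻¹, h⟩ : W) := isUnit_of_map_unit φc _ h3
    have h5 : W.valuation (x⁻¹ * s)⁻¹ = 1 := (W.valuation_eq_one_iff ⟨(x⁻¹ * s)⁻¹, h⟩).1 h4
    rw [map_inv₀, inv_eq_one] at h5
    exact hnot ((W.valuation_le_one_iff _).1 h5.le)
  have hst : x⁻¹ * s * x = s := by
    rw [mul_comm, ← mul_assoc, mul_inv_cancel₀ hx0, one_mul]
  have hsV' : V₁.valuation s < 1 := by
    rw [← hst, map_mul]
    exact lt_of_le_of_lt (mul_le_of_le_one_left' ((V₁.valuation_le_one_iff _).2 (hWV ht))) hx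
  have h1 : V₁.valuation s * V₁.valuation s⁻¹ = 1 := by
    rw [← map_mul, mul_inv_cancel₀ hs0, map_one]
  have h2' : V₁.valuation s * V₁.valuation s⁻¹ < 1 :=
    lt_of_le_of_lt (mul_le_of_le_one_right' ((V₁.valuation_le_one_iff _).2 hsV)) hsV'
  rw [h1] at h2'
  exact lt_irrefl _ h2'

/-- The image of a valuation ring `A'` in the residue field of an overring is a valuation ring. -/
theorem exists_image_valuationSubring {A' K' : Type u} [CommRing A'] [IsDomain A'] [ValuationRing A'] [Field K']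
    [Algebra A' K'] [IsFractionRing A' K'] (V : ValuationSubring K') (ιA : A' →+* V)
    (hιA : ∀ x, ((ιA x : V) : K') = algebraMap A' K' x) :
    ∃ (A'' : ValuationSubring (ResidueField V)) (q : A' →+* A''), Function.Surjective q ∧
      ∀ x, ((q x : A'') : ResidueField V) = residue V (ιA x) := by
  let q₀ : A' →+* ResidueField V := (residue V).comp ιA
  have hval : ∀ x : ResidueField V, x ∈ q₀.range ∨ x⁻¹ ∈ q₀.range := by
    intro x
    obtain ⟨y, rfl⟩ := residue_surjective x
    rcases ValuationRing.isInteger_or_isInteger A' (y : K') with ⟨r, hr⟩ | ⟨r, hr⟩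
    · left
      refine ⟨r, ?_⟩
      show residue V (ιA r) = residue V y
      congr 1
      exact Subtype.ext ((hιA r).trans hr)
    · right
      refine ⟨r, ?_⟩
      show residue V (ιA r) = (residue V y)⁻¹
      by_cases hy : (y : K') = 0
      · have hr0 : ιA r = 0 := Subtype.ext (by rw [hιA, hr, hy, inv_zero]; rfl)
        have hy0 : y = 0 := Subtype.ext hy
        rw [hr0, hy0, map_zero, inv_zero]
      · apply eq_inv_of_mul_eq_one_left
        rw [← map_mul]
        have : ιA r * y = 1 := Subtype.ext (by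
          show ((ιA r : V) : K') * (y : K') = 1
          rw [hιA, hr, inv_mul_cancel₀ hy])
        rw [this, map_one]
  let A'' : ValuationSubring (ResidueField V) := ValuationSubring.ofSubring q₀.range hval
  refine ⟨A'', q₀.codRestrict A''.toSubring (fun x => ⟨x, rfl⟩), ?_, fun x => rfl⟩
  intro y
  obtain ⟨x, hx⟩ : ∃ x, q₀ x = y.1 := y.2
  exact ⟨x, Subtype.ext hx⟩

/-- The final dominating extension of the refined valuative criterion, in pure algebra. -/
theorem exists_final_extension {A K Kp L A' K' : Type u} [CommRing A] [IsDomain A] [ValuationRing A] [Field K]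
    [Algebra A K] [IsFractionRing A K] [Field Kp] [Field L] [CommRing A'] [IsDomain A'] [ValuationRing A']
    [Field K'] [Algebra A' K'] [IsFractionRing A' K']
    (ι : K →+* Kp) (Ap : ValuationSubring Kp) (φp : A →+* Ap) (hφploc : IsLocalHom φp)
    (hφp : ∀ x, ((φp x : Ap) : Kp) = ι (algebraMap A K x))
    (W V₁ : ValuationSubring L) (hWV : W ≤ V₁) (ρ : Kp →+* ResidueField V₁)
    (h5 : ∀ a ∈ Ap, ∃ z : L, ∃ hz : z ∈ W, residue V₁ ⟨z, hWV hz⟩ = ρ a ∧
      (W.valuation z = 1 → Ap.valuation a = 1))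
    (φc : W →+* A') (hφc : IsLocalHom φc) (ψc : L →+* K')
    (hcomm : (algebraMap A' K').comp φc = ψc.comp W.subtype) :
    ∃ (V₁' : ValuationSubring K') (ιA : A' →+* V₁') (ψV : V₁ →+* V₁')
      (A'' : ValuationSubring (ResidueField V₁')) (q : A' →+* A'') (φ'' : A →+* A'')
      (ψ'' : K →+* ResidueField V₁') (mapψ : ResidueField V₁ →+* ResidueField V₁'),
      V₁'.subtype.comp ιA = algebraMap A' K' ∧ V₁'.subtype.comp ψV = ψc.comp V₁.subtype ∧
      ιA.comp φc = ψV.comp (ValuationSubring.inclusion W V₁ hWV) ∧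
      A''.subtype.comp q = (residue V₁').comp ιA ∧
      mapψ.comp (residue V₁) = (residue V₁').comp ψV ∧ ψ'' = mapψ.comp (ρ.comp ι) ∧
      A''.subtype.comp φ'' = ψ''.comp (algebraMap A K) ∧ IsLocalHom φ'' := by
  haveI := hφploc
  haveI := hφc
  have hcomm' : ∀ z : W, algebraMap A' K' (φc z) = ψc z := fun z => congrArg (fun f => f z) hcomm
  obtain ⟨V₁', h1, h2, h3⟩ := exists_overring_dominating W V₁ hWV φc hφc ψc hcomm'
  let ιA : A' →+* V₁' := (algebraMap A' K').codRestrict V₁'.toSubring h1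
  let ψV : V₁ →+* V₁' := (ψc.comp V₁.subtype).codRestrict V₁'.toSubring (fun x => h2 x x.2)
  haveI hloc : IsLocalHom ψV := by
    refine ⟨fun x hx => ?_⟩
    by_contra hnu
    have hxm : x ∈ maximalIdeal V₁ := (mem_maximalIdeal x).2 (mem_nonunits_iff.2 hnu)
    have hlt := h3 x ((V₁.valuation_lt_one_iff x).1 hxm)
    have hm : ψV x ∈ maximalIdeal V₁' := (V₁'.valuation_lt_one_iff (ψV x)).2 hlt
    exact (mem_nonunits_iff.1 ((mem_maximalIdeal _).1 hm)) hx
  obtain ⟨A'', q, hqs, hq⟩ := exists_image_valuationSubring V₁' ιA (fun x => rfl)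
  haveI : IsLocalHom q := IsLocalHom.of_surjective q hqs
  let mapψ : ResidueField V₁ →+* ResidueField V₁' := ResidueField.map ψV
  let ψ'' : K →+* ResidueField V₁' := mapψ.comp (ρ.comp ι)
  have key : ∀ x : A, ∃ z : W, ψ'' (algebraMap A K x) = ((q (φc z) : A'') : ResidueField V₁') ∧
      (IsUnit z → IsUnit x) := by
    intro x
    obtain ⟨z, hz, hres, hval⟩ := h5 (φp x) (φp x).2
    refine ⟨⟨z, hz⟩, ?_, ?_⟩
    · show mapψ (ρ (ι (algebraMap A K x))) = _
      rw [← hφp, ← hres, hq]
      show residue V₁' (ψV ⟨z, hWV hz⟩) = residue V₁' (ιA (φc ⟨z, hz⟩))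
      congr 1
      apply Subtype.ext
      show ψc z = algebraMap A' K' (φc ⟨z, hz⟩)
      exact (hcomm' ⟨z, hz⟩).symm
    · intro hu
      have h1' : W.valuation z = 1 := (W.valuation_eq_one_iff ⟨z, hz⟩).1 hu
      have h2' : IsUnit (φp x) := (Ap.valuation_eq_one_iff (φp x)).2 (hval h1')
      exact isUnit_of_map_unit φp x h2'
  let φ'' : A →+* A'' := (ψ''.comp (algebraMap A K)).codRestrict A''.toSubring (fun x => by
    obtain ⟨z, hz, -⟩ := key x
    rw [RingHom.comp_apply, hz]
    exact (q (φc z)).2)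
  refine ⟨V₁', ιA, ψV, A'', q, φ'', ψ'', mapψ, ?_, ?_, ?_, ?_, ?_, rfl, ?_, ?_⟩
  · ext x
    rfl
  · ext x
    rfl
  · ext z
    exact hcomm' z
  · ext x
    exact hq x
  · exact ResidueField.map_comp_residue ψV
  · ext x
    rfl
  · refine ⟨fun x hx => ?_⟩
    obtain ⟨z, hz, hzu⟩ := key x
    have hxz : φ'' x = q (φc z) := Subtype.ext hz
    rw [hxz] at hx
    exact hzu (isUnit_of_map_unit φc z (isUnit_of_map_unit q _ hx))

end Groth.Agent.Lib.Helper16.ValCrit
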