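import Groth.Agent.Lib.Helper16.ValCrit8
import Groth.Agent.Lib.Helper17.DvrCrit

/-!
# Helper library (helper16): valuative criteria for algebraic spaces, part 9

The scheme-level data of the refined valuative criterion: from a specialization `g v ⤳ w` in a chart and a valuation
ring of a field-valued point at `w`, composite valuation rings of an extension of `κ(v)`.
-/

set_option autoImplicit false
set_option linter.style.haveILetI false
universe u
open CategoryTheory CategoryTheory.Limits AlgebraicGeometry IsLocalRing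

namespace Groth.Agent.Lib.Helper16.ValCrit

open Groth.Agent.Lib.Helper17

theorem exists_refined_data {V W T : Scheme.{u}} [IsAffine T] (g : V ⟶ W) (p : W ⟶ T) {Kp : Type u} [Field Kp]
    (α : Spec (CommRingCat.of Kp) ⟶ W) (Ap : ValuationSubring Kp) (y : Spec (CommRingCat.of Ap) ⟶ T)
    (hy : Spec.map (CommRingCat.ofHom Ap.subtype) ≫ y = α ≫ p) (v : V) (hv : g v ⤳ α (closedPoint Kp)) :
    ∃ (L : Type u) (_ : Field L) (γ : Spec (CommRingCat.of L) ⟶ V) (Wc V₁ : ValuationSubring L)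
      (hle : Wc ≤ V₁) (yc : Spec (CommRingCat.of Wc) ⟶ T) (m₁ : Spec (CommRingCat.of V₁) ⟶ W)
      (ρ : Kp →+* ResidueField V₁),
      Spec.map (CommRingCat.ofHom Wc.subtype) ≫ yc = γ ≫ g ≫ p ∧
      Spec.map (CommRingCat.ofHom V₁.subtype) ≫ m₁ = γ ≫ g ∧
      Spec.map (CommRingCat.ofHom (ValuationSubring.inclusion Wc V₁ hle)) ≫ yc = m₁ ≫ p ∧
      Spec.map (CommRingCat.ofHom (residue V₁)) ≫ m₁ = Spec.map (CommRingCat.ofHom ρ) ≫ α ∧
      (∀ a ∈ Ap, ∃ z : L, ∃ hz : z ∈ Wc, residue V₁ ⟨z, hle hz⟩ = ρ a ∧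
        (Wc.valuation z = 1 → Ap.valuation a = 1)) := by
  let κ : W.presheaf.stalk (α (closedPoint Kp)) ⟶ CommRingCat.of Kp := Scheme.stalkClosedPointTo α
  have hκ : Spec.map κ ≫ W.fromSpecStalk (α (closedPoint Kp)) = α :=
    Scheme.Spec_stalkClosedPointTo_fromSpecStalk _
  let φ₀ : W.presheaf.stalk (α (closedPoint Kp)) ⟶ V.residueField v :=
    W.presheaf.stalkSpecializes hv ≫ g.stalkMap v ≫ V.residue v
  have hφ₀ : Spec.map φ₀ ≫ W.fromSpecStalk (α (closedPoint Kp)) = V.fromSpecResidueField v ≫ g := by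
    rw [Spec.map_comp, Spec.map_comp, Category.assoc, Category.assoc,
      Scheme.SpecMap_stalkSpecializes_fromSpecStalk, Scheme.SpecMap_stalkMap_fromSpecStalk]
    exact (Category.assoc _ _ _).symm
  have hT : IsAffineOpen (⊤ : T.Opens) := isAffineOpen_top T
  let ψ : Γ(T, ⊤) ⟶ W.presheaf.stalk (α (closedPoint Kp)) :=
    T.presheaf.germ ⊤ (p (α (closedPoint Kp))) trivial ≫ p.stalkMap (α (closedPoint Kp))
  have hψ : Spec.map ψ ≫ hT.fromSpec = W.fromSpecStalk (α (closedPoint Kp)) ≫ p := by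
    rw [Spec.map_comp, Category.assoc]
    have : Spec.map (T.presheaf.germ ⊤ (p (α (closedPoint Kp))) trivial) ≫ hT.fromSpec =
        T.fromSpecStalk (p (α (closedPoint Kp))) := by
      rw [← hT.fromSpecStalk_eq_fromSpecStalk trivial]; rfl
    rw [this, Scheme.SpecMap_stalkMap_fromSpecStalk]
  let β : Γ(T, ⊤) ⟶ CommRingCat.of Ap :=
    T.presheaf.germ ⊤ _ trivial ≫ Scheme.stalkClosedPointTo y
  have hβ : Spec.map β ≫ hT.fromSpec = y := DvrCrit.spec_factor_affine y hT trivial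
  have hκψ : ψ ≫ κ = β ≫ CommRingCat.ofHom Ap.subtype := by
    apply Spec.map_injective
    rw [← cancel_mono hT.fromSpec, Spec.map_comp, Category.assoc, hψ, ← Category.assoc, hκ,
      Spec.map_comp, Category.assoc, hβ]
    exact hy.symm
  obtain ⟨L, _, j, Wc, V₁, hle, θ, ρ, p1, p2, p3, p4⟩ := exists_refined_valuationSubrings κ.hom Ap φ₀.hom
  have hmem : ∀ b : Γ(T, ⊤), ((V₁.subtype.comp θ).comp ψ.hom) b ∈ Wc.toSubring := by
    intro b
    show ((θ (ψ.hom b) : V₁) : L) ∈ Wc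
    rw [p1]
    apply p3
    have h1 : κ.hom (ψ.hom b) = ((β.hom b : Ap) : Kp) := congrArg (fun f => f.hom b) hκψ
    rw [h1]
    exact (β.hom b).2
  let βc : Γ(T, ⊤) →+* Wc := ((V₁.subtype.comp θ).comp ψ.hom).codRestrict Wc.toSubring hmem
  obtain ⟨γ, hγ⟩ : ∃ γ : Spec (CommRingCat.of L) ⟶ V,
    γ = Spec.map (CommRingCat.ofHom j) ≫ V.fromSpecResidueField v := ⟨_, rfl⟩
  obtain ⟨yc, hyc⟩ : ∃ yc : Spec (CommRingCat.of Wc) ⟶ T, yc = Spec.map (CommRingCat.ofHom βc) ≫ hT.fromSpec :=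
    ⟨_, rfl⟩
  obtain ⟨m₁, hm₁⟩ : ∃ m₁ : Spec (CommRingCat.of V₁) ⟶ W,
    m₁ = Spec.map (CommRingCat.ofHom θ) ≫ W.fromSpecStalk (α (closedPoint Kp)) := ⟨_, rfl⟩
  have e1 : CommRingCat.ofHom (ValuationSubring.inclusion Wc V₁ hle) ≫ CommRingCat.ofHom V₁.subtype =
      CommRingCat.ofHom Wc.subtype := by
    ext b; rfl
  have e2 : CommRingCat.ofHom θ ≫ CommRingCat.ofHom V₁.subtype = φ₀ ≫ CommRingCat.ofHom j := by
    ext b; exact p1 b
  have e3 : CommRingCat.ofHom βc ≫ CommRingCat.ofHom (ValuationSubring.inclusion Wc V₁ hle) =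
      ψ ≫ CommRingCat.ofHom θ := by
    ext b; rfl
  have e4 : CommRingCat.ofHom θ ≫ CommRingCat.ofHom (residue V₁) = κ ≫ CommRingCat.ofHom ρ := by
    ext b; exact p2 b
  have o2 : Spec.map (CommRingCat.ofHom V₁.subtype) ≫ m₁ = γ ≫ g := by
    calc Spec.map (CommRingCat.ofHom V₁.subtype) ≫ m₁
        = Spec.map (CommRingCat.ofHom θ ≫ CommRingCat.ofHom V₁.subtype) ≫
            W.fromSpecStalk (α (closedPoint Kp)) := by rw [hm₁, Spec.map_comp, Category.assoc]
      _ = Spec.map (CommRingCat.ofHom j) ≫ Spec.map φ₀ ≫ W.fromSpecStalk (α (closedPoint Kp)) := by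
          rw [e2, Spec.map_comp, Category.assoc]
          rfl
      _ = γ ≫ g := by rw [hφ₀, hγ, Category.assoc]
  have o3 : Spec.map (CommRingCat.ofHom (ValuationSubring.inclusion Wc V₁ hle)) ≫ yc = m₁ ≫ p := by
    calc Spec.map (CommRingCat.ofHom (ValuationSubring.inclusion Wc V₁ hle)) ≫ yc
        = Spec.map (CommRingCat.ofHom βc ≫ CommRingCat.ofHom (ValuationSubring.inclusion Wc V₁ hle)) ≫
            hT.fromSpec := by rw [hyc, Spec.map_comp, Category.assoc]
      _ = Spec.map (CommRingCat.ofHom θ) ≫ Spec.map ψ ≫ hT.fromSpec := by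
          rw [e3, Spec.map_comp, Category.assoc]
          rfl
      _ = m₁ ≫ p := by rw [hψ, hm₁, Category.assoc]
  have o4 : Spec.map (CommRingCat.ofHom (residue V₁)) ≫ m₁ = Spec.map (CommRingCat.ofHom ρ) ≫ α := by
    calc Spec.map (CommRingCat.ofHom (residue V₁)) ≫ m₁
        = Spec.map (CommRingCat.ofHom θ ≫ CommRingCat.ofHom (residue V₁)) ≫
            W.fromSpecStalk (α (closedPoint Kp)) := by rw [hm₁, Spec.map_comp, Category.assoc]
      _ = Spec.map (CommRingCat.ofHom ρ) ≫ Spec.map κ ≫ W.fromSpecStalk (α (closedPoint Kp)) := by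
          rw [e4, Spec.map_comp, Category.assoc]
      _ = Spec.map (CommRingCat.ofHom ρ) ≫ α := by rw [hκ]
  have o1 : Spec.map (CommRingCat.ofHom Wc.subtype) ≫ yc = γ ≫ g ≫ p := by
    calc Spec.map (CommRingCat.ofHom Wc.subtype) ≫ yc
        = Spec.map (CommRingCat.ofHom V₁.subtype) ≫
            (Spec.map (CommRingCat.ofHom (ValuationSubring.inclusion Wc V₁ hle)) ≫ yc) := by
          rw [← e1, Spec.map_comp, Category.assoc]
      _ = Spec.map (CommRingCat.ofHom V₁.subtype) ≫ (m₁ ≫ p) := by rw [o3]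
      _ = (Spec.map (CommRingCat.ofHom V₁.subtype) ≫ m₁) ≫ p := (Category.assoc _ _ _).symm
      _ = (γ ≫ g) ≫ p := by rw [o2]
      _ = γ ≫ g ≫ p := Category.assoc _ _ _
  exact ⟨L, inferInstance, γ, Wc, V₁, hle, yc, m₁, ρ, o1, o2, o3, o4, p4⟩

end Groth.Agent.Lib.Helper16.ValCrit
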