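import Groth.Prelude.Def_AlgSpModX
import Groth.Agent.Lib.Helper16.QuasiCompact
import Mathlib

/-!
# Helper library (helper16): weakly associated points of modules on the small etale site
-/

set_option autoImplicit false
universe u
open CategoryTheory CategoryTheory.Limits AlgebraicGeometry Opposite

namespace Groth.Agent.Lib.Helper16.WeakAssEt

open AlgSp Groth.Agent.Lib.Helper16

variable {S : Scheme.{u}} {X : Sp S}

/-- Evaluation of modules at an object of the site. -/
noncomputable abbrev ev (X : Sp S) (E : EtOver X) :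
    ModEt X ⥤ ModuleCat.{u + 1} ((OEtRing X).obj.obj (op E)) :=
  SheafOfModules.forget (OEtRing X) ⋙ PresheafOfModules.evaluation (OEtRing X).obj (op E)

/-- The map on sections over `E` induced by a morphism of modules. -/
noncomputable abbrev secMap {M N : ModEt X} (f : M ⟶ N) (E : EtOver X) :
    sectModEt M E →ₗ[(OEtRing X).obj.obj (op E)] sectModEt N E :=
  (f.val.app (op E)).hom

theorem annSect_le_map {M N : ModEt X} (f : M ⟶ N) {E : EtOver X} (s : sectModEt M E) :
    annSect s ≤ annSect (secMap f E s) := by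
  intro a ha
  rw [mem_annSect_iff] at ha ⊢
  rw [← map_smul, ha, map_zero]

theorem secMap_injective {M N : ModEt X} (f : M ⟶ N) [Mono f] (E : EtOver X) :
    Function.Injective (secMap f E) := by
  have h : Mono ((ev X E).map f) := inferInstance
  exact (ModuleCat.mono_iff_injective _).mp h

theorem annSect_map_eq_of_mono {M N : ModEt X} (f : M ⟶ N) [Mono f] {E : EtOver X}
    (s : sectModEt M E) : annSect (secMap f E s) = annSect s := by
  apply le_antisymm _ (annSect_le_map f s)
  intro a ha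
  rw [mem_annSect_iff] at ha ⊢
  apply secMap_injective f E
  rw [map_smul, ha, map_zero]

theorem exact_sections (C : ShortComplex (ModEt X)) (hC : C.ShortExact) (E : EtOver X)
    (s : sectModEt C.X₂ E) (hs : secMap C.g E s = 0) :
    ∃ s' : sectModEt C.X₁ E, secMap C.f E s' = s := by
  have hex : (C.map (ev X E)).Exact :=
    hC.exact.map_of_mono_of_preservesKernel _ hC.mono_f inferInstance
  rw [ShortComplex.moduleCat_exact_iff] at hex
  exact hex s hs

theorem annSect_le_smul {M : ModEt X} {E : EtOver X} (s : sectModEt M E)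
    (a : Γ(E.obj.left.left, ⊤)) : annSect s ≤ annSect ((upΓ E a) • s) := by
  intro b hb
  rw [mem_annSect_iff] at hb ⊢
  rw [← mul_smul, ← map_mul, mul_comm b a, map_mul, mul_smul, hb, smul_zero]

theorem mul_mem_annSect_of {M : ModEt X} {E : EtOver X} (s : sectModEt M E)
    (a b : Γ(E.obj.left.left, ⊤)) (hb : b ∈ annSect ((upΓ E a) • s)) : b * a ∈ annSect s := by
  rw [mem_annSect_iff] at hb ⊢
  rw [map_mul, mul_smul, hb]

/-- The dichotomy behind `WeakAss(F₂) ⊆ WeakAss(F₁) ∪ WeakAss(F₃)`. -/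
theorem weakAss_of_shortExact (C : ShortComplex (ModEt X)) (hC : C.ShortExact) (E : EtOver X)
    (s : sectModEt C.X₂ E) (𝔭 : Ideal Γ(E.obj.left.left, ⊤))
    (h𝔭 : 𝔭 ∈ (annSect s).minimalPrimes) :
    (∃ s₁ : sectModEt C.X₁ E, 𝔭 ∈ (annSect s₁).minimalPrimes) ∨
      (∃ s₃ : sectModEt C.X₃ E, 𝔭 ∈ (annSect s₃).minimalPrimes) := by
  haveI := hC.mono_f
  haveI : 𝔭.IsPrime := h𝔭.1.1
  by_cases h : annSect (secMap C.g E s) ≤ 𝔭
  · right
    exact ⟨secMap C.g E s, ⟨h𝔭.1.1, h⟩,
      fun q hq hqp => h𝔭.2 ⟨hq.1, (annSect_le_map C.g s).trans hq.2⟩ hqp⟩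
  · left
    obtain ⟨a, ha, hap⟩ := SetLike.not_le_iff_exists.mp h
    rw [mem_annSect_iff, ← map_smul] at ha
    obtain ⟨s', hs'⟩ := exact_sections C hC E _ ha
    refine ⟨s', ?_⟩
    rw [← annSect_map_eq_of_mono C.f s', hs']
    refine ⟨⟨h𝔭.1.1, fun b hb => ?_⟩, fun q hq hqp => ?_⟩
    · have h1 : b * a ∈ 𝔭 := h𝔭.1.2 (mul_mem_annSect_of s a b hb)
      exact (Ideal.IsPrime.mem_or_mem ‹𝔭.IsPrime› h1).resolve_right hap
    · exact h𝔭.2 ⟨hq.1, (annSect_le_smul s a).trans hq.2⟩ hqp

theorem mem_weakAssEt_of {M : ModEt X} (E : EtOver X) [hE : IsAffine E.obj.left.left]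
    (u : E.obj.left.left) (s : sectModEt M E)
    (h : primeAtPt E.obj.left.left u ∈ (annSect s).minimalPrimes) :
    Points.ofPt E.obj.hom u ∈ WeakAssEt M :=
  ⟨E, hE, u, rfl, Exists.intro s h⟩

theorem exists_of_mem_weakAssEt {M : ModEt X} {x : Points X} (hx : x ∈ WeakAssEt M) :
    ∃ (E : EtOver X) (_ : IsAffine E.obj.left.left) (u : E.obj.left.left) (s : sectModEt M E),
      Points.ofPt E.obj.hom u = x ∧ primeAtPt E.obj.left.left u ∈ (annSect s).minimalPrimes := by
  obtain ⟨E, hE, u, hx, h⟩ := hx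
  obtain ⟨s, hs⟩ := h
  exact ⟨E, hE, u, s, hx, hs⟩

/-- On an affine scheme every prime of global functions is the prime of a point. -/
theorem exists_primeAtPt_eq (U : Scheme.{u}) [IsAffine U] (𝔭 : Ideal Γ(U, ⊤)) [h𝔭 : 𝔭.IsPrime] :
    ∃ u : U, primeAtPt U u = 𝔭 := by
  have hU : IsAffineOpen (⊤ : U.Opens) := isAffineOpen_top U
  let y : PrimeSpectrum Γ(U, ⊤) := ⟨𝔭, h𝔭⟩
  refine ⟨hU.fromSpec y, ?_⟩
  letI := TopCat.Presheaf.algebra_section_stalk U.presheaf
    (⟨hU.fromSpec y, trivial⟩ : (⊤ : U.Opens))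
  have hloc : IsLocalization.AtPrime (U.presheaf.stalk (hU.fromSpec y)) 𝔭 :=
    hU.isLocalization_stalk' y trivial
  exact IsLocalization.AtPrime.under_maximalIdeal (U.presheaf.stalk (hU.fromSpec y)) 𝔭

/-- Sections of the zero module vanish. -/
theorem section_eq_zero_of_isZero {M : ModEt X} (hM : IsZero M) (E : EtOver X)
    (s : sectModEt M E) : s = 0 := by
  have h : IsZero ((ev X E).obj M) := (ev X E).map_isZero hM
  haveI := ModuleCat.subsingleton_of_isZero h
  exact Subsingleton.elim (α := ((ev X E).obj M : Type _)) s 0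

theorem isZero_of_sections_zero (M : ModEt X) (h : ∀ (E : EtOver X) (s : sectModEt M E), s = 0) :
    IsZero M := by
  rw [IsZero.iff_id_eq_zero]
  apply SheafOfModules.hom_ext
  apply PresheafOfModules.hom_ext
  intro E
  apply ModuleCat.hom_ext
  apply LinearMap.ext
  intro x
  exact (h E.unop _).trans (h E.unop _).symm

/-- A module with `WeakAss = ∅` has no nonzero sections over affine objects. -/
theorem section_eq_zero_of_weakAssEt_empty {M : ModEt X} (h : WeakAssEt M = ∅) (E : EtOver X)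
    [IsAffine E.obj.left.left] (s : sectModEt M E) : s = 0 := by
  by_contra hs
  have hne : annSect s ≠ ⊤ := by
    intro htop
    apply hs
    have h1 : (1 : Γ(E.obj.left.left, ⊤)) ∈ annSect s := htop ▸ Submodule.mem_top
    rw [mem_annSect_iff, map_one, one_smul] at h1
    exact h1
  obtain ⟨m, hm, hle⟩ := Ideal.exists_le_maximal _ hne
  haveI := hm.isPrime
  obtain ⟨𝔭, h𝔭, -⟩ := Ideal.exists_minimalPrimes_le hle
  haveI : 𝔭.IsPrime := h𝔭.1.1
  obtain ⟨u, hu⟩ := exists_primeAtPt_eq E.obj.left.left 𝔭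
  have hmem : Points.ofPt E.obj.hom u ∈ WeakAssEt M :=
    mem_weakAssEt_of E u s (by rw [hu]; exact h𝔭)
  rw [h] at hmem
  exact absurd hmem (Set.notMem_empty _)

/-- Sections vanish as soon as sections over affine objects vanish (separatedness). -/
theorem section_eq_zero_of_affine (M : ModEt X)
    (h : ∀ (E : EtOver X) [IsAffine E.obj.left.left] (s : sectModEt M E), s = 0)
    (E : EtOver X) (s : sectModEt M E) : s = 0 := by
  let YY : E.obj.left.left.affineOpens → EtOver X := fun W =>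
    EtOver.mk ((yon S).map (overOpenι E.obj.left W.1) ≫ E.obj.hom)
      (repWith_etale_restrict E.obj.hom E.property W.1)
  let gg : ∀ W, YY W ⟶ E := fun W => EtOver.homMk (overOpenι E.obj.left W.1) rfl
  have hcov : Sieve.ofArrows YY gg ∈ etTop X E := ofArrows_mem_etTop YY gg (fun x => by
    obtain ⟨W, hW, hxW, -⟩ := TopologicalSpace.Opens.isBasis_iff_nbhd.mp
      (E.obj.left.left.isBasis_affineOpens) (show x ∈ (⊤ : E.obj.left.left.Opens) from trivial)
    exact ⟨⟨W, hW⟩, ⟨⟨x, hxW⟩, rfl⟩⟩)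
  refine M.isSheaf.isSeparated E _ hcov s 0 ?_
  rintro Z f ⟨Z', a, b, hb, rfl⟩
  obtain ⟨W⟩ := hb
  have h1 : M.val.presheaf.map (gg W).op s = 0 := by
    haveI : IsAffine (YY W).obj.left.left := W.2
    exact h (YY W) _
  rw [op_comp, Functor.map_comp]
  change (ConcreteCategory.hom (M.val.presheaf.map a.op))
    ((ConcreteCategory.hom (M.val.presheaf.map (gg W).op)) s) =
    (ConcreteCategory.hom (M.val.presheaf.map a.op))
    ((ConcreteCategory.hom (M.val.presheaf.map (gg W).op)) 0)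
  rw [h1, map_zero, map_zero, map_zero]

theorem isZero_of_weakAssEt_empty {M : ModEt X} (h : WeakAssEt M = ∅) : IsZero M :=
  isZero_of_sections_zero M (section_eq_zero_of_affine M
    (fun E _ s => section_eq_zero_of_weakAssEt_empty h E s))

theorem weakAssEt_empty_of_isZero {M : ModEt X} (hM : IsZero M) : WeakAssEt M = ∅ := by
  rw [Set.eq_empty_iff_forall_notMem]
  intro x hx
  obtain ⟨E, hE, u, s, -, hs⟩ := exists_of_mem_weakAssEt hx
  have h1 : (1 : Γ(E.obj.left.left, ⊤)) ∈ annSect s := by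
    rw [mem_annSect_iff, section_eq_zero_of_isZero hM E s, smul_zero]
  exact hs.1.1.ne_top ((Ideal.eq_top_iff_one _).mpr (hs.1.2 h1))

end Groth.Agent.Lib.Helper16.WeakAssEt
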