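import Mathlib
import Groth.Prelude.Def_Flatn
import Groth.Prelude.Def_Flat
import Groth.Prelude.Def_WeilRes
import Groth.Agent.Lib.Helper16.MorSOpen

/-!
# Weil restriction along a finite locally free universal homeomorphism

* `representable_of_cover`: `Mor_S(Z, X)` is representable as soon as every section factors,
  locally on the base, through an open of `X` affine over `S`.
* `representable_of_univHomeo`: `Mor_S(Z, X)` is representable for `Z ⟶ S` finite locally free and a
  universal homeomorphism, `X` arbitrary.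
* `weilRes_representable_of_morS`: the Weil restriction functor of `X'` along `f : S' ⟶ S` is the
  equalizer of two maps `Mor_S(S', X') ⇉ Mor_S(S', S')`, hence representable when both are.
-/

namespace Groth.Agent.Lib.Helper16.WeilResUH

open CategoryTheory CategoryTheory.Limits AlgebraicGeometry Opposite TopologicalSpace
open Groth.Agent.Lib.Helper16.LocRep Groth.Agent.Lib.Helper16.MorSSheaf
open Groth.Agent.Lib.Helper16.MorSOpen

universe u

section Cover

variable {S Z X : Scheme.{u}}

theorem representable_of_cover (g : Z ⟶ S) (f : X ⟶ S) [IsFinite g] [Flat g]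
    [LocallyOfFinitePresentation g]
    (hcover : ∀ (T : Scheme.{u}) (t : T ⟶ S) (ξ : (Flatn.morS g f).obj (op (Over.mk t)))
      (x : T), ∃ U : {U : X.Opens // IsAffineHom (U.ι ≫ f)}, x ∈ locus U.1 t ξ) :
    ∃ W : Over S, Nonempty ((Flatn.morS g f).RepresentableBy W) := by
  have hW : ∀ U : {U : X.Opens // IsAffineHom (U.ι ≫ f)},
      ∃ W : Over S, Nonempty ((Flatn.morS g (U.1.ι ≫ f)).RepresentableBy W) := by
    rintro ⟨U, hU⟩
    haveI := hU
    obtain ⟨W, -, hr⟩ := MorSLocal.main g (U.ι ≫ f)
    exact ⟨W, hr⟩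
  choose W hWrep using hW
  have hcl := fun (U : {U : X.Opens // IsAffineHom (U.ι ≫ f)}) (T : Scheme.{u}) (t : T ⟶ S)
    (ξ : (Flatn.morS g f).obj (op (Over.mk t))) => exists_cl U.1 (W U) (hWrep U).some t ξ
  choose c hcw hcη using hcl
  let L : OpenRep (Flatn.morS g f) :=
    { ι := {U : X.Opens // IsAffineHom (U.ι ≫ f)}
      X := fun U => (W U).left
      p := fun U => (W U).hom
      η := fun U => univ U.1 (W U) (hWrep U).some
      O := fun U T t ξ => locus U.1 t ξ
      hO := hcover
      cl := c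
      cl_w := hcw
      cl_η := hcη
      fac := fun U T t ξ T' a c' t' hc ha heq x =>
        fac_U U.1 (W U) (hWrep U).some t ξ a c' t' hc ha heq x
      uniq := fun U T' c₁ c₂ t' h₁ h₂ heq =>
        uniq_U U.1 (W U) (hWrep U).some c₁ c₂ t' h₁ h₂ heq }
  exact representable_of_openRep (morS_isZarSheaf.{u + 1} g f) L

lemma cover_of_univHomeo [IsAffine S] (g : Z ⟶ S) (f : X ⟶ S) [IsFinite g]
    (hg : FlatMor.IsUnivHomeo g)
    (T : Scheme.{u}) (t : T ⟶ S) (ξ : (Flatn.morS g f).obj (op (Over.mk t))) (x : T) :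
    ∃ U : {U : X.Opens // IsAffineHom (U.ι ≫ f)}, x ∈ locus U.1 t ξ := by
  have hh : IsHomeomorph (pullback.fst t g) := hg _ _ _ (IsPullback.of_hasPullback t g)
  obtain ⟨z₀, hz₀⟩ := hh.surjective x
  obtain ⟨U, hU, hzU, -⟩ :=
    exists_isAffineOpen_mem_and_subset (x := lft ξ z₀) (U := ⊤) trivial
  haveI : IsAffine U.toScheme := hU
  refine ⟨⟨U, inferInstance⟩, ?_⟩
  rw [mem_locus]
  intro z hz
  have hzz : z = z₀ := hh.injective (hz.trans hz₀.symm)
  rw [hzz]
  exact hzU

theorem representable_of_univHomeo (g : Z ⟶ S) (f : X ⟶ S) [IsFinite g] [Flat g]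
    [LocallyOfFinitePresentation g] (hg : FlatMor.IsUnivHomeo g) :
    ∃ W : Over S, Nonempty ((Flatn.morS g f).RepresentableBy W) := by
  have hV : ∀ s : S, ∃ V : S.Opens, IsAffineOpen V ∧ s ∈ V := fun s => by
    obtain ⟨V, hV, hs, -⟩ := exists_isAffineOpen_mem_and_subset (x := s) (U := ⊤) trivial
    exact ⟨V, hV, hs⟩
  choose V hVaff hVmem using hV
  have hW : ∀ s : S, ∃ W' : Over (V s).toScheme,
      Nonempty ((Flatn.morS (pullback.snd g (V s).ι) (pullback.snd f (V s).ι)).RepresentableBy W') := by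
    intro s
    haveI : IsAffine (V s).toScheme := hVaff s
    have hg' : FlatMor.IsUnivHomeo (pullback.snd g (V s).ι) := by
      unfold FlatMor.IsUnivHomeo at hg ⊢
      exact MorphismProperty.of_isPullback (IsPullback.of_hasPullback g (V s).ι) hg
    exact representable_of_cover _ _ (cover_of_univHomeo _ _ hg')
  choose W' hW'rep using hW
  let L : LocalRep (Flatn.morS g f) :=
    MorSLocal.localRep g f S (fun s => (V s).toScheme) (fun s => (V s).ι)
      (fun s => ⟨s, by rw [Scheme.Opens.range_ι]; exact hVmem s⟩) W'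
      (fun s => (hW'rep s).some)
  obtain ⟨W, ⟨r⟩, -⟩ := representable_of_localRep (morS_isZarSheaf.{u + 1} g f) L
  exact ⟨W, ⟨r⟩⟩

end Cover

section Equalizer

variable {S S' : Scheme.{u}} (f : S' ⟶ S) (X' : Over S')

/-- postcomposition with the structure morphism `X' ⟶ S'` -/
noncomputable def proj : (Over.mk (X'.hom ≫ f) : Over S) ⟶ Over.mk f := Over.homMk X'.hom rfl

/-- the underlying morphism of a section of `Mor_S(S', X')` -/
noncomputable def lf {T : Over S} (α : (Flatn.morS f (X'.hom ≫ f)).obj (op T)) :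
    pullback T.hom f ⟶ X'.left :=
  CommaMorphism.left (α : (Over.map f).obj ((Over.pullback f).obj T) ⟶ Over.mk (X'.hom ≫ f))

/-- the map `Mor_S(S', X') ⟶ Mor_S(S', S')` -/
noncomputable def phi {T : Over S} (α : (Flatn.morS f (X'.hom ≫ f)).obj (op T)) :
    (Flatn.morS f f).obj (op T) :=
  ((α : (Over.map f).obj ((Over.pullback f).obj T) ⟶ Over.mk (X'.hom ≫ f)) ≫ proj f X' :
    (Over.map f).obj ((Over.pullback f).obj T) ⟶ Over.mk f)

/-- the identity section of `Mor_S(S', S')` -/
noncomputable def gam (T : Over S) : (Flatn.morS f f).obj (op T) :=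
  (Over.homMk (pullback.snd T.hom f) rfl :
    (Over.map f).obj ((Over.pullback f).obj T) ⟶ Over.mk f)

/-- a section of the Weil restriction functor as a section of `Mor_S(S', X')` -/
noncomputable def toF {T : Over S} (β : (Over.pullback f).obj T ⟶ X') :
    (Flatn.morS f (X'.hom ≫ f)).obj (op T) :=
  ((Over.map f).map β : (Over.map f).obj ((Over.pullback f).obj T) ⟶ Over.mk (X'.hom ≫ f))

lemma lf_toF {T : Over S} (β : (Over.pullback f).obj T ⟶ X') : lf f X' (toF f X' β) = β.left := rfl

lemma lf_map {T T' : Over S} (t : T' ⟶ T) (α : (Flatn.morS f (X'.hom ≫ f)).obj (op T)) :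
    lf f X' ((Flatn.morS f (X'.hom ≫ f)).map t.op α) =
      ((Over.pullback f).map t).left ≫ lf f X' α := rfl

lemma phi_nat {T T' : Over S} (t : T' ⟶ T) (α : (Flatn.morS f (X'.hom ≫ f)).obj (op T)) :
    phi f X' ((Flatn.morS f (X'.hom ≫ f)).map t.op α) =
      (Flatn.morS f f).map t.op (phi f X' α) := by
  apply Over.OverMorphism.ext
  exact Category.assoc _ _ _

lemma gam_nat {T T' : Over S} (t : T' ⟶ T) :
    (Flatn.morS f f).map t.op (gam f T) = gam f T' := by
  apply Over.OverMorphism.ext
  exact Over.w ((Over.pullback f).map t)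

lemma phi_eq_gam_iff {T : Over S} (α : (Flatn.morS f (X'.hom ≫ f)).obj (op T)) :
    phi f X' α = gam f T ↔ lf f X' α ≫ X'.hom = pullback.snd T.hom f := by
  constructor
  · intro h
    exact congrArg CommaMorphism.left h
  · intro h
    apply Over.OverMorphism.ext
    exact h

variable {f X'} {M₁ M₂ : Over S}
  (rF : (Flatn.morS f (X'.hom ≫ f)).RepresentableBy M₁)
  (rG : (Flatn.morS f f).RepresentableBy M₂)

/-- the morphism of representing objects induced by `phi` -/
noncomputable def mMap : M₁ ⟶ M₂ := rG.homEquiv.symm (phi f X' (rF.homEquiv (𝟙 M₁)))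

/-- the constant morphism at the identity section -/
noncomputable def cMap : M₁ ⟶ M₂ := rG.homEquiv.symm (gam f M₁)

lemma homEquiv_comp_mMap {T : Over S} (a : T ⟶ M₁) :
    rG.homEquiv (a ≫ mMap rF rG) = phi f X' (rF.homEquiv a) := by
  rw [rG.homEquiv_comp]
  unfold mMap
  rw [Equiv.apply_symm_apply, ← phi_nat]
  congr 1
  have h := rF.homEquiv_comp a (𝟙 M₁)
  rw [Category.comp_id] at h
  exact h.symm

lemma homEquiv_comp_cMap {T : Over S} (a : T ⟶ M₁) :
    rG.homEquiv (a ≫ cMap rG) = gam f T := by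
  rw [rG.homEquiv_comp]
  unfold cMap
  rw [Equiv.apply_symm_apply, gam_nat]

lemma eq_iff {T : Over S} (a : T ⟶ M₁) :
    a ≫ mMap rF rG = a ≫ cMap rG ↔
      lf f X' (rF.homEquiv a) ≫ X'.hom = pullback.snd T.hom f := by
  rw [← phi_eq_gam_iff, ← homEquiv_comp_mMap rF rG, ← homEquiv_comp_cMap rG a]
  exact rG.homEquiv.injective.eq_iff.symm

/-- the Weil restriction functor is represented by the equalizer of `mMap` and `cMap` -/
noncomputable def weilRep :
    (WeilRes.functor f X').RepresentableBy (equalizer (mMap rF rG) (cMap rG)) where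
  homEquiv {T} :=
    { toFun := fun k =>
        (Over.homMk (lf f X' (rF.homEquiv (k ≫ equalizer.ι (mMap rF rG) (cMap rG))))
          ((eq_iff rF rG _).1 (by
            rw [Category.assoc, Category.assoc, equalizer.condition])) :
          (Over.pullback f).obj T ⟶ X')
      invFun := fun β =>
        equalizer.lift (rF.homEquiv.symm (toF f X' β)) ((eq_iff rF rG _).2 (by
          rw [Equiv.apply_symm_apply, lf_toF]
          exact Over.w β))
      left_inv := fun k => by
        apply equalizer.hom_ext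
        rw [equalizer.lift_ι, Equiv.symm_apply_eq]
        apply Over.OverMorphism.ext
        rfl
      right_inv := fun β => by
        apply Over.OverMorphism.ext
        show lf f X' (rF.homEquiv (equalizer.lift _ _ ≫ equalizer.ι _ _)) = β.left
        rw [equalizer.lift_ι, Equiv.apply_symm_apply, lf_toF] }
  homEquiv_comp {T T'} t k := by
    apply Over.OverMorphism.ext
    show lf f X' (rF.homEquiv ((t ≫ k) ≫ equalizer.ι _ _)) =
      ((Over.pullback f).map t).left ≫ lf f X' (rF.homEquiv (k ≫ equalizer.ι _ _))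
    rw [Category.assoc, rF.homEquiv_comp, lf_map]

include rF rG in
theorem weilRes_representable_of_morS :
    ∃ R : Over S, Nonempty ((WeilRes.functor f X').RepresentableBy R) :=
  ⟨_, ⟨weilRep rF rG⟩⟩

end Equalizer

section Main

variable {S S' : Scheme.{u}}

theorem exists_isWeilRes_of_univHomeo (f : S' ⟶ S) [IsFinite f] [Flat f]
    [LocallyOfFinitePresentation f] (hf : FlatMor.IsUnivHomeo f) (X' : Over S') :
    ∃ (R : Over S) (q : Red.bc f R ⟶ X'), WeilRes.IsWeilRes f X' R q := by
  obtain ⟨M₁, ⟨rF⟩⟩ := representable_of_univHomeo f (X'.hom ≫ f) hf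
  obtain ⟨M₂, -, ⟨rG⟩⟩ := MorSLocal.main f f
  obtain ⟨R, ⟨e⟩⟩ := weilRes_representable_of_morS rF rG
  exact ⟨R, e.homEquiv (𝟙 R), WeilRes.IsWeilRes.of_representableBy e⟩

end Main

end Groth.Agent.Lib.Helper16.WeilResUH
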