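import Groth.Agent.Lib.Helper15.OpenSubspace
import Groth.Agent.Lib.Helper15.OpenLocusInst
import Groth.Agent.Lib.Helper16.QuotOpen
import Groth.Agent.Lib.Helper16.FibreProduct
import Groth.Agent.Lib.Helper16.Points
import Groth.Agent.Lib.Helper16.FlatBC2
import Groth.Agent.Lib.Helper16.LocPGen
import Groth.Agent.Lib.Helper16.EtLocal

/-!
# Helper library (helper16): the open subspace of the base over which a family of morphisms has a property that can be
read on an open locus of the source (and a closed locus of the target)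
-/

set_option autoImplicit false
universe u
open CategoryTheory CategoryTheory.Limits AlgebraicGeometry

namespace Groth.Agent.Lib.Helper16.Where

open AlgSp Groth.Agent.Lib.Helper16 Groth.Agent.Lib.Helper15 Groth.Agent.Lib.Helper16.QuotOpen

variable {S : Scheme.{u}}

/-- **The "where" engine.** Let `f : X ⟶ Y` over `Z` (structure maps `p`, `q`), `A` a set of points of `X` and `E` a
set of points of `Y` such that `p(Aᶜ)` and `q(E)` are closed. If a property `P` of base changes `f'` of `f` along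
`Z' ⟶ Z` holds exactly when `X'` maps into `A` and `Y'` misses `E`, then there is an open subspace `W` of `Z` such that
`Z' ⟶ Z` factors through `W` iff `P` holds for the base change. -/
theorem where_engine {X Y Z : AlgSp.Space S} (f : X ⟶ Y) (p : X ⟶ Z) (q : Y ⟶ Z) (hc : f ≫ q = p)
    (A : Set (Points X.obj)) (E : Set (Points Y.obj))
    (hA : IsClosed (Points.map p.hom '' Aᶜ)) (hE : IsClosed (Points.map q.hom '' E))
    (P : ∀ ⦃X' Y' : AlgSp.Space S⦄, (X' ⟶ Y') → Prop)
    (hP : ∀ (Z' : AlgSp.Space S) (g : Z' ⟶ Z) (Y' : AlgSp.Space S) (gY : Y' ⟶ Y) (q' : Y' ⟶ Z'),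
      IsPullback gY.hom q'.hom q.hom g.hom → ∀ (X' : AlgSp.Space S) (gX : X' ⟶ X) (f' : X' ⟶ Y'),
      IsPullback gX.hom f'.hom f.hom gY.hom →
      (P f' ↔ (∀ x' : Points X'.obj, Points.map gX.hom x' ∈ A) ∧
        (∀ y' : Points Y'.obj, Points.map gY.hom y' ∉ E))) :
    ∃ (W : AlgSp.Space S) (w : W ⟶ Z), RepWith @IsOpenImmersion w.hom ∧
      ∀ (Z' : AlgSp.Space S) (g : Z' ⟶ Z),
        (∃ k : Z' ⟶ W, k ≫ w = g) ↔
          ∀ (Y' : AlgSp.Space S) (gY : Y' ⟶ Y) (q' : Y' ⟶ Z'),
            IsPullback gY.hom q'.hom q.hom g.hom →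
            ∀ (X' : AlgSp.Space S) (gX : X' ⟶ X) (f' : X' ⟶ Y'),
              IsPullback gX.hom f'.hom f.hom gY.hom → P f' := by
  subst hc
  have hW₀o : IsOpen ((Points.map (f ≫ q).hom '' Aᶜ)ᶜ ∩ (Points.map q.hom '' E)ᶜ) :=
    hA.isOpen_compl.inter hE.isOpen_compl
  generalize hW₀ : (Points.map (f ≫ q).hom '' Aᶜ)ᶜ ∩ (Points.map q.hom '' E)ᶜ = W₀ at hW₀o
  let W : AlgSp.Space S := ⟨openSub Z.obj W₀, isAlgSpace_openSub Z.property W₀ hW₀o⟩
  let w : W ⟶ Z := ObjectProperty.homMk (openSubι Z.obj W₀)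
  have hwhom : w.hom = openSubι Z.obj W₀ := rfl
  refine ⟨W, w, repWith_isOpenImmersion_openSubι W₀ hW₀o, fun Z' g => ⟨?_, ?_⟩⟩
  · rintro ⟨k, rfl⟩ Y' gY q' sqY X' gX f' sqX
    rw [hP Z' (k ≫ w) Y' gY q' sqY X' gX f' sqX]
    have hrange : ∀ z' : Points Z'.obj, Points.map (k ≫ w).hom z' ∈ W₀ := by
      intro z'
      have h1 : Points.map (k ≫ w).hom z' = Points.map (openSubι Z.obj W₀) (Points.map k.hom z') :=
        Points.map_comp k.hom w.hom z'
      have h2 : Points.map (openSubι Z.obj W₀) (Points.map k.hom z') ∈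
          Set.range (Points.map (openSubι Z.obj W₀)) := ⟨_, rfl⟩
      rw [range_map_openSubι W₀] at h2
      rw [h1]
      exact h2
    refine ⟨fun x' => ?_, fun y' hy' => ?_⟩
    · by_contra hx
      have h1 : Points.map (f ≫ q).hom (Points.map gX.hom x') ∈ Points.map (f ≫ q).hom '' Aᶜ :=
        ⟨_, hx, rfl⟩
      have h2 : Points.map (f ≫ q).hom (Points.map gX.hom x') =
          Points.map (k ≫ w).hom (Points.map q'.hom (Points.map f'.hom x')) := by
        have e1 : gX.hom ≫ (f ≫ q).hom = (f'.hom ≫ q'.hom) ≫ (k ≫ w).hom := by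
          show gX.hom ≫ f.hom ≫ q.hom = (f'.hom ≫ q'.hom) ≫ (k ≫ w).hom
          rw [← Category.assoc, sqX.w, Category.assoc, sqY.w, Category.assoc]
        rw [← Points.map_comp, e1, Points.map_comp, Points.map_comp]
      have h3 := hrange (Points.map q'.hom (Points.map f'.hom x'))
      rw [← h2, ← hW₀] at h3
      exact h3.1 h1
    · have h1 : Points.map q.hom (Points.map gY.hom y') ∈ Points.map q.hom '' E := ⟨_, hy', rfl⟩
      have h2 : Points.map q.hom (Points.map gY.hom y') =
          Points.map (k ≫ w).hom (Points.map q'.hom y') := by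
        rw [← Points.map_comp, sqY.w, Points.map_comp]
      have h3 := hrange (Points.map q'.hom y')
      rw [← h2, ← hW₀] at h3
      exact h3.2 h1
  · intro H
    have sqY := IsPullback.of_hasPullback q.hom g.hom
    let Y' : AlgSp.Space S := ⟨pullback q.hom g.hom,
      isAlgSpace_of_isPullback Y.property Z.property.diag Z'.property sqY⟩
    let gY : Y' ⟶ Y := ObjectProperty.homMk (pullback.fst q.hom g.hom)
    let q' : Y' ⟶ Z' := ObjectProperty.homMk (pullback.snd q.hom g.hom)
    have sqY' : IsPullback gY.hom q'.hom q.hom g.hom := sqY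
    have sqX := IsPullback.of_hasPullback f.hom gY.hom
    let X' : AlgSp.Space S := ⟨pullback f.hom gY.hom,
      isAlgSpace_of_isPullback X.property Y.property.diag Y'.property sqX⟩
    let gX : X' ⟶ X := ObjectProperty.homMk (pullback.fst f.hom gY.hom)
    let f' : X' ⟶ Y' := ObjectProperty.homMk (pullback.snd f.hom gY.hom)
    have sqX' : IsPullback gX.hom f'.hom f.hom gY.hom := sqX
    have hPf := H Y' gY q' sqY' X' gX f' sqX'
    rw [hP Z' g Y' gY q' sqY' X' gX f' sqX'] at hPf
    obtain ⟨h1, h2⟩ := hPf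
    have hsub : Set.range (Points.map g.hom) ⊆ W₀ := by
      rintro _ ⟨z', rfl⟩
      rw [← hW₀]
      refine ⟨?_, ?_⟩
      · rintro ⟨x, hx, hxz⟩
        have sqXZ : IsPullback gX.hom (f'.hom ≫ q'.hom) (f.hom ≫ q.hom) g.hom :=
          sqX'.paste_vert sqY'
        obtain ⟨x', hx'1, -⟩ := exists_point_of_isPullback sqXZ x z' hxz
        exact hx (hx'1 ▸ h1 x')
      · rintro ⟨y, hy, hyz⟩
        obtain ⟨y', hy'1, -⟩ := exists_point_of_isPullback sqY' y z' hyz
        exact h2 y' (hy'1.symm ▸ hy)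
    obtain ⟨k₀, hk₀⟩ := exists_factor_openSub_of_range_subset W₀ g.hom hsub
    refine ⟨ObjectProperty.homMk k₀, ?_⟩
    apply ObjectProperty.hom_ext
    exact hk₀

/-- A morphism of algebraic spaces is flat iff it is flat at every point. -/
theorem locP_flat_iff_forall_isFlatAtMor {X Y : Sp S} (f : X ⟶ Y) :
    LocP @Flat f ↔ ∀ x : Points X, IsFlatAtMor f x := by
  constructor
  · intro H x U V a b h u ha hb hc hu
    haveI : Flat h.left := H a b h ha hb hc
    exact Flat.stalkMap h.left u
  · intro H U V a b h ha hb hc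
    exact Flat.of_stalkMap h.left (fun u => H (Points.ofPt a u) a b h u ha hb hc rfl)

/-- The image of an open set of points at which a morphism locally of finite presentation is flat is open. -/
theorem isOpen_image_of_isFlatAtMor {X Y : Sp S} (hX : IsAlgSpace X) (hY : IsAlgSpace Y) (f : X ⟶ Y)
    (hf : LocP @LocallyOfFinitePresentation f) (A : Set (Points X)) (hA : IsOpen A)
    (hfl : ∀ x ∈ A, IsFlatAtMor f x) : IsOpen (Points.map f '' A) := by
  have hι := repWith_isOpenImmersion_openSubι A hA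
  have h1 : LocP @Flat (openSubι X A ≫ f) := by
    intro U V a b h ha hb hc
    have ha' : RepWith @Etale (a ≫ openSubι X A) := isEtaleMor_of_isOpenImmersion _ hι a ha
    have hc' : (a ≫ openSubι X A) ≫ f = (yon S).map h ≫ b := by rw [Category.assoc]; exact hc
    refine Flat.of_stalkMap h.left (fun u => ?_)
    have hmem : Points.ofPt (a ≫ openSubι X A) u ∈ A := by
      have h0 : Points.map (openSubι X A) (Points.ofPt a u) ∈
          Set.range (Points.map (openSubι X A)) := ⟨_, rfl⟩
      rw [range_map_openSubι A, Points.map_ofPt] at h0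
      exact h0
    exact hfl _ hmem (a ≫ openSubι X A) b h u ha' hb hc' rfl
  have h2 : LocP @LocallyOfFinitePresentation (openSubι X A ≫ f) := by
    intro U V a b h ha hb hc
    have ha' : RepWith @Etale (a ≫ openSubι X A) := isEtaleMor_of_isOpenImmersion _ hι a ha
    exact hf (a ≫ openSubι X A) b h ha' hb (by rw [Category.assoc]; exact hc)
  have h3 := isOpenMap_of_locP_flat_lfp (isAlgSpace_openSub hX A hA) hY (openSubι X A ≫ f) h1 h2
  have h4 : Points.map f '' A = Set.range (Points.map (openSubι X A ≫ f)) := by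
    ext y
    constructor
    · rintro ⟨x, hx, rfl⟩
      have hx' : x ∈ Set.range (Points.map (openSubι X A)) := by
        rw [range_map_openSubι A]
        exact hx
      obtain ⟨x₀, rfl⟩ := hx'
      exact ⟨x₀, Points.map_comp _ _ x₀⟩
    · rintro ⟨x₀, rfl⟩
      have hx' : Points.map (openSubι X A) x₀ ∈ Set.range (Points.map (openSubι X A)) := ⟨_, rfl⟩
      rw [range_map_openSubι A] at hx'
      exact ⟨_, hx', (Points.map_comp _ _ x₀).symm⟩
  rw [h4]
  exact h3.isOpen_range

/-- If `f ≫ q` is locally of finite presentation and `q` is locally of finite type, then `f` is locally of finite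
presentation. -/
theorem locP_lfp_of_comp {X Y Z : AlgSp.Space S} (f : X ⟶ Y) (q : Y ⟶ Z)
    (h1 : LocP @LocallyOfFinitePresentation (f ≫ q).hom) (h2 : LocP @LocallyOfFiniteType q.hom) :
    LocP @LocallyOfFinitePresentation f.hom := by
  obtain ⟨W, c, hce, hcs⟩ := Z.property.atlas
  obtain ⟨V₀, b₀, hb₀e, hb₀s⟩ := Y.property.atlas
  obtain ⟨U₀, a₀, ha₀e, ha₀s⟩ := X.property.atlas
  obtain ⟨V, k, cV, hbe, hbc, -, -, hbs⟩ := exists_chart_diagram q.hom c hce b₀ hb₀e
  obtain ⟨U, m, cU, hae, hac, -, -, has⟩ := exists_chart_diagram f.hom _ hbe a₀ ha₀e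
  have has' := has (hbs hcs hb₀s) ha₀s
  have hfq : (f ≫ q).hom = f.hom ≫ q.hom := rfl
  have hacc : ((yon S).map cU ≫ a₀) ≫ (f ≫ q).hom = (yon S).map (m ≫ k) ≫ c := by
    rw [hfq, ← Category.assoc, hac, Category.assoc, hbc, ← Category.assoc, ← Functor.map_comp]
  have hmkp : LocallyOfFinitePresentation (m ≫ k).left := h1 _ c (m ≫ k) hae hce hacc
  haveI : LocallyOfFinitePresentation (m.left ≫ k.left) := by rwa [Over.comp_left] at hmkp
  haveI : LocallyOfFiniteType k.left := h2 _ c k hbe hce hbc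
  exact locP_of_chart etLocalST_locallyOfFinitePresentation f.hom _ _ m hae has' hbe hac
    (Groth.Agent.Lib.Helper14.LCF.locallyOfFinitePresentation_of_comp m.left k.left)

end Groth.Agent.Lib.Helper16.Where
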