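import Groth.Prelude.Def_AlgSpRep
import Groth.Agent.Lib.Helper16.SheafRep
import Groth.Agent.Lib.Helper16.LocSurj
import Groth.Agent.Lib.Helper16.QuasiCompact
import Groth.Agent.Lib.Helper15.CoprodPts

set_option autoImplicit false
universe w w' v₁ u₁ v u
open CategoryTheory CategoryTheory.Limits AlgebraicGeometry Opposite
open AlgSp

namespace Groth.Agent.Lib.Helper16.ZarFppf

/-- Abstract gluing statement: a presheaf which is a sheaf for a coarse topology `Jz`, covered `Jz`-locally by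
subfunctors which are sheaves for a finer topology `Jf` and membership in which is `Jf`-local, is a `Jf`-sheaf,
provided every `Jf`-covering sieve contains a family of the form "`Jz`-cover followed by single `Jf`-covers". -/
theorem isSheaf_of_local_subsheaves {C : Type u₁} [Category.{v₁} C] (Jz Jf : GrothendieckTopology C)
    (F : Cᵒᵖ ⥤ Type w) (hFz : Presieve.IsSheaf Jz F) {ι : Type v} (Fi : ι → Cᵒᵖ ⥤ Type w)
    (m : ∀ i, Fi i ⟶ F) (hinj : ∀ i Y, Function.Injective ((m i).app Y))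
    (ha : ∀ i, Presieve.IsSheaf Jf (Fi i))
    (hA : ∀ (i : ι) (T : C) (x : F.obj (op T)) (R : Sieve T), R ∈ Jf T →
      (∀ ⦃T' : C⦄ (g : T' ⟶ T), R g → F.map g.op x ∈ Set.range ((m i).app (op T'))) →
      x ∈ Set.range ((m i).app (op T)))
    (hB : ∀ (T : C) (R : Sieve T), R ∈ Jf T →
      ∃ (K : Type w') (O V : K → C) (j : ∀ k, O k ⟶ T) (c : ∀ k, V k ⟶ O k),
        Sieve.generate (Presieve.ofArrows O j) ∈ Jz T ∧
        (∀ k, Sieve.generate (Presieve.ofArrows (fun _ : Unit => V k) (fun _ => c k)) ∈ Jf (O k)) ∧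
        Sieve.generate (Presieve.ofArrows V (fun k => c k ≫ j k)) ∈ Jf T ∧
        ∀ k, R (c k ≫ j k))
    (hc : ∀ (T : C) (x : F.obj (op T)), ∃ R ∈ Jf T,
      ∀ ⦃T' : C⦄ (f : T' ⟶ T), R.arrows f → ∃ i, F.map f.op x ∈ Set.range ((m i).app (op T'))) :
    Presieve.IsSheaf Jf F := by
  have hres : ∀ {A B D : C} (f : A ⟶ B) (g : B ⟶ D) (x : F.obj (op D)),
      F.map (f ≫ g).op x = F.map f.op (F.map g.op x) := by
    intro A B D f g x
    rw [op_comp, FunctorToTypes.map_comp_apply]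
  have hnat : ∀ (i : ι) {A B : C} (f : A ⟶ B) (a : (Fi i).obj (op B)),
      (m i).app (op A) ((Fi i).map f.op a) = F.map f.op ((m i).app (op B) a) :=
    fun i A B f a => NatTrans.naturality_apply (m i) f.op a
  -- Step B: every section lies `Jz`-locally in some `F_i`
  have hBx : ∀ (T : C) (x : F.obj (op T)), ∃ Z ∈ Jz T, ∀ ⦃T' : C⦄ (g : T' ⟶ T), Z g →
      ∃ i, F.map g.op x ∈ Set.range ((m i).app (op T')) := by
    intro T x
    obtain ⟨R, hR, hRx⟩ := hc T x
    obtain ⟨K, O, V, j, c, hZ, hck, -, hRk⟩ := hB T R hR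
    refine ⟨_, hZ, ?_⟩
    rintro T' g ⟨W, g', u, hu, rfl⟩
    obtain ⟨k⟩ := hu
    obtain ⟨i, a, ha'⟩ := hRx _ (hRk k)
    have h1 : F.map (j k).op x ∈ Set.range ((m i).app (op (O k))) := by
      apply hA i (O k) _ _ (hck k)
      rintro T'' h ⟨W', h', u', hu', rfl⟩
      obtain ⟨⟨⟩⟩ := hu'
      refine ⟨(Fi i).map h'.op a, ?_⟩
      rw [hnat, ha', ← hres, ← hres, Category.assoc]
    obtain ⟨b, hb'⟩ := h1
    refine ⟨i, (Fi i).map g'.op b, ?_⟩
    rw [hnat, hb', ← hres]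
  -- Step C: `F` is `Jf`-separated
  have hsep : ∀ (T : C) (x y : F.obj (op T)) (R : Sieve T), R ∈ Jf T →
      (∀ ⦃T' : C⦄ (g : T' ⟶ T), R g → F.map g.op x = F.map g.op y) → x = y := by
    intro T x y R hR hxy
    obtain ⟨Z, hZ, hZx⟩ := hBx T x
    refine (hFz Z hZ).isSeparatedFor.ext ?_
    intro T' g hg
    obtain ⟨i, a, ha'⟩ := hZx g hg
    have hR' : R.pullback g ∈ Jf T' := Jf.pullback_stable g hR
    have hy : F.map g.op y ∈ Set.range ((m i).app (op T')) := by
      apply hA i T' _ _ hR'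
      intro T'' h hh
      refine ⟨(Fi i).map h.op a, ?_⟩
      rw [hnat, ha', ← hres, ← hres]
      exact hxy _ hh
    obtain ⟨b, hb'⟩ := hy
    rw [← ha', ← hb']
    refine congrArg (fun t => (m i).app (op T') t) ?_
    refine (ha i _ hR').isSeparatedFor.ext ?_
    intro T'' h hh
    apply hinj i
    rw [hnat, hnat, ha', hb', ← hres, ← hres]
    exact hxy _ hh
  -- Step D: gluing
  intro T R hR x hx
  have hx' := (Presieve.compatible_iff_sieveCompatible x).1 hx
  have hxeq : ∀ {Y : C} (f f' : Y ⟶ T) (hf : R f) (hf' : R f'), f = f' → x f hf = x f' hf' := by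
    intro Y f f' hf hf' e
    subst e
    rfl
  obtain ⟨R', hR'def⟩ : ∃ R' : Sieve T, ∀ {T' : C} (g : T' ⟶ T), R' g ↔
      ∃ (hg : R g) (i : ι) (a : (Fi i).obj (op T')), (m i).app (op T') a = x g hg := by
    refine ⟨{ arrows := fun T' g => ∃ (hg : R g) (i : ι) (a : (Fi i).obj (op T')),
                (m i).app (op T') a = x g hg
              downward_closed := ?_ }, fun g => Iff.rfl⟩
    rintro Y Z f ⟨hf, i, a, ha'⟩ g
    refine ⟨R.downward_closed hf g, i, (Fi i).map g.op a, ?_⟩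
    rw [hnat, ha']
    exact (hx' f g hf).symm
  have hR' : R' ∈ Jf T := by
    refine Jf.transitive hR R' ?_
    intro T' g hg
    obtain ⟨Q, hQ, hQx⟩ := hc T' (x g hg)
    refine Jf.superset_covering ?_ hQ
    intro T'' h hh
    obtain ⟨i, a, ha'⟩ := hQx h hh
    exact (hR'def (h ≫ g)).2 ⟨R.downward_closed hg h, i, a, by rw [ha']; exact (hx' g h hg).symm⟩
  obtain ⟨K, O, V, j, c, hZ, hck, hQ, hRk⟩ := hB T R' hR'
  have hRk' : ∀ k, ∃ (hg : R (c k ≫ j k)) (i : ι) (a : (Fi i).obj (op (V k))),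
      (m i).app (op (V k)) a = x (c k ≫ j k) hg := fun k => (hR'def _).1 (hRk k)
  choose hgk ik ak hak using hRk'
  have hz : ∀ k, ∃ z : (Fi (ik k)).obj (op (O k)), (Fi (ik k)).map (c k).op z = ak k := by
    intro k
    have hsh := (Presieve.isSheafFor_iff_generate _).2 (ha (ik k) _ (hck k))
    rw [Presieve.isSheafFor_arrows_iff] at hsh
    obtain ⟨z, hz, -⟩ := hsh (fun _ => ak k) (by
      intro _ _ W gi gj hgij
      change gi ≫ c k = gj ≫ c k at hgij
      change (Fi (ik k)).map gi.op (ak k) = (Fi (ik k)).map gj.op (ak k)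
      apply hinj
      rw [hnat, hnat, hak, ← hx' _ gi (hgk k), ← hx' _ gj (hgk k)]
      exact hxeq _ _ _ _ (by rw [← Category.assoc, hgij, Category.assoc]))
    exact ⟨z, hz ()⟩
  choose z hz using hz
  have hw : ∀ k, F.map (c k).op ((m (ik k)).app (op (O k)) (z k)) = x (c k ≫ j k) (hgk k) := by
    intro k
    rw [← hnat, hz, hak]
  have hshz := (Presieve.isSheafFor_iff_generate _).2 (hFz _ hZ)
  rw [Presieve.isSheafFor_arrows_iff] at hshz
  obtain ⟨t, ht0, -⟩ := hshz (fun k => (m (ik k)).app (op (O k)) (z k)) (by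
    intro k l W p q hpq
    change F.map p.op ((m (ik k)).app (op (O k)) (z k)) = F.map q.op ((m (ik l)).app (op (O l)) (z l))
    refine hsep W _ _ _ (Jf.intersection_covering (Jf.pullback_stable p (hck k))
      (Jf.pullback_stable q (hck l))) ?_
    rintro W' h ⟨⟨Y1, h1, u1, hu1, e1⟩, ⟨Y2, h2, u2, hu2, e2⟩⟩
    obtain ⟨⟨⟩⟩ := hu1
    obtain ⟨⟨⟩⟩ := hu2
    change h1 ≫ c k = h ≫ p at e1
    change h2 ≫ c l = h ≫ q at e2
    rw [← hres, ← hres, ← e1, ← e2, hres h1, hres h2, hw, hw, ← hx', ← hx']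
    refine hxeq _ _ _ _ ?_
    rw [← Category.assoc h1, e1, ← Category.assoc h2, e2, Category.assoc, Category.assoc, hpq])
  have ht : ∀ k, F.map (j k).op t = (m (ik k)).app (op (O k)) (z k) := ht0
  have hamal : ∀ ⦃Y : C⦄ (g : Y ⟶ T) (hg : R g), F.map g.op t = x g hg := by
    intro Y g hg
    refine hsep Y _ _ _ (Jf.pullback_stable g hQ) ?_
    rintro W h ⟨Y', h', u, hu, e⟩
    obtain ⟨k⟩ := hu
    change h' ≫ c k ≫ j k = h ≫ g at e
    rw [← hres, ← e, hres h', hres (c k), ht, hw, ← hx', ← hx']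
    exact hxeq _ _ _ _ e
  refine ⟨t, hamal, ?_⟩
  intro t' ht'
  exact hsep T _ _ R hR (fun T' g hg => by rw [ht' g hg, hamal g hg])

variable {S : Scheme.{u}}

/-- A jointly surjective family of open immersions generates a covering sieve of the Zariski topology over `S`. -/
theorem generate_ofArrows_mem_Jz_of_open_cover {κ : Type w} {X : Over S} (Xj : κ → Over S) (s : ∀ j, Xj j ⟶ X)
    (hopen : ∀ j, IsOpenImmersion (s j).left) (hsurj : ∀ x : X.left, ∃ j, x ∈ Set.range (s j).left) :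
    Sieve.generate (Presieve.ofArrows Xj s) ∈ QuotSh.J Scheme.zariskiPrecoverage S X := by
  rw [GrothendieckTopology.mem_over_iff]
  have hmem : Presieve.ofArrows (fun j => (Xj j).left) (fun j => (s j).left) ∈
      Scheme.zariskiPrecoverage X.left := by
    rw [Scheme.ofArrows_mem_precoverage_iff]
    exact ⟨hsurj, hopen⟩
  refine GrothendieckTopology.superset_covering _ ?_ (Precoverage.generate_mem_toGrothendieck hmem)
  rw [Sieve.generate_le_iff]
  rintro _ _ ⟨j⟩
  rw [Sieve.overEquiv_iff]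
  refine ⟨Xj j, Over.homMk (𝟙 _) (by simp), s j, ⟨j⟩, ?_⟩
  ext1
  simp

/-- Every fppf covering sieve of `T` contains a family "Zariski open cover followed by single fppf covers". -/
theorem exists_zariski_fppf_factorization {T : Over S} (R : Sieve T) (hR : R ∈ J S T) :
    ∃ (K : Type u) (O V : K → Over S) (j : ∀ k, O k ⟶ T) (c : ∀ k, V k ⟶ O k),
      Sieve.generate (Presieve.ofArrows O j) ∈ QuotSh.J Scheme.zariskiPrecoverage S T ∧
      (∀ k, Sieve.generate (Presieve.ofArrows (fun _ : Unit => V k) (fun _ => c k)) ∈ J S (O k)) ∧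
      Sieve.generate (Presieve.ofArrows V (fun k => c k ≫ j k)) ∈ J S T ∧
      ∀ k, R (c k ≫ j k) := by
  rw [J_eq, GrothendieckTopology.mem_over_iff] at hR
  obtain ⟨𝒰, hle⟩ := (Scheme.mem_grothendieckTopology_iff
    (P := @Flat ⊓ @LocallyOfFinitePresentation)).1 hR
  have hfl : ∀ k, Flat (𝒰.f k) := fun k => (𝒰.map_prop k).1
  have hlfp : ∀ k, LocallyOfFinitePresentation (𝒰.f k) := fun k => (𝒰.map_prop k).2
  obtain ⟨Oo, hOo⟩ : ∃ Oo : 𝒰.I₀ → T.left.Opens, ∀ k, ((Oo k : T.left.Opens) : Set T.left) = Set.range (𝒰.f k) :=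
    ⟨fun k => ⟨Set.range (𝒰.f k), (𝒰.f k).isOpenMap.isOpen_range⟩, fun k => rfl⟩
  have hsub : ∀ k, Set.range (𝒰.f k) ⊆ Set.range (Oo k).ι := fun k => by
    rw [Scheme.Opens.range_ι, hOo]
  obtain ⟨c₀, hc₀⟩ : ∃ c₀ : ∀ k, 𝒰.X k ⟶ (Oo k).toScheme, ∀ k, c₀ k ≫ (Oo k).ι = 𝒰.f k :=
    ⟨fun k => IsOpenImmersion.lift (Oo k).ι (𝒰.f k) (hsub k), fun k => IsOpenImmersion.lift_fac _ _ _⟩
  have hcw : ∀ k, c₀ k ≫ (overOpen T (Oo k)).hom = (Over.mk (𝒰.f k ≫ T.hom)).hom := fun k => by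
    change c₀ k ≫ (Oo k).ι ≫ T.hom = 𝒰.f k ≫ T.hom
    rw [← Category.assoc, hc₀]
  obtain ⟨cc, hcc⟩ : ∃ cc : ∀ k, Over.mk (𝒰.f k ≫ T.hom) ⟶ overOpen T (Oo k), ∀ k, (cc k).left = c₀ k :=
    ⟨fun k => Over.homMk (c₀ k) (hcw k), fun k => rfl⟩
  have hcι : ∀ k, cc k ≫ overOpenι T (Oo k) = Over.homMk (𝒰.f k) := fun k => by
    ext1
    simp [hcc, hc₀]
  have hflc : ∀ k, Flat (c₀ k) := fun k =>
    MorphismProperty.of_postcomp (W := @Flat) (W' := @IsOpenImmersion) (c₀ k) (Oo k).ι inferInstance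
      (by rw [hc₀]; exact hfl k)
  have hlfpc : ∀ k, LocallyOfFinitePresentation (c₀ k) := fun k =>
    MorphismProperty.of_postcomp (W := @LocallyOfFinitePresentation) (W' := @IsOpenImmersion) (c₀ k) (Oo k).ι
      inferInstance (by rw [hc₀]; exact hlfp k)
  have hsurjc : ∀ k, Surjective (c₀ k) := fun k => by
    refine ⟨fun o => ?_⟩
    have ho : (Oo k).ι o ∈ Set.range (𝒰.f k) := by
      rw [← hOo k]
      exact o.2
    obtain ⟨v, hv⟩ := ho
    refine ⟨v, (Oo k).ι.isOpenEmbedding.injective ?_⟩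
    rw [← hv, ← Scheme.Hom.comp_apply, hc₀]
  have hcov : ∀ x : T.left, ∃ k, x ∈ Set.range (𝒰.f k) := fun x => by
    obtain ⟨i, y, hy⟩ := 𝒰.exists_eq x
    exact ⟨i, y, hy⟩
  refine ⟨𝒰.I₀, fun k => overOpen T (Oo k), fun k => Over.mk (𝒰.f k ≫ T.hom), fun k => overOpenι T (Oo k),
    cc, ?_, ?_, ?_, ?_⟩
  · refine generate_ofArrows_mem_Jz_of_open_cover _ _ (fun k => ?_) (fun x => ?_)
    · change IsOpenImmersion (Oo k).ι
      infer_instance
    · obtain ⟨k, hk⟩ := hcov x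
      refine ⟨k, ?_⟩
      change x ∈ Set.range (Oo k).ι
      rw [Scheme.Opens.range_ι, hOo]
      exact hk
  · intro k
    have i1 : Flat (cc k).left := by rw [hcc]; exact hflc k
    have i2 : LocallyOfFinitePresentation (cc k).left := by rw [hcc]; exact hlfpc k
    have i3 : Surjective (cc k).left := by rw [hcc]; exact hsurjc k
    refine sieve_mem_J_of_fppf (cc k) _ ?_
    exact ⟨_, 𝟙 _, _, Presieve.ofArrows.mk (), Category.id_comp _⟩
  · rw [J_eq, GrothendieckTopology.mem_over_iff]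
    have hmem : Presieve.ofArrows 𝒰.X 𝒰.f ∈ Scheme.fppfPrecoverage T.left := by
      rw [Scheme.fppfPrecoverage, Scheme.ofArrows_mem_precoverage_iff]
      exact ⟨hcov, fun k => 𝒰.map_prop k⟩
    refine GrothendieckTopology.superset_covering _ ?_ (Precoverage.generate_mem_toGrothendieck hmem)
    rw [Sieve.generate_le_iff]
    rintro _ _ ⟨k⟩
    rw [Sieve.overEquiv_iff, ← hcι k]
    exact Sieve.le_generate _ _ _ (Presieve.ofArrows.mk k)
  · intro k
    have h1 := hle _ _ (Presieve.ofArrows.mk k)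
    rw [Sieve.overEquiv_iff] at h1
    rw [hcι k]
    exact h1

/-- Membership in a subfunctor whose inclusion is representable by algebraic spaces is fppf-local. -/
theorem mem_range_of_locally {F Fi : PSp S} (m : Fi ⟶ F) [Mono m] (hb : RepBySp m)
    (T : Over S) (x : F.obj (op T)) (R : Sieve T) (hR : R ∈ J S T)
    (hx : ∀ ⦃T' : Over S⦄ (g : T' ⟶ T), R g → F.map g.op x ∈ Set.range (m.app (op T'))) :
    x ∈ Set.range (m.app (op T)) := by
  obtain ⟨ξ, hξ⟩ : ∃ ξ : (pyon S).obj T ⟶ F, ξ = uliftYonedaEquiv.{u+1}.symm x := ⟨_, rfl⟩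
  have hξapp : ∀ (Y : Over S) (f : Y ⟶ T), ξ.app (op Y) (ULift.up f) = F.map f.op x := by
    intro Y f
    subst hξ
    rfl
  have sq := IsPullback.of_hasPullback m ξ
  obtain ⟨hsh, -⟩ := hb ξ _ _ sq
  have hPR : Presieve.IsSheafFor (pullback m ξ) (R : Presieve T) :=
    ((isSheaf_iff_isSheaf_of_type _ _).1 hsh) R hR
  have hTR : Presieve.IsSheafFor ((pyon S).obj T) (R : Presieve T) :=
    ((isSheaf_iff_isSheaf_of_type _ _).1 ((yon S).obj T).property) R hR
  have hsinj : ∀ Y, Function.Injective ((pullback.snd m ξ).app Y) := fun Y =>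
    (mono_iff_injective _).1 ((NatTrans.mono_iff_mono_app (pullback.snd m ξ)).1 inferInstance Y)
  have hex : ∀ ⦃Y : Over S⦄ (f : Y ⟶ T) (hf : R f),
      ∃ k : (pullback m ξ).obj (op Y), (pullback.snd m ξ).app (op Y) k = ULift.up f := by
    intro Y f hf
    obtain ⟨a, ha⟩ := hx f hf
    obtain ⟨k, -, hk⟩ := Types.exists_of_isPullback (isPullback_eval sq (op Y)) a (ULift.up f)
      (by rw [ha, hξapp])
    exact ⟨k, hk⟩
  let h : Presieve.FamilyOfElements (pullback m ξ) (R : Presieve T) := fun Y f hf => (hex f hf).choose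
  have hh : ∀ ⦃Y : Over S⦄ (f : Y ⟶ T) (hf : R f),
      (pullback.snd m ξ).app (op Y) (h f hf) = ULift.up f := fun Y f hf => (hex f hf).choose_spec
  have hcomp : h.Compatible := by
    intro Y₁ Y₂ Z g₁ g₂ f₁ f₂ hf₁ hf₂ comm
    apply hsinj
    rw [NatTrans.naturality_apply, NatTrans.naturality_apply, hh f₁ hf₁, hh f₂ hf₂]
    change ULift.up (g₁ ≫ f₁) = ULift.up (g₂ ≫ f₂)
    rw [comm]
  have hsp : (pullback.snd m ξ).app (op T) (hPR.amalgamate h hcomp) = ULift.up (𝟙 T) := by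
    refine hTR.isSeparatedFor.ext ?_
    intro Y f hf
    rw [← NatTrans.naturality_apply, hPR.valid_glue hcomp f hf, hh f hf]
    change ULift.up f = ULift.up (f ≫ 𝟙 T)
    rw [Category.comp_id]
  refine ⟨(pullback.fst m ξ).app (op T) (hPR.amalgamate h hcomp), ?_⟩
  have h1 : (pullback.fst m ξ ≫ m).app (op T) (hPR.amalgamate h hcomp) =
      (pullback.snd m ξ ≫ ξ).app (op T) (hPR.amalgamate h hcomp) := by
    rw [pullback.condition]
  rw [FunctorToTypes.comp, FunctorToTypes.comp, hsp, hξapp] at h1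
  rw [h1]
  simp

end Groth.Agent.Lib.Helper16.ZarFppf
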