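import Groth.Agent.Lib.Helper16.DecentPt
import Groth.Agent.Lib.Helper16.SchDense
import Groth.Agent.Lib.Helper16.FiniteFibres
import Groth.Agent.Lib.Helper15.MonoInj
import Groth.Agent.Lib.Helper15.OpenSubspace
import Groth.Agent.Lib.Helper16.FibreProduct
import Groth.Agent.Lib.Helper16.Points

/-!
# Helper library (helper16): decency is Zariski local
-/

set_option autoImplicit false
universe u
open CategoryTheory CategoryTheory.Limits AlgebraicGeometry Opposite Topology TopologicalSpace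

namespace Groth.Agent.Lib.Helper16

open AlgSp Groth.Agent.Lib.Helper15

variable {S : Scheme.{u}}

/-- The open of a chart cut out by an open subspace consists of the points mapping into the open subspace. -/
theorem mem_opens_iff_of_isPullback {G F : Sp S} (j : G ⟶ F) {V : Over S} (φ : (yon S).obj V ⟶ F)
    (W : V.left.Opens) (fst : (yon S).obj (overOpen V W) ⟶ G)
    (sq : IsPullback fst ((yon S).map (overOpenι V W)) j φ) (v : ↥V.left) :
    v ∈ W ↔ Points.ofPt φ v ∈ Set.range (Points.map j) := by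
  constructor
  · intro hv
    refine ⟨Points.ofPt fst (⟨v, hv⟩ : ↥W), ?_⟩
    rw [Points.map_ofPt, sq.w, ofPt_yon_map_comp]
    rfl
  · rintro ⟨x, hx⟩
    obtain ⟨v', -, hv'⟩ := exists_point_of_isPullback_yon sq x v hx
    rw [← hv']
    exact v'.2

/-- **Decency is Zariski local.** -/
theorem isDecent_of_zarCover {X : Sp S} (hX : IsAlgSpace X) {ι : Type u} (Xi : ι → Sp S)
    (j : ∀ i, Xi i ⟶ X) (hj : IsZarCover Xi j) (hd : ∀ i, IsDecent (Xi i)) : IsDecent X := by
  obtain ⟨hjo, hjs⟩ := hj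
  have hjm : ∀ i, Mono (j i) := fun i => mono_of_repWith_isOpenImmersion _ (hjo i)
  intro x
  obtain ⟨i, xi, hxi⟩ := hjs x
  obtain ⟨pi, hpi, hpim, hpiq⟩ := hd i xi
  have hm : Mono (pi.map (j i)).toHom := by
    rw [FieldPt.toHom_map]
    exact @mono_comp _ _ _ _ _ _ hpim _ (hjm i)
  have hpx : Points.mk (pi.map (j i)) = x := by rw [← Points.map_mk, hpi, hxi]
  refine ⟨pi.map (j i), hpx, hm, ?_⟩
  obtain ⟨U, φ, hφ, hφs⟩ := hX.atlas
  refine repWith_quasiCompact_of_mono_of_finite_fibres hX _ hm φ hφ hφs ?_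
  rw [hpx]
  intro W hW
  have hloc : ∀ w : ↥U.left, ∃ W' : U.left.Opens, w ∈ W' ∧
      ((Points.ofPt φ ⁻¹' {x}) ∩ (W' : Set ↥U.left)).Finite := by
    intro w
    obtain ⟨i', x', hx'⟩ := hjs (Points.ofPt φ w)
    obtain ⟨V, fst, sq⟩ := SchImg.exists_opens_isPullback (j i') (hjo i') φ
    have hwV : w ∈ V := (mem_opens_iff_of_isPullback (j i') φ V fst sq w).2 ⟨x', hx'⟩
    obtain ⟨W', hW'a, hwW', hW'sub⟩ : ∃ W' : U.left.Opens, IsAffineOpen W' ∧ w ∈ W' ∧
        (W' : Set ↥U.left) ⊆ V := by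
      obtain ⟨_, ⟨W₀, hW₀, rfl⟩, hwW₀, hW₀V⟩ :=
        U.left.isBasis_affineOpens.exists_subset_of_mem_open hwV V.isOpen
      exact ⟨W₀, hW₀, hwW₀, hW₀V⟩
    have hW'V : ∀ t : ↥(overOpen U W').left, (overOpenι U W').left t ∈ V := fun t => hW'sub t.2
    refine ⟨W', hwW', ?_⟩
    obtain ⟨β', hβ'⟩ := exists_lift_overOpen V (overOpenι U W') hW'V
    obtain ⟨a', ha'⟩ : ∃ a' : (yon S).obj (overOpen U W') ⟶ Xi i', a' = (yon S).map β' ≫ fst := ⟨_, rfl⟩
    have haj : a' ≫ j i' = (yon S).map (overOpenι U W') ≫ φ := by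
      rw [ha', Category.assoc, sq.w, ← Category.assoc, ← Functor.map_comp, hβ']
    have ha'e : RepWith @Etale a' :=
      repWith_of_comp_mono @Etale a' (j i') (by rw [haj]; exact repWith_etale_restrict φ hφ W')
    by_cases hxr : x ∈ Set.range (Points.map (j i'))
    · obtain ⟨x'', hx''⟩ := hxr
      obtain ⟨p', hp', -, hp'q⟩ := hd i' x''
      have hc : CompactSpace ↥(overOpen U W').left := isCompact_iff_compactSpace.mp hW'a.isCompact
      have hfin := finite_fibre_of_quasiCompact_fieldPt p' hp'q a' ha'e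
      refine (hfin.image (fun v => W'.ι v)).subset ?_
      rintro w' ⟨hw'1, hw'2⟩
      refine ⟨(⟨w', hw'2⟩ : ↥W'), ?_, rfl⟩
      show Points.ofPt a' _ = Points.mk p'
      apply points_map_injective_of_mono (j i')
      rw [Points.map_ofPt, haj, ofPt_yon_map_comp, hp', hx'']
      exact hw'1
    · have hempty : (Points.ofPt φ ⁻¹' {x}) ∩ (W' : Set ↥U.left) = ∅ := by
        rw [Set.eq_empty_iff_forall_notMem]
        rintro w' ⟨hw'1, hw'2⟩
        apply hxr
        have hw'V : w' ∈ V := hW'V (⟨w', hw'2⟩ : ↥W')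
        have := (mem_opens_iff_of_isPullback (j i') φ V fst sq w').1 hw'V
        rw [hw'1] at this
        exact this
      rw [hempty]
      exact Set.finite_empty
  have hWc : IsCompact (W : Set ↥U.left) := hW.isCompact
  choose W' hwW' hfinW' using hloc
  obtain ⟨T, hT⟩ := hWc.elim_finite_subcover (fun w => (W' w : Set ↥U.left)) (fun w => (W' w).isOpen)
    (fun w _ => Set.mem_iUnion.2 ⟨w, hwW' w⟩)
  refine ((T.finite_toSet.biUnion fun w _ => hfinW' w)).subset ?_
  rintro w ⟨hw1, hw2⟩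
  have := hT hw2
  simp only [Set.mem_iUnion] at this
  obtain ⟨w₀, hw₀T, hw₀⟩ := this
  exact Set.mem_biUnion hw₀T ⟨hw1, hw₀⟩

/-- A morphism of algebraic spaces whose base changes to affine schemes are decent is decent. -/
theorem isDecentMor_of_affine_base {X Y : Sp S} (hX : IsAlgSpace X) (hY : IsAlgSpace Y) (f : X ⟶ Y)
    (h : ∀ (Z : Over S) (g : (yon S).obj Z ⟶ Y) (P : Sp S) (fst : P ⟶ X) (snd : P ⟶ (yon S).obj Z),
      IsAffine Z.left → IsPullback fst snd f g → IsDecent P) : IsDecentMor f := by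
  intro T F' g fst snd sq
  have hF' : IsAlgSpace F' := isAlgSpace_of_isPullback hX hY.diag (IsAlgSpace.yon_obj T) sq
  let ι : Type u := T.left.affineOpens
  let Fi : ι → Sp S := fun O => pullback snd ((yon S).map (overOpenι T O.1))
  let j : ∀ O : ι, Fi O ⟶ F' := fun O => pullback.fst snd ((yon S).map (overOpenι T O.1))
  refine isDecent_of_zarCover hF' Fi j ⟨fun O => ?_, fun x => ?_⟩ (fun O => ?_)
  · have hιo : RepWith @IsOpenImmersion ((yon S).map (overOpenι T O.1)) :=
      (repWith_yon_map_iff _ _).2 (by change IsOpenImmersion O.1.ι; infer_instance)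
    exact (RepWith (S := S) @IsOpenImmersion).of_isPullback
      (IsPullback.of_hasPullback snd ((yon S).map (overOpenι T O.1))).flip hιo
  · obtain ⟨_, ⟨O, hO, rfl⟩, htO, -⟩ := T.left.isBasis_affineOpens.exists_subset_of_mem_open
      (Set.mem_univ (Points.toScheme T (Points.map snd x))) isOpen_univ
    refine ⟨⟨O, hO⟩, ?_⟩
    obtain ⟨z, hz, -⟩ := exists_point_of_isPullback
      (IsPullback.of_hasPullback snd ((yon S).map (overOpenι T O))) x
      (Points.ofScheme (overOpen T O) (⟨_, htO⟩ : ↥O)) (by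
        rw [map_yon_map_ofScheme]
        exact (Points.ofScheme_toScheme T _).symm)
    exact ⟨z, hz⟩
  · have haff : IsAffine (overOpen T O.1).left := O.2
    refine h (overOpen T O.1) ((yon S).map (overOpenι T O.1) ≫ g) (Fi O) (j O ≫ fst)
      (pullback.snd snd ((yon S).map (overOpenι T O.1))) haff ?_
    exact (IsPullback.of_hasPullback snd ((yon S).map (overOpenι T O.1))).paste_horiz sq |>.flip |>.flip

end Groth.Agent.Lib.Helper16
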