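import Groth.Agent.Lib.Helper16.ZmtSp1

/-!
# Helper library (helper16): separated locally quasi-finite morphisms of algebraic spaces (part 2: descent)
-/

set_option autoImplicit false
universe u
open CategoryTheory CategoryTheory.Limits AlgebraicGeometry Opposite Topology

namespace Groth.Agent.Lib.Helper16.ZmtSp

open AlgSp Groth.Agent.Lib.Helper15 Groth.Agent.Lib.Helper16 Groth.Agent.Lib.Helper16.SchLocus
  Groth.Agent.Lib.Helper16.SchImg Groth.Agent.Lib.Helper16.GenFinSp Groth.Agent.Lib.Helper16.Strata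

variable {S : Scheme.{u}}

/-- Descent of quasi-affineness from an etale chart to its open image. -/
theorem isQuasiAffineMor_over_range {X Y : Sp S} (hX : IsAlgSpace X) (hY : IsAlgSpace Y) (f : X ⟶ Y) {V₁ : Over S}
    [IsAffine V₁.left] (b₁ : (yon S).obj V₁ ⟶ Y) (hb₁ : RepWith @Etale b₁) {M₁ : Over S} (m₁ : M₁ ⟶ V₁)
    (a₁ : (yon S).obj M₁ ⟶ X) (sq₁ : IsPullback a₁ ((yon S).map m₁) f b₁) (hM : M₁.left.IsQuasiAffine) :
    IsQuasiAffineMor (pullback.fst (openSubι Y (Set.range (Points.ofPt b₁))) f) := by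
  obtain ⟨W, hWdef⟩ : ∃ W : Set (Points Y), W = Set.range (Points.ofPt b₁) := ⟨_, rfl⟩
  rw [← hWdef]
  have hW : IsOpen W := by rw [hWdef]; exact (isOpenMap_ofPt_of_etale _ hb₁).isOpen_range
  have hWmem : ∀ z, z ∈ W ↔ z ∈ Set.range (Points.ofPt b₁) := fun z => by rw [hWdef]
  obtain ⟨b₂', hb₂'⟩ := (exists_factor_openSub_iff W b₁).2 (fun t => by rw [hWmem]; exact ⟨t, rfl⟩)
  have hb₂'e : RepWith @Etale b₂' := repWith_of_comp_mono _ b₂' (openSubι Y W) (by rw [hb₂']; exact hb₁)
  have hb₂'s : RepWith @Surjective b₂' := by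
    rw [repWith_surjective_iff b₂' hb₂'e.rep]
    intro x'
    have hx : Points.map (openSubι Y W) x' ∈ W := (range_map_openSubι W).subset ⟨x', rfl⟩
    obtain ⟨t, ht⟩ := (hWmem _).1 hx
    refine ⟨Points.ofScheme _ t, ?_⟩
    apply points_map_injective_of_mono (openSubι Y W)
    rw [← Points.ofPt_eq_map_ofScheme, Points.map_ofPt, hb₂']
    exact ht
  have hY' : IsAlgSpace (openSub Y W) := isAlgSpace_openSub hY W hW
  have sqX' := IsPullback.of_hasPullback (openSubι Y W) f
  have hX' : IsAlgSpace (pullback (openSubι Y W) f) := isAlgSpace_of_isPullback hY' hY.diag hX sqX'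
  have hw : ((yon S).map m₁ ≫ b₂') ≫ openSubι Y W = a₁ ≫ f := by
    rw [Category.assoc, hb₂']
    exact sq₁.w.symm
  have sqQ : IsPullback (pullback.lift _ _ hw) ((yon S).map m₁) (pullback.fst (openSubι Y W) f) b₂' := by
    refine IsPullback.of_right ?_ (pullback.lift_fst _ _ _) sqX'.flip
    rw [pullback.lift_snd, hb₂']
    exact sq₁
  have hp : IsQuasiAffineMor ((yon S).map m₁) := isQuasiAffineMor_yon_map m₁ hM
  exact isQuasiAffineMor_of_fpqcRefines hY' (fun _ : PUnit.{u + 1} => (yon S).obj V₁) (fun _ => b₂')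
    (fpqcRefines_chart hY' b₂' hb₂'e hb₂'s) hX' (pullback.fst (openSubι Y W) f)
    (fun _ => (yon S).obj M₁) (fun _ => (yon S).map m₁)
    (fun _ => pullback.lift _ _ hw) (fun _ => sqQ) (fun _ => hp)

/-- **Descent step** Let `X` be separated and locally quasi-finite over an affine scheme `T`, let `T' ⟶ T` be etale
with `T'` affine, and let `W₀` be an open of `X` whose inverse image in `T' ×_T X` is a quasi-compact scheme. Then the
points of `W₀` in the image of `T' ×_T X` lie in the schematic locus. -/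
theorem mem_schLocus_of_etale_cover {T T' : Over S} [IsAffine T.left] [IsAffine T'.left] (e : T' ⟶ T)
    (he : Etale e.left) {X P : Sp S} (hX : IsAlgSpace X) (f : X ⟶ (yon S).obj T) (hsep : IsSeparatedMor f)
    (hqf : LocP (@LocallyQuasiFinite ⊓ @LocallyOfFiniteType) f) (p1 : P ⟶ (yon S).obj T') (p2 : P ⟶ X)
    (sq : IsPullback p2 p1 f ((yon S).map e)) (W₀ : Set (Points X)) (hW₀ : IsOpen W₀)
    (hsch : ∀ z : Points P, Points.map p2 z ∈ W₀ → z ∈ schLocus P) {V'' : Over S} [CompactSpace ↥V''.left]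
    (k'' : (yon S).obj V'' ⟶ P)
    (hk'' : ∀ z : Points P, Points.map p2 z ∈ W₀ ↔ z ∈ Set.range (Points.ofPt k''))
    (z : Points P) (hz : Points.map p2 z ∈ W₀) : Points.map p2 z ∈ schLocus X := by
  have hT : IsAlgSpace ((yon S).obj T) := IsAlgSpace.yon_obj T
  have hT' : IsAlgSpace ((yon S).obj T') := IsAlgSpace.yon_obj T'
  have hU : IsAlgSpace (openSub X W₀) := isAlgSpace_openSub hX W₀ hW₀
  have hιU : RepWith @IsOpenImmersion (openSubι X W₀) := repWith_isOpenImmersion_openSubι W₀ hW₀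
  have hιUe : RepWith @Etale (openSubι X W₀) := repWith_mono isOpenImmersion_le_etale _ hιU
  -- the restriction of `f`
  obtain ⟨fU, hfU⟩ : ∃ fU : openSub X W₀ ⟶ (yon S).obj T, fU = openSubι X W₀ ≫ f := ⟨_, rfl⟩
  have hfUqf : LocP (@LocallyQuasiFinite ⊓ @LocallyOfFiniteType) fU := by
    intro A B a b h ha hb hcomm
    exact hqf (a ≫ openSubι X W₀) b h ((RepWith @Etale).comp_mem _ _ ha hιUe) hb
      (by rw [Category.assoc, ← hfU]; exact hcomm)
  have hfUsep : IsSeparatedMor fU := by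
    rw [hfU]
    exact isSeparatedMor_comp _ _ (isSeparatedMor_of_mono _) hsep
  -- its base change
  obtain ⟨U', uF, uT, sqU⟩ : ∃ (U' : Sp S) (uF : U' ⟶ openSub X W₀) (uT : U' ⟶ (yon S).obj T'),
      IsPullback uF uT fU ((yon S).map e) := ⟨_, _, _, IsPullback.of_hasPullback _ _⟩
  have hU' : IsAlgSpace U' := isAlgSpace_of_isPullback hU hT.diag hT' sqU
  have hw : (uF ≫ openSubι X W₀) ≫ f = uT ≫ (yon S).map e := by
    rw [Category.assoc, ← hfU]
    exact sqU.w
  obtain ⟨k, hk2, hk1⟩ : ∃ k : U' ⟶ P, k ≫ p2 = uF ≫ openSubι X W₀ ∧ k ≫ p1 = uT :=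
    ⟨sq.lift _ _ hw, sq.lift_fst _ _ _, sq.lift_snd _ _ _⟩
  have sqk : IsPullback k uF p2 (openSubι X W₀) := by
    refine IsPullback.of_right ?_ hk2 sq.flip
    rw [hk1, ← hfU]
    exact sqU.flip
  have hko : RepWith @IsOpenImmersion k := (RepWith (S := S) @IsOpenImmersion).of_isPullback sqk.flip hιU
  have hkm : Mono k := mono_of_repWith_isOpenImmersion k hko
  have hkmem : ∀ z' : Points U', Points.map p2 (Points.map k z') ∈ W₀ := by
    intro z'
    rw [← Points.map_comp, hk2, Points.map_comp]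
    exact (range_map_openSubι W₀).subset ⟨_, rfl⟩
  have hall : ∀ z' : Points U', z' ∈ schLocus U' := fun z' =>
    mem_schLocus_of_map_mem k hko (hsch _ (hkmem z'))
  obtain ⟨M, ⟨ε⟩⟩ := exists_iso_yon_of_isRepresentable (isRepresentable_of_forall_mem_schLocus hU' hall)
  obtain ⟨m, hm⟩ := (yon S).map_surjective (ε.hom ≫ uT)
  have hεe : RepWith @Etale ε.hom := by
    have : (RepWith (S := S) @Etale).RespectsIso := MorphismProperty.IsStableUnderBaseChange.respectsIso
    exact (RepWith (S := S) @Etale).of_isIso ε.hom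
  have hmqf : (@LocallyQuasiFinite ⊓ @LocallyOfFiniteType : MorphismProperty Scheme.{u}) m.left := by
    have h1 : LocP (@LocallyQuasiFinite ⊓ @LocallyOfFiniteType) uT :=
      locP_of_isPullback etLocalST_locallyQuasiFinite hU hT sqU hfUqf
    exact h1 ε.hom (𝟙 _) m hεe (repWith_id _ T') (by rw [Category.comp_id, hm])
  have hmsep : IsSeparated m.left := by
    rw [← isSeparatedMor_yon_map_iff, hm]
    exact isSeparatedMor_comp _ _ (isSeparatedMor_of_mono _) (isSeparatedMor_of_isPullback sqU hfUsep)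
  -- compactness
  have hMc : CompactSpace ↥M.left := by
    have h1 : ∀ w, Points.ofPt (k'' ≫ p2) w ∈ W₀ := fun w => by
      rw [← Points.map_ofPt]
      exact (hk'' _).2 ⟨w, rfl⟩
    obtain ⟨k₁, hk₁⟩ := (exists_factor_openSub_iff W₀ (k'' ≫ p2)).2 h1
    have hw₂ : k₁ ≫ fU = (k'' ≫ p1) ≫ (yon S).map e := by
      rw [hfU, ← Category.assoc, hk₁, Category.assoc, Category.assoc, sq.w]
    obtain ⟨k₀, hk₀F, hk₀T⟩ : ∃ k₀ : (yon S).obj V'' ⟶ U', k₀ ≫ uF = k₁ ∧ k₀ ≫ uT = k'' ≫ p1 :=
      ⟨sqU.lift _ _ hw₂, sqU.lift_fst _ _ _, sqU.lift_snd _ _ _⟩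
    have hk₀k : k₀ ≫ k = k'' := by
      apply sq.hom_ext
      · rw [Category.assoc, hk2, ← Category.assoc, hk₀F, hk₁]
      · rw [Category.assoc, hk1, hk₀T]
    obtain ⟨c, hc⟩ := (yon S).map_surjective (k₀ ≫ ε.inv)
    have hcs : Function.Surjective c.left := by
      intro y
      obtain ⟨w, hw⟩ := (hk'' _).1 (hkmem (Points.map ε.hom (Points.ofScheme M y)))
      refine ⟨w, ?_⟩
      apply ofScheme_injective M
      have h2 : Points.ofPt k₀ w = Points.map ε.hom (Points.ofScheme M y) := by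
        apply points_map_injective_of_mono k
        rw [Points.map_ofPt, hk₀k, hw]
      rw [← map_yon_map_ofScheme, hc, ← Points.ofPt_eq_map_ofScheme, ← Points.map_ofPt, h2, ← Points.map_comp,
        ε.hom_inv_id, Points.map_id]
    exact hcs.compactSpace c.left.continuous
  have hlqf : LocallyQuasiFinite m.left := hmqf.1
  have hlft : LocallyOfFiniteType m.left := hmqf.2
  have hMqa : M.left.IsQuasiAffine := isQuasiAffine_of_locallyQuasiFinite m.left
  -- the pullback square for `M`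
  have sqM : IsPullback (ε.hom ≫ uF) ((yon S).map m) fU ((yon S).map e) := by
    have sqIso : IsPullback ε.hom ((yon S).map m) uT (𝟙 _) :=
      IsPullback.of_horiz_isIso ⟨by rw [hm, Category.comp_id]⟩
    have h3 := sqIso.paste_horiz sqU
    rwa [Category.id_comp] at h3
  have hee : RepWith @Etale ((yon S).map e) := (repWith_yon_map_iff _ _).2 he
  have hqa := isQuasiAffineMor_over_range hU hT fU ((yon S).map e) hee m (ε.hom ≫ uF) sqM hMqa
  obtain ⟨WT, hWTdef⟩ : ∃ WT : Set (Points ((yon S).obj T)),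
      WT = Set.range (Points.ofPt ((yon S).map e)) := ⟨_, rfl⟩
  rw [← hWTdef] at hqa
  have hWTo : IsOpen WT := by rw [hWTdef]; exact (isOpenMap_ofPt_of_etale _ hee).isOpen_range
  -- the point
  obtain ⟨xU, hxU⟩ : ∃ xU : Points (openSub X W₀), Points.map (openSubι X W₀) xU = Points.map p2 z := by
    have := hz
    rw [← range_map_openSubι W₀] at this
    exact this
  have htW : Points.map fU xU ∈ WT := by
    rw [hWTdef, hfU, Points.map_comp, hxU, ← Points.map_comp, sq.w, Points.map_comp]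
    refine ⟨Points.toScheme T' (Points.map p1 z), ?_⟩
    rw [Points.ofPt_eq_map_ofScheme, Points.ofScheme_toScheme]
  obtain ⟨t, ht⟩ : ∃ t : ↥T.left, Points.ofScheme T t = Points.map fU xU :=
    ⟨Points.toScheme T _, Points.ofScheme_toScheme T _⟩
  obtain ⟨_, ⟨(Z : T.left.Opens), hZ, rfl⟩, hyZ, hZsub⟩ := T.left.isBasis_affineOpens.exists_subset_of_mem_open
    (show t ∈ (Points.ofScheme T) ⁻¹' WT from by rw [Set.mem_preimage, ht]; exact htW)
    (hWTo.preimage (Points.continuous_ofPt (𝟙 _)))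
  have hZaff : IsAffine (overOpen T Z).left := hZ
  obtain ⟨ζ, hζ⟩ := (exists_factor_openSub_iff WT ((yon S).map (overOpenι T Z))).2 (fun t => by
    rw [Points.ofPt_eq_map_ofScheme, map_yon_map_ofScheme]
    exact hZsub t.2)
  obtain ⟨W₁, i, φ, sqW, hW₁⟩ := hqa hZaff ζ
  have sqX' := IsPullback.of_hasPullback (openSubι ((yon S).obj T) WT) fU
  have sqP := sqW.paste_horiz sqX'.flip
  rw [hζ] at sqP
  have hιZ : RepWith @IsOpenImmersion ((yon S).map (overOpenι T Z)) :=
    (repWith_yon_map_iff _ _).2 (by change IsOpenImmersion Z.ι; infer_instance)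
  have hβ : RepWith @IsOpenImmersion (φ ≫ pullback.snd (openSubι ((yon S).obj T) WT) fU) :=
    (RepWith (S := S) @IsOpenImmersion).of_isPullback sqP.flip hιZ
  obtain ⟨v, hv, -⟩ := exists_point_of_isPullback_yon sqP xU (⟨t, hyZ⟩ : ↥Z) (by
    rw [← ht, Points.ofPt_eq_map_ofScheme, map_yon_map_ofScheme]
    rfl)
  have hxUs : xU ∈ schLocus (openSub X W₀) := ⟨W₁, _, hβ, v, hv⟩
  have := map_mem_schLocus (openSubι X W₀) hιU hxUs
  rwa [hxU] at this

end Groth.Agent.Lib.Helper16.ZmtSp
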