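import Groth.Agent.Lib.Helper16.ZmtSp2

/-!
# Helper library (helper16): separated locally quasi-finite morphisms of algebraic spaces (part 3: the induction)
-/

set_option autoImplicit false
universe u
open CategoryTheory CategoryTheory.Limits AlgebraicGeometry Opposite Topology

namespace Groth.Agent.Lib.Helper16.ZmtSp

open AlgSp Groth.Agent.Lib.Helper15 Groth.Agent.Lib.Helper16 Groth.Agent.Lib.Helper16.SchLocus
  Groth.Agent.Lib.Helper16.SchImg Groth.Agent.Lib.Helper16.GenFinSp Groth.Agent.Lib.Helper16.Strata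

variable {S : Scheme.{u}}

section Tpp

variable {T T' : Over S} (e : T' ⟶ T)

theorem isAffine_overOpen_offDiag [IsAffine T.left] [IsAffine T'.left] [Etale e.left] [IsSeparated e.left] :
    IsAffine (overOpen (ovPullback e e) (offDiag e.left)).left := by
  show IsAffine (offDiag e.left).toScheme
  have hcl : IsClosed (Set.range (offDiag e.left).ι) := by
    rw [Scheme.Opens.range_ι]
    show IsClosed ((Set.range (pullback.diagonal e.left))ᶜ)
    exact (pullback.diagonal e.left).isOpenEmbedding.isOpen_range.isClosed_compl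
  have : IsClosedImmersion (offDiag e.left).ι := .of_isPreimmersion _ hcl
  exact isAffine_of_isAffineHom (offDiag e.left).ι

theorem not_hasDeg_offDiag [Etale e.left] [IsSeparated e.left] (n : ℕ) (hn : ∀ t, ¬ HasDeg e.left t (n + 1))
    (t' : ↥T'.left) :
    ¬ HasDeg (overOpenι (ovPullback e e) (offDiag e.left) ≫ ovPullbackFst e e).left t' n := by
  intro h
  exact hn _ (hasDeg_succ_of_hasDeg_s' e.left _ n h)

theorem exists_diag_over [IsSeparated e.left] :
    ∃ Δ : T' ⟶ ovPullback e e, Δ ≫ ovPullbackFst e e = 𝟙 _ ∧ Δ ≫ ovPullbackSnd e e = 𝟙 _ ∧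
      ∀ x : ↥(ovPullback e e).left, x ∉ offDiag e.left → x ∈ Set.range Δ.left := by
  have sqT := isPullback_ovPullback e e
  refine ⟨sqT.lift (𝟙 _) (𝟙 _) rfl, sqT.lift_fst _ _ _, sqT.lift_snd _ _ _, ?_⟩
  intro x hx
  have hΔ : (sqT.lift (𝟙 _) (𝟙 _) rfl).left = pullback.diagonal e.left := by
    apply pullback.hom_ext
    · have := congrArg (fun k => k.left) (sqT.lift_fst (𝟙 _) (𝟙 _) rfl)
      rw [pullback.diagonal_fst]
      exact this
    · have := congrArg (fun k => k.left) (sqT.lift_snd (𝟙 _) (𝟙 _) rfl)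
      rw [pullback.diagonal_snd]
      exact this
  rw [hΔ]
  by_contra h
  exact hx h

end Tpp

/-- The inductive statement: the schematic locus of a space separated and locally quasi-finite over an affine scheme
contains the image of the schematic locus of its base change along an etale morphism of degree `< n`. -/
def QProp (S : Scheme.{u}) (n : ℕ) : Prop :=
  ∀ {T T' : Over S} (_ : IsAffine T.left) (_ : IsAffine T'.left) (e : T' ⟶ T) (_ : Etale e.left)
    (_ : ∀ t, ¬ HasDeg e.left t n) {X P : Sp S} (_ : IsAlgSpace X) (f : X ⟶ (yon S).obj T)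
    (_ : IsSeparatedMor f) (_ : LocP (@LocallyQuasiFinite ⊓ @LocallyOfFiniteType) f)
    (p1 : P ⟶ (yon S).obj T') (p2 : P ⟶ X) (_ : IsPullback p2 p1 f ((yon S).map e)) (z : Points P),
    z ∈ schLocus P → Points.map p2 z ∈ schLocus X

theorem qProp_zero : QProp S 0 := by
  intro T T' _ _ e _ hn X P _ f _ _ p1 p2 _ z _
  exact absurd (hasDeg_zero e.left (e.left (Points.toScheme T' (Points.map p1 z)))) (hn _)

theorem qProp_step_aux (n : ℕ) (ih : QProp S n) {T T' : Over S} [IsAffine T.left] [IsAffine T'.left] (e : T' ⟶ T)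
    (he : Etale e.left) (hn : ∀ t, ¬ HasDeg e.left t (n + 1)) {X P : Sp S} (hX : IsAlgSpace X)
    (f : X ⟶ (yon S).obj T) (hsep : IsSeparatedMor f)
    (hqf : LocP (@LocallyQuasiFinite ⊓ @LocallyOfFiniteType) f) (p1 : P ⟶ (yon S).obj T') (p2 : P ⟶ X)
    (sq : IsPullback p2 p1 f ((yon S).map e)) {V' : Over S} [IsAffine V'.left] (j : (yon S).obj V' ⟶ P)
    (hj : RepWith @IsOpenImmersion j) (v : ↥V'.left) : Points.map p2 (Points.ofPt j v) ∈ schLocus X := by
  have hT : IsAlgSpace ((yon S).obj T) := IsAlgSpace.yon_obj T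
  have hT' : IsAlgSpace ((yon S).obj T') := IsAlgSpace.yon_obj T'
  have hP : IsAlgSpace P := isAlgSpace_of_isPullback hX hT.diag hT' sq
  have hp1sep : IsSeparatedMor p1 := isSeparatedMor_of_isPullback sq hsep
  have hp1qf : LocP (@LocallyQuasiFinite ⊓ @LocallyOfFiniteType) p1 :=
    locP_of_isPullback etLocalST_locallyQuasiFinite hX hT sq hqf
  have hee : RepWith @Etale ((yon S).map e) := (repWith_yon_map_iff _ _).2 he
  have hp2e : RepWith @Etale p2 := (RepWith (S := S) @Etale).of_isPullback sq.flip hee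
  have hesep : IsSeparated e.left := inferInstance
  -- the double fibre product
  have sqT := isPullback_ovPullback e e
  obtain ⟨Δ, hΔ0, hΔ1, hΔr⟩ := exists_diag_over e
  have hTsaff : IsAffine (overOpen (ovPullback e e) (offDiag e.left)).left := isAffine_overOpen_offDiag e
  have hes : Etale (overOpenι (ovPullback e e) (offDiag e.left) ≫ ovPullbackFst e e).left := by
    show Etale ((offDiag e.left).ι ≫ pullback.fst e.left e.left)
    infer_instance
  have hns := not_hasDeg_offDiag e n hn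
  have hT''aff : IsAffine (ovPullback e e).left := by
    show IsAffine (pullback e.left e.left)
    infer_instance
  -- the triple fibre product
  obtain ⟨P'', r1, r2, sqa⟩ : ∃ (P'' : Sp S) (r1 : P'' ⟶ P) (r2 : P'' ⟶ (yon S).obj (ovPullback e e)),
      IsPullback r1 r2 p1 ((yon S).map (ovPullbackFst e e)) := ⟨_, _, _, IsPullback.of_hasPullback _ _⟩
  obtain ⟨μ, hμ2, hμ1, sqμ, sqPP⟩ := exists_swap sq (sqT.map (yon S)) sqa
  obtain ⟨δ, d1, dμ, sqδ⟩ := exists_diag_section sq sqa μ hμ2 hμ1 ((yon S).map Δ)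
    (by rw [← Functor.map_comp, hΔ0, CategoryTheory.Functor.map_id])
    (by rw [← Functor.map_comp, hΔ1, CategoryTheory.Functor.map_id])
  -- the base change of `V'`
  obtain ⟨π, hπ⟩ := (yon S).map_surjective (j ≫ p1)
  obtain ⟨V'', fstV, sndV, sqV, hV''aff⟩ : ∃ (V'' : Over S) (fstV : V'' ⟶ V') (sndV : V'' ⟶ ovPullback e e),
      IsPullback fstV sndV π (ovPullbackSnd e e) ∧ IsAffine V''.left := by
    refine ⟨ovPullback π (ovPullbackSnd e e), ovPullbackFst _ _, ovPullbackSnd _ _, isPullback_ovPullback _ _, ?_⟩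
    show IsAffine (pullback π.left (ovPullbackSnd e e).left)
    infer_instance
  have hwj : ((yon S).map fstV ≫ j) ≫ p1 = (yon S).map sndV ≫ (yon S).map (ovPullbackSnd e e) := by
    rw [Category.assoc, ← hπ, ← Functor.map_comp, ← Functor.map_comp, sqV.w]
  obtain ⟨j'', hj''μ, hj''r⟩ : ∃ j'' : (yon S).obj V'' ⟶ P'', j'' ≫ μ = (yon S).map fstV ≫ j ∧
      j'' ≫ r2 = (yon S).map sndV := ⟨sqμ.lift _ _ hwj, sqμ.lift_fst _ _ _, sqμ.lift_snd _ _ _⟩
  have sqj'' : IsPullback j'' ((yon S).map fstV) μ j := by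
    refine IsPullback.of_right ?_ hj''μ sqμ.flip
    rw [hj''r, ← hπ]
    exact (sqV.map (yon S)).flip
  have hj'' : RepWith @IsOpenImmersion j'' := (RepWith (S := S) @IsOpenImmersion).of_isPullback sqj''.flip hj
  -- the open `W₀`
  have hje : RepWith @Etale (j ≫ p2) :=
    (RepWith @Etale).comp_mem _ _ (repWith_mono isOpenImmersion_le_etale _ hj) hp2e
  obtain ⟨W₀, hW₀def⟩ : ∃ W₀ : Set (Points X), W₀ = Set.range (Points.ofPt (j ≫ p2)) := ⟨_, rfl⟩
  have hW₀ : IsOpen W₀ := by rw [hW₀def]; exact (isOpenMap_ofPt_of_etale _ hje).isOpen_range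
  have hW₀mem : ∀ x, x ∈ W₀ ↔ x ∈ Set.range (Points.ofPt (j ≫ p2)) := fun x => by rw [hW₀def]
  -- the covering claim
  have hcov : ∀ z : Points P, Points.map p2 z ∈ W₀ →
      z ∈ schLocus P ∧ z ∈ Set.range (Points.ofPt (j'' ≫ r1)) := by
    intro z hz
    obtain ⟨v', hv'⟩ := (hW₀mem _).1 hz
    have h0 : Points.map p2 (Points.ofPt j v') = Points.map p2 z := by rw [Points.map_ofPt]; exact hv'
    obtain ⟨q, hq1, hq2⟩ := exists_point_of_isPullback sqPP (Points.ofPt j v') z h0
    obtain ⟨w, hw, -⟩ := exists_point_of_isPullback_yon sqj'' q v' hq1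
    have hzr : z ∈ Set.range (Points.ofPt (j'' ≫ r1)) := ⟨w, by rw [← Points.map_ofPt, hw, hq2]⟩
    refine ⟨?_, hzr⟩
    have hqs : q ∈ schLocus P'' := ⟨V'', j'', hj'', w, hw⟩
    by_cases hO : Points.toScheme (ovPullback e e) (Points.map r2 q) ∈ offDiag e.left
    · rw [← hq2]
      refine map_mem_schLocus_of_restrict (ovPullbackFst e e) p1 r1 r2 sqa (offDiag e.left) ?_ q hqs hO
      intro Ps o o2 sqs zs hzs
      exact ih (inferInstance : IsAffine T'.left) hTsaff _ hes hns hP p1 hp1sep hp1qf o2 o sqs zs hzs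
    · obtain ⟨t', ht'⟩ := hΔr _ hO
      have h3 : Points.map r2 q = Points.map ((yon S).map Δ) (Points.ofScheme T' t') := by
        rw [map_yon_map_ofScheme, ht', Points.ofScheme_toScheme]
      have h4 := map_eq_of_mem_range_diag d1 dμ sqδ q _ h3
      rw [← hq2, h4, hq1]
      exact ⟨V', j, hj, v', rfl⟩
  have hk'' : ∀ z : Points P, Points.map p2 z ∈ W₀ ↔ z ∈ Set.range (Points.ofPt (j'' ≫ r1)) := by
    intro z
    refine ⟨fun h => (hcov z h).2, ?_⟩
    rintro ⟨w, rfl⟩
    rw [hW₀mem, Points.map_ofPt, Category.assoc, ← hμ2, ← Category.assoc, hj''μ, Category.assoc,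
      ofPt_yon_map_comp]
    exact ⟨_, rfl⟩
  have hcomp : CompactSpace ↥V''.left := inferInstance
  refine mem_schLocus_of_etale_cover e he hX f hsep hqf p1 p2 sq W₀ hW₀ (fun z hz => (hcov z hz).1)
    (j'' ≫ r1) hk'' _ ?_
  rw [hW₀mem, Points.map_ofPt]
  exact ⟨v, rfl⟩

end Groth.Agent.Lib.Helper16.ZmtSp
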