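import Groth.Agent.Lib.Helper16.ZmtSp3
import Groth.Agent.Lib.Helper16.Codim0

/-!
# Helper library (helper16): separated locally quasi-finite morphisms of algebraic spaces (part 4: etale localization
of the schematic locus)
-/

set_option autoImplicit false
universe u
open CategoryTheory CategoryTheory.Limits AlgebraicGeometry Opposite Topology

namespace Groth.Agent.Lib.Helper16.ZmtSp

open AlgSp Groth.Agent.Lib.Helper15 Groth.Agent.Lib.Helper16 Groth.Agent.Lib.Helper16.SchLocus
  Groth.Agent.Lib.Helper16.SchImg Groth.Agent.Lib.Helper16.GenFinSp Groth.Agent.Lib.Helper16.Strata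

variable {S : Scheme.{u}}

theorem qProp_step (n : ℕ) (ih : QProp S n) : QProp S (n + 1) := by
  intro T T' hT hT' e he hn X P hX f hsep hqf p1 p2 sq z hz
  obtain ⟨M₀, m₀, hm₀, t₀, rfl⟩ := hz
  obtain ⟨_, ⟨(A : M₀.left.Opens), hA, rfl⟩, ht₀A, -⟩ :=
    M₀.left.isBasis_affineOpens.exists_subset_of_mem_open (Set.mem_univ t₀) isOpen_univ
  have hV'aff : IsAffine (overOpen M₀ A).left := hA
  have hj : RepWith @IsOpenImmersion ((yon S).map (overOpenι M₀ A) ≫ m₀) :=
    (RepWith @IsOpenImmersion).comp_mem _ _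
      ((repWith_yon_map_iff _ _).2 (by change IsOpenImmersion A.ι; infer_instance)) hm₀
  have := qProp_step_aux n ih e he hn hX f hsep hqf p1 p2 sq _ hj (⟨t₀, ht₀A⟩ : ↥A)
  rwa [ofPt_restrict] at this

theorem qProp_all (n : ℕ) : QProp S n := by
  induction n with
  | zero => exact qProp_zero
  | succ n ih => exact qProp_step n ih

/-- **Etale localization of the schematic locus** Let `X` be separated and locally quasi-finite over an affine scheme
`T` and let `T' ⟶ T` be etale with `T'` affine. Then the image in `X` of the schematic locus of `T' ×_T X` lies in the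
schematic locus of `X`. -/
theorem map_mem_schLocus_of_etale_baseChange {T T' : Over S} [IsAffine T.left] [IsAffine T'.left] (e : T' ⟶ T)
    (he : Etale e.left) {X P : Sp S} (hX : IsAlgSpace X) (f : X ⟶ (yon S).obj T) (hsep : IsSeparatedMor f)
    (hqf : LocP (@LocallyQuasiFinite ⊓ @LocallyOfFiniteType) f) (p1 : P ⟶ (yon S).obj T') (p2 : P ⟶ X)
    (sq : IsPullback p2 p1 f ((yon S).map e)) (z : Points P) (hz : z ∈ schLocus P) :
    Points.map p2 z ∈ schLocus X := by
  have : Etale e.left := he
  have : CompactSpace ↥T'.left := inferInstance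
  obtain ⟨N, hN⟩ := exists_bound_hasDeg_of_compactSpace e.left
  exact qProp_all (N + 1) inferInstance inferInstance e he (fun t h => by have := hN t _ h; omega) hX f hsep hqf
    p1 p2 sq z hz

end Groth.Agent.Lib.Helper16.ZmtSp

namespace Groth.Agent.Lib.Helper16.ZmtSp

open AlgSp Groth.Agent.Lib.Helper15 Groth.Agent.Lib.Helper16 Groth.Agent.Lib.Helper16.SchLocus
  Groth.Agent.Lib.Helper16.SchImg Groth.Agent.Lib.Helper16.GenFinSp Groth.Agent.Lib.Helper16.Strata

variable {S : Scheme.{u}}

/-- The open image of an etale chart from a quasi-compact scheme, if contained in the schematic locus, is a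
quasi-compact open subscheme. -/
theorem exists_qc_open_subscheme {X : Sp S} (hX : IsAlgSpace X) {V : Over S} [CompactSpace ↥V.left]
    (a : (yon S).obj V ⟶ X) (hae : RepWith @Etale a) (hsch : ∀ v, Points.ofPt a v ∈ schLocus X) :
    ∃ (W : Over S) (i : (yon S).obj W ⟶ X), RepWith @IsOpenImmersion i ∧ CompactSpace ↥W.left ∧
      Set.range (Points.map i) = Set.range (Points.ofPt a) := by
  obtain ⟨W₀, hW₀def⟩ : ∃ W₀ : Set (Points X), W₀ = Set.range (Points.ofPt a) := ⟨_, rfl⟩
  rw [← hW₀def]
  have hW₀ : IsOpen W₀ := by rw [hW₀def]; exact (isOpenMap_ofPt_of_etale _ hae).isOpen_range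
  have hW₀mem : ∀ x, x ∈ W₀ ↔ x ∈ Set.range (Points.ofPt a) := fun x => by rw [hW₀def]
  have hU : IsAlgSpace (openSub X W₀) := isAlgSpace_openSub hX W₀ hW₀
  have hιU : RepWith @IsOpenImmersion (openSubι X W₀) := repWith_isOpenImmersion_openSubι W₀ hW₀
  have hιmem : ∀ xU : Points (openSub X W₀), Points.map (openSubι X W₀) xU ∈ W₀ := fun xU =>
    (range_map_openSubι W₀).subset ⟨xU, rfl⟩
  have hall : ∀ xU : Points (openSub X W₀), xU ∈ schLocus (openSub X W₀) := by
    intro xU
    apply mem_schLocus_of_map_mem (openSubι X W₀) hιU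
    obtain ⟨v, hv⟩ := (hW₀mem _).1 (hιmem xU)
    rw [← hv]
    exact hsch v
  obtain ⟨W, ⟨ε⟩⟩ := exists_iso_yon_of_isRepresentable (isRepresentable_of_forall_mem_schLocus hU hall)
  have hεo : RepWith @IsOpenImmersion ε.hom := by
    have : (RepWith (S := S) @IsOpenImmersion).RespectsIso := MorphismProperty.IsStableUnderBaseChange.respectsIso
    exact (RepWith (S := S) @IsOpenImmersion).of_isIso ε.hom
  refine ⟨W, ε.hom ≫ openSubι X W₀, (RepWith @IsOpenImmersion).comp_mem _ _ hεo hιU, ?_, ?_⟩
  · obtain ⟨k₁, hk₁⟩ := (exists_factor_openSub_iff W₀ a).2 (fun v => (hW₀mem _).2 ⟨v, rfl⟩)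
    obtain ⟨c, hc⟩ := (yon S).map_surjective (k₁ ≫ ε.inv)
    have hcs : Function.Surjective c.left := by
      intro y
      obtain ⟨w, hw⟩ := (hW₀mem _).1 (hιmem (Points.map ε.hom (Points.ofScheme W y)))
      refine ⟨w, ?_⟩
      apply ofScheme_injective W
      have h2 : Points.ofPt k₁ w = Points.map ε.hom (Points.ofScheme W y) := by
        apply points_map_injective_of_mono (openSubι X W₀)
        rw [Points.map_ofPt, hk₁, hw]
      rw [← map_yon_map_ofScheme, hc, ← Points.ofPt_eq_map_ofScheme, ← Points.map_ofPt, h2, ← Points.map_comp,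
        ε.hom_inv_id, Points.map_id]
    exact hcs.compactSpace c.left.continuous
  · apply Set.eq_of_subset_of_subset
    · rintro _ ⟨y, rfl⟩
      rw [Points.map_comp]
      exact hιmem _
    · intro x hx
      rw [← range_map_openSubι W₀] at hx
      obtain ⟨xU, rfl⟩ := hx
      refine ⟨Points.map ε.inv xU, ?_⟩
      rw [← Points.map_comp, ← Category.assoc, ε.inv_hom_id, Category.id_comp]

end Groth.Agent.Lib.Helper16.ZmtSp
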